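import Mathlib
import Cfsg.Prelude.Def_TwoFusion

/-!
# Isolated involutions: elementary facts

`z` is an isolated involution of the finite group `G`; the product of `z` and a conjugate has odd
order, the centralizer has odd index, two elements of a `z`-invariant subgroup `H` centralized by
`z` and conjugate in `H` are conjugate in `C_H(z)`.
-/

set_option autoImplicit false

namespace Cfsg.Agent.TwoFusion.IsolatedFusion

variable {G : Type*} [Group G]

theorem mul_self {z : G} (hz : Cfsg.IsIsolatedInvolution z) : z * z = 1 := by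
  have h := pow_orderOf_eq_one z
  rwa [hz.1, pow_two] at h

theorem ne_one {z : G} (hz : Cfsg.IsIsolatedInvolution z) : z ≠ 1 := by
  rintro rfl
  have h := hz.1
  rw [orderOf_one] at h
  omega

theorem inv_eq {z : G} (hz : Cfsg.IsIsolatedInvolution z) : z⁻¹ = z :=
  inv_eq_of_mul_eq_one_left (mul_self hz)

/-- If `z, t` are elements with `z² = t² = 1`, then `z` conjugates the powers of `z t` to the
inverse powers. -/
theorem invol_conj_zpow {z t : G} (hz : z * z = 1) (ht : t * t = 1) (k : ℤ) :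
    z * (z * t) ^ k * z = (z * t) ^ (-k) := by
  have hz' : z⁻¹ = z := inv_eq_of_mul_eq_one_left hz
  have ht' : t⁻¹ = t := inv_eq_of_mul_eq_one_left ht
  have h1 : z * (z * t) * z⁻¹ = (z * t)⁻¹ := by
    rw [mul_inv_rev, ht', hz', ← mul_assoc, hz, one_mul]
  calc z * (z * t) ^ k * z = z * (z * t) ^ k * z⁻¹ := by rw [hz']
    _ = (z * (z * t) * z⁻¹) ^ k := (_root_.conj_zpow).symm
    _ = ((z * t)⁻¹) ^ k := by rw [h1]
    _ = (z * t) ^ (-k) := by rw [inv_zpow, zpow_neg]

/-- If `z, t` are involutions and `z t` has odd order, then a power of `z t` conjugates `t` to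
`z`. -/
theorem exists_zpow_conj_eq {z t : G} (hz : z * z = 1) (ht : t * t = 1)
    (hodd : Odd (orderOf (z * t))) :
    ∃ k : ℕ, (z * t) ^ k * t * ((z * t) ^ k)⁻¹ = z := by
  obtain ⟨m, hm⟩ := hodd
  refine ⟨m + 1, ?_⟩
  have h1 : (z * t) ^ (2 * m + 1) = 1 := by rw [← hm]; exact pow_orderOf_eq_one _
  have hz' : z⁻¹ = z := inv_eq_of_mul_eq_one_left hz
  have ht' : t⁻¹ = t := inv_eq_of_mul_eq_one_left ht
  have h2 : t * (z * t) * t⁻¹ = (z * t)⁻¹ := by
    rw [mul_inv_rev, ht', hz']
    calc t * (z * t) * t = t * z * (t * t) := by group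
      _ = t * z := by rw [ht, mul_one]
  have h3 : t * ((z * t) ^ (m + 1))⁻¹ = (z * t) ^ (m + 1) * t := by
    have h4 : t * ((z * t) ^ (m + 1))⁻¹ * t⁻¹ = (z * t) ^ (m + 1) := by
      calc t * ((z * t) ^ (m + 1))⁻¹ * t⁻¹ = (t * (z * t) ^ (m + 1) * t⁻¹)⁻¹ := by group
        _ = ((t * (z * t) * t⁻¹) ^ (m + 1))⁻¹ := by rw [conj_pow]
        _ = (z * t) ^ (m + 1) := by rw [h2, inv_pow, inv_inv]
    calc t * ((z * t) ^ (m + 1))⁻¹ = t * ((z * t) ^ (m + 1))⁻¹ * t⁻¹ * t := by group
      _ = _ := by rw [h4]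
  calc (z * t) ^ (m + 1) * t * ((z * t) ^ (m + 1))⁻¹
      = (z * t) ^ (m + 1) * (t * ((z * t) ^ (m + 1))⁻¹) := by group
    _ = (z * t) ^ (m + 1) * ((z * t) ^ (m + 1) * t) := by rw [h3]
    _ = (z * t) ^ (2 * m + 1) * (z * t) * t := by
        rw [← mul_assoc, ← pow_add, ← pow_succ]; congr 2; ring
    _ = z := by rw [h1, one_mul, mul_assoc, ht, mul_one]

/-- The product of an isolated involution and one of its conjugates has odd order. -/
theorem odd_orderOf_mul_conj [Finite G] {z : G} (hz : Cfsg.IsIsolatedInvolution z) (g : G) :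
    Odd (orderOf (z * (g * z * g⁻¹))) := by
  have hzz := mul_self hz
  have hz' := inv_eq hz
  set t := g * z * g⁻¹ with ht
  have htt : t * t = 1 := by
    rw [ht]
    calc g * z * g⁻¹ * (g * z * g⁻¹) = g * (z * z) * g⁻¹ := by group
      _ = 1 := by rw [hzz]; group
  set u := z * t with hu
  have hn : 0 < orderOf u := orderOf_pos u
  by_contra hodd
  rw [Nat.not_odd_iff_even] at hodd
  obtain ⟨m, hm⟩ := hodd
  have hm0 : 0 < m := by omega
  have hum : u ^ m ≠ 1 := by
    intro h
    have := orderOf_le_of_pow_eq_one hm0 h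
    omega
  have humm : u ^ m * u ^ m = 1 := by rw [← pow_add, ← hm]; exact pow_orderOf_eq_one _
  -- `z u^m z = u^{-m} = u^m`
  have hzu : z * u ^ m * z = u ^ m := by
    have h := invol_conj_zpow hzz htt (m : ℤ)
    rw [← hu, zpow_neg, zpow_natCast] at h
    rw [h]
    exact inv_eq_of_mul_eq_one_left humm
  have hcomm : z * u ^ m = u ^ m * z := by
    calc z * u ^ m = z * u ^ m * (z * z) := by rw [hzz, mul_one]
      _ = z * u ^ m * z * z := by group
      _ = u ^ m * z := by rw [hzu]
  -- `u^m z` is a conjugate of `z`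
  have hconj : ∃ k : G, k * z * k⁻¹ = u ^ m * z := by
    rcases Nat.even_or_odd m with ⟨r, hr⟩ | ⟨r, hr⟩
    · -- m = r + r : conjugate `z` by `u^r`
      refine ⟨u ^ r, ?_⟩
      have h := invol_conj_zpow hzz htt (r : ℤ)
      rw [← hu, zpow_neg, zpow_natCast] at h
      have h2 : z * (u ^ r)⁻¹ = u ^ r * z := by
        rw [← h]
        calc z * (z * u ^ r * z) = (z * z) * u ^ r * z := by group
          _ = u ^ r * z := by rw [hzz, one_mul]
      rw [mul_assoc, h2, ← mul_assoc, ← pow_add, ← hr]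
    · -- m = 2 r + 1: conjugate `t` by `u ^ (r + 1)`:
      refine ⟨u ^ (r + 1) * g, ?_⟩
      have h := invol_conj_zpow hzz htt ((r + 1 : ℕ) : ℤ)
      rw [← hu, zpow_neg, zpow_natCast] at h
      have h2 : z * (u ^ (r + 1))⁻¹ = u ^ (r + 1) * z := by
        rw [← h]
        calc z * (z * u ^ (r + 1) * z) = (z * z) * u ^ (r + 1) * z := by group
          _ = u ^ (r + 1) * z := by rw [hzz, one_mul]
      have h3 : t = z * u := by rw [hu, ← mul_assoc, hzz, one_mul]
      have h4 : u * (u ^ (r + 1))⁻¹ = (u ^ (r + 1))⁻¹ * u :=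
        ((Commute.refl u).pow_right (r + 1)).inv_right.eq
      have h5 : z * u * z = u⁻¹ := by
        have h := invol_conj_zpow hzz htt 1
        rw [← hu, zpow_neg, zpow_one] at h
        exact h
      have h6 : z * u = u⁻¹ * z := by
        rw [← h5]
        calc z * u = z * u * (z * z) := by rw [hzz, mul_one]
          _ = z * u * z * z := by group
      calc u ^ (r + 1) * g * z * (u ^ (r + 1) * g)⁻¹
          = u ^ (r + 1) * (g * z * g⁻¹) * (u ^ (r + 1))⁻¹ := by group
        _ = u ^ (r + 1) * (z * u) * (u ^ (r + 1))⁻¹ := by rw [← ht, h3]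
        _ = u ^ (r + 1) * (z * (u * (u ^ (r + 1))⁻¹)) := by group
        _ = u ^ (r + 1) * (z * ((u ^ (r + 1))⁻¹ * u)) := by rw [h4]
        _ = u ^ (r + 1) * ((z * (u ^ (r + 1))⁻¹) * u) := by group
        _ = u ^ (r + 1) * ((u ^ (r + 1) * z) * u) := by rw [h2]
        _ = u ^ (r + 1) * u ^ (r + 1) * (z * u) := by group
        _ = u ^ (r + 1) * u ^ (r + 1) * (u⁻¹ * z) := by rw [h6]
        _ = u ^ (r + 1) * u ^ (r + 1) * u⁻¹ * z := by group
        _ = u ^ m * z := by
            congr 1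
            rw [← pow_add, hr]
            have : r + 1 + (r + 1) = 2 * r + 1 + 1 := by ring
            rw [this, pow_succ, mul_assoc, mul_inv_cancel, mul_one]
  obtain ⟨k, hk⟩ := hconj
  have hc : Commute z (k * z * k⁻¹) := by
    rw [hk]
    show z * (u ^ m * z) = u ^ m * z * z
    rw [← mul_assoc, hcomm]
  have h := hz.2 k hc
  rw [hk] at h
  exact hum (by simpa using h)

/-- An element `h` conjugating `x` to `y`, both commuting with the isolated involution `z`,
can be corrected to an element commuting with `z` by a power of `z (h z h⁻¹)`. -/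
theorem exists_correction [Finite G] {z : G} (hz : Cfsg.IsIsolatedInvolution z) {x y h : G}
    (hxz : Commute x z) (hyz : Commute y z) (hconj : h * x * h⁻¹ = y) :
    ∃ k : ℕ, Commute ((z * (h * z * h⁻¹)) ^ k * h) z ∧
      ((z * (h * z * h⁻¹)) ^ k * h) * x * ((z * (h * z * h⁻¹)) ^ k * h)⁻¹ = y := by
  have hzz := mul_self hz
  set t := h * z * h⁻¹ with ht
  have htt : t * t = 1 := by
    rw [ht]
    calc h * z * h⁻¹ * (h * z * h⁻¹) = h * (z * z) * h⁻¹ := by group
      _ = 1 := by rw [hzz]; group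
  obtain ⟨k, hk⟩ := exists_zpow_conj_eq hzz htt (odd_orderOf_mul_conj hz h)
  refine ⟨k, ?_, ?_⟩
  · have h1 : ((z * t) ^ k * h) * z * ((z * t) ^ k * h)⁻¹ = z := by
      rw [← hk]
      rw [hk]
      calc ((z * t) ^ k * h) * z * ((z * t) ^ k * h)⁻¹
          = (z * t) ^ k * (h * z * h⁻¹) * ((z * t) ^ k)⁻¹ := by group
        _ = z := by rw [← ht, hk]
    show ((z * t) ^ k * h) * z = z * ((z * t) ^ k * h)
    rw [mul_inv_eq_iff_eq_mul] at h1
    exact h1
  · have hyt : Commute y t := by
      show y * t = t * y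
      rw [ht, ← hconj]
      calc h * x * h⁻¹ * (h * z * h⁻¹) = h * (x * z) * h⁻¹ := by group
        _ = h * (z * x) * h⁻¹ := by rw [hxz.eq]
        _ = h * z * h⁻¹ * (h * x * h⁻¹) := by group
    have hyu : Commute y ((z * t) ^ k) := (hyz.mul_right hyt).pow_right k
    calc ((z * t) ^ k * h) * x * ((z * t) ^ k * h)⁻¹
        = (z * t) ^ k * (h * x * h⁻¹) * ((z * t) ^ k)⁻¹ := by group
      _ = (z * t) ^ k * y * ((z * t) ^ k)⁻¹ := by rw [hconj]
      _ = y := by rw [← hyu.eq, mul_assoc, mul_inv_cancel, mul_one]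

/-- `C_G(z)` controls the fusion of its elements. -/
theorem exists_mem_centralizer_conj [Finite G] {z : G} (hz : Cfsg.IsIsolatedInvolution z)
    {x y h : G} (hxz : Commute x z) (hyz : Commute y z) (hconj : h * x * h⁻¹ = y) :
    ∃ c : G, Commute c z ∧ c * x * c⁻¹ = y := by
  obtain ⟨k, h1, h2⟩ := exists_correction hz hxz hyz hconj
  exact ⟨_, h1, h2⟩

/-- The centralizer of an isolated involution of a finite group has odd index. -/
theorem odd_index_centralizer [Finite G] {z : G} (hz : Cfsg.IsIsolatedInvolution z) :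
    Odd (Subgroup.centralizer ({z} : Set G)).index := by
  classical
  have : Fact (Nat.Prime 2) := ⟨Nat.prime_two⟩
  set C := Subgroup.centralizer ({z} : Set G) with hC
  -- `⟨z⟩` acts on `G ⧸ C`; fixed points: cosets `gC` with `g⁻¹ z g ∈ C`
  have hp : IsPGroup 2 (Subgroup.zpowers z) := by
    apply IsPGroup.of_card (n := 1)
    rw [Nat.card_zpowers, hz.1, pow_one]
  have : Finite (G ⧸ C) := inferInstance
  have hfix := hp.card_modEq_card_fixedPoints (G ⧸ C)
  have hcard : Nat.card (MulAction.fixedPoints (Subgroup.zpowers z) (G ⧸ C)) = 1 := by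
    rw [Nat.card_eq_one_iff_unique]
    have key : ∀ q ∈ MulAction.fixedPoints (Subgroup.zpowers z) (G ⧸ C),
        q = (QuotientGroup.mk 1 : G ⧸ C) := by
      intro q hq
      induction q using QuotientGroup.induction_on with
      | H g =>
        have h1 := hq ⟨z, Subgroup.mem_zpowers z⟩
        have h2 : (QuotientGroup.mk (z * g) : G ⧸ C) = QuotientGroup.mk g := h1
        rw [eq_comm, QuotientGroup.eq, hC, Subgroup.mem_centralizer_singleton_iff] at h2
        have h3 : Commute z (g⁻¹ * z * g⁻¹⁻¹) := by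
          show z * (g⁻¹ * z * g⁻¹⁻¹) = (g⁻¹ * z * g⁻¹⁻¹) * z
          rw [inv_inv]
          calc z * (g⁻¹ * z * g) = z * (g⁻¹ * (z * g)) := by group
            _ = (g⁻¹ * (z * g)) * z := h2.symm
            _ = _ := by group
        have h4 := hz.2 _ h3
        rw [QuotientGroup.eq, hC, Subgroup.mem_centralizer_singleton_iff, mul_one]
        rw [inv_inv, mul_assoc] at h4
        calc g⁻¹ * z = g⁻¹ * (z * g) * g⁻¹ := by group
          _ = z * g⁻¹ := by rw [h4]
    constructor
    · constructor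
      rintro ⟨a, ha⟩ ⟨b, hb⟩
      exact Subtype.ext ((key a ha).trans (key b hb).symm)
    · refine ⟨⟨QuotientGroup.mk 1, ?_⟩⟩
      rintro ⟨w, hw⟩
      obtain ⟨n, rfl⟩ := Subgroup.mem_zpowers_iff.mp hw
      show (QuotientGroup.mk (z ^ n * 1) : G ⧸ C) = QuotientGroup.mk 1
      rw [mul_one, eq_comm, QuotientGroup.eq, inv_one, one_mul, hC,
        Subgroup.mem_centralizer_singleton_iff]
      exact (Commute.zpow_left (Commute.refl z) n).eq
  rw [hcard] at hfix
  have : Nat.card (G ⧸ C) % 2 = 1 := by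
    have := hfix
    unfold Nat.ModEq at this
    simpa using this
  exact Nat.odd_iff.mpr this

end Cfsg.Agent.TwoFusion.IsolatedFusion
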