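import Mathlib
import Cfsg.Prelude.Def_Transfer

/-!
# Basic facts on `O^p(G) = Cfsg.pResidual p G` and a transfer formula
-/

set_option autoImplicit false

namespace Cfsg.Agent.TwoFusion.PResidual

open Subgroup

/-- The transfer of `g ∈ H` when every conjugate of a power of `g` lying in `H` has the same
image as that power: it is `ϕ g ^ [G : H]`. -/
theorem transfer_eq_pow_index_of_fusion {G : Type*} [Group G] {H : Subgroup G}
    {A : Type*} [CommGroup A] (ϕ : H →* A) [H.FiniteIndex] (g : H)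
    (key : ∀ (k : ℕ) (g₀ : G) (h : g₀⁻¹ * (g : G) ^ k * g₀ ∈ H),
      ϕ ⟨g₀⁻¹ * (g : G) ^ k * g₀, h⟩ = ϕ (g ^ k)) :
    MonoidHom.transfer ϕ (g : G) = ϕ g ^ H.index := by
  classical
  let _ := H.fintypeQuotientOfFiniteIndex
  rw [MonoidHom.transfer_eq_prod_quotient_orbitRel_zpowers_quot]
  rw [Finset.prod_congr rfl (fun q _ => key _ _ _)]
  rw [index_eq_sum_minimalPeriod H (g : G), ← Finset.prod_pow_eq_pow_sum]
  refine Finset.prod_congr rfl (fun q _ => ?_)
  rw [map_pow]

/-- Every element of a finite group is the product of two of its powers, one of `p`-power order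
and one of order prime to `p`. -/
theorem exists_pPart_mul_pPrimePart {G : Type*} [Group G] [Finite G] (p : ℕ) [Fact p.Prime]
    (x : G) : ∃ a b : ℤ, x = x ^ a * x ^ b ∧ (∃ k : ℕ, orderOf (x ^ a) = p ^ k) ∧
      Nat.Coprime (orderOf (x ^ b)) p := by
  have hn : orderOf x ≠ 0 := (orderOf_pos x).ne'
  obtain ⟨k, m, hm, hnk⟩ := Nat.exists_eq_pow_mul_and_not_dvd hn p (Fact.out : p.Prime).ne_one
  have hcop : Nat.Coprime (p ^ k) m :=
    Nat.Coprime.pow_left k ((Nat.Prime.coprime_iff_not_dvd Fact.out).2 hm)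
  have hb : (Nat.gcd (p ^ k) m : ℤ) = (p ^ k : ℕ) * Nat.gcdA (p ^ k) m + m * Nat.gcdB (p ^ k) m :=
    Nat.gcd_eq_gcd_ab _ _
  rw [hcop.gcd_eq_one] at hb
  refine ⟨m * Nat.gcdB (p ^ k) m, (p ^ k : ℕ) * Nat.gcdA (p ^ k) m, ?_, ?_, ?_⟩
  · rw [← zpow_add, add_comm, ← hb]; simp
  · have h1 : (x ^ ((m : ℤ) * Nat.gcdB (p ^ k) m)) ^ (p ^ k) = 1 := by
      rw [← zpow_natCast, ← zpow_mul, mul_right_comm, mul_comm (m : ℤ), zpow_mul]
      rw [← Nat.cast_mul, ← hnk, zpow_natCast, pow_orderOf_eq_one, one_zpow]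
    obtain ⟨j, -, hj⟩ := (Nat.dvd_prime_pow Fact.out).1 (orderOf_dvd_of_pow_eq_one h1)
    exact ⟨j, hj⟩
  · have h1 : (x ^ (((p ^ k : ℕ) : ℤ) * Nat.gcdA (p ^ k) m)) ^ m = 1 := by
      rw [← zpow_natCast, ← zpow_mul, mul_right_comm, zpow_mul]
      rw [← Nat.cast_mul, ← hnk, zpow_natCast, pow_orderOf_eq_one, one_zpow]
    refine Nat.Coprime.coprime_dvd_left (orderOf_dvd_of_pow_eq_one h1) ?_
    exact ((Nat.Prime.coprime_iff_not_dvd Fact.out).2 hm).symm

variable {G : Type*} [Group G] (p : ℕ)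

/-- An element of order prime to `p` lies in `O^p(G)`. -/
theorem mem_pResidual_of_coprime {g : G} (hg : Nat.Coprime (orderOf g) p) :
    g ∈ Cfsg.pResidual p G := subset_closure hg

/-- `O^p(G) ≤ K` as soon as `K` contains every element of order prime to `p`. -/
theorem pResidual_le {K : Subgroup G} (hK : ∀ g : G, Nat.Coprime (orderOf g) p → g ∈ K) :
    Cfsg.pResidual p G ≤ K := (closure_le K).2 (fun g hg => hK g hg)

/-- The image of `O^p(G)` under a homomorphism lies in `O^p` of the target. -/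
theorem map_pResidual_le {K : Type*} [Group K] (f : G →* K) :
    (Cfsg.pResidual p G).map f ≤ Cfsg.pResidual p K := by
  rw [map_le_iff_le_comap]
  refine pResidual_le p (fun g hg => ?_)
  exact mem_pResidual_of_coprime p (Nat.Coprime.coprime_dvd_left (orderOf_map_dvd f g) hg)

/-- `O^p(H) ≤ O^p(G)` for `H ≤ G`. -/
theorem pResidual_map_subtype_le (H : Subgroup G) :
    (Cfsg.pResidual p H).map H.subtype ≤ Cfsg.pResidual p G := map_pResidual_le p H.subtype

/-- `O^p(G)` is preserved by isomorphisms. -/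
theorem map_pResidual_equiv {K : Type*} [Group K] (f : G ≃* K) :
    (Cfsg.pResidual p G).map f.toMonoidHom = Cfsg.pResidual p K := by
  apply le_antisymm (map_pResidual_le p _)
  intro k hk
  refine ⟨f.symm k, ?_, by simp⟩
  exact map_pResidual_le p f.symm.toMonoidHom ⟨k, hk, rfl⟩

/-- `O^p(G)` is characteristic. -/
theorem pResidual_characteristic : (Cfsg.pResidual p G).Characteristic := by
  rw [characteristic_iff_map_le]
  intro f
  exact map_pResidual_le p _

/-- `O^p(G)` is normal. -/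
theorem pResidual_normal : (Cfsg.pResidual p G).Normal := by
  have := pResidual_characteristic (G := G) p
  exact normal_of_characteristic _

/-- A normal subgroup of a finite group has `p`-group quotient iff it contains `O^p(G)`. -/
theorem isPGroup_quotient_iff_pResidual_le [Finite G] [Fact p.Prime] (N : Subgroup G) [N.Normal] :
    IsPGroup p (G ⧸ N) ↔ Cfsg.pResidual p G ≤ N := by
  constructor
  · intro h
    refine pResidual_le p (fun g hg => ?_)
    rw [← QuotientGroup.eq_one_iff]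
    obtain ⟨k, hk⟩ := IsPGroup.iff_orderOf.1 h (g : G ⧸ N)
    rw [← orderOf_eq_one_iff]
    have h1 : orderOf (g : G ⧸ N) ∣ orderOf g := orderOf_map_dvd (QuotientGroup.mk' N) g
    have h2 : Nat.Coprime (orderOf (g : G ⧸ N)) (p ^ k) :=
      Nat.Coprime.pow_right k (Nat.Coprime.coprime_dvd_left h1 hg)
    rw [← hk, Nat.coprime_self] at h2
    exact h2
  · intro h
    rw [IsPGroup.iff_orderOf]
    intro q
    obtain ⟨x, rfl⟩ := QuotientGroup.mk'_surjective N q
    obtain ⟨a, b, hab, ⟨k, hk⟩, hb⟩ := exists_pPart_mul_pPrimePart p x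
    have hxb : QuotientGroup.mk' N (x ^ b) = 1 :=
      (QuotientGroup.eq_one_iff _).2 (h (mem_pResidual_of_coprime p hb))
    have hxa : QuotientGroup.mk' N x = QuotientGroup.mk' N (x ^ a) := by
      conv_lhs => rw [hab, map_mul, hxb, mul_one]
    rw [hxa]
    obtain ⟨j, -, hj⟩ := (Nat.dvd_prime_pow (Fact.out : p.Prime)).1
      (hk ▸ orderOf_map_dvd (QuotientGroup.mk' N) (x ^ a))
    exact ⟨j, hj⟩

/-- `G / O^p(G)` is a `p`-group. -/
theorem isPGroup_quotient_pResidual [Finite G] [Fact p.Prime] :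
    haveI := pResidual_normal (G := G) p
    IsPGroup p (G ⧸ Cfsg.pResidual p G) := by
  have := pResidual_normal (G := G) p
  exact (isPGroup_quotient_iff_pResidual_le p _).2 le_rfl

end Cfsg.Agent.TwoFusion.PResidual
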