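import Mathlib
import Cfsg.Prelude.Def_Local
import Cfsg.Prelude.Def_Solvable
import Cfsg.Prelude.Def_Transfer
import Cfsg.Agent.Lib.Cores
import Cfsg.Agent.Lib.ThompsonPQ
import Cfsg.Agent.TwoFusion.PResidual
import Cfsg.Agent.SignalizersComponents.Components
import Cfsg.Agent.SignalizersComponents.ComponentExists

set_option autoImplicit false
open Cfsg

namespace Cfsg.Agent.TwoFusion.FStarControl

open Subgroup
open Cfsg.Agent.SignalizersComponents.Components

variable {H : Type*} [Group H]

variable (H) in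
theorem genFitting_normal : (generalizedFittingSubgroup H).Normal := by
  have h1 := layer_normal H
  have h2 := Cfsg.Agent.Lib.Cores.fittingSubgroup_normal (G := H)
  show (layer H ⊔ fittingSubgroup H).Normal
  infer_instance

theorem layer_le_genFitting : layer H ≤ generalizedFittingSubgroup H := le_sup_left

theorem fitting_le_genFitting : fittingSubgroup H ≤ generalizedFittingSubgroup H := le_sup_right

/-- `C_H(F*(H)) ≤ F(H)` for a finite group `H`. -/
theorem centralizer_genFitting_le_fitting [Finite H] :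
    centralizer (generalizedFittingSubgroup H : Set H) ≤ fittingSubgroup H := by
  have hF := genFitting_normal H
  have hn : (centralizer (generalizedFittingSubgroup H : Set H)).Normal := inferInstance
  have hcf : centralizer (generalizedFittingSubgroup H : Set H) ≤
      centralizer (fittingSubgroup H : Set H) :=
    centralizer_le fitting_le_genFitting
  by_cases hs : Group.IsSolvable (centralizer (generalizedFittingSubgroup H : Set H))
  · exact Cfsg.Agent.SignalizersComponents.ComponentExists.le_fitting_of_isSubnormal_of_isSolvable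
      hn.isSubnormal hs hcf
  · exfalso
    obtain ⟨K, hK, hKC⟩ :=
      Cfsg.Agent.SignalizersComponents.ComponentExists.exists_isComponent_le hn.isSubnormal hs hcf
    apply quasisimple_not_isMulCommutative hK.2
    refine ⟨⟨fun a b => ?_⟩⟩
    have h1 : (b : H) ∈ generalizedFittingSubgroup H :=
      layer_le_genFitting (component_le_layer hK b.2)
    exact Subtype.ext (mem_centralizer_iff.mp (hKC a.2) b h1).symm

/-- A subnormal subgroup `S` of `F*(H)` containing its centralizer in `F*(H)` contains the layer. -/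
theorem layer_le_of_subnormal {S : Subgroup H} (hS : S.IsSubnormal)
    (hC : generalizedFittingSubgroup H ⊓ centralizer (S : Set H) ≤ S) : layer H ≤ S := by
  rw [layer_le_iff]
  intro K hK
  rcases component_le_or_commutator_eq_bot hK hS with h | h
  · exact h
  · exact (le_inf ((component_le_layer hK).trans layer_le_genFitting)
      (commutator_eq_bot_iff_le_centralizer.mp h)).trans hC

/-- If a subgroup `Q` normalizes `U`, `[U, Q, Q] = 1`... iteration: a subgroup `Q` acting coprimely
on a nilpotent group `K` and centralizing a subgroup `T ≤ K` with `C_K(T) ≤ T` centralizes `K`. -/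
theorem centralizes_of_selfcentralizing [Finite H] {K T Q : Subgroup H} (hK : Group.IsNilpotent K)
    (hTK : T ≤ K) (hC : K ⊓ centralizer (T : Set H) ≤ T)
    (hn : Q ≤ normalizer (K : Set H)) (hc : (Nat.card Q).Coprime (Nat.card K))
    (hQT : Q ≤ centralizer (T : Set H)) : Q ≤ centralizer (K : Set H) := by
  -- strong induction on the index of `T`
  obtain ⟨n, hn'⟩ : ∃ n, Nat.card K - Nat.card T = n := ⟨_, rfl⟩
  induction n using Nat.strong_induction_on generalizing T with
  | _ n ih =>
    by_cases hTeq : T = K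
    · rw [← hTeq]; exact hQT
    · -- `N = N_K(T) > T`
      set N : Subgroup H := K ⊓ normalizer (T : Set H) with hN
      have hTN : T ≤ N := le_inf hTK le_normalizer
      have hlt : T < N := by
        refine lt_of_le_of_ne hTN ?_
        intro heq
        -- normalizer condition in `K`
        have hnc : NormalizerCondition K := by
          have := hK
          exact Group.normalizerCondition_of_isNilpotent
        have h1 : T.subgroupOf K < ⊤ := by
          rw [lt_top_iff_ne_top, Ne, subgroupOf_eq_top]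
          exact fun h => hTeq (le_antisymm hTK h)
        have h2 := hnc _ h1
        obtain ⟨x, hx, hx'⟩ := SetLike.exists_of_lt h2
        apply hx'
        rw [mem_subgroupOf, heq, hN, mem_inf]
        refine ⟨x.2, ?_⟩
        rw [mem_normalizer_iff]
        intro t
        constructor
        · intro ht
          have := (mem_normalizer_iff.mp hx ⟨t, hTK ht⟩).mp ht
          exact this
        · intro ht
          have htK : t ∈ K := by
            have h3 : (x : H) * t * (x : H)⁻¹ ∈ K := hTK ht
            have h4 := K.mul_mem (K.mul_mem (K.inv_mem x.2) h3) x.2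
            have h5 : (x : H)⁻¹ * ((x : H) * t * (x : H)⁻¹) * x = t := by group
            rwa [h5] at h4
          exact (mem_normalizer_iff.mp hx ⟨t, htK⟩).mpr ht
      -- `Q` centralizes `N`
      have hQN : Q ≤ centralizer (N : Set H) := by
        have hnN : Q ≤ normalizer (N : Set H) := by
          intro q hq
          rw [mem_normalizer_iff]
          have key : ∀ q ∈ Q, ∀ x ∈ N, q * x * q⁻¹ ∈ N := by
            intro q hq x hx
            rw [hN, mem_inf] at hx ⊢
            refine ⟨(mem_normalizer_iff.mp (hn hq) x).mp hx.1, ?_⟩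
            have hqT : q ∈ normalizer (T : Set H) :=
              centralizer_le_normalizer _ (hQT hq)
            exact mul_mem (mul_mem hqT hx.2) (inv_mem hqT)
          intro x
          refine ⟨key q hq x, fun h => ?_⟩
          have := key q⁻¹ (inv_mem hq) _ h
          have h5 : q⁻¹ * (q * x * q⁻¹) * q⁻¹⁻¹ = x := by group
          rwa [h5] at this
        have h1 : ⁅⁅N, T⁆, Q⁆ = ⊥ := by
          rw [eq_bot_iff]
          have h2 : ⁅N, T⁆ ≤ T := le_normalizer_iff_commutator_le_right.mp inf_le_right
          calc ⁅⁅N, T⁆, Q⁆ ≤ ⁅T, Q⁆ := commutator_mono h2 le_rfl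
            _ = ⊥ := by
              rw [commutator_comm]; exact commutator_eq_bot_iff_le_centralizer.mpr hQT
        have h2 : ⁅⁅T, Q⁆, N⁆ = ⊥ := by
          have : ⁅T, Q⁆ = ⊥ := by
            rw [commutator_comm]; exact commutator_eq_bot_iff_le_centralizer.mpr hQT
          rw [this]; exact commutator_bot_left _
        have h3 : ⁅⁅Q, N⁆, T⁆ = ⊥ := commutator_commutator_eq_bot_of_rotate h1 h2
        have h4 : ⁅N, Q⁆ ≤ T := by
          refine le_trans (le_inf ?_ ?_) hC
          · exact (le_normalizer_iff_commutator_le_left.mp hnN).trans inf_le_left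
          · rw [← commutator_eq_bot_iff_le_centralizer, commutator_comm N Q]
            exact h3
        have h5 : ⁅⁅N, Q⁆, Q⁆ = ⊥ := by
          rw [eq_bot_iff]
          calc ⁅⁅N, Q⁆, Q⁆ ≤ ⁅T, Q⁆ := commutator_mono h4 le_rfl
            _ = ⊥ := by
              rw [commutator_comm]; exact commutator_eq_bot_iff_le_centralizer.mpr hQT
        have h6 : ⁅N, Q⁆ = ⊥ := by
          refine Cfsg.Agent.Lib.ThompsonPQ.commutator_eq_bot_of_coprime ?_ hnN h5
          exact Nat.Coprime.coprime_dvd_right (card_dvd_of_le inf_le_left) hc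
        rw [← commutator_eq_bot_iff_le_centralizer, commutator_comm]
        exact h6
      have hNK : N ≤ K := inf_le_left
      refine ih (Nat.card K - Nat.card N) ?_ hNK ?_ hQN rfl
      · have h1 : Nat.card T < Nat.card N := lt_of_le_of_ne (card_le_of_le hTN)
          (fun h => hlt.ne (eq_of_le_of_card_ge hTN h.ge))
        have h2 : Nat.card N ≤ Nat.card K := card_le_of_le hNK
        omega
      · exact le_trans (le_trans (inf_le_inf_left K (centralizer_le hTN)) hC) hTN

/-! ### The decomposition `F(H) = O_p(H) × O_{p'}(F(H))` -/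

theorem fitting_le_sup [Finite H] (p : ℕ) [Fact p.Prime] :
    fittingSubgroup H ≤ pCore p H ⊔ (fittingSubgroup H ⊓ pPrimeCore p H) := by
  conv_lhs => rw [Cfsg.Agent.Lib.Cores.fittingSubgroup_eq_iSup_pCore]
  refine iSup_le fun q => ?_
  have := Fact.mk q.2
  by_cases hq : (q : ℕ) = p
  · rw [hq]; exact le_sup_left
  · refine le_trans (le_inf ?_ ?_) le_sup_right
    · exact Cfsg.Agent.Lib.Cores.pCore_le_fittingSubgroup _
    · apply Cfsg.Agent.Lib.Cores.le_pPrimeCore (Cfsg.Agent.Lib.Cores.pCore_normal _)
      obtain ⟨n, hn⟩ := IsPGroup.iff_card.mp (Cfsg.Agent.Lib.Cores.pCore_isPGroup (G := H) (q : ℕ))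
      rw [hn]
      exact Nat.Coprime.pow_left _ ((Nat.coprime_primes q.2 Fact.out).mpr hq)

theorem pCore_le_centralizer_pPrimeCore [Finite H] (p : ℕ) [Fact p.Prime] :
    pCore p H ≤ centralizer (pPrimeCore p H : Set H) := by
  rw [← commutator_eq_bot_iff_le_centralizer, eq_bot_iff,
    ← Cfsg.Agent.Lib.Cores.pCore_inf_pPrimeCore (G := H) p]
  exact commutator_le_inf _ _

/-- `x ∈ F(H)` is a product of an element of `O_p(H)` and one of `O_{p'}(F(H))`, both powers of
`x`. -/
theorem exists_fitting_decomp [Finite H] (p : ℕ) [Fact p.Prime] {x : H}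
    (hx : x ∈ fittingSubgroup H) :
    ∃ a b : ℤ, x = x ^ a * x ^ b ∧ x ^ a ∈ pCore p H ∧
      x ^ b ∈ fittingSubgroup H ⊓ pPrimeCore p H := by
  obtain ⟨a, b, hab, ⟨k, hk⟩, hb⟩ := Cfsg.Agent.TwoFusion.PResidual.exists_pPart_mul_pPrimePart p x
  have hK : (fittingSubgroup H ⊓ pPrimeCore p H).Normal := inferInstance
  have hcop : (Nat.card ↥(fittingSubgroup H ⊓ pPrimeCore p H)).Coprime p :=
    Nat.Coprime.coprime_dvd_left (card_dvd_of_le inf_le_right)
      (Cfsg.Agent.Lib.Cores.pPrimeCore_coprime (G := H) p)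
  -- decompose an element of `F(H)`
  have hdec : ∀ y ∈ fittingSubgroup H, ∃ u ∈ pCore p H,
      ∃ v ∈ fittingSubgroup H ⊓ pPrimeCore p H, u * v = y ∧ Commute u v := by
    intro y hy
    obtain ⟨u, hu, v, hv, huv⟩ := mem_sup_of_normal_right.mp (fitting_le_sup p hy)
    refine ⟨u, hu, v, hv, huv, ?_⟩
    exact ((mem_centralizer_iff.mp (pCore_le_centralizer_pPrimeCore p hu)) v hv.2).symm
  refine ⟨a, b, hab, ?_, ?_⟩
  · obtain ⟨u, hu, v, hv, huv, hc⟩ := hdec (x ^ a) (zpow_mem hx a)
    obtain ⟨m, hm⟩ := IsPGroup.iff_card.mp (Cfsg.Agent.Lib.Cores.pCore_isPGroup (G := H) p)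
    have h1 : v ^ (p ^ k * p ^ m) = 1 := by
      have h2 : (u * v) ^ (p ^ k * p ^ m) = 1 := by
        rw [huv, pow_mul, ← hk, pow_orderOf_eq_one, one_pow]
      rw [hc.mul_pow] at h2
      have h3 : u ^ (p ^ k * p ^ m) = 1 := by
        rw [mul_comm, pow_mul, ← hm]
        have : u ^ Nat.card (pCore p H) = 1 := by
          have := pow_card_eq_one' (x := (⟨u, hu⟩ : pCore p H))
          exact congrArg Subtype.val this
        rw [this, one_pow]
      rwa [h3, one_mul] at h2
    have h4 : v = 1 := by
      have h5 : orderOf v ∣ p ^ k * p ^ m := orderOf_dvd_of_pow_eq_one h1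
      have h6 : orderOf v ∣ Nat.card ↥(fittingSubgroup H ⊓ pPrimeCore p H) := by
        have := orderOf_dvd_natCard (⟨v, hv⟩ : ↥(fittingSubgroup H ⊓ pPrimeCore p H))
        rwa [Subgroup.orderOf_mk] at this
      rw [← pow_add] at h5
      have h7 := Nat.Coprime.eq_one_of_dvd
        (Nat.Coprime.pow_right (k + m) (Nat.Coprime.coprime_dvd_left h6 hcop)) h5
      exact orderOf_eq_one_iff.mp h7
    rw [h4, mul_one] at huv
    rw [← huv]; exact hu
  · obtain ⟨u, hu, v, hv, huv, hc⟩ := hdec (x ^ b) (zpow_mem hx b)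
    obtain ⟨m, hm⟩ := (Cfsg.Agent.Lib.Cores.pCore_isPGroup (G := H) p) ⟨u, hu⟩
    have hm' : u ^ p ^ m = 1 := congrArg Subtype.val hm
    -- `u` is a power of `x ^ b` modulo ...; simply use coprimality
    have h1 : (x ^ b) ^ Nat.card ↥(fittingSubgroup H ⊓ pPrimeCore p H)
        = u ^ Nat.card ↥(fittingSubgroup H ⊓ pPrimeCore p H) := by
      rw [← huv, hc.mul_pow]
      have : v ^ Nat.card ↥(fittingSubgroup H ⊓ pPrimeCore p H) = 1 := by
        have := pow_card_eq_one' (x := (⟨v, hv⟩ : ↥(fittingSubgroup H ⊓ pPrimeCore p H)))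
        exact congrArg Subtype.val this
      rw [this, mul_one]
    have h2 : u = 1 := by
      have h3 : u ^ (Nat.card ↥(fittingSubgroup H ⊓ pPrimeCore p H) * orderOf (x ^ b)) = 1 := by
        rw [pow_mul, ← h1, ← pow_mul, mul_comm, pow_mul, pow_orderOf_eq_one, one_pow]
      have h4 : orderOf u ∣ p ^ m := orderOf_dvd_of_pow_eq_one hm'
      have h5 := orderOf_dvd_of_pow_eq_one h3
      have h6 : (p ^ m).Coprime
          (Nat.card ↥(fittingSubgroup H ⊓ pPrimeCore p H) * orderOf (x ^ b)) :=
        Nat.Coprime.pow_left m (Nat.Coprime.mul_right hcop.symm hb.symm)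
      exact orderOf_eq_one_iff.mp
        (Nat.Coprime.eq_one_of_dvd (Nat.Coprime.coprime_dvd_left h4 h6) h5)
    rw [h2, one_mul] at huv
    rw [← huv]; exact hv

/-! ### The situation of S1247 inside the maximal subgroup -/

section Inside

variable {S : Subgroup H}

/-- Dedekind: `S = E(H)(S ∩ F(H))`. -/
theorem le_layer_sup (hSF : S ≤ generalizedFittingSubgroup H) (hL : layer H ≤ S) :
    S ≤ layer H ⊔ (S ⊓ fittingSubgroup H) := by
  have h1 := layer_normal H
  intro s hs
  obtain ⟨e, he, f, hf, hef⟩ := mem_sup_of_normal_left.mp (show s ∈ layer H ⊔ fittingSubgroup H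
    from hSF hs)
  rw [← hef]
  refine mul_mem (mem_sup_left he) (mem_sup_right ⟨?_, hf⟩)
  have : f = e⁻¹ * s := by rw [← hef]; group
  rw [this]
  exact S.mul_mem (S.inv_mem (hL he)) hs

theorem le_layer_sup_pCore_sup [Finite H] (p : ℕ) [Fact p.Prime]
    (hSF : S ≤ generalizedFittingSubgroup H) (hL : layer H ≤ S) :
    S ≤ layer H ⊔ (pCore p H ⊔ (S ⊓ (fittingSubgroup H ⊓ pPrimeCore p H))) := by
  refine (le_layer_sup hSF hL).trans (sup_le_sup_left ?_ _)
  rintro x ⟨hxS, hxF⟩
  obtain ⟨a, b, hab, ha, hb⟩ := exists_fitting_decomp p hxF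
  rw [hab]
  exact mul_mem (mem_sup_left ha) (mem_sup_right ⟨S.zpow_mem hxS b, hb⟩)

theorem fitting_inf_centralizer_le [Finite H]
    (hSF : S ≤ generalizedFittingSubgroup H) (hS : S.IsSubnormal)
    (hC : generalizedFittingSubgroup H ⊓ centralizer (S : Set H) ≤ S) :
    fittingSubgroup H ⊓ centralizer ((S ⊓ fittingSubgroup H : Subgroup H) : Set H) ≤
      S ⊓ fittingSubgroup H := by
  have hL := layer_le_of_subnormal hS hC
  rintro x ⟨hxF, hxC⟩
  refine ⟨hC ⟨fitting_le_genFitting hxF, ?_⟩, hxF⟩
  have h1 : layer H ⊔ (S ⊓ fittingSubgroup H) ≤ centralizer ({x} : Set H) := by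
    refine sup_le ?_ ?_
    · intro e he
      rw [mem_centralizer_singleton_iff]
      have := (mem_centralizer_iff.mp (layer_le_centralizer_fitting he)) x hxF
      exact this.symm
    · intro t ht
      rw [mem_centralizer_singleton_iff]
      exact (mem_centralizer_iff.mp hxC) t ht
  show x ∈ centralizer (S : Set H)
  rw [mem_centralizer_iff]
  intro s hs
  exact mem_centralizer_singleton_iff.mp (h1 (le_layer_sup hSF hL hs))

theorem fittingPrime_inf_centralizer_le [Finite H] (p : ℕ) [Fact p.Prime]
    (hSF : S ≤ generalizedFittingSubgroup H) (hS : S.IsSubnormal)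
    (hC : generalizedFittingSubgroup H ⊓ centralizer (S : Set H) ≤ S) :
    (fittingSubgroup H ⊓ pPrimeCore p H) ⊓
        centralizer ((S ⊓ (fittingSubgroup H ⊓ pPrimeCore p H) : Subgroup H) : Set H) ≤
      S ⊓ (fittingSubgroup H ⊓ pPrimeCore p H) := by
  have hL := layer_le_of_subnormal hS hC
  rintro x ⟨hxF, hxC⟩
  refine ⟨hC ⟨fitting_le_genFitting hxF.1, ?_⟩, hxF⟩
  have h1 : layer H ⊔ (pCore p H ⊔ (S ⊓ (fittingSubgroup H ⊓ pPrimeCore p H))) ≤
      centralizer ({x} : Set H) := by
    refine sup_le ?_ (sup_le ?_ ?_)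
    · intro e he
      rw [mem_centralizer_singleton_iff]
      have := (mem_centralizer_iff.mp (layer_le_centralizer_fitting he)) x hxF.1
      exact this.symm
    · intro t ht
      rw [mem_centralizer_singleton_iff]
      exact ((mem_centralizer_iff.mp (pCore_le_centralizer_pPrimeCore p ht)) x hxF.2).symm
    · intro t ht
      rw [mem_centralizer_singleton_iff]
      exact (mem_centralizer_iff.mp hxC) t ht
  show x ∈ centralizer (S : Set H)
  rw [mem_centralizer_iff]
  intro s hs
  exact mem_centralizer_singleton_iff.mp (h1 (le_layer_sup_pCore_sup p hSF hL hs))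

/-- `Z(O_p(H)) ≤ S`. -/
theorem pCore_inf_centralizer_le [Finite H] (p : ℕ) [Fact p.Prime]
    (hSF : S ≤ generalizedFittingSubgroup H) (hS : S.IsSubnormal)
    (hC : generalizedFittingSubgroup H ⊓ centralizer (S : Set H) ≤ S) :
    pCore p H ⊓ centralizer (pCore p H : Set H) ≤ S := by
  have hL := layer_le_of_subnormal hS hC
  rintro x ⟨hxF, hxC⟩
  have hxF' : x ∈ fittingSubgroup H := Cfsg.Agent.Lib.Cores.pCore_le_fittingSubgroup p hxF
  refine hC ⟨fitting_le_genFitting hxF', ?_⟩
  have h1 : layer H ⊔ (pCore p H ⊔ (S ⊓ (fittingSubgroup H ⊓ pPrimeCore p H))) ≤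
      centralizer ({x} : Set H) := by
    refine sup_le ?_ (sup_le ?_ ?_)
    · intro e he
      rw [mem_centralizer_singleton_iff]
      have := (mem_centralizer_iff.mp (layer_le_centralizer_fitting he)) x hxF'
      exact this.symm
    · intro t ht
      rw [mem_centralizer_singleton_iff]
      exact (mem_centralizer_iff.mp hxC) t ht
    · intro t ht
      rw [mem_centralizer_singleton_iff]
      exact ((mem_centralizer_iff.mp (pCore_le_centralizer_pPrimeCore p hxF)) t ht.2.2)
  show x ∈ centralizer (S : Set H)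
  rw [mem_centralizer_iff]
  intro s hs
  exact mem_centralizer_singleton_iff.mp (h1 (le_layer_sup_pCore_sup p hSF hL hs))

/-- `Z(O_{p'}(F(H))) ≤ S`. -/
theorem center_fittingPrime_le [Finite H] (p : ℕ) [Fact p.Prime]
    (hSF : S ≤ generalizedFittingSubgroup H) (hS : S.IsSubnormal)
    (hC : generalizedFittingSubgroup H ⊓ centralizer (S : Set H) ≤ S) :
    (fittingSubgroup H ⊓ pPrimeCore p H) ⊓
      centralizer ((fittingSubgroup H ⊓ pPrimeCore p H : Subgroup H) : Set H) ≤
      S ⊓ (fittingSubgroup H ⊓ pPrimeCore p H) :=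
  (inf_le_inf_left _ (centralizer_le inf_le_right)).trans
    (fittingPrime_inf_centralizer_le p hSF hS hC)

/-- Part (a) inside `A`. -/
theorem eq_bot_of_not_dvd [Finite H] {q : ℕ} [Fact q.Prime]
    (hSF : S ≤ generalizedFittingSubgroup H) (hS : S.IsSubnormal)
    (hC : generalizedFittingSubgroup H ⊓ centralizer (S : Set H) ≤ S)
    {Q : Subgroup H} (hQ : IsPGroup q Q) (hSQ : S ≤ normalizer (Q : Set H))
    (hq : ¬ q ∣ Nat.card (fittingSubgroup H)) : Q = ⊥ := by
  have hL := layer_le_of_subnormal hS hC
  have hFn : (fittingSubgroup H).Normal := Cfsg.Agent.Lib.Cores.fittingSubgroup_normal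
  have hcop : (Nat.card Q).Coprime (Nat.card (fittingSubgroup H)) := by
    obtain ⟨n, hn⟩ := IsPGroup.iff_card.mp hQ
    rw [hn]
    exact Nat.Coprime.pow_left _ ((Nat.Prime.coprime_iff_not_dvd Fact.out).mpr hq)
  have hdisj : Q ⊓ fittingSubgroup H = ⊥ := (disjoint_of_coprime_natCard hcop).eq_bot
  have h1 : ⁅layer H, Q⁆ = ⊥ := by
    refine layer_commutator_solvable (hL.trans hSQ) ?_
    have : Group.IsNilpotent Q := hQ.isNilpotent
    infer_instance
  have h2 : Q ≤ centralizer ((S ⊓ fittingSubgroup H : Subgroup H) : Set H) := by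
    rw [← commutator_eq_bot_iff_le_centralizer, eq_bot_iff, ← hdisj]
    refine le_inf ?_ ?_
    · rw [commutator_comm]
      exact le_normalizer_iff_commutator_le_right.mp (inf_le_left.trans hSQ)
    · exact (commutator_mono le_rfl inf_le_right).trans (commutator_le_right _ _)
  have h3 : Q ≤ centralizer (fittingSubgroup H : Set H) := by
    refine centralizes_of_selfcentralizing Cfsg.Agent.Lib.Cores.fittingSubgroup_isNilpotent
      inf_le_right (fitting_inf_centralizer_le hSF hS hC) ?_ hcop h2
    rw [normalizer_eq_top_iff.mpr hFn]; exact le_top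
  have h4 : Q ≤ centralizer (generalizedFittingSubgroup H : Set H) := by
    rw [← commutator_eq_bot_iff_le_centralizer, commutator_comm,
      commutator_eq_bot_iff_le_centralizer]
    refine sup_le ?_ ?_
    · exact commutator_eq_bot_iff_le_centralizer.mp h1
    · rw [← commutator_eq_bot_iff_le_centralizer, commutator_comm,
        commutator_eq_bot_iff_le_centralizer]
      exact h3
  rw [← hdisj]
  exact (le_antisymm (le_inf le_rfl (h4.trans centralizer_genFitting_le_fitting)) inf_le_left)

/-- A `p`-subgroup normalized by `S` centralizes the layer. -/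
theorem layer_commutator_of_isPGroup [Finite H] {p : ℕ} [Fact p.Prime]
    (hS : S.IsSubnormal)
    (hC : generalizedFittingSubgroup H ⊓ centralizer (S : Set H) ≤ S)
    {P : Subgroup H} (hP : IsPGroup p P) (hSP : S ≤ normalizer (P : Set H)) :
    layer H ≤ centralizer (P : Set H) := by
  have hL := layer_le_of_subnormal hS hC
  rw [← commutator_eq_bot_iff_le_centralizer]
  refine layer_commutator_solvable (hL.trans hSP) ?_
  have : Group.IsNilpotent P := hP.isNilpotent
  infer_instance

/-- A `p`-subgroup normalized by `S` centralizes `S ∩ O_{p'}(F(H))`. -/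
theorem fittingPrime_commutator_of_isPGroup [Finite H] {p : ℕ} [Fact p.Prime]
    {P : Subgroup H} (hP : IsPGroup p P) (hSP : S ≤ normalizer (P : Set H)) :
    S ⊓ (fittingSubgroup H ⊓ pPrimeCore p H) ≤ centralizer (P : Set H) := by
  have hFn : (fittingSubgroup H ⊓ pPrimeCore p H).Normal := inferInstance
  have hdisj : P ⊓ pPrimeCore p H = ⊥ := by
    refine (disjoint_of_coprime_natCard ?_).eq_bot
    obtain ⟨n, hn⟩ := IsPGroup.iff_card.mp hP
    rw [hn]
    exact Nat.Coprime.pow_left _ (Cfsg.Agent.Lib.Cores.pPrimeCore_coprime (G := H) p).symm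
  rw [← commutator_eq_bot_iff_le_centralizer, eq_bot_iff, ← hdisj]
  refine le_inf ?_ ?_
  · exact le_normalizer_iff_commutator_le_right.mp (inf_le_left.trans hSP)
  · exact (commutator_mono (inf_le_right.trans inf_le_right) le_rfl).trans
      (commutator_le_left _ _)

/-- A `p`-subgroup centralizing `S ∩ O_{p'}(F(H))` centralizes `O_{p'}(F(H))`. -/
theorem le_centralizer_fittingPrime [Finite H] {p : ℕ} [Fact p.Prime]
    (hSF : S ≤ generalizedFittingSubgroup H) (hS : S.IsSubnormal)
    (hC : generalizedFittingSubgroup H ⊓ centralizer (S : Set H) ≤ S)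
    {P : Subgroup H} (hP : IsPGroup p P)
    (hSP : P ≤ centralizer ((S ⊓ (fittingSubgroup H ⊓ pPrimeCore p H) : Subgroup H) : Set H)) :
    P ≤ centralizer ((fittingSubgroup H ⊓ pPrimeCore p H : Subgroup H) : Set H) := by
  have hFn : (fittingSubgroup H ⊓ pPrimeCore p H).Normal := inferInstance
  refine centralizes_of_selfcentralizing ?_ inf_le_right
    (fittingPrime_inf_centralizer_le p hSF hS hC) ?_ ?_ hSP
  · have h1 : Group.IsNilpotent (fittingSubgroup H) :=
      Cfsg.Agent.Lib.Cores.fittingSubgroup_isNilpotent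
    exact (Group.isNilpotent_congr (subgroupOfEquivOfLe
      (inf_le_left : fittingSubgroup H ⊓ pPrimeCore p H ≤ fittingSubgroup H))).mp inferInstance
  · rw [normalizer_eq_top_iff.mpr hFn]; exact le_top
  · obtain ⟨n, hn⟩ := IsPGroup.iff_card.mp hP
    rw [hn]
    exact Nat.Coprime.pow_left _ (Nat.Coprime.coprime_dvd_left (card_dvd_of_le inf_le_right)
      (Cfsg.Agent.Lib.Cores.pPrimeCore_coprime (G := H) p)).symm

end Inside

end Cfsg.Agent.TwoFusion.FStarControl
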