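import Mathlib
import Cfsg.Prelude.Def_TwoFusion

/-!
# Elementary facts on isolated involutions

`z` isolated: `orderOf z = 2` and the only conjugate of `z` commuting with `z` is `z`.

Main results
* `odd_orderOf_conj_mul` : `g z g⁻¹ z` has odd order for every `g` (finite `G`).
* `exists_inverted` : for every `g` there is `k`, a power of `g z g⁻¹ z`, of odd order, inverted by `z`,
  with `k z k⁻¹ = g z g⁻¹`.
* `inverted_unique` : such a `k` is unique.
-/

set_option autoImplicit false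
open Cfsg

namespace Cfsg.Agent.TwoFusion.Isolated

variable {G : Type*} [Group G]

theorem orderOf_eq {z : G} (hz : Cfsg.IsIsolatedInvolution z) : orderOf z = 2 := hz.1

theorem eq_of_commute {z : G} (hz : Cfsg.IsIsolatedInvolution z) {g : G}
    (h : Commute z (g * z * g⁻¹)) : g * z * g⁻¹ = z := hz.2 g h

theorem mul_self {z : G} (hz : Cfsg.IsIsolatedInvolution z) : z * z = 1 := by
  have := pow_orderOf_eq_one z
  rw [hz.1, pow_two] at this
  exact this

theorem inv_eq {z : G} (hz : Cfsg.IsIsolatedInvolution z) : z⁻¹ = z :=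
  inv_eq_of_mul_eq_one_left (mul_self hz)

theorem ne_one {z : G} (hz : Cfsg.IsIsolatedInvolution z) : z ≠ 1 := by
  rintro rfl
  have := hz.1
  simp at this

/-- conjugates of isolated involutions are isolated -/
theorem conj {z : G} (hz : Cfsg.IsIsolatedInvolution z) (g : G) :
    Cfsg.IsIsolatedInvolution (g * z * g⁻¹) := by
  refine ⟨?_, ?_⟩
  · have : orderOf (g * z * g⁻¹) = orderOf z := by
      have h := orderOf_injective (MulAut.conj g).toMonoidHom (MulAut.conj g).injective z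
      simpa using h
    rw [this, hz.1]
  · intro h hc
    have key := hz.2 (g⁻¹ * h * g) (by
      have h2 : Commute (g⁻¹ * (g * z * g⁻¹) * g) (g⁻¹ * (h * (g * z * g⁻¹) * h⁻¹) * g) := by
        have := hc
        unfold Commute SemiconjBy at this ⊢
        calc g⁻¹ * (g * z * g⁻¹) * g * (g⁻¹ * (h * (g * z * g⁻¹) * h⁻¹) * g)
            = g⁻¹ * ((g * z * g⁻¹) * (h * (g * z * g⁻¹) * h⁻¹)) * g := by group
          _ = g⁻¹ * ((h * (g * z * g⁻¹) * h⁻¹) * (g * z * g⁻¹)) * g := by rw [this]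
          _ = _ := by group
      have e1 : g⁻¹ * (g * z * g⁻¹) * g = z := by group
      have e2 : g⁻¹ * (h * (g * z * g⁻¹) * h⁻¹) * g =
          (g⁻¹ * h * g) * z * (g⁻¹ * h * g)⁻¹ := by group
      rw [e1, e2] at h2
      exact h2)
    calc h * (g * z * g⁻¹) * h⁻¹ = g * ((g⁻¹ * h * g) * z * (g⁻¹ * h * g)⁻¹) * g⁻¹ := by group
      _ = g * z * g⁻¹ := by rw [key]

/-- if `z` inverts `x` then `z * x ^ i = x ^ (-i) * z`. -/
theorem mul_zpow_of_inverts {z x : G} (h : z * x * z⁻¹ = x⁻¹) (i : ℤ) :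
    z * x ^ i = x ^ (-i) * z := by
  have h1 : SemiconjBy z x x⁻¹ := by
    show z * x = x⁻¹ * z
    rw [← h]; group
  have h2 := h1.zpow_right i
  rw [inv_zpow', ] at h2
  exact h2

/-- if the involution `z` inverts `x` then `x ^ i z x ^ (-i) = x ^ (2 i) z`. -/
theorem conj_zpow_of_inverts {z x : G} (h : z * x * z⁻¹ = x⁻¹) (i : ℤ) :
    x ^ i * z * (x ^ i)⁻¹ = x ^ (2 * i) * z := by
  have := mul_zpow_of_inverts h (-i)
  rw [neg_neg] at this
  rw [← zpow_neg, mul_assoc, this, ← mul_assoc, ← zpow_add, two_mul]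

/-- an involution `z` inverts the product `w * z` with another involution `w`. -/
theorem inverts_mul {z w : G} (hz : z * z = 1) (hw : w * w = 1) :
    z * (w * z) * z⁻¹ = (w * z)⁻¹ := by
  have hzi : z⁻¹ = z := inv_eq_of_mul_eq_one_left hz
  have hwi : w⁻¹ = w := inv_eq_of_mul_eq_one_left hw
  rw [mul_inv_rev, hwi, hzi, mul_assoc, mul_assoc, hz, mul_one]

/-- if `z` is isolated then `w * z` has odd order for every conjugate `w` of `z`. -/
theorem odd_orderOf_conj_mul [Finite G] {z : G} (hz : Cfsg.IsIsolatedInvolution z) (g : G) :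
    Odd (orderOf (g * z * g⁻¹ * z)) := by
  have hzz := mul_self hz
  have hww : (g * z * g⁻¹) * (g * z * g⁻¹) = 1 := mul_self (conj hz g)
  have hinv := inverts_mul hzz hww
  have hxw : g * z * g⁻¹ = (g * z * g⁻¹ * z) * z := by
    rw [mul_assoc (g * z * g⁻¹), hzz, mul_one]
  have hpos : 0 < orderOf (g * z * g⁻¹ * z) := orderOf_pos _
  revert hinv hxw hpos
  generalize hx : g * z * g⁻¹ * z = x
  intro hinv hxw hpos
  -- an element `x ^ j * z` with `x ^ (2 * j) = 1` commutes with `z`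
  have hcom : ∀ j : ℤ, x ^ (2 * j) = 1 → Commute z (x ^ j * z) := by
    intro j hj
    have hj' : x ^ (-j) = x ^ j := by
      rw [← mul_left_inj (x ^ j), ← zpow_add, ← zpow_add, neg_add_cancel, ← two_mul, hj, zpow_zero]
    show z * (x ^ j * z) = x ^ j * z * z
    rw [← mul_assoc, mul_zpow_of_inverts hinv, hj']
  -- conjugates of `z` of the form `x ^ j z` with `x ^ (2 * j) = 1` are equal to `z`
  have hkey : ∀ j : ℤ, x ^ (2 * j) = 1 → (∃ u : G, u * z * u⁻¹ = x ^ j * z) → x ^ j = 1 := by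
    rintro j hj ⟨u, hu⟩
    have h1 := hcom j hj
    rw [← hu] at h1
    have h2 := hz.2 u h1
    rw [hu] at h2
    exact mul_eq_right.mp h2
  by_contra hodd
  rw [Nat.not_odd_iff_even] at hodd
  obtain ⟨m, hm⟩ := hodd
  have hmpos : 0 < m := by omega
  have hxm : x ^ (2 * (m : ℤ)) = 1 := by
    have := pow_orderOf_eq_one x
    rw [hm] at this
    rw [two_mul]
    exact_mod_cast this
  have hm1 : x ^ (m : ℤ) = 1 := by
    apply hkey _ hxm
    rcases Nat.even_or_odd' m with ⟨k, hk | hk⟩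
    · refine ⟨x ^ (k : ℤ), ?_⟩
      rw [conj_zpow_of_inverts hinv, hk]
      push_cast
      rfl
    · refine ⟨x ^ (k : ℤ) * g, ?_⟩
      have h3 : x ^ (k : ℤ) * g * z * (x ^ (k : ℤ) * g)⁻¹ =
          x ^ (k : ℤ) * (g * z * g⁻¹) * (x ^ (k : ℤ))⁻¹ := by group
      rw [h3, hxw]
      have h4 : x ^ (k : ℤ) * (x * z) * (x ^ (k : ℤ))⁻¹ =
          x * (x ^ (k : ℤ) * z * (x ^ (k : ℤ))⁻¹) := by
        have : Commute (x ^ (k : ℤ)) x := (Commute.refl x).zpow_left _
        rw [← mul_assoc, this.eq]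
        group
      rw [h4, conj_zpow_of_inverts hinv, ← mul_assoc, hk]
      push_cast
      rw [add_comm, zpow_add, zpow_one]
  have h5 : orderOf x ∣ m := by
    apply orderOf_dvd_of_pow_eq_one
    exact_mod_cast hm1
  have := Nat.le_of_dvd hmpos h5
  omega

/-- for every `g` there is an element `k` (a power of `g z g⁻¹ z`) of odd order, inverted by `z`,
with `k z k⁻¹ = g z g⁻¹`. -/
theorem exists_inverted [Finite G] {z : G} (hz : Cfsg.IsIsolatedInvolution z) (g : G) :
    ∃ k : G, k ∈ Subgroup.zpowers (g * z * g⁻¹ * z) ∧ Odd (orderOf k) ∧ z * k * z⁻¹ = k⁻¹ ∧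
      k * z * k⁻¹ = g * z * g⁻¹ := by
  have hzz := mul_self hz
  have hww : (g * z * g⁻¹) * (g * z * g⁻¹) = 1 := mul_self (conj hz g)
  have hinv := inverts_mul hzz hww
  have hodd := odd_orderOf_conj_mul hz g
  have hxw : g * z * g⁻¹ = (g * z * g⁻¹ * z) * z := by
    rw [mul_assoc (g * z * g⁻¹), hzz, mul_one]
  revert hinv hodd hxw
  generalize hx : g * z * g⁻¹ * z = x
  intro hinv hodd hxw
  obtain ⟨m, hm⟩ := hodd
  refine ⟨x ^ ((m : ℤ) + 1), Subgroup.zpow_mem_zpowers _ _, ?_, ?_, ?_⟩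
  · have h1 : orderOf (x ^ ((m : ℤ) + 1)) ∣ orderOf x := by
      have := orderOf_pow_dvd (x := x) (m + 1)
      exact_mod_cast this
    rw [hm] at h1
    exact Odd.of_dvd_nat ⟨m, rfl⟩ h1
  · rw [mul_zpow_of_inverts hinv, mul_inv_cancel_right, zpow_neg]
  · rw [conj_zpow_of_inverts hinv, hxw]
    have h2 : x ^ (2 * (m : ℤ) + 1) = 1 := by
      have := pow_orderOf_eq_one x
      rw [hm] at this
      exact_mod_cast this
    have h3 : 2 * ((m : ℤ) + 1) = (2 * (m : ℤ) + 1) + 1 := by ring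
    rw [h3, zpow_add, h2, one_mul, zpow_one]

/-- two elements of odd order with the same square are equal. -/
theorem eq_of_sq_eq_of_odd {k l : G} (hk : Odd (orderOf k)) (hl : Odd (orderOf l))
    (h : k ^ 2 = l ^ 2) : k = l := by
  have hodd : Odd (orderOf k * orderOf l) := hk.mul hl
  obtain ⟨m, hm⟩ := hodd
  have h1 : k ^ (orderOf k * orderOf l) = 1 := by rw [pow_mul, pow_orderOf_eq_one, one_pow]
  have h2 : l ^ (orderOf k * orderOf l) = 1 := by
    rw [mul_comm, pow_mul, pow_orderOf_eq_one, one_pow]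
  have h3 : k ^ (orderOf k * orderOf l + 1) = l ^ (orderOf k * orderOf l + 1) := by
    rw [hm, show 2 * m + 1 + 1 = 2 * (m + 1) by ring, pow_mul, pow_mul, h]
  rwa [pow_succ, pow_succ, h1, h2, one_mul, one_mul] at h3

/-- elements of odd order inverted by the involution `z` are determined by their action on `z`. -/
theorem inverted_unique {z k l : G} (hk : Odd (orderOf k)) (hl : Odd (orderOf l))
    (hzk : z * k * z⁻¹ = k⁻¹) (hzl : z * l * z⁻¹ = l⁻¹) (h : k * z * k⁻¹ = l * z * l⁻¹) :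
    k = l := by
  apply eq_of_sq_eq_of_odd hk hl
  have h1 := conj_zpow_of_inverts hzk 1
  have h2 := conj_zpow_of_inverts hzl 1
  rw [zpow_one] at h1 h2
  rw [h1, h2] at h
  have h3 := mul_right_cancel h
  exact_mod_cast h3

/-- membership in `g C` in terms of conjugates of `z` -/
theorem inv_mul_mem_centralizer_iff {z g k : G} :
    g⁻¹ * k ∈ Subgroup.centralizer ({z} : Set G) ↔ k * z * k⁻¹ = g * z * g⁻¹ := by
  rw [Subgroup.mem_centralizer_singleton_iff]
  constructor
  · intro h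
    calc k * z * k⁻¹ = g * ((g⁻¹ * k) * z) * k⁻¹ := by group
      _ = g * (z * (g⁻¹ * k)) * k⁻¹ := by rw [h]
      _ = g * z * g⁻¹ := by group
  · intro h
    calc (g⁻¹ * k) * z = g⁻¹ * (k * z * k⁻¹) * k := by group
      _ = g⁻¹ * (g * z * g⁻¹) * k := by rw [h]
      _ = z * (g⁻¹ * k) := by group

/-- if an element of odd order inverts `y` then `y = y⁻¹`. -/
theorem inv_eq_of_odd_inverts {a y : G} (ha : Odd (orderOf a)) (h : a * y * a⁻¹ = y⁻¹) :
    y⁻¹ = y := by
  have hy2 : ∀ n : ℕ, a ^ (2 * n) * y * (a ^ (2 * n))⁻¹ = y := by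
    intro n
    induction n with
    | zero => simp
    | succ n ih =>
      calc a ^ (2 * (n + 1)) * y * (a ^ (2 * (n + 1)))⁻¹
          = a * (a * (a ^ (2 * n) * y * (a ^ (2 * n))⁻¹) * a⁻¹) * a⁻¹ := by
            rw [show 2 * (n + 1) = 2 * n + 1 + 1 by ring, pow_succ', pow_succ']; group
        _ = a * (a * y * a⁻¹) * a⁻¹ := by rw [ih]
        _ = a * y⁻¹ * a⁻¹ := by rw [h]
        _ = (a * y * a⁻¹)⁻¹ := by group
        _ = y := by rw [h, inv_inv]
  obtain ⟨m, hm⟩ := ha
  have h1 : a ^ (2 * m) * a = 1 := by rw [← pow_succ, ← hm]; exact pow_orderOf_eq_one _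
  have h2 : a ^ (2 * m) = a⁻¹ := eq_inv_of_mul_eq_one_left h1
  have h4 := hy2 m
  rw [h2, inv_inv] at h4
  calc y⁻¹ = a * y * a⁻¹ := h.symm
    _ = a * (a⁻¹ * y * a) * a⁻¹ := by rw [h4]
    _ = y := by group

end Cfsg.Agent.TwoFusion.Isolated
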