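import Cfsg.Prelude.Def_CaseTheorems
import Cfsg.Agent.S0519
import Cfsg.Agent.Transfer.PGroupNormal

/-!
# 2-groups without normal Klein four-subgroups

* `dihedral_or_qd_of_no_normal_four`: a finite 2-group which has a Klein four-subgroup but no normal one is
  dihedral or quasi-dihedral.
* `isKleinFour_of_card_of_sq`: a subgroup of order 4 in which every element squares to 1 is a Klein four-group.
-/

set_option autoImplicit false

namespace Cfsg.Agent.TwoFusion.NoNormalFour

open Subgroup

theorem isKleinFour_of_card_of_sq {G : Type*} [Group G] (h4 : Nat.card G = 4) (h2 : ∀ g : G, g * g = 1) :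
    IsKleinFour G := by
  haveI : Finite G := Nat.finite_of_card_ne_zero (by rw [h4]; norm_num)
  haveI : Nontrivial G := by
    rw [← Finite.one_lt_card_iff_nontrivial, h4]
    norm_num
  refine ⟨h4, ?_⟩
  rw [Monoid.exponent_eq_prime_iff Nat.prime_two]
  intro g hg
  exact orderOf_eq_prime (by rw [pow_two]; exact h2 g) hg

theorem isCyclic_of_no_normal_four {S : Type*} [Group S] [Finite S] (hS : IsPGroup 2 S)
    (hno : ∀ E : Subgroup S, E.Normal → ¬ IsKleinFour E) (A : Subgroup S) (hA : A.Normal)
    (hcomm : IsMulCommutative A) : IsCyclic A := by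
  haveI : Fact (Nat.Prime 2) := ⟨Nat.prime_two⟩
  by_contra hnc
  letI : CommGroup A := { (inferInstance : Group A) with mul_comm := fun a b => hcomm.is_comm.comm a b }
  have hAp : IsPGroup 2 A := hS.to_subgroup A
  have hker : ¬ Nat.card (powMonoidHom 2 : A →* A).ker ≤ 2 := fun h =>
    hnc (Cfsg.Agent.Transfer.PGroupNormal.isCyclic_of_card_ker_pow_le hAp h)
  set Ω : Subgroup S := (powMonoidHom 2 : A →* A).ker.map A.subtype with hΩ
  have hΩmem : ∀ x : S, x ∈ Ω ↔ x ∈ A ∧ x * x = 1 := by
    intro x
    rw [hΩ, Subgroup.mem_map]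
    constructor
    · rintro ⟨a, ha, rfl⟩
      refine ⟨a.2, ?_⟩
      have h1 : a ^ 2 = 1 := ha
      rw [pow_two] at h1
      exact congrArg Subtype.val h1
    · rintro ⟨hx, hxx⟩
      refine ⟨⟨x, hx⟩, ?_, rfl⟩
      show (⟨x, hx⟩ : A) ^ 2 = 1
      rw [pow_two]
      exact Subtype.ext hxx
  have hΩn : Ω.Normal := by
    refine ⟨fun x hx g => ?_⟩
    rw [hΩmem] at hx ⊢
    refine ⟨hA.conj_mem x hx.1 g, ?_⟩
    calc g * x * g⁻¹ * (g * x * g⁻¹) = g * (x * x) * g⁻¹ := by group
      _ = 1 := by rw [hx.2]; group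
  have hcard : Nat.card Ω = Nat.card (powMonoidHom 2 : A →* A).ker := by
    rw [hΩ]
    exact Nat.card_congr (Subgroup.equivMapOfInjective _ _ A.subtype_injective).symm.toEquiv
  have h4 : 2 ^ 2 ≤ Nat.card Ω := by
    obtain ⟨k, hk⟩ := IsPGroup.iff_card.mp (hS.to_subgroup Ω)
    rw [← hcard, hk] at hker
    rw [hk]
    have hk2 : 2 ≤ k := by
      by_contra hlt
      apply hker
      interval_cases k <;> norm_num
    exact Nat.pow_le_pow_right (by norm_num) hk2
  obtain ⟨M, hM, hMΩ, hMc⟩ := Cfsg.Agent.Transfer.PGroupNormal.exists_normal_le_card hS hΩn h4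
  apply hno M hM
  refine isKleinFour_of_card_of_sq (by rw [hMc]; norm_num) ?_
  rintro ⟨m, hm⟩
  exact Subtype.ext ((hΩmem m).mp (hMΩ hm)).2

/-- A (generalized) quaternion group contains no Klein four-subgroup. -/
theorem not_isKleinFour_of_quaternion {S : Type*} [Group S] [Finite S] (n : ℕ) (e : S ≃* QuaternionGroup n)
    (E : Subgroup S) : ¬ IsKleinFour E := by
  intro hE
  have hn0 : n ≠ 0 := by
    rintro rfl
    have hf : Finite (QuaternionGroup 0) := Finite.of_equiv _ e.toEquiv
    have : Function.Injective (fun z : ℤ => (QuaternionGroup.a (z : ZMod (2 * 0)) : QuaternionGroup 0)) := by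
      intro z w h
      exact QuaternionGroup.a.inj h
    exact (Infinite.of_injective _ this).not_finite hf
  haveI : NeZero n := ⟨hn0⟩
  -- the involutions of the quaternion group coincide
  have key : ∀ x : QuaternionGroup n, x * x = 1 → x ≠ 1 → x = QuaternionGroup.a (n : ZMod (2 * n)) := by
    intro x hx hx1
    rcases x with i | i
    · rw [QuaternionGroup.a_mul_a, QuaternionGroup.one_def] at hx
      have h1 := QuaternionGroup.a.inj hx
      congr 1
      have h2 : i ≠ 0 := by
        rintro rfl
        exact hx1 QuaternionGroup.one_def.symm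
      -- `2 * i = 0` in `ZMod (2 * n)`
      have h3 : (2 * n : ℕ) ∣ 2 * i.val := by
        rw [← ZMod.natCast_eq_zero_iff, Nat.cast_mul, ZMod.natCast_zmod_val, Nat.cast_two]
        calc (2 : ZMod (2 * n)) * i = i + i := by ring
          _ = 0 := h1
      have h4 : n ∣ i.val := (Nat.mul_dvd_mul_iff_left (by norm_num : 0 < 2)).mp h3
      have h5 : i.val < 2 * n := ZMod.val_lt i
      have h6 : i.val ≠ 0 := by
        rw [Ne, ZMod.val_eq_zero]
        exact h2
      obtain ⟨c, hc⟩ := h4
      have h7 : c = 1 := by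
        have hn : 0 < n := Nat.pos_of_ne_zero hn0
        rw [hc] at h5 h6
        have h8 : c < 2 := by
          by_contra h
          have : n * 2 ≤ n * c := Nat.mul_le_mul_left n (by omega)
          omega
        have h9 : c ≠ 0 := by
          rintro rfl
          simp at h6
        omega
      rw [h7, mul_one] at hc
      have h8 : ((i.val : ℕ) : ZMod (2 * n)) = (n : ℕ) := congrArg _ hc
      rw [ZMod.natCast_zmod_val] at h8
      exact h8
    · rw [QuaternionGroup.xa_mul_xa, QuaternionGroup.one_def] at hx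
      have h1 := QuaternionGroup.a.inj hx
      exfalso
      have h2 : ((n : ℕ) : ZMod (2 * n)) = 0 := by simpa using h1
      rw [ZMod.natCast_eq_zero_iff] at h2
      have h3 := Nat.le_of_dvd (Nat.pos_of_ne_zero hn0) h2
      omega
  haveI := hE
  have hfin : Finite E := inferInstance
  obtain ⟨x, y, hx, hy, hxy⟩ : ∃ x y : E, x ≠ 1 ∧ y ≠ 1 ∧ x ≠ y := by
    have h4 : Nat.card E = 4 := hE.card_four
    haveI := Fintype.ofFinite E
    classical
    rw [Nat.card_eq_fintype_card] at h4
    have h5 : 2 < (Finset.univ : Finset E).card := by rw [Finset.card_univ, h4]; norm_num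
    obtain ⟨a, -, b, -, c, -, hab, hac, hbc⟩ := Finset.two_lt_card.mp h5
    by_cases h1 : a = 1
    · exact ⟨b, c, fun h => hab (h1.trans h.symm), fun h => hac (h1.trans h.symm), hbc⟩
    · by_cases h2 : b = 1
      · exact ⟨a, c, h1, fun h => hbc (h2.trans h.symm), hac⟩
      · exact ⟨a, b, h1, h2, hab⟩
  have hxx := IsKleinFour.mul_self x
  have hyy := IsKleinFour.mul_self y
  have h1 := key (e x) (by rw [← map_mul, ← Subgroup.coe_mul, hxx]; simp) (by
    intro h
    apply hx
    have := (map_eq_one_iff e e.injective).mp h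
    exact_mod_cast this)
  have h2 := key (e y) (by rw [← map_mul, ← Subgroup.coe_mul, hyy]; simp) (by
    intro h
    apply hy
    have := (map_eq_one_iff e e.injective).mp h
    exact_mod_cast this)
  exact hxy (Subtype.ext (e.injective (h1.trans h2.symm)))

/-- A finite 2-group which has a Klein four-subgroup but no normal one is dihedral or quasi-dihedral. -/
theorem dihedral_or_qd_of_no_normal_four {S : Type*} [Group S] [Finite S] (hS : IsPGroup 2 S)
    (hfour : ∃ E : Subgroup S, IsKleinFour E) (hno : ∀ E : Subgroup S, E.Normal → ¬ IsKleinFour E) :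
    (∃ m : ℕ, 2 ≤ m ∧ Nonempty (S ≃* DihedralGroup m)) ∨ Cfsg.IsQuasiDihedral S := by
  haveI : Fact (Nat.Prime 2) := ⟨Nat.prime_two⟩
  obtain ⟨E, hE⟩ := hfour
  obtain ⟨-, h⟩ := Cfsg.Agent.S0519.result 2 hS (isCyclic_of_no_normal_four hS hno)
    ⟨E, by haveI := hE; exact IsKleinFour.isMulCommutative, by haveI := hE; exact IsKleinFour.not_isCyclic⟩
  rcases h with ⟨n, ⟨e⟩⟩ | ⟨n, hn, he⟩ | h
  · exact absurd hE (not_isKleinFour_of_quaternion n e E)
  · exact Or.inl ⟨n, by omega, he⟩
  · exact Or.inr h

end Cfsg.Agent.TwoFusion.NoNormalFour
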