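import Mathlib
import Cfsg.Prelude.Def_CaseTheorems

/-!
Coordinates (normal form) for quasi-dihedral 2-groups: every element of `S` is uniquely
`u a` or `u a * y` with `a : ZMod (2 ^ n)`, and `y * u a = u ((2 ^ (n - 1) - 1) * a) * y`.
-/

set_option autoImplicit false

namespace Cfsg.Agent.TwoFusion.QDBasic

/-- Coordinates on a quasi-dihedral 2-group of order `2 ^ (n + 1)`. -/
structure IsQDCoord {S : Type*} [Group S] (n : ℕ) (u : ZMod (2 ^ n) → S) (y : S) : Prop where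
  three_le : 3 ≤ n
  card : Nat.card S = 2 ^ (n + 1)
  u_zero : u 0 = 1
  u_mul : ∀ a b, u a * u b = u (a + b)
  u_inj : ∀ a b, u a = u b → a = b
  y_u : ∀ a, y * u a = u (((2 : ZMod (2 ^ n)) ^ (n - 1) - 1) * a) * y
  y_y : y * y = 1
  u_ne : ∀ a b, u a ≠ u b * y
  cases : ∀ s : S, (∃ a, s = u a) ∨ (∃ a, s = u a * y)

/-! ### Arithmetic in `ZMod (2 ^ n)` -/

theorem two_pow_eq_zero (n : ℕ) : (2 : ZMod (2 ^ n)) ^ n = 0 := by
  have h := ZMod.natCast_self (2 ^ n)
  push_cast at h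
  exact h

theorem two_mul_half (n : ℕ) (hn : 1 ≤ n) : (2 : ZMod (2 ^ n)) * 2 ^ (n - 1) = 0 := by
  rw [← pow_succ', Nat.sub_add_cancel hn]
  exact two_pow_eq_zero n

theorem half_mul_half (n : ℕ) (hn : 2 ≤ n) : (2 : ZMod (2 ^ n)) ^ (n - 1) * 2 ^ (n - 1) = 0 := by
  rw [← pow_add]
  have : n - 1 + (n - 1) = n + (n - 2) := by omega
  rw [this, pow_add, two_pow_eq_zero, zero_mul]

theorem natCast_eq_zero_iff (n k : ℕ) : ((k : ℕ) : ZMod (2 ^ n)) = 0 ↔ 2 ^ n ∣ k :=
  ZMod.natCast_eq_zero_iff k (2 ^ n)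

theorem half_ne_zero (n : ℕ) (hn : 1 ≤ n) : (2 : ZMod (2 ^ n)) ^ (n - 1) ≠ 0 := by
  intro h
  have h' : ((2 ^ (n - 1) : ℕ) : ZMod (2 ^ n)) = 0 := by push_cast; exact h
  rw [natCast_eq_zero_iff] at h'
  have := Nat.le_of_dvd (by positivity) h'
  have h2 : 2 ^ (n - 1) < 2 ^ n := Nat.pow_lt_pow_right (by norm_num) (by omega)
  omega

/-- `2 * a = 0` iff `a` is `0` or `2 ^ (n - 1)`. -/
theorem two_mul_eq_zero_iff (n : ℕ) (hn : 1 ≤ n) (a : ZMod (2 ^ n)) :
    2 * a = 0 ↔ a = 0 ∨ a = 2 ^ (n - 1) := by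
  constructor
  · intro h
    have ha : a = ((a.val : ℕ) : ZMod (2 ^ n)) := (ZMod.natCast_zmod_val a).symm
    have hlt : a.val < 2 ^ n := ZMod.val_lt a
    rw [ha] at h
    have h' : ((2 * a.val : ℕ) : ZMod (2 ^ n)) = 0 := by push_cast; simpa using h
    rw [natCast_eq_zero_iff] at h'
    obtain ⟨m, hm⟩ : ∃ m, n = m + 1 := ⟨n - 1, by omega⟩
    subst hm
    have h3 : 2 ^ m ∣ a.val := by
      obtain ⟨k, hk⟩ := h'
      have h6 : 2 ^ (m + 1) = 2 * 2 ^ m := pow_succ' 2 m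
      refine ⟨k, ?_⟩
      have h7 : 2 * a.val = 2 * (2 ^ m * k) := by
        rw [hk]
        conv_lhs => rw [h6, mul_assoc]
      exact Nat.eq_of_mul_eq_mul_left (by norm_num) h7
    obtain ⟨c, hc⟩ := h3
    have h4 : c < 2 := by
      by_contra hcon
      push Not at hcon
      have h5 : 2 ^ m * 2 ≤ 2 ^ m * c := Nat.mul_le_mul_left _ hcon
      have h6 : 2 ^ (m + 1) = 2 ^ m * 2 := pow_succ 2 m
      omega
    interval_cases c
    · left
      rw [ha, hc]; simp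
    · right
      rw [ha, hc]; simp
  · rintro (h | h)
    · rw [h, mul_zero]
    · rw [h]; exact two_mul_half n hn

/-- every element of `ZMod (2 ^ n)` is even or odd. -/
theorem even_or_odd' (n : ℕ) (a : ZMod (2 ^ n)) : (∃ b, a = 2 * b) ∨ (∃ b, a = 2 * b + 1) := by
  have ha : a = ((a.val : ℕ) : ZMod (2 ^ n)) := (ZMod.natCast_zmod_val a).symm
  rcases Nat.even_or_odd' a.val with ⟨k, hk | hk⟩
  · left; exact ⟨(k : ZMod (2 ^ n)), by rw [ha, hk]; push_cast; ring⟩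
  · right; exact ⟨(k : ZMod (2 ^ n)), by rw [ha, hk]; push_cast; ring⟩

/-- an even element is not odd. -/
theorem two_mul_ne_two_mul_add_one (n : ℕ) (hn : 1 ≤ n) (a b : ZMod (2 ^ n)) :
    2 * a ≠ 2 * b + 1 := by
  intro h
  have h1 : 2 * (a - b) = 1 := by linear_combination h
  have h2 : (2 : ZMod (2 ^ n)) ^ (n - 1) = 0 := by
    calc (2 : ZMod (2 ^ n)) ^ (n - 1) = 2 ^ (n - 1) * (2 * (a - b)) := by rw [h1, mul_one]
      _ = (2 * 2 ^ (n - 1)) * (a - b) := by ring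
      _ = 0 := by rw [two_mul_half n hn, zero_mul]
  exact half_ne_zero n hn h2

/-- `2 ^ (n - 1)` annihilates exactly the even elements. -/
theorem half_mul_eq_zero_iff (n : ℕ) (hn : 1 ≤ n) (a : ZMod (2 ^ n)) :
    (2 : ZMod (2 ^ n)) ^ (n - 1) * a = 0 ↔ ∃ b, a = 2 * b := by
  constructor
  · intro h
    rcases even_or_odd' n a with hb | ⟨b, hb⟩
    · exact hb
    · exfalso
      apply half_ne_zero n hn
      have h2 : (2 : ZMod (2 ^ n)) ^ (n - 1) = 2 ^ (n - 1) * a - (2 * 2 ^ (n - 1)) * b := by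
        rw [hb]; ring
      rw [h2, h, two_mul_half n hn]; ring
  · rintro ⟨b, rfl⟩
    calc (2 : ZMod (2 ^ n)) ^ (n - 1) * (2 * b) = (2 * 2 ^ (n - 1)) * b := by ring
      _ = 0 := by rw [two_mul_half n hn, zero_mul]

theorem half_mul_odd (n : ℕ) (hn : 1 ≤ n) (b : ZMod (2 ^ n)) :
    (2 : ZMod (2 ^ n)) ^ (n - 1) * (2 * b + 1) = 2 ^ (n - 1) := by
  calc (2 : ZMod (2 ^ n)) ^ (n - 1) * (2 * b + 1) = (2 * 2 ^ (n - 1)) * b + 2 ^ (n - 1) := by ring
      _ = 2 ^ (n - 1) := by rw [two_mul_half n hn, zero_mul, zero_add]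

/-- an odd element is a unit. -/
theorem isUnit_odd (n : ℕ) (b : ZMod (2 ^ n)) : IsUnit (2 * b + 1) := by
  have h : IsNilpotent (2 * b) := by
    refine ⟨n, ?_⟩
    rw [mul_pow, two_pow_eq_zero, zero_mul]
  exact h.isUnit_add_one

/-- a unit is odd. -/
theorem odd_of_isUnit (n : ℕ) (hn : 1 ≤ n) (a : ZMod (2 ^ n)) (h : IsUnit a) :
    ∃ b, a = 2 * b + 1 := by
  rcases even_or_odd' n a with ⟨b, hb⟩ | hb
  · exfalso
    have h2 : (2 : ZMod (2 ^ n)) ^ (n - 1) * a = 0 := (half_mul_eq_zero_iff n hn a).2 ⟨b, hb⟩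
    have h3 := h.mul_left_eq_zero.1 h2
    exact half_ne_zero n hn h3
  · exact hb

/-! ### Powers of an element of order `N` as a function on `ZMod N` -/

theorem pow_val_natCast {S : Type*} [Group S] (N : ℕ) (x : S) (hx : orderOf x = N)
    (k : ℕ) : x ^ ((k : ZMod N).val) = x ^ k := by
  rw [ZMod.val_natCast, ← hx, pow_mod_orderOf]

theorem pow_val_add {S : Type*} [Group S] (N : ℕ) [NeZero N] (x : S) (hx : orderOf x = N)
    (a b : ZMod N) : x ^ a.val * x ^ b.val = x ^ (a + b).val := by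
  rw [ZMod.val_add, ← pow_add]
  conv_lhs => rw [← pow_mod_orderOf x, hx]

theorem pow_val_inj {S : Type*} [Group S] (N : ℕ) [NeZero N] (x : S) (hx : orderOf x = N)
    (a b : ZMod N) (h : x ^ a.val = x ^ b.val) : a = b := by
  have h1 := pow_injOn_Iio_orderOf (x := x) (by rw [hx]; exact Set.mem_Iio.2 (ZMod.val_lt a))
    (by rw [hx]; exact Set.mem_Iio.2 (ZMod.val_lt b)) h
  exact ZMod.val_injective N h1

/-! ### Existence of coordinates -/

theorem exists_qdcoord_of {S : Type*} [Group S] [Finite S] (n : ℕ) (hn : 3 ≤ n)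
    (hc : Nat.card S = 2 ^ (n + 1)) (x y : S) (hx : orderOf x = 2 ^ n) (hy : orderOf y = 2)
    (hyx : y * x * y⁻¹ = x ^ (2 ^ (n - 1) - 1)) :
    IsQDCoord n (fun a : ZMod (2 ^ n) => x ^ a.val) y := by
  have key : ∀ a : ZMod (2 ^ n),
      y * x ^ a.val = x ^ ((((2 : ZMod (2 ^ n)) ^ (n - 1) - 1) * a).val) * y := by
    intro a
    have h1 : y * x ^ a.val * y⁻¹ = x ^ ((2 ^ (n - 1) - 1) * a.val) := by
      rw [← conj_pow, hyx, ← pow_mul]
    have h2 : (((2 : ZMod (2 ^ n)) ^ (n - 1) - 1) * a) =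
        (((2 ^ (n - 1) - 1) * a.val : ℕ) : ZMod (2 ^ n)) := by
      have h3 : 1 ≤ 2 ^ (n - 1) := Nat.one_le_two_pow
      rw [Nat.cast_mul, Nat.cast_sub h3, ZMod.natCast_zmod_val a]
      push_cast
      ring
    rw [h2, pow_val_natCast _ x hx, ← h1]
    group
  have hyy : y * y = 1 := by rw [← pow_two, ← hy, pow_orderOf_eq_one]
  have hune : ∀ a b : ZMod (2 ^ n), x ^ a.val ≠ x ^ b.val * y := by
    intro a b h
    have h1 : y = x ^ (a - b).val := by
      have h2 : x ^ b.val * x ^ (a - b).val = x ^ a.val := by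
        rw [pow_val_add _ x hx]; congr 2; ring
      rw [← h2] at h
      exact (mul_left_cancel h).symm
    have h3 : y * x * y⁻¹ = x := by
      rw [h1]
      have : Commute (x ^ (a - b).val) x := (Commute.refl x).pow_left _
      rw [this.eq, mul_assoc, mul_inv_cancel, mul_one]
    rw [hyx] at h3
    have h4 : x ^ (2 ^ (n - 1) - 1) = x ^ 1 := by rw [pow_one]; exact h3
    rw [pow_inj_mod, hx] at h4
    have h5 : 4 ≤ 2 ^ (n - 1) := by
      calc 4 = 2 ^ 2 := by norm_num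
        _ ≤ 2 ^ (n - 1) := Nat.pow_le_pow_right (by norm_num) (by omega)
    have h6 : 2 ^ (n - 1) < 2 ^ n := Nat.pow_lt_pow_right (by norm_num) (by omega)
    rw [Nat.mod_eq_of_lt (by omega), Nat.mod_eq_of_lt (by omega)] at h4
    omega
  refine ⟨hn, hc, by simp, fun a b => pow_val_add _ x hx a b, fun a b h => pow_val_inj _ x hx a b h,
    key, hyy, hune, ?_⟩
  have hinj : Function.Injective (fun p : ZMod (2 ^ n) ⊕ ZMod (2 ^ n) =>
      Sum.elim (fun a => x ^ a.val) (fun a => x ^ a.val * y) p) := by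
    rintro (a | a) (b | b) h
    · exact congrArg _ (pow_val_inj _ x hx a b h)
    · exact absurd h (hune a b)
    · exact absurd h.symm (hune b a)
    · exact congrArg _ (pow_val_inj _ x hx a b (mul_right_cancel h))
  have hbij := (Nat.bijective_iff_injective_and_card _).2 ⟨hinj, by
    rw [Nat.card_sum, Nat.card_zmod, hc]; ring⟩
  intro s
  obtain ⟨p, hp⟩ := hbij.2 s
  rcases p with a | a
  · left; exact ⟨a, hp.symm⟩
  · right; exact ⟨a, hp.symm⟩

theorem exists_qdcoord {S : Type*} [Group S] [Finite S] (h : Cfsg.IsQuasiDihedral S) :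
    ∃ (n : ℕ) (u : ZMod (2 ^ n) → S) (y : S), IsQDCoord n u y := by
  obtain ⟨n, hn, hc, x, y, hx, hy, hyx⟩ := h
  exact ⟨n, _, y, exists_qdcoord_of n hn hc x y hx hy hyx⟩

/-- The version with a prescribed exponent. -/
theorem exists_qdcoord' {S : Type*} [Group S] [Finite S] (h : Cfsg.IsQuasiDihedral S) (n : ℕ)
    (hn : Nat.card S = 2 ^ (n + 1)) :
    ∃ (u : ZMod (2 ^ n) → S) (y : S), IsQDCoord n u y := by
  obtain ⟨m, u, y, hm⟩ := exists_qdcoord h
  have h1 : m = n := by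
    have h2 := hm.card
    rw [hn] at h2
    have h3 := Nat.pow_right_injective (le_refl 2) h2
    omega
  subst h1
  exact ⟨u, y, hm⟩

namespace IsQDCoord

variable {S : Type*} [Group S] {n : ℕ} {u : ZMod (2 ^ n) → S} {y : S}

theorem one_le (h : IsQDCoord n u y) : 1 ≤ n := by have := h.three_le; omega

theorem two_le (h : IsQDCoord n u y) : 2 ≤ n := by have := h.three_le; omega

theorem finite (h : IsQDCoord n u y) : Finite S :=
  Nat.finite_of_card_ne_zero (by rw [h.card]; positivity)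

theorem u_eq_iff (h : IsQDCoord n u y) (a b : ZMod (2 ^ n)) : u a = u b ↔ a = b :=
  ⟨h.u_inj a b, fun e => by rw [e]⟩

theorem u_eq_one_iff (h : IsQDCoord n u y) (a : ZMod (2 ^ n)) : u a = 1 ↔ a = 0 := by
  rw [← h.u_zero]; exact h.u_eq_iff a 0

theorem u_inv (h : IsQDCoord n u y) (a : ZMod (2 ^ n)) : (u a)⁻¹ = u (-a) := by
  rw [inv_eq_iff_mul_eq_one, h.u_mul, add_neg_cancel, h.u_zero]

theorem y_inv (h : IsQDCoord n u y) : y⁻¹ = y := inv_eq_of_mul_eq_one_left h.y_y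

theorem u_pow (h : IsQDCoord n u y) (a : ZMod (2 ^ n)) (k : ℕ) : u a ^ k = u (k * a) := by
  induction k with
  | zero => simp [h.u_zero]
  | succ k ih => rw [pow_succ, ih, h.u_mul]; congr 1; push_cast; ring

theorem u_one_pow (h : IsQDCoord n u y) (k : ℕ) : u 1 ^ k = u k := by
  rw [h.u_pow, mul_one]

theorem u_eq_pow (h : IsQDCoord n u y) (a : ZMod (2 ^ n)) : u a = u 1 ^ a.val := by
  rw [h.u_one_pow, ZMod.natCast_zmod_val]

/-- `y * u a * y⁻¹`. -/
theorem y_conj (h : IsQDCoord n u y) (a : ZMod (2 ^ n)) :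
    y * u a * y⁻¹ = u ((2 ^ (n - 1) - 1) * a) := by
  rw [h.y_u, mul_assoc, mul_inv_cancel, mul_one]

theorem u_y (h : IsQDCoord n u y) (a : ZMod (2 ^ n)) :
    u a * y = y * u ((2 ^ (n - 1) - 1) * a) := by
  rw [h.y_u]
  congr 2
  have := half_mul_half n h.two_le
  have h2 := two_mul_half n h.one_le
  linear_combination (-a) * this + a * h2

/-- product of two elements outside the cyclic maximal subgroup -/
theorem uy_mul_uy (h : IsQDCoord n u y) (a b : ZMod (2 ^ n)) :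
    (u a * y) * (u b * y) = u (a + (2 ^ (n - 1) - 1) * b) := by
  rw [mul_assoc, ← mul_assoc y, h.y_u, mul_assoc, h.y_y, mul_one, h.u_mul]

theorem uy_mul_u (h : IsQDCoord n u y) (a b : ZMod (2 ^ n)) :
    (u a * y) * u b = u (a + (2 ^ (n - 1) - 1) * b) * y := by
  rw [mul_assoc, h.y_u, ← mul_assoc, h.u_mul]

theorem u_mul_uy (h : IsQDCoord n u y) (a b : ZMod (2 ^ n)) :
    u a * (u b * y) = u (a + b) * y := by
  rw [← mul_assoc, h.u_mul]

/-- the square of an element outside the cyclic maximal subgroup -/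
theorem uy_sq (h : IsQDCoord n u y) (a : ZMod (2 ^ n)) :
    (u a * y) ^ 2 = u (2 ^ (n - 1) * a) := by
  rw [pow_two, h.uy_mul_uy]; congr 1; ring

theorem uy_inv (h : IsQDCoord n u y) (a : ZMod (2 ^ n)) :
    (u a * y)⁻¹ = u ((1 - 2 ^ (n - 1)) * a) * y := by
  rw [inv_eq_iff_mul_eq_one, h.uy_mul_uy, ← h.u_zero]
  congr 1
  have := half_mul_half n h.two_le
  have h2 := two_mul_half n h.one_le
  linear_combination (-a) * this + a * h2

/-- conjugation by `u c` on the outer coset -/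
theorem u_conj_uy (h : IsQDCoord n u y) (c a : ZMod (2 ^ n)) :
    u c * (u a * y) * (u c)⁻¹ = u (a + (2 - 2 ^ (n - 1)) * c) * y := by
  rw [h.u_inv, h.u_mul_uy, h.uy_mul_u]
  congr 2; ring

/-- conjugation by `y` on the outer coset -/
theorem y_conj_uy (h : IsQDCoord n u y) (a : ZMod (2 ^ n)) :
    y * (u a * y) * y⁻¹ = u ((2 ^ (n - 1) - 1) * a) * y := by
  rw [← mul_assoc, h.y_u, mul_assoc, mul_assoc, mul_inv_cancel, mul_one]

/-- conjugation by `u c` on the inner coset -/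
theorem u_conj_u (h : IsQDCoord n u y) (c a : ZMod (2 ^ n)) :
    u c * u a * (u c)⁻¹ = u a := by
  rw [h.u_inv, h.u_mul, h.u_mul]
  congr 1; ring

/-- conjugation by `u c * y` on the inner coset -/
theorem uy_conj_u (h : IsQDCoord n u y) (c a : ZMod (2 ^ n)) :
    (u c * y) * u a * (u c * y)⁻¹ = u ((2 ^ (n - 1) - 1) * a) := by
  rw [mul_inv_rev, mul_assoc (u c), h.y_u]
  rw [show u c * (u ((2 ^ (n - 1) - 1) * a) * y) * (y⁻¹ * (u c)⁻¹) =
    u c * u ((2 ^ (n - 1) - 1) * a) * (u c)⁻¹ by group]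
  exact h.u_conj_u _ _

end IsQDCoord

end Cfsg.Agent.TwoFusion.QDBasic
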