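import Mathlib
import Cfsg.Prelude.Def_CaseTheorems
import Cfsg.Agent.TwoFusion.QDBasic

/-!
Coordinates (normal form) for wreathed 2-groups: every element of `S` is uniquely
`u a b` or `u a b * z` with `a b : ZMod (2 ^ n)`, and `z * u a b = u b a * z`.
-/

set_option autoImplicit false

namespace Cfsg.Agent.TwoFusion.WreathedBasic

open Cfsg.Agent.TwoFusion.QDBasic

/-- Coordinates on a wreathed 2-group of order `2 ^ (2 * n + 1)`. -/
structure IsWCoord {S : Type*} [Group S] (n : ℕ) (u : ZMod (2 ^ n) → ZMod (2 ^ n) → S) (z : S) :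
    Prop where
  two_le : 2 ≤ n
  card : Nat.card S = 2 ^ (2 * n + 1)
  u_zero : u 0 0 = 1
  u_mul : ∀ a b c d, u a b * u c d = u (a + c) (b + d)
  u_inj : ∀ a b c d, u a b = u c d → a = c ∧ b = d
  z_u : ∀ a b, z * u a b = u b a * z
  z_z : z * z = 1
  u_ne : ∀ a b c d, u a b ≠ u c d * z
  cases : ∀ s : S, (∃ a b, s = u a b) ∨ (∃ a b, s = u a b * z)

theorem exists_wcoord_of {S : Type*} [Group S] [Finite S] (n : ℕ) (hn : 2 ≤ n)
    (hc : Nat.card S = 2 ^ (2 * n + 1)) (x y z : S) (hx : orderOf x = 2 ^ n)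
    (hxy : x * y = y * x) (hb : Subgroup.zpowers x ⊓ Subgroup.zpowers y = ⊥)
    (hz : orderOf z = 2) (hzx : z * x * z⁻¹ = y) :
    IsWCoord n (fun a b : ZMod (2 ^ n) => x ^ a.val * y ^ b.val) z := by
  have hzz : z * z = 1 := by rw [← pow_two, ← hz, pow_orderOf_eq_one]
  have hy : orderOf y = 2 ^ n := by
    rw [← hx, ← hzx]
    exact (MulAut.conj z).orderOf_eq x
  have hzy : z * y * z⁻¹ = x := by
    rw [← hzx]
    calc z * (z * x * z⁻¹) * z⁻¹ = (z * z) * x * (z * z)⁻¹ := by group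
      _ = x := by rw [hzz]; simp
  have hcomm : Commute x y := hxy
  have hmul : ∀ a b c d : ZMod (2 ^ n),
      (x ^ a.val * y ^ b.val) * (x ^ c.val * y ^ d.val) = x ^ (a + c).val * y ^ (b + d).val := by
    intro a b c d
    rw [← pow_val_add _ x hx, ← pow_val_add _ y hy]
    have h1 : Commute (y ^ b.val) (x ^ c.val) := (hcomm.symm.pow_pow _ _)
    calc (x ^ a.val * y ^ b.val) * (x ^ c.val * y ^ d.val)
        = x ^ a.val * (y ^ b.val * x ^ c.val) * y ^ d.val := by group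
      _ = x ^ a.val * (x ^ c.val * y ^ b.val) * y ^ d.val := by rw [h1.eq]
      _ = x ^ a.val * x ^ c.val * (y ^ b.val * y ^ d.val) := by group
  have hone : (x ^ (0 : ZMod (2 ^ n)).val * y ^ (0 : ZMod (2 ^ n)).val) = 1 := by simp
  have hker : ∀ a b : ZMod (2 ^ n), x ^ a.val * y ^ b.val = 1 → a = 0 ∧ b = 0 := by
    intro a b h
    have h1 : x ^ a.val ∈ Subgroup.zpowers x ⊓ Subgroup.zpowers y := by
      refine ⟨Subgroup.npow_mem_zpowers x _, ?_⟩
      rw [mul_eq_one_iff_eq_inv.1 h]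
      exact Subgroup.inv_mem _ (Subgroup.npow_mem_zpowers y _)
    rw [hb, Subgroup.mem_bot] at h1
    have h2 : y ^ b.val = 1 := by rw [h1, one_mul] at h; exact h
    constructor
    · exact pow_val_inj _ x hx a 0 (by rw [h1, ZMod.val_zero, pow_zero])
    · exact pow_val_inj _ y hy b 0 (by rw [h2, ZMod.val_zero, pow_zero])
  have hinj : ∀ a b c d : ZMod (2 ^ n),
      x ^ a.val * y ^ b.val = x ^ c.val * y ^ d.val → a = c ∧ b = d := by
    intro a b c d h
    have h1 : (x ^ (a - c).val * y ^ (b - d).val) * (x ^ c.val * y ^ d.val) =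
        x ^ c.val * y ^ d.val := by
      rw [hmul, sub_add_cancel, sub_add_cancel, h]
    have h2 := hker _ _ (mul_eq_right.1 h1)
    exact ⟨sub_eq_zero.1 h2.1, sub_eq_zero.1 h2.2⟩
  have hzu : ∀ a b : ZMod (2 ^ n), z * (x ^ a.val * y ^ b.val) = (x ^ b.val * y ^ a.val) * z := by
    intro a b
    have h1 : z * (x ^ a.val * y ^ b.val) * z⁻¹ = y ^ a.val * x ^ b.val := by
      calc z * (x ^ a.val * y ^ b.val) * z⁻¹ = (z * x ^ a.val * z⁻¹) * (z * y ^ b.val * z⁻¹) := by
            group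
        _ = y ^ a.val * x ^ b.val := by rw [← conj_pow, ← conj_pow, hzx, hzy]
    have h2 : Commute (y ^ a.val) (x ^ b.val) := (hcomm.symm.pow_pow _ _)
    rw [h2.eq] at h1
    rw [← h1]; group
  have hune : ∀ a b c d : ZMod (2 ^ n),
      x ^ a.val * y ^ b.val ≠ (x ^ c.val * y ^ d.val) * z := by
    intro a b c d h
    have h1 : (x ^ c.val * y ^ d.val) * (x ^ (a - c).val * y ^ (b - d).val) =
        x ^ a.val * y ^ b.val := by
      rw [hmul, add_sub_cancel, add_sub_cancel]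
    rw [← h1] at h
    have h2 : z = x ^ (a - c).val * y ^ (b - d).val := (mul_left_cancel h).symm
    have h3 : Commute z x := by
      rw [h2]
      exact Commute.mul_left ((Commute.refl x).pow_left _) (hcomm.symm.pow_left _)
    have h4 : x = y := by
      rw [← hzx, h3.eq, mul_assoc, mul_inv_cancel, mul_one]
    have h5 : x ∈ Subgroup.zpowers x ⊓ Subgroup.zpowers y :=
      ⟨Subgroup.mem_zpowers x, by rw [← h4]; exact Subgroup.mem_zpowers x⟩
    rw [hb, Subgroup.mem_bot] at h5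
    rw [h5, orderOf_one] at hx
    have : 2 ^ 1 ≤ 2 ^ n := Nat.pow_le_pow_right (by norm_num) (by omega)
    omega
  refine ⟨hn, hc, hone, hmul, hinj, hzu, hzz, hune, ?_⟩
  have hinj' : Function.Injective
      (fun p : (ZMod (2 ^ n) × ZMod (2 ^ n)) ⊕ (ZMod (2 ^ n) × ZMod (2 ^ n)) =>
      Sum.elim (fun q => x ^ q.1.val * y ^ q.2.val) (fun q => (x ^ q.1.val * y ^ q.2.val) * z) p) := by
    rintro (⟨a, b⟩ | ⟨a, b⟩) (⟨c, d⟩ | ⟨c, d⟩) h
    · obtain ⟨h1, h2⟩ := hinj a b c d h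
      rw [h1, h2]
    · exact absurd h (hune a b c d)
    · exact absurd h.symm (hune c d a b)
    · obtain ⟨h1, h2⟩ := hinj a b c d (mul_right_cancel h)
      rw [h1, h2]
  have hbij := (Nat.bijective_iff_injective_and_card _).2 ⟨hinj', by
    rw [Nat.card_sum, Nat.card_prod, Nat.card_zmod, hc]; ring⟩
  intro s
  obtain ⟨p, hp⟩ := hbij.2 s
  rcases p with ⟨a, b⟩ | ⟨a, b⟩
  · left; exact ⟨a, b, hp.symm⟩
  · right; exact ⟨a, b, hp.symm⟩

theorem exists_wcoord {S : Type*} [Group S] [Finite S] (h : Cfsg.IsWreathed S) :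
    ∃ (n : ℕ) (u : ZMod (2 ^ n) → ZMod (2 ^ n) → S) (z : S), IsWCoord n u z := by
  obtain ⟨n, hn, hc, x, y, z, hx, hxy, hb, hz, hzx⟩ := h
  exact ⟨n, _, z, exists_wcoord_of n hn hc x y z hx hxy hb hz hzx⟩

/-- The version with a prescribed exponent. -/
theorem exists_wcoord' {S : Type*} [Group S] [Finite S] (h : Cfsg.IsWreathed S) (n : ℕ)
    (hn : Nat.card S = 2 ^ (2 * n + 1)) :
    ∃ (u : ZMod (2 ^ n) → ZMod (2 ^ n) → S) (z : S), IsWCoord n u z := by
  obtain ⟨m, u, z, hm⟩ := exists_wcoord h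
  have h1 : m = n := by
    have h2 := hm.card
    rw [hn] at h2
    have h3 := Nat.pow_right_injective (le_refl 2) h2
    omega
  subst h1
  exact ⟨u, z, hm⟩

namespace IsWCoord

variable {S : Type*} [Group S] {n : ℕ} {u : ZMod (2 ^ n) → ZMod (2 ^ n) → S} {z : S}

theorem one_le (h : IsWCoord n u z) : 1 ≤ n := by have := h.two_le; omega

theorem finite (h : IsWCoord n u z) : Finite S :=
  Nat.finite_of_card_ne_zero (by rw [h.card]; positivity)

theorem u_eq_iff (h : IsWCoord n u z) (a b c d : ZMod (2 ^ n)) :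
    u a b = u c d ↔ a = c ∧ b = d :=
  ⟨h.u_inj a b c d, fun e => by rw [e.1, e.2]⟩

theorem u_eq_one_iff (h : IsWCoord n u z) (a b : ZMod (2 ^ n)) : u a b = 1 ↔ a = 0 ∧ b = 0 := by
  rw [← h.u_zero]; exact h.u_eq_iff a b 0 0

theorem u_inv (h : IsWCoord n u z) (a b : ZMod (2 ^ n)) : (u a b)⁻¹ = u (-a) (-b) := by
  rw [inv_eq_iff_mul_eq_one, h.u_mul, add_neg_cancel, add_neg_cancel, h.u_zero]

theorem z_inv (h : IsWCoord n u z) : z⁻¹ = z := inv_eq_of_mul_eq_one_left h.z_z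

theorem z_ne_one (h : IsWCoord n u z) : z ≠ 1 := by
  intro e
  apply h.u_ne 0 0 0 0
  rw [e, mul_one]

theorem orderOf_z (h : IsWCoord n u z) : orderOf z = 2 :=
  orderOf_eq_prime (by rw [pow_two, h.z_z]) h.z_ne_one

theorem uz_ne_one (h : IsWCoord n u z) (a b : ZMod (2 ^ n)) : u a b * z ≠ 1 := by
  intro e
  exact h.u_ne 0 0 a b (by rw [e, h.u_zero])

theorem u_pow (h : IsWCoord n u z) (a b : ZMod (2 ^ n)) (k : ℕ) :
    u a b ^ k = u (k * a) (k * b) := by
  induction k with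
  | zero => simp [h.u_zero]
  | succ k ih => rw [pow_succ, ih, h.u_mul]; congr 1 <;> (push_cast; ring)

theorem u_comm (h : IsWCoord n u z) (a b c d : ZMod (2 ^ n)) :
    u a b * u c d = u c d * u a b := by
  rw [h.u_mul, h.u_mul, add_comm a, add_comm b]

theorem u_z (h : IsWCoord n u z) (a b : ZMod (2 ^ n)) : u a b * z = z * u b a := by
  rw [h.z_u]

theorem z_conj_u (h : IsWCoord n u z) (a b : ZMod (2 ^ n)) : z * u a b * z⁻¹ = u b a := by
  rw [h.z_u, mul_assoc, mul_inv_cancel, mul_one]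

theorem uz_mul_uz (h : IsWCoord n u z) (a b c d : ZMod (2 ^ n)) :
    (u a b * z) * (u c d * z) = u (a + d) (b + c) := by
  rw [mul_assoc, ← mul_assoc z, h.z_u, mul_assoc, h.z_z, mul_one, h.u_mul]

theorem uz_mul_u (h : IsWCoord n u z) (a b c d : ZMod (2 ^ n)) :
    (u a b * z) * u c d = u (a + d) (b + c) * z := by
  rw [mul_assoc, h.z_u, ← mul_assoc, h.u_mul]

theorem u_mul_uz (h : IsWCoord n u z) (a b c d : ZMod (2 ^ n)) :
    u a b * (u c d * z) = u (a + c) (b + d) * z := by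
  rw [← mul_assoc, h.u_mul]

theorem uz_sq (h : IsWCoord n u z) (a b : ZMod (2 ^ n)) :
    (u a b * z) ^ 2 = u (a + b) (a + b) := by
  rw [pow_two, h.uz_mul_uz, add_comm b a]

theorem uz_inv (h : IsWCoord n u z) (a b : ZMod (2 ^ n)) :
    (u a b * z)⁻¹ = u (-b) (-a) * z := by
  rw [inv_eq_iff_mul_eq_one, h.uz_mul_uz, ← h.u_zero]
  congr 1 <;> ring

theorem u_sq (h : IsWCoord n u z) (a b : ZMod (2 ^ n)) :
    u a b ^ 2 = u (2 * a) (2 * b) := by
  rw [pow_two, h.u_mul, two_mul, two_mul]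

/-- conjugation by an element of the base on the base -/
theorem u_conj_u (h : IsWCoord n u z) (a b c d : ZMod (2 ^ n)) :
    u a b * u c d * (u a b)⁻¹ = u c d := by
  rw [h.u_comm, mul_assoc, mul_inv_cancel, mul_one]

/-- conjugation by an element outside of the base on the base -/
theorem uz_conj_u (h : IsWCoord n u z) (a b c d : ZMod (2 ^ n)) :
    (u a b * z) * u c d * (u a b * z)⁻¹ = u d c := by
  rw [h.uz_mul_u, h.uz_inv, h.uz_mul_uz]
  congr 1 <;> ring

/-- conjugation by an element of the base outside the base -/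
theorem u_conj_uz (h : IsWCoord n u z) (a b c d : ZMod (2 ^ n)) :
    u a b * (u c d * z) * (u a b)⁻¹ = u (c + (a - b)) (d - (a - b)) * z := by
  rw [h.u_mul_uz, h.u_inv, h.uz_mul_u]
  congr 2 <;> ring

/-- conjugation by an element outside the base outside the base -/
theorem uz_conj_uz (h : IsWCoord n u z) (a b c d : ZMod (2 ^ n)) :
    (u a b * z) * (u c d * z) * (u a b * z)⁻¹ = u (d + (a - b)) (c - (a - b)) * z := by
  rw [h.uz_mul_uz, h.uz_inv, h.u_mul_uz]
  congr 2 <;> ring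

/-- The base subgroup (the homocyclic abelian maximal subgroup). -/
def base (h : IsWCoord n u z) : Subgroup S where
  carrier := {s | ∃ a b, s = u a b}
  one_mem' := ⟨0, 0, h.u_zero.symm⟩
  mul_mem' := by
    rintro _ _ ⟨a, b, rfl⟩ ⟨c, d, rfl⟩
    exact ⟨a + c, b + d, h.u_mul a b c d⟩
  inv_mem' := by
    rintro _ ⟨a, b, rfl⟩
    exact ⟨-a, -b, h.u_inv a b⟩

theorem mem_base (h : IsWCoord n u z) (s : S) : s ∈ h.base ↔ ∃ a b, s = u a b := Iff.rfl

theorem u_mem_base (h : IsWCoord n u z) (a b : ZMod (2 ^ n)) : u a b ∈ h.base := ⟨a, b, rfl⟩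

theorem uz_not_mem_base (h : IsWCoord n u z) (a b : ZMod (2 ^ n)) : u a b * z ∉ h.base := by
  rintro ⟨c, d, e⟩
  exact h.u_ne c d a b e.symm

theorem z_not_mem_base (h : IsWCoord n u z) : z ∉ h.base := by
  have := h.uz_not_mem_base 0 0
  rwa [h.u_zero, one_mul] at this

theorem not_mem_base (h : IsWCoord n u z) (s : S) : s ∉ h.base ↔ ∃ a b, s = u a b * z := by
  constructor
  · intro hs
    rcases h.cases s with ⟨a, b, e⟩ | e
    · exact absurd ⟨a, b, e⟩ hs
    · exact e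
  · rintro ⟨a, b, rfl⟩
    exact h.uz_not_mem_base a b

/-- The base subgroup is isomorphic to `ZMod (2 ^ n) × ZMod (2 ^ n)`. -/
noncomputable def baseEquiv (h : IsWCoord n u z) :
    Multiplicative (ZMod (2 ^ n) × ZMod (2 ^ n)) ≃* h.base :=
  MulEquiv.ofBijective
    ({ toFun := fun p => ⟨u (Multiplicative.toAdd p).1 (Multiplicative.toAdd p).2,
          h.u_mem_base _ _⟩
       map_one' := Subtype.ext h.u_zero
       map_mul' := fun p q => Subtype.ext (h.u_mul _ _ _ _).symm } :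
      Multiplicative (ZMod (2 ^ n) × ZMod (2 ^ n)) →* h.base)
    (by
      constructor
      · intro p q e
        have e' := congrArg Subtype.val e
        obtain ⟨h1, h2⟩ := h.u_inj _ _ _ _ e'
        exact Multiplicative.toAdd.injective (Prod.ext h1 h2)
      · rintro ⟨s, a, b, rfl⟩
        exact ⟨Multiplicative.ofAdd (a, b), rfl⟩)

theorem baseEquiv_apply (h : IsWCoord n u z) (a b : ZMod (2 ^ n)) :
    (h.baseEquiv (Multiplicative.ofAdd (a, b)) : S) = u a b := rfl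

theorem card_base (h : IsWCoord n u z) : Nat.card h.base = 2 ^ (2 * n) := by
  rw [← Nat.card_congr h.baseEquiv.toEquiv]
  have : Nat.card (Multiplicative (ZMod (2 ^ n) × ZMod (2 ^ n))) =
    Nat.card (ZMod (2 ^ n) × ZMod (2 ^ n)) := Nat.card_congr Multiplicative.toAdd
  rw [this, Nat.card_prod, Nat.card_zmod]; ring

theorem base_comm (h : IsWCoord n u z) : IsMulCommutative h.base := by
  refine ⟨⟨?_⟩⟩
  rintro ⟨s, a, b, rfl⟩ ⟨t, c, d, rfl⟩
  exact Subtype.ext (h.u_comm a b c d)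

theorem index_base (h : IsWCoord n u z) : h.base.index = 2 := by
  have h1 := h.base.card_mul_index
  rw [h.card_base, h.card, pow_succ] at h1
  exact Nat.eq_of_mul_eq_mul_left (by positivity) h1

theorem base_normal (h : IsWCoord n u z) : h.base.Normal :=
  Subgroup.normal_of_index_eq_two h.index_base

/-- The elements of order two. -/
theorem orderOf_u_eq_two_iff (h : IsWCoord n u z) (a b : ZMod (2 ^ n)) :
    orderOf (u a b) = 2 ↔ (a = 2 ^ (n - 1) ∧ b = 0) ∨ (a = 0 ∧ b = 2 ^ (n - 1)) ∨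
      (a = 2 ^ (n - 1) ∧ b = 2 ^ (n - 1)) := by
  rw [orderOf_eq_iff two_pos]
  constructor
  · rintro ⟨h1, h2⟩
    rw [h.u_sq, h.u_eq_one_iff, two_mul_eq_zero_iff n h.one_le, two_mul_eq_zero_iff n h.one_le]
      at h1
    have h3 := h2 1 (by norm_num) (by norm_num)
    rw [pow_one, ne_eq, h.u_eq_one_iff] at h3
    tauto
  · intro h1
    have hh := half_ne_zero n h.one_le
    have h2 := two_mul_half n h.one_le
    constructor
    · rw [h.u_sq, h.u_eq_one_iff]
      rcases h1 with ⟨rfl, rfl⟩ | ⟨rfl, rfl⟩ | ⟨rfl, rfl⟩ <;> simp [h2]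
    · intro m hm hm0
      obtain rfl : m = 1 := by omega
      rw [pow_one, ne_eq, h.u_eq_one_iff]
      rcases h1 with ⟨rfl, rfl⟩ | ⟨rfl, rfl⟩ | ⟨rfl, rfl⟩ <;> simp [hh]

theorem orderOf_uz_eq_two_iff (h : IsWCoord n u z) (a b : ZMod (2 ^ n)) :
    orderOf (u a b * z) = 2 ↔ a + b = 0 := by
  rw [orderOf_eq_iff two_pos]
  constructor
  · rintro ⟨h1, h2⟩
    rw [h.uz_sq, h.u_eq_one_iff] at h1
    exact h1.1
  · intro h1
    constructor
    · rw [h.uz_sq, h1, h.u_zero]
    · intro m hm hm0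
      obtain rfl : m = 1 := by omega
      rw [pow_one]
      exact h.uz_ne_one a b

/-- The centre. -/
theorem mem_center_iff (h : IsWCoord n u z) (s : S) :
    s ∈ Subgroup.center S ↔ ∃ a, s = u a a := by
  rw [Subgroup.mem_center_iff]
  constructor
  · intro hs
    rcases h.cases s with ⟨a, b, rfl⟩ | ⟨a, b, rfl⟩
    · have h1 := hs z
      rw [h.z_u] at h1
      obtain ⟨h2, h3⟩ := h.u_inj _ _ _ _ (mul_right_cancel h1)
      exact ⟨a, by rw [h2]⟩
    · exfalso
      have h1 := hs (u 1 0)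
      rw [h.u_mul_uz, h.uz_mul_u] at h1
      obtain ⟨h2, h3⟩ := h.u_inj _ _ _ _ (mul_right_cancel h1)
      have h4 : (1 : ZMod (2 ^ n)) = 0 := by linear_combination h2
      have h5 : ((1 : ℕ) : ZMod (2 ^ n)) = 0 := by simpa using h4
      rw [natCast_eq_zero_iff] at h5
      have h6 := Nat.le_of_dvd one_pos h5
      have h7 : 2 ^ 1 ≤ 2 ^ n := Nat.pow_le_pow_right (by norm_num) h.one_le
      omega
  · rintro ⟨a, rfl⟩ g
    rcases h.cases g with ⟨c, d, rfl⟩ | ⟨c, d, rfl⟩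
    · exact h.u_comm _ _ _ _
    · rw [h.uz_mul_u, h.u_mul_uz, add_comm c, add_comm d]

theorem u_mem_center_iff (h : IsWCoord n u z) (a b : ZMod (2 ^ n)) :
    u a b ∈ Subgroup.center S ↔ a = b := by
  rw [h.mem_center_iff]
  constructor
  · rintro ⟨c, e⟩
    obtain ⟨h1, h2⟩ := h.u_inj _ _ _ _ e
    rw [h1, h2]
  · rintro rfl
    exact ⟨a, rfl⟩

/-- Coordinates give a wreathed group. -/
theorem isWreathed (h : IsWCoord n u z) : Cfsg.IsWreathed S := by
  refine ⟨n, h.two_le, h.card, u 1 0, u 0 1, z, ?_, h.u_comm _ _ _ _, ?_, h.orderOf_z,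
    h.z_conj_u 1 0⟩
  · have hfin := h.finite
    have hsurj : ∀ k : ℕ, u 1 0 ^ k = 1 ↔ 2 ^ n ∣ k := by
      intro k
      rw [h.u_pow, h.u_eq_one_iff, mul_one, mul_zero, natCast_eq_zero_iff]
      simp
    apply Nat.dvd_antisymm
    · rw [orderOf_dvd_iff_pow_eq_one, hsurj]
    · rw [← hsurj, pow_orderOf_eq_one]
  · rw [eq_bot_iff]
    rintro s ⟨h1, h2⟩
    have hfin := h.finite
    obtain ⟨k, hk⟩ := (mem_powers_iff_mem_zpowers.2 h1)
    obtain ⟨l, hl⟩ := (mem_powers_iff_mem_zpowers.2 h2)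
    simp only at hk hl
    rw [h.u_pow, mul_one, mul_zero] at hk
    rw [h.u_pow, mul_one, mul_zero] at hl
    have h3 := h.u_inj _ _ _ _ (hk.trans hl.symm)
    rw [Subgroup.mem_bot, ← hk, h3.1, h.u_zero]

end IsWCoord

end Cfsg.Agent.TwoFusion.WreathedBasic
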