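import Cfsg.Agent.TwoFusion.ClosedFam

/-!
# The simple case of the product theorem: setup

`Simple 𝒜 ℬ`: `G` is a finite simple group with two disjoint closed families `𝒜, ℬ ≠ {1}`, such that the product
theorem holds in every proper subgroup.
-/

set_option autoImplicit false
set_option linter.style.haveILetI false

namespace Cfsg.Agent.TwoFusion.ClosedSimple

open Subgroup
open Cfsg.Agent.TwoFusion.ClosedFam

variable {G : Type*} [Group G]

/-- The situation in a minimal counterexample. -/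
structure Simple (𝒜 ℬ : Set G) : Prop extends Pair 𝒜 ℬ where
  simple : IsSimpleGroup G
  ind : ∀ H : Subgroup G, H ≠ ⊤ → ⁅fam 𝒜 H, fam ℬ H⁆ ≤ core H
  exists_left : ∃ a ∈ 𝒜, a ≠ 1
  exists_right : ∃ b ∈ ℬ, b ≠ 1

/-- the involutions of the family `𝒜` in `Q` -/
def Inv (𝒜 : Set G) (Q : Subgroup G) : Set G := {a | a ∈ 𝒜 ∧ a ∈ Q ∧ orderOf a = 2}

/-- `O_a = O(C_G(a))` -/
abbrev Oc (a : G) : Subgroup G := Cfsg.centralizerPPrimeCore 2 a

/-- `T(a; b) = [O_a, b] (O_a ∩ O_b)`. -/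
def T (a b : G) : Subgroup G := ⁅Oc a, zpowers b⁆ ⊔ (Oc a ⊓ Oc b)

/-- `W(Q)` is the subgroup generated by the `T(a; b)`, `T(b; a)` for involutions `a ∈ 𝒜 ∩ Q`, `b ∈ ℬ ∩ Q`. -/
def W (𝒜 ℬ : Set G) (Q : Subgroup G) : Subgroup G :=
  ⨆ a : Inv 𝒜 Q, ⨆ b : Inv ℬ Q, T (a : G) b ⊔ T (b : G) a

end Cfsg.Agent.TwoFusion.ClosedSimple
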