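import Cfsg.Agent.TwoFusion.ClosedFam
import Cfsg.Agent.TwoFusion.ClosedSimple

/-!
# The minimal situation for the product theorem of Goldschmidt

`Min 𝒜 ℬ`: two disjoint closed families in a group without odd core, such that the product theorem holds in
all proper subgroups and the families avoid `O_2(G)`.
-/

set_option autoImplicit false

namespace Cfsg.Agent.TwoFusion.ClosedMin

open Subgroup
open Cfsg.Agent.TwoFusion.ClosedFam
open Cfsg.Agent.TwoFusion.ClosedSimple

/-- The situation after the elementary reductions: no odd core, the product theorem holds in all proper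
subgroups, and the families avoid `O_2(G)`. -/
structure Min {G : Type*} [Group G] (𝒜 ℬ : Set G) : Prop extends Pair 𝒜 ℬ where
  oddCore : Cfsg.oddCore G = ⊥
  ind : ∀ H : Subgroup G, H ≠ ⊤ → ⁅fam 𝒜 H, fam ℬ H⁆ ≤ core H
  left_two : ∀ a ∈ 𝒜, a ∈ Cfsg.pCore 2 G → a = 1
  right_two : ∀ b ∈ ℬ, b ∈ Cfsg.pCore 2 G → b = 1

end Cfsg.Agent.TwoFusion.ClosedMin
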