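import Mathlib
import Cfsg.Agent.TwoFusion.ClosedFam
import Cfsg.Agent.TwoFusion.ClosedMin
import Cfsg.Agent.S1251

/-!
# Closed families: use of the Z*-theorem and the reduction of the product theorem

* `centralize`: a closed family centralizes every normal core-free subgroup which it meets trivially;
* `commutator_eq_bot_of_involutions`: in a core-free group whose `O_2` meets both families trivially it is
  enough to know that the involutions of the two families commute;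
* `commutator_le_core_of_min`: the product theorem `[⟨𝒜⟩, ⟨ℬ⟩] ≤ O(G)` from its minimal configurations.
-/

set_option autoImplicit false
set_option linter.style.haveILetI false

namespace Cfsg.Agent.TwoFusion.ClosedZ

open Subgroup
open scoped commutatorElement
open Cfsg.Agent.TwoFusion.ClosedFam

universe u

/-- (Z) A closed family centralizes each normal subgroup `N` with `O(N) = 1` which it meets trivially. -/
theorem centralize {G : Type u} [Group G] [Finite G] {𝒜 : Set G} (h : IsClosedFam 𝒜) (N : Subgroup G)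
    [hNn : N.Normal] (hO : Cfsg.oddCore ↥N = ⊥) (hN : ∀ a ∈ 𝒜, a ∈ N → a = 1) :
    ∀ a ∈ 𝒜, ∀ n ∈ N, a * n = n * a := by
  classical
  haveI : Fact (Nat.Prime 2) := ⟨Nat.prime_two⟩
  intro a ha n hn
  obtain ⟨P, hP⟩ := (h.isPGroup_zpowers ha).exists_le_sylow
  have haP : a ∈ fam 𝒜 (P : Subgroup G) := mem_fam ha (hP (mem_zpowers a))
  have h1 : fam 𝒜 (P : Subgroup G) ≤ normalizer (N : Set G) := by
    rw [Subgroup.normalizer_eq_top]
    exact le_top
  have h2 : fam 𝒜 (P : Subgroup G) ⊓ N = ⊥ := by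
    rw [eq_bot_iff]
    intro x hx
    rw [mem_inf, h.mem_fam_iff P.2] at hx
    rw [mem_bot]
    exact hN x hx.1.1 hx.2
  have h3 := Cfsg.Agent.S1251.result P (fam 𝒜 (P : Subgroup G)) (h.isStronglyClosed P) N h1 hO h2
  have h4 := h3 haP
  rw [mem_centralizer_iff] at h4
  exact (h4 n hn).symm

/-- A nontrivial element of a closed family has an involution among its powers. -/
theorem exists_involution_pow {G : Type*} [Group G] {𝒜 : Set G} (h : IsClosedFam 𝒜) {a : G} (ha : a ∈ 𝒜)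
    (ha1 : a ≠ 1) : ∃ n : ℕ, a ^ n ∈ 𝒜 ∧ orderOf (a ^ n) = 2 := by
  obtain ⟨k, hk⟩ := h.two a ha
  have hd : orderOf a ∣ 2 ^ k := orderOf_dvd_of_pow_eq_one hk
  obtain ⟨m, -, hm⟩ := (Nat.dvd_prime_pow Nat.prime_two).1 hd
  rcases m with _ | m
  · rw [pow_zero, orderOf_eq_one_iff] at hm
    exact absurd hm ha1
  · refine ⟨2 ^ m, h.pow_mem ha _, ?_⟩
    rw [orderOf_pow' a (pow_ne_zero m two_ne_zero), hm, pow_succ]
    rw [Nat.gcd_eq_right (Dvd.intro 2 rfl)]
    exact Nat.mul_div_cancel_left 2 (pow_pos two_pos m)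

/-- If an element of order 2 commutes with all its conjugates, it lies in `O_2(G)`. -/
theorem mem_pCore_of_comm_conj {G : Type*} [Group G] {a : G} (ha : orderOf a = 2)
    (hc : ∀ g : G, a * (g * a * g⁻¹) = (g * a * g⁻¹) * a) : a ∈ Cfsg.pCore 2 G := by
  have haa : a * a = 1 := by rw [← pow_two, ← ha, pow_orderOf_eq_one]
  -- all conjugates commute
  have hcc : ∀ x ∈ Group.conjugatesOfSet ({a} : Set G), ∀ y ∈ Group.conjugatesOfSet ({a} : Set G),
      x * y = y * x := by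
    intro x hx y hy
    rw [Group.mem_conjugatesOfSet_iff] at hx hy
    obtain ⟨a1, ha1, hx⟩ := hx
    obtain ⟨a2, ha2, hy⟩ := hy
    rw [Set.mem_singleton_iff] at ha1 ha2
    rw [ha1] at hx
    rw [ha2] at hy
    obtain ⟨g, rfl⟩ := isConj_iff.1 hx
    obtain ⟨k, rfl⟩ := isConj_iff.1 hy
    have h1 := hc (g⁻¹ * k)
    have e1 : g * a * g⁻¹ * (k * a * k⁻¹) = g * (a * (g⁻¹ * k * a * (g⁻¹ * k)⁻¹)) * g⁻¹ := by group
    have e2 : k * a * k⁻¹ * (g * a * g⁻¹) = g * ((g⁻¹ * k * a * (g⁻¹ * k)⁻¹) * a) * g⁻¹ := by group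
    rw [e1, e2, h1]
  have hsq : ∀ x ∈ Group.conjugatesOfSet ({a} : Set G), x * x = 1 := by
    intro x hx
    rw [Group.mem_conjugatesOfSet_iff] at hx
    obtain ⟨a1, ha1, hx⟩ := hx
    rw [Set.mem_singleton_iff] at ha1
    rw [ha1] at hx
    obtain ⟨g, rfl⟩ := isConj_iff.1 hx
    have e : g * a * g⁻¹ * (g * a * g⁻¹) = g * (a * a) * g⁻¹ := by group
    rw [e, haa]; group
  have hsub : ∀ x ∈ normalClosure ({a} : Set G), x * x = 1 := by
    have hcm : IsMulCommutative (closure (Group.conjugatesOfSet ({a} : Set G))) :=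
      Subgroup.isMulCommutative_closure hcc
    intro x hx
    refine closure_induction (p := fun x _ => x * x = 1) hsq (by simp) ?_ ?_ hx
    · intro y z hy hz h1 h2
      have h3 : (⟨y, hy⟩ * ⟨z, hz⟩ : closure (Group.conjugatesOfSet ({a} : Set G))) = ⟨z, hz⟩ * ⟨y, hy⟩ :=
        hcm.is_comm.comm _ _
      have h4 : y * z = z * y := congrArg Subtype.val h3
      calc y * z * (y * z) = y * (z * y) * z := by group
        _ = y * (y * z) * z := by rw [h4]
        _ = (y * y) * (z * z) := by group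
        _ = 1 := by rw [h1, h2, one_mul]
    · intro y _ h1
      have : y⁻¹ * y⁻¹ = (y * y)⁻¹ := by group
      rw [this, h1, inv_one]
  have h5 : IsPGroup 2 (normalClosure ({a} : Set G)) := by
    rintro ⟨x, hx⟩
    refine ⟨1, Subtype.ext ?_⟩
    have := hsub x hx
    simpa [pow_two] using this
  have h6 : normalClosure ({a} : Set G) ≤ Cfsg.pCore 2 G := le_sSup ⟨normalClosure_normal, h5⟩
  exact h6 (subset_normalClosure rfl)

/-- Elementwise commutation passes to the generated subgroups. -/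
theorem fam_commutator_eq_bot {G : Type*} [Group G] {𝒜 ℬ : Set G}
    (hc : ∀ a ∈ 𝒜, ∀ b ∈ ℬ, a * b = b * a) : ⁅fam 𝒜 ⊤, fam ℬ ⊤⁆ = ⊥ := by
  rw [commutator_eq_bot_iff_le_centralizer]
  rw [fam_le_iff]
  intro a ha _
  rw [mem_centralizer_iff]
  intro y hy
  have h1 : fam ℬ ⊤ ≤ centralizer ({a} : Set G) := by
    rw [fam_le_iff]
    intro b hb _
    rw [mem_centralizer_singleton_iff]
    exact (hc a ha b hb).symm
  have h2 := h1 hy
  rw [mem_centralizer_singleton_iff] at h2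
  exact h2

theorem oddCore_eq_bot_of_normal {G : Type*} [Group G] [Finite G] (hO : Cfsg.oddCore G = ⊥)
    (N : Subgroup G) (hN : N.Normal) : Cfsg.oddCore ↥N = ⊥ := by
  have h1 := Cfsg.Agent.Lib.Cores.map_subtype_pPrimeCore 2 hN
  have h2 : (Cfsg.pPrimeCore 2 ↥N).map N.subtype = ⊥ := by
    rw [h1]
    change N ⊓ Cfsg.oddCore G = ⊥
    rw [hO, inf_bot_eq]
  exact (Subgroup.map_eq_bot_iff_of_injective _ N.subtype_injective).1 h2

/-- (E) If the involutions of the two families commute, then all elements do. -/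
theorem comm_of_involutions {G : Type u} [Group G] [Finite G] {𝒜 ℬ : Set G} (h : Pair 𝒜 ℬ)
    (hO : Cfsg.oddCore G = ⊥) (hl : ∀ a ∈ 𝒜, a ∈ Cfsg.pCore 2 G → a = 1)
    (hr : ∀ b ∈ ℬ, b ∈ Cfsg.pCore 2 G → b = 1)
    (hinv : ∀ a ∈ 𝒜, ∀ b ∈ ℬ, orderOf a = 2 → orderOf b = 2 → a * b = b * a) :
    ∀ a ∈ 𝒜, ∀ b ∈ ℬ, a * b = b * a := by
  classical
  set D : Set G := {b | b ∈ ℬ ∧ orderOf b = 2} with hD
  set E : Subgroup G := normalClosure D with hE
  have hconjord : ∀ (x g : G), orderOf (g * x * g⁻¹) = orderOf x := by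
    intro x g
    exact orderOf_injective (MulAut.conj g).toMonoidHom (MulAut.conj g).injective x
  -- an element commuting with `D` commutes with `E`
  have hcE : ∀ a : G, (∀ b ∈ D, a * b = b * a) → ∀ x ∈ E, a * x = x * a := by
    intro a ha x hx
    have h1 : E ≤ centralizer ({a} : Set G) := by
      rw [hE]
      unfold normalClosure
      rw [closure_le]
      intro y hy
      rw [Group.mem_conjugatesOfSet_iff] at hy
      obtain ⟨b, hb, hby⟩ := hy
      obtain ⟨g, rfl⟩ := isConj_iff.1 hby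
      rw [SetLike.mem_coe, mem_centralizer_singleton_iff]
      refine (ha _ ⟨h.right.conj_mem b hb.1 g, ?_⟩).symm
      rw [hconjord]; exact hb.2
    have h2 := h1 hx
    rw [mem_centralizer_singleton_iff] at h2
    exact h2.symm
  have hcE' : ∀ a ∈ 𝒜, orderOf a = 2 → ∀ x ∈ E, a * x = x * a := by
    intro a ha ha2
    exact hcE a fun b hb => hinv a ha b hb.1 ha2 hb.2
  haveI hEn : E.Normal := normalClosure_normal
  -- (1) `𝒜 ∩ E = 1`
  have hAE : ∀ a ∈ 𝒜, a ∈ E → a = 1 := by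
    intro a ha haE
    by_contra ha1
    obtain ⟨n, hn, hn2⟩ := exists_involution_pow h.left ha ha1
    have h1 : a ^ n ∈ Cfsg.pCore 2 G := by
      apply mem_pCore_of_comm_conj hn2
      intro g
      have h2 : a ^ n ∈ E := pow_mem haE n
      exact (hcE' _ (h.left.conj_mem _ hn g) (by rw [hconjord]; exact hn2) _ h2).symm
    have h3 := hl _ hn h1
    rw [h3, orderOf_one] at hn2
    exact absurd hn2 (by norm_num)
  have hZ1 := centralize h.left E (oddCore_eq_bot_of_normal hO E hEn) hAE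
  -- `N₁` centralizes `E`
  haveI hN1n : (fam 𝒜 ⊤).Normal := h.left.fam_normal ⊤
  have hN1 : ∀ n ∈ fam 𝒜 (⊤ : Subgroup G), ∀ x ∈ E, n * x = x * n := by
    intro n hn x hx
    have h1 : fam 𝒜 ⊤ ≤ centralizer ({x} : Set G) := by
      rw [fam_le_iff]
      intro a ha _
      rw [mem_centralizer_singleton_iff]
      exact hZ1 a ha x hx
    have h2 := h1 hn
    rw [mem_centralizer_singleton_iff] at h2
    exact h2
  have hBN : ∀ b ∈ ℬ, b ∈ fam 𝒜 (⊤ : Subgroup G) → b = 1 := by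
    intro b hb hbN
    by_contra hb1
    obtain ⟨n, hn, hn2⟩ := exists_involution_pow h.right hb hb1
    have hbE : b ^ n ∈ E := subset_normalClosure ⟨hn, hn2⟩
    have h1 : b ^ n ∈ Cfsg.pCore 2 G := by
      apply mem_pCore_of_comm_conj hn2
      intro g
      have h2 : b ^ n ∈ fam 𝒜 (⊤ : Subgroup G) := pow_mem hbN n
      have h3 : g * b ^ n * g⁻¹ ∈ E := hEn.conj_mem _ hbE g
      exact hN1 _ h2 _ h3
    have h3 := hr _ hn h1
    rw [h3, orderOf_one] at hn2
    exact absurd hn2 (by norm_num)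
  have hZ2 := centralize h.right (fam 𝒜 ⊤) (oddCore_eq_bot_of_normal hO _ hN1n) hBN
  intro a ha b hb
  exact (hZ2 b hb a (mem_fam ha (mem_top a))).symm

/-- A normal subgroup `C` of a core-free group which has a central 2-subgroup `Z` of odd index is `Z`. -/
theorem le_of_central_odd_index {G : Type*} [Group G] [Finite G] (hO : Cfsg.oddCore G = ⊥)
    (C Z : Subgroup G) (hC : C.Normal) (hZ : IsPGroup 2 Z)
    (hcent : ∀ z ∈ Z, ∀ c ∈ C, z * c = c * z) (hodd : Odd (Z.relIndex C)) : C ≤ Z := by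
  classical
  haveI : Fact (Nat.Prime 2) := ⟨Nat.prime_two⟩
  set Z' : Subgroup C := Z.subgroupOf C with hZ'
  haveI hZn : Z'.Normal := by
    refine ⟨fun z hz g => ?_⟩
    rw [mem_subgroupOf] at hz ⊢
    have h1 : (g : G) * z * (g : G)⁻¹ = z := by
      rw [← hcent z hz g g.2]; group
    change (g : G) * z * (g : G)⁻¹ ∈ Z
    rw [h1]; exact hz
  have hcardZ : ∃ k, Nat.card Z' = 2 ^ k := by
    have : IsPGroup 2 Z' := hZ.comap_of_injective C.subtype C.subtype_injective
    exact IsPGroup.iff_card.1 this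
  obtain ⟨k, hk⟩ := hcardZ
  have hidx : Odd Z'.index := hodd
  have hcop : Nat.Coprime (Nat.card Z') Z'.index := by
    rw [hk]
    exact Nat.Coprime.pow_left k (Nat.coprime_two_left.2 hidx)
  obtain ⟨K, hK⟩ := exists_right_complement'_of_coprime hcop
  have hKodd : Odd (Nat.card K) := by
    rw [← hK.symm.index_eq_card]; exact hidx
  -- `K` is normal in `G`
  set L : Subgroup G := K.map C.subtype with hL
  have hLodd : Odd (Nat.card L) := by
    rw [hL, Subgroup.card_map_of_injective C.subtype_injective]; exact hKodd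
  have hLn : L.Normal := by
    refine ⟨?_⟩
    rintro _ ⟨x, hx, rfl⟩ g
    have hgx : g * (x : G) * g⁻¹ ∈ C := hC.conj_mem x x.2 g
    have hxm : (x : G) ^ Nat.card K = 1 := by
      have h1 : (⟨x, hx⟩ : K) ^ Nat.card K = 1 := pow_card_eq_one'
      exact congrArg (fun y : K => ((y : C) : G)) h1
    have hdec : ∃ z ∈ Z', ∃ y ∈ K, z * y = (⟨_, hgx⟩ : C) := by
      have h1 := hK.sup_eq_top
      have h2 : (⟨_, hgx⟩ : C) ∈ Z' ⊔ K := by rw [h1]; exact mem_top _
      rw [← SetLike.mem_coe, Subgroup.normal_mul Z' K] at h2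
      obtain ⟨z, hz, y, hy, hzy⟩ := Set.mem_mul.1 h2
      exact ⟨z, hz, y, hy, hzy⟩
    obtain ⟨z, hz, y, hy, hzy⟩ := hdec
    have hzZ : (z : G) ∈ Z := hz
    have hzy' : (z : G) * y = g * x * g⁻¹ := congrArg Subtype.val hzy
    have hym : (y : G) ^ Nat.card K = 1 := by
      have h1 : (⟨y, hy⟩ : K) ^ Nat.card K = 1 := pow_card_eq_one'
      exact congrArg (fun y : K => ((y : C) : G)) h1
    have hcomm : Commute (z : G) (y : G) := hcent z hzZ y y.2
    have hzm : (z : G) ^ Nat.card K = 1 := by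
      have h1 : ((z : G) * y) ^ Nat.card K = 1 := by
        rw [hzy', conj_pow, hxm]; group
      rw [hcomm.mul_pow, hym, mul_one] at h1
      exact h1
    have hz1 : (z : G) = 1 := by
      obtain ⟨j, hj⟩ := hZ ⟨z, hzZ⟩
      have hj' : (z : G) ^ 2 ^ j = 1 := congrArg Subtype.val hj
      have hd1 : orderOf (z : G) ∣ 2 ^ j := orderOf_dvd_of_pow_eq_one hj'
      have hd2 : orderOf (z : G) ∣ Nat.card K := orderOf_dvd_of_pow_eq_one hzm
      have hc : Nat.Coprime (2 ^ j) (Nat.card K) := Nat.Coprime.pow_left j (Nat.coprime_two_left.2 hKodd)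
      exact orderOf_eq_one_iff.1 (Nat.eq_one_of_dvd_coprimes hc hd1 hd2)
    refine ⟨y, hy, ?_⟩
    change (y : G) = g * x * g⁻¹
    rw [← hzy', hz1, one_mul]
  have hLbot : L = ⊥ := by
    have h1 : L ≤ Cfsg.oddCore G :=
      Cfsg.Agent.Lib.Cores.le_pPrimeCore hLn (Nat.coprime_two_right.2 hLodd)
    rw [hO] at h1
    exact le_bot_iff.1 h1
  have hKbot : K = ⊥ := (Subgroup.map_eq_bot_iff_of_injective _ C.subtype_injective).1 hLbot
  have hZtop : Z' = ⊤ := by
    have h1 := hK.sup_eq_top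
    rwa [hKbot, sup_bot_eq] at h1
  exact Subgroup.subgroupOf_eq_top.1 hZtop

/-- Disjoint closed families stay disjoint modulo a normal 2-subgroup contained in one of them. -/
theorem pair_image_two {G K : Type*} [Group G] [Finite G] [Group K] {𝒜 ℬ : Set G} (h : Pair 𝒜 ℬ)
    {f : G →* K} (hf : Function.Surjective f) (hU : IsPGroup 2 f.ker) (hUA : ∀ x ∈ f.ker, x ∈ 𝒜) :
    Pair (f '' 𝒜) (f '' ℬ) where
  left := h.left.image hf
  right := h.right.image hf
  disj := by
    rintro _ ⟨x, hx, rfl⟩ ⟨y, hy, hyx⟩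
    have hQ' : IsPGroup 2 ((zpowers x).map f) := (h.left.isPGroup_zpowers hx).map f
    obtain ⟨Q, hQ, _, hlift⟩ := exists_lift hf _ hQ'
    have hxQ : f x ∈ (zpowers x).map f := ⟨x, mem_zpowers x, rfl⟩
    obtain ⟨n, hn, hnx⟩ := hlift x (h.left.isPGroup_zpowers hx) hxQ
    obtain ⟨m, hm, hmy⟩ := hlift y (h.right.isPGroup_zpowers hy) (by rw [hyx]; exact hxQ)
    have hn1 : f n = 1 := hn
    have hm1 : f m = 1 := hm
    set x' := n * x * n⁻¹ with hx'
    set y' := m * y * m⁻¹ with hy'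
    have e1 : f x' = f x := by rw [hx']; simp [hn1]
    have e2 : f y' = f x := by rw [hy']; simp [hm1, hyx]
    have hk : x'⁻¹ * y' ∈ f.ker := by rw [MonoidHom.mem_ker, map_mul, map_inv, e1, e2]; group
    have hR : IsPGroup 2 (Q ⊔ f.ker : Subgroup G) := hQ.to_sup_of_normal_right hU
    have h1 : x' * (x'⁻¹ * y') ∈ 𝒜 :=
      h.left.mul_mem _ hR x' (mem_sup_left hnx) _ (mem_sup_right hk) (h.left.conj_mem x hx n)
        (hUA _ hk)
    have h2 : x' * (x'⁻¹ * y') = y' := by group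
    rw [h2] at h1
    have h3 : y' = 1 := h.disj _ h1 (h.right.conj_mem y hy m)
    rw [← e2, h3, map_one]

/-- The case in which one of the families meets `O_2(G)` nontrivially. -/
theorem comm_of_quotient_two {G : Type u} [Group G] [Finite G] {𝒜 ℬ : Set G} (h : Pair 𝒜 ℬ)
    (hO : Cfsg.oddCore G = ⊥) (U : Subgroup G) [hUn : U.Normal] (hU2 : IsPGroup 2 U)
    (hUA : ∀ x ∈ U, x ∈ 𝒜)
    (hq : ⁅fam (QuotientGroup.mk' U '' 𝒜) ⊤, fam (QuotientGroup.mk' U '' ℬ) ⊤⁆ ≤ Cfsg.oddCore (G ⧸ U)) :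
    ∀ a ∈ 𝒜, ∀ b ∈ ℬ, a * b = b * a := by
  classical
  set π : G →* G ⧸ U := QuotientGroup.mk' U with hπ
  have hπs : Function.Surjective π := QuotientGroup.mk'_surjective U
  have hker : π.ker = U := QuotientGroup.ker_mk' U
  -- `ℬ` centralizes `U`
  have hOU : Cfsg.oddCore ↥U = ⊥ := oddCore_eq_bot_of_normal hO U hUn
  have hBU := centralize h.right U hOU (fun b hb hbU => h.disj b (hUA b hbU) hb)
  set V : Subgroup G := (Cfsg.oddCore (G ⧸ U)).comap π with hV
  haveI hOn : (Cfsg.oddCore (G ⧸ U)).Normal := Cfsg.Agent.Lib.Cores.pPrimeCore_normal 2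
  haveI hVn : V.Normal := hOn.comap π
  set C : Subgroup G := centralizer (U : Set G) ⊓ V with hC
  haveI hCn : C.Normal := inferInstance
  have hCU : C ≤ U ⊓ C := by
    refine le_of_central_odd_index hO C (U ⊓ C) hCn (hU2.to_le inf_le_left) ?_ ?_
    · intro z hz c hc
      exact (mem_centralizer_iff.1 hc.1 z hz.1)
    · rw [inf_relIndex_right]
      have h1 : U.relIndex C = Nat.card (C.map π) := by
        have h2 : U.subgroupOf C = (π.comp C.subtype).ker := by
          ext x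
          rw [mem_subgroupOf, MonoidHom.mem_ker, MonoidHom.comp_apply]
          exact (QuotientGroup.eq_one_iff (x : G)).symm
        rw [relIndex, h2, Subgroup.index_ker, MonoidHom.range_eq_map, ← Subgroup.map_map,
          ← MonoidHom.range_eq_map, Subgroup.range_subtype]
      rw [h1]
      have h3 : C.map π ≤ Cfsg.oddCore (G ⧸ U) := by
        rw [map_le_iff_le_comap]; exact inf_le_right
      have h4 : Nat.Coprime (Nat.card (Cfsg.oddCore (G ⧸ U))) 2 :=
        Cfsg.Agent.Lib.Cores.pPrimeCore_coprime 2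
      exact Nat.coprime_two_right.1 (h4.coprime_dvd_left (card_dvd_of_le h3))
  intro a ha b hb
  have hcV : a * b * a⁻¹ * b⁻¹ ∈ V := by
    have h1 : π a ∈ fam (π '' 𝒜) ⊤ := mem_fam ⟨a, ha, rfl⟩ (mem_top _)
    have h2 : π b ∈ fam (π '' ℬ) ⊤ := mem_fam ⟨b, hb, rfl⟩ (mem_top _)
    have h3 := hq (commutator_mem_commutator h1 h2)
    rw [hV, mem_comap]
    have e : π (a * b * a⁻¹ * b⁻¹) = ⁅π a, π b⁆ := by
      rw [commutatorElement_def]; simp only [map_mul, map_inv]
    rw [e]; exact h3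
  have hcC : a * b * a⁻¹ * b⁻¹ ∈ centralizer (U : Set G) := by
    have hy : ∀ y ∈ ℬ, y ∈ centralizer (U : Set G) := by
      intro y hy
      rw [mem_centralizer_iff]
      intro u hu
      exact (hBU y hy u hu).symm
    exact mul_mem (hy _ (h.right.conj_mem b hb a)) (inv_mem (hy b hb))
  have hcU : a * b * a⁻¹ * b⁻¹ ∈ U := (hCU ⟨hcC, hcV⟩).1
  have hR : IsPGroup 2 (zpowers b ⊔ U : Subgroup G) :=
    (h.right.isPGroup_zpowers hb).to_sup_of_normal_right hU2
  have hbR : b ∈ (zpowers b ⊔ U : Subgroup G) := mem_sup_left (mem_zpowers b)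
  have hcR : a * b * a⁻¹ * b⁻¹ ∈ (zpowers b ⊔ U : Subgroup G) := mem_sup_right hcU
  have hbR' : a * b * a⁻¹ ∈ (zpowers b ⊔ U : Subgroup G) := by
    have e : a * b * a⁻¹ = a * b * a⁻¹ * b⁻¹ * b := by group
    rw [e]; exact mul_mem hcR hbR
  have hcB : a * b * a⁻¹ * b⁻¹ ∈ ℬ :=
    h.right.mul_mem _ hR _ hbR' _ (inv_mem hbR) (h.right.conj_mem b hb a) (h.right.inv_mem hb)
  have h1 : a * b * a⁻¹ * b⁻¹ = 1 := h.disj _ (hUA _ hcU) hcB
  have h2 : a * b * a⁻¹ = b := mul_inv_eq_one.1 h1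
  calc a * b = a * b * a⁻¹ * a := by group
    _ = b * a := by rw [h2]

/-- (R') The product theorem from its minimal configurations. -/
theorem commutator_le_core_of_min
    (hmin : ∀ (G : Type u) [Group G] [Finite G] (𝒜 ℬ : Set G), ClosedMin.Min 𝒜 ℬ →
      ∀ a ∈ 𝒜, ∀ b ∈ ℬ, orderOf a = 2 → orderOf b = 2 → a * b = b * a) :
    ∀ (n : ℕ) (G : Type u) [Group G] [Finite G] (𝒜 ℬ : Set G), Nat.card G = n → Pair 𝒜 ℬ →
      ⁅fam 𝒜 ⊤, fam ℬ ⊤⁆ ≤ Cfsg.oddCore G := by
  classical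
  intro n
  induction n using Nat.strong_induction_on with
  | _ n ih =>
  intro G _ _ 𝒜 ℬ hn h
  by_cases hO : Cfsg.oddCore G = ⊥
  · -- core-free case
    have ind : ∀ H : Subgroup G, H ≠ ⊤ → ⁅fam 𝒜 H, fam ℬ H⁆ ≤ core H := by
      intro H hH
      have hlt : Nat.card H < n := by
        rw [← hn]
        refine lt_of_le_of_ne (Subgroup.card_le_card_group H) ?_
        intro he
        exact hH (Subgroup.eq_top_of_card_eq H he)
      have h1 := ih _ hlt H _ _ rfl (h.restrict H)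
      have h2 := Subgroup.map_mono (f := H.subtype) h1
      rw [map_commutator, map_fam_restrict_top, map_fam_restrict_top] at h2
      exact h2
    rw [hO]
    refine le_of_eq ?_
    apply fam_commutator_eq_bot
    -- quotient by a normal 2-subgroup
    have hquot : ∀ (U : Subgroup G) [U.Normal], U ≠ ⊥ → ∀ 𝒞 𝒟 : Set (G ⧸ U), Pair 𝒞 𝒟 →
        ⁅fam 𝒞 ⊤, fam 𝒟 ⊤⁆ ≤ Cfsg.oddCore (G ⧸ U) := by
      intro U _ hU 𝒞 𝒟 hp
      refine ih (Nat.card (G ⧸ U)) ?_ (G ⧸ U) 𝒞 𝒟 rfl hp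
      rw [← hn, Subgroup.card_eq_card_quotient_mul_card_subgroup U]
      have h1 : 1 < Nat.card U := by
        rw [Subgroup.one_lt_card_iff_ne_bot]; exact hU
      exact lt_mul_of_one_lt_right Nat.card_pos h1
    haveI hQn : (Cfsg.pCore 2 G).Normal := Cfsg.Agent.Lib.Cores.pCore_normal 2
    have hQp : IsPGroup 2 (Cfsg.pCore 2 G) := Cfsg.Agent.Lib.Cores.pCore_isPGroup 2
    by_cases hl : ∀ a ∈ 𝒜, a ∈ Cfsg.pCore 2 G → a = 1
    · by_cases hr : ∀ b ∈ ℬ, b ∈ Cfsg.pCore 2 G → b = 1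
      · have hM : ClosedMin.Min 𝒜 ℬ :=
          { toPair := h, oddCore := hO, ind := ind, left_two := hl, right_two := hr }
        exact comm_of_involutions h hO hl hr (hmin G 𝒜 ℬ hM)
      · push Not at hr
        obtain ⟨b, hb, hbQ, hb1⟩ := hr
        haveI hUn : (fam ℬ (Cfsg.pCore 2 G)).Normal := h.right.fam_normal _
        have hU2 : IsPGroup 2 (fam ℬ (Cfsg.pCore 2 G)) := isPGroup_fam ℬ hQp
        have hUB : ∀ x ∈ fam ℬ (Cfsg.pCore 2 G), x ∈ ℬ := fun x hx => ((h.right.mem_fam_iff hQp).1 hx).1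
        have hUne : fam ℬ (Cfsg.pCore 2 G) ≠ ⊥ := by
          intro he
          have h1 : b ∈ fam ℬ (Cfsg.pCore 2 G) := mem_fam hb hbQ
          rw [he, mem_bot] at h1
          exact hb1 h1
        have hp := pair_image_two h.symm (QuotientGroup.mk'_surjective (fam ℬ (Cfsg.pCore 2 G)))
          (by rw [QuotientGroup.ker_mk']; exact hU2) (by rw [QuotientGroup.ker_mk']; exact hUB)
        have hc := comm_of_quotient_two h.symm hO (fam ℬ (Cfsg.pCore 2 G)) hU2 hUB
          (hquot _ hUne _ _ hp)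
        intro x hx y hy
        exact (hc y hy x hx).symm
    · push Not at hl
      obtain ⟨a, ha, haQ, ha1⟩ := hl
      haveI hUn : (fam 𝒜 (Cfsg.pCore 2 G)).Normal := h.left.fam_normal _
      have hU2 : IsPGroup 2 (fam 𝒜 (Cfsg.pCore 2 G)) := isPGroup_fam 𝒜 hQp
      have hUA : ∀ x ∈ fam 𝒜 (Cfsg.pCore 2 G), x ∈ 𝒜 := fun x hx => ((h.left.mem_fam_iff hQp).1 hx).1
      have hUne : fam 𝒜 (Cfsg.pCore 2 G) ≠ ⊥ := by
        intro he
        have h1 : a ∈ fam 𝒜 (Cfsg.pCore 2 G) := mem_fam ha haQ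
        rw [he, mem_bot] at h1
        exact ha1 h1
      have hp := pair_image_two h (QuotientGroup.mk'_surjective (fam 𝒜 (Cfsg.pCore 2 G)))
        (by rw [QuotientGroup.ker_mk']; exact hU2) (by rw [QuotientGroup.ker_mk']; exact hUA)
      exact comm_of_quotient_two h hO (fam 𝒜 (Cfsg.pCore 2 G)) hU2 hUA (hquot _ hUne _ _ hp)
  · -- pass to `G / O(G)`
    haveI hOn : (Cfsg.oddCore G).Normal := Cfsg.Agent.Lib.Cores.pPrimeCore_normal 2
    set π : G →* G ⧸ Cfsg.oddCore G := QuotientGroup.mk' (Cfsg.oddCore G) with hπ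
    have hπs : Function.Surjective π := QuotientGroup.mk'_surjective _
    have hker : π.ker = Cfsg.oddCore G := QuotientGroup.ker_mk' _
    have hodd : Odd (Nat.card π.ker) := by
      rw [hker]
      exact Nat.coprime_two_right.1 (Cfsg.Agent.Lib.Cores.pPrimeCore_coprime 2)
    have hp := h.image_of_odd hπs hodd
    have hlt : Nat.card (G ⧸ Cfsg.oddCore G) < n := by
      rw [← hn, Subgroup.card_eq_card_quotient_mul_card_subgroup (Cfsg.oddCore G)]
      have h1 : 1 < Nat.card (Cfsg.oddCore G) := by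
        rw [Subgroup.one_lt_card_iff_ne_bot]; exact hO
      exact lt_mul_of_one_lt_right Nat.card_pos h1
    have h1 := ih _ hlt (G ⧸ Cfsg.oddCore G) _ _ rfl hp
    have h2 : Cfsg.oddCore (G ⧸ Cfsg.oddCore G) = ⊥ :=
      Cfsg.Agent.Lib.Cores.pPrimeCore_quotient_pPrimeCore 2
    rw [h2, ← map_fam_top, ← map_fam_top, ← map_commutator] at h1
    have h3 := (Subgroup.map_le_iff_le_comap.1 h1)
    rw [MonoidHom.comap_bot, hker] at h3
    exact h3

/-- The product theorem for closed families, from the minimal configurations. -/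
theorem fam_commutator_le
    (hmin : ∀ (G : Type u) [Group G] [Finite G] (𝒜 ℬ : Set G), ClosedMin.Min 𝒜 ℬ →
      ∀ a ∈ 𝒜, ∀ b ∈ ℬ, orderOf a = 2 → orderOf b = 2 → a * b = b * a)
    {G : Type u} [Group G] [Finite G] {𝒜 ℬ : Set G} (h : Pair 𝒜 ℬ) :
    ⁅fam 𝒜 ⊤, fam ℬ ⊤⁆ ≤ Cfsg.oddCore G :=
  commutator_le_core_of_min hmin _ G 𝒜 ℬ rfl h

/-- The product theorem for strongly closed subgroups, from the minimal configurations. -/
theorem normalClosure_commutator_le
    (hmin : ∀ (G : Type u) [Group G] [Finite G] (𝒜 ℬ : Set G), ClosedMin.Min 𝒜 ℬ →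
      ∀ a ∈ 𝒜, ∀ b ∈ ℬ, orderOf a = 2 → orderOf b = 2 → a * b = b * a)
    {G : Type u} [Group G] [Finite G] (P : Sylow 2 G) (A B : Subgroup G) (hAB : A ⊓ B = ⊥)
    (hA : Cfsg.IsStronglyClosed A (P : Subgroup G)) (hB : Cfsg.IsStronglyClosed B (P : Subgroup G)) :
    ⁅normalClosure (A : Set G), normalClosure (B : Set G)⁆ ≤ Cfsg.oddCore G := by
  have h1 := fam_commutator_le hmin (pair_of_isStronglyClosed P A B hAB hA hB)
  rwa [fam_conjugates_top, fam_conjugates_top] at h1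

end Cfsg.Agent.TwoFusion.ClosedZ
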