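import Mathlib
import Cfsg.Agent.Solvable.Glauberman

/-!
# A counting argument for involutory automorphisms of Bender groups

`M` acts 2-transitively on `Ω`, the Sylow 2-subgroup `T` fixes `α` and is regular on the rest, `B` is the
subgroup of the elements of `T` of order at most 2 and is central in `T`, `|B|² ≤ |T|`.  An involution `c`
which normalizes `M` and `T`, centralizes `T` modulo `B` and centralizes a subgroup `J` of odd order which is
transitive on the involutions of `B` centralizes `T`.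
-/

set_option autoImplicit false
set_option linter.style.haveILetI false

namespace Cfsg.Agent.TwoFusion.GoldDesign

open Subgroup MulAction

variable {Y Ω : Type*} [Group Y] [MulAction Y Ω]

theorem card_eq_orbit [Finite Y] (H : Subgroup Y) (α : Ω) :
    Nat.card H = (orbit H α).ncard * Nat.card (H ⊓ stabilizer Y α : Subgroup Y) := by
  have h1 := Subgroup.card_mul_index (stabilizer H α)
  rw [index_stabilizer] at h1
  have h2 : Nat.card (stabilizer H α) = Nat.card (H ⊓ stabilizer Y α : Subgroup Y) := by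
    refine Nat.card_congr ⟨fun x => ⟨x.1.1, x.1.2, ?_⟩, fun x => ⟨⟨x.1, x.2.1⟩, ?_⟩, ?_, ?_⟩
    · have := x.2
      rw [mem_stabilizer_iff] at this
      exact this
    · have := x.2.2
      rw [mem_stabilizer_iff]
      exact this
    · intro x; rfl
    · intro x; rfl
  rw [← h1, h2, mul_comm]

/-- The hypotheses. -/
structure Design (M T B J : Subgroup Y) (c : Y) (α : Ω) : Prop where
  TM : T ≤ M
  T2 : IsPGroup 2 T
  fixT : ∀ t ∈ T, t • α = α
  trans : ∀ β γ : Ω, β ≠ α → γ ≠ α → ∃ t ∈ T, t • β = γ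
  free : ∀ t ∈ T, ∀ β : Ω, β ≠ α → t • β = β → t = 1
  mtrans : ∀ β : Ω, ∃ m ∈ M, m • α = β
  norm : ∀ m ∈ M, m • α = α → ∀ t ∈ T, m * t * m⁻¹ ∈ T
  sylow : ∀ m ∈ M, m • α = α → ∀ k : ℕ, m ^ 2 ^ k = 1 → m ∈ T
  faithful : ∀ m ∈ M, (∀ β : Ω, m • β = β) → m = 1
  cM : ∀ m ∈ M, c * m * c⁻¹ ∈ M
  cfix : c • α = α
  c2 : c * c = 1
  BT : B ≤ T
  Bsq : ∀ t ∈ T, t * t = 1 → t ∈ B
  Bsq' : ∀ b ∈ B, b * b = 1
  Bcent : ∀ b ∈ B, ∀ t ∈ T, b * t = t * b
  cB : ∀ t ∈ T, t⁻¹ * (c * t * c⁻¹) ∈ B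
  JM : J ≤ M
  Jfix : ∀ j ∈ J, j • α = α
  Jodd : Odd (Nat.card J)
  Jc : ∀ j ∈ J, j * c = c * j
  JB : ∀ x ∈ B, x ≠ 1 → ∀ y ∈ B, y ≠ 1 → ∃ j ∈ J, j * x * j⁻¹ = y
  B4 : 4 ≤ Nat.card B
  sq : Nat.card B ^ 2 ≤ Nat.card T

namespace Design

variable {M T B J : Subgroup Y} {c : Y} {α : Ω} (h : Design M T B J c α)
include h

theorem cT : ∀ t ∈ T, c * t * c⁻¹ ∈ T := by
  intro t ht
  have h1 := mul_mem ht (h.BT (h.cB t ht))
  have e : t * (t⁻¹ * (c * t * c⁻¹)) = c * t * c⁻¹ := by group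
  rwa [e] at h1

theorem c_inv : c⁻¹ = c := inv_eq_of_mul_eq_one_left h.c2

/-- `κ_g(t) = t⁻¹ (g t g⁻¹)` is multiplicative if it takes values in `B`. -/
theorem kappa_mul {g : Y} (hg : ∀ t ∈ T, t⁻¹ * (g * t * g⁻¹) ∈ B) {t u : Y} (ht : t ∈ T) (hu : u ∈ T) :
    (t * u)⁻¹ * (g * (t * u) * g⁻¹) = (t⁻¹ * (g * t * g⁻¹)) * (u⁻¹ * (g * u * g⁻¹)) := by
  have h1 := h.Bcent _ (hg t ht) _ (inv_mem hu)
  calc (t * u)⁻¹ * (g * (t * u) * g⁻¹) = u⁻¹ * (t⁻¹ * (g * t * g⁻¹)) * (g * u * g⁻¹) := by group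
    _ = (t⁻¹ * (g * t * g⁻¹)) * u⁻¹ * (g * u * g⁻¹) := by rw [h1]
    _ = _ := by group

/-- Such a `g` centralizes all squares. -/
theorem comm_sq {g : Y} (hg : ∀ t ∈ T, t⁻¹ * (g * t * g⁻¹) ∈ B) {t : Y} (ht : t ∈ T) :
    g * (t * t) * g⁻¹ = t * t := by
  have h1 := h.kappa_mul hg ht ht
  rw [h.Bsq' _ (hg t ht)] at h1
  exact (inv_mul_eq_one.1 h1).symm

/-- An element of order 4 exists. -/
theorem exists_sq : ∃ t ∈ T, t * t ∈ B ∧ t * t ≠ 1 := by
  by_contra hcon
  push Not at hcon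
  -- then every element of `T` is an involution or trivial
  have key : ∀ k : ℕ, ∀ t ∈ T, t ^ 2 ^ k = 1 → t * t = 1 := by
    intro k
    induction k with
    | zero =>
      intro t _ h1
      rw [pow_zero, pow_one] at h1
      rw [h1, one_mul]
    | succ k ih =>
      intro t ht h1
      have h2 : (t * t) ^ 2 ^ k = 1 := by
        rw [← pow_two, ← pow_mul, ← pow_succ']
        exact h1
      have h3 := ih (t * t) (mul_mem ht ht) h2
      exact hcon t ht (h.Bsq _ (mul_mem ht ht) h3)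
  have hTB : T ≤ B := by
    intro t ht
    obtain ⟨k, hk⟩ := h.T2 ⟨t, ht⟩
    have hk' : t ^ 2 ^ k = 1 := by
      have := congrArg Subtype.val hk
      simpa using this
    exact h.Bsq t ht (key k t ht hk')
  have e : T = B := le_antisymm hTB h.BT
  have h4 := h.B4
  have h5 := h.sq
  rw [e] at h5
  nlinarith

/-- An element of `M` fixing two points which centralizes `T` modulo `B` is trivial. -/
theorem eq_one_of_kappa [Finite Y] {β : Ω} (hβ : β ≠ α) (hJβ : ∀ j ∈ J, j • β = β) {k : Y} (hk : k ∈ M)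
    (hkα : k • α = α) (hkβ : k • β = β) (hkB : ∀ t ∈ T, t⁻¹ * (k * t * k⁻¹) ∈ B) : k = 1 := by
  obtain ⟨t0, ht0, hz, hz1⟩ := h.exists_sq
  -- every element of this kind has odd order
  have hodd : ∃ n : ℕ, Odd n ∧ k ^ n = 1 := by
    have hpos : 0 < orderOf k := orderOf_pos k
    obtain ⟨e, m, hm, hem⟩ := Nat.exists_eq_two_pow_mul_odd (Nat.pos_iff_ne_zero.1 hpos)
    refine ⟨m, hm, ?_⟩
    have h1 : (k ^ m) ^ 2 ^ e = 1 := by
      rw [← pow_mul, mul_comm, ← hem, pow_orderOf_eq_one]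
    have hfix : ∀ n : ℕ, k ^ n • α = α ∧ k ^ n • β = β := by
      intro n
      induction n with
      | zero => simp
      | succ n ih =>
        rw [pow_succ, mul_smul, mul_smul, hkα, hkβ]
        exact ih
    have h2 := h.sylow (k ^ m) (pow_mem hk m) (hfix m).1 e h1
    exact h.free _ h2 β hβ (hfix m).2
  -- `k` centralizes `B`
  have hcB : ∀ b ∈ B, k * b * k⁻¹ = b := by
    intro b hb
    by_cases hb1 : b = 1
    · subst hb1; group
    obtain ⟨j, hj, hjb⟩ := h.JB _ hz hz1 b hb hb1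
    have hjM := h.JM hj
    have hjT : ∀ t ∈ T, j⁻¹ * t * j ∈ T := by
      intro t ht
      have h1 : j⁻¹ • α = α := by
        rw [inv_smul_eq_iff]; exact (h.Jfix j hj).symm
      have := h.norm j⁻¹ (inv_mem hjM) h1 t ht
      rwa [inv_inv] at this
    have hjT' : ∀ t ∈ T, j * t * j⁻¹ ∈ T := fun t ht => h.norm j hjM (h.Jfix j hj) t ht
    have hjB : ∀ b ∈ B, j⁻¹ * b * j ∈ B := by
      intro b hb
      refine h.Bsq _ (hjT b (h.BT hb)) ?_
      calc j⁻¹ * b * j * (j⁻¹ * b * j) = j⁻¹ * (b * b) * j := by group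
        _ = 1 := by rw [h.Bsq' b hb]; group
    set k' := j⁻¹ * k * j with hk'
    have hk'B : ∀ t ∈ T, t⁻¹ * (k' * t * k'⁻¹) ∈ B := by
      intro t ht
      have h1 := hjB _ (hkB _ (hjT' t ht))
      have e : j⁻¹ * ((j * t * j⁻¹)⁻¹ * (k * (j * t * j⁻¹) * k⁻¹)) * j = t⁻¹ * (k' * t * k'⁻¹) := by
        rw [hk']; group
      rwa [e] at h1
    have h2 := h.comm_sq hk'B ht0
    rw [hk'] at h2
    have h3 : k * (j * (t0 * t0) * j⁻¹) * k⁻¹ = j * (t0 * t0) * j⁻¹ := by
      have h4 : j * (j⁻¹ * k * j * (t0 * t0) * (j⁻¹ * k * j)⁻¹) * j⁻¹ = j * (t0 * t0) * j⁻¹ := by rw [h2]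
      calc k * (j * (t0 * t0) * j⁻¹) * k⁻¹ =
            j * (j⁻¹ * k * j * (t0 * t0) * (j⁻¹ * k * j)⁻¹) * j⁻¹ := by group
        _ = _ := h4
    rw [hjb] at h3
    exact h3
  -- `k` centralizes `T`
  have hcT : ∀ t ∈ T, k * t * k⁻¹ = t := by
    intro t ht
    obtain ⟨n, hn, hkn⟩ := hodd
    set b := t⁻¹ * (k * t * k⁻¹) with hb
    have hbB : b ∈ B := hkB t ht
    have h1 : k * t * k⁻¹ = t * b := by rw [hb]; group
    have h2 : ∀ m : ℕ, k ^ m * t * (k ^ m)⁻¹ = t * b ^ m := by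
      intro m
      induction m with
      | zero => simp
      | succ m ih =>
        have h3 : k * (b ^ m) * k⁻¹ = b ^ m := hcB _ (pow_mem hbB m)
        calc k ^ (m + 1) * t * (k ^ (m + 1))⁻¹ = k * (k ^ m * t * (k ^ m)⁻¹) * k⁻¹ := by
              rw [pow_succ']; group
          _ = k * (t * b ^ m) * k⁻¹ := by rw [ih]
          _ = (k * t * k⁻¹) * (k * b ^ m * k⁻¹) := by group
          _ = t * b * b ^ m := by rw [h1, h3]
          _ = t * b ^ (m + 1) := by rw [pow_succ', mul_assoc]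
    have h4 := h2 n
    rw [hkn] at h4
    have h5 : b ^ n = 1 := by
      have h6 : 1 * t * (1 : Y)⁻¹ = t := by group
      rw [h6] at h4
      exact (left_eq_mul.1 h4)
    have h7 : b = 1 := by
      obtain ⟨m, rfl⟩ := hn
      rw [pow_add, pow_mul, pow_two, h.Bsq' b hbB, one_pow, one_mul, pow_one] at h5
      exact h5
    rw [h1, h7, mul_one]
  refine h.faithful k hk ?_
  intro γ
  by_cases hγ : γ = α
  · rw [hγ, hkα]
  obtain ⟨t, ht, rfl⟩ := h.trans β γ hβ hγ
  have h8 := hcT t ht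
  have h9 : k * t = t * k := by
    calc k * t = k * t * k⁻¹ * k := by group
      _ = t * k := by rw [h8]
  rw [← mul_smul, h9, mul_smul, hkβ]

/-- `C_T(J) = 1`. -/
theorem eq_one_of_comm [Finite Y] {t : Y} (ht : t ∈ T) (hJ : ∀ j ∈ J, j * t = t * j) : t = 1 := by
  by_contra h1
  obtain ⟨k, hk⟩ := h.T2 ⟨t, ht⟩
  have hk' : t ^ 2 ^ k = 1 := by
    have := congrArg Subtype.val hk
    simpa using this
  obtain ⟨m, -, hm⟩ := (Nat.dvd_prime_pow Nat.prime_two).1 (orderOf_dvd_of_pow_eq_one hk')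
  rcases m with _ | m
  · rw [pow_zero, orderOf_eq_one_iff] at hm
    exact h1 hm
  set s := t ^ 2 ^ m with hs
  have hsT : s ∈ T := pow_mem ht _
  have hss : s * s = 1 := by
    rw [hs, ← pow_add, ← two_mul, ← pow_succ', ← hm, pow_orderOf_eq_one]
  have hs1 : s ≠ 1 := by
    intro e
    have h2 := orderOf_dvd_of_pow_eq_one e
    rw [hm] at h2
    have h3 := Nat.le_of_dvd (by positivity) h2
    have h4 : 2 ^ m < 2 ^ (m + 1) := Nat.pow_lt_pow_right (by norm_num) (Nat.lt_succ_self m)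
    omega
  have hsB : s ∈ B := h.Bsq s hsT hss
  have hJs : ∀ j ∈ J, j * s * j⁻¹ = s := by
    intro j hj
    have h2 : Commute j t := hJ j hj
    have h3 : Commute j s := h2.pow_right _
    calc j * s * j⁻¹ = s * j * j⁻¹ := by rw [h3.eq]
      _ = s := by group
  have hall : ∀ y ∈ B, y = 1 ∨ y = s := by
    intro y hy
    by_cases hy1 : y = 1
    · exact Or.inl hy1
    obtain ⟨j, hj, hjy⟩ := h.JB s hsB hs1 y hy hy1
    rw [hJs j hj] at hjy
    exact Or.inr hjy.symm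
  have hcard : Nat.card B ≤ 2 := by
    have h5 : (B : Set Y) ⊆ ({1, s} : Set Y) := by
      intro y hy
      rcases hall y hy with h | h
      · left; exact h
      · right; exact h
    have h6 := Set.ncard_le_ncard h5 (Set.toFinite _)
    have h7 : ({1, s} : Set Y).ncard ≤ 2 := Set.ncard_insert_le _ _ |>.trans (by rw [Set.ncard_singleton])
    have h8 : (B : Set Y).ncard = Nat.card B := rfl
    omega
  have := h.B4
  omega

theorem card_T [Finite Y] (hne : ∃ t ∈ T, c * t ≠ t * c) :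
    Nat.card T = Nat.card (T ⊓ centralizer ({c} : Set Y) : Subgroup Y) * Nat.card B := by
  let φ : T →* B :=
    { toFun := fun t => ⟨(t : Y)⁻¹ * (c * t * c⁻¹), h.cB t t.2⟩
      map_one' := by
        apply Subtype.ext
        change (1 : Y)⁻¹ * (c * 1 * c⁻¹) = 1
        group
      map_mul' := fun t u => Subtype.ext (h.kappa_mul h.cB t.2 u.2) }
  have hsurj : Function.Surjective φ := by
    obtain ⟨t0, ht0, hne0⟩ := hne
    have hb0 : t0⁻¹ * (c * t0 * c⁻¹) ≠ 1 := by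
      intro e
      apply hne0
      have h1 : t0 = c * t0 * c⁻¹ := inv_mul_eq_one.1 e
      calc c * t0 = c * t0 * c⁻¹ * c := by group
        _ = t0 * c := by rw [← h1]
    rintro ⟨b, hb⟩
    by_cases hb1 : b = 1
    · exact ⟨1, by rw [map_one]; exact Subtype.ext hb1.symm⟩
    obtain ⟨j, hj, hjb⟩ := h.JB _ (h.cB t0 ht0) hb0 b hb hb1
    have hjT : j * t0 * j⁻¹ ∈ T := h.norm j (h.JM hj) (h.Jfix j hj) t0 ht0
    refine ⟨⟨j * t0 * j⁻¹, hjT⟩, Subtype.ext ?_⟩
    change (j * t0 * j⁻¹)⁻¹ * (c * (j * t0 * j⁻¹) * c⁻¹) = b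
    rw [← hjb]
    have h2 := h.Jc j hj
    have h3 : j⁻¹ * c⁻¹ = c⁻¹ * j⁻¹ := by
      rw [← mul_inv_rev, ← mul_inv_rev, h2]
    calc (j * t0 * j⁻¹)⁻¹ * (c * (j * t0 * j⁻¹) * c⁻¹)
        = j * t0⁻¹ * j⁻¹ * ((c * j) * t0 * (j⁻¹ * c⁻¹)) := by group
      _ = j * t0⁻¹ * j⁻¹ * ((j * c) * t0 * (c⁻¹ * j⁻¹)) := by rw [h3, h2]
      _ = j * (t0⁻¹ * (c * t0 * c⁻¹)) * j⁻¹ := by group
  have hker : Nat.card φ.ker = Nat.card (T ⊓ centralizer ({c} : Set Y) : Subgroup Y) := by
    have hmem : ∀ t : T, t ∈ φ.ker ↔ (t : Y) ∈ centralizer ({c} : Set Y) := by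
      intro t
      rw [MonoidHom.mem_ker, mem_centralizer_iff]
      simp only [Set.mem_singleton_iff, forall_eq]
      constructor
      · intro e
        have e' : (t : Y)⁻¹ * (c * t * c⁻¹) = 1 := congrArg Subtype.val e
        have h1 : (t : Y) = c * t * c⁻¹ := inv_mul_eq_one.1 e'
        calc c * (t : Y) = c * t * c⁻¹ * c := by group
          _ = t * c := by rw [← h1]
      · intro e
        apply Subtype.ext
        change (t : Y)⁻¹ * (c * t * c⁻¹) = 1
        rw [e]; group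
    refine Nat.card_congr ⟨fun x => ⟨x.1.1, x.1.2, (hmem x.1).1 x.2⟩,
      fun x => ⟨⟨x.1, x.2.1⟩, (hmem _).2 x.2.2⟩, fun x => rfl, fun x => rfl⟩
  rw [← hker, ← Subgroup.card_mul_index φ.ker, Subgroup.index_ker, MonoidHom.range_eq_top.2 hsurj]
  congr 1
  exact Nat.card_congr Subgroup.topEquiv.toEquiv

/-- The counting argument. -/
theorem absurd [Finite Y] [Finite Ω] (hne : ∃ t ∈ T, c * t ≠ t * c) : False := by
  classical
  haveI : Fact (Nat.Prime 2) := ⟨Nat.prime_two⟩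
  obtain ⟨t0, ht0, hne0⟩ := id hne
  have hcT := h.card_T hne
  have ht01 : t0 ≠ 1 := by
    rintro rfl
    apply hne0; group
  -- a second point fixed by `J`
  obtain ⟨β1, hβ1⟩ : ∃ β1 : Ω, β1 ≠ α := by
    by_contra hcon
    push Not at hcon
    apply ht01
    refine h.faithful t0 (h.TM ht0) ?_
    intro β
    rw [hcon β, h.fixT t0 ht0]
  have hJT : J ≤ normalizer (T : Set Y) := by
    intro j hj
    rw [mem_normalizer_iff]
    intro t
    refine ⟨fun ht => h.norm j (h.JM hj) (h.Jfix j hj) t ht, fun ht => ?_⟩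
    have h1 : j⁻¹ • α = α := by
      rw [inv_smul_eq_iff]; exact (h.Jfix j hj).symm
    have h2 := h.norm j⁻¹ (inv_mem (h.JM hj)) h1 _ ht
    have e : j⁻¹ * (j * t * j⁻¹) * j⁻¹⁻¹ = t := by group
    rwa [e] at h2
  have hcop : (Nat.card J).Coprime (Nat.card T) := by
    obtain ⟨n, hn⟩ := IsPGroup.iff_card.1 h.T2
    rw [hn]
    exact Nat.Coprime.pow_right _ (Nat.coprime_two_right.2 h.Jodd)
  have hsolv : Group.IsSolvable T := by
    haveI := h.T2.isNilpotent
    infer_instance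
  obtain ⟨k1, hk1, hk1f⟩ := Cfsg.Agent.Solvable.Glauberman.exists_smul_fixed J T hJT hcop (Or.inr hsolv)
    (X := Ω) β1 (by
      intro a ha
      have h1 : a • β1 ≠ α := by
        intro e
        apply hβ1
        have : β1 = a⁻¹ • α := by rw [← e, inv_smul_smul]
        rw [this, inv_smul_eq_iff]
        exact (h.Jfix a ha).symm
      obtain ⟨k, hk, hkβ⟩ := h.trans β1 (a • β1) hβ1 h1
      exact ⟨k, hk, hkβ.symm⟩)
  set β := k1 • β1 with hβdef
  have hβ : β ≠ α := by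
    intro e
    apply hβ1
    have : β1 = k1⁻¹ • α := by rw [← e, hβdef, inv_smul_smul]
    rw [this, inv_smul_eq_iff]
    exact (h.fixT k1 hk1).symm
  have hfixne : ∀ g : Y, g • α = α → ∀ γ : Ω, γ ≠ α → g • γ ≠ α := by
    intro g hg γ hγ e
    apply hγ
    have : γ = g⁻¹ • α := by rw [← e, inv_smul_smul]
    rw [this, inv_smul_eq_iff]
    exact hg.symm
  -- `c` fixes `β`
  have hcβ : c • β = β := by
    obtain ⟨t, ht, htβ⟩ := h.trans β (c • β) hβ (hfixne c h.cfix β hβ)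
    have ht1 : t = 1 := by
      refine h.eq_one_of_comm ht ?_
      intro j hj
      have h1 : j * t * j⁻¹ ∈ T := h.norm j (h.JM hj) (h.Jfix j hj) t ht
      have hj1 : j⁻¹ • β = β := by rw [inv_smul_eq_iff]; exact (hk1f j hj).symm
      have h2 : (t⁻¹ * (j * t * j⁻¹)) • β = β := by
        rw [mul_smul, inv_smul_eq_iff, mul_smul, mul_smul, hj1, htβ, ← mul_smul, h.Jc j hj, mul_smul,
          hk1f j hj]
      have h3 := h.free _ (mul_mem (inv_mem ht) h1) β hβ h2
      have h4 : t = j * t * j⁻¹ := inv_mul_eq_one.1 h3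
      calc j * t = j * t * j⁻¹ * j := by group
        _ = t * j := by rw [← h4]
    rw [← htβ, ht1, one_smul]
  have hcinv := h.c_inv
  -- the two point stabilizer
  set K : Subgroup Y := (M ⊓ stabilizer Y α) ⊓ stabilizer Y β with hK
  have hKc : ∀ k ∈ K, c * k = k * c := by
    intro k hk
    have hkM : k ∈ M := hk.1.1
    have hkα : k • α = α := hk.1.2
    have hkβ : k • β = β := hk.2
    have hki : k⁻¹ • α = α := by rw [inv_smul_eq_iff]; exact hkα.symm
    have hkiβ : k⁻¹ • β = β := by rw [inv_smul_eq_iff]; exact hkβ.symm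
    have hci : c⁻¹ • α = α := by rw [inv_smul_eq_iff]; exact h.cfix.symm
    have hciβ : c⁻¹ • β = β := by rw [inv_smul_eq_iff]; exact hcβ.symm
    have hkT : ∀ t ∈ T, k * t * k⁻¹ ∈ T := h.norm k hkM hkα
    have hkT' : ∀ t ∈ T, k⁻¹ * t * k ∈ T := by
      intro t ht
      have := h.norm k⁻¹ (inv_mem hkM) hki t ht
      rwa [inv_inv] at this
    have hkB : ∀ b ∈ B, k * b * k⁻¹ ∈ B := by
      intro b hb
      refine h.Bsq _ (hkT b (h.BT hb)) ?_
      calc k * b * k⁻¹ * (k * b * k⁻¹) = k * (b * b) * k⁻¹ := by group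
        _ = 1 := by rw [h.Bsq' b hb]; group
    have hkB' : ∀ b ∈ B, k⁻¹ * b * k ∈ B := by
      intro b hb
      refine h.Bsq _ (hkT' b (h.BT hb)) ?_
      calc k⁻¹ * b * k * (k⁻¹ * b * k) = k⁻¹ * (b * b) * k := by group
        _ = 1 := by rw [h.Bsq' b hb]; group
    have hcB' : ∀ b ∈ B, c * b * c⁻¹ ∈ B := by
      intro b hb
      refine h.Bsq _ (h.cT b (h.BT hb)) ?_
      calc c * b * c⁻¹ * (c * b * c⁻¹) = c * (b * b) * c⁻¹ := by group
        _ = 1 := by rw [h.Bsq' b hb]; group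
    have h1 : k⁻¹ * (c * k * c⁻¹) = 1 := by
      refine h.eq_one_of_kappa hβ hk1f (mul_mem (inv_mem hkM) (h.cM k hkM)) ?_ ?_ ?_
      · rw [mul_smul, mul_smul, mul_smul, hci, hkα, h.cfix, hki]
      · rw [mul_smul, mul_smul, mul_smul, hciβ, hkβ, hcβ, hkiβ]
      · intro t ht
        -- the element `s = k t k⁻¹`
        have hs := hkT t ht
        set s := k * t * k⁻¹ with hsdef
        have hb1 := h.cB t ht
        have hb2 := h.cB s hs
        have e : t⁻¹ * (k⁻¹ * (c * k * c⁻¹) * t * (k⁻¹ * (c * k * c⁻¹))⁻¹) =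
            k⁻¹ * ((s⁻¹ * (c * s * c⁻¹)) * (c * (k * (t⁻¹ * (c⁻¹ * t * c)) * k⁻¹) * c⁻¹)) * k := by
          rw [hsdef]; group
        rw [e]
        have hb1' : t⁻¹ * (c⁻¹ * t * c) ∈ B := by
          rw [hcinv]
          rw [hcinv] at hb1
          exact hb1
        exact hkB' _ (mul_mem hb2 (hcB' _ (hkB _ hb1')))
    have h2 : k = c * k * c⁻¹ := inv_mul_eq_one.1 h1
    calc c * k = c * k * c⁻¹ * c := by group
      _ = k * c := by rw [← h2]
  set Tc : Subgroup Y := T ⊓ centralizer ({c} : Set Y) with hTc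
  set C : Subgroup Y := M ⊓ centralizer ({c} : Set Y) with hC
  have hmemc : ∀ {g : Y}, g ∈ centralizer ({c} : Set Y) ↔ c * g = g * c := by
    intro g
    rw [mem_centralizer_iff]
    simp only [Set.mem_singleton_iff, forall_eq]
  -- an element of `C` moving `α`
  obtain ⟨u, huM, huc, huα⟩ : ∃ u ∈ M, c * u = u * c ∧ u • α ≠ α := by
    obtain ⟨m, hm, hmβ⟩ := h.mtrans β
    have hmβ' : m⁻¹ • β = α := by rw [inv_smul_eq_iff]; exact hmβ.symm
    have hψ : ∀ t ∈ T, m⁻¹ * (c * (m * t * m⁻¹) * c⁻¹) * m ∈ T := by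
      intro t ht
      obtain ⟨k, hk⟩ := h.T2 ⟨t, ht⟩
      have hk' : t ^ 2 ^ k = 1 := by
        have := congrArg Subtype.val hk
        simpa using this
      refine h.sylow _ ?_ ?_ k ?_
      · exact mul_mem (mul_mem (inv_mem hm) (h.cM _ (mul_mem (mul_mem hm (h.TM ht)) (inv_mem hm)))) hm
      · have hci : c⁻¹ • β = β := by rw [inv_smul_eq_iff]; exact hcβ.symm
        rw [mul_smul, mul_smul, mul_smul, mul_smul, mul_smul, mul_smul, hmβ, hci, hmβ', h.fixT t ht, hmβ,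
          hcβ, hmβ']
      · have e : m⁻¹ * (c * (m * t * m⁻¹) * c⁻¹) * m = (m⁻¹ * c * m) * t * (m⁻¹ * c * m)⁻¹ := by group
        rw [e, conj_pow, hk']; group
    let ψ : T → T := fun t => ⟨_, hψ t t.2⟩
    have hψψ : ∀ t, ψ (ψ t) = t := by
      intro t
      apply Subtype.ext
      change m⁻¹ * (c * (m * (m⁻¹ * (c * (m * (t : Y) * m⁻¹) * c⁻¹) * m) * m⁻¹) * c⁻¹) * m = t
      have e : m⁻¹ * (c * (m * (m⁻¹ * (c * (m * (t : Y) * m⁻¹) * c⁻¹) * m) * m⁻¹) * c⁻¹) * m =
          m⁻¹ * ((c * c) * (m * (t : Y) * m⁻¹) * (c * c)⁻¹) * m := by group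
      rw [e, h.c2]; group
    haveI : Fintype T := Fintype.ofFinite _
    let ψ' : Function.End T := ψ
    have hmod := Equiv.Perm.card_fixedPoints_modEq (α := T) (f := ψ') (p := 2) (n := 1) (by
      have e : (2 : ℕ) ^ 1 = 1 + 1 := by norm_num
      rw [e, pow_add, pow_one]
      funext t
      exact hψψ t)
    have heven : 2 ∣ Fintype.card T := by
      rw [← Nat.card_eq_fintype_card, hcT]
      have h4 := h.B4
      obtain ⟨n, hn⟩ := IsPGroup.iff_card.1 (h.T2.to_le h.BT)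
      rw [hn] at h4 ⊢
      rcases n with _ | n
      · norm_num at h4
      · exact Dvd.dvd.mul_left (dvd_pow_self 2 (Nat.succ_ne_zero n)) _
    have heven2 : 2 ∣ Fintype.card (Function.fixedPoints ψ') := (hmod.dvd_iff (dvd_refl 2)).1 heven
    have hone : (1 : T) ∈ Function.fixedPoints ψ' := by
      rw [Function.mem_fixedPoints_iff]
      apply Subtype.ext
      change m⁻¹ * (c * (m * 1 * m⁻¹) * c⁻¹) * m = 1
      group
    have hgt : 1 < Fintype.card (Function.fixedPoints ψ') := by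
      have hpos : 0 < Fintype.card (Function.fixedPoints ψ') := Fintype.card_pos_iff.2 ⟨⟨1, hone⟩⟩
      obtain ⟨r, hr⟩ := heven2
      omega
    obtain ⟨⟨t, htf⟩, hne1⟩ := Fintype.exists_ne_of_one_lt_card hgt ⟨1, hone⟩
    have ht1 : (t : Y) ≠ 1 := by
      intro e
      apply hne1
      apply Subtype.ext
      exact Subtype.ext e
    rw [Function.mem_fixedPoints_iff] at htf
    have htf' : m⁻¹ * (c * (m * (t : Y) * m⁻¹) * c⁻¹) * m = t := congrArg Subtype.val htf
    refine ⟨m * t * m⁻¹, mul_mem (mul_mem hm (h.TM t.2)) (inv_mem hm), ?_, ?_⟩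
    · have h6 : c * (m * (t : Y) * m⁻¹) * c⁻¹ = m * t * m⁻¹ := by
        calc c * (m * (t : Y) * m⁻¹) * c⁻¹
            = m * (m⁻¹ * (c * (m * (t : Y) * m⁻¹) * c⁻¹) * m) * m⁻¹ := by group
          _ = m * t * m⁻¹ := by rw [htf']
      calc c * (m * (t : Y) * m⁻¹) = c * (m * (t : Y) * m⁻¹) * c⁻¹ * c := by group
        _ = _ := by rw [h6]
    · intro e
      apply ht1
      obtain ⟨k, hk⟩ := h.T2 t
      have hk' : (t : Y) ^ 2 ^ k = 1 := by
        have := congrArg Subtype.val hk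
        simpa using this
      have h7 : m * (t : Y) * m⁻¹ ∈ T := by
        refine h.sylow _ (mul_mem (mul_mem hm (h.TM t.2)) (inv_mem hm)) e k ?_
        rw [conj_pow, hk']; group
      have h8 : m * (t : Y) * m⁻¹ = 1 := by
        refine h.free _ h7 β hβ ?_
        rw [mul_smul, mul_smul, hmβ', h.fixT t t.2, hmβ]
      have h9 : (t : Y) = m⁻¹ * (m * (t : Y) * m⁻¹) * m := by group
      rw [h9, h8]; group
  -- the orbit of `C`
  have hfixC : ∀ g ∈ C, ∀ γ : Ω, c • γ = γ → c • (g • γ) = g • γ := by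
    intro g hg γ hγ
    have h1 := hmemc.1 hg.2
    rw [← mul_smul, h1, mul_smul, hγ]
  have htc : ∀ t ∈ T, ∀ γ : Ω, γ ≠ α → c • γ = γ → c • (t • γ) = t • γ → t ∈ Tc := by
    intro t ht γ hγα hγ htγ
    refine ⟨ht, hmemc.2 ?_⟩
    have hci : c⁻¹ • γ = γ := by rw [inv_smul_eq_iff]; exact hγ.symm
    have h1 : (t⁻¹ * (c * t * c⁻¹)) • γ = γ := by
      rw [mul_smul, inv_smul_eq_iff, mul_smul, mul_smul, hci, htγ]
    have h2 := h.free _ (mul_mem (inv_mem ht) (h.cT t ht)) γ hγα h1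
    have h3 : t = c * t * c⁻¹ := inv_mul_eq_one.1 h2
    calc c * t = c * t * c⁻¹ * c := by group
      _ = t * c := by rw [← h3]
  have horbC : orbit C α = {γ : Ω | c • γ = γ} := by
    ext γ
    constructor
    · rintro ⟨⟨g, hg⟩, rfl⟩
      exact hfixC g hg α h.cfix
    · intro hγ
      have huC : u ∈ C := ⟨huM, hmemc.2 huc⟩
      by_cases hγα : γ = α
      · rw [hγα]; exact mem_orbit_self α
      obtain ⟨t, ht, htγ⟩ := h.trans (u • α) γ huα hγα
      have htTc := htc t ht (u • α) huα (hfixC u huC α h.cfix) (by rw [htγ]; exact hγ)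
      refine ⟨⟨t * u, mul_mem (⟨h.TM ht, htTc.2⟩ : t ∈ C) huC⟩, ?_⟩
      change (t * u) • α = γ
      rw [mul_smul, htγ]
  have hbot : ∀ H : Subgroup Y, H ≤ T → (H ⊓ stabilizer Y β : Subgroup Y) = ⊥ := by
    intro H hH
    rw [eq_bot_iff]
    intro x hx
    rw [mem_bot]
    exact h.free x (hH hx.1) β hβ hx.2
  have hcardTc : Nat.card Tc = (orbit Tc β).ncard := by
    have h1 := card_eq_orbit Tc β
    rw [hbot Tc inf_le_left] at h1
    simpa using h1
  have hcardT : Nat.card T = (orbit T β).ncard := by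
    have h1 := card_eq_orbit T β
    rw [hbot T le_rfl] at h1
    simpa using h1
  have hFix : ({γ : Ω | c • γ = γ} : Set Ω).ncard = 1 + Nat.card Tc := by
    have h1 : ({γ : Ω | c • γ = γ} : Set Ω) = insert α (orbit Tc β) := by
      ext γ
      constructor
      · intro hγ
        by_cases hγα : γ = α
        · left; exact hγα
        right
        obtain ⟨t, ht, htγ⟩ := h.trans β γ hβ hγα
        have htTc := htc t ht β hβ hcβ (by rw [htγ]; exact hγ)
        exact ⟨⟨t, htTc⟩, htγ⟩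
      · rintro (rfl | ⟨⟨t, ht⟩, rfl⟩)
        · exact h.cfix
        · exact hfixC t ⟨h.TM ht.1, ht.2⟩ β hcβ
    have h2 : α ∉ orbit Tc β := by
      rintro ⟨⟨t, ht⟩, htα⟩
      exact hfixne t (h.fixT t ht.1) β hβ htα
    rw [h1, Set.ncard_insert_of_notMem h2 (Set.toFinite _), hcardTc, add_comm]
  have horbne : ∀ H : Subgroup Y, T ≤ H → H ≤ stabilizer Y α → orbit H β = {γ : Ω | γ ≠ α} := by
    intro H hTH hHα
    ext γ
    constructor
    · rintro ⟨⟨g, hg⟩, rfl⟩
      exact hfixne g (hHα hg) β hβ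
    · intro hγ
      obtain ⟨t, ht, htγ⟩ := h.trans β γ hβ hγ
      exact ⟨⟨t, hTH ht⟩, htγ⟩
  have hTα : T ≤ stabilizer Y α := fun t ht => h.fixT t ht
  have hcardMα : Nat.card (M ⊓ stabilizer Y α : Subgroup Y) = Nat.card T * Nat.card K := by
    rw [card_eq_orbit (M ⊓ stabilizer Y α) β, horbne _ (le_inf h.TM hTα) inf_le_right, hcardT,
      horbne T le_rfl hTα]
  have hcardΩ : (orbit M α).ncard = 1 + Nat.card T := by
    have h1 : orbit M α = insert α {γ : Ω | γ ≠ α} := by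
      ext γ
      constructor
      · intro _
        by_cases hγ : γ = α
        · left; exact hγ
        · right; exact hγ
      · intro _
        obtain ⟨m, hm, hmγ⟩ := h.mtrans γ
        exact ⟨⟨m, hm⟩, hmγ⟩
    have h2 : α ∉ {γ : Ω | γ ≠ α} := fun hh => hh rfl
    rw [h1, Set.ncard_insert_of_notMem h2 (Set.toFinite _), hcardT, horbne T le_rfl hTα, add_comm]
  have hcardM : Nat.card M = (1 + Nat.card T) * (Nat.card T * Nat.card K) := by
    rw [card_eq_orbit M α, hcardΩ, hcardMα]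
  have hKodd : Odd (Nat.card K) := by
    rw [← Nat.not_even_iff_odd, even_iff_two_dvd]
    intro h2
    obtain ⟨x, hx⟩ := exists_prime_orderOf_dvd_card' 2 h2
    have hx1 : (x : Y) ≠ 1 := by
      intro e
      have : x = 1 := Subtype.ext e
      rw [this, orderOf_one] at hx
      norm_num at hx
    apply hx1
    have hxT : (x : Y) ∈ T := by
      refine h.sylow _ x.2.1.1 x.2.1.2 1 ?_
      rw [pow_one, ← hx, ← orderOf_coe, pow_orderOf_eq_one]
    exact h.free _ hxT β hβ x.2.2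
  have hTcp : IsPGroup 2 Tc := h.T2.to_le inf_le_left
  have hcop2 : (Nat.card Tc).Coprime (Nat.card K) := by
    obtain ⟨n, hn⟩ := IsPGroup.iff_card.1 hTcp
    rw [hn]
    exact Nat.Coprime.pow_left _ (Nat.coprime_two_left.2 hKodd)
  have hdvd1 : Nat.card Tc * Nat.card K ∣ Nat.card (C ⊓ stabilizer Y α : Subgroup Y) := by
    refine hcop2.mul_dvd_of_dvd_of_dvd (Subgroup.card_dvd_of_le ?_) (Subgroup.card_dvd_of_le ?_)
    · intro x hx
      exact ⟨⟨h.TM hx.1, hx.2⟩, h.fixT x hx.1⟩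
    · intro x hx
      exact ⟨⟨hx.1.1, hmemc.2 (hKc x hx)⟩, hx.1.2⟩
  have hdvd2 : (1 + Nat.card Tc) * (Nat.card Tc * Nat.card K) ∣ Nat.card C := by
    rw [card_eq_orbit C α, horbC, hFix]
    exact mul_dvd_mul_left _ hdvd1
  have hdvd3 : (1 + Nat.card Tc) * (Nat.card Tc * Nat.card K) ∣
      (1 + Nat.card T) * (Nat.card T * Nat.card K) := by
    rw [← hcardM]
    exact hdvd2.trans (Subgroup.card_dvd_of_le inf_le_left)
  -- arithmetic
  have hKpos : 0 < Nat.card K := Nat.card_pos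
  have hepos : 0 < Nat.card Tc := Nat.card_pos
  have hqpos : 0 < Nat.card B := Nat.card_pos
  have hsq := h.sq
  have hB4 := h.B4
  obtain ⟨a, ha⟩ := IsPGroup.iff_card.1 hTcp
  obtain ⟨b, hb⟩ := IsPGroup.iff_card.1 (h.T2.to_le h.BT)
  generalize Nat.card Tc = e at *
  generalize Nat.card B = q at *
  generalize Nat.card K = k at *
  rw [hcT] at hdvd3 hsq
  have hle : q ≤ e := by
    by_contra hlt
    push Not at hlt
    nlinarith
  have h1 : (1 + e) * (e * k) = (1 + e) * (e * k) := rfl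
  have h2 : (1 + e) ∣ (1 + e * q) * q := by
    have h3 : (1 + e * q) * (e * q * k) = ((1 + e * q) * q) * (e * k) := by ring
    rw [h3] at hdvd3
    exact Nat.dvd_of_mul_dvd_mul_right (Nat.mul_pos hepos hKpos) hdvd3
  have hfq : (1 + e).Coprime q := by
    rw [hb]
    refine Nat.Coprime.pow_right _ ?_
    rw [Nat.coprime_two_right]
    rw [ha]
    rcases a with _ | a
    · rw [pow_zero] at ha
      omega
    · rw [pow_succ]
      exact ⟨2 ^ a, by ring⟩
  have h4 : (1 + e) ∣ 1 + e * q := hfq.dvd_of_dvd_mul_right h2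
  have h5 : (1 + e) ∣ q - 1 := by
    have h6 : (1 + e) * q = (1 + e * q) + (q - 1) := by
      have : 1 ≤ q := hqpos
      zify [this]
      ring
    have h7 : (1 + e) ∣ (1 + e) * q := dvd_mul_right _ _
    rw [h6] at h7
    exact (Nat.dvd_add_right h4).1 h7
  have h8 := Nat.le_of_dvd (by omega) h5
  omega

end Design

end Cfsg.Agent.TwoFusion.GoldDesign
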