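import Cfsg.Agent.TwoFusion.GoldDefs

/-!
# Closed families: weak closure and control of fusion
-/

set_option autoImplicit false
set_option linter.style.haveILetI false

namespace Cfsg.Agent.TwoFusion.Gold

open Subgroup
open Cfsg.Agent.TwoFusion.ClosedFam

variable {G : Type*} [Group G]

theorem card_map_conj (H : Subgroup G) (g : G) :
    Nat.card (H.map (MulAut.conj g).toMonoidHom) = Nat.card H :=
  Nat.card_congr (H.equivMapOfInjective _ (MulAut.conj g).injective).toEquiv.symm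

theorem mem_map_conj {H : Subgroup G} {g x : G} :
    x ∈ H.map (MulAut.conj g).toMonoidHom ↔ g⁻¹ * x * g ∈ H := by
  constructor
  · rintro ⟨y, hy, rfl⟩
    have e : g⁻¹ * (MulAut.conj g).toMonoidHom y * g = y := by
      change g⁻¹ * (g * y * g⁻¹) * g = y
      group
    rw [e]; exact hy
  · intro hx
    refine ⟨_, hx, ?_⟩
    change g * (g⁻¹ * x * g) * g⁻¹ = x
    group

theorem map_conj_mul (H : Subgroup G) (g k : G) :
    H.map (MulAut.conj (g * k)).toMonoidHom =
      (H.map (MulAut.conj k).toMonoidHom).map (MulAut.conj g).toMonoidHom := by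
  ext x
  rw [mem_map_conj, mem_map_conj, mem_map_conj]
  have e : (g * k)⁻¹ * x * (g * k) = k⁻¹ * (g⁻¹ * x * g) * k := by group
  rw [e]

theorem mem_normalizer_of_map_conj {H : Subgroup G} {g : G}
    (h : H.map (MulAut.conj g).toMonoidHom = H) : g ∈ normalizer (H : Set G) := by
  rw [mem_normalizer_iff]
  intro x
  have h1 : g * x * g⁻¹ ∈ H.map (MulAut.conj g).toMonoidHom ↔ x ∈ H := by
    rw [mem_map_conj]
    have e : g⁻¹ * (g * x * g⁻¹) * g = x := by group
    rw [e]
  rw [h] at h1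
  exact h1.symm

theorem map_conj_of_mem_normalizer {H : Subgroup G} {g : G} (h : g ∈ normalizer (H : Set G)) :
    H.map (MulAut.conj g).toMonoidHom = H := by
  ext x
  rw [mem_map_conj]
  have h1 : g⁻¹ ∈ normalizer (H : Set G) := inv_mem h
  have := mem_normalizer_iff.1 h1 x
  rw [inv_inv] at this
  exact this.symm

section Weak

variable [Finite G] {𝒜 : Set G} (h : IsClosedFam 𝒜)
include h

theorem card_fam_sylow (S P : Sylow 2 G) :
    Nat.card (fam 𝒜 (S : Subgroup G)) = Nat.card (fam 𝒜 (P : Subgroup G)) := by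
  haveI : Fact (Nat.Prime 2) := ⟨Nat.prime_two⟩
  obtain ⟨g, hg⟩ := MulAction.exists_smul_eq G S P
  have h1 : (P : Subgroup G) = (S : Subgroup G).map (MulAut.conj g).toMonoidHom := by
    rw [← hg]; rfl
  rw [h1, ← h.map_conj_fam, card_map_conj]

/-- The intersection `A` of the family with a Sylow subgroup is the intersection with every 2-subgroup
containing `A`. -/
theorem fam_eq_of_le (S : Sylow 2 G) {Q : Subgroup G} (hQ : IsPGroup 2 Q)
    (hle : fam 𝒜 (S : Subgroup G) ≤ Q) : fam 𝒜 Q = fam 𝒜 (S : Subgroup G) := by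
  haveI : Fact (Nat.Prime 2) := ⟨Nat.prime_two⟩
  have h1 : fam 𝒜 (S : Subgroup G) ≤ fam 𝒜 Q := by
    intro x hx
    rw [h.mem_fam_iff hQ]
    exact ⟨((h.mem_fam_iff S.2).1 hx).1, hle hx⟩
  obtain ⟨P, hP⟩ := hQ.exists_le_sylow
  have h2 : fam 𝒜 Q ≤ fam 𝒜 (P : Subgroup G) := fam_mono 𝒜 hP
  refine (eq_of_le_of_card_ge h1 ?_).symm
  rw [card_fam_sylow h S P]
  exact Subgroup.card_le_of_le h2

/-- Conjugates of `A` in a subgroup `H` are conjugate in `H`. -/
theorem exists_conj_fam (S : Sylow 2 G) {H : Subgroup G} {g : G} (h1 : fam 𝒜 (S : Subgroup G) ≤ H)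
    (h2 : (fam 𝒜 (S : Subgroup G)).map (MulAut.conj g).toMonoidHom ≤ H) :
    ∃ c ∈ H, (fam 𝒜 (S : Subgroup G)).map (MulAut.conj (c * g)).toMonoidHom = fam 𝒜 (S : Subgroup G) := by
  haveI : Fact (Nat.Prime 2) := ⟨Nat.prime_two⟩
  set A := fam 𝒜 (S : Subgroup G) with hA
  have hAp : IsPGroup 2 A := isPGroup_fam 𝒜 S.2
  have hBp : IsPGroup 2 (A.map (MulAut.conj g).toMonoidHom) := hAp.map _
  -- Sylow subgroups of `H`
  obtain ⟨P, hP⟩ := (hAp.comap_of_injective H.subtype H.subtype_injective).exists_le_sylow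
  obtain ⟨R, hR⟩ := (hBp.comap_of_injective H.subtype H.subtype_injective).exists_le_sylow
  obtain ⟨c, hc⟩ := MulAction.exists_smul_eq H R P
  have hPm : IsPGroup 2 ((P : Subgroup H).map H.subtype) := P.2.map _
  have hRm : IsPGroup 2 ((R : Subgroup H).map H.subtype) := R.2.map _
  have hAP : A ≤ (P : Subgroup H).map H.subtype := by
    intro x hx
    exact ⟨⟨x, h1 hx⟩, hP (by rw [mem_comap]; exact hx), rfl⟩
  have hBR : A.map (MulAut.conj g).toMonoidHom ≤ (R : Subgroup H).map H.subtype := by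
    intro x hx
    exact ⟨⟨x, h2 hx⟩, hR (by rw [mem_comap]; exact hx), rfl⟩
  have e1 : fam 𝒜 ((P : Subgroup H).map H.subtype) = A := fam_eq_of_le h S hPm hAP
  -- the conjugate of `A` is the member of the family for the conjugate Sylow subgroup
  have e2 : fam 𝒜 ((R : Subgroup H).map H.subtype) = A.map (MulAut.conj g).toMonoidHom := by
    have h3 := fam_eq_of_le h (g • S) hRm (by
      have : ((g • S : Sylow 2 G) : Subgroup G) = (S : Subgroup G).map (MulAut.conj g).toMonoidHom := rfl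
      rw [this, ← h.map_conj_fam]
      exact hBR)
    rw [h3]
    have : ((g • S : Sylow 2 G) : Subgroup G) = (S : Subgroup G).map (MulAut.conj g).toMonoidHom := rfl
    rw [this, ← h.map_conj_fam]
  refine ⟨c, c.2, ?_⟩
  rw [map_conj_mul, ← e2, h.map_conj_fam, ← e1]
  congr 1
  rw [← hc]
  ext x
  constructor
  · rintro ⟨_, ⟨y, hy, rfl⟩, rfl⟩
    refine ⟨c * y * c⁻¹, ?_, rfl⟩
    exact ⟨y, hy, rfl⟩
  · rintro ⟨_, ⟨y, hy, rfl⟩, rfl⟩
    exact ⟨y, ⟨y, hy, rfl⟩, rfl⟩

end Weak

/-- Control of fusion by `N_L(A)`: if `A` normalizes `L`, then an `L`-conjugation between elements of `A` is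
realized in `N_L(A)`. -/
theorem exists_normalizing [Finite G] {𝒜 : Set G} (h : IsElemFam 𝒜) (S : Sylow 2 G) {L : Subgroup G}
    (hn : fam 𝒜 (S : Subgroup G) ≤ normalizer (L : Set G)) {x g : G} (hx : x ∈ 𝒜) (hxS : x ∈ S)
    (hg : g ∈ L) (hgx : g * x * g⁻¹ ∈ S) :
    ∃ n ∈ L, n ∈ normalizer (fam 𝒜 (S : Subgroup G) : Set G) ∧ n * x * n⁻¹ = g * x * g⁻¹ := by
  set A := fam 𝒜 (S : Subgroup G) with hA
  set y := g * x * g⁻¹ with hy
  have hyA : y ∈ A := mem_fam (h.conj_mem x hx g) hgx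
  have hxA : x ∈ A := mem_fam hx hxS
  have hcommA : ∀ a ∈ A, ∀ b ∈ A, a * b = b * a := by
    intro a ha b hb
    rw [h.mem_fam_iff S.2] at ha hb
    exact h.comm S.2 ha.1 ha.2 hb.1 hb.2
  set K : Subgroup G := L ⊓ centralizer ({y} : Set G) with hK
  have hmemC : ∀ {z : G}, z ∈ centralizer ({y} : Set G) ↔ z * y = y * z := by
    intro z
    rw [mem_centralizer_iff]
    simp only [Set.mem_singleton_iff, forall_eq]
    exact eq_comm
  have hAK : A ≤ normalizer (K : Set G) := by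
    intro a ha
    have haC : a ∈ normalizer ((centralizer ({y} : Set G) : Subgroup G) : Set G) := by
      refine le_normalizer ?_
      exact hmemC.2 (hcommA a ha y hyA)
    rw [mem_normalizer_iff]
    intro z
    rw [hK, mem_inf, mem_inf]
    exact and_congr (mem_normalizer_iff.1 (hn ha) z) (mem_normalizer_iff.1 haC z)
  -- the subgroup `H = K A`
  have h1 : A ≤ K ⊔ A := le_sup_right
  have h2 : A.map (MulAut.conj g).toMonoidHom ≤ K ⊔ A := by
    rintro _ ⟨a, ha, rfl⟩
    change g * a * g⁻¹ ∈ K ⊔ A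
    have h3 : g * a * g⁻¹ = (g * a * g⁻¹ * a⁻¹) * a := by group
    rw [h3]
    refine mul_mem (le_sup_left (a := K) ?_) (le_sup_right (b := A) ha)
    rw [hK, mem_inf]
    constructor
    · have h4 : g * a * g⁻¹ * a⁻¹ = g * (a * g⁻¹ * a⁻¹) := by group
      rw [h4]
      exact mul_mem hg ((mem_normalizer_iff.1 (hn ha) _).1 (inv_mem hg))
    · refine mul_mem ?_ (inv_mem (hmemC.2 (hcommA a ha y hyA)))
      rw [hmemC, hy]
      have h5 := hcommA a ha x hxA
      calc g * a * g⁻¹ * (g * x * g⁻¹) = g * (a * x) * g⁻¹ := by group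
        _ = g * (x * a) * g⁻¹ := by rw [h5]
        _ = g * x * g⁻¹ * (g * a * g⁻¹) := by group
  obtain ⟨c, hc, hcA⟩ := exists_conj_fam h.toIsClosedFam S h1 h2
  obtain ⟨a, ha, k, hk, rfl⟩ : ∃ a ∈ A, ∃ k ∈ K, c = a * k := by
    rw [sup_comm] at hc
    have h7 : c ∈ ((A ⊔ K : Subgroup G) : Set G) := hc
    rw [Subgroup.coe_mul_of_left_le_normalizer_right A K hAK] at h7
    obtain ⟨a, ha, k, hk, rfl⟩ := h7
    exact ⟨a, ha, k, hk, rfl⟩
  rw [hK, mem_inf] at hk
  refine ⟨k * g, mul_mem hk.1 hg, ?_, ?_⟩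
  · have h8 : a * k * g = a * (k * g) := by group
    rw [h8, map_conj_mul] at hcA
    have h9 : (A.map (MulAut.conj (k * g)).toMonoidHom) = A := by
      have h11 : A.map (MulAut.conj a).toMonoidHom = A :=
        map_conj_of_mem_normalizer (le_normalizer ha)
      exact Subgroup.map_injective (MulAut.conj a).injective (hcA.trans h11.symm)
    exact mem_normalizer_of_map_conj h9
  · have h12 := hmemC.1 hk.2
    calc k * g * x * (k * g)⁻¹ = k * y * k⁻¹ := by rw [hy]; group
      _ = y * k * k⁻¹ := by rw [h12]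
      _ = y := by group

end Cfsg.Agent.TwoFusion.Gold
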