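import Cfsg.Agent.TwoFusion.GoldDefs

/-!
# Transport of the predicate `TProp` along isomorphisms
-/

set_option autoImplicit false
set_option linter.style.haveILetI false

namespace Cfsg.Agent.TwoFusion.GoldTrans

open Subgroup
open Cfsg.Agent.TwoFusion.ClosedFam Cfsg.Agent.TwoFusion.Gold

theorem isStronglyEmbedded_map {G G' : Type*} [Group G] [Group G'] (e : G ≃* G') {H : Subgroup G}
    (h : Cfsg.IsStronglyEmbedded H) : Cfsg.IsStronglyEmbedded (H.map e.toMonoidHom) := by
  have hcard : ∀ K : Subgroup G, Nat.card (K.map e.toMonoidHom) = Nat.card K := fun K =>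
    (Nat.card_congr (K.equivMapOfInjective _ e.injective).toEquiv).symm
  have hmem : ∀ (K : Subgroup G) (x : G), e x ∈ K.map e.toMonoidHom ↔ x ∈ K := by
    intro K x
    constructor
    · rintro ⟨y, hy, hyx⟩
      have : y = x := e.injective hyx
      rwa [← this]
    · intro hx; exact ⟨x, hx, rfl⟩
  refine ⟨?_, ?_, ?_⟩
  · intro htop
    apply h.1
    rw [eq_top_iff]
    intro x _
    have : e x ∈ H.map e.toMonoidHom := by rw [htop]; exact mem_top _
    exact (hmem H x).1 this
  · rw [hcard]; exact h.2.1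
  · intro g' hg'
    obtain ⟨g, rfl⟩ := e.surjective g'
    have hg : g ∉ H := fun hh => hg' ((hmem H g).2 hh)
    have h1 := h.2.2 g hg
    have e1 : H.map e.toMonoidHom ⊓ (H.map e.toMonoidHom).map (MulAut.conj (e g)).toMonoidHom =
        (H ⊓ H.map (MulAut.conj g).toMonoidHom).map e.toMonoidHom := by
      ext x'
      obtain ⟨x, rfl⟩ := e.surjective x'
      rw [mem_inf, hmem, hmem, mem_inf]
      refine and_congr_right fun _ => ?_
      constructor
      · rintro ⟨_, ⟨y, hy, rfl⟩, hyx⟩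
        refine ⟨y, hy, ?_⟩
        apply e.injective
        rw [← hyx]
        change e (g * y * g⁻¹) = e g * e y * (e g)⁻¹
        rw [map_mul, map_mul, map_inv]
      · rintro ⟨y, hy, hyx⟩
        refine ⟨e y, ⟨y, hy, rfl⟩, ?_⟩
        rw [← hyx]
        change e g * e y * (e g)⁻¹ = e (g * y * g⁻¹)
        rw [map_mul, map_mul, map_inv]
    rw [e1, hcard]
    exact h1

/-- The transported Sylow subgroup. -/
noncomputable def sy {L L' : Type*} [Group L] [Group L'] [Finite L] (e : L ≃* L') (S : Sylow 2 L) :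
    Sylow 2 L' :=
  haveI : Fact (Nat.Prime 2) := ⟨Nat.prime_two⟩
  S.mapSurjective (f := e.toMonoidHom) e.surjective

theorem mem_sy {L L' : Type*} [Group L] [Group L'] [Finite L] (e : L ≃* L') (S : Sylow 2 L) (x : L) :
    e x ∈ sy e S ↔ x ∈ S := by
  haveI : Fact (Nat.Prime 2) := ⟨Nat.prime_two⟩
  have h1 : ((sy e S : Sylow 2 L') : Subgroup L') = (S : Subgroup L).map e.toMonoidHom := by
    unfold sy
    exact S.coe_mapSurjective e.surjective
  change e x ∈ ((sy e S : Sylow 2 L') : Subgroup L') ↔ _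
  rw [h1]
  constructor
  · rintro ⟨y, hy, hyx⟩
    have : y = x := e.injective hyx
    rwa [← this]
  · intro hx; exact ⟨x, hx, rfl⟩

theorem sy_surj {L L' : Type*} [Group L] [Group L'] [Finite L] (e : L ≃* L') (S' : Sylow 2 L') :
    ∃ S : Sylow 2 L, sy e S = S' := by
  haveI : Finite L' := Finite.of_equiv L e.toEquiv
  refine ⟨sy e.symm S', ?_⟩
  apply Sylow.ext
  ext x'
  obtain ⟨x, rfl⟩ := e.surjective x'
  change e x ∈ sy e (sy e.symm S') ↔ e x ∈ S'
  rw [mem_sy]
  have h2 := mem_sy e.symm S' (e x)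
  rw [e.symm_apply_apply] at h2
  exact h2

theorem benPack_congr {L L' : Type*} [Group L] [Group L'] [Finite L] (e : L ≃* L') (h : BenPack L) :
    BenPack L' := by
  haveI : Fact (Nat.Prime 2) := ⟨Nat.prime_two⟩
  haveI : Finite L' := Finite.of_equiv L e.toEquiv
  have hcardS : ∀ S : Sylow 2 L, Nat.card (sy e S) = Nat.card S := by
    intro S
    have h1 : ((sy e S : Sylow 2 L') : Subgroup L') = (S : Subgroup L).map e.toMonoidHom := by
      unfold sy
      exact S.coe_mapSurjective e.surjective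
    change Nat.card ((sy e S : Sylow 2 L') : Subgroup L') = Nat.card (S : Subgroup L)
    rw [h1]
    exact (Nat.card_congr ((S : Subgroup L).equivMapOfInjective _ e.injective).toEquiv).symm
  have hinvo : ∀ S : Sylow 2 L, (invo L' (sy e S : Subgroup L')).ncard = (invo L (S : Subgroup L)).ncard := by
    intro S
    have h1 : invo L' (sy e S : Subgroup L') = e '' (invo L (S : Subgroup L)) := by
      ext x'
      obtain ⟨x, rfl⟩ := e.surjective x'
      constructor
      · rintro ⟨hx, hxx⟩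
        refine ⟨x, ⟨(mem_sy e S x).1 hx, ?_⟩, rfl⟩
        apply e.injective
        rw [map_mul, map_one]; exact hxx
      · rintro ⟨y, ⟨hy, hyy⟩, hyx⟩
        have : y = x := e.injective hyx
        subst this
        refine ⟨(mem_sy e S y).2 hy, ?_⟩
        rw [← map_mul, hyy, map_one]
    rw [h1, Set.ncard_image_of_injective _ e.injective]
  refine ⟨?_, ?_, ?_, ?_, ?_⟩
  · obtain ⟨H, hH⟩ := h.se
    exact ⟨_, isStronglyEmbedded_map e hH⟩
  · intro S' R' hne
    obtain ⟨S, rfl⟩ := sy_surj e S'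
    obtain ⟨R, rfl⟩ := sy_surj e R'
    have h1 := h.ti S R (fun hh => hne (by rw [hh]))
    rw [eq_bot_iff]
    intro x' hx'
    obtain ⟨x, rfl⟩ := e.surjective x'
    have h2 : x ∈ (S : Subgroup L) ⊓ R := ⟨(mem_sy e S x).1 hx'.1, (mem_sy e R x).1 hx'.2⟩
    rw [h1, mem_bot] at h2
    rw [mem_bot, h2, map_one]
  · intro S'
    obtain ⟨S, rfl⟩ := sy_surj e S'
    rw [hcardS, ← h.card S]
    refine (Nat.card_congr (Equiv.ofBijective (sy e) ⟨?_, sy_surj e⟩)).symm
    intro S R hSR
    apply Sylow.ext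
    ext x
    have h1 := mem_sy e S x
    rw [hSR, mem_sy] at h1
    exact h1.symm
  · intro S'
    obtain ⟨S, rfl⟩ := sy_surj e S'
    rw [hcardS, hinvo]
    exact h.sq_le S
  · intro S'
    obtain ⟨S, rfl⟩ := sy_surj e S'
    rw [hinvo]
    refine (h.alt S).imp id ?_
    rintro ⟨y, hy, hyN, hyc, hyf⟩
    refine ⟨e y, ?_, ?_, ?_, ?_⟩
    · rw [MulEquiv.orderOf_eq]; exact hy
    · rw [mem_normalizer_iff]
      intro x'
      obtain ⟨x, rfl⟩ := e.surjective x'
      change e x ∈ sy e S ↔ e y * e x * (e y)⁻¹ ∈ sy e S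
      rw [← map_inv, ← map_mul, ← map_mul, mem_sy, mem_sy]
      exact mem_normalizer_iff.1 hyN x
    · intro s' hs' hss
      obtain ⟨s, rfl⟩ := e.surjective s'
      rw [← map_mul, ← map_mul]
      congr 1
      refine hyc s ((mem_sy e S s).1 hs') ?_
      apply e.injective
      rw [map_mul, map_one]; exact hss
    · intro s' hs' hcomm
      obtain ⟨s, rfl⟩ := e.surjective s'
      rw [← map_mul, ← map_mul] at hcomm
      rw [← map_mul, hyf s ((mem_sy e S s).1 hs') (e.injective hcomm), map_one]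

theorem tCon_congr {L L' : Type*} [Group L] [Group L'] [Finite L] (e : L ≃* L') (h : TCon L) :
    TCon L' := by
  refine ⟨?_, ?_, ?_⟩
  · intro S' x' hx' hxx s' hs'
    obtain ⟨S, rfl⟩ := sy_surj e S'
    obtain ⟨x, rfl⟩ := e.surjective x'
    obtain ⟨s, rfl⟩ := e.surjective s'
    rw [← map_mul, ← map_mul]
    congr 1
    refine h.central S x ((mem_sy e S x).1 hx') ?_ s ((mem_sy e S s).1 hs')
    apply e.injective
    rw [map_mul, map_one]; exact hxx
  · intro x' y' hx' hy'
    obtain ⟨x, rfl⟩ := e.surjective x'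
    obtain ⟨y, rfl⟩ := e.surjective y'
    rw [MulEquiv.orderOf_eq] at hx' hy'
    obtain ⟨g, hg⟩ := h.conj x y hx' hy'
    exact ⟨e g, by rw [← hg, map_mul, map_mul, map_inv]⟩
  · refine h.alt.imp ?_ (benPack_congr e)
    intro hel S' s' hs'
    obtain ⟨S, rfl⟩ := sy_surj e S'
    obtain ⟨s, rfl⟩ := e.surjective s'
    rw [← map_mul, hel S s ((mem_sy e S s).1 hs'), map_one]

theorem tProp_congr {L L' : Type*} [Group L] [Group L'] [Finite L] (e : L ≃* L') (h : TProp L) :
    TProp L' := by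
  haveI : Finite L' := Finite.of_equiv L e.toEquiv
  intro 𝒜 h𝒜 hne
  have h1 : IsElemFam (e.symm.toMonoidHom '' 𝒜) := h𝒜.image e.symm.surjective
  obtain ⟨x, hx, hx1⟩ := hne
  exact tCon_congr e (h _ h1 ⟨e.symm x, ⟨x, hx, rfl⟩, by simpa using hx1⟩)

end Cfsg.Agent.TwoFusion.GoldTrans
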