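import Cfsg.Agent.S0215
import Cfsg.Agent.Lib.SylowNormalInf
import Cfsg.Agent.TwoFusion.GoldTrans
import Cfsg.Agent.TwoFusion.GoldFam
import Cfsg.Agent.TwoFusion.GoldDesign

/-!
# Elementary closed families in almost simple groups

If `M` is a normal simple subgroup of `Y` with `C_Y(M) = 1`, `𝒜` is an elementary closed family of `Y` which
meets `M` non-trivially and (T) holds for `M`, then `𝒜` is contained in `M`.
-/

set_option autoImplicit false
set_option linter.style.haveILetI false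

namespace Cfsg.Agent.TwoFusion.GoldAS

open Subgroup
open Cfsg.Agent.TwoFusion.ClosedFam Cfsg.Agent.TwoFusion.Gold

/-- A group `J` of odd order acting on an elementary abelian 2-group `A`, trivially on `A/B`:
`A = B C_A(J)`. -/
theorem exists_fixed_mul {Y : Type*} [Group Y] [Finite Y] (A B J : Subgroup Y)
    (hcomm : ∀ a ∈ A, ∀ b ∈ A, a * b = b * a) (hsq : ∀ a ∈ A, a * a = 1)
    (hJA : J ≤ normalizer (A : Set Y)) (hJ : Odd (Nat.card J)) (hBA : B ≤ A)
    (hB : ∀ a ∈ A, ∀ j ∈ J, j * a * j⁻¹ * a⁻¹ ∈ B) {a : Y} (ha : a ∈ A) :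
    ∃ b ∈ B, ∃ c ∈ A, (∀ j ∈ J, j * c = c * j) ∧ a = b * c := by
  classical
  letI : CommGroup A := { (inferInstance : Group A) with
    mul_comm := fun x y => Subtype.ext (hcomm x x.2 y y.2) }
  letI : Fintype J := Fintype.ofFinite J
  have hconj : ∀ j : J, ∀ x ∈ A, (j : Y) * x * (j : Y)⁻¹ ∈ A := fun j x hx =>
    (mem_normalizer_iff.1 (hJA j.2) x).1 hx
  let f : J → A := fun j => ⟨(j : Y) * a * (j : Y)⁻¹, hconj j a ha⟩
  let c : A := ∏ j : J, f j
  let cj : J → (A →* A) := fun j =>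
    { toFun := fun x => ⟨(j : Y) * x * (j : Y)⁻¹, hconj j x x.2⟩
      map_one' := by apply Subtype.ext; simp
      map_mul' := by
        intro x y
        apply Subtype.ext
        simp only [coe_mul]
        group }
  have hfix : ∀ j : J, cj j c = c := by
    intro j
    rw [map_prod]
    refine Fintype.prod_equiv (Equiv.mulLeft j) _ _ ?_
    intro i
    apply Subtype.ext
    change (j : Y) * ((i : Y) * a * (i : Y)⁻¹) * (j : Y)⁻¹ = ((j * i : J) : Y) * a * ((j * i : J) : Y)⁻¹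
    rw [coe_mul]; group
  have hcJ : ∀ j ∈ J, j * (c : Y) = c * j := by
    intro j hj
    have h1 : j * (c : Y) * j⁻¹ = c := congrArg Subtype.val (hfix ⟨j, hj⟩)
    calc j * (c : Y) = j * c * j⁻¹ * j := by group
      _ = c * j := by rw [h1]
  -- `c ≡ a` modulo `B`
  have h2 : c = (∏ j : J, (f j * (⟨a, ha⟩ : A)⁻¹)) * (⟨a, ha⟩ : A) ^ Fintype.card J := by
    rw [Finset.prod_mul_distrib, Finset.prod_const, Finset.card_univ, inv_pow, inv_mul_cancel_right]
  have h3 : (⟨a, ha⟩ : A) ^ Fintype.card J = ⟨a, ha⟩ := by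
    rw [← Nat.card_eq_fintype_card]
    obtain ⟨n, hn⟩ := hJ
    rw [hn, pow_add, pow_mul, pow_one]
    have h4 : (⟨a, ha⟩ : A) ^ 2 = 1 := by
      rw [pow_two]; exact Subtype.ext (hsq a ha)
    rw [h4, one_pow, one_mul]
  have h5 : (∏ j : J, (f j * (⟨a, ha⟩ : A)⁻¹)) ∈ B.subgroupOf A := by
    refine Subgroup.prod_mem _ ?_
    intro j _
    rw [mem_subgroupOf]
    exact hB a ha j j.2
  set b : A := ∏ j : J, (f j * (⟨a, ha⟩ : A)⁻¹) with hb
  rw [h3] at h2
  have h6 : (⟨a, ha⟩ : A) = b⁻¹ * c := by rw [h2]; group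
  refine ⟨(b⁻¹ : A), ?_, c, c.2, hcJ, congrArg Subtype.val h6⟩
  exact inv_mem (mem_subgroupOf.1 h5)

section Main

variable {Y : Type*} [Group Y] [Finite Y] {𝒜 : Set Y}

theorem not_comm_of_centralizer {M : Subgroup Y} (hM : IsSimpleGroup M)
    (hMC : centralizer (M : Set Y) = ⊥) : ¬ ∀ x ∈ M, ∀ y ∈ M, x * y = y * x := by
  intro hc
  haveI := hM
  obtain ⟨x, hx⟩ := exists_ne (1 : M)
  have h1 : (x : Y) ∈ centralizer (M : Set Y) := by
    rw [mem_centralizer_iff]
    intro y hy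
    exact hc y hy x x.2
  rw [hMC, mem_bot] at h1
  exact hx (Subtype.ext h1)

/-- A simple normal subgroup meets a normal subgroup `N` either trivially or is contained in it. -/
theorem inf_eq_bot_or_le {M : Subgroup Y} (hM : IsSimpleGroup M) {N : Subgroup Y} (hN : N.Normal) :
    N ⊓ M = ⊥ ∨ M ≤ N := by
  haveI := hM
  have h1 : (N.subgroupOf M).Normal := hN.subgroupOf M
  rcases IsSimpleGroup.eq_bot_or_eq_top_of_normal _ h1 with h2 | h2
  · left
    rw [eq_bot_iff]
    intro x hx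
    have h3 : (⟨x, hx.2⟩ : M) ∈ N.subgroupOf M := mem_subgroupOf.2 hx.1
    rw [h2, mem_bot] at h3
    exact congrArg Subtype.val h3
  · right
    exact subgroupOf_eq_top.1 h2

/-- An odd normal subgroup is trivial. -/
theorem odd_normal_eq_bot {M : Subgroup Y} [hMn : M.Normal] (hM : IsSimpleGroup M)
    (hMC : centralizer (M : Set Y) = ⊥) (hev : Even (Nat.card M)) {N : Subgroup Y} (hN : N.Normal)
    (hodd : Odd (Nat.card N)) : N = ⊥ := by
  rcases inf_eq_bot_or_le hM hN with h1 | h1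
  · rw [eq_bot_iff, ← hMC]
    intro n hn
    rw [mem_centralizer_iff]
    intro m hm
    have h2 : m * n * m⁻¹ * n⁻¹ ∈ N ⊓ M := by
      refine mem_inf.2 ⟨mul_mem (hN.conj_mem n hn m) (inv_mem hn), ?_⟩
      have e : m * n * m⁻¹ * n⁻¹ = m * (n * m⁻¹ * n⁻¹) := by group
      rw [e]
      exact mul_mem hm (hMn.conj_mem _ (inv_mem hm) n)
    rw [h1, mem_bot] at h2
    calc m * n = (m * n * m⁻¹ * n⁻¹) * (n * m) := by group
      _ = n * m := by rw [h2, one_mul]
  · exfalso
    have h2 := Subgroup.card_dvd_of_le h1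
    have h3 : 2 ∣ Nat.card N := (even_iff_two_dvd.1 hev).trans h2
    rw [← Nat.not_even_iff_odd] at hodd
    exact hodd (even_iff_two_dvd.2 h3)

omit [Finite Y] in
theorem even_card_of_mem (h : IsElemFam 𝒜) {M : Subgroup Y} (hx : ∃ x ∈ 𝒜, x ∈ M ∧ x ≠ 1) :
    Even (Nat.card M) := by
  obtain ⟨x, hxA, hxM, hx1⟩ := hx
  have h1 : orderOf (⟨x, hxM⟩ : M) = 2 := by
    rw [← orderOf_coe]
    exact h.orderOf_eq hxA hx1
  rw [even_iff_two_dvd, ← h1]
  exact orderOf_dvd_natCard _

/-- The Sylow 2-subgroups of a normal subgroup `M`, as points of a `Y`-set. -/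
structure Pt (M : Subgroup Y) where
  /-- the Sylow subgroup -/
  syl : Sylow 2 M

omit [Finite Y] in
theorem Pt.ext' {M : Subgroup Y} {Q R : Pt M} (h : Q.syl = R.syl) : Q = R := by
  cases Q; cases R; simp only at h; rw [h]

/-- The action of `Y` on the Sylow 2-subgroups of a normal subgroup. -/
noncomputable instance instAct (M : Subgroup Y) [M.Normal] : MulAction Y (Pt M) where
  smul y Q := ⟨MulAut.conjNormal (H := M) y • Q.syl⟩
  one_smul Q := by
    apply Pt.ext'
    change MulAut.conjNormal (H := M) 1 • Q.syl = Q.syl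
    rw [map_one, one_smul]
  mul_smul x y Q := by
    apply Pt.ext'
    change MulAut.conjNormal (H := M) (x * y) • Q.syl = MulAut.conjNormal x • (MulAut.conjNormal y • Q.syl)
    rw [map_mul, mul_smul]

instance instFinite (M : Subgroup Y) : Finite (Pt M) :=
  Finite.of_injective (fun Q : Pt M => Q.syl) (fun _ _ h => Pt.ext' h)

omit [Finite Y] in
theorem card_pt (M : Subgroup Y) : Nat.card (Pt M) = Nat.card (Sylow 2 M) :=
  Nat.card_congr ⟨fun Q => Q.syl, fun Q => ⟨Q⟩, fun _ => rfl, fun _ => rfl⟩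

omit [Finite Y] in
theorem act_mem {M : Subgroup Y} [M.Normal] (y : Y) (Q : Pt M) (x : M) :
    x ∈ (y • Q).syl ↔ (MulAut.conjNormal y)⁻¹ x ∈ Q.syl := by
  change x ∈ ((MulAut.conjNormal (H := M) y • Q.syl : Sylow 2 M) : Subgroup M) ↔ _
  rw [Sylow.pointwise_smul_def, Subgroup.mem_pointwise_smul_iff_inv_smul_mem]
  rfl

omit [Finite Y] in
theorem act_coe {M : Subgroup Y} [M.Normal] (m : M) (Q : Pt M) :
    ((m : Y) • Q).syl = m • Q.syl := by
  change (MulAut.conjNormal (H := M) (m : Y) • Q.syl : Sylow 2 M) = m • Q.syl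
  rw [MulAut.conjNormal_val]
  rfl

/-- The core of the argument, `Y = M⟨b⟩`. -/
theorem mem_aux (h : IsElemFam 𝒜) {M : Subgroup Y} [hMn : M.Normal] (hM : IsSimpleGroup M)
    (hMC : centralizer (M : Set Y) = ⊥) (hT : TCon M) (hx : ∃ x ∈ 𝒜, x ∈ M ∧ x ≠ 1) {b : Y} (hb : b ∈ 𝒜)
    (htop : M ⊔ zpowers b = ⊤) : b ∈ M := by
  classical
  haveI : Fact (Nat.Prime 2) := ⟨Nat.prime_two⟩
  haveI := hM
  by_contra hbM
  have hnc := not_comm_of_centralizer hM hMC
  have hev := even_card_of_mem h hx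
  obtain ⟨P, hP⟩ := (h.toIsClosedFam.isPGroup_zpowers hb).exists_le_sylow
  have hbP : b ∈ (P : Subgroup Y) := hP (mem_zpowers b)
  set A := fam 𝒜 (P : Subgroup Y) with hA
  have hAmem : ∀ {x : Y}, x ∈ A ↔ x ∈ 𝒜 ∧ x ∈ (P : Subgroup Y) := fun {x} =>
    h.toIsClosedFam.mem_fam_iff P.2
  have hbA : b ∈ A := hAmem.2 ⟨hb, hbP⟩
  have hAcomm : ∀ x ∈ A, ∀ y ∈ A, x * y = y * x := by
    intro x hx y hy
    rw [hAmem] at hx hy
    exact h.comm P.2 hx.1 hx.2 hy.1 hy.2
  have hAsq : ∀ x ∈ A, x * x = 1 := fun x hx => h.sq x (hAmem.1 hx).1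
  have hPA : ∀ p ∈ (P : Subgroup Y), ∀ a ∈ A, p * a * p⁻¹ ∈ A := by
    intro p hp a ha
    exact (mem_normalizer_iff.1 (h.toIsClosedFam.le_normalizer_fam (P : Subgroup Y) hp) a).1 ha
  -- the Sylow subgroup of `M`
  obtain ⟨P0, hP0⟩ : ∃ P0 : Sylow 2 M, (P0 : Subgroup M) = (P : Subgroup Y).subgroupOf M :=
    ⟨(Cfsg.Agent.Lib.SylowNormalInf.isPGroup_subgroupOf P M).toSylow
      (Cfsg.Agent.Lib.SylowNormalInf.not_dvd_relIndex P M), IsPGroup.toSylow_coe _ _⟩
  have hP0mem : ∀ m : M, m ∈ P0 ↔ (m : Y) ∈ (P : Subgroup Y) := by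
    intro m
    change m ∈ (P0 : Subgroup M) ↔ _
    rw [hP0, mem_subgroupOf]
  set T : Subgroup Y := (P : Subgroup Y) ⊓ M with hTdef
  set B : Subgroup Y := A ⊓ M with hBdef
  have hTp : IsPGroup 2 T := P.2.to_le inf_le_left
  have hBT : B ≤ T := fun x hx => ⟨(hAmem.1 hx.1).2, hx.2⟩
  have hBA : B ≤ A := inf_le_left
  -- all involutions of `M` lie in the family
  have hinvM : ∀ t ∈ M, t * t = 1 → t ∈ 𝒜 := by
    intro t ht htt
    by_cases ht1 : t = 1
    · rw [ht1]; exact h.one_mem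
    obtain ⟨x, hxA, hxM, hx1⟩ := hx
    have o1 : orderOf (⟨x, hxM⟩ : M) = 2 := by
      rw [← orderOf_coe]
      exact h.orderOf_eq hxA hx1
    have o2 : orderOf (⟨t, ht⟩ : M) = 2 := by
      rw [← orderOf_coe]
      exact orderOf_eq_prime (by rw [pow_two]; exact htt) ht1
    obtain ⟨g, hg⟩ := hT.conj _ _ o1 o2
    have hg' : (g : Y) * x * (g : Y)⁻¹ = t := congrArg Subtype.val hg
    rw [← hg']
    exact h.conj_mem x hxA g
  have hBsq' : ∀ t ∈ T, t * t = 1 → t ∈ B := fun t ht htt =>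
    ⟨hAmem.2 ⟨hinvM t ht.2 htt, ht.1⟩, ht.2⟩
  have hBsq : ∀ t ∈ B, t * t = 1 := fun t ht => hAsq t ht.1
  have hBcent : ∀ x ∈ B, ∀ t ∈ T, x * t = t * x := by
    intro x hx t ht
    have h1 := hT.central P0 ⟨x, hx.2⟩ ((hP0mem _).2 (hBT hx).1) (Subtype.ext (hBsq x hx)) ⟨t, ht.2⟩
      ((hP0mem _).2 ht.1)
    exact (congrArg Subtype.val h1).symm
  have hAT : ∀ a ∈ A, ∀ t ∈ T, t⁻¹ * (a * t * a⁻¹) ∈ B := by
    intro a ha t ht
    rw [hTdef, mem_inf] at ht
    rw [hBdef, mem_inf]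
    refine ⟨?_, ?_⟩
    · have h1 := hPA t⁻¹ (inv_mem ht.1) a ha
      rw [inv_inv] at h1
      have e : t⁻¹ * (a * t * a⁻¹) = (t⁻¹ * a * t) * a⁻¹ := by group
      rw [e]
      exact mul_mem h1 (inv_mem ha)
    · exact mul_mem (inv_mem ht.2) (hMn.conj_mem t ht.2 a)
  set N : Subgroup Y := M ⊓ normalizer (A : Set Y) with hN
  have hTN : T ≤ N := by
    intro t ht
    refine ⟨ht.2, ?_⟩
    exact h.toIsClosedFam.le_normalizer_fam (P : Subgroup Y) ht.1
  have hNB : ∀ n ∈ N, ∀ x ∈ B, n * x * n⁻¹ ∈ B := by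
    intro n hn x hx
    exact ⟨(mem_normalizer_iff.1 hn.2 x).1 hx.1, hMn.conj_mem x hx.2 n⟩
  -- `B` is not trivial
  obtain ⟨s, hsB, hs1⟩ : ∃ s ∈ B, s ≠ 1 := by
    obtain ⟨x, hxA, hxM, hx1⟩ := hx
    obtain ⟨Q, hQ⟩ := (h.toIsClosedFam.isPGroup_zpowers hxA).exists_le_sylow
    obtain ⟨g, hg⟩ := MulAction.exists_smul_eq Y Q P
    refine ⟨g * x * g⁻¹, ⟨hAmem.2 ⟨h.conj_mem x hxA g, ?_⟩, hMn.conj_mem x hxM g⟩, ?_⟩
    · rw [← hg]
      exact ⟨x, hQ (mem_zpowers x), rfl⟩
    · intro e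
      apply hx1
      have : x = g⁻¹ * (g * x * g⁻¹) * g := by group
      rw [this, e]; group
  have hNtrans : ∀ x ∈ B, x ≠ 1 → ∀ y ∈ B, y ≠ 1 → ∃ n ∈ N, n * x * n⁻¹ = y := by
    intro x hx hx1 y hy hy1
    have o1 : orderOf (⟨x, hx.2⟩ : M) = 2 := by
      rw [← orderOf_coe]
      exact orderOf_eq_prime (by rw [pow_two]; exact hBsq x hx) hx1
    have o2 : orderOf (⟨y, hy.2⟩ : M) = 2 := by
      rw [← orderOf_coe]
      exact orderOf_eq_prime (by rw [pow_two]; exact hBsq y hy) hy1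
    obtain ⟨g, hg⟩ := hT.conj _ _ o1 o2
    have hg' : (g : Y) * x * (g : Y)⁻¹ = y := congrArg Subtype.val hg
    obtain ⟨n, hnM, hnA, hn⟩ := exists_normalizing h P (L := M) (by
      intro a _
      rw [normalizer_eq_top]; exact mem_top a) (hAmem.1 hx.1).1 (hAmem.1 hx.1).2 g.2 (by
        rw [hg']; exact (hAmem.1 hy.1).2)
    exact ⟨n, ⟨hnM, hnA⟩, by rw [hn, hg']⟩
  have hNT : ∀ n ∈ N, ∀ t ∈ T, n * t * n⁻¹ ∈ T := by
    intro n hn t ht
    rcases hT.alt with hel | hBP
    · have h1 : t * t = 1 := congrArg Subtype.val (hel P0 ⟨t, ht.2⟩ ((hP0mem _).2 ht.1))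
      exact hBT (hNB n hn t (hBsq' t ht h1))
    · have h1 : (⟨n, hn.1⟩ : M) • P0 = P0 := by
        by_contra hne
        have h2 := hBP.ti _ _ hne
        have h3 : (⟨s, hsB.2⟩ : M) ∈ (((⟨n, hn.1⟩ : M) • P0 : Sylow 2 M) : Subgroup M) ⊓ P0 := by
          refine ⟨?_, ?_⟩
          · have h4 : n⁻¹ * s * n ∈ B := by
              have := hNB n⁻¹ (inv_mem hn) s hsB
              rwa [inv_inv] at this
            refine ⟨(⟨n, hn.1⟩ : M)⁻¹ * ⟨s, hsB.2⟩ * ⟨n, hn.1⟩, ?_, ?_⟩
            · exact (hP0mem _).2 (hBT h4).1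
            · apply Subtype.ext
              change n * (n⁻¹ * s * n) * n⁻¹ = s
              group
          · exact (hP0mem _).2 (hBT hsB).1
        rw [h2, mem_bot] at h3
        exact hs1 (congrArg Subtype.val h3)
      have h1' : (⟨n, hn.1⟩ : M) ∈ normalizer ((P0 : Subgroup M) : Set M) :=
        Sylow.smul_eq_iff_mem_normalizer.1 h1
      rw [mem_normalizer_iff] at h1'
      have h2 := (h1' ⟨t, ht.2⟩).1 ((hP0mem _).2 ht.1)
      exact ⟨(hP0mem _).1 h2, hMn.conj_mem t ht.2 n⟩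
  -- `|B| ≥ 4`
  have hB4 : 4 ≤ Nat.card B := by
    obtain ⟨k, hk⟩ := IsPGroup.iff_card.1 (hTp.to_le hBT)
    rcases k with _ | _ | k
    · exfalso
      rw [pow_zero, Subgroup.card_eq_one] at hk
      rw [hk, mem_bot] at hsB
      exact hs1 hsB
    · exfalso
      have h2 : ∀ y ∈ B, y ≠ 1 → y = s := by
        intro y hy hy1
        rw [zero_add, pow_one, Nat.card_eq_two_iff' (⟨1, one_mem _⟩ : B)] at hk
        obtain ⟨u, -, hu⟩ := hk
        have e1 := hu ⟨y, hy⟩ (fun e => hy1 (congrArg Subtype.val e))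
        have e2 := hu ⟨s, hsB⟩ (fun e => hs1 (congrArg Subtype.val e))
        exact congrArg Subtype.val (e1.trans e2.symm)
      have o1 : orderOf (⟨s, hsB.2⟩ : M) = 2 := by
        rw [← orderOf_coe]
        exact orderOf_eq_prime (by rw [pow_two]; exact hBsq s hsB) hs1
      obtain ⟨N0, hN0, hN0odd, hcom⟩ := Cfsg.Agent.S0215.result P0 ⟨s, hsB.2⟩ o1
        ((hP0mem _).2 (hBT hsB).1) (by
          intro g hg
          apply Subtype.ext
          refine h2 _ (hBsq' _ ⟨(hP0mem _).1 hg, SetLike.coe_mem _⟩ ?_) ?_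
          · change (g : Y) * s * (g : Y)⁻¹ * ((g : Y) * s * (g : Y)⁻¹) = 1
            calc (g : Y) * s * (g : Y)⁻¹ * ((g : Y) * s * (g : Y)⁻¹) = (g : Y) * (s * s) * (g : Y)⁻¹ := by
                  group
              _ = 1 := by rw [hBsq s hsB]; group
          · intro e
            change (g : Y) * s * (g : Y)⁻¹ = 1 at e
            apply hs1
            have : s = (g : Y)⁻¹ * ((g : Y) * s * (g : Y)⁻¹) * g := by group
            rw [this, e]; group)
      rcases IsSimpleGroup.eq_bot_or_eq_top_of_normal N0 hN0 with h3 | h3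
      · rw [h3] at hcom
        have h4 : s ∈ centralizer (M : Set Y) := by
          rw [mem_centralizer_iff]
          intro m hm
          have h5 := hcom ⟨m, hm⟩
          rw [mem_bot] at h5
          have h6 : s * m * s⁻¹ * m⁻¹ = 1 := congrArg Subtype.val h5
          calc m * s = (s * m * s⁻¹ * m⁻¹) * (m * s) := by rw [h6, one_mul]
            _ = s * m := by group
        rw [hMC, mem_bot] at h4
        exact hs1 h4
      · rw [h3] at hN0odd
        rw [← Nat.not_even_iff_odd] at hN0odd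
        apply hN0odd
        rw [Subgroup.card_top]
        exact hev
    · rw [hk]
      calc 4 = 2 ^ 2 := by norm_num
        _ ≤ 2 ^ (k + 1 + 1) := Nat.pow_le_pow_right (by norm_num) (by omega)
  -- the complement `J`
  haveI hT'n : (T.subgroupOf N).Normal := by
    refine ⟨fun x hx g => ?_⟩
    rw [mem_subgroupOf] at hx ⊢
    exact hNT g g.2 x hx
  have hrel : ¬ 2 ∣ T.relIndex N := by
    intro h2
    have h3 : ¬ 2 ∣ (P : Subgroup Y).relIndex M := Cfsg.Agent.Lib.SylowNormalInf.not_dvd_relIndex P M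
    apply h3
    rw [← inf_relIndex_right, ← relIndex_mul_relIndex T N M hTN inf_le_left]
    exact Dvd.dvd.mul_right h2 _
  have hcop : (Nat.card (T.subgroupOf N)).Coprime (T.subgroupOf N).index := by
    have h2 : IsPGroup 2 (T.subgroupOf N) := hTp.comap_of_injective N.subtype N.subtype_injective
    obtain ⟨k, hk⟩ := IsPGroup.iff_card.1 h2
    rw [hk]
    refine Nat.Coprime.pow_left _ ?_
    exact (Nat.Prime.coprime_iff_not_dvd Nat.prime_two).2 hrel
  obtain ⟨J', hJ'⟩ := exists_right_complement'_of_coprime hcop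
  set J : Subgroup Y := J'.map N.subtype with hJdef
  have hJN : J ≤ N := map_subtype_le _
  have hJodd : Odd (Nat.card J) := by
    have h2 : Nat.card J = Nat.card J' :=
      (Nat.card_congr (J'.equivMapOfInjective _ N.subtype_injective).toEquiv).symm
    rw [h2, ← Nat.not_even_iff_odd, even_iff_two_dvd]
    have h3 : Nat.card J' = (T.subgroupOf N).index := hJ'.symm.index_eq_card.symm
    rw [h3]
    exact hrel
  have hNprod : ∀ n ∈ N, ∃ t ∈ T, ∃ j ∈ J, n = t * j := by
    intro n hn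
    have h2 := hJ'.sup_eq_top
    have h3 : (⟨n, hn⟩ : N) ∈ T.subgroupOf N ⊔ J' := by rw [h2]; exact mem_top _
    obtain ⟨t, ht, j, hj, htj⟩ := mem_sup_of_normal_left.1 h3
    exact ⟨t, mem_subgroupOf.1 ht, j, ⟨j, hj, rfl⟩, (congrArg Subtype.val htj).symm⟩
  have hJtrans : ∀ x ∈ B, x ≠ 1 → ∀ y ∈ B, y ≠ 1 → ∃ j ∈ J, j * x * j⁻¹ = y := by
    intro x hx hx1 y hy hy1
    obtain ⟨n, hn, hnx⟩ := hNtrans x hx hx1 y hy hy1
    obtain ⟨t, ht, j, hj, rfl⟩ := hNprod n hn
    refine ⟨j, hj, ?_⟩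
    have h2 : j * x * j⁻¹ ∈ B := hNB j (hJN hj) x hx
    have h3 := hBcent _ h2 _ ht
    calc j * x * j⁻¹ = (j * x * j⁻¹) * t * t⁻¹ := by group
      _ = t * (j * x * j⁻¹) * t⁻¹ := by rw [h3]
      _ = t * j * x * (t * j)⁻¹ := by group
      _ = y := hnx
  -- the element `c`
  obtain ⟨b0, hb0, c, hcA, hcJ, hbc⟩ := exists_fixed_mul A B J hAcomm hAsq
    (fun j hj => (hJN hj).2) hJodd hBA (by
      intro a ha j hj
      rw [hBdef, mem_inf]
      refine ⟨?_, ?_⟩
      · exact mul_mem ((mem_normalizer_iff.1 (hJN hj).2 a).1 ha) (inv_mem ha)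
      · have e : j * a * j⁻¹ * a⁻¹ = j * (a * j⁻¹ * a⁻¹) := by group
        rw [e]
        exact mul_mem (hJN hj).1 (hMn.conj_mem _ (inv_mem (hJN hj).1) a)) hbA
  have hcM : c ∉ M := by
    intro hcM
    apply hbM
    rw [hbc]
    exact mul_mem hb0.2 hcM
  have hc𝒜 : c ∈ 𝒜 := (hAmem.1 hcA).1
  have hcP : c ∈ (P : Subgroup Y) := (hAmem.1 hcA).2
  have hc1 : c ≠ 1 := by
    rintro rfl
    exact hcM (one_mem _)
  by_cases hcT : ∀ t ∈ T, c * t = t * c
  · -- `c` is isolated
    obtain ⟨N0, hN0, hN0odd, hcom⟩ := Cfsg.Agent.S0215.result P c (h.orderOf_eq hc𝒜 hc1) hcP (by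
      intro g hg
      obtain ⟨n, -, hnA, hn⟩ := exists_normalizing h P (L := ⊤) (by
        intro a _
        rw [normalizer_eq_top]; exact mem_top a) hc𝒜 hcP (mem_top g) hg
      rw [← hn]
      have h2 : n ∈ M ⊔ zpowers b := by rw [htop]; exact mem_top n
      obtain ⟨m, hm, z, hz, rfl⟩ := mem_sup_of_normal_left.1 h2
      have hzA : z ∈ A := (zpowers_le.2 hbA) hz
      have hmN : m ∈ N := by
        rw [hN, mem_inf]
        refine ⟨hm, ?_⟩
        have h3 : m = m * z * z⁻¹ := by group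
        rw [h3]
        exact mul_mem hnA (le_normalizer (inv_mem hzA))
      obtain ⟨t, ht, j, hj, rfl⟩ := hNprod m hmN
      have h4 : z * c = c * z := hAcomm z hzA c hcA
      have h5 := hcJ j hj
      have h6 := hcT t ht
      calc t * j * z * c * (t * j * z)⁻¹ = t * j * (z * c) * z⁻¹ * j⁻¹ * t⁻¹ := by group
        _ = t * (j * c) * j⁻¹ * t⁻¹ := by rw [h4]; group
        _ = (t * c) * t⁻¹ := by rw [h5]; group
        _ = c := by rw [← h6]; group)
    have h2 := odd_normal_eq_bot hM hMC hev hN0 hN0odd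
    rw [h2] at hcom
    apply hc1
    have h4 : c ∈ centralizer (M : Set Y) := by
      rw [mem_centralizer_iff]
      intro m _
      have h6 := hcom m
      rw [mem_bot] at h6
      calc m * c = (c * m * c⁻¹ * m⁻¹) * (m * c) := by rw [h6, one_mul]
        _ = c * m := by group
    rw [hMC, mem_bot] at h4
    exact h4
  · -- Bender type
    push Not at hcT
    have hBP : BenPack M := by
      rcases hT.alt with hel | hBP
      · exfalso
        obtain ⟨t, ht, hne⟩ := hcT
        apply hne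
        have h1 : t * t = 1 := congrArg Subtype.val (hel P0 ⟨t, ht.2⟩ ((hP0mem _).2 ht.1))
        exact hAcomm c hcA t (hBsq' t ht h1).1
      · exact hBP
    have hact : ∀ (m : M) (Q : Pt M), ((m : Y) • Q).syl = m • Q.syl := act_coe
    have hmemN : ∀ (m : M) (Q : Pt M),
        (m : Y) • Q = Q ↔ m ∈ normalizer ((Q.syl : Subgroup M) : Set M) := by
      intro m Q
      have h1 : m • Q.syl = Q.syl ↔ m ∈ normalizer ((Q.syl : Subgroup M) : Set M) :=
        Sylow.smul_eq_iff_mem_normalizer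
      rw [← h1, ← hact]
      exact ⟨fun e => by rw [e], fun e => Pt.ext' e⟩
    -- 2-elements normalizing a Sylow subgroup lie in it
    have hsyl : ∀ (m : M) (Q : Pt M), (m : Y) • Q = Q → ∀ k : ℕ, m ^ 2 ^ k = 1 → m ∈ Q.syl := by
      intro m Q hm k hk
      have h1 : IsPGroup 2 (zpowers m) := by
        rintro ⟨y, hy⟩
        obtain ⟨n, rfl⟩ := mem_zpowers_iff.1 hy
        refine ⟨k, Subtype.ext ?_⟩
        simp only [SubmonoidClass.mk_pow, OneMemClass.coe_one]
        rw [← zpow_natCast, ← zpow_mul, mul_comm, zpow_mul, zpow_natCast, hk, one_zpow]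
      have h2 := h1.inf_normalizer_sylow Q.syl
      have h3 : m ∈ zpowers m ⊓ normalizer (Q.syl : Set M) :=
        mem_inf.2 ⟨mem_zpowers m, (hmemN m Q).1 hm⟩
      rw [h2, mem_inf] at h3
      exact h3.2
    have hTel : ∀ t ∈ T, ∃ k : ℕ, t ^ 2 ^ k = 1 := by
      intro t ht
      obtain ⟨k, hk⟩ := hTp ⟨t, ht⟩
      exact ⟨k, by have := congrArg Subtype.val hk; simpa using this⟩
    set α : Pt M := ⟨P0⟩ with hα
    have hαmem : ∀ m : M, m ∈ α.syl ↔ (m : Y) ∈ (P : Subgroup Y) := hP0mem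
    have hfixT : ∀ t ∈ T, t • α = α := by
      intro t ht
      have h1 := (hmemN ⟨t, ht.2⟩ α).2 (le_normalizer ((hαmem _).2 ht.1))
      exact h1
    have hfree : ∀ t ∈ T, ∀ Q : Pt M, Q ≠ α → t • Q = Q → t = 1 := by
      intro t ht Q hQ hfix
      obtain ⟨k, hk⟩ := hTel t ht
      have h1 : (⟨t, ht.2⟩ : M) ∈ Q.syl := hsyl ⟨t, ht.2⟩ Q hfix k (Subtype.ext (by simpa using hk))
      have h2 := hBP.ti Q.syl α.syl (fun e => hQ (Pt.ext' e))
      have h3 : (⟨t, ht.2⟩ : M) ∈ (Q.syl : Subgroup M) ⊓ α.syl := mem_inf.2 ⟨h1, (hαmem _).2 ht.1⟩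
      rw [h2, mem_bot] at h3
      exact congrArg Subtype.val h3
    have hcardT : Nat.card T = Nat.card P0 := by
      refine Nat.card_congr ⟨fun t => ⟨⟨t.1, t.2.2⟩, (hP0mem _).2 t.2.1⟩,
        fun t => ⟨t.1.1, (hP0mem _).1 t.2, t.1.2⟩, fun t => rfl, fun t => rfl⟩
    have hTpos : 1 < Nat.card T := by
      have h1 := Subgroup.card_le_of_le hBT
      omega
    have hcardΩ : Nat.card (Pt M) = 1 + Nat.card T := by rw [card_pt, hcardT]; exact hBP.card P0
    have htrans : ∀ Q R : Pt M, Q ≠ α → R ≠ α → ∃ t ∈ T, t • Q = R := by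
      intro Q R hQ hR
      have h1 := GoldDesign.card_eq_orbit T Q
      have h2 : (T ⊓ MulAction.stabilizer Y Q : Subgroup Y) = ⊥ := by
        rw [eq_bot_iff]
        intro x hx
        rw [mem_bot]
        exact hfree x hx.1 Q hQ hx.2
      rw [h2, Subgroup.card_bot, mul_one] at h1
      have h3 : MulAction.orbit T Q ⊆ {R : Pt M | R ≠ α} := by
        rintro _ ⟨⟨t, ht⟩, rfl⟩ e
        apply hQ
        have e' : t • Q = α := e
        have : Q = t⁻¹ • α := by rw [← e', inv_smul_smul]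
        rw [this, inv_smul_eq_iff]
        exact (hfixT t ht).symm
      have h4 : ({R : Pt M | R ≠ α}).ncard = Nat.card T := by
        have h5 : (Set.univ : Set (Pt M)) = insert α {R : Pt M | R ≠ α} := by
          ext R
          refine ⟨fun _ => ?_, fun _ => Set.mem_univ _⟩
          by_cases hR : R = α
          · left; exact hR
          · right; exact hR
        have h6 : α ∉ {R : Pt M | R ≠ α} := fun hh => hh rfl
        have h7 : (Set.univ : Set (Pt M)).ncard = 1 + Nat.card T := by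
          rw [Set.ncard_univ]; exact hcardΩ
        rw [h5, Set.ncard_insert_of_notMem h6 (Set.toFinite _)] at h7
        omega
      have h5 : MulAction.orbit T Q = {R : Pt M | R ≠ α} :=
        Set.eq_of_subset_of_ncard_le h3 (by rw [h4, h1]) (Set.toFinite _)
      have h6 : R ∈ MulAction.orbit T Q := by rw [h5]; exact hR
      obtain ⟨⟨t, ht⟩, htR⟩ := h6
      exact ⟨t, ht, htR⟩
    have hmtrans : ∀ Q : Pt M, ∃ m ∈ M, m • α = Q := by
      intro Q
      obtain ⟨m, hm⟩ := MulAction.exists_smul_eq M P0 Q.syl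
      exact ⟨m, m.2, Pt.ext' (by rw [hact]; exact hm)⟩
    refine GoldDesign.Design.absurd (M := M) (T := T) (B := B) (J := J) (c := c) (α := α)
      { TM := inf_le_right
        T2 := hTp
        fixT := hfixT
        trans := htrans
        free := hfree
        mtrans := hmtrans
        norm := ?_
        sylow := ?_
        faithful := ?_
        cM := fun m hm => hMn.conj_mem m hm c
        cfix := ?_
        c2 := h.sq c hc𝒜
        BT := hBT
        Bsq := hBsq'
        Bsq' := hBsq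
        Bcent := hBcent
        cB := fun t ht => hAT c hcA t ht
        JM := fun j hj => (hJN hj).1
        Jfix := ?_
        Jodd := hJodd
        Jc := hcJ
        JB := hJtrans
        B4 := hB4
        sq := ?_ } hcT
    · intro m hm hfix t ht
      have h1 := (hmemN ⟨m, hm⟩ α).1 hfix
      rw [mem_normalizer_iff] at h1
      have h2 := (h1 ⟨t, ht.2⟩).1 ((hαmem _).2 ht.1)
      exact ⟨(hαmem _).1 h2, hMn.conj_mem t ht.2 m⟩
    · intro m hm hfix k hk
      have h1 := hsyl ⟨m, hm⟩ α hfix k (Subtype.ext (by simpa using hk))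
      exact ⟨(hαmem _).1 h1, hm⟩
    · -- faithful
      intro m hm hfix
      have hker : ((MulAction.toPermHom M (Sylow 2 M)).ker) = ⊥ := by
        rcases IsSimpleGroup.eq_bot_or_eq_top_of_normal (MulAction.toPermHom M (Sylow 2 M)).ker
          inferInstance with h1 | h1
        · exact h1
        · exfalso
          have h2 : ∀ Q : Sylow 2 M, Q = P0 := by
            intro Q
            obtain ⟨g, hg⟩ := MulAction.exists_smul_eq M P0 Q
            have h3 : g ∈ (MulAction.toPermHom M (Sylow 2 M)).ker := by rw [h1]; exact mem_top g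
            rw [MonoidHom.mem_ker] at h3
            have h4 : g • P0 = P0 := by
              have := congrArg (fun σ : Equiv.Perm (Sylow 2 M) => σ P0) h3
              simpa using this
            rw [← hg, h4]
          haveI : Subsingleton (Sylow 2 M) := ⟨fun Q R => by rw [h2 Q, h2 R]⟩
          have h5 : Nat.card (Sylow 2 M) ≤ 1 := Finite.card_le_one_iff_subsingleton.2 inferInstance
          rw [card_pt] at hcardΩ
          omega
      have h1 : (⟨m, hm⟩ : M) ∈ (MulAction.toPermHom M (Sylow 2 M)).ker := by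
        rw [MonoidHom.mem_ker]
        ext1 Q
        change (⟨m, hm⟩ : M) • Q = Q
        have h2 := hact ⟨m, hm⟩ ⟨Q⟩
        rw [← h2, hfix]
      rw [hker, mem_bot] at h1
      exact congrArg Subtype.val h1
    · -- `c` normalizes `T`
      apply Pt.ext'
      apply Sylow.ext
      ext x
      change x ∈ (c • α).syl ↔ x ∈ α.syl
      rw [act_mem, hαmem, hαmem, ← map_inv, MulAut.conjNormal_apply]
      constructor
      · intro hh
        have h1 := mul_mem (mul_mem hcP hh) (inv_mem hcP)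
        have e : c * (c⁻¹ * (x : Y) * c⁻¹⁻¹) * c⁻¹ = x := by group
        rwa [e] at h1
      · intro hh
        exact mul_mem (mul_mem (inv_mem hcP) hh) (inv_mem (inv_mem hcP))
    · intro j hj
      refine (hmemN ⟨j, (hJN hj).1⟩ α).2 ?_
      rw [mem_normalizer_iff]
      intro x
      change x ∈ α.syl ↔ _ ∈ α.syl
      rw [hαmem, hαmem]
      constructor
      · intro hh
        exact (hNT j (hJN hj) x ⟨hh, x.2⟩).1
      · intro hh
        have h1 := (hNT j⁻¹ (inv_mem (hJN hj)) _ ⟨hh, SetLike.coe_mem _⟩).1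
        have e : j⁻¹ * (((⟨j, (hJN hj).1⟩ : M) * x * (⟨j, (hJN hj).1⟩ : M)⁻¹ : M) : Y) * j⁻¹⁻¹ = x := by
          simp only [coe_mul, coe_inv]
          group
        rw [e] at h1
        exact h1
    · have h1 := hBP.sq_le P0
      have h2 : (invo M (P0 : Subgroup M)).ncard = Nat.card B := by
        have h3 : (B : Set Y) = Subtype.val '' (invo M (P0 : Subgroup M)) := by
          ext x
          constructor
          · intro hx
            exact ⟨⟨x, hx.2⟩, ⟨(hP0mem _).2 (hBT hx).1, Subtype.ext (hBsq x hx)⟩, rfl⟩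
          · rintro ⟨y, ⟨hy, hyy⟩, rfl⟩
            exact hBsq' y ⟨(hP0mem _).1 hy, y.2⟩ (congrArg Subtype.val hyy)
        have h4 : (B : Set Y).ncard = (invo M (P0 : Subgroup M)).ncard := by
          rw [h3, Set.ncard_image_of_injective _ Subtype.val_injective]
        rw [← h4]; rfl
      rw [h2] at h1
      rw [hcardT]
      exact h1

/-- An elementary closed family which meets the simple normal subgroup `M` (with `C_Y(M) = 1`) non-trivially is
contained in `M`. -/
theorem mem_of_simple (h : IsElemFam 𝒜) {M : Subgroup Y} [hMn : M.Normal] (hM : IsSimpleGroup M)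
    (hMC : centralizer (M : Set Y) = ⊥) (hT : TCon M) (hx : ∃ x ∈ 𝒜, x ∈ M ∧ x ≠ 1) {b : Y}
    (hb : b ∈ 𝒜) : b ∈ M := by
  set Y1 : Subgroup Y := M ⊔ zpowers b with hY1
  have hMY : M ≤ Y1 := le_sup_left
  have hbY : b ∈ Y1 := le_sup_right (a := M) (mem_zpowers b)
  have e : ↥M ≃* ↥(M.subgroupOf Y1) := (subgroupOfEquivOfLe hMY).symm
  haveI hMn1 : (M.subgroupOf Y1).Normal := hMn.subgroupOf Y1
  have hM1 : IsSimpleGroup ↥(M.subgroupOf Y1) := by
    haveI := hM
    haveI : Nontrivial ↥(M.subgroupOf Y1) := e.symm.toEquiv.nontrivial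
    exact IsSimpleGroup.isSimpleGroup_of_surjective e.toMonoidHom e.surjective
  have hMC1 : centralizer ((M.subgroupOf Y1 : Subgroup Y1) : Set Y1) = ⊥ := by
    rw [eq_bot_iff]
    intro y hy
    have h1 : (y : Y) ∈ centralizer (M : Set Y) := by
      rw [mem_centralizer_iff] at hy ⊢
      intro m hm
      exact congrArg Subtype.val (hy ⟨m, hMY hm⟩ (mem_subgroupOf.2 hm))
    rw [hMC, mem_bot] at h1
    rw [mem_bot]
    exact Subtype.ext h1
  have hT1 : TCon ↥(M.subgroupOf Y1) := GoldTrans.tCon_congr e hT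
  obtain ⟨x, hxA, hxM, hx1⟩ := hx
  have h1 := mem_aux (h.restrict Y1) hM1 hMC1 hT1
    ⟨⟨x, hMY hxM⟩, hxA, mem_subgroupOf.2 hxM, fun e => hx1 (congrArg Subtype.val e)⟩ (b := ⟨b, hbY⟩) hb (by
      rw [eq_top_iff]
      rintro ⟨y, hy⟩ -
      obtain ⟨m, hm, z, hz, rfl⟩ := mem_sup_of_normal_left.1 hy
      obtain ⟨n, rfl⟩ := mem_zpowers_iff.1 hz
      rw [mem_sup_of_normal_left]
      exact ⟨⟨m, hMY hm⟩, mem_subgroupOf.2 hm, (⟨b, hbY⟩ : Y1) ^ n, zpow_mem (mem_zpowers _) n,
        Subtype.ext (by simp)⟩)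
  exact mem_subgroupOf.1 h1

end Main

end Cfsg.Agent.TwoFusion.GoldAS
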