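import Mathlib
import Cfsg.Prelude.Def_CaseTheorems
import Cfsg.Prelude.Def_Involutions
import Cfsg.Prelude.Def_Local
import Cfsg.Prelude.Def_TwoFusion
import Cfsg.Agent.Lib.Cores
import Cfsg.Agent.TwoFusion.ClosedFam

/-!
# Goldschmidt's theorem on strongly closed abelian 2-subgroups: the vocabulary

* `IsElemFam 𝒜`: a closed family of elements of order at most 2 (the union of the conjugates of an elementary
  abelian strongly closed subgroup).
* `TProp L`: the induction statement for a simple group `L`.
* `Ctx 𝒜`: a finite group without odd core, an elementary closed family, and the induction statement for the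
  simple quotients of its components.
* `Act 𝒜 L`: the component `L` is not centralized by the family.
-/

set_option autoImplicit false
set_option linter.style.haveILetI false

namespace Cfsg.Agent.TwoFusion.Gold

open Subgroup
open Cfsg.Agent.TwoFusion.ClosedFam

variable {G : Type*} [Group G]

/-- An elementary closed family: a closed family of elements of order at most 2. -/
structure IsElemFam {G : Type*} [Group G] (𝒜 : Set G) : Prop extends IsClosedFam 𝒜 where
  sq : ∀ x ∈ 𝒜, x * x = 1

/-- The subgroup-like set of elements of order at most two in a Sylow subgroup. -/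
def invo (G : Type*) [Group G] (S : Subgroup G) : Set G := {s | s ∈ S ∧ s * s = 1}

/-- The facts on a simple group with a strongly embedded subgroup and non-elementary Sylow 2-subgroups
(Suzuki groups and `PSU(3, 2^n)`) which are used. -/
structure BenPack (L : Type*) [Group L] : Prop where
  se : ∃ H : Subgroup L, Cfsg.IsStronglyEmbedded H
  ti : ∀ S S' : Sylow 2 L, S ≠ S' → (S : Subgroup L) ⊓ S' = ⊥
  card : ∀ S : Sylow 2 L, Nat.card (Sylow 2 L) = 1 + Nat.card S
  sq_le : ∀ S : Sylow 2 L, (invo L (S : Subgroup L)).ncard ^ 2 ≤ Nat.card S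
  alt : ∀ S : Sylow 2 L, (∃ n : ℕ, Odd n ∧ (invo L (S : Subgroup L)).ncard = 2 ^ n) ∨
    ∃ y : L, Odd (orderOf y) ∧ y ∈ normalizer ((S : Subgroup L) : Set L) ∧
      (∀ s ∈ S, s * s = 1 → s * y = y * s) ∧ ∀ s ∈ S, s * y = y * s → s * s = 1

/-- The conclusion of the induction statement (T) for a simple group `L`. -/
structure TCon (L : Type*) [Group L] : Prop where
  central : ∀ S : Sylow 2 L, ∀ x ∈ S, x * x = 1 → ∀ s ∈ S, s * x = x * s
  conj : ∀ x y : L, orderOf x = 2 → orderOf y = 2 → ∃ g : L, g * x * g⁻¹ = y
  alt : (∀ S : Sylow 2 L, ∀ s ∈ S, s * s = 1) ∨ BenPack L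

/-- The induction statement (T) for a simple group `L`: the existence of a nontrivial elementary closed family
implies `TCon L`. -/
def TProp (L : Type*) [Group L] : Prop :=
  ∀ 𝒜 : Set L, IsElemFam 𝒜 → (∃ x ∈ 𝒜, x ≠ 1) → TCon L

/-- A group without odd core, an elementary closed family, and (T) for the simple quotients of the components. -/
structure Ctx {X : Type*} [Group X] (𝒜 : Set X) : Prop where
  fam : IsElemFam 𝒜
  core : Cfsg.oddCore X = ⊥
  T : ∀ L : Subgroup X, Cfsg.IsComponent L → TProp (↥L ⧸ center ↥L)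

/-- The subgroup `L` (a component) is acted on non-trivially: the family contains a non-central element of `L`. -/
def Act {X : Type*} [Group X] (𝒜 : Set X) (L : Subgroup X) : Prop :=
  ∃ x ∈ 𝒜, x ∈ L ∧ ∃ y ∈ L, x * y ≠ y * x

/-- The image of the family in `H/O(H)`. -/
def push (𝒜 : Set G) (H : Subgroup G) : Set (↥H ⧸ Cfsg.oddCore ↥H) :=
  (QuotientGroup.mk' (Cfsg.oddCore ↥H)) '' {x : H | (x : G) ∈ 𝒜}

/-! ### Basic facts -/

namespace IsElemFam

variable {𝒜 : Set G} (h : IsElemFam 𝒜)

include h

theorem orderOf_eq {x : G} (hx : x ∈ 𝒜) (h1 : x ≠ 1) : orderOf x = 2 :=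
  orderOf_eq_prime (by rw [pow_two]; exact h.sq x hx) h1

theorem inv_eq {x : G} (hx : x ∈ 𝒜) : x⁻¹ = x := inv_eq_of_mul_eq_one_left (h.sq x hx)

/-- Two elements of the family in a common 2-subgroup commute. -/
theorem comm {Q : Subgroup G} (hQ : IsPGroup 2 Q) {x y : G} (hx : x ∈ 𝒜) (hxQ : x ∈ Q) (hy : y ∈ 𝒜)
    (hyQ : y ∈ Q) : x * y = y * x := by
  have h1 := h.sq _ (h.mul_mem Q hQ x hxQ y hyQ hx hy)
  have h2 := h.sq x hx
  have h3 := h.sq y hy
  calc x * y = x * y * 1 := by rw [mul_one]
    _ = x * y * (x * y * (x * y)) := by rw [h1]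
    _ = (x * y * (x * y)) * (x * y) := by group
    _ = x * y := by rw [h1, one_mul]
    _ = 1 * (x * y) * 1 := by group
    _ = (y * y) * (x * y) * (x * x) := by rw [h2, h3]
    _ = y * (y * x * (y * x)) * x := by group
    _ = y * x := by
      have h4 : y * x * (y * x) = 1 := by
        have := h.sq _ (h.mul_mem Q hQ y hyQ x hxQ hy hx)
        exact this
      rw [h4, mul_one]

/-- The family restricted to a subgroup. -/
theorem restrict (H : Subgroup G) : IsElemFam {x : H | (x : G) ∈ 𝒜} where
  toIsClosedFam := h.toIsClosedFam.restrict H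
  sq x hx := Subtype.ext (h.sq _ hx)

/-- The image of the family under a surjection. -/
theorem image [Finite G] {K : Type*} [Group K] {f : G →* K} (hf : Function.Surjective f) :
    IsElemFam (f '' 𝒜) where
  toIsClosedFam := h.toIsClosedFam.image hf
  sq := by
    rintro _ ⟨x, hx, rfl⟩
    rw [← map_mul, h.sq x hx, map_one]

theorem push [Finite G] (H : Subgroup G) : IsElemFam (push 𝒜 H) :=
  (h.restrict H).image (QuotientGroup.mk'_surjective _)

end IsElemFam

end Cfsg.Agent.TwoFusion.Gold
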