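import Mathlib
import Cfsg.Agent.TwoFusion.GoldDefs
import Cfsg.Agent.TwoFusion.ClosedZ
import Cfsg.Agent.S1270
import Cfsg.Agent.SignalizersComponents.CompBasic
import Cfsg.Agent.SignalizersComponents.PCompCore
import Cfsg.Agent.SignalizersComponents.OddFixed

/-!
# Goldschmidt's theorem, L1: an elementary closed family normalizes the components

* `mem_normalizer`: the elements of an elementary closed family normalize every component.
* `comm_of_not_act`: a component without non-central elements of the family is centralized by the family.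
-/

set_option autoImplicit false
set_option linter.style.haveILetI false

namespace Cfsg.Agent.TwoFusion.Gold

open Subgroup
open Cfsg.Agent.TwoFusion.ClosedFam
open scoped commutatorElement

variable {X : Type*} [Group X] [Finite X] {𝒜 : Set X}

/-- The intersection of a Sylow subgroup with a subnormal subgroup is a Sylow subgroup. -/
theorem exists_sylow_subgroupOf {p : ℕ} [Fact p.Prime] (P : Sylow p X) {L : Subgroup X}
    (hL : L.IsSubnormal) : ∃ T : Sylow p L, (T : Subgroup L) = (P : Subgroup X).subgroupOf L := by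
  have h1 : IsPGroup p ((P : Subgroup X).subgroupOf L) :=
    P.isPGroup'.comap_subtype
  have h2 : ¬ p ∣ ((P : Subgroup X).subgroupOf L).index := by
    intro h
    exact P.not_dvd_index (h.trans
      (Cfsg.Agent.SignalizersComponents.PCompCore.relIndex_dvd_index_of_subnormal (P : Subgroup X) hL))
  exact ⟨h1.toSylow h2, rfl⟩

/-- (1.2) An elementary closed family normalizes every component. -/
theorem mem_normalizer (h : IsElemFam 𝒜) (hO : Cfsg.oddCore X = ⊥) {L : Subgroup X}
    (hL : Cfsg.IsComponent L) {a : X} (ha : a ∈ 𝒜) : a ∈ normalizer (L : Set X) := by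
  classical
  haveI : Fact (Nat.Prime 2) := ⟨Nat.prime_two⟩
  by_contra hn
  -- `L` commutes with its conjugate
  have hcomm : ∀ l ∈ L, ∀ m ∈ L, (a * l * a⁻¹) * m = m * (a * l * a⁻¹) := by
    intro l hl m hm
    have h1 := Cfsg.Agent.S1270.commute_conj hL (g := a) (h := 1) (by simpa using hn) hl hm
    simpa using h1.eq
  obtain ⟨P, hP⟩ := (h.isPGroup_zpowers ha).exists_le_sylow
  have haP : a ∈ P := hP (mem_zpowers a)
  obtain ⟨T, hT⟩ := exists_sylow_subgroupOf P hL.1
  have hperf : commutator L = ⊤ := hL.2.1.commutator_eq_top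
  have hfoc : (T : Subgroup L) = (T : Subgroup L).focalSubgroup := by
    have h1 := Subgroup.commutator_inf_eq_focalSubgroup T
    rw [hperf, top_inf_eq] at h1
    exact h1
  -- the elements of `T` belong to the family
  have key : ∀ t : L, t ∈ (T : Subgroup L) → (t : X) ∈ 𝒜 ∧ (t : X) ∈ P := by
    have h1 : (T : Subgroup L) ≤ (fam 𝒜 (P : Subgroup X)).comap L.subtype := by
      rw [hfoc, Subgroup.focalSubgroup_def, closure_le]
      rintro g ⟨hg, x, hx, u, rfl⟩
      change ((⁅x, u⁆ : L) : X) ∈ fam 𝒜 (P : Subgroup X)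
      have hxP : (x : X) ∈ P := by
        rw [hT] at hx
        exact hx
      have hgP : ((⁅x, u⁆ : L) : X) ∈ P := by
        rw [hT] at hg
        exact hg
      have e1 : ((⁅x, u⁆ : L) : X) = (x : X) * ((u : X) * (x : X)⁻¹ * (u : X)⁻¹) := by
        rw [commutatorElement_def]
        push_cast
        group
      rw [e1] at hgP ⊢
      obtain ⟨x', hx'⟩ : ∃ x' : X, x' = (x : X) := ⟨_, rfl⟩
      obtain ⟨u', hu'⟩ : ∃ u' : X, u' = (u : X) := ⟨_, rfl⟩
      have hx'L : x' ∈ L := by rw [hx']; exact x.2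
      have hu'L : u' ∈ L := by rw [hu']; exact u.2
      rw [← hx'] at hxP
      rw [← hx', ← hu'] at hgP
      rw [← hx', ← hu']
      have hxu : u' * x'⁻¹ * u'⁻¹ ∈ P := by
        have := mul_mem (inv_mem hxP) hgP
        simpa using this
      have hcu : (a * x'⁻¹ * a⁻¹) * u' = u' * (a * x'⁻¹ * a⁻¹) :=
        hcomm x'⁻¹ (L.inv_mem hx'L) u' hu'L
      -- the commutators with `a`
      have hc1 : x' * (a * x'⁻¹ * a⁻¹) ∈ 𝒜 := by
        have e : x' * (a * x'⁻¹ * a⁻¹) = (x' * a * x'⁻¹) * a⁻¹ := by group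
        rw [e]
        exact h.mul_mem P P.isPGroup' _ (mul_mem (mul_mem hxP haP) (inv_mem hxP)) _ (inv_mem haP)
          (h.conj_mem a ha x') (h.inv_mem ha)
      have haxP : a * x'⁻¹ * a⁻¹ ∈ P := mul_mem (mul_mem haP (inv_mem hxP)) (inv_mem haP)
      have hc2 : (u' * x' * u'⁻¹) * (a * x'⁻¹ * a⁻¹) ∈ 𝒜 := by
        have e : (u' * x' * u'⁻¹) * (a * x'⁻¹ * a⁻¹) = u' * (x' * (a * x'⁻¹ * a⁻¹)) * u'⁻¹ := by
          calc (u' * x' * u'⁻¹) * (a * x'⁻¹ * a⁻¹)
              = u' * x' * u'⁻¹ * ((a * x'⁻¹ * a⁻¹) * u') * u'⁻¹ := by group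
            _ = u' * x' * u'⁻¹ * (u' * (a * x'⁻¹ * a⁻¹)) * u'⁻¹ := by rw [hcu]
            _ = u' * (x' * (a * x'⁻¹ * a⁻¹)) * u'⁻¹ := by group
        rw [e]
        exact h.conj_mem _ hc1 u'
      have huxP : u' * x' * u'⁻¹ ∈ P := by
        have := inv_mem hxu
        have e : (u' * x'⁻¹ * u'⁻¹)⁻¹ = u' * x' * u'⁻¹ := by group
        rwa [e] at this
      have e2 : x' * (u' * x'⁻¹ * u'⁻¹) =
          (x' * (a * x'⁻¹ * a⁻¹)) * ((u' * x' * u'⁻¹) * (a * x'⁻¹ * a⁻¹))⁻¹ := by group
      rw [e2]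
      have h3 : (x' * (a * x'⁻¹ * a⁻¹)) * ((u' * x' * u'⁻¹) * (a * x'⁻¹ * a⁻¹))⁻¹ ∈ 𝒜 :=
        h.mul_mem P P.isPGroup' _ (mul_mem hxP haxP) _ (inv_mem (mul_mem huxP haxP)) hc1 (h.inv_mem hc2)
      exact mem_fam h3 (mul_mem (mul_mem hxP haxP) (inv_mem (mul_mem huxP haxP)))
    intro t ht
    exact (h.mem_fam_iff P.isPGroup').1 (h1 ht)
  -- hence they are fixed by `a` and central in `L`
  have hcen : (T : Subgroup L) ≤ center L := by
    intro t ht
    rw [mem_center_iff]
    intro m
    obtain ⟨h1, h2⟩ := key t ht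
    have h3 : a * (t : X) = (t : X) * a := h.comm P.isPGroup' ha haP h1 h2
    have h4 : a * (t : X) * a⁻¹ = t := by rw [h3, mul_inv_cancel_right]
    have h5 := hcomm t t.2 m m.2
    rw [h4] at h5
    exact Subtype.ext h5.symm
  have hdvd : 2 ∣ Nat.card L := by
    have h1 := Cfsg.Agent.S1270.component_not_coprime hO hL
    rw [Nat.coprime_comm, Nat.Prime.coprime_iff_not_dvd Nat.prime_two, not_not] at h1
    exact h1
  exact Cfsg.Agent.SignalizersComponents.CompBasic.sylow_not_le_center_of_perfect hL.2.1 2 hdvd T hcen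

/-- In a component of a group without odd core the centre has even index. -/
theorem two_dvd_index_center (hO : Cfsg.oddCore X = ⊥) {L : Subgroup X} (hL : Cfsg.IsComponent L) :
    2 ∣ (center L).index := by
  classical
  haveI : Fact (Nat.Prime 2) := ⟨Nat.prime_two⟩
  have hdvd : 2 ∣ Nat.card L := by
    have h1 := Cfsg.Agent.S1270.component_not_coprime hO hL
    rw [Nat.coprime_comm, Nat.Prime.coprime_iff_not_dvd Nat.prime_two, not_not] at h1
    exact h1
  by_contra hn
  obtain ⟨T⟩ : Nonempty (Sylow 2 L) := inferInstance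
  refine Cfsg.Agent.SignalizersComponents.CompBasic.sylow_not_le_center_of_perfect hL.2.1 2 hdvd T ?_
  intro t ht
  obtain ⟨k, hk⟩ := T.isPGroup' ⟨t, ht⟩
  have hk' : t ^ 2 ^ k = 1 := by simpa using congrArg Subtype.val hk
  have h1 : orderOf (QuotientGroup.mk' (center L) t) ∣ 2 ^ k :=
    orderOf_dvd_of_pow_eq_one (by rw [← map_pow, hk', map_one])
  have h2 : orderOf (QuotientGroup.mk' (center L) t) ∣ (center L).index := by
    rw [Subgroup.index_eq_card]
    exact orderOf_dvd_natCard _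
  have h3 : (2 ^ k).Coprime (center L).index :=
    Nat.Coprime.pow_left k ((Nat.Prime.coprime_iff_not_dvd Nat.prime_two).2 hn)
  have h4 := Nat.eq_one_of_dvd_coprimes h3 h1 h2
  rw [orderOf_eq_one_iff] at h4
  exact (QuotientGroup.eq_one_iff t).1 h4

/-- (1.3) A component which contains no non-central element of the family is centralized by the family. -/
theorem comm_of_not_act (h : IsElemFam 𝒜) (hO : Cfsg.oddCore X = ⊥) {L : Subgroup X}
    (hL : Cfsg.IsComponent L) (hn : ¬ Act 𝒜 L) : ∀ a ∈ 𝒜, ∀ l ∈ L, a * l = l * a := by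
  classical
  haveI : Fact (Nat.Prime 2) := ⟨Nat.prime_two⟩
  intro a ha
  have hLN : L ≤ normalizer (L : Set X) := le_normalizer
  -- the centre of `L` as a normal subgroup of the normalizer
  set Z : Subgroup (normalizer (L : Set X)) := (L ⊓ centralizer (L : Set X)).subgroupOf (normalizer (L : Set X))
    with hZ
  haveI hZn : Z.Normal := by
    refine ⟨fun z hz g => ?_⟩
    rw [hZ, mem_subgroupOf, mem_inf, mem_centralizer_iff] at hz ⊢
    obtain ⟨hz1, hz2⟩ := hz
    have hg := mem_normalizer_iff.1 g.2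
    refine ⟨?_, ?_⟩
    · push_cast
      exact (hg _).1 hz1
    · intro m hm
      have hm' : (g : X)⁻¹ * m * g ∈ L := by
        have h1 := (mem_normalizer_iff.1 ((normalizer (L : Set X)).inv_mem g.2) m).1 hm
        simpa using h1
      have h1 := hz2 _ hm'
      push_cast
      calc m * ((g : X) * z * (g : X)⁻¹) = g * (((g : X)⁻¹ * m * g) * z) * (g : X)⁻¹ := by group
        _ = g * (z * ((g : X)⁻¹ * m * g)) * (g : X)⁻¹ := by rw [h1]
        _ = (g : X) * z * (g : X)⁻¹ * m := by group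
  let f : normalizer (L : Set X) →* normalizer (L : Set X) ⧸ Z := QuotientGroup.mk' Z
  let φ : L →* normalizer (L : Set X) ⧸ Z := f.comp (inclusion hLN)
  have hker : φ.ker = center L := by
    ext l
    rw [MonoidHom.mem_ker, mem_center_iff]
    change (QuotientGroup.mk' Z) (inclusion hLN l) = 1 ↔ _
    rw [QuotientGroup.mk'_apply, QuotientGroup.eq_one_iff, hZ, mem_subgroupOf, mem_inf, mem_centralizer_iff]
    constructor
    · rintro ⟨-, h2⟩ m
      exact Subtype.ext (h2 m m.2)
    · intro h2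
      refine ⟨l.2, fun m hm => ?_⟩
      exact congrArg Subtype.val (h2 ⟨m, hm⟩)
  -- the image of `L` is simple of even order
  haveI hsimp : IsSimpleGroup (L ⧸ center L) := hL.2.2
  have hodd : Cfsg.oddCore φ.range = ⊥ := by
    have e : (L ⧸ center L) ≃* φ.range :=
      (QuotientGroup.quotientMulEquivOfEq hker.symm).trans (QuotientGroup.quotientKerEquivRange φ)
    haveI : IsSimpleGroup φ.range := by
      haveI : Nontrivial φ.range := e.symm.toEquiv.nontrivial
      exact IsSimpleGroup.isSimpleGroup_of_surjective e.toMonoidHom e.surjective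
    rcases IsSimpleGroup.eq_bot_or_eq_top_of_normal (Cfsg.oddCore φ.range)
      (Cfsg.Agent.Lib.Cores.pPrimeCore_normal 2) with h1 | h1
    · exact h1
    · exfalso
      have h2 := (Cfsg.Agent.Lib.Cores.pPrimeCore_eq_top_iff 2).1 h1
      rw [← Nat.card_congr e.toEquiv, ← Subgroup.index_eq_card, Nat.coprime_comm,
        Nat.Prime.coprime_iff_not_dvd Nat.prime_two] at h2
      exact h2 (two_dvd_index_center hO hL)
  haveI hrn : φ.range.Normal := by
    refine ⟨?_⟩
    rintro _ ⟨l, rfl⟩ g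
    obtain ⟨g, rfl⟩ := QuotientGroup.mk'_surjective Z g
    have hg := mem_normalizer_iff.1 g.2
    refine ⟨⟨(g : X) * l * (g : X)⁻¹, (hg _).1 l.2⟩, ?_⟩
    change f (inclusion hLN _) = f g * f (inclusion hLN l) * (f g)⁻¹
    rw [← map_inv, ← map_mul, ← map_mul]
    rfl
  -- the family in the quotient
  have hfam : IsElemFam (f '' {x : normalizer (L : Set X) | (x : X) ∈ 𝒜}) :=
    (h.restrict _).image (QuotientGroup.mk'_surjective Z)
  have hZZ := Cfsg.Agent.TwoFusion.ClosedZ.centralize hfam.toIsClosedFam φ.range hodd (by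
    rintro _ ⟨x, hx, rfl⟩ ⟨l, hl⟩
    have h1 : (inclusion hLN l)⁻¹ * x ∈ Z := by
      rw [← QuotientGroup.eq]
      exact hl
    rw [hZ, mem_subgroupOf] at h1
    have hxL : (x : X) ∈ L := by
      have h2 := L.mul_mem l.2 h1.1
      have e : (l : X) * (((inclusion hLN l)⁻¹ * x : normalizer (L : Set X)) : X) = x := by
        push_cast
        simp
      rwa [e] at h2
    have hxc : ∀ y ∈ L, (x : X) * y = y * x := by
      by_contra hcon
      push Not at hcon
      exact hn ⟨x, hx, hxL, hcon⟩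
    change (QuotientGroup.mk' Z) x = 1
    rw [QuotientGroup.mk'_apply, QuotientGroup.eq_one_iff, hZ, mem_subgroupOf, mem_inf, mem_centralizer_iff]
    exact ⟨hxL, fun y hy => (hxc y hy).symm⟩)
  have haN := mem_normalizer h hO hL ha
  refine Cfsg.Agent.SignalizersComponents.OddFixed.centralizes_of_perfect hL.2.1 a
    (fun e he => (mem_normalizer_iff.1 haN e).1 he) ?_
  intro e he m hm
  have h1 := hZZ (f ⟨a, haN⟩) ⟨⟨a, haN⟩, ha, rfl⟩ (φ ⟨e, he⟩) ⟨_, rfl⟩
  have h1' : f ⟨a, haN⟩ * f (inclusion hLN ⟨e, he⟩) = f (inclusion hLN ⟨e, he⟩) * f ⟨a, haN⟩ := h1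
  have h2 : f ((inclusion hLN ⟨e, he⟩)⁻¹ * (⟨a, haN⟩ * inclusion hLN ⟨e, he⟩ * ⟨a, haN⟩⁻¹)) = 1 := by
    rw [map_mul, map_mul, map_mul, map_inv, map_inv, h1']
    group
  have h3 : (inclusion hLN ⟨e, he⟩)⁻¹ * (⟨a, haN⟩ * inclusion hLN ⟨e, he⟩ * ⟨a, haN⟩⁻¹) ∈ Z :=
    (QuotientGroup.eq_one_iff _).1 h2
  rw [hZ, mem_subgroupOf, mem_inf, mem_centralizer_iff] at h3
  have h4 := h3.2 m hm
  push_cast at h4
  exact h4.symm

end Cfsg.Agent.TwoFusion.Gold
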