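import Cfsg.Agent.Lib.ComponentSolvable
import Cfsg.Agent.SignalizersComponents.BalanceAux
import Cfsg.Agent.SignalizersComponents.PCompCore
import Cfsg.Agent.TwoFusion.GoldAS
import Cfsg.Agent.TwoFusion.GoldNorm

/-!
# The action of an elementary closed family on a component

If (T) holds for `L/Z(L)` and the component `L` is not centralized by the family `𝒜`, then every element of
`𝒜` acts on `L` as an element of `𝒜 ∩ L`, and there is a group of odd order in `N_L(A)` which is transitive on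
the nontrivial elements of `A/C_A(L)`.
-/

set_option autoImplicit false
set_option linter.style.haveILetI false

namespace Cfsg.Agent.TwoFusion.GoldInner

open Subgroup
open Cfsg.Agent.TwoFusion.ClosedFam Cfsg.Agent.TwoFusion.Gold

section Model

variable {X : Type*} [Group X] (L : Subgroup X)

/-- The centralizer of `L` in its normalizer. -/
def cn : Subgroup ↥(normalizer (L : Set X)) := (centralizer (L : Set X)).subgroupOf (normalizer (L : Set X))

theorem mem_cn {x : ↥(normalizer (L : Set X))} : x ∈ cn L ↔ (x : X) ∈ centralizer (L : Set X) := mem_subgroupOf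

instance cn_normal : (cn L).Normal := by
  refine ⟨fun x hx g => ?_⟩
  rw [mem_cn, mem_centralizer_iff] at hx ⊢
  intro l hl
  have h1 : (g : X)⁻¹ * l * g ∈ L := by
    have := (mem_normalizer_iff.1 (inv_mem g.2) l).1 hl
    rwa [inv_inv] at this
  have h2 := hx _ h1
  simp only [coe_mul, coe_inv]
  calc l * ((g : X) * x * (g : X)⁻¹) = g * ((g : X)⁻¹ * l * g * x) * (g : X)⁻¹ := by group
    _ = g * (x * ((g : X)⁻¹ * l * g)) * (g : X)⁻¹ := by rw [h2]
    _ = _ := by group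

/-- The projection `N(L) → N(L)/C(L)`. -/
def pr : ↥(normalizer (L : Set X)) →* ↥(normalizer (L : Set X)) ⧸ cn L := QuotientGroup.mk' (cn L)

theorem pr_surjective : Function.Surjective (pr L) := QuotientGroup.mk'_surjective _

theorem pr_eq_one {x : ↥(normalizer (L : Set X))} : pr L x = 1 ↔ (x : X) ∈ centralizer (L : Set X) := by
  unfold pr
  rw [QuotientGroup.mk'_apply, QuotientGroup.eq_one_iff, mem_cn]

theorem pr_eq_iff {x y : ↥(normalizer (L : Set X))} :
    pr L x = pr L y ↔ (x : X) * (y : X)⁻¹ ∈ centralizer (L : Set X) := by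
  rw [← mul_inv_eq_one, ← map_inv, ← map_mul, pr_eq_one]
  rfl

/-- The inner automorphisms. -/
def inn : Subgroup (↥(normalizer (L : Set X)) ⧸ cn L) := (L.subgroupOf (normalizer (L : Set X))).map (pr L)

instance inn_normal : (inn L).Normal := by
  have h1 : (L.subgroupOf (normalizer (L : Set X))).Normal := by
    refine ⟨fun x hx g => ?_⟩
    rw [mem_subgroupOf] at hx ⊢
    exact (mem_normalizer_iff.1 g.2 x).1 hx
  exact h1.map _ (pr_surjective L)

/-- The map `L → Inn`. -/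
def toInn : ↥L →* ↥(inn L) where
  toFun l := ⟨pr L ⟨l, le_normalizer l.2⟩, ⟨⟨l, le_normalizer l.2⟩, mem_subgroupOf.2 l.2, rfl⟩⟩
  map_one' := by
    apply Subtype.ext
    change pr L ⟨((1 : L) : X), _⟩ = 1
    rw [pr_eq_one]
    exact one_mem _
  map_mul' x y := by
    apply Subtype.ext
    change pr L ⟨((x * y : L) : X), _⟩ = pr L ⟨x, _⟩ * pr L ⟨y, _⟩
    rw [← map_mul]
    rfl

theorem toInn_surjective : Function.Surjective (toInn L) := by
  rintro ⟨_, ⟨x, hx, rfl⟩⟩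
  exact ⟨⟨x, mem_subgroupOf.1 hx⟩, rfl⟩

theorem toInn_eq_one {l : L} : toInn L l = 1 ↔ (l : X) ∈ centralizer (L : Set X) := by
  rw [Subtype.ext_iff]
  exact pr_eq_one L (x := ⟨l, le_normalizer l.2⟩)

theorem ker_toInn : (toInn L).ker = center ↥L := by
  ext l
  rw [MonoidHom.mem_ker, toInn_eq_one, mem_centralizer_iff, mem_center_iff]
  constructor
  · intro h g
    exact Subtype.ext (h g g.2)
  · intro h g hg
    exact congrArg Subtype.val (h ⟨g, hg⟩)

/-- `L/Z(L) ≃ Inn`. -/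
noncomputable def innEquiv : (↥L ⧸ center ↥L) ≃* ↥(inn L) :=
  (QuotientGroup.quotientMulEquivOfEq (ker_toInn L).symm).trans
    (QuotientGroup.quotientKerEquivOfSurjective (toInn L) (toInn_surjective L))

variable {L}

theorem isSimpleGroup_inn (hL : Cfsg.IsComponent L) : IsSimpleGroup ↥(inn L) := by
  haveI := hL.2.2
  haveI : Nontrivial ↥(inn L) := (innEquiv L).symm.toEquiv.nontrivial
  exact IsSimpleGroup.isSimpleGroup_of_surjective (innEquiv L).toMonoidHom (innEquiv L).surjective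

theorem centralizer_inn (hL : Cfsg.IsComponent L) :
    centralizer (inn L : Set (↥(normalizer (L : Set X)) ⧸ cn L)) = ⊥ := by
  rw [eq_bot_iff]
  intro y hy
  obtain ⟨n, rfl⟩ := pr_surjective L y
  rw [mem_bot, pr_eq_one]
  rw [mem_centralizer_iff] at hy
  -- `[n, L] ≤ Z(L)`
  have h1 : ∀ l ∈ L, (n : X) * l * (n : X)⁻¹ * l⁻¹ ∈ centralizer (L : Set X) := by
    intro l hl
    have h2 := hy (pr L ⟨l, le_normalizer hl⟩) ⟨⟨l, le_normalizer hl⟩, mem_subgroupOf.2 hl, rfl⟩
    rw [← map_mul, ← map_mul, pr_eq_iff] at h2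
    have h3 := (centralizer (L : Set X)).inv_mem h2
    have e : ((((⟨l, le_normalizer hl⟩ : ↥(normalizer (L : Set X))) * n :
      ↥(normalizer (L : Set X))) : X) * ((n * ⟨l, le_normalizer hl⟩ : ↥(normalizer (L : Set X))) : X)⁻¹)⁻¹ =
        (n : X) * l * (n : X)⁻¹ * l⁻¹ := by
      simp only [coe_mul]
      group
    rwa [e] at h3
  have hL1 : ∀ l ∈ L, (n : X) * l * (n : X)⁻¹ * l⁻¹ ∈ L := fun l hl =>
    mul_mem ((mem_normalizer_iff.1 n.2 l).1 hl) (inv_mem hl)
  let κ : ↥L →* ↥(center ↥L) :=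
    { toFun := fun l => ⟨⟨(n : X) * l * (n : X)⁻¹ * (l : X)⁻¹, hL1 l l.2⟩, by
        rw [mem_center_iff]
        intro g
        exact Subtype.ext ((mem_centralizer_iff.1 (h1 l l.2)) g g.2)⟩
      map_one' := by
        apply Subtype.ext
        apply Subtype.ext
        change (n : X) * 1 * (n : X)⁻¹ * (1 : X)⁻¹ = 1
        group
      map_mul' := by
        intro x y
        apply Subtype.ext
        apply Subtype.ext
        change (n : X) * (x * y) * (n : X)⁻¹ * ((x : X) * y)⁻¹ =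
          ((n : X) * x * (n : X)⁻¹ * (x : X)⁻¹) * ((n : X) * y * (n : X)⁻¹ * (y : X)⁻¹)
        have h5 := (mem_centralizer_iff.1 (h1 y y.2)) x x.2
        calc (n : X) * (x * y) * (n : X)⁻¹ * ((x : X) * y)⁻¹ =
            (n : X) * x * (n : X)⁻¹ * ((n : X) * y * (n : X)⁻¹ * (y : X)⁻¹) * (x : X)⁻¹ := by group
          _ = (n : X) * x * (n : X)⁻¹ * (x : X)⁻¹ *
              ((x : X) * ((n : X) * y * (n : X)⁻¹ * (y : X)⁻¹)) * (x : X)⁻¹ := by group
          _ = (n : X) * x * (n : X)⁻¹ * (x : X)⁻¹ *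
              (((n : X) * y * (n : X)⁻¹ * (y : X)⁻¹) * (x : X)) * (x : X)⁻¹ := by rw [h5]
          _ = _ := by group }
  rw [mem_centralizer_iff]
  intro l hl
  have h6 : κ ⟨l, hl⟩ = 1 := by
    letI : CommGroup ↥(center ↥L) := { (inferInstance : Group ↥(center ↥L)) with
      mul_comm := fun a b => Subtype.ext ((mem_center_iff.1 b.2 a)) }
    exact Cfsg.Agent.SignalizersComponents.CompBasic.hom_eq_one_of_perfect hL.2.1 κ ⟨l, hl⟩
  have h7 : (n : X) * l * (n : X)⁻¹ * l⁻¹ = 1 :=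
    congrArg (fun z : ↥(center ↥L) => ((z : ↥L) : X)) h6
  calc l * (n : X) = 1 * l * n := by group
    _ = (n : X) * l * (n : X)⁻¹ * l⁻¹ * l * n := by rw [h7]
    _ = n * l := by group

end Model

section Inner

variable {X : Type*} [Group X] [Finite X] {𝒜 : Set X} {L : Subgroup X}

/-- The family in `N(L)/C(L)`. -/
def famN (𝒜 : Set X) (L : Subgroup X) : Set (↥(normalizer (L : Set X)) ⧸ cn L) :=
  pr L '' {x : ↥(normalizer (L : Set X)) | (x : X) ∈ 𝒜}

theorem isElemFam_famN (h : IsElemFam 𝒜) : IsElemFam (famN 𝒜 L) :=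
  (h.restrict _).image (pr_surjective L)

omit [Finite X] in
theorem exists_mem_famN (hA : Act 𝒜 L) : ∃ x ∈ famN 𝒜 L, x ∈ inn L ∧ x ≠ 1 := by
  obtain ⟨x, hx, hxL, y, hy, hne⟩ := hA
  refine ⟨pr L ⟨x, le_normalizer hxL⟩, ⟨⟨x, le_normalizer hxL⟩, hx, rfl⟩,
    ⟨⟨x, le_normalizer hxL⟩, mem_subgroupOf.2 hxL, rfl⟩, ?_⟩
  rw [Ne, pr_eq_one, mem_centralizer_iff]
  intro hc
  exact hne (hc y hy).symm

/-- (T) gives `TCon` for the group of inner automorphisms. -/
theorem tCon_inn (h : Ctx 𝒜) (hL : Cfsg.IsComponent L) (hA : Act 𝒜 L) : TCon ↥(inn L) := by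
  have h1 : TProp ↥(inn L) := GoldTrans.tProp_congr (innEquiv L) (h.T L hL)
  obtain ⟨x, hx, hxi, hx1⟩ := exists_mem_famN hA
  exact h1 _ ((isElemFam_famN h.fam).restrict (inn L)) ⟨⟨x, hxi⟩, hx, fun e => hx1 (congrArg Subtype.val e)⟩

/-- `Z(L) ≤ S`. -/
theorem center_le (hO : Cfsg.oddCore X = ⊥) (hL : Cfsg.IsComponent L) (S : Sylow 2 X) {z : X} (hz : z ∈ L)
    (hzc : z ∈ centralizer (L : Set X)) : z ∈ (S : Subgroup X) := by
  haveI : Fact (Nat.Prime 2) := ⟨Nat.prime_two⟩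
  have h1 := Cfsg.Agent.SignalizersComponents.BalanceAux.center_component_le_pCore 2 hO hL
  exact Cfsg.Agent.Lib.Cores.pCore_le_sylow S (h1 ⟨hz, hzc⟩)

/-- Conjugation of elements of `L` whose images in `Inn L` are nontrivial elements of the family. -/
theorem exists_conj_mul (h : Ctx 𝒜) (hL : Cfsg.IsComponent L) (hA : Act 𝒜 L) {x y : X} (hxL : x ∈ L)
    (hyN : y ∈ normalizer (L : Set X)) (hyL : pr L ⟨y, hyN⟩ ∈ inn L)
    (hxx : x * x ∈ centralizer (L : Set X)) (hyy : y * y ∈ centralizer (L : Set X))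
    (hx : x ∉ centralizer (L : Set X)) (hy : y ∉ centralizer (L : Set X)) :
    ∃ l ∈ L, l * x * l⁻¹ * y⁻¹ ∈ centralizer (L : Set X) := by
  have hT := tCon_inn h hL hA
  have o1 : orderOf (toInn L ⟨x, hxL⟩) = 2 := by
    refine orderOf_eq_prime ?_ ?_
    · rw [pow_two, ← map_mul, toInn_eq_one]
      exact hxx
    · rw [Ne, toInn_eq_one]; exact hx
  have o2 : orderOf (⟨pr L ⟨y, hyN⟩, hyL⟩ : ↥(inn L)) = 2 := by
    refine orderOf_eq_prime ?_ ?_
    · apply Subtype.ext
      rw [pow_two]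
      change pr L ⟨y, hyN⟩ * pr L ⟨y, hyN⟩ = 1
      rw [← map_mul, pr_eq_one]
      exact hyy
    · intro e
      have e' : pr L ⟨y, hyN⟩ = 1 := congrArg Subtype.val e
      rw [pr_eq_one] at e'
      exact hy e'
  obtain ⟨g, hg⟩ := hT.conj _ _ o1 o2
  obtain ⟨⟨l, hl⟩, rfl⟩ := toInn_surjective L g
  refine ⟨l, hl, ?_⟩
  have h1 : pr L ⟨l, le_normalizer hl⟩ * pr L ⟨x, le_normalizer hxL⟩ * (pr L ⟨l, le_normalizer hl⟩)⁻¹ =
      pr L ⟨y, hyN⟩ := congrArg Subtype.val hg
  rw [← map_mul, ← map_inv, ← map_mul, pr_eq_iff] at h1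
  exact h1

/-- (1.4) Every element of the family acts on the component `L` as an element of the family in `L`. -/
theorem exists_inner (h : Ctx 𝒜) (hL : Cfsg.IsComponent L) (hA : Act 𝒜 L) (S : Sylow 2 X) :
    ∀ a ∈ 𝒜, a ∈ (S : Subgroup X) → ∃ b ∈ 𝒜, b ∈ (S : Subgroup X) ∧ b ∈ L ∧
      ∀ l ∈ L, a * l * a⁻¹ = b * l * b⁻¹ := by
  classical
  haveI : Fact (Nat.Prime 2) := ⟨Nat.prime_two⟩
  intro a ha haS
  have haN : a ∈ normalizer (L : Set X) := mem_normalizer h.fam h.core hL ha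
  by_cases hac : a ∈ centralizer (L : Set X)
  · refine ⟨1, h.fam.one_mem, one_mem _, one_mem _, fun l hl => ?_⟩
    rw [mem_centralizer_iff] at hac
    have := hac l hl
    calc a * l * a⁻¹ = l * a * a⁻¹ := by rw [this]
      _ = 1 * l * 1⁻¹ := by group
  have hT := tCon_inn h hL hA
  -- `a` acts as an inner automorphism
  have h1 : pr L ⟨a, haN⟩ ∈ inn L :=
    GoldAS.mem_of_simple (isElemFam_famN h.fam) (isSimpleGroup_inn hL) (centralizer_inn hL) hT
      (exists_mem_famN hA) ⟨⟨a, haN⟩, ha, rfl⟩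
  -- an element of the family in `L` with the same action
  obtain ⟨x, hx, hxL, y, hy, hne⟩ := hA
  have hA : Act 𝒜 L := ⟨x, hx, hxL, y, hy, hne⟩
  have hxc : x ∉ centralizer (L : Set X) := by
    rw [mem_centralizer_iff]
    intro hc
    exact hne (hc y hy).symm
  obtain ⟨l, hl, hlc⟩ := exists_conj_mul h hL hA hxL haN h1
    (by rw [h.fam.sq x hx]; exact one_mem _) (by rw [h.fam.sq a ha]; exact one_mem _) hxc hac
  set b : X := l * x * l⁻¹ with hb
  have hb𝒜 : b ∈ 𝒜 := h.fam.conj_mem x hx l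
  have hbL : b ∈ L := mul_mem (mul_mem hl hxL) (inv_mem hl)
  -- the Sylow subgroup of `L`
  obtain ⟨T, hT'⟩ := exists_sylow_subgroupOf S hL.1
  have hTmem : ∀ m : L, m ∈ T ↔ (m : X) ∈ (S : Subgroup X) := by
    intro m
    change m ∈ (T : Subgroup L) ↔ _
    rw [hT', mem_subgroupOf]
  -- its image
  let R : Sylow 2 ↥(inn L) := T.mapSurjective (toInn_surjective L)
  have hRcoe : (R : Subgroup ↥(inn L)) = (T : Subgroup L).map (toInn L) :=
    T.coe_mapSurjective (toInn_surjective L)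
  have hab : toInn L ⟨b, hbL⟩ = ⟨pr L ⟨a, haN⟩, h1⟩ := by
    apply Subtype.ext
    change pr L ⟨b, le_normalizer hbL⟩ = pr L ⟨a, haN⟩
    rw [pr_eq_iff]
    exact hlc
  have h2 : (⟨pr L ⟨a, haN⟩, h1⟩ : ↥(inn L)) ∈ R := by
    set m : ↥(inn L) := ⟨pr L ⟨a, haN⟩, h1⟩ with hm
    have hmm : m * m = 1 := by
      apply Subtype.ext
      change pr L ⟨a, haN⟩ * pr L ⟨a, haN⟩ = 1
      rw [← map_mul, pr_eq_one]
      change a * a ∈ _
      rw [h.fam.sq a ha]; exact one_mem _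
    have h3 : IsPGroup 2 (zpowers m) := by
      rintro ⟨y, hy⟩
      obtain ⟨n, rfl⟩ := mem_zpowers_iff.1 hy
      refine ⟨1, Subtype.ext ?_⟩
      simp only [SubmonoidClass.mk_pow, OneMemClass.coe_one]
      rw [← zpow_natCast, ← zpow_mul, mul_comm, zpow_mul, zpow_natCast, pow_one, pow_two, hmm, one_zpow]
    have h4 := h3.inf_normalizer_sylow R
    have h5 : m ∈ normalizer (R : Set ↥(inn L)) := by
      have h6 : m ∈ normalizer ((R : Subgroup ↥(inn L)) : Set ↥(inn L)) := by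
        rw [mem_normalizer_iff]
        -- conjugation by `m` is conjugation by `a`
        have key : ∀ z : ↥(inn L), z ∈ (R : Subgroup ↥(inn L)) → m * z * m⁻¹ ∈ (R : Subgroup ↥(inn L)) := by
          intro z hz
          rw [hRcoe] at hz ⊢
          obtain ⟨t, ht, rfl⟩ := hz
          have h7 : a * (t : X) * a⁻¹ ∈ L := (mem_normalizer_iff.1 haN t).1 t.2
          refine ⟨⟨a * (t : X) * a⁻¹, h7⟩, ?_, ?_⟩
          · change (⟨a * (t : X) * a⁻¹, h7⟩ : L) ∈ T
            rw [hTmem]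
            exact mul_mem (mul_mem haS ((hTmem t).1 ht)) (inv_mem haS)
          · apply Subtype.ext
            change pr L ⟨a * (t : X) * a⁻¹, _⟩ = pr L ⟨a, haN⟩ * pr L ⟨t, _⟩ * (pr L ⟨a, haN⟩)⁻¹
            rw [← map_mul, ← map_inv, ← map_mul]
            rfl
        intro z
        refine ⟨key z, fun hz => ?_⟩
        have hmi : m⁻¹ = m := inv_eq_of_mul_eq_one_left hmm
        have h8 := key _ hz
        have e : m * (m * z * m⁻¹) * m⁻¹ = z := by
          calc m * (m * z * m⁻¹) * m⁻¹ = (m * m) * z * (m * m)⁻¹ := by group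
            _ = z := by rw [hmm]; group
        rwa [e] at h8
      exact h6
    have h9 : m ∈ zpowers m ⊓ normalizer (R : Set ↥(inn L)) := mem_inf.2 ⟨mem_zpowers m, h5⟩
    rw [h4, mem_inf] at h9
    exact h9.2
  have hbS : b ∈ (S : Subgroup X) := by
    have h3 : toInn L ⟨b, hbL⟩ ∈ (R : Subgroup ↥(inn L)) := by rw [hab]; exact h2
    rw [hRcoe] at h3
    obtain ⟨t, ht, htb⟩ := h3
    have h4 : toInn L (t⁻¹ * ⟨b, hbL⟩) = 1 := by rw [map_mul, map_inv, htb, inv_mul_cancel]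
    rw [toInn_eq_one] at h4
    have h5 := center_le h.core hL S (SetLike.coe_mem _) h4
    have h6 : b = (t : X) * ((t⁻¹ * ⟨b, hbL⟩ : L) : X) := by
      simp only [coe_mul, coe_inv]
      group
    rw [h6]
    exact mul_mem ((hTmem t).1 ht) h5
  refine ⟨b, hb𝒜, hbS, hbL, fun m hm => ?_⟩
  rw [mem_centralizer_iff] at hlc
  have h10 := hlc (a * m * a⁻¹) ((mem_normalizer_iff.1 haN m).1 hm)
  -- `b a⁻¹` centralizes `L`
  have h11 : b * m * a⁻¹ = (a * m * a⁻¹) * (b * a⁻¹) := by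
    rw [h10]; group
  calc a * m * a⁻¹ = (a * m * a⁻¹) * (b * a⁻¹) * (b * a⁻¹)⁻¹ := by group
    _ = b * m * a⁻¹ * (b * a⁻¹)⁻¹ := by rw [h11]
    _ = b * m * b⁻¹ := by group

end Inner

end Cfsg.Agent.TwoFusion.GoldInner
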