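import Cfsg.Agent.TwoFusion.GoldActFour
import Cfsg.Agent.TwoFusion.GoldTrans
import Cfsg.Agent.TwoFusion.GoldInner
import Cfsg.Agent.OddOrderLocal.FreeAction
import Cfsg.Agent.Walter.Embed

/-!
# Goldschmidt's theorem, `|A| = 4`: an active component whose simple quotient has no strongly embedded subgroup

Let `Ctx 𝒜`, `|𝒜 ∩ T| = 4`, `L` an active component such that `L/Z(L)` has no strongly embedded subgroup. Then the
subgroup generated by `𝒜` is `L`, it is simple, its Sylow 2-subgroups have order four and are not TI.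
-/

set_option autoImplicit false
set_option linter.style.haveILetI false

namespace Cfsg.Agent.TwoFusion.GoldActNoSE

open Subgroup
open Cfsg.Agent.TwoFusion.ClosedFam Cfsg.Agent.TwoFusion.Gold Cfsg.Agent.TwoFusion.GoldSetup
open Cfsg.Agent.TwoFusion.ClosedLocal

universe u

/-- A nonabelian simple group with abelian TI Sylow 2-subgroups has a strongly embedded subgroup. -/
theorem exists_se_of_ti {L : Type*} [Group L] [Finite L] (hsimple : IsSimpleGroup L)
    (hnonab : ∃ a b : L, a * b ≠ b * a) (P : Sylow 2 L) (heven : Even (Nat.card L))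
    (hP : ∀ x ∈ (P : Subgroup L), ∀ y ∈ (P : Subgroup L), x * y = y * x)
    (hti : ∀ Q R : Sylow 2 L, (Q : Subgroup L) ⊓ R ≠ ⊥ → Q = R) :
    ∃ H : Subgroup L, Cfsg.IsStronglyEmbedded H := by
  classical
  have h2 : Fact (Nat.Prime 2) := ⟨Nat.prime_two⟩
  refine ⟨normalizer ((P : Subgroup L) : Set L), Cfsg.Agent.Walter.Embed.isStronglyEmbedded_of_le P hP ?_ heven
    le_rfl ?_⟩
  · intro htop
    have hn : (P : Subgroup L).Normal := normalizer_eq_top_iff.1 htop
    rcases IsSimpleGroup.eq_bot_or_eq_top_of_normal _ hn with hb | ht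
    · have h1 : ¬ 2 ∣ (P : Subgroup L).index := P.not_dvd_index
      rw [hb, index_bot] at h1
      exact h1 (even_iff_two_dvd.1 heven)
    · obtain ⟨a, b, hab⟩ := hnonab
      exact hab (hP a (by rw [ht]; exact mem_top a) b (by rw [ht]; exact mem_top b))
  · intro s hs hs2 c hc
    have hcs : s * c = c * s := (mem_centralizer_iff.1 hc) s (Set.mem_singleton s)
    have h3 : P = c • P := by
      apply hti
      intro hbot
      have h4 : s ∈ (P : Subgroup L) ⊓ ((c • P : Sylow 2 L) : Subgroup L) := by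
        refine ⟨hs, ?_⟩
        refine ⟨s, hs, ?_⟩
        change c * s * c⁻¹ = s
        rw [← hcs]; group
      rw [hbot, mem_bot] at h4
      rw [h4, orderOf_one] at hs2
      omega
    exact Sylow.smul_eq_iff_mem_normalizer.1 h3.symm

section

variable {X : Type u} [Group X] [Finite X] {𝒜 : Set X} (h : Ctx 𝒜) (T : Sylow 2 X)
  (h4 : Nat.card (fam 𝒜 (T : Subgroup X)) = 4) {L : Subgroup X} (hL : Cfsg.IsComponent L) (ha : Act 𝒜 L)

include h h4 hL ha

/-- The Sylow 2-subgroups of the simple quotient have order four. -/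
theorem card_sylow_quot (hno : ¬ BenPack (↥L ⧸ center ↥L))
    (T' : Sylow 2 (↥L ⧸ center ↥L)) :
    (T' : Subgroup (↥L ⧸ center ↥L)) = fam (GoldActFour.famQ 𝒜 L) (T' : Subgroup (↥L ⧸ center ↥L)) ∧
      Nat.card (T' : Subgroup (↥L ⧸ center ↥L)) = 4 := by
  classical
  have h2 : Fact (Nat.Prime 2) := ⟨Nat.prime_two⟩
  have hB := GoldActFour.isElemFam_famQ h.fam L
  have hT : TCon (↥L ⧸ center ↥L) := h.T L hL _ hB (GoldActFour.exists_ne_one L ha)
  obtain ⟨b, hb, hb1⟩ := GoldActFour.exists_ne_one L ha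
  have hel : ∀ S : Sylow 2 (↥L ⧸ center ↥L), ∀ s ∈ S, s * s = 1 := by
    rcases hT.alt with hel | hben
    · exact hel
    · exact absurd hben hno
  have hle : (T' : Subgroup (↥L ⧸ center ↥L)) ≤ fam (GoldActFour.famQ 𝒜 L) (T' : Subgroup (↥L ⧸ center ↥L)) := by
    intro x hx
    rw [hB.toIsClosedFam.mem_fam_iff T'.2]
    refine ⟨?_, hx⟩
    by_cases hx1 : x = 1
    · rw [hx1]; exact hB.one_mem
    · have ox : orderOf x = 2 := orderOf_eq_prime (by rw [pow_two]; exact hel T' x hx) hx1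
      obtain ⟨g, hg⟩ := hT.conj b x (hB.orderOf_eq hb hb1) ox
      rw [← hg]
      exact hB.conj_mem b hb g
  have heq := le_antisymm hle (fam_le _ _)
  refine ⟨heq, ?_⟩
  have h5 := GoldActFour.card_famQ h.fam T h4.le hL ha T'
  rw [← heq] at h5
  exact h5

/-- Every element of `T ∩ L` is the product of an element of the family in `T` and a central element. -/
theorem exists_mul_center (hno : ¬ BenPack (↥L ⧸ center ↥L)) {p : L}
    (hp : (p : X) ∈ T) : ∃ l : L, (l : X) ∈ fam 𝒜 (T : Subgroup X) ∧ l⁻¹ * p ∈ center ↥L := by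
  obtain ⟨T', hT'⟩ := GoldActFour.exists_sylow_quot T hL
  have h1 := (card_sylow_quot h T h4 hL ha hno T').1
  have h2 : QuotientGroup.mk' (center ↥L) p ∈ (T' : Subgroup (↥L ⧸ center ↥L)) := by
    rw [hT']
    exact ⟨p, mem_subgroupOf.2 hp, rfl⟩
  rw [h1] at h2
  obtain ⟨l, hl, hlp⟩ := GoldActFour.exists_of_mem_fam h.fam T hL hT' h2
  refine ⟨l, hl, ?_⟩
  rw [← QuotientGroup.ker_mk' (center ↥L), MonoidHom.mem_ker, map_mul, map_inv, hlp]
  group

/-- The centre of the component is trivial. -/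
theorem center_eq_bot (hno : ¬ BenPack (↥L ⧸ center ↥L)) :
    center ↥L = ⊥ := by
  classical
  have h2 : Fact (Nat.Prime 2) := ⟨Nat.prime_two⟩
  obtain ⟨P, hP⟩ := Cfsg.Agent.TwoFusion.Gold.exists_sylow_subgroupOf T hL.1
  rw [eq_bot_iff]
  intro z hz
  rw [mem_bot]
  have hmem : ∀ x : L, x ∈ (P : Subgroup L) ↔ (x : X) ∈ T := by
    intro x; rw [hP]; exact mem_subgroupOf
  have hPc : IsMulCommutative (P : Subgroup L) := by
    refine ⟨⟨fun a b => Subtype.ext ?_⟩⟩
    obtain ⟨l, hl, hlz⟩ := exists_mul_center h T h4 hL ha hno ((hmem a).1 a.2)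
    obtain ⟨m, hm, hmz⟩ := exists_mul_center h T h4 hL ha hno ((hmem b).1 b.2)
    have hlm : l * m = m * l := by
      apply Subtype.ext
      have h5 := (h.fam.toIsClosedFam.mem_fam_iff T.2).1 hl
      have h6 := (h.fam.toIsClosedFam.mem_fam_iff T.2).1 hm
      exact h.fam.comm T.2 h5.1 h5.2 h6.1 h6.2
    set u := l⁻¹ * (a : L) with hu
    set v := m⁻¹ * (b : L) with hv
    have ea : (a : L) = l * u := by rw [hu]; group
    have eb : (b : L) = m * v := by rw [hv]; group
    have c1 := mem_center_iff.1 hlz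
    have c2 := mem_center_iff.1 hmz
    change (a : L) * (b : L) = (b : L) * (a : L)
    rw [ea, eb]
    calc l * u * (m * v) = l * (u * m) * v := by group
      _ = l * (m * u) * v := by rw [c1 m]
      _ = (l * m) * (u * v) := by group
      _ = (m * l) * (v * u) := by rw [hlm, c1 v]
      _ = m * (l * v) * u := by group
      _ = m * (v * l) * u := by rw [c2 l]
      _ = m * v * (l * u) := by group
  have hzT : (z : X) ∈ (T : Subgroup X) := by
    refine GoldInner.center_le h.core hL T z.2 ?_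
    rw [mem_centralizer_iff]
    intro y hy
    exact congrArg Subtype.val (mem_center_iff.1 hz ⟨y, hy⟩)
  have hperf : commutator ↥L = ⊤ := hL.2.1.commutator_eq_top
  exact Cfsg.Agent.OddOrderLocal.FreeAction.eq_one_of_mem_sylow_center_commutator P hPc ((hmem z).2 hzT) hz
    (by rw [hperf]; exact mem_top z)

theorem fam_top_eq : fam 𝒜 (⊤ : Subgroup X) = L := by
  apply le_antisymm
  · rw [fam_le_iff]
    intro x hx _
    exact GoldActFour.mem_of_mem h.fam T h4.le hL ha hx
  · exact (GoldLayer.le_actLayer hL ha).trans (GoldLayer.actLayer_le_fam h.fam)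

/-- The component is simple. -/
theorem isSimpleGroup (hno : ¬ BenPack (↥L ⧸ center ↥L)) :
    IsSimpleGroup ↥L := by
  have hZ := center_eq_bot h T h4 hL ha hno
  have hs : IsSimpleGroup (↥L ⧸ center ↥L) := hL.2.2
  let e : (↥L ⧸ center ↥L) ≃* ↥L :=
    (QuotientGroup.quotientMulEquivOfEq hZ).trans QuotientGroup.quotientBot
  exact e.isSimpleGroup_congr.1 hs

/-- The Sylow 2-subgroups of the component have order four. -/
theorem card_sylow (hno : ¬ BenPack (↥L ⧸ center ↥L)) (Q : Sylow 2 ↥L) :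
    Nat.card (Q : Subgroup ↥L) = 4 := by
  have h2 : Fact (Nat.Prime 2) := ⟨Nat.prime_two⟩
  have hZ := center_eq_bot h T h4 hL ha hno
  let e : (↥L ⧸ center ↥L) ≃* ↥L :=
    (QuotientGroup.quotientMulEquivOfEq hZ).trans QuotientGroup.quotientBot
  obtain ⟨T'⟩ : Nonempty (Sylow 2 (↥L ⧸ center ↥L)) := inferInstance
  have h5 := (card_sylow_quot h T h4 hL ha hno T').2
  have h6 := T'.card_eq_multiplicity
  have h7 := Q.card_eq_multiplicity
  rw [h5] at h6
  change Nat.card Q = 4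
  rw [h7, h6, Nat.card_congr e.toEquiv]

/-- The Sylow 2-subgroups of the component are not TI. -/
theorem exists_not_ti (hse : ¬ ∃ H : Subgroup (↥L ⧸ center ↥L), Cfsg.IsStronglyEmbedded H) :
    ∃ Q R : Sylow 2 ↥L, Q ≠ R ∧ (Q : Subgroup ↥L) ⊓ R ≠ ⊥ := by
  have h2 : Fact (Nat.Prime 2) := ⟨Nat.prime_two⟩
  have hno : ¬ BenPack (↥L ⧸ center ↥L) := fun hb => hse hb.se
  by_contra hcon
  push Not at hcon
  apply hse
  have hZ := center_eq_bot h T h4 hL ha hno
  let e : (↥L ⧸ center ↥L) ≃* ↥L :=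
    (QuotientGroup.quotientMulEquivOfEq hZ).trans QuotientGroup.quotientBot
  obtain ⟨P⟩ : Nonempty (Sylow 2 ↥L) := inferInstance
  have hc := card_sylow h T h4 hL ha hno P
  have hcomm : IsMulCommutative (P : Subgroup ↥L) :=
    IsPGroup.isMulCommutative_of_card_eq_prime_sq (p := 2) (by rw [hc]; norm_num)
  have hs := isSimpleGroup h T h4 hL ha hno
  obtain ⟨x, -, hxL, y, hyL, hxy⟩ := ha
  obtain ⟨H, hH⟩ := exists_se_of_ti hs
    ⟨⟨x, hxL⟩, ⟨y, hyL⟩, fun hh => hxy (congrArg Subtype.val hh)⟩ P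
    (by
      rw [even_iff_two_dvd]
      exact (Dvd.intro 2 (by norm_num : 2 * 2 = 4)).trans (hc ▸ card_subgroup_dvd_card _))
    (fun x hx y hy => congrArg Subtype.val (hcomm.is_comm.comm ⟨x, hx⟩ ⟨y, hy⟩))
    (fun Q R hQR => by
      by_contra hne
      exact hQR (hcon Q R hne))
  exact ⟨_, GoldTrans.isStronglyEmbedded_map e.symm hH⟩

end

/-- A component which is not of type `BenPack`: the family generates it, it is simple, with Sylow 2-subgroups of
order four. -/
theorem of_not_benPack {X : Type u} [Group X] [Finite X] {𝒜 : Set X} (h : Ctx 𝒜) (T : Sylow 2 X)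
    (h4 : Nat.card (fam 𝒜 (T : Subgroup X)) = 4) {L : Subgroup X} (hL : Cfsg.IsComponent L) (ha : Act 𝒜 L)
    (hno : ¬ BenPack (↥L ⧸ center ↥L)) :
    fam 𝒜 (⊤ : Subgroup X) = L ∧ IsSimpleGroup ↥L ∧ ∀ Q : Sylow 2 ↥L, Nat.card Q = 4 :=
  ⟨fam_top_eq h T h4 hL ha, isSimpleGroup h T h4 hL ha hno, fun Q => card_sylow h T h4 hL ha hno Q⟩

/-- A component without strongly embedded subgroup modulo its centre. -/
theorem of_no_se {X : Type u} [Group X] [Finite X] {𝒜 : Set X} (h : Ctx 𝒜) (T : Sylow 2 X)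
    (h4 : Nat.card (fam 𝒜 (T : Subgroup X)) = 4) {L : Subgroup X} (hL : Cfsg.IsComponent L) (ha : Act 𝒜 L)
    (hse : ¬ ∃ H : Subgroup (↥L ⧸ center ↥L), Cfsg.IsStronglyEmbedded H) :
    IsSimpleGroup ↥(fam 𝒜 (⊤ : Subgroup X)) ∧
      (∀ Q : Sylow 2 ↥(fam 𝒜 (⊤ : Subgroup X)), Nat.card Q = 4) ∧
      ∃ Q R : Sylow 2 ↥(fam 𝒜 (⊤ : Subgroup X)), Q ≠ R ∧ (Q : Subgroup ↥(fam 𝒜 (⊤ : Subgroup X))) ⊓ R ≠ ⊥ := by
  have hno : ¬ BenPack (↥L ⧸ center ↥L) := fun hb => hse hb.se
  rw [fam_top_eq h T h4 hL ha]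
  exact ⟨isSimpleGroup h T h4 hL ha hno, fun Q => card_sylow h T h4 hL ha hno Q, exists_not_ti h T h4 hL ha hse⟩

end Cfsg.Agent.TwoFusion.GoldActNoSE
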