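import Mathlib
import Cfsg.Agent.SuzukiRankOne.PSUModel
import Cfsg.Agent.SuzukiRankOne.Reduction

/-!
# A torus element of `PSU₃(2^n)`

`TorusElt L S`: an element `y` of odd order normalising `S`, centralising the involutions of `S`
and only them. It exists for all Sylow 2-subgroups of `PSU₃(2^n)`, `n ≥ 2` (`of_psu`): take the
image of `diag(ζ, ζ⁻², ζ)`, `ζ` of order `2^n + 1`.
-/

set_option autoImplicit false

namespace Cfsg.Agent.TwoFusion.GoldBenPSU

open Matrix Cfsg.Agent.LieRecognition Cfsg.Agent.LieRecognition.HermHeis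
  Cfsg.Agent.LieRecognition.PSUThreeSylow Cfsg.Agent.LieRecognition.RankOneAbstract
  Cfsg.Agent.SuzukiRankOne.PSUModel

/-- A torus element centralising exactly the involutions of `S`. -/
def TorusElt {L : Type*} [Group L] (S : Subgroup L) : Prop :=
  ∃ y : L, Odd (orderOf y) ∧ y ∈ Subgroup.normalizer (S : Set L) ∧
    (∀ s ∈ S, s * s = 1 → s * y = y * s) ∧ ∀ s ∈ S, s * y = y * s → s * s = 1

theorem TorusElt.map {L L' : Type*} [Group L] [Group L'] {S : Subgroup L} (h : TorusElt S)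
    (e : L ≃* L') : TorusElt (S.map e.toMonoidHom) := by
  obtain ⟨y, h1, h2, h3, h4⟩ := h
  refine ⟨e y, ?_, ?_, ?_, ?_⟩
  · rwa [MulEquiv.orderOf_eq]
  · rw [Subgroup.mem_normalizer_iff]
    intro z
    obtain ⟨z, rfl⟩ := e.surjective z
    have h5 := Subgroup.mem_normalizer_iff.mp h2 z
    have h6 : ∀ w : L, e w ∈ S.map e.toMonoidHom ↔ w ∈ S := by
      intro w
      constructor
      · rintro ⟨v, hv, hvw⟩
        have : v = w := e.injective hvw
        rw [← this]; exact hv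
      · intro hw
        exact ⟨w, hw, rfl⟩
    have h7 : e y * e z * (e y)⁻¹ = e (y * z * y⁻¹) := by simp
    constructor
    · intro hz
      rw [h7, h6]
      exact h5.mp ((h6 z).mp hz)
    · intro hz
      rw [h7, h6] at hz
      exact (h6 z).mpr (h5.mpr hz)
  · rintro _ ⟨s, hs, rfl⟩ hss
    have h5 : e (s * s) = e 1 := by rw [map_mul, map_one]; exact hss
    have h6 := h3 s hs (e.injective h5)
    show e s * e y = e y * e s
    rw [← map_mul, h6, map_mul]
  · rintro _ ⟨s, hs, rfl⟩ hss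
    have h5 : e (s * y) = e (y * s) := by rw [map_mul, map_mul]; exact hss
    have h6 := h4 s hs (e.injective h5)
    show e s * e s = 1
    rw [← map_mul, h6, map_one]

section Model

variable {F : Type*} [Field F] [CharP F 2] {σ : F →+* F} [hσ : Fact (∀ x, σ (σ x) = x)]

/-- The matrix `diag(u, u⁻², u)`. -/
def dmat (u : Fˣ) : Matrix (Fin 3) (Fin 3) F :=
  !![(u : F), 0, 0; 0, ((u⁻¹ * u⁻¹ : Fˣ) : F), 0; 0, 0, (u : F)]

omit [CharP F 2] in
theorem det_dmat (u : Fˣ) : (dmat u).det = 1 := by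
  rw [dmat, Matrix.det_fin_three]
  simp

/-- The element `diag(u, u⁻², u)` of `SUJ σ`. -/
def del (σ : F →+* F) (u : Fˣ) (hu : (u : F) * σ u = 1) : SUJ σ :=
  ⟨⟨dmat u, det_dmat u⟩, by
    have h2 : σ (u : F) = ((u⁻¹ : Fˣ) : F) := by
      rw [← Units.mul_right_inj u, hu, Units.mul_inv]
    have h3 : σ ((u⁻¹ : Fˣ) : F) = (u : F) := by
      have h4 : σ (u : F) * σ ((u⁻¹ : Fˣ) : F) = 1 := by
        rw [← map_mul, Units.mul_inv, map_one]
      have h5 : (u : F) * (σ (u : F) * σ ((u⁻¹ : Fˣ) : F)) = (u : F) := by rw [h4, mul_one]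
      rwa [← mul_assoc, hu, one_mul] at h5
    change (dmat u)ᵀ * Jm F * (dmat u).map σ = Jm F
    have h6 : ((u⁻¹ : Fˣ) : F) * ((u⁻¹ : Fˣ) : F) * ((u : F) * (u : F)) = 1 := by
      have : ((u⁻¹ * u⁻¹ * (u * u) : Fˣ) : F) = 1 := by
        rw [show u⁻¹ * u⁻¹ * (u * u) = 1 by group, Units.val_one]
      simpa only [Units.val_mul] using this
    ext i j
    fin_cases i <;> fin_cases j <;>
      simp [dmat, Jm, Matrix.mul_apply, Fin.sum_univ_three, -Units.val_inv_eq_inv_val, h2, h3]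
    exact h6⟩

theorem del_mem_borel {u : Fˣ} (hu : (u : F) * σ u = 1) : del σ u hu ∈ borel σ := by
  rw [mem_borel]
  constructor <;> simp [del, dmat]

theorem del_mem_torus {u : Fˣ} (hu : (u : F) * σ u = 1) : del σ u hu ∈ torus σ := by
  rw [mem_torus]
  refine ⟨del_mem_borel hu, ?_⟩
  rw [wel_inv, mem_borel, coe_mul_SUJ, coe_mul_SUJ, wel_val]
  rw [(mul_Jm_apply _ 1).1, (Jm_mul_apply _ 2).2.1, (mul_Jm_apply _ 2).1, (Jm_mul_apply _ 2).2.2]
  constructor <;> simp [del, dmat]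

/-- The action of `diag(u, u⁻², u)` on `Heis σ`. -/
def act (u : Fˣ) (hu : (u : F) * σ u = 1) (x : Heis σ) : Heis σ :=
  ⟨(u : F) ^ 3 * x.a, x.b, by
    rw [x.h, map_mul, map_pow]
    calc x.a * σ x.a = ((u : F) * σ u) ^ 3 * (x.a * σ x.a) := by rw [hu, one_pow, one_mul]
      _ = _ := by ring⟩

theorem del_mul_emb {u : Fˣ} (hu : (u : F) * σ u = 1) (x : Heis σ) :
    del σ u hu * emb σ x = emb σ (act u hu x) * del σ u hu := by
  have h2 : σ (u : F) = ((u⁻¹ : Fˣ) : F) := by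
    rw [← Units.mul_right_inj u, hu, Units.mul_inv]
  have h3 : (u : F) * ((u⁻¹ : Fˣ) : F) = 1 := Units.mul_inv u
  apply Subtype.ext
  apply Subtype.ext
  rw [coe_mul_SUJ, coe_mul_SUJ, emb_val, emb_val]
  show dmat u * umat x = umat (act u hu x) * dmat u
  ext i j
  fin_cases i <;> fin_cases j <;>
    simp [dmat, umat, act, Matrix.mul_apply, Fin.sum_univ_three, -Units.val_inv_eq_inv_val, h2]
  · linear_combination (-((u : F) * x.a) * ((u : F) * ((u⁻¹ : Fˣ) : F) + 1)) * h3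
  · ring
  · linear_combination (-(((u⁻¹ : Fˣ) : F) ^ 2 * σ x.a)) * h3

end Model

section PSU

variable {F : Type*} [Field F]

/-- An element `u` with `u ^ (q + 1) = 1` and `u ^ 3 ≠ 1`. -/
theorem exists_unit [Finite F] {q : ℕ} (hq : 3 < q) (hF : Nat.card F = q ^ 2) :
    ∃ u : Fˣ, u ^ (q + 1) = 1 ∧ u ^ 3 ≠ 1 := by
  obtain ⟨g, hg⟩ := IsCyclic.exists_generator (α := Fˣ)
  have hcard : Nat.card Fˣ = (q - 1) * (q + 1) := by
    rw [Nat.card_units, hF, sq]
    obtain ⟨m, hm⟩ : ∃ m, q = m + 1 := ⟨q - 1, by omega⟩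
    rw [hm]
    simp only [Nat.add_sub_cancel]
    ring_nf
    omega
  have hord : orderOf g = (q - 1) * (q + 1) := by
    rw [← hcard]
    exact orderOf_eq_card_of_forall_mem_zpowers hg
  refine ⟨g ^ (q - 1), ?_, ?_⟩
  · rw [← pow_mul, ← hord, pow_orderOf_eq_one]
  · rw [← pow_mul]
    intro h
    have h1 := orderOf_dvd_of_pow_eq_one h
    rw [hord] at h1
    have h2 := Nat.dvd_of_mul_dvd_mul_left (by omega) h1
    have h3 := Nat.le_of_dvd (by norm_num) h2
    omega

/-- The torus element for one Sylow 2-subgroup of `PSU₃(2^n)`. -/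
theorem exists_torusElt [Finite F] {n : ℕ} (hn : 2 ≤ n) (hF : Nat.card F = (2 ^ n) ^ 2) :
    ∃ S : Subgroup (Cfsg.PSU 3 F (2 ^ n)), IsPGroup 2 S ∧ Odd S.index ∧ TorusElt S := by
  obtain ⟨hch, σ, hσ, hs, -⟩ := exists_heis_equiv F (by omega : 1 ≤ n) hF
  have hn1 : 1 ≤ n := by omega
  have hq : 1 < 2 ^ n := Nat.one_lt_two_pow (by omega)
  have hq4 : 3 < 2 ^ n := by
    calc 3 < 2 ^ 2 := by norm_num
      _ ≤ 2 ^ n := Nat.pow_le_pow_right (by norm_num) hn
  obtain ⟨u, hu1, hu3⟩ := exists_unit hq4 hF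
  have hu : (u : F) * σ u = 1 := by
    rw [hs, ← pow_succ', ← Units.val_pow_eq_pow_val, hu1, Units.val_one]
  obtain ⟨x₀, hx₀⟩ := HermHeis.exists_heis_a (σ := σ) hq hs hF 1
  have hx : ∃ x : Heis σ, x.a ≠ 0 := ⟨x₀, by rw [hx₀]; exact one_ne_zero⟩
  obtain ⟨c, hc⟩ := HermHeis.exists_not_fixed (σ := σ) hq hs hF
  obtain ⟨T, T', hTT', hT⟩ := exists_T hc
  let e : SUJ σ ≃* Cfsg.SU 3 F (2 ^ n) :=
    ((conjT hTT').subgroupMap (SUJ σ)).trans (MulEquiv.subgroupCongr (SU_eq_map hs hTT' hT))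
  let π : SUJ σ →* Cfsg.PSU 3 F (2 ^ n) :=
    (QuotientGroup.mk' (Subgroup.center (Cfsg.SU 3 F (2 ^ n)))).comp e.toMonoidHom
  have hπ : Function.Surjective π := (QuotientGroup.mk'_surjective _).comp e.surjective
  have hker : ∀ g, π g = 1 ↔ g ∈ Subgroup.center (SUJ σ) := by
    intro g
    have h1 : π g = 1 ↔ e g ∈ Subgroup.center (Cfsg.SU 3 F (2 ^ n)) := by
      rw [← QuotientGroup.eq_one_iff]
      exact Iff.rfl
    rw [h1, Subgroup.mem_center_iff, Subgroup.mem_center_iff]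
    constructor
    · intro h k
      apply e.injective
      rw [map_mul, map_mul]
      exact h (e k)
    · intro h k
      obtain ⟨k, rfl⟩ := e.surjective k
      rw [← map_mul, ← map_mul, h k]
  have hkB : π.ker ≤ borel σ := by
    intro g hg
    exact center_le_borel hx ((hker g).mp hg)
  have hD := data_map data_SUJ π hπ hkB
  have hinj : ∀ x y : Heis σ, π (emb σ x) = π (emb σ y) → x = y := by
    intro x y h
    have h1 : π (emb σ (x * y⁻¹)) = 1 := by
      rw [map_mul, map_mul, map_inv, map_inv, h, mul_inv_cancel]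
    exact mul_inv_eq_one.mp (eq_one_of_mem_center ((hker _).mp h1))
  have hcard : Nat.card ((emb σ).range.map π : Subgroup (Cfsg.PSU 3 F (2 ^ n))) = 2 ^ (n * 3) := by
    rw [MonoidHom.map_range, ← Nat.card_congr (MonoidHom.ofInjective
      (f := π.comp (emb σ)) (fun x y h => hinj x y h)).toEquiv, HermHeis.card_heis hq hs hF,
      ← pow_mul]
  have hset : Cfsg.IsRankOneSetup (Cfsg.PSU 3 F (2 ^ n))
      (Cfsg.PSU 3 F (2 ^ n) ⧸ (borel σ).map π) (QuotientGroup.mk 1) (π (wel σ))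
      ((emb σ).range.map π) := by
    refine setup_of_data hD ?_ ?_ (T := (torus σ).map π) ?_ ?_
    · rw [← map_mul, wel_mul_wel, map_one]
    · rw [hcard]
      exact (Nat.even_pow' (by omega)).mpr even_two
    · intro g'
      obtain ⟨g, rfl⟩ := hπ g'
      constructor
      · rintro ⟨k, hk, hkg⟩
        obtain ⟨h1, h2⟩ := mem_torus.mp hk
        rw [← hkg]
        exact ⟨⟨k, h1, rfl⟩, ⟨_, h2, by simp⟩⟩
      · rintro ⟨h1, h2⟩
        refine ⟨g, mem_torus.mpr ⟨mem_of_map_mem π hkB h1, mem_of_map_mem π hkB ?_⟩, rfl⟩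
        simpa using h2
    · have h1 : Nat.card ((torus σ).map π) ∣ Nat.card (torus σ) := Subgroup.card_map_dvd _ _
      have h2 := h1.trans (card_torus_dvd (σ := σ))
      refine Odd.of_dvd_nat ?_ h2
      rw [Nat.card_units, hF]
      refine Nat.Even.sub_odd ?_ ?_ odd_one
      · exact Nat.one_le_pow _ _ (by omega)
      · exact (Nat.even_pow' (by norm_num)).mpr ((Nat.even_pow' (by omega)).mpr even_two)
  have hdel : ∀ x : Heis σ, π (del σ u hu) * π (emb σ x) =
      π (emb σ (act u hu x)) * π (del σ u hu) := by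
    intro x
    rw [← map_mul, del_mul_emb hu, map_mul]
  refine ⟨(emb σ).range.map π, IsPGroup.of_card hcard,
    Cfsg.Agent.SuzukiRankOne.Reduction.odd_index_of_le hset le_rfl, π (del σ u hu), ?_, ?_, ?_, ?_⟩
  · have h1 : orderOf (del σ u hu) ∣ Nat.card Fˣ :=
      ((torus σ).orderOf_dvd_natCard (del_mem_torus hu)).trans card_torus_dvd
    have h2 : orderOf (π (del σ u hu)) ∣ Nat.card Fˣ := (orderOf_map_dvd π _).trans h1
    refine Odd.of_dvd_nat ?_ h2
    rw [Nat.card_units, hF]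
    refine Nat.Even.sub_odd ?_ ?_ odd_one
    · exact Nat.one_le_pow _ _ (by omega)
    · exact (Nat.even_pow' (by norm_num)).mpr ((Nat.even_pow' (by omega)).mpr even_two)
  · have h1 : ∀ g ∈ borel σ, ∀ z ∈ (emb σ).range.map π,
        π g * z * (π g)⁻¹ ∈ (emb σ).range.map π := by
      rintro g hg _ ⟨x, hx, rfl⟩
      exact ⟨g * x * g⁻¹, data_SUJ.norm g hg x hx, by simp⟩
    rw [Subgroup.mem_normalizer_iff]
    intro z
    constructor
    · exact fun hz => h1 _ (del_mem_borel hu) z hz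
    · intro hz
      have := h1 _ ((borel σ).inv_mem (del_mem_borel hu)) _ hz
      rw [map_inv] at this
      simpa [mul_assoc] using this
  · rintro _ ⟨_, ⟨x, rfl⟩, rfl⟩ hs2
    have h1 : x * x = 1 := by
      apply hinj
      rw [map_mul, map_mul, hs2, map_one, map_one]
    have h2 : act u hu x = x := by
      have h3 := (mul_self_eq_one_iff x).mp h1
      ext
      · show (u : F) ^ 3 * x.a = x.a
        rw [h3, mul_zero]
      · rfl
    have h3 := hdel x
    rw [h2] at h3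
    exact h3.symm
  · rintro _ ⟨_, ⟨x, rfl⟩, rfl⟩ hs2
    have h1 : act u hu x = x := by
      apply hinj
      have h2 := hdel x
      rw [← hs2] at h2
      exact (mul_right_cancel h2).symm
    have h2 : (u : F) ^ 3 * x.a = x.a := congrArg Heis.a h1
    have h3 : x.a = 0 := by
      by_contra hne
      have h4 : (u : F) ^ 3 = 1 := mul_right_cancel₀ hne (by rw [h2, one_mul])
      exact hu3 (Units.ext (by rw [Units.val_pow_eq_pow_val, h4, Units.val_one]))
    have h4 : x * x = 1 := (mul_self_eq_one_iff x).mpr h3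
    rw [← map_mul, ← map_mul, h4, map_one, map_one]

/-- **The torus element for the Sylow 2-subgroups of groups isomorphic to `PSU₃(2^n)`.** -/
theorem of_psu [Finite F] {n : ℕ} (hn : 2 ≤ n) (hF : Nat.card F = (2 ^ n) ^ 2) {G : Type*} [Group G]
    [Finite G] (e : Cfsg.PSU 3 F (2 ^ n) ≃* G) (S : Sylow 2 G) : TorusElt (S : Subgroup G) := by
  have : Fact (Nat.Prime 2) := ⟨Nat.prime_two⟩
  obtain ⟨S₀, h1, h2, h3⟩ := exists_torusElt hn hF
  have h1' : IsPGroup 2 (S₀.map e.toMonoidHom) := h1.map _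
  have h2' : ¬ 2 ∣ (S₀.map e.toMonoidHom).index := by
    have h4 : (S₀.map e.toMonoidHom).index = S₀.index := Subgroup.index_map_equiv S₀ e
    rw [h4]
    exact fun h => Nat.not_even_iff_odd.mpr h2 (even_iff_two_dvd.mpr h)
  obtain ⟨g, hg⟩ := MulAction.exists_smul_eq G (h1'.toSylow h2') S
  have h4 := (h3.map e).map (MulAut.conj g)
  have h5 : (S : Subgroup G) = (S₀.map e.toMonoidHom).map (MulAut.conj g).toMonoidHom := by
    rw [← hg]; rfl
  rw [h5]
  exact h4

end PSU

end Cfsg.Agent.TwoFusion.GoldBenPSU
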