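import Mathlib
import Cfsg.Agent.TwoFusion.GoldDefs
import Cfsg.Agent.TwoFusion.GoldBenPSU
import Cfsg.Agent.SuzukiRankOne.Assembly
import Cfsg.Agent.StrongEmb.Split
import Cfsg.Agent.StrongEmb.Simple
import Cfsg.Agent.S1121

/-!
# Goldschmidt's theorem: simple groups with a strongly embedded subgroup

`tcon_of_setup`: `TCon G` for a simple group with a rank-one set-up. `tcon_of_bender`: `TCon G` for a
nonabelian simple group with a strongly embedded subgroup, from Bender's theorem for `G`.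
-/

set_option autoImplicit false

namespace Cfsg.Agent.TwoFusion.GoldBen

open MulAction Cfsg Cfsg.Agent.LieRecognition Cfsg.Agent.SuzukiRankOne
open Cfsg.Agent.TwoFusion.Gold Cfsg.Agent.TwoFusion.GoldBenPSU

section Setup

variable {G Ω : Type*} [Group G] [MulAction G Ω] {a : Ω} {t : G} {Q : Subgroup G}

/-- Conjugate set-ups. -/
theorem setup_conj (hS : IsRankOneSetup G Ω a t Q) (g : G) :
    IsRankOneSetup G Ω (g • a) (g * t * g⁻¹) (Q.map (MulAut.conj g).toMonoidHom) := by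
  have hinj : Function.Injective (MulAut.conj g).toMonoidHom := (MulAut.conj g).injective
  have h1 : stabilizer G (g • a) = (stabilizer G a).map (MulAut.conj g).toMonoidHom :=
    stabilizer_smul_eq_stabilizer_map_conj g a
  have h2 : stabilizer G ((g * t * g⁻¹) • g • a) =
      (stabilizer G (t • a)).map (MulAut.conj g).toMonoidHom := by
    rw [← stabilizer_smul_eq_stabilizer_map_conj g (t • a)]
    congr 1
    rw [mul_smul, mul_smul, inv_smul_smul]
  refine ⟨hS.two_transitive, ?_, ?_, ?_, ?_, ?_, ?_, ?_, ?_, ?_⟩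
  · have : g * t * g⁻¹ * (g * t * g⁻¹) = g * (t * t) * g⁻¹ := by group
    rw [this, hS.mul_self]; group
  · intro h
    apply hS.ne_one
    have h3 := congrArg (fun z => g⁻¹ * z * g) h
    simpa [mul_assoc] using h3
  · intro h
    apply hS.not_mem
    rw [mem_stabilizer_iff, mul_smul, mul_smul, inv_smul_smul] at h
    exact smul_left_cancel g h
  · rw [h1]; exact Subgroup.map_mono hS.le
  · rw [h1]
    rintro _ ⟨h, hh, rfl⟩ _ ⟨x, hx, rfl⟩
    exact ⟨h * x * h⁻¹, hS.conj_mem h hh x hx, by simp [mul_assoc]⟩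
  · rw [h2, ← Subgroup.map_inf_eq _ _ _ hinj, hS.inf_eq_bot, Subgroup.map_bot]
  · rw [h1, h2, ← Subgroup.map_inf_eq _ _ _ hinj, ← Subgroup.map_sup, hS.sup_eq]
  · rw [Subgroup.card_map_of_injective hinj]; exact hS.even_card
  · rw [h1, h2, ← Subgroup.map_inf_eq _ _ _ hinj, Subgroup.card_map_of_injective hinj]
    exact hS.odd_card

/-- Every Sylow 2-subgroup is the `Q` of a set-up if `Q` is a 2-group. -/
theorem exists_setup [Finite G] (hS : IsRankOneSetup G Ω a t Q) (hQ : IsPGroup 2 Q)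
    (S : Sylow 2 G) : ∃ (b : Ω) (u : G), IsRankOneSetup G Ω b u (S : Subgroup G) := by
  have : Fact (Nat.Prime 2) := ⟨Nat.prime_two⟩
  have hidx : ¬ 2 ∣ Q.index := fun h =>
    Nat.not_even_iff_odd.mpr (Reduction.odd_index_of_le hS le_rfl) (even_iff_two_dvd.mpr h)
  obtain ⟨g, hg⟩ := MulAction.exists_smul_eq G (hQ.toSylow hidx) S
  have h5 : (S : Subgroup G) = Q.map (MulAut.conj g).toMonoidHom := by
    rw [← hg]; rfl
  rw [h5]
  exact ⟨_, _, setup_conj hS g⟩

theorem normalizer_eq [Finite G] (hS : IsRankOneSetup G Ω a t Q) :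
    Subgroup.normalizer (Q : Set G) = stabilizer G a := by
  apply le_antisymm
  · intro g hg
    by_contra hne
    obtain ⟨s, hs, hs1, -⟩ := RankOneBasic.exists_involution hS
    have h1 : g⁻¹ * s * g ∈ Q := by
      have h2 := (Subgroup.mem_normalizer_iff.mp (inv_mem hg) s).mp hs
      simpa using h2
    have h2 : (g⁻¹ * s * g) • a = a := hS.le h1
    have h3 : s • g • a = g • a := by
      rw [mul_smul, mul_smul, inv_smul_eq_iff] at h2
      exact h2
    exact hs1 (RankOneBasic.eq_one_of_smul_eq hS hs hne h3)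
  · exact RankOneBasic.stabilizer_le_normalizer hS

theorem card_sylow [Finite G] {S : Sylow 2 G} (hS : IsRankOneSetup G Ω a t (S : Subgroup G)) :
    Nat.card (Sylow 2 G) = 1 + Nat.card S := by
  have : Fact (Nat.Prime 2) := ⟨Nat.prime_two⟩
  have h2 := hS.two_transitive
  have h3 : IsPretransitive G Ω := isPretransitive_of_is_two_pretransitive
  rw [Sylow.card_eq_index_normalizer S,
    show Subgroup.normalizer (S : Set G) = stabilizer G a from normalizer_eq hS,
    index_stabilizer_of_transitive, RankOneBasic.card_points hS, add_comm]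

theorem inf_eq_bot [Finite G] {S S' : Sylow 2 G} {a' : Ω} {t' : G}
    (hS : IsRankOneSetup G Ω a t (S : Subgroup G))
    (hS' : IsRankOneSetup G Ω a' t' (S' : Subgroup G)) (hne : S ≠ S') :
    (S : Subgroup G) ⊓ S' = ⊥ := by
  rw [Subgroup.eq_bot_iff_forall]
  rintro x ⟨hx, hx'⟩
  by_contra hx1
  have h1 : x • a = a := hS.le hx
  have h2 : x • a' = a' := hS'.le hx'
  have h3 : a' = a := by
    by_contra h
    exact hx1 (RankOneBasic.eq_one_of_smul_eq hS hx h h2)
  subst h3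
  apply hne
  have h4 : (S' : Subgroup G) ≤ Subgroup.normalizer (S : Set G) := by
    rw [show Subgroup.normalizer (S : Set G) = stabilizer G a' from normalizer_eq hS]
    exact hS'.le
  have h5 : IsPGroup 2 ((S : Subgroup G) ⊔ S' : Subgroup G) :=
    S.isPGroup'.to_sup_of_normal_left' S'.isPGroup' h4
  have h6 := S.is_maximal' h5 le_sup_left
  have h7 := S'.is_maximal' h5 le_sup_right
  apply Sylow.ext
  rw [← h6, h7]

/-- The elements of order at most two of `Q`. -/
theorem invo_eq [Finite G] (hS : IsRankOneSetup G Ω a t Q) :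
    invo G Q = insert 1 (involutionsIn (stabilizer G a : Set G)) := by
  ext x
  constructor
  · rintro ⟨hx, hx2⟩
    by_cases h : x = 1
    · exact Or.inl h
    · exact Or.inr ⟨hS.le hx, h, hx2⟩
  · rintro (rfl | ⟨hx, hx1, hx2⟩)
    · exact ⟨one_mem _, mul_one _⟩
    · exact ⟨RankOneBasic.mem_of_mul_self hS hx hx2, hx2⟩

theorem ncard_invo [Finite G] (hS : IsRankOneSetup G Ω a t Q) :
    (invo G Q).ncard = Nat.card (involutionsIn (stabilizer G a : Set G)) + 1 := by
  rw [invo_eq hS, Set.ncard_insert_of_notMem, Nat.card_coe_set_eq]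
  rintro ⟨-, h, -⟩
  exact h rfl

/-- `|Ω₁(Q)|² ≤ |Q|` if `Q` is not elementary. -/
theorem sq_le [Finite G] (hS : IsRankOneSetup G Ω a t Q) (hQ : IsPGroup 2 Q)
    (hcen : ∀ s ∈ involutionsIn (stabilizer G a : Set G), s ∈ Q ∧ ∀ x ∈ Q, s * x = x * s)
    (hnot : ¬ ∀ x ∈ Q, x * x = 1) : (invo G Q).ncard ^ 2 ≤ Nat.card Q := by
  classical
  have hinv : ∀ w ∈ invo G Q, ∀ x ∈ Q, w * x = x * w := by
    intro w hw x hx
    rw [invo_eq hS] at hw
    rcases hw with rfl | hw
    · rw [one_mul, mul_one]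
    · exact (hcen w hw).2 x hx
  -- an element of order four
  obtain ⟨r, hr, hr1, hr2⟩ : ∃ r ∈ Q, r * r ≠ 1 ∧ (r * r) * (r * r) = 1 := by
    push Not at hnot
    obtain ⟨x, hx, hx1⟩ := hnot
    obtain ⟨n, hn⟩ := IsPGroup.iff_orderOf.mp hQ ⟨x, hx⟩
    rw [Subgroup.orderOf_mk] at hn
    have hn2 : 2 ≤ n := by
      by_contra hlt
      apply hx1
      have h1 : x ^ 2 ^ n = 1 := by rw [← hn]; exact pow_orderOf_eq_one x
      have h2 : n = 0 ∨ n = 1 := by omega
      rcases h2 with rfl | rfl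
      · rw [pow_zero, pow_one] at h1
        rw [h1, mul_one]
      · rw [pow_one, pow_two] at h1
        exact h1
    obtain ⟨m, rfl⟩ : ∃ m, n = m + 2 := ⟨n - 2, by omega⟩
    refine ⟨x ^ 2 ^ m, pow_mem hx _, ?_, ?_⟩
    · rw [← pow_two, ← pow_mul, ← pow_succ]
      intro h
      have h1 := orderOf_dvd_of_pow_eq_one h
      rw [hn] at h1
      have h2 := Nat.pow_dvd_pow_iff_le_right (x := 2) (by norm_num) |>.mp h1
      omega
    · have h1 : x ^ 2 ^ m * x ^ 2 ^ m * (x ^ 2 ^ m * x ^ 2 ^ m) = x ^ 2 ^ (m + 2) := by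
        rw [← pow_two, ← pow_two, ← pow_mul, ← pow_mul]
        congr 1
        rw [pow_add]; ring
      rw [h1, ← hn, pow_orderOf_eq_one]
  -- square roots
  have hroot : ∀ z ∈ invo G Q, ∃ y ∈ Q, y * y = z := by
    intro z hz
    have hz' := hz
    rw [invo_eq hS] at hz'
    rcases hz' with rfl | hz'
    · exact ⟨1, one_mem _, mul_one 1⟩
    · have h1 : r * r ∈ involutionsIn (stabilizer G a : Set G) :=
        ⟨hS.le (mul_mem hr hr), hr1, hr2⟩
      obtain ⟨k, hk, hkz⟩ := (Cfsg.Agent.S1122.result hS).2 _ h1 _ hz'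
      refine ⟨k⁻¹ * r * k, ?_, ?_⟩
      · have := hS.conj_mem k⁻¹ (inv_mem hk.1.1) r hr
        rwa [inv_inv] at this
      · rw [← hkz]; group
  choose! y hyQ hy using hroot
  have hle : Nat.card (invo G Q × invo G Q) ≤ Nat.card Q := by
    refine Nat.card_le_card_of_injective
      (fun p : invo G Q × invo G Q => (⟨y p.1 * p.2, mul_mem (hyQ _ p.1.2) p.2.2.1⟩ : Q)) ?_
    have hsq : ∀ p : invo G Q × invo G Q, (y p.1 * p.2 : G) * (y p.1 * p.2) = p.1 := by
      intro p
      have h1 := hinv p.2 p.2.2 (y p.1) (hyQ _ p.1.2)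
      calc (y p.1 * p.2 : G) * (y p.1 * p.2) = y p.1 * (p.2 * y p.1) * p.2 := by group
        _ = y p.1 * (y p.1 * p.2) * p.2 := by rw [h1]
        _ = (y p.1 * y p.1) * (p.2 * p.2) := by group
        _ = p.1 := by rw [hy _ p.1.2, p.2.2.2, mul_one]
    intro p p' hpp
    have h1 : (y p.1 * p.2 : G) = y p'.1 * p'.2 := congrArg Subtype.val hpp
    have h2 : (p.1 : G) = p'.1 := by rw [← hsq p, ← hsq p', h1]
    have h3 : p.1 = p'.1 := Subtype.ext h2
    rw [h3] at h1
    exact Prod.ext h3 (Subtype.ext (mul_left_cancel h1))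
  rwa [Nat.card_prod, Nat.card_coe_set_eq, ← pow_two] at hle

/-- The two types of nonabelian `Q`. -/
theorem odd_or_psu [Finite G] [FaithfulSMul G Ω] [IsSimpleGroup G]
    (hS : IsRankOneSetup G Ω a t Q)
    (h2 : ∃ x y : G, x ≠ 1 ∧ y ≠ 1 ∧ x ≠ y ∧ x * x = 1 ∧ y * y = 1 ∧ x * y = y * x)
    (hall : ¬ ∀ x ∈ Q, x * x = 1) :
    (∃ n : ℕ, Odd n ∧ (invo G Q).ncard = 2 ^ n) ∨
      (∃ (F : Type) (_ : Field F) (_ : Fintype F) (n : ℕ), 2 ≤ n ∧
        Fintype.card F = (2 ^ n) ^ 2 ∧ Nonempty (G ≃* PSU 3 F (2 ^ n))) := by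
  obtain ⟨hcen, hclosed⟩ := S1130.result hS h2
  have hK := S1131.result hS h2
  obtain ⟨C, hC, hCc, -⟩ := id hK
  obtain ⟨⟨s, r⟩, ⟨hs, hr, hsr⟩, -⟩ := S1123.result hS
  simp only at hs hr hsr
  have hgen := Generate.closure_eq_top hS
  have hQ2 := M1.isPGroup_Q hS h2
  by_cases hrs : r = s
  · -- `r = s` : unitary groups
    right
    subst hrs
    have hinv : r⁻¹ = r := inv_eq_of_mul_eq_one_left hs.2.2
    rw [hinv] at hsr
    obtain ⟨F, iF, iFt, iFc, κ, iA, δ, T, hδ1⟩ :=
      SingerField.exists_torus hS hcen C hC hCc r hs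
    obtain ⟨hsq, -, hcard⟩ := TranslationMain.main hS h2 T (by rw [hδ1]; exact hsr)
    have hcard' := hcard.resolve_left hall
    rw [UThreeMain.card_field hS T] at hcard'
    refine UThreeMain.nonempty_mulEquiv hS h2 hcen C hC hCc r hs hsr hcard' ?_ hgen
    intro x hx
    by_cases h1 : x * x = 1
    · exact Or.inl h1
    · exact Or.inr ⟨hS.le (Q.mul_mem hx hx), h1, hsq x hx⟩
  · -- `r ≠ s` : Suzuki groups
    left
    have : Fact (Nat.Prime 2) := ⟨Nat.prime_two⟩
    have hnab : ¬ ∀ x ∈ Q, ∀ y ∈ Q, x * y = y * x := fun h =>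
      hrs (AbelianCase.r_eq_s hS h2 C hC hQ2 h s r hs hr hsr)
    let S : Sylow 2 Q := default
    have hST : (S : Subgroup Q) = ⊤ :=
      (S.is_maximal' (hQ2.of_equiv Subgroup.topEquiv.symm) le_top).symm
    have hSuz : IsSuzukiTwoGroup ↥(S : Subgroup Q) := by
      rcases S1132.result hS h2 S with h | h
      · exfalso
        apply hnab
        intro x hx y hy
        have hmem : ∀ x : Q, x ∈ (S : Subgroup Q) := fun x => by
          rw [hST]
          exact Subgroup.mem_top x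
        have h3 := h.is_comm.comm (⟨⟨x, hx⟩, hmem _⟩ : (S : Subgroup Q)) ⟨⟨y, hy⟩, hmem _⟩
        exact congrArg (fun z : (S : Subgroup Q) => ((z : Q) : G)) h3
      · exact h
    obtain ⟨h4, -, n, hn⟩ := Assembly.of_suzuki hS hcen S hST hSuz
    have hr2 : r * r = s := OrderFive.sq_eq hS hcen hclosed hs hr hsr hrs (h4 r hr)
    exact ⟨n, OrderFive.odd_n hS hcen hC hs hr hsr hr2 hn, by rw [ncard_invo hS, hn]⟩

/-- **`TCon` for simple groups with a rank-one set-up.** -/
theorem tcon_of_setup [Finite G] [FaithfulSMul G Ω] [IsSimpleGroup G]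
    (hS : IsRankOneSetup G Ω a t Q)
    (h2 : ∃ x y : G, x ≠ 1 ∧ y ≠ 1 ∧ x ≠ y ∧ x * x = 1 ∧ y * y = 1 ∧ x * y = y * x)
    (hSE : ∃ H : Subgroup G, IsStronglyEmbedded H) : TCon G := by
  have hQ2 := M1.isPGroup_Q hS h2
  have hex := exists_setup hS hQ2
  have hcen : ∀ S : Sylow 2 G, ∀ x ∈ S, x * x = 1 → ∀ s ∈ S, s * x = x * s := by
    intro S x hx hx2 s hs
    obtain ⟨b, u, hb⟩ := hex S
    by_cases hx1 : x = 1
    · rw [hx1, mul_one, one_mul]
    · exact (((S1130.result hb h2).1 x ⟨hb.le hx, hx1, hx2⟩).2 s hs).symm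
  refine ⟨hcen, ?_, ?_⟩
  · intro x y hx hy
    have h1 : ∀ z : G, orderOf z = 2 → z ≠ 1 ∧ z * z = 1 := by
      intro z hz
      refine ⟨?_, ?_⟩
      · rintro rfl
        rw [orderOf_one] at hz
        exact absurd hz (by norm_num)
      · have := pow_orderOf_eq_one z
        rwa [hz, pow_two] at this
    exact (S1121.result hS).2 x y (h1 x hx).1 (h1 x hx).2 (h1 y hy).1 (h1 y hy).2
  by_cases hall : ∀ S : Sylow 2 G, ∀ s ∈ S, s * s = 1
  · exact Or.inl hall
  right
  have hnot : ∀ S : Sylow 2 G, ¬ ∀ s ∈ (S : Subgroup G), s * s = 1 := by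
    intro S hSS
    apply hall
    intro S' s hs
    have : Fact (Nat.Prime 2) := ⟨Nat.prime_two⟩
    obtain ⟨g, hg⟩ := MulAction.exists_smul_eq G S S'
    have h5 : (S' : Subgroup G) = (S : Subgroup G).map (MulAut.conj g).toMonoidHom := by
      rw [← hg]; rfl
    have h6 : s ∈ (S : Subgroup G).map (MulAut.conj g).toMonoidHom := by rw [← h5]; exact hs
    obtain ⟨w, hw, rfl⟩ := h6
    rw [← map_mul, hSS w hw, map_one]
  refine ⟨hSE, ?_, ?_, ?_, ?_⟩
  · intro S S' hne
    obtain ⟨b, u, hb⟩ := hex S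
    obtain ⟨b', u', hb'⟩ := hex S'
    exact inf_eq_bot hb hb' hne
  · intro S
    obtain ⟨b, u, hb⟩ := hex S
    exact card_sylow hb
  · intro S
    obtain ⟨b, u, hb⟩ := hex S
    exact sq_le hb S.isPGroup' (S1130.result hb h2).1 (hnot S)
  · intro S
    obtain ⟨b, u, hb⟩ := hex S
    rcases odd_or_psu hb h2 (hnot S) with h | ⟨F, iF, iFt, n, hn, hF, ⟨e⟩⟩
    · exact Or.inl h
    · right
      exact of_psu hn (by rw [Nat.card_eq_fintype_card, hF]) e.symm S

end Setup

universe u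

/-- **`TCon` for nonabelian simple groups with a strongly embedded subgroup**, from Bender's
theorem for `G`. -/
theorem tcon_of_bender {G : Type u} [Group G] [Finite G] (hB : Cfsg.Agent.StrongEmb.Split.BenderHolds G)
    (hsimple : IsSimpleGroup G) (hnonab : ∃ a b : G, a * b ≠ b * a)
    (hSE : ∃ H : Subgroup G, Cfsg.IsStronglyEmbedded H) : TCon G := by
  obtain ⟨H, hH⟩ := id hSE
  obtain ⟨z, -, hz⟩ := Cfsg.Agent.TwoFusion.StronglyEmbeddedBasic.exists_involution hH
  obtain ⟨t, ht, ht2⟩ := Cfsg.Agent.TwoFusion.StronglyEmbeddedBasic.exists_involution_notMem hH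
  have hr := Cfsg.Agent.StrongEmb.Simple.commPair_of_simple hnonab hz
  have hcore := Cfsg.Agent.StrongEmb.Split.normalCore_eq_bot_of_simple hH.1
  obtain ⟨Q, hQ, -⟩ := hB H hH hr hcore
  have hS := Cfsg.Agent.StrongEmb.Split.setup_of_isSplit hH hQ ht ht2
  have hf := Cfsg.Agent.StrongEmb.Split.faithfulSMul_of_core hcore
  exact tcon_of_setup hS hr.exists_sq hSE

end Cfsg.Agent.TwoFusion.GoldBen
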