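import Cfsg.Agent.TwoFusion.GoldLambda
import Cfsg.Agent.TwoFusion.GoldBen

/-!
# Goldschmidt's theorem: `SEHyp` from Bender's theorem
-/

set_option autoImplicit false

namespace Cfsg.Agent.TwoFusion.GoldSEHyp

open Subgroup Cfsg Cfsg.Agent.TwoFusion.GoldLambda Cfsg.Agent.LieRecognition Cfsg.Agent.SuzukiRankOne

universe u

/-- The Sylow 2-subgroups of simple groups with a strongly embedded subgroup. -/
theorem sePack {G : Type u} [Group G] [Finite G] (hB : Cfsg.Agent.StrongEmb.Split.BenderHolds G)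
    (hsimple : IsSimpleGroup G) (hnonab : ∃ a b : G, a * b ≠ b * a)
    (hSE : ∃ H : Subgroup G, Cfsg.IsStronglyEmbedded H) : SEPack G := by
  obtain ⟨H, hH⟩ := id hSE
  obtain ⟨z, -, hz⟩ := Cfsg.Agent.TwoFusion.StronglyEmbeddedBasic.exists_involution hH
  obtain ⟨t, ht, ht2⟩ := Cfsg.Agent.TwoFusion.StronglyEmbeddedBasic.exists_involution_notMem hH
  have hr := Cfsg.Agent.StrongEmb.Simple.commPair_of_simple hnonab hz
  have hcore := Cfsg.Agent.StrongEmb.Split.normalCore_eq_bot_of_simple hH.1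
  obtain ⟨Q, hQ, -⟩ := hB H hH hr hcore
  have hS := Cfsg.Agent.StrongEmb.Split.setup_of_isSplit hH hQ ht ht2
  have hf := Cfsg.Agent.StrongEmb.Split.faithfulSMul_of_core hcore
  have hex := GoldBen.exists_setup hS (M1.isPGroup_Q hS hr.exists_sq)
  refine ⟨?_, ?_⟩
  · intro S S' hne
    obtain ⟨b, u, hb⟩ := hex S
    obtain ⟨b', u', hb'⟩ := hex S'
    exact GoldBen.inf_eq_bot hb hb' hne
  · intro S
    obtain ⟨b, u, hb⟩ := hex S
    exact GoldBen.card_sylow hb

theorem seHyp (hB : ∀ (K : Type u) [Group K] [Finite K], Cfsg.Agent.StrongEmb.Split.BenderHolds K) :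
    SEHyp.{u} := fun L _ _ h1 h2 h3 => sePack (hB L) h1 h2 h3

end Cfsg.Agent.TwoFusion.GoldSEHyp
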