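import Cfsg.Agent.TwoFusion.GoldBad
import Cfsg.Agent.TwoFusion.GoldActNoSE
import Cfsg.Agent.TwoFusion.GoldSEHyp

/-!
# Goldschmidt's theorem, `|A| = 4`: existence of bad elements, from Bender's theorem
-/

set_option autoImplicit false
set_option linter.style.haveILetI false

namespace Cfsg.Agent.TwoFusion.GoldBadEx

open Subgroup
open Cfsg.Agent.TwoFusion.ClosedFam Cfsg.Agent.TwoFusion.Gold Cfsg.Agent.TwoFusion.GoldSetup
open Cfsg.Agent.TwoFusion.GoldBad

universe u

theorem ofNoSE : OfNoSE.{u} := fun {_} _ _ {_} h T h4 {_} hL ha hn => GoldActNoSE.of_no_se h T h4 hL ha hn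

/-- Every involution coset of `A` outside `A` contains a bad element. -/
theorem exists_bad {G : Type u} [Group G] [Finite G] {𝒜 : Set G} (h : Setup 𝒜)
    (hsol : ∀ H : Subgroup G, Odd (Nat.card H) → Group.IsSolvable H) (h1174 : SE1174 G)
    (hB : ∀ (K : Type u) [Group K] [Finite K], Cfsg.Agent.StrongEmb.Split.BenderHolds K)
    (S : Sylow 2 G) (h4 : Nat.card (fam 𝒜 (S : Subgroup G)) = 4)
    {t : G} (ht : t ∈ (S : Subgroup G)) (htt : t * t = 1) (htA : t ∉ fam 𝒜 (S : Subgroup G)) :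
    ∃ a ∈ fam 𝒜 (S : Subgroup G), Bad 𝒜 (t * a) :=
  exists_bad_of h S ofNoSE h4 hsol h1174 (GoldSEHyp.seHyp hB) ht htt htA

end Cfsg.Agent.TwoFusion.GoldBadEx
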