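import Cfsg.Agent.TwoFusion.GoldInner

/-!
# The automizer of `A` in a component

For an active component `L` and `A = 𝒜 ∩ S`: there is a subgroup `J` of odd order in `N_L(A)` which is
transitive on the nontrivial elements of `A/C_A(L)`; every element of `S ∩ L` centralizes some element of
`A - C_A(L)`; and `S ∩ L` centralizes `A ∩ L` unless `|A/C_A(L)| = 2^n` with `n` odd.
-/

set_option autoImplicit false
set_option linter.style.haveILetI false

namespace Cfsg.Agent.TwoFusion.GoldInnerJ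

open Subgroup
open Cfsg.Agent.TwoFusion.ClosedFam Cfsg.Agent.TwoFusion.Gold Cfsg.Agent.TwoFusion.GoldInner

/-- A supplement of odd order to a normal subgroup of odd index. -/
theorem exists_odd_supplement {N : Type*} [Group N] [Finite N] (Q : Subgroup N) [hQn : Q.Normal]
    (hQ : Odd Q.index) : ∃ J : Subgroup N, Odd (Nat.card J) ∧ ∀ n : N, ∃ q ∈ Q, ∃ j ∈ J, n = q * j := by
  classical
  haveI : Fact (Nat.Prime 2) := ⟨Nat.prime_two⟩
  obtain ⟨P⟩ : Nonempty (Sylow 2 Q) := inferInstance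
  set P' : Subgroup N := (P : Subgroup Q).map Q.subtype with hP'
  have hfr : normalizer (P' : Set N) ⊔ Q = ⊤ := Sylow.normalizer_sup_eq_top P
  set R : Subgroup N := normalizer (P' : Set N) with hR
  have hP'R : P' ≤ R := le_normalizer
  have hP'Q : P' ≤ Q := map_subtype_le _
  haveI : (P'.subgroupOf R).Normal := by
    refine ⟨fun x hx g => ?_⟩
    rw [mem_subgroupOf] at hx ⊢
    exact (mem_normalizer_iff.1 g.2 x).1 hx
  have hP'p : IsPGroup 2 P' := P.2.map _
  have hidx : ¬ 2 ∣ P'.index := by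
    intro h2
    rw [hP', index_map_subtype] at h2
    rcases (Nat.Prime.dvd_mul Nat.prime_two).1 h2 with h3 | h3
    · exact P.not_dvd_index h3
    · rw [← Nat.not_even_iff_odd] at hQ
      exact hQ (even_iff_two_dvd.2 h3)
  have hrel : ¬ 2 ∣ P'.relIndex R := fun h2 => hidx (h2.trans (relIndex_dvd_index_of_le hP'R))
  have hcop : (Nat.card (P'.subgroupOf R)).Coprime (P'.subgroupOf R).index := by
    have h2 : IsPGroup 2 (P'.subgroupOf R) := hP'p.comap_of_injective R.subtype R.subtype_injective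
    obtain ⟨k, hk⟩ := IsPGroup.iff_card.1 h2
    rw [hk]
    exact Nat.Coprime.pow_left _ ((Nat.Prime.coprime_iff_not_dvd Nat.prime_two).2 hrel)
  obtain ⟨J', hJ'⟩ := exists_right_complement'_of_coprime hcop
  refine ⟨J'.map R.subtype, ?_, ?_⟩
  · have h2 : Nat.card (J'.map R.subtype) = Nat.card J' :=
      (Nat.card_congr (J'.equivMapOfInjective _ R.subtype_injective).toEquiv).symm
    rw [h2, ← Nat.not_even_iff_odd, even_iff_two_dvd]
    have h3 : Nat.card J' = (P'.subgroupOf R).index := hJ'.symm.index_eq_card.symm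
    rw [h3]
    exact hrel
  · intro n
    have h1 : n ∈ Q ⊔ R := by rw [sup_comm, hfr]; exact mem_top n
    obtain ⟨q, hq, r, hr, rfl⟩ := mem_sup_of_normal_left.1 h1
    have h2 := hJ'.sup_eq_top
    have h3 : (⟨r, hr⟩ : R) ∈ P'.subgroupOf R ⊔ J' := by rw [h2]; exact mem_top _
    obtain ⟨t, ht, j, hj, htj⟩ := mem_sup_of_normal_left.1 h3
    refine ⟨q * t, mul_mem hq (hP'Q (mem_subgroupOf.1 ht)), j, ⟨j, hj, rfl⟩, ?_⟩
    have h4 : r = (t : N) * j := (congrArg Subtype.val htj).symm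
    rw [h4, mul_assoc]

section

variable {X : Type*} [Group X] [Finite X] {𝒜 : Set X} {L : Subgroup X}

/-- The Sylow subgroup of `Inn L` given by `S`. -/
theorem exists_sylow_inn (hL : Cfsg.IsComponent L) (S : Sylow 2 X) :
    ∃ R : Sylow 2 ↥(inn L), (∀ t : L, (t : X) ∈ (S : Subgroup X) → toInn L t ∈ (R : Subgroup ↥(inn L))) ∧
      ∀ z ∈ (R : Subgroup ↥(inn L)), ∃ t : L, (t : X) ∈ (S : Subgroup X) ∧ toInn L t = z := by
  haveI : Fact (Nat.Prime 2) := ⟨Nat.prime_two⟩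
  obtain ⟨T, hT'⟩ := exists_sylow_subgroupOf S hL.1
  have hTmem : ∀ m : L, m ∈ (T : Subgroup L) ↔ (m : X) ∈ (S : Subgroup X) := by
    intro m
    rw [hT', mem_subgroupOf]
  refine ⟨T.mapSurjective (toInn_surjective L), ?_, ?_⟩
  · intro t ht
    rw [T.coe_mapSurjective (toInn_surjective L)]
    exact ⟨t, (hTmem t).2 ht, rfl⟩
  · intro z hz
    rw [T.coe_mapSurjective (toInn_surjective L)] at hz
    obtain ⟨t, ht, rfl⟩ := hz
    exact ⟨t, (hTmem t).1 ht, rfl⟩

variable (h : Ctx 𝒜) (hL : Cfsg.IsComponent L) (hA : Act 𝒜 L) (S : Sylow 2 X)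
include h hL hA

omit [Finite X] in
theorem exists_act : ∃ x ∈ 𝒜, x ∈ L ∧ x ∉ centralizer (L : Set X) := by
  obtain ⟨x, hx, hxL, y, hy, hne⟩ := hA
  refine ⟨x, hx, hxL, ?_⟩
  rw [mem_centralizer_iff]
  intro hc
  exact hne (hc y hy).symm

/-- An element of `S ∩ L` with central square is the product of a central element and an element of the family. -/
theorem exists_fam_of_sq {t : X} (htL : t ∈ L) (htS : t ∈ (S : Subgroup X))
    (htt : t * t ∈ centralizer (L : Set X)) (htc : t ∉ centralizer (L : Set X)) :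
    ∃ b ∈ 𝒜, b ∈ (S : Subgroup X) ∧ b ∈ L ∧ b ∉ centralizer (L : Set X) ∧
      ∃ z ∈ L, z ∈ centralizer (L : Set X) ∧ t = z * b := by
  obtain ⟨x, hx, hxL, hxc⟩ := exists_act h hL hA
  obtain ⟨l, hl, hlc⟩ := exists_conj_mul h hL hA hxL (le_normalizer htL)
    ⟨⟨t, le_normalizer htL⟩, mem_subgroupOf.2 htL, rfl⟩
    (by rw [h.fam.sq x hx]; exact one_mem _) htt hxc htc
  set b := l * x * l⁻¹ with hb
  have hbL : b ∈ L := mul_mem (mul_mem hl hxL) (inv_mem hl)
  have hzL : t * b⁻¹ ∈ L := mul_mem htL (inv_mem hbL)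
  have hzc : t * b⁻¹ ∈ centralizer (L : Set X) := by
    have h1 := (centralizer (L : Set X)).inv_mem hlc
    have e : (b * t⁻¹)⁻¹ = t * b⁻¹ := by group
    rwa [e] at h1
  have hzS := center_le h.core hL S hzL hzc
  have hbS : b ∈ (S : Subgroup X) := by
    have e : b = (t * b⁻¹)⁻¹ * t := by group
    rw [e]
    exact mul_mem (inv_mem hzS) htS
  refine ⟨b, h.fam.conj_mem x hx l, hbS, hbL, ?_, t * b⁻¹, hzL, hzc, by group⟩
  intro hbc
  apply htc
  have e : t = (t * b⁻¹) * b := by group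
  rw [e]
  exact mul_mem hzc hbc

/-- `S ∩ L` centralizes `A` modulo `C(L)`. -/
theorem comm_mod {t a : X} (htL : t ∈ L) (htS : t ∈ (S : Subgroup X)) (ha : a ∈ 𝒜)
    (haS : a ∈ (S : Subgroup X)) : t * a * t⁻¹ * a⁻¹ ∈ centralizer (L : Set X) := by
  obtain ⟨b, hb, hbS, hbL, hab⟩ := exists_inner h hL hA S a ha haS
  obtain ⟨R, hR1, hR2⟩ := exists_sylow_inn hL S
  have hT := tCon_inn h hL hA
  have h1 := hT.central R (toInn L ⟨b, hbL⟩) (hR1 ⟨b, hbL⟩ hbS) (by
    rw [← map_mul, toInn_eq_one]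
    change b * b ∈ _
    rw [h.fam.sq b hb]; exact one_mem _) (toInn L ⟨t, htL⟩) (hR1 ⟨t, htL⟩ htS)
  have haN : a ∈ normalizer (L : Set X) := mem_normalizer h.fam h.core hL ha
  have hpr : pr L ⟨a, haN⟩ = pr L ⟨b, le_normalizer hbL⟩ := by
    rw [pr_eq_iff, mem_centralizer_iff]
    intro l hl
    have hl' : b⁻¹ * l * b ∈ L := mul_mem (mul_mem (inv_mem hbL) hl) hbL
    have h2 := hab _ hl'
    change l * (a * b⁻¹) = a * b⁻¹ * l
    have h3 : a * (b⁻¹ * l * b) * a⁻¹ = l := by rw [h2]; group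
    calc l * (a * b⁻¹) = (a * (b⁻¹ * l * b) * a⁻¹) * (a * b⁻¹) := by rw [h3]
      _ = a * b⁻¹ * l := by group
  have h2 : pr L ⟨t, le_normalizer htL⟩ * pr L ⟨a, haN⟩ = pr L ⟨a, haN⟩ * pr L ⟨t, le_normalizer htL⟩ := by
    rw [hpr]
    exact congrArg Subtype.val h1
  rw [← map_mul, ← map_mul, pr_eq_iff] at h2
  have e : t * a * t⁻¹ * a⁻¹ = ((⟨t, le_normalizer htL⟩ * ⟨a, haN⟩ : ↥(normalizer (L : Set X))) : X) *
      ((⟨a, haN⟩ * ⟨t, le_normalizer htL⟩ : ↥(normalizer (L : Set X))) : X)⁻¹ := by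
    simp only [coe_mul]
    group
  rw [e]
  exact h2

/-- Every element of `S ∩ L` centralizes an element of `A` outside `C(L)`. -/
theorem exists_comm {t : X} (htL : t ∈ L) (htS : t ∈ (S : Subgroup X)) :
    ∃ a ∈ 𝒜, a ∈ (S : Subgroup X) ∧ a ∈ L ∧ a ∉ centralizer (L : Set X) ∧ t * a = a * t := by
  classical
  haveI : Fact (Nat.Prime 2) := ⟨Nat.prime_two⟩
  by_cases htc : t ∈ centralizer (L : Set X)
  · -- any element of the family in `L`
    obtain ⟨x, hx, hxL, hxc⟩ := exists_act h hL hA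
    -- move it into `S`
    obtain ⟨T, hT'⟩ := exists_sylow_subgroupOf S hL.1
    have hxp : IsPGroup 2 (zpowers (⟨x, hxL⟩ : L)) := by
      rintro ⟨y, hy⟩
      obtain ⟨n, rfl⟩ := mem_zpowers_iff.1 hy
      refine ⟨1, Subtype.ext ?_⟩
      simp only [SubmonoidClass.mk_pow, OneMemClass.coe_one]
      have : (⟨x, hxL⟩ : L) * ⟨x, hxL⟩ = 1 := Subtype.ext (h.fam.sq x hx)
      rw [← zpow_natCast, ← zpow_mul, mul_comm, zpow_mul, zpow_natCast, pow_one, pow_two, this, one_zpow]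
    obtain ⟨Q, hQ⟩ := hxp.exists_le_sylow
    obtain ⟨g, hg⟩ := MulAction.exists_smul_eq L Q T
    have h1 : (g * ⟨x, hxL⟩ * g⁻¹ : L) ∈ (T : Subgroup L) := by
      rw [← hg]
      exact ⟨⟨x, hxL⟩, hQ (mem_zpowers _), rfl⟩
    rw [hT', mem_subgroupOf] at h1
    have hgx : (g : X) * x * (g : X)⁻¹ ∈ L := mul_mem (mul_mem g.2 hxL) (inv_mem g.2)
    refine ⟨(g : X) * x * (g : X)⁻¹, h.fam.conj_mem x hx g, h1, hgx, ?_, ?_⟩
    · intro hc
      apply hxc
      rw [mem_centralizer_iff] at hc ⊢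
      intro l hl
      have h2 := hc ((g : X) * l * (g : X)⁻¹) (mul_mem (mul_mem g.2 hl) (inv_mem g.2))
      have h3 : (g : X) * (l * x) * (g : X)⁻¹ = (g : X) * (x * l) * (g : X)⁻¹ := by
        calc (g : X) * (l * x) * (g : X)⁻¹ = (g : X) * l * (g : X)⁻¹ * ((g : X) * x * (g : X)⁻¹) := by group
          _ = (g : X) * x * (g : X)⁻¹ * ((g : X) * l * (g : X)⁻¹) := h2
          _ = (g : X) * (x * l) * (g : X)⁻¹ := by group
      exact mul_left_cancel (mul_right_cancel h3)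
    · exact ((mem_centralizer_iff.1 htc) _ hgx).symm
  · -- the last power of `t` outside `C(L)`
    have hex : ∃ k : ℕ, t ^ 2 ^ k ∈ centralizer (L : Set X) := by
      obtain ⟨k, hk⟩ := S.2 ⟨t, htS⟩
      refine ⟨k, ?_⟩
      have hk' : t ^ 2 ^ k = 1 := by
        have := congrArg Subtype.val hk
        simpa using this
      rw [hk']; exact one_mem _
    set k := Nat.find hex with hk
    have hk1 := Nat.find_spec hex
    rw [← hk] at hk1
    obtain ⟨m, hm⟩ : ∃ m, k = m + 1 := by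
      rcases Nat.eq_zero_or_pos k with h0 | h0
      · exfalso
        rw [h0, pow_zero, pow_one] at hk1
        exact htc hk1
      · exact ⟨k - 1, by omega⟩
    have hm1 : t ^ 2 ^ m ∉ centralizer (L : Set X) := by
      intro hc
      have := Nat.find_min' hex hc
      omega
    have htt : t ^ 2 ^ m * t ^ 2 ^ m ∈ centralizer (L : Set X) := by
      rw [← pow_add, ← two_mul, ← pow_succ', ← hm]
      exact hk1
    obtain ⟨b, hb, hbS, hbL, hbc, z, hzL, hzc, e⟩ := exists_fam_of_sq h hL hA S (pow_mem htL _)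
      (pow_mem htS _) htt hm1
    refine ⟨b, hb, hbS, hbL, hbc, ?_⟩
    have h2 : b = z⁻¹ * t ^ 2 ^ m := by rw [e]; group
    have h3 : Commute t z := (mem_centralizer_iff.1 hzc) t htL
    have h4 : Commute t b := by
      rw [h2]
      exact h3.inv_right.mul_right ((Commute.refl t).pow_right _)
    exact h4.eq

/-- (1.5) The group `J`. -/
theorem exists_J : ∃ J : Subgroup X, J ≤ L ∧ Odd (Nat.card J) ∧
    J ≤ normalizer (fam 𝒜 (S : Subgroup X) : Set X) ∧
    ∀ x ∈ fam 𝒜 (S : Subgroup X), ∀ y ∈ fam 𝒜 (S : Subgroup X), x ∉ centralizer (L : Set X) →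
      y ∉ centralizer (L : Set X) → ∃ j ∈ J, j * x * j⁻¹ * y⁻¹ ∈ centralizer (L : Set X) := by
  classical
  haveI : Fact (Nat.Prime 2) := ⟨Nat.prime_two⟩
  set A := fam 𝒜 (S : Subgroup X) with hAdef
  have hAmem : ∀ {x : X}, x ∈ A ↔ x ∈ 𝒜 ∧ x ∈ (S : Subgroup X) := fun {x} =>
    h.fam.toIsClosedFam.mem_fam_iff S.2
  set N : Subgroup X := L ⊓ normalizer (A : Set X) with hN
  have hLC : ∀ l ∈ L, ∀ c ∈ centralizer (L : Set X), l * c * l⁻¹ ∈ centralizer (L : Set X) := by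
    intro l hl c hc
    have : l * c * l⁻¹ = c := by
      rw [(mem_centralizer_iff.1 hc) l hl]; group
    rw [this]; exact hc
  -- the subgroup `Q` acting trivially on `A/C_A(L)`
  let Q : Subgroup N :=
    { carrier := {n | ∀ a ∈ A, (n : X) * a * (n : X)⁻¹ * a⁻¹ ∈ centralizer (L : Set X)}
      one_mem' := by
        intro a _
        have e : ((1 : N) : X) * a * ((1 : N) : X)⁻¹ * a⁻¹ = 1 := by
          rw [coe_one]; group
        rw [e]; exact one_mem _
      mul_mem' := by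
        intro x y hx hy a ha
        have h1 := hy a ha
        have h2 := hx a ha
        have e : ((x * y : N) : X) * a * ((x * y : N) : X)⁻¹ * a⁻¹ =
            ((x : X) * ((y : X) * a * (y : X)⁻¹ * a⁻¹) * (x : X)⁻¹) * ((x : X) * a * (x : X)⁻¹ * a⁻¹) := by
          rw [coe_mul]; group
        rw [e]
        exact mul_mem (hLC x x.2.1 _ h1) h2
      inv_mem' := by
        intro x hx a ha
        have h1 : (x : X)⁻¹ * a * x ∈ A := by
          have := (mem_normalizer_iff.1 (inv_mem x.2.2) a).1 ha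
          rwa [inv_inv] at this
        have h2 := hx _ h1
        have h3 := (centralizer (L : Set X)).inv_mem h2
        have e : ((x⁻¹ : N) : X) * a * ((x⁻¹ : N) : X)⁻¹ * a⁻¹ =
            ((x : X) * ((x : X)⁻¹ * a * x) * (x : X)⁻¹ * ((x : X)⁻¹ * a * x)⁻¹)⁻¹ := by
          rw [coe_inv]
          group
        rw [e]
        exact h3 }
  have hQmem : ∀ {n : N}, n ∈ Q ↔ ∀ a ∈ A, (n : X) * a * (n : X)⁻¹ * a⁻¹ ∈ centralizer (L : Set X) :=
    Iff.rfl
  haveI hQn : Q.Normal := by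
    refine ⟨fun x hx g => ?_⟩
    rw [hQmem] at hx ⊢
    intro a ha
    have h1 : (g : X)⁻¹ * a * g ∈ A := by
      have := (mem_normalizer_iff.1 (inv_mem g.2.2) a).1 ha
      rwa [inv_inv] at this
    have h2 := hx _ h1
    have h3 := hLC g g.2.1 _ h2
    have e : ((g * x * g⁻¹ : N) : X) * a * ((g * x * g⁻¹ : N) : X)⁻¹ * a⁻¹ =
        (g : X) * ((x : X) * ((g : X)⁻¹ * a * g) * (x : X)⁻¹ * ((g : X)⁻¹ * a * g)⁻¹) * (g : X)⁻¹ := by
      simp only [coe_mul, coe_inv]
      group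
    rw [e]
    exact h3
  -- `S ∩ L ≤ Q`
  have hSN : (S : Subgroup X) ⊓ L ≤ N := by
    intro t ht
    exact mem_inf.2 ⟨ht.2, h.fam.toIsClosedFam.le_normalizer_fam (S : Subgroup X) ht.1⟩
  have hSQ : ((S : Subgroup X) ⊓ L).subgroupOf N ≤ Q := by
    intro t ht
    rw [mem_subgroupOf] at ht
    rw [hQmem]
    intro a ha
    rw [hAmem] at ha
    exact comm_mod h hL hA S ht.2 ht.1 ha.1 ha.2
  have hodd : Odd Q.index := by
    rw [← Nat.not_even_iff_odd, even_iff_two_dvd]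
    intro h2
    have h3 : 2 ∣ (((S : Subgroup X) ⊓ L).subgroupOf N).index := h2.trans (index_dvd_of_le hSQ)
    have h4 : ((S : Subgroup X) ⊓ L).relIndex N ∣ ((S : Subgroup X) ⊓ L).relIndex L := by
      rw [← relIndex_mul_relIndex ((S : Subgroup X) ⊓ L) N L hSN inf_le_left]
      exact dvd_mul_right _ _
    have h5 : 2 ∣ ((S : Subgroup X) ⊓ L).relIndex L := h3.trans h4
    rw [inf_relIndex_right] at h5
    exact S.not_dvd_index
      (h5.trans (Cfsg.Agent.SignalizersComponents.PCompCore.relIndex_dvd_index_of_subnormal _ hL.1))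
  obtain ⟨J', hJ'odd, hJ'⟩ := exists_odd_supplement Q hodd
  refine ⟨J'.map N.subtype, ?_, ?_, ?_, ?_⟩
  · exact (map_subtype_le _).trans inf_le_left
  · have h2 : Nat.card (J'.map N.subtype) = Nat.card J' :=
      (Nat.card_congr (J'.equivMapOfInjective _ N.subtype_injective).toEquiv).symm
    rw [h2]; exact hJ'odd
  · exact (map_subtype_le _).trans inf_le_right
  · intro x hx y hy hxc hyc
    rw [hAmem] at hx hy
    obtain ⟨bx, hbx, hbxS, hbxL, habx⟩ := exists_inner h hL hA S x hx.1 hx.2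
    obtain ⟨by', hby, hbyS, hbyL, haby⟩ := exists_inner h hL hA S y hy.1 hy.2
    -- `x bx⁻¹` and `y by⁻¹` centralize `L`
    have hcent : ∀ {a b : X}, b ∈ L → (∀ l ∈ L, a * l * a⁻¹ = b * l * b⁻¹) →
        a * b⁻¹ ∈ centralizer (L : Set X) := by
      intro a b hb hab
      rw [mem_centralizer_iff]
      intro l hl
      have hl' : b⁻¹ * l * b ∈ L := mul_mem (mul_mem (inv_mem hb) hl) hb
      have h2 := hab _ hl'
      have h3 : a * (b⁻¹ * l * b) * a⁻¹ = l := by rw [h2]; group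
      calc l * (a * b⁻¹) = (a * (b⁻¹ * l * b) * a⁻¹) * (a * b⁻¹) := by rw [h3]
        _ = a * b⁻¹ * l := by group
    have hxb := hcent hbxL habx
    have hyb := hcent hbyL haby
    have hbxc : bx ∉ centralizer (L : Set X) := by
      intro hc
      apply hxc
      have e : x = (x * bx⁻¹) * bx := by group
      rw [e]; exact mul_mem hxb hc
    have hbyc : by' ∉ centralizer (L : Set X) := by
      intro hc
      apply hyc
      have e : y = (y * by'⁻¹) * by' := by group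
      rw [e]; exact mul_mem hyb hc
    obtain ⟨l, hl, hlc⟩ := exists_conj_mul h hL hA hbxL (le_normalizer hbyL)
      ⟨⟨by', le_normalizer hbyL⟩, mem_subgroupOf.2 hbyL, rfl⟩
      (by rw [h.fam.sq bx hbx]; exact one_mem _) (by rw [h.fam.sq by' hby]; exact one_mem _) hbxc hbyc
    have hzL : l * bx * l⁻¹ * by'⁻¹ ∈ L := mul_mem (mul_mem (mul_mem hl hbxL) (inv_mem hl)) (inv_mem hbyL)
    have hzS := center_le h.core hL S hzL hlc
    have hS1 : l * bx * l⁻¹ ∈ (S : Subgroup X) := by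
      have e : l * bx * l⁻¹ = (l * bx * l⁻¹ * by'⁻¹) * by' := by group
      rw [e]; exact mul_mem hzS hbyS
    obtain ⟨n, hnL, hnA, hn⟩ := exists_normalizing h.fam S (L := L) (by
      intro a ha
      rw [← hAdef, hAmem] at ha
      exact mem_normalizer h.fam h.core hL ha.1) hbx hbxS hl hS1
    obtain ⟨q, hq, j, hj, hqj⟩ := hJ' ⟨n, mem_inf.2 ⟨hnL, hnA⟩⟩
    have hnqj : n = (q : X) * j := congrArg Subtype.val hqj
    refine ⟨j, ⟨j, hj, rfl⟩, ?_⟩
    rw [hQmem] at hq
    have hjbx : (j : X) * bx * (j : X)⁻¹ ∈ A :=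
      (mem_normalizer_iff.1 j.2.2 bx).1 (hAmem.2 ⟨hbx, hbxS⟩)
    have h6 := hq _ hjbx
    have h7 : (q : X) * ((j : X) * bx * (j : X)⁻¹) * (q : X)⁻¹ = l * bx * l⁻¹ := by
      rw [← hn, hnqj]; group
    rw [h7] at h6
    -- collect
    have h8 := hLC _ j.2.1 _ hxb
    have h9 := (centralizer (L : Set X)).inv_mem h6
    have h10 := (centralizer (L : Set X)).inv_mem hyb
    have e : (j : X) * x * (j : X)⁻¹ * y⁻¹ =
        ((j : X) * (x * bx⁻¹) * (j : X)⁻¹) * (((l * bx * l⁻¹ * ((j : X) * bx * (j : X)⁻¹)⁻¹)⁻¹ *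
          (l * bx * l⁻¹ * by'⁻¹)) * (y * by'⁻¹)⁻¹) := by
      group
    rw [e]
    exact mul_mem h8 (mul_mem (mul_mem h9 hlc) h10)

end

end Cfsg.Agent.TwoFusion.GoldInnerJ
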