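import Cfsg.Agent.TwoFusion.GoldDefs

/-!
# Pairs `(w, L)`: definitions

`w ∈ A#`, `L` a component of `X_w = C(w)/O(C(w))` which is not centralized by the family.
`DD A w L = C_A(L)`, `JJ A w L =` the elements of `N(A) ∩ C(w)` mapping into `L`.
-/

set_option autoImplicit false
set_option linter.style.haveILetI false

namespace Cfsg.Agent.TwoFusion.GoldPairDefs

open Subgroup
open Cfsg.Agent.TwoFusion.ClosedFam Cfsg.Agent.TwoFusion.Gold

universe u

variable {G : Type u} [Group G]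

/-- The centralizer of an element. -/
abbrev Cw (w : G) : Subgroup G := centralizer ({w} : Set G)

/-- `X_w = C(w)/O(C(w))`. -/
abbrev Xw (w : G) : Type u := ↥(Cw w) ⧸ Cfsg.oddCore ↥(Cw w)

/-- The projection `C(w) → X_w`. -/
def pw (w : G) : ↥(Cw w) →* Xw w := QuotientGroup.mk' (Cfsg.oddCore ↥(Cw w))

theorem pw_surjective (w : G) : Function.Surjective (pw w) := QuotientGroup.mk'_surjective _

theorem pw_eq_one {w : G} {x : ↥(Cw w)} : pw w x = 1 ↔ x ∈ Cfsg.oddCore ↥(Cw w) := by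
  unfold pw
  rw [QuotientGroup.mk'_apply, QuotientGroup.eq_one_iff]

theorem mem_Cw {w x : G} : x ∈ Cw w ↔ w * x = x * w := by
  rw [mem_centralizer_iff]
  simp only [Set.mem_singleton_iff, forall_eq]

/-- `C_A(L)`. -/
def DD (A : Subgroup G) (w : G) (L : Subgroup (Xw w)) : Subgroup G :=
  A ⊓ ((centralizer (L : Set (Xw w))).comap (pw w)).map (Cw w).subtype

theorem mem_DD {A : Subgroup G} {w : G} {L : Subgroup (Xw w)} {a : G} :
    a ∈ DD A w L ↔ a ∈ A ∧ ∃ ha : a ∈ Cw w, pw w ⟨a, ha⟩ ∈ centralizer (L : Set (Xw w)) := by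
  unfold DD
  rw [mem_inf]
  refine and_congr_right fun _ => ?_
  constructor
  · rintro ⟨y, hy, rfl⟩
    exact ⟨y.2, hy⟩
  · rintro ⟨ha, h⟩
    exact ⟨⟨a, ha⟩, h, rfl⟩

/-- `N_L(A)`, lifted to `G`. -/
def JJ (A : Subgroup G) (w : G) (L : Subgroup (Xw w)) : Subgroup G :=
  normalizer (A : Set G) ⊓ (L.comap (pw w)).map (Cw w).subtype

theorem mem_JJ {A : Subgroup G} {w : G} {L : Subgroup (Xw w)} {g : G} :
    g ∈ JJ A w L ↔ g ∈ normalizer (A : Set G) ∧ ∃ hg : g ∈ Cw w, pw w ⟨g, hg⟩ ∈ L := by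
  unfold JJ
  rw [mem_inf]
  refine and_congr_right fun _ => ?_
  constructor
  · rintro ⟨y, hy, rfl⟩
    exact ⟨y.2, hy⟩
  · rintro ⟨hg, h⟩
    exact ⟨⟨g, hg⟩, h, rfl⟩

/-- A pair `(w, L)`: `w ∈ A#` and `L` is an active component of `X_w`. -/
structure IsPair (𝒜 : Set G) (A : Subgroup G) (w : G) (L : Subgroup (Xw w)) : Prop where
  mem : w ∈ A
  ne : w ≠ 1
  comp : Cfsg.IsComponent L
  act : Act (push 𝒜 (Cw w)) L

/-- The L-balance statement (section 2 of the blueprint): a pair `(w, L)` persists in `X_d` for `1 ≠ d ∈ C_A(L)`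
if `|A : C_A(L)|` is maximal. -/
def Balance (𝒜 : Set G) (A : Subgroup G) : Prop :=
  ∀ (w : G) (L : Subgroup (Xw w)) (d : G), IsPair 𝒜 A w L → d ∈ DD A w L → d ≠ 1 →
    (∀ M : Subgroup (Xw d), IsPair 𝒜 A d M → (DD A d M).relIndex A ≤ (DD A w L).relIndex A) →
    ∃ M : Subgroup (Xw d), IsPair 𝒜 A d M ∧ DD A d M = DD A w L ∧
      ∀ g ∈ JJ A w L, ∃ g' ∈ JJ A d M, ∀ a ∈ A, g * a * g⁻¹ = g' * a * g'⁻¹

/-- Conjugation by elements of `N(A)` permutes the pairs. -/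
def ConjPair (𝒜 : Set G) (A : Subgroup G) : Prop :=
  ∀ (w : G) (L : Subgroup (Xw w)) (n : G), IsPair 𝒜 A w L → n ∈ normalizer (A : Set G) →
    ∃ L' : Subgroup (Xw (n * w * n⁻¹)), IsPair 𝒜 A (n * w * n⁻¹) L' ∧
      DD A (n * w * n⁻¹) L' = (DD A w L).map (MulAut.conj n).toMonoidHom ∧
      JJ A (n * w * n⁻¹) L' = (JJ A w L).map (MulAut.conj n).toMonoidHom

end Cfsg.Agent.TwoFusion.GoldPairDefs
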