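import Cfsg.Agent.TwoFusion.GoldNorm
import Cfsg.Agent.TwoFusion.GoldFam

/-!
# Goldschmidt's theorem, (1.6): the group generated by an elementary closed family

Let `X` be a finite group without odd core, `𝒜` an elementary closed family, `S` a Sylow 2-subgroup and
`A = 𝒜 ∩ S`.  If `A` induces inner automorphisms, realized by elements of `A ∩ L`, on every component `L` on
which it acts non-trivially, then the subgroup generated by `𝒜` is `E (A ∩ O_2(X))`, where `E` is the product of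
the components on which `𝒜` acts non-trivially.
-/

set_option autoImplicit false
set_option linter.style.haveILetI false

namespace Cfsg.Agent.TwoFusion.GoldLayer

open Subgroup
open scoped commutatorElement
open Cfsg.Agent.TwoFusion.ClosedFam
open Cfsg.Agent.TwoFusion.Gold

variable {X : Type*} [Group X] {𝒜 : Set X}

/-- The product of the components on which the family acts non-trivially. -/
def actLayer (𝒜 : Set X) : Subgroup X := sSup {L | Cfsg.IsComponent L ∧ Act 𝒜 L}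

theorem actLayer_def (𝒜 : Set X) : actLayer 𝒜 = sSup {L | Cfsg.IsComponent L ∧ Act 𝒜 L} := rfl

/-- The conclusion of (1.4): the elements of the family in `S` act on the components like elements of the family
in `S ∩ L`. -/
def Inner (𝒜 : Set X) (S : Subgroup X) : Prop :=
  ∀ L : Subgroup X, Cfsg.IsComponent L → Act 𝒜 L → ∀ a ∈ 𝒜, a ∈ S →
    ∃ b ∈ 𝒜, b ∈ S ∧ b ∈ L ∧ ∀ l ∈ L, a * l * a⁻¹ = b * l * b⁻¹

theorem le_actLayer {L : Subgroup X} (hL : Cfsg.IsComponent L) (ha : Act 𝒜 L) : L ≤ actLayer 𝒜 :=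
  le_sSup ⟨hL, ha⟩

theorem actLayer_le_iff {H : Subgroup X} :
    actLayer 𝒜 ≤ H ↔ ∀ L : Subgroup X, Cfsg.IsComponent L → Act 𝒜 L → L ≤ H := by
  rw [actLayer, sSup_le_iff]
  exact ⟨fun h L h1 h2 => h L ⟨h1, h2⟩, fun h L h1 => h L h1.1 h1.2⟩

theorem act_conj (h : IsElemFam 𝒜) {L : Subgroup X} (ha : Act 𝒜 L) (g : X) :
    Act 𝒜 (L.map (MulAut.conj g).toMonoidHom) := by
  obtain ⟨x, hx, hxL, y, hy, hxy⟩ := ha
  refine ⟨g * x * g⁻¹, h.conj_mem x hx g, ⟨x, hxL, rfl⟩, g * y * g⁻¹, ⟨y, hy, rfl⟩, ?_⟩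
  intro he
  apply hxy
  have e1 : g * x * g⁻¹ * (g * y * g⁻¹) = g * (x * y) * g⁻¹ := by group
  have e2 : g * y * g⁻¹ * (g * x * g⁻¹) = g * (y * x) * g⁻¹ := by group
  rw [e1, e2] at he
  exact mul_left_cancel (mul_right_cancel he)

/-- The product of the active components is normal. -/
theorem actLayer_normal (h : IsElemFam 𝒜) : (actLayer 𝒜).Normal := by
  refine ⟨fun x hx g => ?_⟩
  have h1 : actLayer 𝒜 ≤ (actLayer 𝒜).comap (MulAut.conj g).toMonoidHom := by
    rw [actLayer_le_iff]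
    intro L hL ha
    rw [← map_le_iff_le_comap]
    exact le_actLayer (Cfsg.Agent.SignalizersComponents.Components.isComponent_conj g hL) (act_conj h ha g)
  exact h1 hx

/-- The active components lie in the subgroup generated by the family. -/
theorem actLayer_le_fam (h : IsElemFam 𝒜) : actLayer 𝒜 ≤ fam 𝒜 ⊤ := by
  haveI := h.toIsClosedFam.fam_normal ⊤
  rw [actLayer_le_iff]
  rintro L hL ⟨x, hx, hxL, y, hy, hxy⟩
  rcases Cfsg.Agent.SignalizersComponents.Components.component_le_or_commutator_eq_bot hL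
    (Normal.isSubnormal (H := fam 𝒜 ⊤) inferInstance) with h1 | h1
  · exact h1
  · exfalso
    rw [commutator_eq_bot_iff_le_centralizer] at h1
    have h2 := mem_centralizer_iff.1 (h1 hy) x (mem_fam hx (mem_top x))
    exact hxy h2

section Main

variable [Finite X]

/-- The subgroup generated by the family centralizes the components on which it acts trivially. -/
theorem comm_of_mem_fam (h : IsElemFam 𝒜) (hO : Cfsg.oddCore X = ⊥) {L : Subgroup X}
    (hL : Cfsg.IsComponent L) (hn : ¬ Act 𝒜 L) : ∀ k ∈ fam 𝒜 ⊤, ∀ l ∈ L, k * l = l * k := by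
  have h1 : fam 𝒜 ⊤ ≤ centralizer (L : Set X) := by
    rw [fam_le_iff]
    intro a ha _
    rw [mem_centralizer_iff]
    intro l hl
    exact (comm_of_not_act h hO hL hn a ha l hl).symm
  intro k hk l hl
  exact (mem_centralizer_iff.1 (h1 hk) l hl).symm

omit [Finite X] in
/-- The intersection of the family with `O_2(X)`. -/
theorem fam_pCore (h : IsElemFam 𝒜) (S : Sylow 2 X) :
    fam 𝒜 (Cfsg.pCore 2 X) = fam 𝒜 (S : Subgroup X) ⊓ Cfsg.pCore 2 X := by
  rw [← h.toIsClosedFam.fam_inf S.2]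
  congr 1
  exact (inf_eq_right.2 (Cfsg.Agent.Lib.Cores.pCore_le_sylow S)).symm

omit [Finite X] in
theorem fam_inf_pCore_normal (h : IsElemFam 𝒜) (S : Sylow 2 X) :
    (fam 𝒜 (S : Subgroup X) ⊓ Cfsg.pCore 2 X).Normal := by
  rw [← fam_pCore h S]
  haveI := Cfsg.Agent.Lib.Cores.pCore_normal (G := X) 2
  exact h.toIsClosedFam.fam_normal _

/-- Every element of the family is conjugate into `S`. -/
theorem exists_conj_mem (h : IsElemFam 𝒜) (S : Sylow 2 X) {a : X} (ha : a ∈ 𝒜) :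
    ∃ g : X, g * a * g⁻¹ ∈ fam 𝒜 (S : Subgroup X) := by
  haveI : Fact (Nat.Prime 2) := ⟨Nat.prime_two⟩
  obtain ⟨P, hP⟩ := (h.toIsClosedFam.isPGroup_zpowers ha).exists_le_sylow
  obtain ⟨g, hg⟩ := MulAction.exists_smul_eq X P S
  refine ⟨g, mem_fam (h.conj_mem a ha g) ?_⟩
  rw [← hg]
  exact ⟨a, hP (mem_zpowers a), rfl⟩

omit [Finite X] in
/-- `[⟨𝒜⟩, O_2(X)] ≤ A ∩ O_2(X)`. -/
theorem commutator_mem (h : IsElemFam 𝒜) (S : Sylow 2 X) :
    ∀ k ∈ fam 𝒜 ⊤, ∀ u ∈ Cfsg.pCore 2 X,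
      k * u * k⁻¹ * u⁻¹ ∈ fam 𝒜 (S : Subgroup X) ⊓ Cfsg.pCore 2 X := by
  haveI hn := fam_inf_pCore_normal h S
  haveI hpn := Cfsg.Agent.Lib.Cores.pCore_normal (G := X) 2
  intro k hk
  unfold fam at hk
  refine closure_induction (p := fun k _ => ∀ u ∈ Cfsg.pCore 2 X,
      k * u * k⁻¹ * u⁻¹ ∈ fam 𝒜 (S : Subgroup X) ⊓ Cfsg.pCore 2 X) ?_ ?_ ?_ ?_ hk
  · rintro a ⟨ha, -⟩ u hu
    rw [← fam_pCore h S]
    haveI : Fact (Nat.Prime 2) := ⟨Nat.prime_two⟩
    obtain ⟨P, hP⟩ := (h.toIsClosedFam.isPGroup_zpowers ha).exists_le_sylow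
    have haP : a ∈ (P : Subgroup X) := hP (mem_zpowers a)
    have huP : u ∈ (P : Subgroup X) := Cfsg.Agent.Lib.Cores.pCore_le_sylow P hu
    refine mem_fam ?_ ?_
    · have e : a * u * a⁻¹ * u⁻¹ = a * (u * a⁻¹ * u⁻¹) := by group
      rw [e]
      exact h.mul_mem P P.2 a haP _ (mul_mem (mul_mem huP (inv_mem haP)) (inv_mem huP)) ha
        (h.conj_mem _ (h.toIsClosedFam.inv_mem ha) u)
    · exact mul_mem (hpn.conj_mem u hu a) (inv_mem hu)
  · intro u _
    have e : (1 : X) * u * 1⁻¹ * u⁻¹ = 1 := by group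
    rw [e]; exact one_mem _
  · intro x y _ _ hx hy u hu
    have e : x * y * u * (x * y)⁻¹ * u⁻¹ =
        (x * (y * u * y⁻¹) * x⁻¹ * (y * u * y⁻¹)⁻¹) * (y * u * y⁻¹ * u⁻¹) := by group
    rw [e]
    exact mul_mem (hx _ (hpn.conj_mem u hu y)) (hy u hu)
  · intro x _ hx u hu
    have e : x⁻¹ * u * x⁻¹⁻¹ * u⁻¹ = (x * (x⁻¹ * u * x⁻¹⁻¹) * x⁻¹ * (x⁻¹ * u * x⁻¹⁻¹)⁻¹)⁻¹ := by group
    rw [e]
    exact inv_mem (hx _ (hpn.conj_mem u hu x⁻¹))

omit [Finite X] in
/-- The subgroup generated by the family centralizes `A ∩ O_2(X)`. -/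
theorem comm_of_mem (h : IsElemFam 𝒜) (S : Sylow 2 X) :
    ∀ k ∈ fam 𝒜 ⊤, ∀ d ∈ fam 𝒜 (S : Subgroup X) ⊓ Cfsg.pCore 2 X, k * d = d * k := by
  have h1 : fam 𝒜 ⊤ ≤ centralizer ((fam 𝒜 (S : Subgroup X) ⊓ Cfsg.pCore 2 X : Subgroup X) : Set X) := by
    rw [fam_le_iff]
    intro a ha _
    rw [mem_centralizer_iff]
    intro d hd
    rw [← fam_pCore h S, SetLike.mem_coe,
      h.toIsClosedFam.mem_fam_iff (Cfsg.Agent.Lib.Cores.pCore_isPGroup 2)] at hd
    haveI : Fact (Nat.Prime 2) := ⟨Nat.prime_two⟩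
    obtain ⟨P, hP⟩ := (h.toIsClosedFam.isPGroup_zpowers ha).exists_le_sylow
    exact h.comm P.2 hd.1 (Cfsg.Agent.Lib.Cores.pCore_le_sylow P hd.2) ha (hP (mem_zpowers a))
  intro k hk d hd
  exact (mem_centralizer_iff.1 (h1 hk) d hd).symm

/-- The centralizer of the active components in the group generated by the family is a 2-group. -/
theorem isPGroup_inf_centralizer (h : IsElemFam 𝒜) (hO : Cfsg.oddCore X = ⊥) (S : Sylow 2 X) :
    IsPGroup 2 (fam 𝒜 ⊤ ⊓ centralizer (actLayer 𝒜 : Set X) : Subgroup X) := by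
  classical
  haveI : Fact (Nat.Prime 2) := ⟨Nat.prime_two⟩
  rw [IsPGroup.iff_card]
  set R : Subgroup X := fam 𝒜 ⊤ ⊓ centralizer (actLayer 𝒜 : Set X) with hR
  -- elements of odd order in `R` are trivial
  have key : ∀ y ∈ R, Odd (orderOf y) → y = 1 := by
    intro y hy hodd
    rw [hR, mem_inf] at hy
    have hcop : (Nat.card (zpowers y)).Coprime 2 := by
      rw [Nat.card_zpowers]
      exact Nat.coprime_two_right.2 hodd
    have h1 : zpowers y = ⊥ := by
      refine Cfsg.Agent.SignalizersComponents.OddFixed.eq_bot_of_centralizes hO hcop ?_ ?_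
      · -- `O_2(X)`
        have h2 : ∀ u ∈ Cfsg.pCore 2 X, y * u * y⁻¹ = u := by
          intro u hu
          set D : Subgroup X := fam 𝒜 (S : Subgroup X) ⊓ Cfsg.pCore 2 X with hD
          haveI hDn : D.Normal := fam_inf_pCore_normal h S
          set d := y * u * y⁻¹ * u⁻¹ with hd
          have hdD : d ∈ D := commutator_mem h S y hy.1 u hu
          have hyd : y * d = d * y := comm_of_mem h S y hy.1 d hdD
          have h3 : ∀ n : ℕ, y ^ n * u * (y ^ n)⁻¹ = d ^ n * u := by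
            intro n
            induction n with
            | zero => simp
            | succ n ih =>
              have h4 : y ^ n * d = d * y ^ n := (Commute.pow_left (h := (hyd : Commute y d)) n).eq
              have h5 : y * u * y⁻¹ = d * u := by rw [hd]; group
              calc y ^ (n + 1) * u * (y ^ (n + 1))⁻¹ = y ^ n * (y * u * y⁻¹) * (y ^ n)⁻¹ := by
                    rw [pow_succ]; group
                _ = y ^ n * d * u * (y ^ n)⁻¹ := by rw [h5]; group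
                _ = d * (y ^ n * u * (y ^ n)⁻¹) := by rw [h4]; group
                _ = d ^ (n + 1) * u := by rw [ih, pow_succ']; group
          have h6 := h3 (orderOf y)
          rw [pow_orderOf_eq_one] at h6
          have h7 : d ^ orderOf y = 1 := by
            have : (1 : X) * u * 1⁻¹ = u := by group
            rw [this] at h6
            exact (mul_eq_right.1 h6.symm)
          have h8 : orderOf d ∣ orderOf y := orderOf_dvd_of_pow_eq_one h7
          have h9 : ∃ k : ℕ, orderOf d = 2 ^ k := by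
            obtain ⟨k, hk⟩ := IsPGroup.iff_orderOf.1 (Cfsg.Agent.Lib.Cores.pCore_isPGroup (G := X) 2)
              ⟨d, (mem_inf.1 hdD).2⟩
            exact ⟨k, by rw [← hk, Subgroup.orderOf_mk]⟩
          obtain ⟨k, hk⟩ := h9
          have h10 : Nat.Coprime (orderOf d) (orderOf y) := by
            rw [hk]
            exact Nat.Coprime.pow_left k (Nat.coprime_two_left.2 hodd)
          have h11 : orderOf d = 1 := by
            have := Nat.gcd_eq_left h8
            rw [Nat.Coprime] at h10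
            rw [← this, h10]
          rw [orderOf_eq_one_iff] at h11
          have h12 : y * u * y⁻¹ * u⁻¹ = 1 := by rw [← hd]; exact h11
          exact mul_inv_eq_one.1 h12
        intro z hz u hu
        obtain ⟨n, rfl⟩ := mem_zpowers_iff.1 hz
        have h3 : Commute y u := by
          have := h2 u hu
          exact mul_inv_eq_iff_eq_mul.1 this
        exact h3.zpow_left n
      · -- the components
        intro L hL z hz e he
        obtain ⟨n, rfl⟩ := mem_zpowers_iff.1 hz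
        have h3 : Commute y e := by
          by_cases hact : Act 𝒜 L
          · exact (mem_centralizer_iff.1 hy.2 e (le_actLayer hL hact he)).symm
          · exact comm_of_mem_fam h hO hL hact y hy.1 e he
        exact h3.zpow_left n
    have h2 : y ∈ zpowers y := mem_zpowers y
    rw [h1] at h2
    exact mem_bot.1 h2
  -- so the order of `R` is a power of two
  obtain ⟨k, m, hm, hkm⟩ := Nat.exists_eq_two_pow_mul_odd (n := Nat.card R) Nat.card_pos.ne'
  refine ⟨k, ?_⟩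
  suffices hm1 : m = 1 by rw [hkm, hm1, mul_one]
  by_contra hm1
  obtain ⟨p, hp, hpm⟩ := Nat.exists_prime_and_dvd hm1
  haveI : Fact p.Prime := ⟨hp⟩
  have hpodd : Odd p := hm.of_dvd_nat hpm
  obtain ⟨x, hx⟩ := exists_prime_orderOf_dvd_card' p (hpm.trans ⟨2 ^ k, by rw [hkm, mul_comm]⟩ : p ∣ Nat.card R)
  have h1 : orderOf (x : X) = p := by rw [Subgroup.orderOf_coe]; exact hx
  have h2 := key x x.2 (by rw [h1]; exact hpodd)
  rw [h2, orderOf_one] at h1
  exact hp.one_lt.ne h1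

/-- `⟨𝒜⟩ ∩ C(E) ≤ O_2(X)`. -/
theorem inf_centralizer_le (h : IsElemFam 𝒜) (hO : Cfsg.oddCore X = ⊥) (S : Sylow 2 X) :
    (fam 𝒜 ⊤ ⊓ centralizer (actLayer 𝒜 : Set X) : Subgroup X) ≤ Cfsg.pCore 2 X := by
  haveI := h.toIsClosedFam.fam_normal ⊤
  haveI := actLayer_normal h
  exact Cfsg.Agent.Lib.Cores.le_pCore inferInstance (isPGroup_inf_centralizer h hO S)

/-- If `A` acts on the active components like elements of `A ∩ L`, then every element of `A` is the product of an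
element of `A ∩ E` and an element of `A` centralizing `E`. -/
theorem exists_mul (h : IsElemFam 𝒜) (S : Sylow 2 X) (hI : Inner 𝒜 (S : Subgroup X)) {a : X}
    (ha : a ∈ fam 𝒜 (S : Subgroup X)) :
    ∃ c ∈ fam 𝒜 (S : Subgroup X), c ∈ actLayer 𝒜 ∧ ∀ e ∈ actLayer 𝒜, a * e * a⁻¹ = c * e * c⁻¹ := by
  classical
  rw [h.mem_fam_iff S.2] at ha
  haveI : Fintype (Subgroup X) := Fintype.ofFinite _
  -- finite sets of active components
  have key : ∀ s : Finset (Subgroup X), (∀ L ∈ s, Cfsg.IsComponent L ∧ Act 𝒜 L) →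
      ∃ c ∈ fam 𝒜 (S : Subgroup X), c ∈ actLayer 𝒜 ∧
        (∀ L ∈ s, ∀ l ∈ L, a * l * a⁻¹ = c * l * c⁻¹) ∧
        ∀ L : Subgroup X, Cfsg.IsComponent L → L ∉ s → ∀ l ∈ L, c * l = l * c := by
    intro s
    induction s using Finset.induction_on with
    | empty =>
      intro _
      refine ⟨1, one_mem _, one_mem _, ?_, ?_⟩
      · intro L hL; exact absurd hL (Finset.notMem_empty L)
      · intro L _ _ l _; rw [one_mul, mul_one]
    | insert L₀ s hL₀ ih =>
      intro hs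
      obtain ⟨c, hcA, hcE, hc1, hc2⟩ := ih fun L hL => hs L (Finset.mem_insert_of_mem hL)
      obtain ⟨hcomp, hact⟩ := hs L₀ (Finset.mem_insert_self _ _)
      obtain ⟨b, hb, hbS, hbL, hbl⟩ := hI L₀ hcomp hact a ha.1 ha.2
      have hbA : b ∈ fam 𝒜 (S : Subgroup X) := mem_fam hb hbS
      have hbc : ∀ L : Subgroup X, Cfsg.IsComponent L → L ≠ L₀ → ∀ l ∈ L, b * l = l * b := by
        intro L hL hne l hl
        have h1 := Cfsg.Agent.SignalizersComponents.Components.component_le_centralizer_of_ne hL hcomp hne hl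
        exact mem_centralizer_iff.1 h1 b hbL
      refine ⟨c * b, mul_mem hcA hbA, mul_mem hcE (le_actLayer hcomp hact hbL), ?_, ?_⟩
      · intro L hL l hl
        rcases Finset.mem_insert.1 hL with rfl | hL
        · have h1 : b * l * b⁻¹ ∈ L := mul_mem (mul_mem hbL hl) (inv_mem hbL)
          have h2 := hc2 L hcomp hL₀ _ h1
          calc a * l * a⁻¹ = b * l * b⁻¹ := hbl l hl
            _ = (b * l * b⁻¹) * c * c⁻¹ := by group
            _ = c * (b * l * b⁻¹) * c⁻¹ := by rw [h2]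
            _ = c * b * l * (c * b)⁻¹ := by group
        · have hne : L ≠ L₀ := fun he => hL₀ (he ▸ hL)
          have h1 := hbc L (hs L (Finset.mem_insert_of_mem hL)).1 hne l hl
          calc a * l * a⁻¹ = c * l * c⁻¹ := hc1 L hL l hl
            _ = c * (l * b) * b⁻¹ * c⁻¹ := by group
            _ = c * (b * l) * b⁻¹ * c⁻¹ := by rw [h1]
            _ = c * b * l * (c * b)⁻¹ := by group
      · intro L hL hLs l hl
        rw [Finset.mem_insert, not_or] at hLs
        have h1 := hbc L hL hLs.1 l hl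
        have h2 := hc2 L hL hLs.2 l hl
        calc c * b * l = c * (b * l) := by group
          _ = (c * l) * b := by rw [h1]; group
          _ = l * (c * b) := by rw [h2]; group
  obtain ⟨c, hcA, hcE, hc1, -⟩ := key (Finset.univ.filter fun L => Cfsg.IsComponent L ∧ Act 𝒜 L)
    (fun L hL => (Finset.mem_filter.1 hL).2)
  refine ⟨c, hcA, hcE, ?_⟩
  -- pass from the components to their product
  have h1 : c⁻¹ * a ∈ centralizer (actLayer 𝒜 : Set X) := by
    have h2 : actLayer 𝒜 ≤ centralizer ({c⁻¹ * a} : Set X) := by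
      rw [actLayer_le_iff]
      intro L hL hact l hl
      rw [mem_centralizer_iff]
      rintro _ rfl
      have h3 := hc1 L (Finset.mem_filter.2 ⟨Finset.mem_univ _, hL, hact⟩) l hl
      calc c⁻¹ * a * l = c⁻¹ * (a * l * a⁻¹) * a := by group
        _ = c⁻¹ * (c * l * c⁻¹) * a := by rw [h3]
        _ = l * (c⁻¹ * a) := by group
    rw [mem_centralizer_iff]
    intro e he
    exact (mem_centralizer_iff.1 (h2 he) _ rfl).symm
  intro e he
  have h3 := mem_centralizer_iff.1 h1 e he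
  calc a * e * a⁻¹ = c * (c⁻¹ * a * e) * a⁻¹ := by group
    _ = c * (e * (c⁻¹ * a)) * a⁻¹ := by rw [h3]
    _ = c * e * c⁻¹ := by group

/-- `A = (A ∩ E) (A ∩ O_2(X))`. -/
theorem exists_mul_pCore (h : IsElemFam 𝒜) (hO : Cfsg.oddCore X = ⊥) (S : Sylow 2 X)
    (hI : Inner 𝒜 (S : Subgroup X)) {a : X} (ha : a ∈ fam 𝒜 (S : Subgroup X)) :
    ∃ c ∈ fam 𝒜 (S : Subgroup X), c ∈ actLayer 𝒜 ∧
      ∃ d ∈ fam 𝒜 (S : Subgroup X), d ∈ Cfsg.pCore 2 X ∧ a = c * d := by
  obtain ⟨c, hcA, hcE, hc⟩ := exists_mul h S hI ha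
  refine ⟨c, hcA, hcE, c⁻¹ * a, mul_mem (inv_mem hcA) ha, ?_, by group⟩
  refine inf_centralizer_le h hO S (mem_inf.2 ⟨?_, ?_⟩)
  · exact mul_mem (inv_mem (fam_mono 𝒜 le_top hcA)) (fam_mono 𝒜 le_top ha)
  · rw [mem_centralizer_iff]
    intro e he
    have h1 := hc e he
    calc e * (c⁻¹ * a) = c⁻¹ * (c * e * c⁻¹) * a := by group
      _ = c⁻¹ * (a * e * a⁻¹) * a := by rw [h1]
      _ = c⁻¹ * a * e := by group

/-- (1.6) `⟨𝒜⟩ = E (A ∩ O_2(X))`. -/
theorem fam_top_eq_pCore (h : IsElemFam 𝒜) (hO : Cfsg.oddCore X = ⊥) (S : Sylow 2 X)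
    (hI : Inner 𝒜 (S : Subgroup X)) :
    fam 𝒜 ⊤ = actLayer 𝒜 ⊔ (fam 𝒜 (S : Subgroup X) ⊓ Cfsg.pCore 2 X) := by
  haveI hE := actLayer_normal h
  haveI hD := fam_inf_pCore_normal h S
  apply le_antisymm
  · rw [fam_le_iff]
    intro a ha _
    obtain ⟨g, hg⟩ := exists_conj_mem h S ha
    obtain ⟨c, -, hcE, d, hdA, hdO, he⟩ := exists_mul_pCore h hO S hI hg
    have h1 : g * a * g⁻¹ ∈ actLayer 𝒜 ⊔ (fam 𝒜 (S : Subgroup X) ⊓ Cfsg.pCore 2 X) := by
      rw [he]
      exact mul_mem (mem_sup_left hcE) (mem_sup_right (mem_inf.2 ⟨hdA, hdO⟩))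
    have hn : (actLayer 𝒜 ⊔ (fam 𝒜 (S : Subgroup X) ⊓ Cfsg.pCore 2 X)).Normal := inferInstance
    have h2 := hn.conj_mem _ h1 g⁻¹
    have e : g⁻¹ * (g * a * g⁻¹) * g⁻¹⁻¹ = a := by group
    rwa [e] at h2
  · exact sup_le (actLayer_le_fam h) (inf_le_left.trans (fam_mono 𝒜 le_top))

/-- (1.6) `⟨𝒜⟩ = A E`. -/
theorem fam_top_eq' (h : IsElemFam 𝒜) (hO : Cfsg.oddCore X = ⊥) (S : Sylow 2 X)
    (hI : Inner 𝒜 (S : Subgroup X)) :
    fam 𝒜 ⊤ = fam 𝒜 (S : Subgroup X) ⊔ actLayer 𝒜 := by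
  apply le_antisymm
  · rw [fam_top_eq_pCore h hO S hI, sup_comm]
    exact sup_le_sup_right inf_le_left _
  · exact sup_le (fam_mono 𝒜 le_top) (actLayer_le_fam h)

end Main

/-- `X = ⟨𝒜⟩ N_X(A)` (any elementary closed family). -/
theorem fam_top_sup_normalizer [Finite X] (h : IsElemFam 𝒜) (S : Sylow 2 X) :
    fam 𝒜 ⊤ ⊔ normalizer (fam 𝒜 (S : Subgroup X) : Set X) = ⊤ := by
  rw [eq_top_iff]
  intro g _
  haveI hKn := h.toIsClosedFam.fam_normal ⊤
  have h1 : fam 𝒜 (S : Subgroup X) ≤ fam 𝒜 ⊤ := fam_mono 𝒜 le_top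
  have h2 : (fam 𝒜 (S : Subgroup X)).map (MulAut.conj g).toMonoidHom ≤ fam 𝒜 ⊤ := by
    rintro _ ⟨x, hx, rfl⟩
    exact hKn.conj_mem x (h1 hx) g
  obtain ⟨c, hc, hcg⟩ := exists_conj_fam h.toIsClosedFam S h1 h2
  have e : g = c⁻¹ * (c * g) := by group
  rw [e]
  exact mul_mem (mem_sup_left (inv_mem hc)) (mem_sup_right (mem_normalizer_of_map_conj hcg))

section Ctx

variable [Finite X] (h : Ctx 𝒜) (S : Sylow 2 X)

include h

/-- (a) `⟨𝒜⟩ = A E`. -/
theorem fam_top_eq (hI : Inner 𝒜 (S : Subgroup X)) :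
    fam 𝒜 ⊤ = fam 𝒜 (S : Subgroup X) ⊔ sSup {L | Cfsg.IsComponent L ∧ Act 𝒜 L} :=
  fam_top_eq' h.fam h.core S hI

/-- (b) `X = ⟨𝒜⟩ N_X(A)`. -/
theorem fam_top_sup_normalizer_eq : fam 𝒜 ⊤ ⊔ normalizer (fam 𝒜 (S : Subgroup X) : Set X) = ⊤ :=
  fam_top_sup_normalizer h.fam S

/-- (b2) `X = E N_X(A)`. -/
theorem layer_sup_normalizer (hI : Inner 𝒜 (S : Subgroup X)) :
    sSup {L | Cfsg.IsComponent L ∧ Act 𝒜 L} ⊔ normalizer (fam 𝒜 (S : Subgroup X) : Set X) = ⊤ := by
  rw [eq_top_iff, ← fam_top_sup_normalizer h.fam S, fam_top_eq h S hI]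
  exact sup_le (sup_le (le_normalizer.trans le_sup_right) le_sup_left) le_sup_right

/-- (c) If no component is active then `A` is normal. -/
theorem normal_of_not_act (hn : ∀ L : Subgroup X, Cfsg.IsComponent L → ¬ Act 𝒜 L) :
    (fam 𝒜 (S : Subgroup X)).Normal := by
  have hI : Inner 𝒜 (S : Subgroup X) := fun L hL hact => absurd hact (hn L hL)
  have h1 := fam_top_eq' h.fam h.core S hI
  have h2 : actLayer 𝒜 = ⊥ := by
    rw [eq_bot_iff, actLayer_le_iff]
    exact fun L hL hact => absurd hact (hn L hL)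
  rw [h2, sup_bot_eq] at h1
  rw [← h1]
  exact h.fam.toIsClosedFam.fam_normal ⊤

/-- (d1) `⟨𝒜⟩` centralizes the inactive components. -/
theorem comm_of_inactive {L : Subgroup X} (hL : Cfsg.IsComponent L) (hn : ¬ Act 𝒜 L) :
    ∀ k ∈ fam 𝒜 ⊤, ∀ l ∈ L, k * l = l * k :=
  comm_of_mem_fam h.fam h.core hL hn

/-- (d2) `[⟨𝒜⟩, O_2(X)] ≤ A ∩ O_2(X)`. -/
theorem commutator_pCore_le : ⁅fam 𝒜 ⊤, Cfsg.pCore 2 X⁆ ≤ fam 𝒜 (S : Subgroup X) ⊓ Cfsg.pCore 2 X := by
  rw [commutator_le]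
  intro k hk u hu
  exact commutator_mem h.fam S k hk u hu

/-- The elements of `A` are products of elements of `A ∩ E` and of `A ∩ O_2(X)`. -/
theorem exists_mul_of_mem (hI : Inner 𝒜 (S : Subgroup X)) {a : X} (ha : a ∈ fam 𝒜 (S : Subgroup X)) :
    ∃ c ∈ fam 𝒜 (S : Subgroup X), c ∈ sSup {L | Cfsg.IsComponent L ∧ Act 𝒜 L} ∧
      ∃ d ∈ fam 𝒜 (S : Subgroup X), d ∈ Cfsg.pCore 2 X ∧ a = c * d :=
  exists_mul_pCore h.fam h.core S hI ha

/-- `⟨𝒜⟩ = E (A ∩ O_2(X))`. -/
theorem fam_top_eq_sup_pCore (hI : Inner 𝒜 (S : Subgroup X)) :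
    fam 𝒜 ⊤ = sSup {L | Cfsg.IsComponent L ∧ Act 𝒜 L} ⊔ (fam 𝒜 (S : Subgroup X) ⊓ Cfsg.pCore 2 X) :=
  fam_top_eq_pCore h.fam h.core S hI

end Ctx

end Cfsg.Agent.TwoFusion.GoldLayer
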