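import Cfsg.Agent.TwoFusion.GoldFour
import Cfsg.Agent.TwoFusion.GoldFam
import Cfsg.Agent.TwoFusion.GoldLayer

/-!
# Goldschmidt's theorem: centralizers without active components

* `exists_sylow_push`: the image of `A` in `H/O(H)` is the trace of the image of the family on a Sylow subgroup;
* `exists_mul_of_mem_normalizer`: normalizers lift modulo the core;
* `mul_of_not_act`: if no component of `C(w)/O(C(w))` is active, then `C(w) = O(C(w)) (N(A) ∩ C(w))`;
* `not_act_four`: if `|A| = 4` then no component of `C(w)/O(C(w))`, `w ∈ A#`, is active;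
* `solid`: `|A| = 4` implies `Solid 𝒜 S`.
-/

set_option autoImplicit false
set_option linter.style.haveILetI false

namespace Cfsg.Agent.TwoFusion.GoldSolid

open Subgroup
open Cfsg.Agent.TwoFusion.ClosedFam Cfsg.Agent.TwoFusion.Gold Cfsg.Agent.TwoFusion.GoldSetup
open Cfsg.Agent.TwoFusion.ClosedLocal Cfsg.Agent.TwoFusion.GoldFour

universe u

section Push

variable {G : Type u} [Group G] [Finite G] {𝒜 : Set G} (h : IsElemFam 𝒜) (S : Sylow 2 G)

include h

/-- A Sylow 2-subgroup of `H/O(H)` whose trace of the family is the image of `A`. -/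
theorem exists_sylow_push {H : Subgroup G} (hAH : fam 𝒜 (S : Subgroup G) ≤ H) :
    ∃ P : Sylow 2 (↥H ⧸ Cfsg.oddCore ↥H), fam (push 𝒜 H) (P : Subgroup (↥H ⧸ Cfsg.oddCore ↥H)) =
      ((fam 𝒜 (S : Subgroup G)).subgroupOf H).map (QuotientGroup.mk' (Cfsg.oddCore ↥H)) := by
  classical
  haveI : Fact (Nat.Prime 2) := ⟨Nat.prime_two⟩
  set A := fam 𝒜 (S : Subgroup G) with hA
  set f := QuotientGroup.mk' (Cfsg.oddCore ↥H) with hf
  have hfs : Function.Surjective f := QuotientGroup.mk'_surjective _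
  have hAp : IsPGroup 2 A := isPGroup_fam 𝒜 S.2
  have hA₁p : IsPGroup 2 (A.subgroupOf H) := hAp.comap_of_injective H.subtype H.subtype_injective
  obtain ⟨P, hP⟩ := (hA₁p.map f).exists_le_sylow
  refine ⟨P, ?_⟩
  have hle : (A.subgroupOf H).map f ≤ fam (push 𝒜 H) (P : Subgroup (↥H ⧸ Cfsg.oddCore ↥H)) := by
    rintro _ ⟨x, hx, rfl⟩
    refine mem_fam ⟨x, ?_, rfl⟩ (hP ⟨x, hx, rfl⟩)
    exact ((h.toIsClosedFam.mem_fam_iff S.2).1 hx).1
  refine (eq_of_le_of_card_ge hle ?_).symm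
  -- the order of the image
  have hinj : Set.InjOn f (A.subgroupOf H : Set H) := by
    intro x hx y hy hxy
    have h1 : x⁻¹ * y ∈ Cfsg.oddCore ↥H := by
      rw [← QuotientGroup.ker_mk' (Cfsg.oddCore ↥H), MonoidHom.mem_ker]
      change f (x⁻¹ * y) = 1
      rw [map_mul, map_inv, hxy]; group
    have h2 : x⁻¹ * y ∈ A.subgroupOf H := mul_mem (inv_mem hx) hy
    have h3 : (x⁻¹ * y) = 1 := by
      have hc : (Nat.card (Cfsg.oddCore ↥H)).Coprime 2 := Cfsg.Agent.Lib.Cores.pPrimeCore_coprime 2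
      obtain ⟨k, hk⟩ := hA₁p ⟨x⁻¹ * y, h2⟩
      have hk' : (x⁻¹ * y) ^ 2 ^ k = 1 := congrArg Subtype.val hk
      have hd1 : orderOf (x⁻¹ * y) ∣ 2 ^ k := orderOf_dvd_of_pow_eq_one hk'
      have hd2 : orderOf (x⁻¹ * y) ∣ Nat.card (Cfsg.oddCore ↥H) := by
        have := orderOf_dvd_natCard (⟨x⁻¹ * y, h1⟩ : Cfsg.oddCore ↥H)
        rwa [← orderOf_coe] at this
      have hcop : Nat.Coprime (2 ^ k) (Nat.card (Cfsg.oddCore ↥H)) :=
        Nat.Coprime.pow_left k hc.symm
      have := Nat.eq_one_of_dvd_coprimes hcop hd1 hd2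
      exact orderOf_eq_one_iff.1 this
    have : y = x * (x⁻¹ * y) := by group
    rw [this, h3, mul_one]
  have hcard1 : Nat.card ((A.subgroupOf H).map f) = Nat.card A := by
    have e1 : Nat.card ((A.subgroupOf H).map f) = Nat.card (A.subgroupOf H) := by
      have : Nat.card ((f '' (A.subgroupOf H : Set H) : Set _)) = Nat.card (A.subgroupOf H : Set H) :=
        Nat.card_image_of_injOn hinj
      exact this
    rw [e1]
    exact Nat.card_congr (subgroupOfEquivOfLe hAH).toEquiv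
  rw [hcard1]
  -- lift the trace of the family
  have hQ' : IsPGroup 2 (fam (push 𝒜 H) (P : Subgroup (↥H ⧸ Cfsg.oddCore ↥H))) := isPGroup_fam _ P.2
  obtain ⟨Q, hQ, -, hlift⟩ := exists_lift hfs _ hQ'
  have hAH' : IsElemFam {x : H | (x : G) ∈ 𝒜} := h.restrict H
  have hcov : fam (push 𝒜 H) (P : Subgroup (↥H ⧸ Cfsg.oddCore ↥H)) ≤ (fam {x : H | (x : G) ∈ 𝒜} Q).map f := by
    intro y hy
    obtain ⟨⟨x, hx, hxy⟩, -⟩ := ((h.push H).toIsClosedFam.mem_fam_iff P.2).1 hy
    have hfx : f x ∈ fam (push 𝒜 H) (P : Subgroup (↥H ⧸ Cfsg.oddCore ↥H)) := by rw [hf, hxy]; exact hy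
    obtain ⟨n, hn, hnx⟩ := hlift x (hAH'.toIsClosedFam.isPGroup_zpowers hx) hfx
    refine ⟨n * x * n⁻¹, mem_fam (hAH'.toIsClosedFam.conj_mem x hx n) hnx, ?_⟩
    rw [MonoidHom.mem_ker] at hn
    rw [map_mul, map_mul, map_inv, hn]
    rw [hf, hxy]; simp
  have h1 : Nat.card (fam (push 𝒜 H) (P : Subgroup (↥H ⧸ Cfsg.oddCore ↥H))) ≤
      Nat.card (fam {x : H | (x : G) ∈ 𝒜} Q) := by
    refine (Subgroup.card_le_of_le hcov).trans ?_
    exact Nat.card_image_le (Set.toFinite _)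
  have h2 : Nat.card (fam {x : H | (x : G) ∈ 𝒜} Q) ≤ Nat.card A := by
    have e1 : Nat.card (fam {x : H | (x : G) ∈ 𝒜} Q) =
        Nat.card ((fam {x : H | (x : G) ∈ 𝒜} Q).map H.subtype) :=
      Nat.card_congr ((fam {x : H | (x : G) ∈ 𝒜} Q).equivMapOfInjective _ H.subtype_injective).toEquiv
    rw [e1, map_fam_restrict]
    obtain ⟨T, hT⟩ := (hQ.map H.subtype).exists_le_sylow
    refine (Subgroup.card_le_of_le (fam_mono 𝒜 hT)).trans ?_
    rw [hA, card_fam_sylow h.toIsClosedFam S T]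
  exact h1.trans h2

/-- Normalizers of `A` lift modulo the core. -/
theorem exists_mul_of_mem_normalizer {H : Subgroup G} (hAH : fam 𝒜 (S : Subgroup G) ≤ H) {c : G} (hc : c ∈ H)
    (hn : (QuotientGroup.mk' (Cfsg.oddCore ↥H)) ⟨c, hc⟩ ∈
      normalizer ((((fam 𝒜 (S : Subgroup G)).subgroupOf H).map (QuotientGroup.mk' (Cfsg.oddCore ↥H)) :
        Subgroup (↥H ⧸ Cfsg.oddCore ↥H)) : Set (↥H ⧸ Cfsg.oddCore ↥H))) :
    ∃ o ∈ core H, ∃ n ∈ normalizer (fam 𝒜 (S : Subgroup G) : Set G), n ∈ H ∧ c = o * n := by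
  classical
  set A := fam 𝒜 (S : Subgroup G) with hA
  set f := QuotientGroup.mk' (Cfsg.oddCore ↥H) with hf
  have hAK : A ≤ normalizer (core H : Set G) := by
    rw [le_normalizer_iff]
    intro a ha k hk
    exact conj_mem_core (hAH ha) hk
  have hmem : ∀ x, x ∈ A ⊔ core H ↔ ∃ a ∈ A, ∃ k ∈ core H, x = a * k := by
    intro x
    have h1 : x ∈ A ⊔ core H ↔ x ∈ ((A ⊔ core H : Subgroup G) : Set G) := Iff.rfl
    rw [h1, coe_mul_of_left_le_normalizer_right _ _ hAK, Set.mem_mul]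
    constructor
    · rintro ⟨v, hv, k, hk, e⟩; exact ⟨v, hv, k, hk, e.symm⟩
    · rintro ⟨v, hv, k, hk, e⟩; exact ⟨v, hv, k, hk, e.symm⟩
  have h2 : A.map (MulAut.conj c).toMonoidHom ≤ A ⊔ core H := by
    rintro _ ⟨a, ha, rfl⟩
    have h3 : f (⟨c, hc⟩ * ⟨a, hAH ha⟩ * ⟨c, hc⟩⁻¹) ∈ (A.subgroupOf H).map f := by
      rw [map_mul, map_mul, map_inv]
      exact (mem_normalizer_iff.1 hn _).1 ⟨⟨a, hAH ha⟩, ha, rfl⟩
    obtain ⟨b, hb, hbe⟩ := h3
    rw [hmem]
    refine ⟨b, hb, (b : G)⁻¹ * (c * a * c⁻¹), ?_, by change c * a * c⁻¹ = _; group⟩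
    have h4 : b⁻¹ * (⟨c, hc⟩ * ⟨a, hAH ha⟩ * ⟨c, hc⟩⁻¹) ∈ Cfsg.oddCore ↥H := by
      rw [← QuotientGroup.ker_mk' (Cfsg.oddCore ↥H), MonoidHom.mem_ker]
      change f (b⁻¹ * (⟨c, hc⟩ * ⟨a, hAH ha⟩ * ⟨c, hc⟩⁻¹)) = 1
      rw [map_mul, map_inv, hbe, inv_mul_cancel]
    exact ⟨_, h4, rfl⟩
  obtain ⟨d, hd, hdc⟩ := exists_conj_fam h.toIsClosedFam S (H := A ⊔ core H) le_sup_left h2
  obtain ⟨a, ha, k, hk, rfl⟩ := (hmem d).1 hd
  have hnorm : a * k * c ∈ normalizer (A : Set G) := mem_normalizer_of_map_conj hdc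
  refine ⟨k⁻¹, inv_mem hk, k * c, ?_, ?_, by group⟩
  · have e : k * c = a⁻¹ * (a * k * c) := by group
    rw [e]
    exact mul_mem (inv_mem (le_normalizer ha)) hnorm
  · exact mul_mem (core_le H hk) hc

end Push

section General

variable {G : Type u} [Group G] [Finite G] {𝒜 : Set G} (h : Setup 𝒜) (S : Sylow 2 G)

include h

omit [Finite G] in
theorem fam_le_centralizer {w : G} (hw : w ∈ fam 𝒜 (S : Subgroup G)) :
    fam 𝒜 (S : Subgroup G) ≤ centralizer ({w} : Set G) := by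
  intro a ha
  exact mem_cent.2 (h.comm S a ha w hw)

/-- If no component of `C(w)/O(C(w))` is active then `C(w) = O(C(w)) N_{C(w)}(A)`. -/
theorem mul_of_not_act {w : G} (hw : w ∈ fam 𝒜 (S : Subgroup G)) (hw1 : w ≠ 1)
    (hn : ∀ L : Subgroup (↥(centralizer ({w} : Set G)) ⧸ Cfsg.oddCore ↥(centralizer ({w} : Set G))),
      Cfsg.IsComponent L → ¬ Act (push 𝒜 (centralizer ({w} : Set G))) L) {c : G} (hc : c * w = w * c) :
    ∃ o ∈ core (centralizer ({w} : Set G)), ∃ n ∈ normalizer (fam 𝒜 (S : Subgroup G) : Set G),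
      n ∈ centralizer ({w} : Set G) ∧ c = o * n := by
  have hAH := fam_le_centralizer h S hw
  obtain ⟨P, hP⟩ := exists_sylow_push h.fam S hAH
  have hN := GoldLayer.normal_of_not_act (h.ctxCent hw1) P hn
  rw [hP] at hN
  refine exists_mul_of_mem_normalizer h.fam S hAH (mem_cent.2 hc) ?_
  rw [normalizer_eq_top_iff.2 hN]
  exact mem_top _

end General

/-! ### Elementary families of order two -/

section Two

variable {L : Type u} [Group L] [Finite L] {ℬ : Set L}

/-- The trace of a nontrivial family on a Sylow subgroup is nontrivial. -/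
theorem fam_ne_bot_of (h : IsElemFam ℬ) (hne : ∃ x ∈ ℬ, x ≠ 1) (T : Sylow 2 L) : fam ℬ (T : Subgroup L) ≠ ⊥ := by
  obtain ⟨x, hx, hx1⟩ := hne
  obtain ⟨g, hg⟩ := GoldLayer.exists_conj_mem h T hx
  intro hbot
  rw [hbot, mem_bot, mul_inv_eq_one, mul_eq_left] at hg
  exact hx1 hg

/-- In a simple nonabelian group the trace of an elementary family on a Sylow subgroup does not have order two
(Glauberman). -/
theorem card_ne_two_of (hsimple : IsSimpleGroup L) (hnonab : ∃ a b : L, a * b ≠ b * a) (h : IsElemFam ℬ)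
    (T : Sylow 2 L) : Nat.card (fam ℬ (T : Subgroup L)) ≠ 2 := by
  intro h2
  have hne : ∃ x ∈ fam ℬ (T : Subgroup L), x ≠ 1 := by
    by_contra hcon
    push Not at hcon
    have : fam ℬ (T : Subgroup L) = ⊥ := by
      rw [eq_bot_iff]; intro x hx; rw [mem_bot]; exact hcon x hx
    rw [this, card_bot] at h2
    omega
  obtain ⟨z, hz, hz1⟩ := hne
  have hz' := (h.toIsClosedFam.mem_fam_iff T.2).1 hz
  have huniq : ∀ y ∈ fam ℬ (T : Subgroup L), y ≠ 1 → y = z := by
    intro y hy hy1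
    rw [Nat.card_eq_two_iff' (⟨1, one_mem _⟩ : fam ℬ (T : Subgroup L))] at h2
    obtain ⟨u, -, hu⟩ := h2
    have e1 := hu ⟨y, hy⟩ (fun e => hy1 (congrArg Subtype.val e))
    have e2 := hu ⟨z, hz⟩ (fun e => hz1 (congrArg Subtype.val e))
    exact congrArg Subtype.val (e1.trans e2.symm)
  obtain ⟨N, hN, hNodd, hcom⟩ := Cfsg.Agent.S0215.result T z (h.orderOf_eq hz'.1 hz1) hz'.2 (by
    intro g hg
    apply huniq
    · rw [h.toIsClosedFam.mem_fam_iff T.2]
      exact ⟨h.conj_mem z hz'.1 g, hg⟩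
    · intro e
      rw [mul_inv_eq_one, mul_eq_left] at e
      exact hz1 e)
  rcases IsSimpleGroup.eq_bot_or_eq_top_of_normal N hN with hb | ht
  · have hzc : z ∈ center L := by
      rw [mem_center_iff]
      intro g
      have := hcom g
      rw [hb, mem_bot] at this
      have e : z * g = g * z := by
        have : z * g * z⁻¹ * g⁻¹ * g * z = g * z := by rw [this]; group
        rw [← this]; group
      exact e.symm
    rcases IsSimpleGroup.eq_bot_or_eq_top_of_normal (center L) inferInstance with hc | hc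
    · rw [hc, mem_bot] at hzc; exact hz1 hzc
    · obtain ⟨a, b, hab⟩ := hnonab
      apply hab
      have : b ∈ center L := by rw [hc]; exact mem_top b
      exact mem_center_iff.1 this a
  · rw [ht, card_top] at hNodd
    have h3 : orderOf z = 2 := h.orderOf_eq hz'.1 hz1
    have h4 : 2 ∣ Nat.card L := h3 ▸ orderOf_dvd_natCard z
    exact (Nat.not_even_iff_odd.2 hNodd) (even_iff_two_dvd.2 h4)

end Two

/-! ### No active components if `A` has order four and meets the centre -/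

section NoAct

variable {X : Type u} [Group X] [Finite X] {𝒜 : Set X}

theorem quasisimple_nonab {K : Type*} [Group K] (hK : Cfsg.IsQuasisimple K) :
    ∃ a b : K ⧸ center K, a * b ≠ b * a := by
  by_contra hcon
  push Not at hcon
  apply Cfsg.Agent.Lib.ComponentSolvable.quasisimple_not_solvable hK
  haveI h1 : Group.IsSolvable (K ⧸ center K) := Group.isSolvable_of_comm hcon
  haveI h2 : Group.IsSolvable ↥(center K) := Group.isSolvable_of_comm (fun a b => by
    apply Subtype.ext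
    exact (mem_center_iff.1 b.2 a))
  exact Group.isSolvable_of_ker_le_range (center K).subtype (QuotientGroup.mk' (center K))
    (by rw [QuotientGroup.ker_mk', Subgroup.range_subtype])

/-- If `A` has order at most four and contains a central involution of `X`, then no component is active. -/
theorem not_act_of_card_le (h : IsElemFam 𝒜) (S : Sylow 2 X) (h4 : Nat.card (fam 𝒜 (S : Subgroup X)) ≤ 4)
    {w : X} (hw : w ∈ 𝒜) (hw1 : w ≠ 1) (hwc : ∀ x : X, w * x = x * w)
    (L : Subgroup X) (hL : Cfsg.IsComponent L) : ¬ Act 𝒜 L := by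
  classical
  haveI : Fact (Nat.Prime 2) := ⟨Nat.prime_two⟩
  rintro ⟨x₀, hx₀, hx₀L, y₀, hy₀, hxy₀⟩
  set f := QuotientGroup.mk' (center ↥L) with hf
  have hfs : Function.Surjective f := QuotientGroup.mk'_surjective _
  have hr : IsElemFam {l : L | (l : X) ∈ 𝒜} := h.restrict L
  set ℬ : Set (↥L ⧸ center ↥L) := f '' {l : L | (l : X) ∈ 𝒜} with hB
  have hBe : IsElemFam ℬ := hr.image hfs
  obtain ⟨T⟩ : Nonempty (Sylow 2 (↥L ⧸ center ↥L)) := inferInstance
  have hne : ∃ b ∈ ℬ, b ≠ 1 := by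
    refine ⟨f ⟨x₀, hx₀L⟩, ⟨⟨x₀, hx₀L⟩, hx₀, rfl⟩, ?_⟩
    intro e
    have h1 : (⟨x₀, hx₀L⟩ : L) ∈ center ↥L := by
      rw [← QuotientGroup.ker_mk' (center ↥L)]; exact e
    have h2 := mem_center_iff.1 h1 ⟨y₀, hy₀⟩
    exact hxy₀ (congrArg Subtype.val h2).symm
  have hTp : IsPGroup 2 (fam ℬ (T : Subgroup (↥L ⧸ center ↥L))) := isPGroup_fam _ T.2
  obtain ⟨Q, hQ, -, hlift⟩ := exists_lift hfs _ hTp
  have hker : ∀ n ∈ f.ker, ∀ l : L, n * l * n⁻¹ = l := by
    intro n hn l
    rw [hf, QuotientGroup.ker_mk'] at hn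
    rw [← mem_center_iff.1 hn l]; group
  -- all the elements of the family over `T` lie in `Q`
  have hcov : ∀ b ∈ fam ℬ (T : Subgroup (↥L ⧸ center ↥L)), ∃ l : L, (l : X) ∈ 𝒜 ∧ l ∈ Q ∧ f l = b := by
    intro b hb
    obtain ⟨⟨l, hl, hlb⟩, -⟩ := (hBe.toIsClosedFam.mem_fam_iff T.2).1 hb
    obtain ⟨n, hn, hnl⟩ := hlift l (hr.toIsClosedFam.isPGroup_zpowers hl) (by rw [hlb]; exact hb)
    rw [hker n hn l] at hnl
    exact ⟨l, hl, hnl, hlb⟩
  -- a 2-group containing `Q` and `w`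
  have hwp : IsPGroup 2 (zpowers w) := h.toIsClosedFam.isPGroup_zpowers hw
  have hQp : IsPGroup 2 (Q.map L.subtype) := hQ.map _
  have hwn : zpowers w ≤ normalizer ((Q.map L.subtype : Subgroup X) : Set X) := by
    rw [zpowers_le, mem_normalizer_iff]
    intro x
    have e : w * x * w⁻¹ = x := by rw [hwc x]; group
    rw [e]
  have hQwp : IsPGroup 2 ((zpowers w ⊔ Q.map L.subtype : Subgroup X)) :=
    IsPGroup.to_sup_of_normal_right' hwp hQp hwn
  obtain ⟨P, hP⟩ := hQwp.exists_le_sylow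
  have hPcard : Nat.card (fam 𝒜 (P : Subgroup X)) ≤ 4 := by
    rw [card_fam_sylow h.toIsClosedFam P S]; exact h4
  have hwP : w ∈ fam 𝒜 (P : Subgroup X) := mem_fam hw (hP ((le_sup_left : zpowers w ≤ _) (mem_zpowers w)))
  have hlP : ∀ l : L, (l : X) ∈ 𝒜 → l ∈ Q → (l : X) ∈ fam 𝒜 (P : Subgroup X) := fun l hl hlQ =>
    mem_fam hl (hP ((le_sup_right : Q.map L.subtype ≤ _) ⟨l, hlQ, rfl⟩))
  -- `w` is not equal to an element with nontrivial image
  have hnw : ∀ l : L, f l ≠ 1 → (l : X) ≠ w := by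
    intro l hl e
    apply hl
    have h1 : l ∈ center ↥L := by
      rw [mem_center_iff]
      intro g
      apply Subtype.ext
      change (g : X) * l = l * g
      rw [e]; exact (hwc g).symm
    rw [← QuotientGroup.ker_mk' (center ↥L)] at h1
    exact h1
  have hcard : Nat.card (fam ℬ (T : Subgroup (↥L ⧸ center ↥L))) = 2 := by
    obtain ⟨b, hb⟩ := Subgroup.ne_bot_iff_exists_ne_one.1 (fam_ne_bot_of hBe hne T)
    rw [Nat.card_eq_two_iff' (⟨1, one_mem _⟩ : fam ℬ (T : Subgroup (↥L ⧸ center ↥L)))]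
    refine ⟨b, hb, ?_⟩
    rintro ⟨c, hc⟩ hc1
    have hc1' : c ≠ 1 := fun e => hc1 (Subtype.ext e)
    have hb1' : (b : ↥L ⧸ center ↥L) ≠ 1 := fun e => hb (Subtype.ext e)
    obtain ⟨l, hl, hlQ, hlb⟩ := hcov b b.2
    obtain ⟨m, hm, hmQ, hmc⟩ := hcov c hc
    apply Subtype.ext
    change c = b
    by_contra hcb
    -- five different elements of `fam 𝒜 P`
    have hl1 : (l : X) ≠ 1 := fun e => hb1' (by
      have : l = 1 := Subtype.ext e
      rw [← hlb, this, map_one])
    have hm1 : (m : X) ≠ 1 := fun e => hc1' (by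
      have : m = 1 := Subtype.ext e
      rw [← hmc, this, map_one])
    have hlm : (l : X) ≠ m := fun e => hcb (by
      have : l = m := Subtype.ext e
      rw [← hlb, ← hmc, this])
    have hlw : (l : X) ≠ w := hnw l (by rw [hlb]; exact hb1')
    have hmw : (m : X) ≠ w := hnw m (by rw [hmc]; exact hc1')
    have hlmL : f (l * m) ≠ 1 := by
      intro e
      apply hcb
      rw [map_mul, hlb, hmc] at e
      have h5 : (b : ↥L ⧸ center ↥L) * b = 1 := hBe.sq _ ((hBe.toIsClosedFam.mem_fam_iff T.2).1 b.2).1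
      exact mul_left_cancel (e.trans h5.symm)
    have hlmw : (l : X) * m ≠ w := hnw (l * m) hlmL
    have hlm1 : (l : X) * m ≠ 1 := fun e => hlmL (by
      have : l * m = 1 := Subtype.ext e
      rw [this, map_one])
    have hlml : (l : X) * m ≠ l := fun e => hm1 (mul_eq_left.1 e)
    have hlmm : (l : X) * m ≠ m := fun e => hl1 (mul_eq_right.1 e)
    let s : Finset (fam 𝒜 (P : Subgroup X)) :=
      {⟨1, one_mem _⟩, ⟨w, hwP⟩, ⟨l, hlP l hl hlQ⟩, ⟨m, hlP m hm hmQ⟩,
        ⟨l * m, mul_mem (hlP l hl hlQ) (hlP m hm hmQ)⟩}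
    have hs : s.card = 5 := by
      simp only [s]
      rw [Finset.card_insert_of_notMem, Finset.card_insert_of_notMem, Finset.card_insert_of_notMem,
        Finset.card_insert_of_notMem, Finset.card_singleton]
      · simp only [Finset.mem_singleton, Subtype.mk.injEq]; exact fun e => hlmm e.symm
      · simp only [Finset.mem_insert, Finset.mem_singleton, Subtype.mk.injEq]
        rintro (e | e)
        · exact hlm e
        · exact hlml e.symm
      · simp only [Finset.mem_insert, Finset.mem_singleton, Subtype.mk.injEq]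
        rintro (e | e | e)
        · exact hlw e.symm
        · exact hmw e.symm
        · exact hlmw e.symm
      · simp only [Finset.mem_insert, Finset.mem_singleton, Subtype.mk.injEq]
        rintro (e | e | e | e)
        · exact hw1 e.symm
        · exact hl1 e.symm
        · exact hm1 e.symm
        · exact hlm1 e.symm
    have hfin : Fintype (fam 𝒜 (P : Subgroup X)) := Fintype.ofFinite _
    have := Finset.card_le_univ s
    rw [hs, ← Nat.card_eq_fintype_card] at this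
    omega
  exact card_ne_two_of hL.2.2 (quasisimple_nonab hL.2) hBe T hcard

end NoAct

section Final

variable {G : Type u} [Group G] [Finite G] {𝒜 : Set G} (h : Setup 𝒜) (S : Sylow 2 G)

include h

/-- If `|A| = 4` then no component of `C(w)/O(C(w))`, `w ∈ A#`, is active. -/
theorem not_act_four (h4 : Nat.card (fam 𝒜 (S : Subgroup G)) = 4) {w : G}
    (hw : w ∈ fam 𝒜 (S : Subgroup G)) (hw1 : w ≠ 1)
    (L : Subgroup (↥(centralizer ({w} : Set G)) ⧸ Cfsg.oddCore ↥(centralizer ({w} : Set G))))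
    (hL : Cfsg.IsComponent L) : ¬ Act (push 𝒜 (centralizer ({w} : Set G))) L := by
  have hAH := fam_le_centralizer h S hw
  obtain ⟨P, hP⟩ := exists_sylow_push h.fam S hAH
  have hwH : w ∈ centralizer ({w} : Set G) := hAH hw
  have hcard : Nat.card (fam (push 𝒜 (centralizer ({w} : Set G)))
      (P : Subgroup (↥(centralizer ({w} : Set G)) ⧸ Cfsg.oddCore ↥(centralizer ({w} : Set G))))) ≤ 4 := by
    rw [hP]
    refine (Nat.card_image_le (Set.toFinite _)).trans ?_
    change Nat.card ((fam 𝒜 (S : Subgroup G)).subgroupOf (centralizer ({w} : Set G))) ≤ 4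
    rw [Nat.card_congr (subgroupOfEquivOfLe hAH).toEquiv, h4]
  have hwA : w ∈ 𝒜 := ((h.mem_iff S).1 hw).1
  refine not_act_of_card_le (h.fam.push _) P hcard
    (w := QuotientGroup.mk' (Cfsg.oddCore ↥(centralizer ({w} : Set G))) ⟨w, hwH⟩) ⟨⟨w, hwH⟩, hwA, rfl⟩ ?_ ?_ L hL
  · intro e
    have h1 : (⟨w, hwH⟩ : centralizer ({w} : Set G)) ∈ Cfsg.oddCore ↥(centralizer ({w} : Set G)) := by
      rw [← QuotientGroup.ker_mk' (Cfsg.oddCore ↥(centralizer ({w} : Set G)))]; exact e
    have h2 : orderOf w ∣ Nat.card (Cfsg.oddCore ↥(centralizer ({w} : Set G))) := by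
      have h3 := orderOf_dvd_natCard (⟨_, h1⟩ : Cfsg.oddCore ↥(centralizer ({w} : Set G)))
      rwa [← orderOf_coe, ← orderOf_coe] at h3
    rw [h.fam.orderOf_eq hwA hw1] at h2
    have h3 : (Nat.card (Cfsg.oddCore ↥(centralizer ({w} : Set G)))).Coprime 2 :=
      Cfsg.Agent.Lib.Cores.pPrimeCore_coprime 2
    have h5 : (2 : ℕ) = 1 := Nat.eq_one_of_dvd_coprimes h3 h2 (dvd_refl 2)
    omega
  · intro x
    obtain ⟨y, rfl⟩ := QuotientGroup.mk'_surjective _ x
    rw [← map_mul, ← map_mul]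
    congr 1
    apply Subtype.ext
    exact (mem_cent.1 y.2).symm

/-- `|A| = 4` implies `Solid`. -/
theorem solid (h4 : Nat.card (fam 𝒜 (S : Subgroup G)) = 4) : Solid 𝒜 S := by
  intro w hw hw1 c hc
  obtain ⟨o, ho, n, hn, -, e⟩ := mul_of_not_act h S hw hw1 (fun L hL => not_act_four h S h4 hw hw1 L hL) hc
  exact ⟨o, ho, n, hn, e⟩

end Final

end Cfsg.Agent.TwoFusion.GoldSolid
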