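import Cfsg.Agent.TwoFusion.GoldBalanceAux
import Cfsg.Agent.TwoFusion.GoldPairDefs
import Cfsg.Agent.TwoFusion.GoldSolid
import Cfsg.Agent.TwoFusion.GoldInner
import Cfsg.Agent.TwoFusion.GoldInnerJ

/-!
# Goldschmidt's theorem, section 2: L-balance for pairs

A pair `(w, L)` with `|A : C_A(L)|` maximal persists in `X_d` for `1 ≠ d ∈ C_A(L)`.
-/

set_option autoImplicit false
set_option linter.unusedSectionVars false

namespace Cfsg.Agent.TwoFusion.GoldBalance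

open Subgroup Cfsg
open Cfsg.Agent.SignalizersComponents
open Cfsg.Agent.SignalizersComponents.IntrinsicBasic Cfsg.Agent.SignalizersComponents.IntrinsicIntr
open Cfsg.Agent.SignalizersComponents.PLayerAut Cfsg.Agent.SignalizersComponents.IntrinsicBalance
open Cfsg.Agent.SignalizersComponents.IntrinsicTools Cfsg.Agent.SignalizersComponents.IntrinsicLift
open Cfsg.Agent.TwoFusion.ClosedFam Cfsg.Agent.TwoFusion.Gold
open Cfsg.Agent.TwoFusion.GoldPairDefs Cfsg.Agent.TwoFusion.GoldBalanceAux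

universe u

variable {G : Type u} [Group G] [Finite G]

/-- The 2-component of `C(w)` of a component of `X_w`. -/
theorem exists_tc {w : G} {L : Subgroup (Xw w)} (hL : Cfsg.IsComponent L) :
    ∃ K : Subgroup G, TC (Cw w) K ∧ (K.subgroupOf (Cw w)).map (pw w) = L := by
  have : Fact (Nat.Prime 2) := ⟨Nat.prime_two⟩
  obtain ⟨K', hK', hKL⟩ := Lib.PComponents.exists_pcomp (p := 2) (X := ↥(Cw w)) hL
  have e : (K'.map (Cw w).subtype).subgroupOf (Cw w) = K' :=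
    comap_map_eq_self_of_injective (Cw w).subtype_injective K'
  refine ⟨K'.map (Cw w).subtype, ⟨map_subtype_le K', ?_⟩, ?_⟩
  · rw [e]; exact hK'
  · rw [e]; exact hKL

theorem DD_eq {A : Subgroup G} {w : G} {L : Subgroup (Xw w)} {K : Subgroup G}
    (hKL : (K.subgroupOf (Cw w)).map (pw w) = L) : DD A w L = A ⊓ cenMod (Cw w) K := by
  rw [← hKL]
  rfl

/-- The elements of `C(w)` mapping into `L` are the products of elements of `K` and of the core. -/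
theorem map_mem_iff {w : G} {L : Subgroup (Xw w)} {K : Subgroup G}
    (hKL : (K.subgroupOf (Cw w)).map (pw w) = L) {x : G} (hx : x ∈ Cw w) (hKw : K ≤ Cw w) :
    pw w ⟨x, hx⟩ ∈ L ↔ ∃ k ∈ K, k⁻¹ * x ∈ relCore 2 (Cw w) := by
  rw [← hKL]
  constructor
  · rintro ⟨k, hk, hkx⟩
    exact ⟨k, hk, mk_eq_mk_iff.1 hkx⟩
  · rintro ⟨k, hk, hkx⟩
    exact ⟨⟨k, hKw hk⟩, hk, mk_eq_mk_iff.2 hkx⟩

/-- The family normalizes the 2-components of `C(w)`. -/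
theorem mem_normalizer_tc {𝒜 : Set G} {w : G} (hctx : Ctx (push 𝒜 (Cw w))) {K : Subgroup G}
    (hK : TC (Cw w) K) {a : G} (ha : a ∈ 𝒜) (haw : a ∈ Cw w) : a ∈ normalizer (K : Set G) := by
  have h1 : pw w ⟨a, haw⟩ ∈ normalizer
      (((K.subgroupOf (Cw w)).map (pw w) : Subgroup (Xw w)) : Set (Xw w)) :=
    Gold.mem_normalizer hctx.fam hctx.core hK.comp.2.1 ⟨⟨a, haw⟩, ha, rfl⟩
  have h2 := PCompCore.mem_normalizer_of_mk_normalizes hK.comp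
    (g := ⟨a, haw⟩) (mem_normalizer_iff_map_conj_eq.1 h1)
  rw [mem_normalizer_iff] at h2 ⊢
  intro m
  constructor
  · intro hm
    exact (h2 ⟨m, hK.le hm⟩).1 hm
  · intro hm
    have h3 : a⁻¹ * (a * m * a⁻¹) * a ∈ Cw w :=
      mul_mem (mul_mem (inv_mem haw) (hK.le hm)) haw
    have h4 : a⁻¹ * (a * m * a⁻¹) * a = m := by group
    rw [h4] at h3
    exact (h2 ⟨m, h3⟩).2 hm

/-- An element of `K O` normalizing `A` acts on `A` like an element of `K`. -/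
theorem exists_rep {A K O : Subgroup G} (hA : IsPGroup 2 A)
    (hO : Odd (Nat.card O)) (hAK : A ≤ normalizer (K : Set G)) (hAO : A ≤ normalizer (O : Set G))
    (hKO : K ≤ normalizer (O : Set G)) (h2 : ∀ x ∈ A, (∃ k ∈ K, k⁻¹ * x ∈ O) → x ∈ K) {g : G}
    (hg : ∃ k ∈ K, k⁻¹ * g ∈ O) (hgA : g ∈ normalizer (A : Set G)) :
    ∃ g' ∈ K, g' ∈ normalizer (A : Set G) ∧ ∀ a ∈ A, g * a * g⁻¹ = g' * a * g'⁻¹ := by
  classical
  have : Fact (Nat.Prime 2) := ⟨Nat.prime_two⟩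
  obtain ⟨k, hk, hkg⟩ := hg
  -- the coset
  let T : Set G := {x | x ∈ O ∧ g⁻¹ * x ∈ K}
  have hx₀ : g * k⁻¹ ∈ T := by
    refine ⟨?_, ?_⟩
    · have h1 := (mem_normalizer_iff.1 (hKO hk) _).1 hkg
      have h3 : k * (k⁻¹ * g) * k⁻¹ = g * k⁻¹ := by group
      rwa [h3] at h1
    · rw [inv_mul_cancel_left]; exact inv_mem hk
  have hinv : ∀ a ∈ A, ∀ x ∈ T, a * x * a⁻¹ ∈ T := by
    rintro a ha x ⟨hxO, hxK⟩
    refine ⟨(mem_normalizer_iff.1 (hAO ha) _).1 hxO, ?_⟩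
    have hy : g⁻¹ * a * g * a⁻¹ ∈ A := by
      have h1 := (mem_normalizer_iff.1 (inv_mem hgA) a).1 ha
      rw [inv_inv] at h1
      exact mul_mem h1 (inv_mem ha)
    have hκ : k⁻¹ * (a * k * a⁻¹) ∈ K := mul_mem (inv_mem hk) ((mem_normalizer_iff.1 (hAK ha) _).1 hk)
    have hyK : g⁻¹ * a * g * a⁻¹ ∈ K := by
      refine h2 _ hy ⟨k⁻¹ * (a * k * a⁻¹), hκ, ?_⟩
      have h1 : (k⁻¹ * (a * k * a⁻¹))⁻¹ * (k⁻¹ * g)⁻¹ * (k⁻¹ * (a * k * a⁻¹))⁻¹⁻¹ ∈ O :=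
        (mem_normalizer_iff.1 (hKO (inv_mem hκ)) _).1 (inv_mem hkg)
      have h3 := mul_mem h1 ((mem_normalizer_iff.1 (hAO ha) _).1 hkg)
      have h4 : (k⁻¹ * (a * k * a⁻¹))⁻¹ * (k⁻¹ * g)⁻¹ * (k⁻¹ * (a * k * a⁻¹))⁻¹⁻¹ *
          (a * (k⁻¹ * g) * a⁻¹) = (k⁻¹ * (a * k * a⁻¹))⁻¹ * (g⁻¹ * a * g * a⁻¹) := by group
      rwa [h4] at h3
    have h1 := mul_mem hyK ((mem_normalizer_iff.1 (hAK ha) _).1 hxK)
    have h3 : g⁻¹ * a * g * a⁻¹ * (a * (g⁻¹ * x) * a⁻¹) = g⁻¹ * (a * x * a⁻¹) := by group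
    rwa [h3] at h1
  -- the action
  let act : MulAction A T :=
    { smul := fun a x => ⟨(a : G) * x * (a : G)⁻¹, hinv a a.2 x x.2⟩
      one_smul := fun x => Subtype.ext (by
        change ((1 : A) : G) * x * ((1 : A) : G)⁻¹ = x
        simp)
      mul_smul := fun a b x => Subtype.ext (by
        change ((a * b : A) : G) * x * ((a * b : A) : G)⁻¹ =
          (a : G) * ((b : G) * x * (b : G)⁻¹) * (a : G)⁻¹
        push_cast
        group) }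
  have hcard : Nat.card T = Nat.card ↥(K ⊓ O) := by
    refine Nat.card_congr
      { toFun := fun x => ⟨(g * k⁻¹)⁻¹ * x, ?_⟩
        invFun := fun y => ⟨g * k⁻¹ * y, ?_⟩
        left_inv := fun x => Subtype.ext (by
          change g * k⁻¹ * ((g * k⁻¹)⁻¹ * (x : G)) = x
          rw [mul_inv_cancel_left])
        right_inv := fun y => Subtype.ext (by
          change (g * k⁻¹)⁻¹ * (g * k⁻¹ * (y : G)) = y
          rw [inv_mul_cancel_left]) }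
    · refine mem_inf.2 ⟨?_, mul_mem (inv_mem hx₀.1) x.2.1⟩
      have h1 := mul_mem hk x.2.2
      have h3 : k * (g⁻¹ * (x : G)) = (g * k⁻¹)⁻¹ * x := by group
      rwa [h3] at h1
    · refine ⟨mul_mem hx₀.1 y.2.2, ?_⟩
      have h1 := mul_mem (inv_mem hk) y.2.1
      have h3 : g⁻¹ * (g * k⁻¹ * (y : G)) = k⁻¹ * y := by group
      rwa [← h3] at h1
  have hodd : Odd (Nat.card T) := by
    rw [hcard]
    exact Odd.of_dvd_nat hO (Subgroup.card_dvd_of_le inf_le_right)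
  have hfin : Finite T := Subtype.finite
  have hmod := hA.card_modEq_card_fixedPoints T
  have hne : Nat.card (MulAction.fixedPoints A T) ≠ 0 := by
    intro h0
    rw [h0] at hmod
    have h1 := (Nat.modEq_zero_iff_dvd).1 hmod
    exact (Nat.not_even_iff_odd.2 hodd) (even_iff_two_dvd.2 h1)
  obtain ⟨⟨⟨c, hc⟩, hcfix⟩⟩ : Nonempty (MulAction.fixedPoints A T) := by
    by_contra hcon
    rw [not_nonempty_iff] at hcon
    exact hne Nat.card_of_isEmpty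
  have hcA : ∀ a ∈ A, a * c * a⁻¹ = c := by
    intro a ha
    have h1 := hcfix ⟨a, ha⟩
    exact congrArg Subtype.val h1
  have hcA' : ∀ a ∈ A, c⁻¹ * a * c = a := by
    intro a ha
    have h1 := hcA a ha
    have h3 : a * c = c * a := by
      rw [mul_inv_eq_iff_eq_mul] at h1
      exact h1
    rw [mul_assoc, h3, inv_mul_cancel_left]
  refine ⟨c⁻¹ * g, ?_, ?_, ?_⟩
  · have h1 := inv_mem hc.2
    rwa [mul_inv_rev, inv_inv] at h1
  · refine mul_mem (inv_mem ?_) hgA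
    rw [mem_normalizer_iff]
    intro a
    have hcent : c ∈ centralizer (A : Set G) := by
      rw [mem_centralizer_iff]
      intro a ha
      have h1 := hcA a ha
      rw [mul_inv_eq_iff_eq_mul] at h1
      exact h1
    exact mem_normalizer_iff.1 (centralizer_le_normalizer _ hcent) a
  · intro a ha
    have h1 : g * a * g⁻¹ ∈ A := (mem_normalizer_iff.1 hgA a).1 ha
    have h3 := hcA' _ h1
    rw [mul_inv_rev, inv_inv]
    calc g * a * g⁻¹ = c⁻¹ * (g * a * g⁻¹) * c := h3.symm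
      _ = c⁻¹ * g * a * (g⁻¹ * c) := by group

/-- The main step. -/
theorem balance {𝒜 : Set G} (h : IsElemFam 𝒜) (S : Sylow 2 G)
    (hctx : ∀ w ∈ 𝒜, w ≠ 1 → Ctx (push 𝒜 (Cw w))) : Balance 𝒜 (fam 𝒜 (S : Subgroup G)) := by
  intro w L d hp hd hd1 hmax
  have : Fact (Nat.Prime 2) := ⟨Nat.prime_two⟩
  set A := fam 𝒜 (S : Subgroup G) with hA
  have hAmem : ∀ {x : G}, x ∈ A ↔ x ∈ 𝒜 ∧ x ∈ (S : Subgroup G) := fun {x} =>
    h.toIsClosedFam.mem_fam_iff S.2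
  have hAcomm : ∀ a ∈ A, ∀ b ∈ A, a * b = b * a := fun a ha b hb =>
    h.comm S.2 (hAmem.1 ha).1 (hAmem.1 ha).2 (hAmem.1 hb).1 (hAmem.1 hb).2
  have hAsq : ∀ a ∈ A, a * a = 1 := fun a ha => h.sq a (hAmem.1 ha).1
  have hAp : IsPGroup 2 A := isPGroup_fam 𝒜 S.2
  have hACw : ∀ x ∈ A, A ≤ Cw x := fun x hx a ha => mem_Cw.2 (hAcomm x hx a ha)
  have hwA : w ∈ A := hp.mem
  have hctxw := hctx w (hAmem.1 hwA).1 hp.ne
  obtain ⟨K, hK, hKL⟩ := exists_tc hp.comp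
  rw [DD_eq hKL] at hd
  obtain ⟨hdA, hdK⟩ := mem_inf.1 hd
  have hctxd := hctx d (hAmem.1 hdA).1 hd1
  have hdw : d ∈ Cw w := hACw w hwA hdA
  have hwd : w ∈ Cw d := hACw d hdA hwA
  -- the covering 2-component `K₁` of `C(w) ∩ C(d)`
  obtain ⟨K₁, hK₁, hK₁K, hcov, h2el⟩ := exists_comp_cen hK hdw (hAsq d hdA) hdK
  have hK₁' : TC (Cw d ⊓ centralizer ({w} : Set G)) K₁ := by
    rw [inf_comm]; exact hK₁
  have hHw : Cw w ⊓ centralizer ({d} : Set G) ≤ Cw w := inf_le_left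
  have hHd : Cw w ⊓ centralizer ({d} : Set G) ≤ Cw d := inf_le_right
  have hAH : A ≤ Cw w ⊓ centralizer ({d} : Set G) := le_inf (hACw w hwA) (hACw d hdA)
  obtain ⟨M, hM, hnot⟩ := exists_not_le hwd (hAsq w hwA) hK₁'
  set ML : Subgroup (Xw d) := (M.subgroupOf (Cw d)).map (pw d) with hML
  have hMcomp : Cfsg.IsComponent ML := hM.comp.2.1
  have hDM : DD A d ML = A ⊓ cenMod (Cw d) M := DD_eq rfl
  -- `A` normalizes `M` and `K₁`
  have hAM : ∀ a ∈ A, a ∈ normalizer (M : Set G) := fun a ha =>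
    mem_normalizer_tc hctxd hM (hAmem.1 ha).1 (hACw d hdA ha)
  have hAK : ∀ a ∈ A, a ∈ normalizer (K₁ : Set G) := by
    intro a ha
    rw [mem_normalizer_iff_cj]
    by_contra hne
    have h1 : cj a K₁ ≤ cenMod (Cw w ⊓ centralizer ({d} : Set G)) K₁ :=
      hK₁.le_cenMod (hK₁.cj_of_mem (le_normalizer (hAH ha))) (fun e => hne e.symm)
    apply not_le_cenMod hK
    intro k hk
    have hk' : a⁻¹ * k * a ∈ K := by
      have h2 := (mem_normalizer_iff.1 (inv_mem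
        (mem_normalizer_tc hctxw hK (hAmem.1 ha).1 (hACw w hwA ha))) k).1 hk
      rwa [inv_inv] at h2
    obtain ⟨l, hl, hlk⟩ := hcov _ hk'
    have h2 : a * l * a⁻¹ ∈ cj a K₁ := conj_mem_cj hl
    have h3 := h1 h2
    have h4 : a * l * a⁻¹ ∈ Cw w ⊓ centralizer ({d} : Set G) :=
      mul_mem (mul_mem (hAH ha) (hK₁.le hl)) (inv_mem (hAH ha))
    have h5 := (cenMod_iff hK hHw hK₁ hK₁K hcov h4).1 h3
    have h6 := relCore_le_cenMod (Cw w) K (conj_mem_relCore' (hACw w hwA ha) hlk)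
    have h7 := mul_mem h5 h6
    have h8 : a * l * a⁻¹ * (a * (l⁻¹ * (a⁻¹ * k * a)) * a⁻¹) = k := by group
    rwa [h8] at h7
  -- `K₁` acts on `M` as a group of inner automorphisms
  have hK₁M : K₁ ≤ M ⊔ cenMod (Cw d) M := IntrinsicBalance.balance hwd (hAsq w hwA) hK₁' hM
  have hK₁C : K₁ ≤ normalizer (cenMod (Cw d) M : Set G) := by
    intro k hk
    have h1 : k ∈ normalizer (M : Set G) := sup_le_normalizer hM (hK₁M hk)
    exact cenMod_normal hM.le (cj_eq_self_of_mem (hK₁'.le hk).1) (mem_normalizer_iff_cj.1 h1)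
  have hAC : A ≤ normalizer (cenMod (Cw d) M : Set G) := by
    intro a ha
    exact cenMod_normal hM.le (cj_eq_self_of_mem (hACw d hdA ha)) (mem_normalizer_iff_cj.1 (hAM a ha))
  -- proper normal subgroups of `K₁`
  have hprop : ∀ N ≤ K₁, (∀ k ∈ K₁, ∀ n ∈ N, k * n * k⁻¹ ∈ N) → N ≠ K₁ →
      ∀ n ∈ N, n ∈ cenMod (Cw w) K := by
    intro N hN hn hne n hnN
    rcases normal_cases hK₁ hN hn with h1 | h1
    · exact absurd h1 hne
    · exact (cenMod_iff hK hHw hK₁ hK₁K hcov (hK₁.le (hN hnN))).1 (h1 hnN)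
  have hA3 : ∀ b ∈ K₁, b ∈ cenMod (Cw d) M → b ∈ cenMod (Cw w) K := by
    intro b hb hbM
    refine hprop (K₁ ⊓ cenMod (Cw d) M) inf_le_left ?_ ?_ b (mem_inf.2 ⟨hb, hbM⟩)
    · intro k hk n hn
      exact mem_inf.2 ⟨K₁.mul_mem (K₁.mul_mem hk hn.1) (K₁.inv_mem hk),
        (mem_normalizer_iff.1 (hK₁C hk) n).1 hn.2⟩
    · intro e
      exact hnot (e ▸ inf_le_right)
  -- inner action (1.4)
  obtain ⟨P, hP⟩ := GoldSolid.exists_sylow_push h S (hACw w hwA)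
  have hPmem : ∀ x : Xw w, x ∈ push 𝒜 (Cw w) → x ∈ (P : Subgroup (Xw w)) →
      ∃ a ∈ A, ∃ ha : a ∈ Cw w, pw w ⟨a, ha⟩ = x := by
    intro x hx hxP
    have h1 : x ∈ fam (push 𝒜 (Cw w)) (P : Subgroup (Xw w)) := mem_fam hx hxP
    rw [hP] at h1
    obtain ⟨a, ha, hax⟩ := h1
    exact ⟨a, ha, a.2, hax⟩
  have hPA : ∀ a, ∀ ha : a ∈ A, pw w ⟨a, hACw w hwA ha⟩ ∈ push 𝒜 (Cw w) ∧
      pw w ⟨a, hACw w hwA ha⟩ ∈ (P : Subgroup (Xw w)) := by
    intro a ha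
    have h1 : pw w ⟨a, hACw w hwA ha⟩ ∈ fam (push 𝒜 (Cw w)) (P : Subgroup (Xw w)) := by
      rw [hP]
      exact ⟨⟨a, hACw w hwA ha⟩, ha, rfl⟩
    exact ((h.push (Cw w)).toIsClosedFam.mem_fam_iff P.2).1 h1
  have hAK₁ : ∀ b ∈ A, (∃ hb : b ∈ Cw w, pw w ⟨b, hb⟩ ∈ L) → b ∈ K₁ := by
    rintro b hb ⟨hbw, hbL⟩
    obtain ⟨k, hk, hkb⟩ := (map_mem_iff hKL hbw hK.le).1 hbL
    have h1 : b ∈ K := hK.mem_of_two hk hkb (n := 1) (by rw [pow_one, pow_two]; exact hAsq b hb)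
    exact h2el b h1 (hAcomm b hb d hdA) 1 (by rw [pow_one, pow_two]; exact hAsq b hb)
  have hA2 : ∀ a ∈ A, ∃ b ∈ A, b ∈ K₁ ∧ b⁻¹ * a ∈ cenMod (Cw w) K := by
    intro a ha
    obtain ⟨b', hb', hb'P, hb'L, hconj⟩ := GoldInner.exists_inner hctxw hp.comp hp.act P _
      (hPA a ha).1 (hPA a ha).2
    obtain ⟨b, hb, hbw, rfl⟩ := hPmem b' hb' hb'P
    refine ⟨b, hb, hAK₁ b hb ⟨hbw, hb'L⟩, ?_⟩
    rw [mem_cenMod hK.le]
    refine ⟨mul_mem (inv_mem hbw) (hACw w hwA ha), fun k hk => ?_⟩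
    have hkL : pw w ⟨k, hK.le hk⟩ ∈ L := by rw [← hKL]; exact ⟨⟨k, hK.le hk⟩, hk, rfl⟩
    have h1 := hconj _ hkL
    have h2 : pw w ⟨k, hK.le hk⟩ = pw w (⟨b⁻¹ * a, mul_mem (inv_mem hbw) (hACw w hwA ha)⟩ *
        ⟨k, hK.le hk⟩ * ⟨b⁻¹ * a, mul_mem (inv_mem hbw) (hACw w hwA ha)⟩⁻¹) := by
      have h3 : (⟨b⁻¹ * a, mul_mem (inv_mem hbw) (hACw w hwA ha)⟩ : ↥(Cw w)) =
          ⟨b, hbw⟩⁻¹ * ⟨a, hACw w hwA ha⟩ := rfl
      rw [h3, map_mul, map_mul, map_inv, map_mul, map_inv]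
      have h4 : (pw w ⟨b, hbw⟩)⁻¹ * pw w ⟨a, hACw w hwA ha⟩ * pw w ⟨k, hK.le hk⟩ *
          ((pw w ⟨b, hbw⟩)⁻¹ * pw w ⟨a, hACw w hwA ha⟩)⁻¹ =
          (pw w ⟨b, hbw⟩)⁻¹ * (pw w ⟨a, hACw w hwA ha⟩ * pw w ⟨k, hK.le hk⟩ *
            (pw w ⟨a, hACw w hwA ha⟩)⁻¹) * pw w ⟨b, hbw⟩ := by group
      rw [h4, h1]; group
    exact mk_eq_mk_iff.1 h2
  -- `A` does not centralize `L`
  have hA8 : ¬ A ≤ cenMod (Cw w) K := by
    intro hle
    obtain ⟨a', ha', ha'P, ha'L, ha'C, -⟩ := GoldInnerJ.exists_comm hctxw hp.comp hp.act P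
      (t := 1) (one_mem _) (one_mem _)
    obtain ⟨a, ha, haw, rfl⟩ := hPmem a' ha' ha'P
    apply ha'C
    have h1 : a ∈ A ⊓ cenMod (Cw w) K := mem_inf.2 ⟨ha, hle ha⟩
    rw [← DD_eq hKL] at h1
    obtain ⟨_, _, h2⟩ := mem_DD.1 h1
    exact h2
  -- `M` is active
  have hact : Act (push 𝒜 (Cw d)) ML := by
    by_contra hna
    apply hA8
    intro a ha
    obtain ⟨b, hb, hbK₁, hba⟩ := hA2 a ha
    have h1 : b ∈ cenMod (Cw d) M := by
      have h2 : b ∈ DD A d ML := by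
        rw [mem_DD]
        refine ⟨hb, hACw d hdA hb, ?_⟩
        rw [mem_centralizer_iff]
        intro m hm
        exact (comm_of_not_act hctxd.fam hctxd.core hMcomp hna _
          ⟨⟨b, hACw d hdA hb⟩, (hAmem.1 hb).1, rfl⟩ m hm).symm
      rw [hDM] at h2
      exact h2.2
    have h3 := mul_mem (hA3 b hbK₁ h1) hba
    rwa [mul_inv_cancel_left] at h3
  have hpair : IsPair 𝒜 A d ML := ⟨hdA, hd1, hMcomp, hact⟩
  have hidx := hmax ML hpair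
  rw [hDM, DD_eq hKL] at hidx
  -- indices
  have key : (∀ a ∈ A, ∃ b ∈ A, b ∈ K₁ ∧ b⁻¹ * a ∈ cenMod (Cw d) M) ∧
      ∀ b ∈ A, b ∈ K₁ → b ∈ cenMod (Cw w) K → b ∈ cenMod (Cw d) M := by
    have hn : ∀ D : Subgroup ↥A, D.Normal := fun D => ⟨fun x hx g => by
      have : g * x * g⁻¹ = x := by
        apply Subtype.ext
        change (g : G) * x * (g : G)⁻¹ = x
        rw [hAcomm g g.2 x x.2, mul_inv_cancel_right]
      rwa [this]⟩
    have h1 := index_aux (G := ↥A) (B := K₁.subgroupOf A) (D := (cenMod (Cw w) K).subgroupOf A)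
      (E := (cenMod (Cw d) M).subgroupOf A) (hn _) (hn _) (fun a => by
        obtain ⟨b, hb, hbK, hba⟩ := hA2 a a.2
        exact ⟨⟨b, hb⟩, hbK, hba⟩) (fun b hb => hA3 b hb.1 hb.2) (by
        change (cenMod (Cw d) M).relIndex A ≤ (cenMod (Cw w) K).relIndex A
        rwa [Subgroup.inf_relIndex_left, Subgroup.inf_relIndex_left] at hidx)
    refine ⟨fun a ha => ?_, fun b hb hbK hbc => ?_⟩
    · obtain ⟨b, hb, hba⟩ := h1.1 ⟨a, ha⟩
      exact ⟨b, b.2, hb, hba⟩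
    · exact h1.2 (x := ⟨b, hb⟩) ⟨hbK, hbc⟩
  -- `w` centralizes `M`
  have hwM : w ∈ cenMod (Cw d) M := by
    obtain ⟨b, hb, hbK₁, hbw⟩ := key.1 w hwA
    -- the elements of `K₁` whose commutators with `K₁` centralize `M`
    let N : Subgroup G :=
      { carrier := {g | g ∈ K₁ ∧ ∀ k ∈ K₁, g * k * g⁻¹ * k⁻¹ ∈ cenMod (Cw d) M}
        one_mem' := ⟨one_mem _, fun k _ => by simp⟩
        mul_mem' := by
          rintro g₁ g₂ ⟨h1, h1'⟩ ⟨h2, h2'⟩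
          refine ⟨mul_mem h1 h2, fun k hk => ?_⟩
          have h3 := (mem_normalizer_iff.1 (hK₁C h1) _).1 (h2' k hk)
          have h4 := mul_mem h3 (h1' k hk)
          have h5 : g₁ * (g₂ * k * g₂⁻¹ * k⁻¹) * g₁⁻¹ * (g₁ * k * g₁⁻¹ * k⁻¹) =
              g₁ * g₂ * k * (g₁ * g₂)⁻¹ * k⁻¹ := by group
          rwa [h5] at h4
        inv_mem' := by
          rintro g ⟨h1, h1'⟩
          refine ⟨inv_mem h1, fun k hk => ?_⟩
          have h3 := (mem_normalizer_iff.1 (hK₁C (inv_mem h1)) _).1 (inv_mem (h1' k hk))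
          have h5 : g⁻¹ * (g * k * g⁻¹ * k⁻¹)⁻¹ * g⁻¹⁻¹ = g⁻¹ * k * g⁻¹⁻¹ * k⁻¹ := by group
          rwa [h5] at h3 }
    have hNmem : ∀ g, g ∈ N ↔ g ∈ K₁ ∧ ∀ k ∈ K₁, g * k * g⁻¹ * k⁻¹ ∈ cenMod (Cw d) M :=
      fun g => Iff.rfl
    have hbN : b ∈ N := by
      rw [hNmem]
      refine ⟨hbK₁, fun k hk => ?_⟩
      -- `b = w e`
      set e := b⁻¹ * w with he
      have hwk : w * k = k * w := by
        have h1 := (hK₁'.le hk).2
        exact (mem_centralizer_singleton_iff.1 h1).symm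
      have h1 : e⁻¹ * (k * e * k⁻¹) ∈ cenMod (Cw d) M :=
        mul_mem (inv_mem hbw) ((mem_normalizer_iff.1 (hK₁C hk) e).1 hbw)
      have h2 : w * (e⁻¹ * (k * e * k⁻¹)) * w⁻¹ ∈ cenMod (Cw d) M :=
        (mem_normalizer_iff.1 (hAC hwA) _).1 h1
      have h3 : w * (e⁻¹ * (k * e * k⁻¹)) * w⁻¹ = b * k * b⁻¹ * k⁻¹ := by
        have h4 : k⁻¹ * w⁻¹ = w⁻¹ * k⁻¹ := by
          rw [← mul_inv_rev, ← mul_inv_rev, hwk]
        have h5 : w * (e⁻¹ * (k * e * k⁻¹)) * w⁻¹ = b * k * b⁻¹ * (w * (k⁻¹ * w⁻¹)) := by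
          rw [he]; group
        rw [h5, h4]; group
      rwa [h3] at h2
    have hNK : N ≠ K₁ := by
      intro e
      apply hnot
      have h1 : ⁅K₁, K₁⁆ ≤ cenMod (Cw d) M := by
        rw [Subgroup.commutator_le]
        intro x hx y hy
        have h2 : x ∈ N := by rw [e]; exact hx
        exact h2.2 y hy
      rwa [hK₁.perfect] at h1
    have h1 := hprop N (fun g hg => hg.1) (fun k hk g hg => by
      refine ⟨K₁.mul_mem (K₁.mul_mem hk hg.1) (K₁.inv_mem hk), fun k' hk' => ?_⟩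
      have h2 : k⁻¹ * k' * k ∈ K₁ := K₁.mul_mem (K₁.mul_mem (K₁.inv_mem hk) hk') hk
      have h3 := (mem_normalizer_iff.1 (hK₁C hk) _).1 (hg.2 _ h2)
      have h4 : k * (g * (k⁻¹ * k' * k) * g⁻¹ * (k⁻¹ * k' * k)⁻¹) * k⁻¹ =
          k * g * k⁻¹ * k' * (k * g * k⁻¹)⁻¹ * k'⁻¹ := by group
      rwa [h4] at h3) hNK b hbN
    have h2 := key.2 b hb hbK₁ h1
    have h3 := mul_mem h2 hbw
    rwa [mul_inv_cancel_left] at h3
  -- the covering 2-component of `M` is `K₁`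
  obtain ⟨M₁, hM₁, hM₁M, hcovM, -⟩ := exists_comp_cen hM hwd (hAsq w hwA) hwM
  have hMK : K₁ = M₁ := by
    by_contra hne
    apply hnot
    have h1 := hM₁.le_cenMod hK₁' (fun e => hne e.symm)
    intro k hk
    exact (cenMod_iff hM inf_le_left hM₁ hM₁M hcovM (hK₁'.le hk)).1 (h1 hk)
  subst hMK
  have hDD : DD A d ML = DD A w L := by
    rw [hDM, DD_eq hKL]
    ext a
    rw [mem_inf, mem_inf]
    refine and_congr_right fun ha => ?_
    rw [← cenMod_iff hK hHw hK₁ hK₁K hcov (hAH ha), inf_comm,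
      cenMod_iff hM inf_le_left hM₁ hM₁M hcovM (by rw [inf_comm]; exact hAH ha)]
  refine ⟨ML, hpair, hDD, fun g hg => ?_⟩
  obtain ⟨hgN, hgw, hgL⟩ := mem_JJ.1 hg
  obtain ⟨k, hk, hkg⟩ := (map_mem_iff hKL hgw hK.le).1 hgL
  -- `g` centralizes `d`
  have hgd : g * d * g⁻¹ * d⁻¹ = 1 := by
    have hgA : g * d * g⁻¹ ∈ A := (mem_normalizer_iff.1 hgN d).1 hdA
    have h1 : g * d * g⁻¹ * d⁻¹ ∈ relCore 2 (Cw w) := by
      have h2 := ((mem_cenMod hK.le).1 hdK).2 k hk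
      -- `g = k o`
      have h3 : (k⁻¹ * g) * d * (k⁻¹ * g)⁻¹ * d⁻¹ ∈ relCore 2 (Cw w) := by
        have h4 := conj_mem_relCore' hdw (inv_mem hkg)
        have h5 := mul_mem hkg h4
        have h6 : k⁻¹ * g * (d * (k⁻¹ * g)⁻¹ * d⁻¹) = (k⁻¹ * g) * d * (k⁻¹ * g)⁻¹ * d⁻¹ := by group
        rwa [h6] at h5
      have h4 := conj_mem_relCore' (hK.le hk) h3
      have h5 : k * d * k⁻¹ * d⁻¹ ∈ relCore 2 (Cw w) := by
        have h6 := inv_mem (conj_mem_relCore' (hK.le hk) h2)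
        have h7 : (k * (k⁻¹ * (d * k * d⁻¹)) * k⁻¹)⁻¹ = k * d * k⁻¹ * d⁻¹ := by group
        rwa [h7] at h6
      have h6 := mul_mem h4 h5
      have h7 : k * ((k⁻¹ * g) * d * (k⁻¹ * g)⁻¹ * d⁻¹) * k⁻¹ * (k * d * k⁻¹ * d⁻¹) =
          g * d * g⁻¹ * d⁻¹ := by group
      rwa [h7] at h6
    have h2 : g * d * g⁻¹ * d⁻¹ ∈ A := mul_mem hgA (inv_mem hdA)
    exact eq_one_of_sq h1 (hAsq _ h2)
  have hgd' : g ∈ Cw d := by
    rw [mem_Cw]
    rw [mul_inv_eq_one, mul_inv_eq_iff_eq_mul] at hgd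
    exact hgd.symm
  have hgH : g ∈ Cw w ⊓ centralizer ({d} : Set G) := mem_inf.2 ⟨hgw, hgd'⟩
  obtain ⟨l, hl, hlk⟩ := hcov k hk
  have hlg : l⁻¹ * g ∈ relCore 2 (Cw w) := by
    have h1 := mul_mem hlk hkg
    have h2 : l⁻¹ * k * (k⁻¹ * g) = l⁻¹ * g := by group
    rwa [h2] at h1
  have hcoreH : ∀ x ∈ Cw w ⊓ centralizer ({d} : Set G), x ∈ normalizer
      ((relCore 2 (Cw w ⊓ centralizer ({d} : Set G)) : Subgroup G) : Set G) := fun x hx =>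
    normalizer_le_normalizer_relCore 2 _ (le_normalizer hx)
  obtain ⟨g', hg'K, hg'N, hg'⟩ := exists_rep (A := A) (K := K₁)
    (O := relCore 2 (Cw w ⊓ centralizer ({d} : Set G))) hAp (odd_card_relCore _)
    hAK (fun a ha => hcoreH a (hAH ha)) (fun x hx => hcoreH x (hK₁.le hx))
    (fun x hx hx' => by
      obtain ⟨k', hk', hk'x⟩ := hx'
      exact hK₁.mem_of_two hk' hk'x (n := 1) (by rw [pow_one, pow_two]; exact hAsq x hx))
    (g := g) ⟨l, hl, relCore_inf_le hHw (mem_inf.2 ⟨hlg, mul_mem (inv_mem (hK₁.le hl)) hgH⟩)⟩ hgN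
  refine ⟨g', mem_JJ.2 ⟨hg'N, (hK₁'.le hg'K).1, ?_⟩, hg'⟩
  exact ⟨⟨g', (hK₁'.le hg'K).1⟩, hM₁M hg'K, rfl⟩

/-- **L-balance** for a minimal counterexample. -/
theorem balance_of_setup {𝒜 : Set G} (h : GoldSetup.Setup 𝒜) (S : Sylow 2 G) :
    Balance 𝒜 (fam 𝒜 (S : Subgroup G)) :=
  balance h.fam S h.ctx

end Cfsg.Agent.TwoFusion.GoldBalance
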