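import Cfsg.Agent.TwoFusion.GoldFour
import Cfsg.Agent.TwoFusion.ClosedFour
import Cfsg.Agent.SignalizersComponents.GoldschmidtGen
import Cfsg.Agent.SignalizersComponents.SolFunctorTwo

/-!
# Goldschmidt's theorem, `|A| = 4`: the signalizer functor on `A⟨t⟩`

`AtData A t`: `A` is a four-group, `C(a) = O(C(a)) C(A)` and `O(C(a)) ∩ C(A) = O(C(A))` for `a ∈ A#`, and `t` is an
involution of `C(A)` outside `A` such that `O(C(a)) ∩ C(e) ≤ O(C(e))` for all `e ∈ tA`, `a ∈ A#`.
Then `θ(a) = O(C(a))` (`a ∈ A#`), `θ(e) = [O(C(e)), A] (O(C(e)) ∩ O(C(A)))` (`e ∈ tA`) is a solvable signalizer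
functor on `A⟨t⟩`. So `⟨O(C(a)) : a ∈ A#⟩` has odd order and is normalised by all `C(a)`, `a ∈ A#`.

`false_of_balanced` : this gives a contradiction in a minimal counterexample to Goldschmidt's theorem.
-/

set_option autoImplicit false
set_option linter.style.haveILetI false

namespace Cfsg.Agent.TwoFusion.GoldAt

open Subgroup
open scoped commutatorElement
open Cfsg.Agent.TwoFusion.ClosedFam Cfsg.Agent.TwoFusion.ClosedSimple
open Cfsg.Agent.Lib.CoprimeCommutator
open Cfsg.Agent.TwoFusion.ClosedFour (le_commutator_sup coprime_of_isPGroup Oc_le Oc_odd le_normalizer_Oc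
  conj_mem_of_le_normalizer le_normalizer_of_conj le_normalizer_inf mem_centralizer_singleton)

universe u

variable {G : Type u} [Group G]

/-- The data for the signalizer functor on `A⟨t⟩`. -/
structure AtData (A : Subgroup G) (t : G) : Prop where
  comm : ∀ a ∈ A, ∀ b ∈ A, a * b = b * a
  sq : ∀ a ∈ A, a * a = 1
  card : Nat.card A = 4
  tt : t * t = 1
  ta : ∀ a ∈ A, t * a = a * t
  tA : t ∉ A
  inf : ∀ a ∈ A, a ≠ 1 → Oc a ⊓ centralizer (A : Set G) = core (centralizer (A : Set G))
  dec : ∀ a ∈ A, a ≠ 1 → ∀ c, c * a = a * c → ∃ o ∈ Oc a, ∃ n ∈ centralizer (A : Set G), c = o * n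
  bal : ∀ e, t * e ∈ A → ∀ a ∈ A, a ≠ 1 → Oc a ⊓ centralizer ({e} : Set G) ≤ Oc e

/-- The group `A⟨t⟩`. -/
def ext (A : Subgroup G) (t : G) (tt : t * t = 1) (ta : ∀ a ∈ A, t * a = a * t) : Subgroup G where
  carrier := {x | x ∈ A ∨ t * x ∈ A}
  one_mem' := Or.inl (one_mem A)
  mul_mem' := by
    rintro x y (hx | hx) (hy | hy)
    · exact Or.inl (mul_mem hx hy)
    · refine Or.inr ?_
      have e : t * (x * y) = x * (t * y) := by rw [← mul_assoc, ta x hx, mul_assoc]
      rw [e]; exact mul_mem hx hy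
    · refine Or.inr ?_
      rw [← mul_assoc]; exact mul_mem hx hy
    · refine Or.inl ?_
      have e : x * y = (t * x) * (t * y) := by
        have e1 : (t * x) * t = t * (t * x) := (ta _ hx).symm
        calc x * y = (t * t) * x * y := by rw [tt, one_mul]
          _ = (t * (t * x)) * y := by group
          _ = (t * x) * t * y := by rw [e1]
          _ = (t * x) * (t * y) := by group
      rw [e]; exact mul_mem hx hy
  inv_mem' := by
    rintro x (hx | hx)
    · exact Or.inl (inv_mem hx)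
    · refine Or.inr ?_
      have ti : t⁻¹ = t := inv_eq_of_mul_eq_one_left tt
      have h1 : (t * x)⁻¹ ∈ A := inv_mem hx
      rw [mul_inv_rev, ti] at h1
      have h2 : t * (x⁻¹ * t) = (x⁻¹ * t) * t := ta _ h1
      have h3 : t * x⁻¹ = x⁻¹ * t := by
        have h4 := congrArg (fun z => z * t) h2
        simp only [mul_assoc, tt, mul_one] at h4
        exact h4
      rw [h3]; exact h1

theorem mem_ext {A : Subgroup G} {t : G} {tt : t * t = 1} {ta : ∀ a ∈ A, t * a = a * t} {x : G} :
    x ∈ ext A t tt ta ↔ x ∈ A ∨ t * x ∈ A := Iff.rfl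

open Classical in
/-- The functor. -/
noncomputable def th (A : Subgroup G) (e : G) : Subgroup G :=
  if e ∈ A then Oc e else ⁅Oc e, A⁆ ⊔ (Oc e ⊓ core (centralizer (A : Set G)))

theorem th_of_mem {A : Subgroup G} {e : G} (he : e ∈ A) : th A e = Oc e := if_pos he

theorem th_of_not_mem {A : Subgroup G} {e : G} (he : e ∉ A) :
    th A e = ⁅Oc e, A⁆ ⊔ (Oc e ⊓ core (centralizer (A : Set G))) := if_neg he

namespace AtData

variable {A : Subgroup G} {t : G} (h : AtData A t)

include h

theorem isPGroup : IsPGroup 2 A := fun ⟨a, ha⟩ => ⟨1, Subtype.ext (by simpa [pow_two] using h.sq a ha)⟩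

theorem comm_of_mem {x : G} (hx : t * x ∈ A) {a : G} (ha : a ∈ A) : x * a = a * x := by
  have h1 : (t * x) * a = a * (t * x) := h.comm _ hx a ha
  have h2 : t * (x * a) = t * (a * x) := by
    calc t * (x * a) = (t * x) * a := by group
      _ = a * t * x := by rw [h1]; group
      _ = t * a * x := by rw [h.ta a ha]
      _ = t * (a * x) := by group
  exact mul_left_cancel h2

/-- `A⟨t⟩` centralises `A`. -/
theorem ext_comm {x a : G} (hx : x ∈ ext A t h.tt h.ta) (ha : a ∈ A) : x * a = a * x := by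
  rcases hx with hx | hx
  · exact h.comm x hx a ha
  · exact h.comm_of_mem hx ha

theorem t_comm {x : G} (hx : x ∈ ext A t h.tt h.ta) : t * x = x * t := by
  rcases hx with hx | hx
  · exact h.ta x hx
  · have h1 := h.ta _ hx
    have h2 : t * (t * x) = t * (x * t) := by rw [h1]; group
    exact mul_left_cancel h2

/-- `A⟨t⟩` is abelian. -/
theorem ext_abel {x y : G} (hx : x ∈ ext A t h.tt h.ta) (hy : y ∈ ext A t h.tt h.ta) : x * y = y * x := by
  rcases hy with hy' | hy'
  · exact h.ext_comm hx hy'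
  · have h1 : x * (t * y) = (t * y) * x := h.ext_comm hx hy'
    have h2 : t * (x * y) = t * (y * x) := by
      calc t * (x * y) = (t * x) * y := by group
        _ = x * (t * y) := by rw [h.t_comm hx]; group
        _ = t * (y * x) := by rw [h1]; group
    exact mul_left_cancel h2

theorem ext_sq {x : G} (hx : x ∈ ext A t h.tt h.ta) : x * x = 1 := by
  have htx := h.t_comm hx
  rcases hx with hx' | hx'
  · exact h.sq x hx'
  · have h1 := h.sq _ hx'
    calc x * x = (t * t) * (x * x) := by rw [h.tt, one_mul]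
      _ = t * (t * x) * x := by group
      _ = t * (x * t) * x := by rw [htx]
      _ = (t * x) * (t * x) := by group
      _ = 1 := h1

theorem le_ext : A ≤ ext A t h.tt h.ta := fun _ ha => Or.inl ha

theorem card_ext [Finite G] : 2 ^ 3 ≤ Nat.card (ext A t h.tt h.ta) := by
  let f : A × Bool → ext A t h.tt h.ta := fun p =>
    match p.2 with
    | true => ⟨p.1, Or.inl p.1.2⟩
    | false => ⟨t * p.1, Or.inr (by rw [← mul_assoc, h.tt, one_mul]; exact p.1.2)⟩
  have hf : Function.Injective f := by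
    rintro ⟨⟨x, hx⟩, b⟩ ⟨⟨y, hy⟩, c⟩ hxy
    have h1 : ((f (⟨x, hx⟩, b) : ext A t h.tt h.ta) : G) = (f (⟨y, hy⟩, c) : ext A t h.tt h.ta) :=
      congrArg Subtype.val hxy
    rcases b with _ | _ <;> rcases c with _ | _
    · have h2 : t * x = t * y := h1
      have h3 : x = y := mul_left_cancel h2
      subst h3; rfl
    · exfalso
      have h2 : t * x = y := h1
      exact h.tA (by
        have e : t = y * x⁻¹ := by rw [← h2]; group
        rw [e]; exact mul_mem hy (inv_mem hx))
    · exfalso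
      have h2 : x = t * y := h1
      exact h.tA (by
        have e : t = x * y⁻¹ := by rw [h2]; group
        rw [e]; exact mul_mem hx (inv_mem hy))
    · have h2 : x = y := h1
      subst h2; rfl
  have h1 := Nat.card_le_card_of_injective f hf
  rw [Nat.card_prod, h.card, Nat.card_eq_fintype_card, Fintype.card_bool] at h1
  omega

/-- `A⟨t⟩` centralises each of its elements. -/
theorem ext_le_cent {e : G} (he : e ∈ ext A t h.tt h.ta) :
    ext A t h.tt h.ta ≤ centralizer ({e} : Set G) := fun _ hx =>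
  mem_centralizer_singleton.2 (h.ext_abel hx he)

theorem ext_le_centralizer : ext A t h.tt h.ta ≤ centralizer (A : Set G) := fun _ hx =>
  mem_centralizer_iff.2 fun _ ha => (h.ext_comm hx ha).symm

omit h in
theorem le_cent {a : G} (ha : a ∈ A) : centralizer (A : Set G) ≤ centralizer ({a} : Set G) :=
  centralizer_le (by simpa using ha)

theorem ext_le_normalizer_Oc {e : G} (he : e ∈ ext A t h.tt h.ta) :
    ext A t h.tt h.ta ≤ normalizer (Oc e : Set G) :=
  (h.ext_le_cent he).trans (le_normalizer_Oc e)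

theorem le_normalizer_Oc' {e : G} (he : e ∈ ext A t h.tt h.ta) : A ≤ normalizer (Oc e : Set G) :=
  h.le_ext.trans (h.ext_le_normalizer_Oc he)

/-- `θ(e) ≤ O(C(e))` -/
theorem th_le {e : G} (he : e ∈ ext A t h.tt h.ta) : th A e ≤ Oc e := by
  by_cases heA : e ∈ A
  · rw [th_of_mem heA]
  · rw [th_of_not_mem heA]
    exact sup_le (commutator_le_left (h.le_normalizer_Oc' he)) inf_le_left

theorem th_odd [Finite G] {e : G} (he : e ∈ ext A t h.tt h.ta) : Odd (Nat.card (th A e)) :=
  (Oc_odd e).of_dvd_nat (card_dvd_of_le (h.th_le he))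

/-- the elements of the four-group -/
theorem exists_eq_mul {x y z : G} [Finite G] (hx : x ∈ A) (hy : y ∈ A) (hz : z ∈ A) (hx1 : x ≠ 1) (hy1 : y ≠ 1)
    (hxy : x ≠ y) : z = 1 ∨ z = x ∨ z = y ∨ z = x * y := by
  classical
  by_contra hcon
  push Not at hcon
  obtain ⟨h1, h2, h3, h5⟩ := hcon
  have hxx := h.sq x hx
  have hyy := h.sq y hy
  have hxy1 : x * y ≠ 1 := by
    intro e
    apply hxy
    have : x = y⁻¹ := eq_inv_of_mul_eq_one_left e
    rw [this]; exact inv_eq_of_mul_eq_one_left hyy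
  have hxyx : x * y ≠ x := fun e => hy1 (mul_eq_left.1 e)
  have hxyy : x * y ≠ y := fun e => hx1 (mul_eq_right.1 e)
  let s : Finset A :=
    {⟨1, one_mem _⟩, ⟨x, hx⟩, ⟨y, hy⟩, ⟨x * y, mul_mem hx hy⟩, ⟨z, hz⟩}
  have hs : s.card = 5 := by
    simp only [s]
    rw [Finset.card_insert_of_notMem, Finset.card_insert_of_notMem, Finset.card_insert_of_notMem,
      Finset.card_insert_of_notMem, Finset.card_singleton]
    · simp only [Finset.mem_singleton, Subtype.mk.injEq]; exact fun e => h5 e.symm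
    · simp only [Finset.mem_insert, Finset.mem_singleton, Subtype.mk.injEq]
      rintro (e | e)
      · exact hxyy e.symm
      · exact h3 e.symm
    · simp only [Finset.mem_insert, Finset.mem_singleton, Subtype.mk.injEq]
      rintro (e | e | e)
      · exact hxy e
      · exact hxyx e.symm
      · exact h2 e.symm
    · simp only [Finset.mem_insert, Finset.mem_singleton, Subtype.mk.injEq]
      rintro (e | e | e | e)
      · exact hx1 e.symm
      · exact hy1 e.symm
      · exact hxy1 e.symm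
      · exact h1 e.symm
  have hfin : Fintype A := Fintype.ofFinite _
  have := Finset.card_le_univ s
  rw [hs, ← Nat.card_eq_fintype_card, h.card] at this
  omega

/-- two involutions of `A` -/
theorem exists_pair [Finite G] : ∃ x ∈ A, ∃ y ∈ A, x ≠ 1 ∧ y ≠ 1 ∧ x ≠ y := by
  classical
  by_contra hcon
  push Not at hcon
  have h1 : ∃ x : A, x ≠ 1 := by
    by_contra hc
    push Not at hc
    have : Nat.card A = 1 := by
      rw [Nat.card_eq_one_iff_unique]
      exact ⟨⟨fun x y => (hc x).trans (hc y).symm⟩, ⟨1⟩⟩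
    rw [h.card] at this
    omega
  obtain ⟨⟨x, hx⟩, hx1⟩ := h1
  have hx1' : x ≠ 1 := fun e => hx1 (Subtype.ext e)
  have h2 : (A : Set G) ⊆ {1, x} := by
    intro y hy
    by_cases hy1 : y = 1
    · exact Or.inl hy1
    · exact Or.inr (hcon x hx y hy hx1' hy1).symm
  have h3 : Nat.card A ≤ Nat.card ({1, x} : Set G) := Nat.card_mono (Set.toFinite _) h2
  have h4 : Nat.card ({1, x} : Set G) ≤ 2 := by
    rw [Nat.card_coe_set_eq]
    exact (Set.ncard_insert_le 1 {x}).trans (by rw [Set.ncard_singleton])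
  rw [h.card] at h3
  omega

/-- `C(x) ∩ C(y) = C(A)`. -/
theorem inf_cent_le [Finite G] {x y : G} (hx : x ∈ A) (hy : y ∈ A) (hx1 : x ≠ 1) (hy1 : y ≠ 1) (hxy : x ≠ y) :
    centralizer ({x} : Set G) ⊓ centralizer ({y} : Set G) ≤ centralizer (A : Set G) := by
  rintro g ⟨hg1', hg2'⟩
  have hg1 : g * x = x * g := mem_centralizer_singleton.1 hg1'
  have hg2 : g * y = y * g := mem_centralizer_singleton.1 hg2'
  rw [mem_centralizer_iff]
  intro z hz
  rcases h.exists_eq_mul hx hy hz hx1 hy1 hxy with e | e | e | e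
  · rw [e]; simp
  · rw [e]; exact hg1.symm
  · rw [e]; exact hg2.symm
  · rw [e]
    calc x * y * g = x * (y * g) := by group
      _ = x * g * y := by rw [← hg2]; group
      _ = g * (x * y) := by rw [← hg1]; group

/-- `[C(a), A] ≤ O(C(a))`. -/
theorem commutator_cent_le {a : G} (ha : a ∈ A) (ha1 : a ≠ 1) :
    ⁅centralizer ({a} : Set G), A⁆ ≤ Oc a := by
  rw [commutator_le]
  intro c hc b hb
  obtain ⟨o, ho, n, hn, rfl⟩ := h.dec a ha ha1 c (mem_centralizer_singleton.1 hc)
  have hnb : b * n = n * b := mem_centralizer_iff.1 hn b hb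
  have hbN : A ≤ normalizer (Oc a : Set G) := h.le_normalizer_Oc' (h.le_ext ha)
  have e : ⁅o * n, b⁆ = o * (b * o⁻¹ * b⁻¹) := by
    rw [commutatorElement_def]
    calc o * n * b * (o * n)⁻¹ * b⁻¹ = o * (n * b) * n⁻¹ * o⁻¹ * b⁻¹ := by group
      _ = o * (b * n) * n⁻¹ * o⁻¹ * b⁻¹ := by rw [hnb]
      _ = o * (b * o⁻¹ * b⁻¹) := by group
  rw [e]
  exact mul_mem ho (conj_mem_of_le_normalizer hbN hb (inv_mem ho))

theorem V_le {a : G} (ha : a ∈ A) (ha1 : a ≠ 1) : core (centralizer (A : Set G)) ≤ Oc a := by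
  rw [← h.inf a ha ha1]; exact inf_le_left

/-- An `A`-invariant subgroup of `C(a)` of odd order lies in `O(C(a))` if its `A`-fixed points do. -/
theorem le_Oc_of [Finite G] {a : G} (ha : a ∈ A) (ha1 : a ≠ 1) {X : Subgroup G}
    (hX : X ≤ centralizer ({a} : Set G)) (hodd : Odd (Nat.card X)) (hn : A ≤ normalizer (X : Set G))
    (hf : X ⊓ centralizer (A : Set G) ≤ Oc a) : X ≤ Oc a :=
  (le_commutator_sup h.isPGroup hodd hn).trans
    (sup_le ((commutator_mono hX le_rfl).trans (h.commutator_cent_le ha ha1)) hf)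

/-- `A` is not cyclic: a subgroup with cyclic quotient is not trivial. -/
theorem ne_bot_of_cyclic [Finite G] {B₀ : Subgroup G}
    (hc : ∀ [(B₀.subgroupOf A).Normal], IsCyclic (↥A ⧸ B₀.subgroupOf A)) : B₀ ≠ ⊥ := by
  rintro rfl
  have hn : ((⊥ : Subgroup G).subgroupOf A).Normal := by
    rw [bot_subgroupOf]; infer_instance
  have h1 : IsCyclic (↥A ⧸ (⊥ : Subgroup G).subgroupOf A) := hc
  obtain ⟨g, hg⟩ := h1.exists_generator
  obtain ⟨a, rfl⟩ := QuotientGroup.mk_surjective g
  obtain ⟨x, hx, y, hy, hx1, hy1, hxy⟩ := h.exists_pair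
  have key : ∀ z ∈ A, z = 1 ∨ z = a := by
    intro z hz
    obtain ⟨k, hk⟩ := mem_zpowers_iff.1 (hg (QuotientGroup.mk ⟨z, hz⟩))
    rw [← QuotientGroup.mk_zpow, QuotientGroup.eq] at hk
    have h2 : ((a ^ k)⁻¹ * ⟨z, hz⟩ : A) = 1 := by
      rw [mem_subgroupOf, mem_bot] at hk
      exact Subtype.ext hk
    have h3 : (⟨z, hz⟩ : A) = a ^ k := (inv_mul_eq_one.1 h2).symm
    have haa : a * a = 1 := Subtype.ext (h.sq a a.2)
    rcases Int.even_or_odd' k with ⟨m, rfl | rfl⟩
    · left
      rw [zpow_mul, zpow_two, haa, one_zpow] at h3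
      exact congrArg Subtype.val h3
    · right
      rw [zpow_add, zpow_mul, zpow_two, haa, one_zpow, one_mul, zpow_one] at h3
      exact congrArg Subtype.val h3
  rcases key x hx with e | e
  · exact hx1 e
  rcases key y hy with e' | e'
  · exact hy1 e'
  exact hxy (e.trans e'.symm)

/-- `θ(e) ∩ C(A) ≤ O(C(A))` for `e ∈ tA`. -/
theorem th_inf_centralizer_le [Finite G] (hsol : ∀ H : Subgroup G, Odd (Nat.card H) → Group.IsSolvable H)
    {e : G} (he : e ∈ ext A t h.tt h.ta) (heA : e ∉ A) :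
    th A e ⊓ centralizer (A : Set G) ≤ core (centralizer (A : Set G)) := by
  haveI : Fact (Nat.Prime 2) := ⟨Nat.prime_two⟩
  set N : Subgroup G := ⁅Oc e, A⁆ with hN
  set V : Subgroup G := core (centralizer (A : Set G)) with hV
  have hAO : A ≤ normalizer (Oc e : Set G) := h.le_normalizer_Oc' he
  have hNO : N ≤ Oc e := commutator_le_left hAO
  have hVC : V ≤ centralizer (A : Set G) := ClosedFour.core_le _
  have hNodd : Odd (Nat.card N) := (Oc_odd e).of_dvd_nat (card_dvd_of_le hNO)
  have hNN : ⁅N, A⁆ = N :=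
    commutator_commutator_eq A (Oc e) hAO (coprime_of_isPGroup h.isPGroup (Oc_odd e))
  have hAN : A ≤ normalizer (N : Set G) := right_le_normalizer_commutator (Oc e) A
  -- the fixed points of `A` on `N`
  have h1 : N ⊓ centralizer (A : Set G) ≤ V := by
    rw [SignalizersComponents.GoldschmidtGen.inf_centralizer_eq (p := 2) h.isPGroup h.comm le_rfl
      (hsol N hNodd) (by rw [← even_iff_two_dvd, Nat.not_even_iff_odd]; exact hNodd) hAN hNN]
    refine iSup_le ?_
    rintro ⟨B₀, hB₀, hcyc⟩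
    obtain ⟨b, hbB, hb1⟩ := B₀.bot_or_exists_ne_one.resolve_left (h.ne_bot_of_cyclic hcyc)
    have hbA : b ∈ A := hB₀ hbB
    have h2 : ⁅N ⊓ centralizer ((B₀ : Subgroup G) : Set G), A⁆ ≤ Oc b := by
      refine le_trans (commutator_mono ?_ le_rfl) (h.commutator_cent_le hbA hb1)
      exact inf_le_right.trans (centralizer_le (by simpa using hbB))
    rintro g ⟨⟨-, hg2⟩, hg3⟩
    rw [hV, ← h.inf b hbA hb1]
    exact ⟨h2 hg3, hg2⟩
  rw [th_of_not_mem heA]
  rintro g ⟨hg1, hg2⟩
  have hVN : (Oc e ⊓ V : Subgroup G) ≤ normalizer (N : Set G) :=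
    inf_le_left.trans (left_le_normalizer_commutator (Oc e) A)
  obtain ⟨n, hn, v, hv, rfl⟩ :=
    (Cfsg.Agent.SignalizersComponents.CoprimeBasic.mem_sup_iff hVN g).mp hg1
  have hvC : v ∈ centralizer (A : Set G) := hVC hv.2
  have hnC : n ∈ centralizer (A : Set G) := by
    have := (centralizer (A : Set G)).mul_mem hg2 ((centralizer (A : Set G)).inv_mem hvC)
    simpa using this
  exact mul_mem (h1 ⟨hn, hnC⟩) hv.2

theorem le_normalizer_th {e : G} (he : e ∈ ext A t h.tt h.ta) :
    ext A t h.tt h.ta ≤ normalizer (th A e : Set G) := by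
  by_cases heA : e ∈ A
  · rw [th_of_mem heA]; exact h.ext_le_normalizer_Oc he
  · rw [th_of_not_mem heA]
    have h1 : ext A t h.tt h.ta ≤ normalizer ((⁅Oc e, A⁆ : Subgroup G) : Set G) :=
      SignalizersComponents.GoldschmidtGen.le_normalizer_commutator (h.ext_le_normalizer_Oc he)
        fun x hx a ha => h.ext_comm hx ha
    have h2 : ext A t h.tt h.ta ≤
        normalizer ((Oc e ⊓ core (centralizer (A : Set G)) : Subgroup G) : Set G) :=
      le_normalizer_inf (h.ext_le_normalizer_Oc he)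
        (h.ext_le_centralizer.trans (ClosedFour.le_normalizer_core _))
    exact SignalizersComponents.GoldschmidtGen.le_normalizer_sup h1 h2

/-- `O(C(a)) ∩ C(f) ≤ θ(f)`, `a ∈ A#`, `f ∈ tA`. -/
theorem Oc_inf_le_th [Finite G] {a f : G} (ha : a ∈ A) (ha1 : a ≠ 1) (hf : f ∈ ext A t h.tt h.ta)
    (hfA : f ∉ A) : Oc a ⊓ centralizer ({f} : Set G) ≤ th A f := by
  have htf : t * f ∈ A := hf.resolve_left hfA
  have hb := h.bal f htf a ha ha1
  have hn : A ≤ normalizer ((Oc a ⊓ centralizer ({f} : Set G) : Subgroup G) : Set G) :=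
    le_normalizer_inf (h.le_normalizer_Oc' (h.le_ext ha))
      ((h.le_ext.trans (h.ext_le_cent hf)).trans le_normalizer)
  refine (le_commutator_sup h.isPGroup ((Oc_odd a).of_dvd_nat (card_dvd_of_le inf_le_left)) hn).trans ?_
  rw [th_of_not_mem hfA]
  refine sup_le_sup (commutator_mono hb le_rfl) ?_
  rintro g ⟨hg1, hg2⟩
  refine ⟨hb hg1, ?_⟩
  rw [← h.inf a ha ha1]
  exact ⟨hg1.1, hg2⟩

/-- `θ(e) ∩ C(a) ≤ O(C(a))`, `a ∈ A#`. -/
theorem th_inf_le_Oc [Finite G] (hsol : ∀ H : Subgroup G, Odd (Nat.card H) → Group.IsSolvable H)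
    {a e : G} (ha : a ∈ A) (ha1 : a ≠ 1) (he : e ∈ ext A t h.tt h.ta) (he1 : e ≠ 1) :
    th A e ⊓ centralizer ({a} : Set G) ≤ Oc a := by
  have hn : A ≤ normalizer ((th A e ⊓ centralizer ({a} : Set G) : Subgroup G) : Set G) :=
    le_normalizer_inf (h.le_ext.trans (h.le_normalizer_th he))
      ((h.le_ext.trans (h.ext_le_cent (h.le_ext ha))).trans le_normalizer)
  refine h.le_Oc_of ha ha1 inf_le_right ((h.th_odd he).of_dvd_nat (card_dvd_of_le inf_le_left)) hn ?_
  refine le_trans ?_ (h.V_le ha ha1)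
  by_cases heA : e ∈ A
  · rw [th_of_mem heA, ← h.inf e heA he1]
    exact inf_le_inf inf_le_left le_rfl
  · exact (inf_le_inf inf_le_left le_rfl).trans (h.th_inf_centralizer_le hsol he heA)

/-- Balance. -/
theorem balance [Finite G] (hsol : ∀ H : Subgroup G, Odd (Nat.card H) → Group.IsSolvable H)
    {e f : G} (he : e ∈ ext A t h.tt h.ta) (he1 : e ≠ 1) (hf : f ∈ ext A t h.tt h.ta) (hf1 : f ≠ 1) :
    th A e ⊓ centralizer ({f} : Set G) ≤ th A f := by
  by_cases hfA : f ∈ A
  · rw [th_of_mem hfA]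
    exact h.th_inf_le_Oc hsol hfA hf1 he he1
  · by_cases heA : e ∈ A
    · rw [th_of_mem heA]
      exact h.Oc_inf_le_th heA he1 hf hfA
    · by_cases hef : e = f
      · rw [hef]; exact inf_le_left
      · have htf : t * f ∈ A := hf.resolve_left hfA
        have hte : t * e ∈ A := he.resolve_left heA
        have hmem : e * f ∈ A := by
          have e1 : e * f = (t * e) * (t * f) := by
            calc e * f = (t * t) * (e * f) := by rw [h.tt, one_mul]
              _ = t * (t * e) * f := by group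
              _ = t * (e * t) * f := by rw [h.t_comm he]
              _ = (t * e) * (t * f) := by group
          rw [e1]; exact mul_mem hte htf
        have hef1 : e * f ≠ 1 := by
          intro e1
          apply hef
          have : e = f⁻¹ := eq_inv_of_mul_eq_one_left e1
          rw [this]; exact inv_eq_of_mul_eq_one_left (h.ext_sq hf)
        have h1 : th A e ⊓ centralizer ({f} : Set G) ≤ centralizer ({e * f} : Set G) := by
          rintro g ⟨hg1, hg2⟩
          have h2 : g * e = e * g := mem_centralizer_singleton.1 (Oc_le e (h.th_le he hg1))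
          have h3 : g * f = f * g := mem_centralizer_singleton.1 hg2
          rw [mem_centralizer_singleton]
          calc g * (e * f) = (g * e) * f := by group
            _ = e * (g * f) := by rw [h2]; group
            _ = e * f * g := by rw [h3]; group
        refine le_trans ?_ (h.Oc_inf_le_th hmem hef1 hf hfA)
        exact le_inf ((le_inf inf_le_left h1).trans (h.th_inf_le_Oc hsol hmem hef1 he he1)) inf_le_right

/-- The subgroup generated by the cores. -/
theorem exists_closure [Finite G] (hsol : ∀ H : Subgroup G, Odd (Nat.card H) → Group.IsSolvable H) :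
    ∃ W : Subgroup G, Odd (Nat.card W) ∧ (∀ a ∈ A, a ≠ 1 → W ⊓ centralizer ({a} : Set G) = Oc a) ∧
      ∀ a ∈ A, a ≠ 1 → centralizer ({a} : Set G) ≤ normalizer (W : Set G) := by
  set E := ext A t h.tt h.ta with hE
  obtain ⟨h1, h2, -⟩ := SignalizersComponents.SolFunctorTwo.solvable_signalizer_functor_two E
    (fun a ha b hb => h.ext_abel ha hb) (fun a ha => by rw [pow_two]; exact h.ext_sq ha) h.card_ext (th A)
    (fun a ha _ => (h.th_le ha).trans (Oc_le a))
    (fun a ha _ => by rw [← even_iff_two_dvd, Nat.not_even_iff_odd]; exact h.th_odd ha)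
    (fun a ha _ b hb x hx => conj_mem_of_le_normalizer (h.le_normalizer_th ha) hb hx)
    (fun a ha _ => hsol _ (h.th_odd ha))
    (fun a ha ha1 b hb hb1 => h.balance hsol ha ha1 hb hb1)
  set W : Subgroup G := ⨆ a : {a : G // a ∈ E ∧ a ≠ 1}, th A (a : G) with hW
  have hodd : Odd (Nat.card W) := by rwa [← even_iff_two_dvd, Nat.not_even_iff_odd] at h1
  have hWa : ∀ a ∈ A, a ≠ 1 → W ⊓ centralizer ({a} : Set G) = Oc a := fun a ha ha1 => by
    rw [h2 a (h.le_ext ha) ha1, th_of_mem ha]
  have hOW : ∀ a ∈ A, a ≠ 1 → Oc a ≤ W := fun a ha ha1 => by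
    rw [← hWa a ha ha1]; exact inf_le_left
  refine ⟨W, hodd, hWa, ?_⟩
  -- `W` is generated by the `Oc a`
  set W' : Subgroup G := ⨆ a : {a : G // a ∈ A ∧ a ≠ 1}, Oc (a : G) with hW'
  have hEW : E ≤ normalizer (W : Set G) := by
    refine le_normalizer_of_conj fun g hg x hx => ?_
    rw [hW] at hx ⊢
    induction hx using Subgroup.iSup_induction' with
    | hp i x hx =>
      exact (le_iSup (fun a : {a : G // a ∈ E ∧ a ≠ 1} => th A (a : G)) i)
        (conj_mem_of_le_normalizer (h.le_normalizer_th i.2.1) hg hx)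
    | h1 => simp
    | hmul x y _ _ hx hy =>
      have e : g * (x * y) * g⁻¹ = (g * x * g⁻¹) * (g * y * g⁻¹) := by group
      rw [e]; exact mul_mem hx hy
  have hWW' : W = W' := by
    apply le_antisymm
    · obtain ⟨x, hx, y, hy, hx1, hy1, hxy⟩ := h.exists_pair
      have hxy1 : x * y ≠ 1 := by
        intro e
        apply hxy
        have : x = y⁻¹ := eq_inv_of_mul_eq_one_left e
        rw [this]; exact inv_eq_of_mul_eq_one_left (h.sq y hy)
      have hle : ∀ a ∈ A, a ≠ 1 → W ⊓ centralizer ({a} : Set G) ≤ W' := fun a ha ha1 => by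
        rw [hWa a ha ha1]
        exact le_iSup (fun a : {a : G // a ∈ A ∧ a ≠ 1} => Oc (a : G)) ⟨a, ha, ha1⟩
      refine Cfsg.Agent.Lib.KleinGen.le_of_klein W W' hodd x y (h.sq x hx) (h.sq y hy)
        (h.comm x hx y hy) (fun g hg => conj_mem_of_le_normalizer hEW (h.le_ext hx) hg)
        (fun g hg => conj_mem_of_le_normalizer hEW (h.le_ext hy) hg) (hle x hx hx1) (hle y hy hy1)
        (hle (x * y) (mul_mem hx hy) hxy1)
    · refine iSup_le ?_
      rintro ⟨a, ha, ha1⟩
      exact hOW a ha ha1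
  have hCW : centralizer (A : Set G) ≤ normalizer (W : Set G) := by
    rw [hWW']
    refine le_normalizer_of_conj fun g hg x hx => ?_
    rw [hW'] at hx ⊢
    induction hx using Subgroup.iSup_induction' with
    | hp i x hx =>
      exact (le_iSup (fun a : {a : G // a ∈ A ∧ a ≠ 1} => Oc (a : G)) i)
        (conj_mem_of_le_normalizer (le_normalizer_Oc (i : G)) (le_cent i.2.1 hg) hx)
    | h1 => simp
    | hmul x y _ _ hx hy =>
      have e : g * (x * y) * g⁻¹ = (g * x * g⁻¹) * (g * y * g⁻¹) := by group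
      rw [e]; exact mul_mem hx hy
  intro a ha ha1 c hc
  obtain ⟨o, ho, n, hn, rfl⟩ := h.dec a ha ha1 c (mem_centralizer_singleton.1 hc)
  exact mul_mem (le_normalizer (hOW a ha ha1 ho)) (hCW hn)

end AtData

/-! ### The contradiction -/

section setup

open Cfsg.Agent.TwoFusion.Gold Cfsg.Agent.TwoFusion.GoldSetup Cfsg.Agent.TwoFusion.GoldFour

variable [Finite G] {𝒜 : Set G} (h : Setup 𝒜) (S : Sylow 2 G)
  (h4 : Nat.card (fam 𝒜 (S : Subgroup G)) = 4)

include h h4

/-- The data of a minimal counterexample. -/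
theorem atData (hs : Solid 𝒜 S) {t : G} (ht : t ∈ (S : Subgroup G)) (htt : t * t = 1)
    (htA : t ∉ fam 𝒜 (S : Subgroup G))
    (hbal : ∀ e, t * e ∈ fam 𝒜 (S : Subgroup G) → ∀ a ∈ fam 𝒜 (S : Subgroup G), a ≠ 1 →
      Oc a ⊓ centralizer ({e} : Set G) ≤ Oc e) :
    AtData (fam 𝒜 (S : Subgroup G)) t where
  comm := h.comm S
  sq := h.sq S
  card := h4
  tt := htt
  ta a ha := GoldFour.central h S h4 a ha t ht
  tA := htA
  inf a ha ha1 := GoldFour.core_inf_centralizer h S h4 hs ha ha1
  dec a ha ha1 c hc := GoldFour.cent_decomp h S h4 hs ha ha1 hc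
  bal := hbal

/-- If `O(C(a)) ∩ C(e) ≤ O(C(e))` for all `e ∈ tA`, `a ∈ A#`, then we get a contradiction. -/
theorem false_of_balanced (hsol : ∀ H : Subgroup G, Odd (Nat.card H) → Group.IsSolvable H) (h1174 : SE1174 G)
    (hs : Solid 𝒜 S) {t : G} (ht : t ∈ (S : Subgroup G)) (htt : t * t = 1)
    (htA : t ∉ fam 𝒜 (S : Subgroup G))
    (hbal : ∀ e, t * e ∈ fam 𝒜 (S : Subgroup G) → ∀ a ∈ fam 𝒜 (S : Subgroup G), a ≠ 1 →
      Oc a ⊓ centralizer ({e} : Set G) ≤ Oc e) : False := by
  haveI := h.simple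
  have hd := atData h S h4 hs ht htt htA hbal
  obtain ⟨W, hodd, hWa, hn⟩ := hd.exists_closure hsol
  by_cases htop : normalizer (W : Set G) = ⊤
  · have hnor : W.Normal := normalizer_eq_top_iff.1 htop
    rcases IsSimpleGroup.eq_bot_or_eq_top_of_normal W hnor with hb | hb
    · apply GoldFour.false_of_core_le h S h4 h1174 hs
      intro w hw hw1
      have h1 := hWa w hw hw1
      rw [hb, bot_inf_eq] at h1
      have h2 : core (centralizer ({w} : Set G)) = ⊥ := h1.symm
      rw [h2]; exact bot_le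
    · rw [hb, card_top] at hodd
      obtain ⟨x, hx, hx1⟩ : ∃ x ∈ fam 𝒜 (S : Subgroup G), x ≠ 1 := by
        obtain ⟨x, hx, y, hy, hx1, -⟩ := hd.exists_pair
        exact ⟨x, hx, hx1⟩
      have h2 : orderOf x = 2 := h.fam.orderOf_eq ((h.mem_iff S).1 hx).1 hx1
      have h3 : 2 ∣ Nat.card G := h2 ▸ orderOf_dvd_natCard x
      exact (Nat.not_even_iff_odd.2 hodd) (even_iff_two_dvd.2 h3)
  · exact h.false_of_cent_le S h1174 htop hn

end setup

end Cfsg.Agent.TwoFusion.GoldAt
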