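import Cfsg.Agent.TwoFusion.GoldLambda
import Cfsg.Agent.TwoFusion.GoldAt

/-!
# Goldschmidt's theorem, `|A| = 4`: every involution coset `tA` outside `A` contains a bad element
-/

set_option autoImplicit false
set_option linter.style.haveILetI false

namespace Cfsg.Agent.TwoFusion.GoldBad

open Subgroup
open Cfsg.Agent.TwoFusion.ClosedFam Cfsg.Agent.TwoFusion.Gold Cfsg.Agent.TwoFusion.GoldSetup
open Cfsg.Agent.TwoFusion.ClosedLocal Cfsg.Agent.TwoFusion.GoldFour Cfsg.Agent.TwoFusion.ClosedSimple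
open Cfsg.Agent.TwoFusion.GoldLambda

universe u

/-- Bad involutions: the family generates in `C(e)/O(C(e))` a simple group with Sylow 2-subgroups of order 4 which
are not disjoint. -/
def Bad {G : Type u} [Group G] (𝒜 : Set G) (e : G) : Prop :=
  e * e = 1 ∧ e ≠ 1 ∧ IsSimpleGroup ↥(fam (push 𝒜 (centralizer ({e} : Set G))) ⊤) ∧
    (∀ Q : Sylow 2 ↥(fam (push 𝒜 (centralizer ({e} : Set G))) ⊤), Nat.card Q = 4) ∧
    ∃ Q R : Sylow 2 ↥(fam (push 𝒜 (centralizer ({e} : Set G))) ⊤), Q ≠ R ∧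
      (Q : Subgroup ↥(fam (push 𝒜 (centralizer ({e} : Set G))) ⊤)) ⊓ R ≠ ⊥

/-- The statement on components without strongly embedded subgroups. -/
def OfNoSE : Prop :=
  ∀ {X : Type u} [Group X] [Finite X] {𝒜 : Set X}, Ctx 𝒜 → ∀ T : Sylow 2 X,
    Nat.card (fam 𝒜 (T : Subgroup X)) = 4 → ∀ {L : Subgroup X}, Cfsg.IsComponent L → Act 𝒜 L →
    (¬ ∃ H : Subgroup (↥L ⧸ center ↥L), Cfsg.IsStronglyEmbedded H) →
    IsSimpleGroup ↥(fam 𝒜 (⊤ : Subgroup X)) ∧ (∀ Q : Sylow 2 ↥(fam 𝒜 (⊤ : Subgroup X)), Nat.card Q = 4) ∧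
    ∃ Q R : Sylow 2 ↥(fam 𝒜 (⊤ : Subgroup X)), Q ≠ R ∧ (Q : Subgroup ↥(fam 𝒜 (⊤ : Subgroup X))) ⊓ R ≠ ⊥

section G

variable {G : Type u} [Group G] [Finite G] {𝒜 : Set G} (h : Setup 𝒜) (S : Sylow 2 G)

include h

theorem exists_bad_of (hno : OfNoSE.{u}) (h4 : Nat.card (fam 𝒜 (S : Subgroup G)) = 4)
    (hsol : ∀ H : Subgroup G, Odd (Nat.card H) → Group.IsSolvable H) (h1174 : SE1174 G) (hSE : SEHyp.{u})
    {t : G} (ht : t ∈ (S : Subgroup G)) (htt : t * t = 1) (htA : t ∉ fam 𝒜 (S : Subgroup G)) :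
    ∃ a ∈ fam 𝒜 (S : Subgroup G), Bad 𝒜 (t * a) := by
  classical
  by_contra hcon
  push Not at hcon
  refine GoldAt.false_of_balanced h S h4 hsol h1174 (GoldSolid.solid h S h4) ht htt htA ?_
  intro e he
  have hcen := GoldFour.central h S h4
  have hte : t * (t * e) = e := by rw [← mul_assoc, htt, one_mul]
  have heS : e ∈ (S : Subgroup G) := by
    rw [← hte]
    exact mul_mem ht (fam_le _ _ he)
  have he1 : e ≠ 1 := by
    rintro rfl
    rw [mul_one] at he
    exact htA he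
  have hee : e * e = 1 := by
    have h1 : (t * e) * (t * e) = 1 := h.sq S _ he
    have h2 : (t * e) * t = t * (t * e) := (hcen _ he t ht).symm
    have h3 : e * t = t * e := by
      have h5 : t * (e * t) = t * (t * e) := by rw [← mul_assoc]; exact h2
      exact mul_left_cancel h5
    calc e * e = (t * t) * (e * e) := by rw [htt, one_mul]
      _ = t * (t * e) * e := by group
      _ = t * (e * t) * e := by rw [h3]
      _ = (t * e) * (t * e) := by group
      _ = 1 := h1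
  have heA : ∀ a ∈ fam 𝒜 (S : Subgroup G), a * e = e * a := fun a ha => (hcen a ha e heS).symm
  rcases bal_or h S hSE h4.le he1 heA with h1 | ⟨L, hL, ha, hn⟩
  · exact h1
  · exfalso
    apply hcon (t * e) he
    rw [hte]
    have hAH : fam 𝒜 (S : Subgroup G) ≤ centralizer ({e} : Set G) := fun a ha => mem_cent.2 (heA a ha)
    obtain ⟨P, hP⟩ := GoldSolid.exists_sylow_push h.fam S hAH
    have hcard : Nat.card (fam (push 𝒜 (centralizer ({e} : Set G)))
        (P : Subgroup (↥(centralizer ({e} : Set G)) ⧸ Cfsg.oddCore ↥(centralizer ({e} : Set G))))) ≤ 4 := by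
      rw [hP]
      refine (Nat.card_image_le (Set.toFinite _)).trans ?_
      change Nat.card ((fam 𝒜 (S : Subgroup G)).subgroupOf (centralizer ({e} : Set G))) ≤ 4
      rw [Nat.card_congr (subgroupOfEquivOfLe hAH).toEquiv, h4]
    have hc := h.ctxCent he1
    exact ⟨hee, he1, hno hc P (GoldActFour.card_eq hc.fam P hcard hL ha) hL ha hn⟩

end G

end Cfsg.Agent.TwoFusion.GoldBad
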