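import Cfsg.Agent.TwoFusion.GoldCenAct
import Cfsg.Agent.TwoFusion.GoldBad
import Cfsg.Agent.TwoFusion.GoldActNoSE

/-!
# Goldschmidt's theorem, `|A| = 4`: bad involutions commuting modulo cores

Let `e` be bad and let `f` be an involution of `C(e)` which centralizes the family of `C(e)` modulo `O(C(e))`, such
that `A` commutes with `e` and `f`. Then `f` is bad and the centralizers of the two families agree on the
2-elements commuting with `e`, `f` and `A`.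
-/

set_option autoImplicit false
set_option linter.style.haveILetI false

namespace Cfsg.Agent.TwoFusion.GoldCenBal

open Subgroup
open Cfsg.Agent.TwoFusion.ClosedFam Cfsg.Agent.TwoFusion.Gold Cfsg.Agent.TwoFusion.GoldSetup
open Cfsg.Agent.TwoFusion.ClosedLocal Cfsg.Agent.TwoFusion.GoldCen Cfsg.Agent.TwoFusion.GoldBad

universe u

/-! ### Families in a finite group -/

section X

variable {X : Type u} [Group X] [Finite X] {ℬ : Set X}

omit [Finite X] in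
/-- Two commuting elements of the family lie in a common Sylow 2-subgroup. -/
theorem exists_sylow_of_comm (h : IsElemFam ℬ) {x y : X} (hx : x ∈ ℬ) (hy : y ∈ ℬ) (hxy : x * y = y * x) :
    ∃ P : Sylow 2 X, x ∈ P ∧ y ∈ P := by
  haveI : Fact (Nat.Prime 2) := ⟨Nat.prime_two⟩
  have h1 := h.toIsClosedFam.isPGroup_zpowers hx
  have h2 := h.toIsClosedFam.isPGroup_zpowers hy
  have h3 : zpowers x ≤ normalizer ((zpowers y : Subgroup X) : Set X) := by
    rw [zpowers_le]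
    have : x ∈ centralizer ((zpowers y : Subgroup X) : Set X) := by
      rw [mem_centralizer_iff]
      rintro _ ⟨k, rfl⟩
      exact (Commute.zpow_left hxy.symm k).eq
    exact centralizer_le_normalizer _ this
  obtain ⟨P, hP⟩ := (IsPGroup.to_sup_of_normal_right' h1 h2 h3).exists_le_sylow
  exact ⟨P, hP (mem_sup_left (mem_zpowers x)), hP (mem_sup_right (mem_zpowers y))⟩

/-- The elements of the Sylow 2-subgroups of `⟨ℬ⟩` belong to `ℬ` if they have order four. -/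
theorem mem_of_mem_sylow (h : IsElemFam ℬ) (T : Sylow 2 X) (hcard : Nat.card (fam ℬ (T : Subgroup X)) = 4)
    (Q : Sylow 2 ↥(fam ℬ (⊤ : Subgroup X))) (hQ : Nat.card Q = 4) :
    ∀ q : ↥(fam ℬ (⊤ : Subgroup X)), q ∈ Q → (q : X) ∈ ℬ := by
  haveI : Fact (Nat.Prime 2) := ⟨Nat.prime_two⟩
  have h1 : IsPGroup 2 ((Q : Subgroup ↥(fam ℬ (⊤ : Subgroup X))).map (Subgroup.subtype _)) := Q.2.map _
  obtain ⟨P, hP⟩ := h1.exists_le_sylow
  have hle : fam ℬ (P : Subgroup X) ≤ fam ℬ (⊤ : Subgroup X) := fam_mono ℬ le_top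
  have h2 : (P : Subgroup X).subgroupOf (fam ℬ (⊤ : Subgroup X)) = Q := by
    refine Q.is_maximal' (P.2.comap_subtype) ?_
    intro q hq
    exact hP ⟨q, hq, rfl⟩
  have h3 : (fam ℬ (P : Subgroup X)).subgroupOf (fam ℬ (⊤ : Subgroup X)) = Q := by
    refine eq_of_le_of_card_ge ?_ ?_
    · rw [← h2]
      intro q hq
      exact fam_le ℬ _ hq
    · rw [Nat.card_congr (subgroupOfEquivOfLe hle).toEquiv, card_fam_sylow h.toIsClosedFam P T, hcard]
      exact hQ.le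
  intro q hq
  have h4 : q ∈ (fam ℬ (P : Subgroup X)).subgroupOf (fam ℬ (⊤ : Subgroup X)) := by rw [h3]; exact hq
  exact ((h.toIsClosedFam.mem_fam_iff P.2).1 h4).1

/-- Sylow 2-subgroups which are not disjoint give a non-commuting pair commuting with a third element. -/
theorem exists_triple (h : IsElemFam ℬ) (T : Sylow 2 X) (hcard : Nat.card (fam ℬ (T : Subgroup X)) = 4)
    (h4 : ∀ Q : Sylow 2 ↥(fam ℬ (⊤ : Subgroup X)), Nat.card Q = 4)
    {Q R : Sylow 2 ↥(fam ℬ (⊤ : Subgroup X))} (hne : Q ≠ R)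
    (hQR : (Q : Subgroup ↥(fam ℬ (⊤ : Subgroup X))) ⊓ R ≠ ⊥) :
    ∃ a ∈ ℬ, ∃ b ∈ ℬ, ∃ c ∈ ℬ, a ≠ 1 ∧ a * b = b * a ∧ a * c = c * a ∧ b * c ≠ c * b := by
  haveI : Fact (Nat.Prime 2) := ⟨Nat.prime_two⟩
  obtain ⟨⟨x, hxQ, hxR⟩, hx1⟩ := Subgroup.ne_bot_iff_exists_ne_one.1 hQR
  have hx1' : x ≠ 1 := fun e => hx1 (Subtype.ext e)
  have hcomm : ∀ (P : Sylow 2 ↥(fam ℬ (⊤ : Subgroup X))) (x y : ↥(fam ℬ (⊤ : Subgroup X))), x ∈ P → y ∈ P →
      (x : X) * y = y * x := by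
    intro P x y hx hy
    exact h.comm (P.2.map (Subgroup.subtype _)) (mem_of_mem_sylow h T hcard P (h4 P) x hx) ⟨x, hx, rfl⟩
      (mem_of_mem_sylow h T hcard P (h4 P) y hy) ⟨y, hy, rfl⟩
  by_contra hcon
  push Not at hcon
  apply hne
  have h1 : (R : Subgroup ↥(fam ℬ (⊤ : Subgroup X))) ≤
      normalizer ((Q : Subgroup ↥(fam ℬ (⊤ : Subgroup X))) : Set ↥(fam ℬ (⊤ : Subgroup X))) := by
    have : (R : Subgroup ↥(fam ℬ (⊤ : Subgroup X))) ≤
        centralizer ((Q : Subgroup ↥(fam ℬ (⊤ : Subgroup X))) : Set ↥(fam ℬ (⊤ : Subgroup X))) := by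
      intro r hr
      rw [mem_centralizer_iff]
      intro q hq
      apply Subtype.ext
      exact hcon x (mem_of_mem_sylow h T hcard Q (h4 Q) x hxQ) q (mem_of_mem_sylow h T hcard Q (h4 Q) q hq) r
        (mem_of_mem_sylow h T hcard R (h4 R) r hr) (fun e => hx1' (Subtype.ext e)) (hcomm Q x q hxQ hq)
        (hcomm R x r hxR hr)
    exact this.trans (centralizer_le_normalizer _)
  have h2 : IsPGroup 2 ((Q : Subgroup ↥(fam ℬ (⊤ : Subgroup X))) ⊔ R : Subgroup ↥(fam ℬ (⊤ : Subgroup X))) :=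
    IsPGroup.to_sup_of_normal_left' Q.2 R.2 h1
  have h3 := Q.is_maximal' h2 le_sup_left
  have h4' := R.is_maximal' h2 le_sup_right
  apply Sylow.ext
  rw [← h3, h4']

omit [Finite X] in
/-- An element of the family whose image lies in the image of a Sylow 2-subgroup lies in it. -/
theorem mem_of_mk_mem (h : IsElemFam ℬ) {L : Subgroup X} (P : Sylow 2 L) {l : L} (hl : (l : X) ∈ ℬ)
    (hm : QuotientGroup.mk' (center ↥L) l ∈ (P : Subgroup L).map (QuotientGroup.mk' (center ↥L))) : l ∈ P := by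
  haveI : Fact (Nat.Prime 2) := ⟨Nat.prime_two⟩
  obtain ⟨t, ht, htb⟩ := hm
  have hz : t⁻¹ * l ∈ center ↥L := by
    rw [← QuotientGroup.ker_mk' (center ↥L), MonoidHom.mem_ker, map_mul, map_inv, htb]
    group
  have hln : l ∈ normalizer ((P : Subgroup L) : Set L) := by
    have e : l = t * (t⁻¹ * l) := by group
    rw [e]
    refine mul_mem (le_normalizer ht) ?_
    rw [mem_normalizer_iff]
    intro x
    have e2 : t⁻¹ * l * x * (t⁻¹ * l)⁻¹ = x := by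
      rw [← mem_center_iff.1 hz x]; group
    rw [e2]
  have hlp : IsPGroup 2 (zpowers l) := (h.restrict L).toIsClosedFam.isPGroup_zpowers hl
  have h5 := P.is_maximal' (IsPGroup.to_sup_of_normal_right' hlp P.2 (by rw [zpowers_le]; exact hln)) le_sup_right
  change l ∈ (P : Subgroup L)
  rw [← h5]
  exact mem_sup_left (mem_zpowers l)

/-- The converse: such a triple gives a simple group generated by the family with Sylow 2-subgroups of order four
which are not disjoint. -/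
theorem of_triple (h : Ctx ℬ) (T : Sylow 2 X) (hcard : Nat.card (fam ℬ (T : Subgroup X)) ≤ 4) {a b c : X}
    (ha : a ∈ ℬ) (hb : b ∈ ℬ) (hc : c ∈ ℬ) (ha1 : a ≠ 1) (hab : a * b = b * a) (hac : a * c = c * a)
    (hbc : b * c ≠ c * b) :
    IsSimpleGroup ↥(fam ℬ (⊤ : Subgroup X)) ∧
      (∀ Q : Sylow 2 ↥(fam ℬ (⊤ : Subgroup X)), Nat.card Q = 4) ∧
      ∃ Q R : Sylow 2 ↥(fam ℬ (⊤ : Subgroup X)), Q ≠ R ∧ (Q : Subgroup ↥(fam ℬ (⊤ : Subgroup X))) ⊓ R ≠ ⊥ := by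
  haveI : Fact (Nat.Prime 2) := ⟨Nat.prime_two⟩
  -- there is an active component
  have hex : ∃ L : Subgroup X, Cfsg.IsComponent L ∧ Act ℬ L := by
    by_contra hcon
    push Not at hcon
    have hN := GoldLayer.normal_of_not_act h T hcon
    have hall : ∀ x ∈ ℬ, x ∈ fam ℬ (T : Subgroup X) := by
      intro x hx
      obtain ⟨g, hg⟩ := GoldLayer.exists_conj_mem h.fam T hx
      have h1 := hN.conj_mem _ hg g⁻¹
      have e : g⁻¹ * (g * x * g⁻¹) * g⁻¹⁻¹ = x := by group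
      rwa [e] at h1
    exact hbc (h.fam.comm T.2 hb ((h.fam.toIsClosedFam.mem_fam_iff T.2).1 (hall b hb)).2 hc
      ((h.fam.toIsClosedFam.mem_fam_iff T.2).1 (hall c hc)).2)
  obtain ⟨L, hL, hact⟩ := hex
  have h4 := GoldActFour.card_eq h.fam T hcard hL hact
  have haL := GoldActFour.mem_of_mem h.fam T hcard hL hact ha
  have hbL := GoldActFour.mem_of_mem h.fam T hcard hL hact hb
  have hcL := GoldActFour.mem_of_mem h.fam T hcard hL hact hc
  -- `a` is not central in `L`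
  have hanc : (⟨a, haL⟩ : L) ∉ center ↥L := by
    intro hz
    obtain ⟨g, hg⟩ := GoldLayer.exists_conj_mem h.fam T ha
    have hn := GoldActFour.normal h.fam T hcard hL hact
    have h1 := GoldActFour.eq_one_of_comm h.fam T hcard hL hact hg (fun l hl => by
      have h2 := mem_center_iff.1 hz ⟨g⁻¹ * l * g, by
        have := hn.conj_mem l hl g⁻¹
        rwa [inv_inv] at this⟩
      have h3 : g⁻¹ * l * g * a = a * (g⁻¹ * l * g) := congrArg Subtype.val h2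
      calc g * a * g⁻¹ * l = g * (a * (g⁻¹ * l * g)) * g⁻¹ := by group
        _ = g * (g⁻¹ * l * g * a) * g⁻¹ := by rw [h3]
        _ = l * (g * a * g⁻¹) := by group)
    apply ha1
    rwa [mul_inv_eq_one, mul_eq_left] at h1
  by_cases hno : BenPack (↥L ⧸ center ↥L)
  · exfalso
    have hfq := GoldActFour.isElemFam_famQ h.fam L
    obtain ⟨P₁, hP₁a, hP₁b⟩ := exists_sylow_of_comm hfq (x := QuotientGroup.mk' (center ↥L) ⟨a, haL⟩)
      (y := QuotientGroup.mk' (center ↥L) ⟨b, hbL⟩) ⟨_, ha, rfl⟩ ⟨_, hb, rfl⟩ (by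
        rw [← map_mul, ← map_mul]; congr 1; exact Subtype.ext hab)
    obtain ⟨P₂, hP₂a, hP₂c⟩ := exists_sylow_of_comm hfq (x := QuotientGroup.mk' (center ↥L) ⟨a, haL⟩)
      (y := QuotientGroup.mk' (center ↥L) ⟨c, hcL⟩) ⟨_, ha, rfl⟩ ⟨_, hc, rfl⟩ (by
        rw [← map_mul, ← map_mul]; congr 1; exact Subtype.ext hac)
    have hP : P₁ = P₂ := by
      by_contra hne
      have h1 := hno.ti P₁ P₂ hne
      have h2 : QuotientGroup.mk' (center ↥L) ⟨a, haL⟩ ∈ (P₁ : Subgroup (↥L ⧸ center ↥L)) ⊓ P₂ := ⟨hP₁a, hP₂a⟩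
      rw [h1, mem_bot, ← MonoidHom.mem_ker, QuotientGroup.ker_mk'] at h2
      exact hanc h2
    obtain ⟨P, hP'⟩ := Sylow.mapSurjective_surjective (QuotientGroup.mk'_surjective (center ↥L)) 2 P₁
    have hP'' : (P₁ : Subgroup (↥L ⧸ center ↥L)) = (P : Subgroup L).map (QuotientGroup.mk' (center ↥L)) := by
      rw [← hP', Sylow.coe_mapSurjective]
    have hbP : (⟨b, hbL⟩ : L) ∈ P := mem_of_mk_mem h.fam P hb (by rw [← hP'']; exact hP₁b)
    have hcP : (⟨c, hcL⟩ : L) ∈ P := mem_of_mk_mem h.fam P hc (by rw [← hP'', hP]; exact hP₂c)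
    exact hbc (h.fam.comm (P.2.map L.subtype) hb ⟨_, hbP, rfl⟩ hc ⟨_, hcP, rfl⟩)
  · obtain ⟨h1, h2, h3⟩ := GoldActNoSE.of_not_benPack h T h4 hL hact hno
    rw [h1]
    refine ⟨h2, h3, ?_⟩
    by_contra hcon
    push Not at hcon
    have hr := h.fam.restrict L
    obtain ⟨P₁, hP₁a, hP₁b⟩ := exists_sylow_of_comm hr (x := ⟨a, haL⟩) (y := ⟨b, hbL⟩) ha hb (Subtype.ext hab)
    obtain ⟨P₂, hP₂a, hP₂c⟩ := exists_sylow_of_comm hr (x := ⟨a, haL⟩) (y := ⟨c, hcL⟩) ha hc (Subtype.ext hac)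
    have hP : P₁ = P₂ := by
      by_contra hne
      have h5 := hcon P₁ P₂ hne
      have h6 : (⟨a, haL⟩ : L) ∈ (P₁ : Subgroup L) ⊓ P₂ := ⟨hP₁a, hP₂a⟩
      rw [h5, mem_bot] at h6
      exact ha1 (congrArg Subtype.val h6)
    rw [← hP] at hP₂c
    exact hbc (h.fam.comm (P₁.2.map L.subtype) hb ⟨_, hP₁b, rfl⟩ hc ⟨_, hP₂c, rfl⟩)

end X

/-! ### Lifting -/

section G

variable {G : Type u} [Group G] [Finite G] {𝒜 : Set G}

/-- Elements of the family commuting with a 2-subgroup modulo an odd subgroup can be corrected. -/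
theorem exists_corr (h : IsElemFam 𝒜) {O Q : Subgroup G} (hO : Odd (Nat.card O)) (hQ : IsPGroup 2 Q)
    (hn : Q ≤ normalizer (O : Set G)) {y : G} (hy : y ∈ 𝒜) (hyn : ∀ k ∈ O, y * k * y⁻¹ ∈ O)
    (hc : ∀ q ∈ Q, y * q * y⁻¹ * q⁻¹ ∈ O) : ∃ z ∈ 𝒜, z * y⁻¹ ∈ O ∧ ∀ q ∈ Q, z * q = q * z := by
  by_cases hy1 : y = 1
  · exact ⟨y, hy, by simp, fun q _ => by rw [hy1, one_mul, mul_one]⟩
  obtain ⟨v, hv, hvc⟩ := GoldW.exists_mul_mem_centralizer hO hQ hn hc
  have hyy := h.sq y hy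
  have hyi : y⁻¹ = y := h.inv_eq hy
  have hsq : (v * y) ^ 2 ∈ O := by
    have e : (v * y) ^ 2 = v * (y * v * y⁻¹) * (y * y) := by rw [pow_two]; group
    rw [e, hyy, mul_one]
    exact mul_mem hv (hyn v hv)
  set n := orderOf ((v * y) ^ 2) with hnn
  have hodd : Odd n := by
    have h1 := orderOf_dvd_natCard (⟨_, hsq⟩ : O)
    rw [Subgroup.orderOf_mk] at h1
    exact Odd.of_dvd_nat hO h1
  obtain ⟨m, hm⟩ := hodd
  have hz : (v * y) ^ n = ((v * y) ^ 2) ^ m * (v * y) := by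
    rw [hm, pow_succ, pow_mul]
  have hzO : (v * y) ^ n * y⁻¹ ∈ O := by
    have e : (v * y) ^ n * y⁻¹ = ((v * y) ^ 2) ^ m * v := by rw [hz]; group
    rw [e]
    exact mul_mem (pow_mem hsq m) hv
  have hz2 : (v * y) ^ n * (v * y) ^ n = 1 := by
    rw [← pow_add, ← two_mul, pow_mul, hnn]
    exact pow_orderOf_eq_one _
  have hz1 : (v * y) ^ n ≠ 1 := by
    intro e
    rw [e, one_mul] at hzO
    apply hy1
    have h1 : y ∈ O := by
      have := inv_mem hzO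
      rwa [inv_inv] at this
    exact eq_one_of_odd_of_isPGroup hO (h.toIsClosedFam.isPGroup_zpowers hy) h1 (mem_zpowers y)
  refine ⟨(v * y) ^ n, ?_, hzO, ?_⟩
  · obtain ⟨w, -, hw⟩ := exists_conj_of_mul_inv_mem hO (h.orderOf_eq hy hy1) (orderOf_eq_two hz2 hz1) hyn hzO
    rw [hw]
    exact h.conj_mem y hy w
  · intro q hq
    have h1 : Commute (v * y) q := (mem_centralizer_iff.1 hvc q hq).symm
    exact (h1.pow_left n).eq

omit [Finite G] in
theorem isPGroup_of_sq {f : G} (hff : f * f = 1) : IsPGroup 2 (zpowers f) := by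
  by_cases hf : f = 1
  · rw [hf, zpowers_one_eq_bot]; exact IsPGroup.of_bot
  · exact isPGroup_zpowers_of_orderOf (orderOf_eq_two hff hf)

omit [Finite G] in
theorem mem_zpowers_of_sq {f : G} (hff : f * f = 1) {x : G} (hx : x ∈ zpowers f) : x = 1 ∨ x = f := by
  obtain ⟨k, rfl⟩ := hx
  have h2 : f ^ (2 : ℤ) = 1 := by rw [zpow_ofNat, pow_two, hff]
  rcases Int.even_or_odd' k with ⟨m, rfl | rfl⟩
  · left
    change f ^ (2 * m) = 1
    rw [zpow_mul, h2, one_zpow]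
  · right
    change f ^ (2 * m + 1) = f
    rw [zpow_add, zpow_mul, h2, one_zpow, one_mul, zpow_one]

/-- Correction of an element with respect to an involution. -/
theorem exists_corr_one (h : IsElemFam 𝒜) {O : Subgroup G} (hO : Odd (Nat.card O)) {f : G} (hff : f * f = 1)
    (hfn : ∀ k ∈ O, f * k * f⁻¹ ∈ O) {y : G} (hy : y ∈ 𝒜) (hyn : ∀ k ∈ O, y * k * y⁻¹ ∈ O)
    (hc : y * f * y⁻¹ * f⁻¹ ∈ O) : ∃ z ∈ 𝒜, z * y⁻¹ ∈ O ∧ z * f = f * z := by
  have hfi : f⁻¹ = f := inv_eq_of_mul_eq_one_left hff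
  have hfN : f ∈ normalizer (O : Set G) := by
    rw [mem_normalizer_iff]
    intro k
    refine ⟨hfn k, fun hk => ?_⟩
    have := hfn _ hk
    have e : f * (f * k * f⁻¹) * f⁻¹ = (f * f) * k * (f * f)⁻¹ := by group
    rw [e, hff] at this
    simpa using this
  obtain ⟨z, hz, hzO, hzc⟩ := exists_corr h hO (isPGroup_of_sq hff) (Q := zpowers f)
    (by rw [zpowers_le]; exact hfN) hy hyn (by
      intro q hq
      rcases mem_zpowers_of_sq hff hq with rfl | rfl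
      · simp
      · exact hc)
  exact ⟨z, hz, hzO, hzc f (mem_zpowers f)⟩

/-- Correction of an element with respect to two commuting involutions. -/
theorem exists_corr_two (h : IsElemFam 𝒜) {O : Subgroup G} (hO : Odd (Nat.card O)) {f g : G} (hff : f * f = 1)
    (hgg : g * g = 1) (hfg : f * g = g * f) (hfn : ∀ k ∈ O, f * k * f⁻¹ ∈ O) (hgn : ∀ k ∈ O, g * k * g⁻¹ ∈ O)
    {y : G} (hy : y ∈ 𝒜) (hyn : ∀ k ∈ O, y * k * y⁻¹ ∈ O)
    (hc : y * f * y⁻¹ * f⁻¹ ∈ O) (hc' : y * g * y⁻¹ * g⁻¹ ∈ O) :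
    ∃ z ∈ 𝒜, z * y⁻¹ ∈ O ∧ z * f = f * z ∧ z * g = g * z := by
  have hN : ∀ f : G, f * f = 1 → (∀ k ∈ O, f * k * f⁻¹ ∈ O) → f ∈ normalizer (O : Set G) := by
    intro f hff hfn
    rw [mem_normalizer_iff]
    intro k
    refine ⟨hfn k, fun hk => ?_⟩
    have := hfn _ hk
    have e : f * (f * k * f⁻¹) * f⁻¹ = (f * f) * k * (f * f)⁻¹ := by group
    rw [e, hff] at this
    simpa using this
  have hcen : zpowers f ≤ normalizer ((zpowers g : Subgroup G) : Set G) := by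
    rw [zpowers_le]
    have : f ∈ centralizer ((zpowers g : Subgroup G) : Set G) := by
      rw [mem_centralizer_iff]
      rintro _ ⟨k, rfl⟩
      exact (Commute.zpow_left hfg.symm k).eq
    exact centralizer_le_normalizer _ this
  have hsup := IsPGroup.to_sup_of_normal_right' (isPGroup_of_sq hff) (isPGroup_of_sq hgg) hcen
  have hmem : ∀ x, x ∈ (zpowers f ⊔ zpowers g : Subgroup G) → ∃ a ∈ zpowers f, ∃ b ∈ zpowers g, x = a * b := by
    intro x hx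
    have h1 : x ∈ ((zpowers f ⊔ zpowers g : Subgroup G) : Set G) := hx
    rw [coe_mul_of_left_le_normalizer_right _ _ hcen, Set.mem_mul] at h1
    obtain ⟨a, ha, b, hb, e⟩ := h1
    exact ⟨a, ha, b, hb, e.symm⟩
  obtain ⟨z, hz, hzO, hzc⟩ := exists_corr h hO hsup (sup_le (by rw [zpowers_le]; exact hN f hff hfn)
    (by rw [zpowers_le]; exact hN g hgg hgn)) hy hyn (by
      intro q hq
      obtain ⟨a, ha, b, hb, rfl⟩ := hmem q hq
      have hca : y * a * y⁻¹ * a⁻¹ ∈ O := by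
        rcases mem_zpowers_of_sq hff ha with rfl | rfl
        · simp
        · exact hc
      have hcb : y * b * y⁻¹ * b⁻¹ ∈ O := by
        rcases mem_zpowers_of_sq hgg hb with rfl | rfl
        · simp
        · exact hc'
      have han : ∀ k ∈ O, a * k * a⁻¹ ∈ O := by
        rcases mem_zpowers_of_sq hff ha with rfl | rfl
        · intro k hk; simpa using hk
        · exact hfn
      have e : y * (a * b) * y⁻¹ * (a * b)⁻¹ = (y * a * y⁻¹ * a⁻¹) * (a * (y * b * y⁻¹ * b⁻¹) * a⁻¹) := by group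
      rw [e]
      exact mul_mem hca (han _ hcb))
  exact ⟨z, hz, hzO, hzc f (mem_sup_left (mem_zpowers f)), hzc g (mem_sup_right (mem_zpowers g))⟩

/-! ### The family of `C(e) ∩ C(f)` -/

/-- Every element of the family in `C(e)` is congruent to one commuting with `f`. -/
theorem exists_comm (h : IsElemFam 𝒜) {e f : G} (hff : f * f = 1) (hf : f ∈ cen 𝒜 e) {y : G} (hy : y ∈ 𝒜)
    (hye : y * e = e * y) : ∃ z ∈ 𝒜, z * e = e * z ∧ z * f = f * z ∧
      z * y⁻¹ ∈ core (centralizer ({e} : Set G)) := by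
  have hfe := (mem_cen.1 hf).1
  have hf2 := (mem_cen.1 hf).2 y hy hye
  obtain ⟨z, hz, hzO, hzf⟩ := exists_corr_one h (odd_core (centralizer ({e} : Set G))) hff
    (fun k hk => conj_mem_core (mem_cent.2 hfe) hk) hy (fun k hk => conj_mem_core (mem_cent.2 hye) hk) (by
      have := inv_mem hf2
      have e1 : (f * y * f⁻¹ * y⁻¹)⁻¹ = y * f * y⁻¹ * f⁻¹ := by group
      rwa [e1] at this)
  refine ⟨z, hz, ?_, hzf, hzO⟩
  have h1 : z * y⁻¹ ∈ centralizer ({e} : Set G) := core_le _ hzO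
  have h2 : z ∈ centralizer ({e} : Set G) := by
    have e1 : z = z * y⁻¹ * y := by group
    rw [e1]
    exact mul_mem h1 (mem_cent.2 hye)
  exact mem_cent.1 h2

/-- The same with a further element of the family. -/
theorem exists_comm_two (h : IsElemFam 𝒜) {e f g : G} (hff : f * f = 1) (hf : f ∈ cen 𝒜 e) (hg : g ∈ 𝒜)
    (hge : g * e = e * g) (hgf : g * f = f * g) {y : G} (hy : y ∈ 𝒜)
    (hye : y * e = e * y) (hyg : y * g * y⁻¹ * g⁻¹ ∈ core (centralizer ({e} : Set G))) :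
    ∃ z ∈ 𝒜, z * e = e * z ∧ z * f = f * z ∧ z * g = g * z ∧ z * y⁻¹ ∈ core (centralizer ({e} : Set G)) := by
  have hfe := (mem_cen.1 hf).1
  have hf2 := (mem_cen.1 hf).2 y hy hye
  obtain ⟨z, hz, hzO, hzf, hzg⟩ := exists_corr_two h (odd_core (centralizer ({e} : Set G))) hff (h.sq g hg)
    hgf.symm (fun k hk => conj_mem_core (mem_cent.2 hfe) hk) (fun k hk => conj_mem_core (mem_cent.2 hge) hk) hy
    (fun k hk => conj_mem_core (mem_cent.2 hye) hk) (by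
      have := inv_mem hf2
      have e1 : (f * y * f⁻¹ * y⁻¹)⁻¹ = y * f * y⁻¹ * f⁻¹ := by group
      rwa [e1] at this) hyg
  refine ⟨z, hz, ?_, hzf, hzg, hzO⟩
  have h1 : z * y⁻¹ ∈ centralizer ({e} : Set G) := core_le _ hzO
  have h2 : z ∈ centralizer ({e} : Set G) := by
    have e1 : z = z * y⁻¹ * y := by group
    rw [e1]
    exact mul_mem h1 (mem_cent.2 hye)
  exact mem_cent.1 h2

/-- `O(C(f)) ∩ ⟨𝒜 ∩ C(e) ∩ C(f)⟩ ≤ O(C(e))`. -/
theorem core_inf_fam_le (h : IsElemFam 𝒜) {e f : G} (he : Bad 𝒜 e) (hff : f * f = 1) (hf : f ∈ cen 𝒜 e) :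
    core (centralizer ({f} : Set G)) ⊓ fam 𝒜 (centralizer ({e} : Set G) ⊓ centralizer ({f} : Set G)) ≤
      core (centralizer ({e} : Set G)) := by
  classical
  haveI : Fact (Nat.Prime 2) := ⟨Nat.prime_two⟩
  set H := centralizer ({e} : Set G) with hH
  set F := centralizer ({f} : Set G) with hF
  set π := QuotientGroup.mk' (Cfsg.oddCore ↥H) with hπ
  set K := fam (push 𝒜 H) (⊤ : Subgroup (↥H ⧸ Cfsg.oddCore ↥H)) with hK
  haveI := he.2.2.1
  set N₁ := core F ⊓ fam 𝒜 (H ⊓ F) with hN₁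
  have hN₁H : N₁ ≤ H := inf_le_right.trans ((fam_le _ _).trans inf_le_left)
  have hπ1 : ∀ x y : H, (x : G) * (y : G)⁻¹ ∈ core H → π x = π y := by
    intro x y hxy
    obtain ⟨c, hc, hce⟩ := hxy
    have e1 : x * y⁻¹ = c := Subtype.ext hce.symm
    have e2 : π (x * y⁻¹) = 1 := by
      rw [e1, ← MonoidHom.mem_ker, hπ, QuotientGroup.ker_mk']; exact hc
    rw [map_mul, map_inv, mul_inv_eq_one] at e2
    exact e2
  -- `N₁` is mapped into `K`
  have hNK : (N₁.subgroupOf H).map π ≤ K := by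
    have h1 : fam 𝒜 (H ⊓ F) ≤ (K.comap π).map H.subtype := by
      rw [fam_le_iff]
      intro x hx hxH
      exact ⟨⟨x, hxH.1⟩, mem_fam ⟨⟨x, hxH.1⟩, hx, rfl⟩ (mem_top _), rfl⟩
    rintro _ ⟨n, hn, rfl⟩
    obtain ⟨m, hm, hmn⟩ := h1 (hn.2)
    have : m = n := Subtype.ext hmn
    rw [← this]; exact hm
  -- `K` normalizes the image
  have hHFn : H ⊓ F ≤ normalizer (N₁ : Set G) :=
    ClosedFour.le_normalizer_inf (inf_le_right.trans (ClosedFour.le_normalizer_core F))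
      (h.toIsClosedFam.le_normalizer_fam _)
  have hKN : K ≤ normalizer (((N₁.subgroupOf H).map π : Subgroup (↥H ⧸ Cfsg.oddCore ↥H)) :
      Set (↥H ⧸ Cfsg.oddCore ↥H)) := by
    rw [hK, fam_le_iff]
    rintro _ ⟨k, hk, rfl⟩ -
    obtain ⟨z, hz, hze, hzf, hzO⟩ := exists_comm h hff hf hk (mem_cent.1 k.2)
    have h1 : π k = π ⟨z, mem_cent.2 hze⟩ := (hπ1 ⟨z, mem_cent.2 hze⟩ k hzO).symm
    change π k ∈ _
    rw [h1]
    have h2 : (⟨z, mem_cent.2 hze⟩ : H) ∈ normalizer ((N₁.subgroupOf H : Subgroup H) : Set H) := by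
      have h3 := hHFn (show z ∈ H ⊓ F from ⟨mem_cent.2 hze, mem_cent.2 hzf⟩)
      rw [mem_normalizer_iff] at h3 ⊢
      intro x
      exact h3 x
    exact le_normalizer_map π ⟨_, h2, rfl⟩
  have hodd : Odd (Nat.card ((N₁.subgroupOf H).map π)) := by
    refine Odd.of_dvd_nat ?_ (Subgroup.card_map_dvd _ _)
    rw [Nat.card_congr (subgroupOfEquivOfLe hN₁H).toEquiv]
    exact Odd.of_dvd_nat (odd_core F) (card_dvd_of_le inf_le_left)
  have hnor : (((N₁.subgroupOf H).map π).subgroupOf K).Normal := normal_subgroupOf_of_le_normalizer hKN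
  rcases IsSimpleGroup.eq_bot_or_eq_top_of_normal _ hnor with hb | ht
  · intro n hn
    have h1 : (⟨π ⟨n, hN₁H hn⟩, hNK ⟨⟨n, hN₁H hn⟩, hn, rfl⟩⟩ : K) ∈ ((N₁.subgroupOf H).map π).subgroupOf K :=
      ⟨⟨n, hN₁H hn⟩, hn, rfl⟩
    rw [hb, mem_bot] at h1
    have h2 : π ⟨n, hN₁H hn⟩ = 1 := congrArg Subtype.val h1
    rw [← MonoidHom.mem_ker, hπ, QuotientGroup.ker_mk'] at h2
    exact ⟨_, h2, rfl⟩
  · exfalso
    rw [subgroupOf_eq_top] at ht
    obtain ⟨Q⟩ : Nonempty (Sylow 2 ↥K) := inferInstance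
    have h1 := he.2.2.2.1 Q
    have h2 : Nat.card Q ∣ Nat.card K := card_subgroup_dvd_card (Q : Subgroup ↥K)
    have h3 : Odd (Nat.card Q) := Odd.of_dvd_nat (Odd.of_dvd_nat hodd (card_dvd_of_le ht)) h2
    rw [h1] at h3
    exact absurd h3 (by decide)

/-- Three elements of the family in `C(e)`. -/
theorem exists_triple_bad (h : IsElemFam 𝒜) (S : Sylow 2 G) (h4 : Nat.card (fam 𝒜 (S : Subgroup G)) = 4) {e : G}
    (he : Bad 𝒜 e) (hAe : ∀ a ∈ fam 𝒜 (S : Subgroup G), a * e = e * a) :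
    ∃ a ∈ 𝒜, ∃ b ∈ 𝒜, ∃ c ∈ 𝒜, a * e = e * a ∧ b * e = e * b ∧ c * e = e * c ∧
      a ∉ core (centralizer ({e} : Set G)) ∧ a * b * a⁻¹ * b⁻¹ ∈ core (centralizer ({e} : Set G)) ∧
      a * c * a⁻¹ * c⁻¹ ∈ core (centralizer ({e} : Set G)) ∧
      b * c * b⁻¹ * c⁻¹ ∉ core (centralizer ({e} : Set G)) := by
  classical
  set H := centralizer ({e} : Set G) with hH
  set π := QuotientGroup.mk' (Cfsg.oddCore ↥H) with hπ
  have hAH : fam 𝒜 (S : Subgroup G) ≤ H := fun a ha => mem_cent.2 (hAe a ha)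
  obtain ⟨P, hP⟩ := GoldSolid.exists_sylow_push h S hAH
  have hcard : Nat.card (fam (push 𝒜 H) (P : Subgroup (↥H ⧸ Cfsg.oddCore ↥H))) = 4 := by
    rw [hP]
    exact (GoldCenAct.image_facts h S h4 he hAH).2.2.1
  obtain ⟨-, -, -, hcd, Q, R, hne, hQR⟩ := he
  obtain ⟨_, ⟨a, ha, rfl⟩, _, ⟨b, hb, rfl⟩, _, ⟨c, hc, rfl⟩, ha1, hab, hac, hbc⟩ :=
    exists_triple (h.push H) P hcard hcd hne hQR
  have hπ1 : ∀ x : H, (x : G) ∈ core H ↔ π x = 1 := by
    intro x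
    rw [← MonoidHom.mem_ker, hπ, QuotientGroup.ker_mk']
    constructor
    · rintro ⟨y, hy, hyx⟩
      have : y = x := Subtype.ext hyx
      rwa [← this]
    · intro hx
      exact ⟨x, hx, rfl⟩
  have hcomm : ∀ x y : H, (x : G) * y * (x : G)⁻¹ * (y : G)⁻¹ ∈ core H ↔ π x * π y = π y * π x := by
    intro x y
    have e1 : (x : G) * y * (x : G)⁻¹ * (y : G)⁻¹ = ((x * y * x⁻¹ * y⁻¹ : H) : G) := rfl
    rw [e1, hπ1, map_mul, map_mul, map_mul, map_inv, map_inv, mul_inv_eq_one, mul_inv_eq_iff_eq_mul]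
  refine ⟨a, ha, b, hb, c, hc, mem_cent.1 a.2, mem_cent.1 b.2, mem_cent.1 c.2, ?_, (hcomm a b).2 hab,
    (hcomm a c).2 hac, fun hx => hbc ((hcomm b c).1 hx)⟩
  intro hx
  exact ha1 ((hπ1 a).1 hx)

theorem bad_of_bad (h : Setup 𝒜) (S : Sylow 2 G) (h4 : Nat.card (fam 𝒜 (S : Subgroup G)) = 4) {e f : G}
    (he : Bad 𝒜 e) (hAe : ∀ a ∈ fam 𝒜 (S : Subgroup G), a * e = e * a) (hff : f * f = 1) (hf1 : f ≠ 1)
    (hf : f ∈ cen 𝒜 e) (hAf : ∀ a ∈ fam 𝒜 (S : Subgroup G), a * f = f * a) : Bad 𝒜 f := by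
  classical
  obtain ⟨a, ha, b, hb, c, hc, hae, hbe, hce, haO, habO, hacO, hbcO⟩ := exists_triple_bad h.fam S h4 he hAe
  have hcon : ∀ {x y : G}, x * e = e * x → y ∈ core (centralizer ({e} : Set G)) →
      x * y * x⁻¹ ∈ core (centralizer ({e} : Set G)) := fun hx hy => conj_mem_core (mem_cent.2 hx) hy
  obtain ⟨a', ha', hae', haf', haa'⟩ := exists_comm h.fam hff hf ha hae
  -- `[b, a'] ∈ O`
  have hkey : ∀ y : G, y * e = e * y → a * y * a⁻¹ * y⁻¹ ∈ core (centralizer ({e} : Set G)) →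
      y * a' * y⁻¹ * a'⁻¹ ∈ core (centralizer ({e} : Set G)) := by
    intro y hye hay
    -- `a' = v a`
    have e1 : y * a' * y⁻¹ * a'⁻¹ =
        (y * (a' * a⁻¹) * y⁻¹) * (a * y * a⁻¹ * y⁻¹)⁻¹ * (a' * a⁻¹)⁻¹ := by group
    rw [e1]
    exact mul_mem (mul_mem (hcon hye haa') (inv_mem hay)) (inv_mem haa')
  obtain ⟨b', hb', hbe', hbf', hba', hbb'⟩ := exists_comm_two h.fam hff hf ha' hae' haf' hb hbe (hkey b hbe habO)
  obtain ⟨c', hc', hce', hcf', hca', hcc'⟩ := exists_comm_two h.fam hff hf ha' hae' haf' hc hce (hkey c hce hacO)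
  -- `[b', c'] ∉ O(C(e))`
  have hbc' : b' * c' * b'⁻¹ * c'⁻¹ ∉ core (centralizer ({e} : Set G)) := by
    intro hx
    apply hbcO
    -- `b = v b'`, `c = w c'`
    have hv : b * b'⁻¹ ∈ core (centralizer ({e} : Set G)) := by
      have := inv_mem hbb'
      have e1 : (b' * b⁻¹)⁻¹ = b * b'⁻¹ := by group
      rwa [e1] at this
    have hw : c * c'⁻¹ ∈ core (centralizer ({e} : Set G)) := by
      have := inv_mem hcc'
      have e1 : (c' * c⁻¹)⁻¹ = c * c'⁻¹ := by group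
      rwa [e1] at this
    have e1 : b * c * b⁻¹ * c⁻¹ = (b * b'⁻¹) * (b' * (c * c'⁻¹) * b'⁻¹) * (b' * c' * b'⁻¹ * c'⁻¹) *
        (c' * (b * b'⁻¹)⁻¹ * c'⁻¹) * (c * c'⁻¹)⁻¹ := by group
    rw [e1]
    exact mul_mem (mul_mem (mul_mem (mul_mem hv (hcon hbe' hw)) hx) (hcon hce' (inv_mem hv))) (inv_mem hw)
  -- pass to `C(f)/O(C(f))`
  set F := centralizer ({f} : Set G) with hF
  set π := QuotientGroup.mk' (Cfsg.oddCore ↥F) with hπ
  have hAF : fam 𝒜 (S : Subgroup G) ≤ F := fun a ha => mem_cent.2 (hAf a ha)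
  obtain ⟨P, hP⟩ := GoldSolid.exists_sylow_push h.fam S hAF
  have hcard : Nat.card (fam (push 𝒜 F) (P : Subgroup (↥F ⧸ Cfsg.oddCore ↥F))) ≤ 4 := by
    rw [hP]
    refine (Nat.card_image_le (Set.toFinite _)).trans ?_
    change Nat.card ((fam 𝒜 (S : Subgroup G)).subgroupOf F) ≤ 4
    rw [Nat.card_congr (subgroupOfEquivOfLe hAF).toEquiv, h4]
  have ha'F : a' ∈ F := mem_cent.2 haf'
  have hb'F : b' ∈ F := mem_cent.2 hbf'
  have hc'F : c' ∈ F := mem_cent.2 hcf'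
  refine ⟨hff, hf1, of_triple (h.ctxCent hf1) P hcard (a := π ⟨a', ha'F⟩) (b := π ⟨b', hb'F⟩)
    (c := π ⟨c', hc'F⟩) ⟨_, ha', rfl⟩ ⟨_, hb', rfl⟩ ⟨_, hc', rfl⟩ ?_ ?_ ?_ ?_⟩
  · intro e1
    have h1 : a' ∈ core F := by
      rw [← MonoidHom.mem_ker, hπ, QuotientGroup.ker_mk'] at e1
      exact ⟨_, e1, rfl⟩
    have h2 : a' = 1 := eq_one_of_odd_of_isPGroup (odd_core F) (h.fam.toIsClosedFam.isPGroup_zpowers ha') h1
      (mem_zpowers a')
    apply haO
    rw [h2, one_mul] at haa'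
    have := inv_mem haa'
    rwa [inv_inv] at this
  · rw [← map_mul, ← map_mul]; congr 1; exact Subtype.ext hba'.symm
  · rw [← map_mul, ← map_mul]; congr 1; exact Subtype.ext hca'.symm
  · intro e1
    apply hbc'
    refine core_inf_fam_le h.fam he hff hf ⟨?_, ?_⟩
    · have h1 : π (⟨b', hb'F⟩ * ⟨c', hc'F⟩ * ⟨b', hb'F⟩⁻¹ * ⟨c', hc'F⟩⁻¹) = 1 := by
        rw [map_mul, map_mul, map_mul, map_inv, map_inv, e1]; group
      rw [← MonoidHom.mem_ker, hπ, QuotientGroup.ker_mk'] at h1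
      exact ⟨_, h1, rfl⟩
    · have h1 : b' ∈ fam 𝒜 (centralizer ({e} : Set G) ⊓ F) := mem_fam hb' ⟨mem_cent.2 hbe', hb'F⟩
      have h2 : c' ∈ fam 𝒜 (centralizer ({e} : Set G) ⊓ F) := mem_fam hc' ⟨mem_cent.2 hce', hc'F⟩
      exact Subgroup.mul_mem _ (Subgroup.mul_mem _ (Subgroup.mul_mem _ h1 h2) (Subgroup.inv_mem _ h1))
        (Subgroup.inv_mem _ h2)

/-- Transfer of the centralizers. -/
theorem mem_cen_of_mem_cen (h : Setup 𝒜) (S : Sylow 2 G) (h4 : Nat.card (fam 𝒜 (S : Subgroup G)) = 4) {e f : G}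
    (he : Bad 𝒜 e) (hAe : ∀ a ∈ fam 𝒜 (S : Subgroup G), a * e = e * a) (hbf : Bad 𝒜 f)
    (hf : f ∈ cen 𝒜 e) (hAf : ∀ a ∈ fam 𝒜 (S : Subgroup G), a * f = f * a) {p : G}
    (hp : ∃ k : ℕ, p ^ 2 ^ k = 1) (hpe : p * e = e * p) (hpf : p * f = f * p)
    (hpA : ∀ a ∈ fam 𝒜 (S : Subgroup G), p * a = a * p) (hpc : p ∈ cen 𝒜 e) : p ∈ cen 𝒜 f := by
  obtain ⟨a, ha, hap⟩ := GoldCenAct.exists_mul_mem_cen h.fam S h4 hbf hAf hpf hpA hp
  have hac : a ∈ cen 𝒜 e := by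
    rw [mem_cen]
    refine ⟨hAe a ha, fun k hk hke => ?_⟩
    have hcon : ∀ {x y : G}, x * e = e * x → y ∈ core (centralizer ({e} : Set G)) →
        x * y * x⁻¹ ∈ core (centralizer ({e} : Set G)) := fun hx hy => conj_mem_core (mem_cent.2 hx) hy
    obtain ⟨z, hz, hze, hzf, hzO⟩ := exists_comm h.fam hbf.1 hf hk hke
    -- `[ap, z] ∈ O(C(e))`
    have h1 : (a * p) * z * (a * p)⁻¹ * z⁻¹ ∈ core (centralizer ({e} : Set G)) := by
      refine core_inf_fam_le h.fam he hbf.1 hf ⟨(mem_cen.1 hap).2 z hz hzf, ?_⟩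
      have h2 : a * p ∈ centralizer ({e} : Set G) ⊓ centralizer ({f} : Set G) :=
        ⟨mul_mem (mem_cent.2 (hAe a ha)) (mem_cent.2 hpe), mul_mem (mem_cent.2 (hAf a ha)) (mem_cent.2 hpf)⟩
      have h3 : z ∈ fam 𝒜 (centralizer ({e} : Set G) ⊓ centralizer ({f} : Set G)) :=
        mem_fam hz ⟨mem_cent.2 hze, mem_cent.2 hzf⟩
      refine Subgroup.mul_mem _ (h.fam.toIsClosedFam.conj_mem_fam (fun x hx => ?_) h3) (Subgroup.inv_mem _ h3)
      exact Subgroup.mul_mem _ (Subgroup.mul_mem _ h2 hx) (Subgroup.inv_mem _ h2)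
    have h2 : p * z * p⁻¹ * z⁻¹ ∈ core (centralizer ({e} : Set G)) := (mem_cen.1 hpc).2 z hz hze
    have h3 : a * z * a⁻¹ * z⁻¹ ∈ core (centralizer ({e} : Set G)) := by
      have e1 : a * z * a⁻¹ * z⁻¹ = (a * (p * z * p⁻¹ * z⁻¹) * a⁻¹)⁻¹ * ((a * p) * z * (a * p)⁻¹ * z⁻¹) := by group
      rw [e1]
      exact mul_mem (inv_mem (hcon (hAe a ha) h2)) h1
    have hw : k * z⁻¹ ∈ core (centralizer ({e} : Set G)) := by
      have := inv_mem hzO
      have e1 : (z * k⁻¹)⁻¹ = k * z⁻¹ := by group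
      rwa [e1] at this
    have e1 : a * k * a⁻¹ * k⁻¹ = (a * (k * z⁻¹) * a⁻¹) * (a * z * a⁻¹ * z⁻¹) * (k * z⁻¹)⁻¹ := by group
    rw [e1]
    exact mul_mem (mul_mem (hcon (hAe a ha) hw) h3) (inv_mem hw)
  have ha1 := GoldCenAct.eq_one_of_mem_cen h.fam S h4 he hAe ha hac
  rwa [ha1, one_mul] at hap

/-- The main result: bad involutions commuting modulo cores. -/
theorem bal (h : Setup 𝒜) (S : Sylow 2 G) (h4 : Nat.card (fam 𝒜 (S : Subgroup G)) = 4) {e f : G}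
    (he : Bad 𝒜 e) (hAe : ∀ a ∈ fam 𝒜 (S : Subgroup G), a * e = e * a) (hff : f * f = 1) (hf1 : f ≠ 1)
    (hf : f ∈ cen 𝒜 e) (hAf : ∀ a ∈ fam 𝒜 (S : Subgroup G), a * f = f * a) :
    Bad 𝒜 f ∧ ∀ p : G, (∃ k : ℕ, p ^ 2 ^ k = 1) → p * e = e * p → p * f = f * p →
      (∀ a ∈ fam 𝒜 (S : Subgroup G), p * a = a * p) → (p ∈ cen 𝒜 e ↔ p ∈ cen 𝒜 f) := by
  have hbf := bad_of_bad h S h4 he hAe hff hf1 hf hAf
  have hfe := (mem_cen.1 hf).1
  have hecf : e ∈ cen 𝒜 f := mem_cen_of_mem_cen h S h4 he hAe hbf hf hAf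
    ⟨1, by rw [pow_one, pow_two]; exact he.1⟩ rfl hfe.symm (fun a ha => (hAe a ha).symm) GoldCenAct.self_mem_cen
  refine ⟨hbf, fun p hp hpe hpf hpA => ⟨?_, ?_⟩⟩
  · exact mem_cen_of_mem_cen h S h4 he hAe hbf hf hAf hp hpe hpf hpA
  · exact mem_cen_of_mem_cen h S h4 hbf hAf he hecf hAe hp hpf hpe hpA

end G

end Cfsg.Agent.TwoFusion.GoldCenBal
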