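import Cfsg.Agent.TwoFusion.GoldControl
import Cfsg.Agent.TwoFusion.IndexTwo

/-!
# Basic facts on abelian strongly closed 2-subgroups of simple groups

* `index_ne_two`: `N_G(A)` has no subgroup of index two (`G` simple nonabelian);
* `exists_minimal`: minimal strongly closed subgroups; the normalizer acts irreducibly on them.
-/

set_option autoImplicit false

namespace Cfsg.Agent.TwoFusion.GoldBasic

open Subgroup Cfsg.Agent.Lib.GoldschmidtFusion Cfsg.Agent.TwoFusion.GoldControl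

variable {G : Type*} [Group G] [Finite G]

omit [Finite G] in
/-- A finite simple group with a subgroup of index two is commutative. -/
theorem comm_of_index_two [IsSimpleGroup G] {H : Subgroup G} (hH : H.index = 2) (a b : G) : a * b = b * a := by
  have : H.Normal := normal_of_index_eq_two hH
  rcases IsSimpleGroup.eq_bot_or_eq_top_of_normal H inferInstance with h | h
  · rw [h, index_bot] at hH
    have : Fact (Nat.Prime 2) := ⟨Nat.prime_two⟩
    have : IsCyclic G := isCyclic_of_prime_card hH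
    exact (IsCyclic.commGroup (α := G)).mul_comm a b
  · rw [h, index_top] at hH
    omega

theorem index_ne_two_aux [IsSimpleGroup G] (hna : ∃ a b : G, a * b ≠ b * a) (S : Sylow 2 G) {A : Subgroup G}
    (hA : Cfsg.IsStronglyClosed A (S : Subgroup G)) (hcomm : ∀ a ∈ A, ∀ b ∈ A, a * b = b * a)
    {N : Subgroup G} (hN : normalizer (A : Set G) = N) (N₀ : Subgroup N) : N₀.index ≠ 2 := by
  intro hN₀
  have : Fact (Nat.Prime 2) := ⟨Nat.prime_two⟩
  have hN₀n : N₀.Normal := normal_of_index_eq_two hN₀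
  have hSN : (S : Subgroup G) ≤ N := hN ▸ le_normalizer_of_sc hA
  -- the trace of `N₀` on `S`
  let M : Subgroup (S : Subgroup G) := N₀.comap (inclusion hSN)
  have hMmem : ∀ s : (S : Subgroup G), s ∈ M ↔ (⟨(s : G), hSN s.2⟩ : N) ∈ N₀ := fun s => Iff.rfl
  have hSodd := Cfsg.Agent.TwoFusion.IndexTwo.odd_index_sylow S
  -- some element of `S` lies outside of `N₀`
  obtain ⟨s, hs⟩ : ∃ s : (S : Subgroup G), s ∉ M := by
    by_contra hcon
    push Not at hcon
    have h1 : (S : Subgroup G).subgroupOf N ≤ N₀ := by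
      intro x hx
      have := hcon ⟨x, hx⟩
      rwa [hMmem] at this
    have h2 : N₀.index ∣ ((S : Subgroup G).subgroupOf N).index := index_dvd_of_le h1
    have h3 : ((S : Subgroup G).subgroupOf N).index ∣ (S : Subgroup G).index := by
      have := relIndex_mul_index hSN
      exact Dvd.intro _ this
    rw [hN₀] at h2
    exact (Nat.not_even_iff_odd.2 hSodd) (even_iff_two_dvd.2 (h2.trans h3))
  have hmul : ∀ x y : N, x * y ∈ N₀ ↔ (x ∈ N₀ ↔ y ∈ N₀) := fun x y => mul_mem_iff_of_index_two hN₀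
  have hMi : M.index = 2 := by
    rw [index_eq_two_iff]
    refine ⟨s, fun b => ?_⟩
    rw [hMmem] at hs
    have h1 : (⟨((b * s : (S : Subgroup G)) : G), hSN (b * s).2⟩ : N) = ⟨(b : G), hSN b.2⟩ * ⟨(s : G), hSN s.2⟩ := rfl
    rw [hMmem, hMmem, h1, hmul]
    by_cases hb : (⟨(b : G), hSN b.2⟩ : N) ∈ N₀
    · right; exact ⟨hb, fun h => hs (h.1 hb)⟩
    · left
      exact ⟨⟨fun h => absurd h hb, fun h => absurd h hs⟩, hb⟩
  obtain ⟨H, hH⟩ := Cfsg.Agent.TwoFusion.IndexTwo.exists_index_two (S : Subgroup G) hSodd M hMi s hs (by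
    intro k g₀ h
    have hsk : ((s : G)) ^ k ∈ (S : Subgroup G) := pow_mem s.2 k
    obtain ⟨n, hn, e⟩ := control_elem S hA hcomm (x := (s : G) ^ k) (g := g₀⁻¹) hsk (by simpa using h)
    rw [hN] at hn
    have e' : g₀⁻¹ * (s : G) ^ k * g₀ = n * (s : G) ^ k * n⁻¹ := by rw [← e]; group
    rw [hMmem, hMmem]
    have e2 : (⟨((⟨g₀⁻¹ * (s : G) ^ k * g₀, h⟩ : (S : Subgroup G)) : G), hSN h⟩ : N) =
        (⟨n, hn⟩ : N) * ⟨((s ^ k : (S : Subgroup G)) : G), hSN (s ^ k).2⟩ * (⟨n, hn⟩ : N)⁻¹ := by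
      apply Subtype.ext
      simpa using e'
    rw [e2]
    constructor
    · intro hh
      have h3 := hN₀n.conj_mem _ hh (⟨n, hn⟩ : N)⁻¹
      have e3 : (⟨n, hn⟩ : N)⁻¹ * ((⟨n, hn⟩ : N) * ⟨((s ^ k : (S : Subgroup G)) : G), hSN (s ^ k).2⟩ *
          (⟨n, hn⟩ : N)⁻¹) * (⟨n, hn⟩ : N)⁻¹⁻¹ = ⟨((s ^ k : (S : Subgroup G)) : G), hSN (s ^ k).2⟩ := by group
      rw [e3] at h3
      exact h3
    · intro hh
      exact hN₀n.conj_mem _ hh _)
  obtain ⟨a, b, hab⟩ := hna
  exact hab (comm_of_index_two hH a b)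

/-- The normalizer of an abelian strongly closed 2-subgroup of a nonabelian simple group has no subgroup of
index two. -/
theorem index_ne_two [IsSimpleGroup G] (hna : ∃ a b : G, a * b ≠ b * a) (S : Sylow 2 G) {A : Subgroup G}
    (hA : Cfsg.IsStronglyClosed A (S : Subgroup G)) (hcomm : ∀ a ∈ A, ∀ b ∈ A, a * b = b * a)
    (N₀ : Subgroup ↥(normalizer (A : Set G))) : N₀.index ≠ 2 :=
  index_ne_two_aux hna S hA hcomm rfl N₀

/-- Existence of minimal nontrivial strongly closed subgroups inside a given one. -/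
theorem exists_minimal_sc {S B : Subgroup G} (hB : B ≠ ⊥) (hBS : Cfsg.IsStronglyClosed B S) :
    ∃ A : Subgroup G, A ≤ B ∧ A ≠ ⊥ ∧ Cfsg.IsStronglyClosed A S ∧
      ∀ C : Subgroup G, C ≤ A → Cfsg.IsStronglyClosed C S → C = ⊥ ∨ C = A := by
  classical
  obtain ⟨A, ⟨hA1, hA2, hA3⟩, hmin⟩ := Set.Finite.exists_minimal
    (Set.toFinite {A : Subgroup G | A ≤ B ∧ A ≠ ⊥ ∧ Cfsg.IsStronglyClosed A S}) ⟨B, le_rfl, hB, hBS⟩
  refine ⟨A, hA1, hA2, hA3, fun C hCA hC => ?_⟩
  by_cases hC0 : C = ⊥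
  · exact Or.inl hC0
  · exact Or.inr (le_antisymm hCA (hmin ⟨hCA.trans hA1, hC0, hC⟩ hCA))

/-- The normalizer of a minimal strongly closed abelian subgroup acts irreducibly. -/
theorem irreducible_of_minimal {p : ℕ} [Fact p.Prime] (S : Sylow p G) {A : Subgroup G}
    (hA : Cfsg.IsStronglyClosed A (S : Subgroup G)) (hcomm : ∀ a ∈ A, ∀ b ∈ A, a * b = b * a)
    (hmin : ∀ C : Subgroup G, C ≤ A → Cfsg.IsStronglyClosed C (S : Subgroup G) → C = ⊥ ∨ C = A)
    {B : Subgroup G} (hBA : B ≤ A) (hB : ∀ n ∈ normalizer (A : Set G), ∀ x ∈ B, n * x * n⁻¹ ∈ B) :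
    B = ⊥ ∨ B = A :=
  hmin B hBA (sc_of_le_of_invariant S hA hcomm hBA hB)

omit [Finite G] in
/-- The elements of order dividing `p` of a strongly closed abelian subgroup form a strongly closed
subgroup. -/
theorem exists_omega {p : ℕ} {S A : Subgroup G} (hA : Cfsg.IsStronglyClosed A S)
    (hcomm : ∀ a ∈ A, ∀ b ∈ A, a * b = b * a) :
    ∃ B : Subgroup G, B ≤ A ∧ Cfsg.IsStronglyClosed B S ∧ ∀ x, x ∈ B ↔ x ∈ A ∧ x ^ p = 1 := by
  let B : Subgroup G :=
    { carrier := {x | x ∈ A ∧ x ^ p = 1}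
      one_mem' := ⟨one_mem _, one_pow _⟩
      mul_mem' := by
        rintro x y ⟨hx, hx1⟩ ⟨hy, hy1⟩
        refine ⟨mul_mem hx hy, ?_⟩
        rw [(show Commute x y from hcomm x hx y hy).mul_pow, hx1, hy1, mul_one]
      inv_mem' := by
        rintro x ⟨hx, hx1⟩
        exact ⟨inv_mem hx, by rw [inv_pow, hx1, inv_one]⟩ }
  refine ⟨B, fun x hx => hx.1, ⟨fun x hx => hA.1 hx.1, fun x hx g hg => ⟨hA.2 x hx.1 g hg, ?_⟩⟩, fun x => Iff.rfl⟩
  rw [conj_pow, hx.2]; simp

end Cfsg.Agent.TwoFusion.GoldBasic
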