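import Cfsg.Agent.TwoFusion.GoldDefs
import Cfsg.Agent.TwoFusion.GoldBasic
import Cfsg.Agent.S0215

/-!
# Goldschmidt's theorem: the minimal counterexample

`Setup 𝒜`: `G` is finite simple nonabelian, without strongly embedded subgroup, `𝒜` is a minimal nontrivial
elementary closed family, and the induction hypothesis holds in all `C(w)/O(C(w))`, `w ∈ 𝒜#`.
For a Sylow 2-subgroup `S` the subgroup `A = fam 𝒜 S = 𝒜 ∩ S` is elementary abelian, strongly closed,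
`N_G(A)` controls fusion in `S`, acts irreducibly on `A` and has no subgroup of index two.
-/

set_option autoImplicit false
set_option linter.style.haveILetI false

namespace Cfsg.Agent.TwoFusion.GoldSetup

open Subgroup
open Cfsg.Agent.TwoFusion.ClosedFam Cfsg.Agent.TwoFusion.Gold

universe u

/-- A minimal counterexample to Goldschmidt's theorem (without strongly embedded subgroup). -/
structure Setup {G : Type u} [Group G] (𝒜 : Set G) : Prop where
  simple : IsSimpleGroup G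
  nonab : ∃ a b : G, a * b ≠ b * a
  fam : IsElemFam 𝒜
  nontriv : ∃ x ∈ 𝒜, x ≠ 1
  minl : ∀ ℬ : Set G, IsElemFam ℬ → ℬ ⊆ 𝒜 → (∃ x ∈ ℬ, x ≠ 1) → ℬ = 𝒜
  ctx : ∀ w ∈ 𝒜, w ≠ 1 → Ctx (push 𝒜 (centralizer ({w} : Set G)))
  ctxAll : ∀ H : Subgroup G, H ≠ ⊤ → Ctx (push 𝒜 H)
  noSE : ¬ ∃ H : Subgroup G, Cfsg.IsStronglyEmbedded H

/-- The elements conjugate to elements of a strongly closed subgroup of an elementary family form an elementary
family. -/
theorem isElemFam_conj {G : Type*} [Group G] [Finite G] {𝒜 : Set G} (h : IsElemFam 𝒜) (S : Sylow 2 G)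
    {B : Subgroup G} (hB : Cfsg.IsStronglyClosed B (S : Subgroup G)) (hBA : B ≤ fam 𝒜 (S : Subgroup G)) :
    IsElemFam {x : G | ∃ g : G, g * x * g⁻¹ ∈ B} ∧ {x : G | ∃ g : G, g * x * g⁻¹ ∈ B} ⊆ 𝒜 := by
  have hsub : {x : G | ∃ g : G, g * x * g⁻¹ ∈ B} ⊆ 𝒜 := by
    rintro x ⟨g, hg⟩
    have h1 := ((h.toIsClosedFam.mem_fam_iff S.2).1 (hBA hg)).1
    exact (h.toIsClosedFam.conj_mem_iff g).1 h1
  exact ⟨{ toIsClosedFam := isClosedFam_of_isStronglyClosed S B hB, sq := fun x hx => h.sq x (hsub hx) }, hsub⟩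

/-- The statement S1174 for the group `G`. -/
def SE1174 (G : Type u) [Group G] : Prop :=
  ∀ (S : Sylow 2 G) (T : Subgroup G), T ≠ ⊥ → Cfsg.IsStronglyClosed T (S : Subgroup G) →
    (⨆ t : {t : G // t ∈ T ∧ orderOf t = 2}, centralizer ({(t : G)} : Set G)) ≠ ⊤ →
      ∃ H : Subgroup G, Cfsg.IsStronglyEmbedded H

namespace Setup

variable {G : Type u} [Group G] [Finite G] {𝒜 : Set G} (h : Setup 𝒜) (S : Sylow 2 G)

include h

omit [Finite G] in
theorem mem_iff {x : G} : x ∈ ClosedFam.fam 𝒜 (S : Subgroup G) ↔ x ∈ 𝒜 ∧ x ∈ (S : Subgroup G) :=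
  h.fam.toIsClosedFam.mem_fam_iff S.2

omit [Finite G] h in
theorem le : ClosedFam.fam 𝒜 (S : Subgroup G) ≤ S := fam_le _ _

omit [Finite G] in
/-- `A` is strongly closed. -/
theorem sc : Cfsg.IsStronglyClosed (ClosedFam.fam 𝒜 (S : Subgroup G)) (S : Subgroup G) :=
  h.fam.toIsClosedFam.isStronglyClosed S

omit [Finite G] in
/-- `A` is commutative. -/
theorem comm : ∀ a ∈ ClosedFam.fam 𝒜 (S : Subgroup G), ∀ b ∈ ClosedFam.fam 𝒜 (S : Subgroup G), a * b = b * a := by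
  intro a ha b hb
  rw [h.mem_iff S] at ha hb
  exact h.fam.comm S.2 ha.1 ha.2 hb.1 hb.2

omit [Finite G] in
/-- `A` has exponent two. -/
theorem sq : ∀ a ∈ ClosedFam.fam 𝒜 (S : Subgroup G), a * a = 1 := fun a ha =>
  h.fam.sq a ((h.mem_iff S).1 ha).1

omit [Finite G] in
/-- `S` normalizes `A`. -/
theorem le_normalizer : (S : Subgroup G) ≤ normalizer (ClosedFam.fam 𝒜 (S : Subgroup G) : Set G) :=
  GoldControl.le_normalizer_of_sc (h.sc S)

/-- `A ≠ 1`. -/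
theorem fam_ne_bot : ClosedFam.fam 𝒜 (S : Subgroup G) ≠ ⊥ := by
  haveI : Fact (Nat.Prime 2) := ⟨Nat.prime_two⟩
  obtain ⟨x, hx, hx1⟩ := h.nontriv
  have hxp : IsPGroup 2 (zpowers x) := h.fam.toIsClosedFam.isPGroup_zpowers hx
  obtain ⟨T, hT⟩ := hxp.exists_le_sylow
  obtain ⟨c, hc⟩ := MulAction.exists_smul_eq G T S
  intro hbot
  have h1 : c * x * c⁻¹ ∈ ClosedFam.fam 𝒜 (S : Subgroup G) := by
    rw [h.mem_iff S]
    refine ⟨h.fam.toIsClosedFam.conj_mem x hx c, ?_⟩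
    rw [← hc]
    exact ⟨x, hT (mem_zpowers x), rfl⟩
  rw [hbot, mem_bot] at h1
  apply hx1
  have e : x = c⁻¹ * (c * x * c⁻¹) * c := by group
  rw [e, h1]; group

/-- `A` is a minimal strongly closed subgroup. -/
theorem minimal {B : Subgroup G} (hBA : B ≤ ClosedFam.fam 𝒜 (S : Subgroup G))
    (hB : Cfsg.IsStronglyClosed B (S : Subgroup G)) :
    B = ⊥ ∨ B = ClosedFam.fam 𝒜 (S : Subgroup G) := by
  by_cases hb : B = ⊥
  · exact Or.inl hb
  right
  obtain ⟨h1, h2⟩ := isElemFam_conj h.fam S hB hBA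
  have h3 : {x : G | ∃ g : G, g * x * g⁻¹ ∈ B} = 𝒜 := by
    apply h.minl _ h1 h2
    obtain ⟨b, hb1⟩ := Subgroup.ne_bot_iff_exists_ne_one.1 hb
    exact ⟨b, ⟨1, by simp⟩, fun h => hb1 (by exact Subtype.ext h)⟩
  apply le_antisymm hBA
  intro a ha
  rw [h.mem_iff S, ← h3] at ha
  obtain ⟨⟨g, hg⟩, haS⟩ := ha
  have := hB.2 _ hg g⁻¹ (by
    have e : g⁻¹ * (g * a * g⁻¹) * g⁻¹⁻¹ = a := by group
    rw [e]; exact haS)
  have e : g⁻¹ * (g * a * g⁻¹) * g⁻¹⁻¹ = a := by group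
  rwa [e] at this

/-- `N_G(A)` acts irreducibly on `A`. -/
theorem irreducible {B : Subgroup G} (hBA : B ≤ ClosedFam.fam 𝒜 (S : Subgroup G))
    (hB : ∀ n ∈ normalizer (ClosedFam.fam 𝒜 (S : Subgroup G) : Set G), ∀ x ∈ B, n * x * n⁻¹ ∈ B) :
    B = ⊥ ∨ B = ClosedFam.fam 𝒜 (S : Subgroup G) := by
  haveI : Fact (Nat.Prime 2) := ⟨Nat.prime_two⟩
  exact h.minimal S hBA (GoldControl.sc_of_le_of_invariant S (h.sc S) (h.comm S) hBA hB)

/-- `N_G(A)` controls the fusion of subgroups of `S`. -/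
theorem control {X : Subgroup G} (hX : X ≤ S) {g : G} (hg : X.map (MulAut.conj g).toMonoidHom ≤ S) :
    ∃ n ∈ normalizer (ClosedFam.fam 𝒜 (S : Subgroup G) : Set G), ∀ x ∈ X, g * x * g⁻¹ = n * x * n⁻¹ :=
  haveI : Fact (Nat.Prime 2) := ⟨Nat.prime_two⟩
  GoldControl.control S (h.sc S) (h.comm S) hX hg

/-- `N_G(A)` controls the fusion of elements of `S`. -/
theorem control_elem {x g : G} (hx : x ∈ (S : Subgroup G)) (hg : g * x * g⁻¹ ∈ (S : Subgroup G)) :
    ∃ n ∈ normalizer (ClosedFam.fam 𝒜 (S : Subgroup G) : Set G), g * x * g⁻¹ = n * x * n⁻¹ :=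
  haveI : Fact (Nat.Prime 2) := ⟨Nat.prime_two⟩
  GoldControl.control_elem S (h.sc S) (h.comm S) hx hg

/-- Normal subgroups of `N_G(A)` meet `S` in strongly closed subgroups. -/
theorem sc_inf {X : Subgroup G}
    (hX : ∀ n ∈ normalizer (ClosedFam.fam 𝒜 (S : Subgroup G) : Set G), ∀ x ∈ X, n * x * n⁻¹ ∈ X) :
    Cfsg.IsStronglyClosed ((S : Subgroup G) ⊓ X) (S : Subgroup G) :=
  haveI : Fact (Nat.Prime 2) := ⟨Nat.prime_two⟩
  GoldControl.sc_inf_of_normal S (h.sc S) (h.comm S) hX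

/-- `N_G(A)` has no subgroup of index two. -/
theorem index_ne_two (N₀ : Subgroup ↥(normalizer (ClosedFam.fam 𝒜 (S : Subgroup G) : Set G))) :
    N₀.index ≠ 2 := by
  haveI := h.simple
  exact GoldBasic.index_ne_two h.nonab S (h.sc S) (h.comm S) N₀

/-- All Sylow subgroups and their `A`'s are conjugate. -/
theorem weak {g : G} {Q : Subgroup G} (hQ : IsPGroup 2 Q)
    (h1 : ClosedFam.fam 𝒜 (S : Subgroup G) ≤ Q)
    (h2 : (ClosedFam.fam 𝒜 (S : Subgroup G)).map (MulAut.conj g).toMonoidHom ≤ Q) :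
    g ∈ normalizer (ClosedFam.fam 𝒜 (S : Subgroup G) : Set G) := by
  have hc : ∀ B : Subgroup G, B ≤ Q → (∀ b ∈ B, b ∈ 𝒜) → B ≤ ClosedFam.fam 𝒜 Q := fun B hB hb x hx =>
    mem_fam (hb x hx) (hB hx)
  have hA : ∀ b ∈ ClosedFam.fam 𝒜 (S : Subgroup G), b ∈ 𝒜 := fun b hb => ((h.mem_iff S).1 hb).1
  have hle : Nat.card (ClosedFam.fam 𝒜 Q) ≤ Nat.card (ClosedFam.fam 𝒜 (S : Subgroup G)) := by
    haveI : Fact (Nat.Prime 2) := ⟨Nat.prime_two⟩
    obtain ⟨T, hT⟩ := hQ.exists_le_sylow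
    obtain ⟨c, hc⟩ := MulAction.exists_smul_eq G T S
    have h3 : (ClosedFam.fam 𝒜 Q).map (MulAut.conj c).toMonoidHom ≤ ClosedFam.fam 𝒜 (S : Subgroup G) := by
      rw [h.fam.toIsClosedFam.map_conj_fam]
      apply fam_mono
      rw [← hc]
      rintro _ ⟨x, hx, rfl⟩
      exact ⟨x, hT hx, rfl⟩
    calc Nat.card (ClosedFam.fam 𝒜 Q)
        = Nat.card ((ClosedFam.fam 𝒜 Q).map (MulAut.conj c).toMonoidHom) :=
          (Cfsg.Agent.Lib.GoldschmidtFusion.card_map_conj _ c).symm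
      _ ≤ _ := Nat.card_le_card_of_injective _ (inclusion_injective h3)
  have e1 : ClosedFam.fam 𝒜 (S : Subgroup G) = ClosedFam.fam 𝒜 Q :=
    Subgroup.eq_of_le_of_card_ge (hc _ h1 hA) hle
  have e2 : (ClosedFam.fam 𝒜 (S : Subgroup G)).map (MulAut.conj g).toMonoidHom = ClosedFam.fam 𝒜 Q := by
    apply Subgroup.eq_of_le_of_card_ge
    · apply hc _ h2
      rintro _ ⟨x, hx, rfl⟩
      exact h.fam.toIsClosedFam.conj_mem x (hA x hx) g
    · rw [Cfsg.Agent.Lib.GoldschmidtFusion.card_map_conj]; exact hle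
  rw [Cfsg.Agent.Lib.GoldschmidtFusion.mem_normalizer_iff_map_conj, e2, e1]

/-- `|A| ≠ 2` (Glauberman). -/
theorem card_ne_two : Nat.card (ClosedFam.fam 𝒜 (S : Subgroup G)) ≠ 2 := by
  intro h2
  haveI := h.simple
  obtain ⟨z, hz, hz1⟩ : ∃ z : G, z ∈ ClosedFam.fam 𝒜 (S : Subgroup G) ∧ z ≠ 1 := by
    obtain ⟨z, hz⟩ := Subgroup.ne_bot_iff_exists_ne_one.1 (h.fam_ne_bot S)
    exact ⟨(z : G), z.2, fun e => hz (Subtype.ext e)⟩
  have hz' := (h.mem_iff S).1 hz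
  have huniq : ∀ y ∈ ClosedFam.fam 𝒜 (S : Subgroup G), y ≠ 1 → y = z := by
    intro y hy hy1
    rw [Nat.card_eq_two_iff' (⟨1, one_mem _⟩ : ClosedFam.fam 𝒜 (S : Subgroup G))] at h2
    obtain ⟨u, -, hu⟩ := h2
    have e1 := hu ⟨y, hy⟩ (fun e => hy1 (congrArg Subtype.val e))
    have e2 := hu ⟨z, hz⟩ (fun e => hz1 (congrArg Subtype.val e))
    exact congrArg Subtype.val (e1.trans e2.symm)
  obtain ⟨N, hN, hNodd, hcom⟩ := Cfsg.Agent.S0215.result S z (h.fam.orderOf_eq hz'.1 hz1) hz'.2 (by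
    intro g hg
    apply huniq
    · rw [h.mem_iff S]
      exact ⟨h.fam.toIsClosedFam.conj_mem z hz'.1 g, hg⟩
    · intro e
      apply hz1
      have e' : z = g⁻¹ * (g * z * g⁻¹) * g := by group
      rw [e', e]; group)
  rcases IsSimpleGroup.eq_bot_or_eq_top_of_normal N hN with hb | ht
  · -- `z` is central
    have hzc : z ∈ center G := by
      rw [mem_center_iff]
      intro g
      have := hcom g
      rw [hb, mem_bot] at this
      have e : z * g = g * z := by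
        have : z * g * z⁻¹ * g⁻¹ * g * z = g * z := by rw [this]; group
        rw [← this]; group
      exact e.symm
    rcases IsSimpleGroup.eq_bot_or_eq_top_of_normal (center G) inferInstance with hc | hc
    · rw [hc, mem_bot] at hzc; exact hz1 hzc
    · obtain ⟨a, b, hab⟩ := h.nonab
      apply hab
      have : b ∈ center G := by rw [hc]; exact mem_top b
      exact mem_center_iff.1 this a
  · rw [ht, card_top] at hNodd
    have h3 : orderOf z = 2 := h.fam.orderOf_eq hz'.1 hz1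
    have h4 : 2 ∣ Nat.card G := h3 ▸ orderOf_dvd_natCard z
    exact (Nat.not_even_iff_odd.2 hNodd) (even_iff_two_dvd.2 h4)

omit [Finite G] in
/-- Centralizers of nontrivial elements are proper. -/
theorem centralizer_ne_top {e : G} (he : e ≠ 1) : centralizer ({e} : Set G) ≠ ⊤ := by
  intro ht
  haveI := h.simple
  have hc : e ∈ center G := by
    rw [mem_center_iff]
    intro g
    have hg : g ∈ centralizer ({e} : Set G) := by rw [ht]; exact mem_top g
    exact mem_centralizer_singleton_iff.1 hg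
  rcases IsSimpleGroup.eq_bot_or_eq_top_of_normal (center G) inferInstance with hb | hb
  · rw [hb, mem_bot] at hc; exact he hc
  · obtain ⟨a, b, hab⟩ := h.nonab
    have : b ∈ center G := by rw [hb]; exact mem_top b
    exact hab (mem_center_iff.1 this a)

omit [Finite G] in
/-- The induction hypothesis in `C(e)/O(C(e))`, `e ≠ 1`. -/
theorem ctxCent {e : G} (he : e ≠ 1) : Ctx (push 𝒜 (centralizer ({e} : Set G))) :=
  h.ctxAll _ (h.centralizer_ne_top he)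

/-- `A` is not normal in `G`. -/
theorem normalizer_ne_top : normalizer (ClosedFam.fam 𝒜 (S : Subgroup G) : Set G) ≠ ⊤ := by
  intro ht
  haveI := h.simple
  have hn : (ClosedFam.fam 𝒜 (S : Subgroup G)).Normal := normalizer_eq_top_iff.1 ht
  rcases IsSimpleGroup.eq_bot_or_eq_top_of_normal _ hn with e | e
  · exact h.fam_ne_bot S e
  · obtain ⟨a, b, hab⟩ := h.nonab
    exact hab (h.comm S a (e ▸ mem_top a) b (e ▸ mem_top b))

/-- If the centralizers of the elements of `A#` lie in a proper subgroup, we get a contradiction. -/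
theorem false_of_cent_le (h1174 : SE1174 G) {H : Subgroup G} (hH : H ≠ ⊤)
    (hle : ∀ a ∈ ClosedFam.fam 𝒜 (S : Subgroup G), a ≠ 1 → centralizer ({a} : Set G) ≤ H) : False := by
  apply h.noSE
  refine h1174 S _ (h.fam_ne_bot S) (h.sc S) ?_
  intro ht
  apply hH
  rw [eq_top_iff, ← ht]
  refine iSup_le ?_
  rintro ⟨t, ht1, ht2⟩
  refine hle t ht1 ?_
  rintro rfl
  simp at ht2

/-- If `S = A` then every 2-element belongs to `𝒜`. -/
theorem mem_of_eq (hSA : (S : Subgroup G) ≤ ClosedFam.fam 𝒜 (S : Subgroup G)) {x : G}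
    (hx : IsPGroup 2 (zpowers x)) : x ∈ 𝒜 ∧ ∃ g : G, g * x * g⁻¹ ∈ ClosedFam.fam 𝒜 (S : Subgroup G) := by
  haveI : Fact (Nat.Prime 2) := ⟨Nat.prime_two⟩
  obtain ⟨T, hT⟩ := hx.exists_le_sylow
  obtain ⟨c, hc⟩ := MulAction.exists_smul_eq G T S
  have h1 : c * x * c⁻¹ ∈ (S : Subgroup G) := by
    rw [← hc]
    exact ⟨x, hT (mem_zpowers x), rfl⟩
  have h2 := hSA h1
  exact ⟨(h.fam.toIsClosedFam.conj_mem_iff c).1 ((h.mem_iff S).1 h2).1, c, h2⟩

/-- If `S = A` and `A#` is a single conjugacy class then `G` satisfies the conclusion. -/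
theorem tcon_of_eq (hSA : (S : Subgroup G) ≤ ClosedFam.fam 𝒜 (S : Subgroup G))
    (htr : ∀ x ∈ ClosedFam.fam 𝒜 (S : Subgroup G), ∀ y ∈ ClosedFam.fam 𝒜 (S : Subgroup G), x ≠ 1 → y ≠ 1 →
      ∃ g : G, g * x * g⁻¹ = y) : TCon G := by
  haveI : Fact (Nat.Prime 2) := ⟨Nat.prime_two⟩
  have h1 : ∀ T : Sylow 2 G, ∀ x ∈ (T : Subgroup G), x ∈ 𝒜 := fun T x hx =>
    (h.mem_of_eq S hSA (T.isPGroup'.to_le (by rwa [zpowers_le]))).1
  have h2 : ∀ x : G, orderOf x = 2 → IsPGroup 2 (zpowers x) := by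
    intro x hx
    rw [IsPGroup.iff_card]
    exact ⟨1, by rw [Nat.card_zpowers, hx, pow_one]⟩
  refine ⟨fun T x hx _ s hs => ?_, fun x y hx hy => ?_, Or.inl fun T s hs => h.fam.sq s (h1 T s hs)⟩
  · exact h.fam.comm T.2 (h1 T s hs) hs (h1 T x hx) hx
  · obtain ⟨-, g, hg⟩ := h.mem_of_eq S hSA (h2 x hx)
    obtain ⟨-, k, hk⟩ := h.mem_of_eq S hSA (h2 y hy)
    have hne : ∀ z l : G, orderOf z = 2 → l * z * l⁻¹ ≠ 1 := by
      intro z l hz e
      rw [mul_inv_eq_one, mul_eq_left] at e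
      rw [e, orderOf_one] at hz
      omega
    obtain ⟨m, hm⟩ := htr _ hg _ hk (hne x g hx) (hne y k hy)
    refine ⟨k⁻¹ * m * g, ?_⟩
    calc k⁻¹ * m * g * x * (k⁻¹ * m * g)⁻¹ = k⁻¹ * (m * (g * x * g⁻¹) * m⁻¹) * k := by group
      _ = k⁻¹ * (k * y * k⁻¹) * k := by rw [hm]
      _ = y := by group

end Setup

end Cfsg.Agent.TwoFusion.GoldSetup
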