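import Cfsg.Agent.TwoFusion.GoldPairDefs
import Cfsg.Agent.TwoFusion.GoldSetup
import Cfsg.Agent.SignalizersComponents.Components

/-!
# Conjugation of pairs

`conjPair`: conjugation by the elements of `N(A)` permutes the pairs `(w, L)`, `L` an active component of
`C(w)/O(C(w))`.
-/

set_option autoImplicit false
set_option linter.style.haveILetI false

namespace Cfsg.Agent.TwoFusion.GoldConjPair

open Subgroup
open Cfsg.Agent.TwoFusion.ClosedFam Cfsg.Agent.TwoFusion.Gold Cfsg.Agent.TwoFusion.GoldSetup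
open Cfsg.Agent.TwoFusion.GoldPairDefs

universe u

variable {G : Type u} [Group G]

theorem conj_mem_Cw {n w x : G} (hx : x ∈ Cw w) : n * x * n⁻¹ ∈ Cw (n * w * n⁻¹) := by
  rw [mem_Cw] at hx ⊢
  calc n * w * n⁻¹ * (n * x * n⁻¹) = n * (w * x) * n⁻¹ := by group
    _ = n * (x * w) * n⁻¹ := by rw [hx]
    _ = n * x * n⁻¹ * (n * w * n⁻¹) := by group

theorem conj_mem_Cw_iff {n w x : G} : x ∈ Cw (n * w * n⁻¹) ↔ n⁻¹ * x * n ∈ Cw w := by
  constructor
  · intro h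
    have h1 := conj_mem_Cw (n := n⁻¹) h
    have e1 : n⁻¹ * (n * w * n⁻¹) * n⁻¹⁻¹ = w := by group
    have e2 : n⁻¹ * x * n⁻¹⁻¹ = n⁻¹ * x * n := by group
    rwa [e1, e2] at h1
  · intro h
    have h1 := conj_mem_Cw (n := n) h
    have e : n * (n⁻¹ * x * n) * n⁻¹ = x := by group
    rwa [e] at h1

/-- Conjugation `C(w) ≃* C(n w n⁻¹)`. -/
def cc (n w : G) : ↥(Cw w) ≃* ↥(Cw (n * w * n⁻¹)) where
  toFun x := ⟨n * x * n⁻¹, conj_mem_Cw x.2⟩
  invFun y := ⟨n⁻¹ * y * n, conj_mem_Cw_iff.1 y.2⟩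
  left_inv x := by
    apply Subtype.ext
    show n⁻¹ * (n * (x : G) * n⁻¹) * n = x
    group
  right_inv y := by
    apply Subtype.ext
    show n * (n⁻¹ * (y : G) * n) * n⁻¹ = y
    group
  map_mul' x y := by
    apply Subtype.ext
    show n * ((x : G) * y) * n⁻¹ = n * x * n⁻¹ * (n * y * n⁻¹)
    group

@[simp] theorem cc_coe (n w : G) (x : ↥(Cw w)) : ((cc n w x : ↥(Cw (n * w * n⁻¹))) : G) = n * x * n⁻¹ := rfl

theorem map_core (n w : G) :
    (Cfsg.oddCore ↥(Cw w)).map (cc n w).toMonoidHom = Cfsg.oddCore ↥(Cw (n * w * n⁻¹)) :=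
  Cfsg.Agent.Lib.Cores.map_equiv_pPrimeCore (cc n w) 2

/-- The induced isomorphism `X_w ≃* X_{n w n⁻¹}`. -/
def ee (n w : G) : Xw w ≃* Xw (n * w * n⁻¹) :=
  QuotientGroup.congr (Cfsg.oddCore ↥(Cw w)) (Cfsg.oddCore ↥(Cw (n * w * n⁻¹))) (cc n w) (map_core n w)

theorem ee_pw (n w : G) (x : ↥(Cw w)) : ee n w (pw w x) = pw (n * w * n⁻¹) (cc n w x) := rfl

theorem pw_conj (n w : G) {x : G} (hx : x ∈ Cw (n * w * n⁻¹)) :
    pw (n * w * n⁻¹) ⟨x, hx⟩ = ee n w (pw w ⟨n⁻¹ * x * n, conj_mem_Cw_iff.1 hx⟩) := by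
  rw [ee_pw]
  congr 1
  apply Subtype.ext
  show x = n * (n⁻¹ * x * n) * n⁻¹
  group

theorem mem_map_ee {n w : G} {L : Subgroup (Xw w)} {x : Xw w} :
    ee n w x ∈ L.map (ee n w).toMonoidHom ↔ x ∈ L := by
  constructor
  · rintro ⟨y, hy, hyx⟩
    have : y = x := (ee n w).injective hyx
    rwa [← this]
  · intro h
    exact ⟨x, h, rfl⟩

theorem mem_centralizer_ee {n w : G} {L : Subgroup (Xw w)} {x : Xw w} :
    ee n w x ∈ centralizer ((L.map (ee n w).toMonoidHom : Subgroup _) : Set (Xw (n * w * n⁻¹))) ↔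
      x ∈ centralizer (L : Set (Xw w)) := by
  rw [mem_centralizer_iff, mem_centralizer_iff]
  constructor
  · intro h y hy
    have := h (ee n w y) (mem_map_ee.2 hy)
    rw [← map_mul, ← map_mul] at this
    exact (ee n w).injective this
  · rintro h _ ⟨y, hy, rfl⟩
    show ee n w y * ee n w x = ee n w x * ee n w y
    rw [← map_mul, ← map_mul, h y hy]

theorem mem_map_conj {K : Subgroup G} {g x : G} :
    x ∈ K.map (MulAut.conj g).toMonoidHom ↔ g⁻¹ * x * g ∈ K := by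
  constructor
  · rintro ⟨k, hk, rfl⟩
    have h : g⁻¹ * ((MulAut.conj g).toMonoidHom k) * g = k := by
      simp [MulAut.conj_apply, mul_assoc]
    rw [h]; exact hk
  · intro h
    exact ⟨g⁻¹ * x * g, h, by simp [MulAut.conj_apply, mul_assoc]⟩

theorem conj_mem_iff_of_normalizer {A : Subgroup G} {n x : G} (hn : n ∈ normalizer (A : Set G)) :
    n⁻¹ * x * n ∈ A ↔ x ∈ A := by
  have h := mem_normalizer_iff.1 hn (n⁻¹ * x * n)
  have e : n * (n⁻¹ * x * n) * n⁻¹ = x := by group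
  rw [e] at h
  exact h

/-- Conjugation of a pair. -/
theorem isPair_conj {𝒜 : Set G} {A : Subgroup G} (hconj : ∀ x ∈ 𝒜, ∀ g : G, g * x * g⁻¹ ∈ 𝒜) {w n : G}
    {L : Subgroup (Xw w)} (hL : IsPair 𝒜 A w L) (hn : n ∈ normalizer (A : Set G)) :
    IsPair 𝒜 A (n * w * n⁻¹) (L.map (ee n w).toMonoidHom) where
  mem := (mem_normalizer_iff.1 hn w).1 hL.mem
  ne := by
    intro h
    apply hL.ne
    have e : w = n⁻¹ * (n * w * n⁻¹) * n := by group
    rw [e, h]; group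
  comp := Cfsg.Agent.SignalizersComponents.Components.isComponent_map_equiv (ee n w) hL.comp
  act := by
    obtain ⟨x, ⟨x0, hx0, rfl⟩, hxL, y, hyL, hxy⟩ := hL.act
    refine ⟨ee n w (pw w x0), ⟨cc n w x0, hconj _ hx0 n, rfl⟩, mem_map_ee.2 hxL, ee n w y,
      mem_map_ee.2 hyL, ?_⟩
    intro h
    rw [← map_mul, ← map_mul] at h
    exact hxy ((ee n w).injective h)

theorem DD_conj {A : Subgroup G} {w n : G} {L : Subgroup (Xw w)} (hn : n ∈ normalizer (A : Set G)) :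
    DD A (n * w * n⁻¹) (L.map (ee n w).toMonoidHom) = (DD A w L).map (MulAut.conj n).toMonoidHom := by
  ext x
  rw [mem_map_conj, mem_DD, mem_DD, conj_mem_iff_of_normalizer hn]
  refine and_congr_right fun _ => ?_
  constructor
  · rintro ⟨hx, h⟩
    refine ⟨conj_mem_Cw_iff.1 hx, ?_⟩
    rw [pw_conj, mem_centralizer_ee] at h
    exact h
  · rintro ⟨hx, h⟩
    refine ⟨conj_mem_Cw_iff.2 hx, ?_⟩
    rw [pw_conj, mem_centralizer_ee]
    exact h

theorem JJ_conj {A : Subgroup G} {w n : G} {L : Subgroup (Xw w)} (hn : n ∈ normalizer (A : Set G)) :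
    JJ A (n * w * n⁻¹) (L.map (ee n w).toMonoidHom) = (JJ A w L).map (MulAut.conj n).toMonoidHom := by
  ext x
  rw [mem_map_conj, mem_JJ, mem_JJ]
  have h1 : n⁻¹ * x * n ∈ normalizer (A : Set G) ↔ x ∈ normalizer (A : Set G) := by
    rw [mul_mem_cancel_right hn, mul_mem_cancel_left (inv_mem hn)]
  rw [h1]
  refine and_congr_right fun _ => ?_
  constructor
  · rintro ⟨hx, h⟩
    refine ⟨conj_mem_Cw_iff.1 hx, ?_⟩
    rw [pw_conj, mem_map_ee] at h
    exact h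
  · rintro ⟨hx, h⟩
    refine ⟨conj_mem_Cw_iff.2 hx, ?_⟩
    rw [pw_conj, mem_map_ee]
    exact h

/-- **Conjugation by elements of `N(A)` permutes the pairs.** -/
theorem conjPair_of {𝒜 : Set G} (A : Subgroup G) (hconj : ∀ x ∈ 𝒜, ∀ g : G, g * x * g⁻¹ ∈ 𝒜) :
    ConjPair 𝒜 A := by
  intro w L n hL hn
  exact ⟨L.map (ee n w).toMonoidHom, isPair_conj hconj hL hn, DD_conj hn, JJ_conj hn⟩

theorem conjPair [Finite G] {𝒜 : Set G} (h : Setup 𝒜) (S : Sylow 2 G) :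
    ConjPair 𝒜 (ClosedFam.fam 𝒜 (S : Subgroup G)) :=
  conjPair_of _ h.fam.toIsClosedFam.conj_mem

end Cfsg.Agent.TwoFusion.GoldConjPair
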