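import Cfsg.Agent.TwoFusion.GoldPairDefs
import Cfsg.Agent.TwoFusion.GoldSolid
import Cfsg.Agent.TwoFusion.GoldInner

/-!
# Goldschmidt's theorem: `|A : C_A(L)| ≥ 4`

If the component `L` of `X` (`O(X) = 1`) is not centralized by the elementary closed family `𝒜` and `S` is a Sylow
2-subgroup, then `𝒜 ∩ S ∩ L` contains two elements `a, b` such that none of `a, b, ab` centralizes `L`.
For a pair `(w, L)` in a minimal counterexample this gives `4 ≤ |A : C_A(L)|`.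
-/

set_option autoImplicit false
set_option linter.style.haveILetI false

namespace Cfsg.Agent.TwoFusion.GoldIdx

open Subgroup
open Cfsg.Agent.TwoFusion.ClosedFam Cfsg.Agent.TwoFusion.Gold Cfsg.Agent.TwoFusion.GoldSetup
open Cfsg.Agent.TwoFusion.GoldPairDefs

universe u

/-- Two elements of `𝒜 ∩ S ∩ L` which together with their product act nontrivially on `L`. -/
theorem exists_two {X : Type u} [Group X] [Finite X] {𝒜 : Set X} (h : IsElemFam 𝒜) (hO : Cfsg.oddCore X = ⊥)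
    (S : Sylow 2 X) {L : Subgroup X} (hL : Cfsg.IsComponent L) (hA : Act 𝒜 L) :
    ∃ a ∈ fam 𝒜 (S : Subgroup X), ∃ b ∈ fam 𝒜 (S : Subgroup X), a ∈ L ∧ b ∈ L ∧
      a ∉ centralizer (L : Set X) ∧ b ∉ centralizer (L : Set X) ∧ a * b ∉ centralizer (L : Set X) := by
  classical
  haveI : Fact (Nat.Prime 2) := ⟨Nat.prime_two⟩
  obtain ⟨x₀, hx₀, hx₀L, y₀, hy₀, hxy₀⟩ := hA
  set f := QuotientGroup.mk' (center ↥L) with hf
  have hfs : Function.Surjective f := QuotientGroup.mk'_surjective _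
  have hr : IsElemFam {l : L | (l : X) ∈ 𝒜} := h.restrict L
  set ℬ : Set (↥L ⧸ center ↥L) := f '' {l : L | (l : X) ∈ 𝒜} with hB
  have hBe : IsElemFam ℬ := hr.image hfs
  have hf1 : ∀ l : L, f l = 1 ↔ (l : X) ∈ centralizer (L : Set X) := by
    intro l
    rw [hf, QuotientGroup.mk'_apply, QuotientGroup.eq_one_iff, mem_center_iff, mem_centralizer_iff]
    constructor
    · intro h1 g hg
      exact congrArg Subtype.val (h1 ⟨g, hg⟩)
    · intro h1 g
      exact Subtype.ext (h1 g g.2)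
  -- the Sylow subgroup `S ∩ L` and its image
  obtain ⟨T, hT⟩ := exists_sylow_subgroupOf S hL.1
  let R : Sylow 2 (↥L ⧸ center ↥L) := T.mapSurjective hfs
  have hR : (R : Subgroup (↥L ⧸ center ↥L)) = (T : Subgroup L).map f := T.coe_mapSurjective hfs
  have hne : ∃ b ∈ ℬ, b ≠ 1 := by
    refine ⟨f ⟨x₀, hx₀L⟩, ⟨⟨x₀, hx₀L⟩, hx₀, rfl⟩, ?_⟩
    rw [Ne, hf1, mem_centralizer_iff]
    intro hc
    exact hxy₀ (hc y₀ hy₀).symm
  -- elements of `ℬ ∩ R` lift to `𝒜 ∩ S ∩ L`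
  have hcov : ∀ b ∈ fam ℬ (R : Subgroup (↥L ⧸ center ↥L)), ∃ l : L, (l : X) ∈ 𝒜 ∧ (l : X) ∈ (S : Subgroup X) ∧
      f l = b := by
    intro b hb
    obtain ⟨⟨l, hl, hlb⟩, hbR⟩ := (hBe.toIsClosedFam.mem_fam_iff R.2).1 hb
    rw [hR] at hbR
    obtain ⟨s, hs, hsb⟩ := hbR
    have hsS : (s : X) ∈ (S : Subgroup X) := by
      have hs' : s ∈ (T : Subgroup L) := hs
      rw [hT, mem_subgroupOf] at hs'
      exact hs'
    have h1 : f (s⁻¹ * l) = 1 := by rw [map_mul, map_inv, hsb, hlb, inv_mul_cancel]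
    rw [hf1] at h1
    have h2 := GoldInner.center_le hO hL S (SetLike.coe_mem _) h1
    refine ⟨l, hl, ?_, hlb⟩
    have e : (l : X) = s * ((s⁻¹ * l : L) : X) := by
      simp only [coe_mul, coe_inv]; group
    rw [e]
    exact mul_mem hsS h2
  -- two different nontrivial elements of `ℬ ∩ R`
  obtain ⟨c, hc⟩ := Subgroup.ne_bot_iff_exists_ne_one.1 (GoldSolid.fam_ne_bot_of hBe hne R)
  have hc1 : (c : ↥L ⧸ center ↥L) ≠ 1 := fun e => hc (Subtype.ext e)
  obtain ⟨d, hd, hd1, hdc⟩ : ∃ d ∈ fam ℬ (R : Subgroup (↥L ⧸ center ↥L)), d ≠ 1 ∧ d ≠ c := by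
    by_contra hcon
    push Not at hcon
    apply GoldSolid.card_ne_two_of hL.2.2 (GoldSolid.quasisimple_nonab hL.2) hBe R
    rw [Nat.card_eq_two_iff' (⟨1, one_mem _⟩ : fam ℬ (R : Subgroup (↥L ⧸ center ↥L)))]
    refine ⟨c, hc, ?_⟩
    rintro ⟨d, hd⟩ hd1
    exact Subtype.ext (hcon d hd (fun e => hd1 (Subtype.ext e)))
  obtain ⟨a, ha, haS, hac⟩ := hcov c c.2
  obtain ⟨b, hb, hbS, hbd⟩ := hcov d hd
  refine ⟨a, mem_fam ha haS, b, mem_fam hb hbS, a.2, b.2, ?_, ?_, ?_⟩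
  · rw [← hf1, hac]; exact hc1
  · rw [← hf1, hbd]; exact hd1
  · have e : (a : X) * b = ((a * b : L) : X) := rfl
    rw [e, ← hf1, map_mul, hac, hbd]
    intro h1
    apply hdc
    have h2 : (c : ↥L ⧸ center ↥L) * c = 1 := hBe.sq _ ((hBe.toIsClosedFam.mem_fam_iff R.2).1 c.2).1
    exact mul_left_cancel (h1.trans h2.symm)

/-- `|A : C_A(L)| ≥ 4` for a pair `(w, L)`. -/
theorem four_le {G : Type u} [Group G] [Finite G] {𝒜 : Set G} (h : Setup 𝒜) (S : Sylow 2 G) {w : G}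
    {L : Subgroup (Xw w)} (hp : IsPair 𝒜 (fam 𝒜 (S : Subgroup G)) w L) :
    4 ≤ (DD (fam 𝒜 (S : Subgroup G)) w L).relIndex (fam 𝒜 (S : Subgroup G)) := by
  classical
  haveI : Fact (Nat.Prime 2) := ⟨Nat.prime_two⟩
  set A := fam 𝒜 (S : Subgroup G) with hA
  have hAH : A ≤ Cw w := GoldSolid.fam_le_centralizer h S hp.mem
  obtain ⟨P, hP⟩ := GoldSolid.exists_sylow_push h.fam S hAH
  have hctx := h.ctxCent hp.ne
  obtain ⟨a', ha', b', hb', -, -, hac, hbc, habc⟩ := exists_two hctx.fam hctx.core P hp.comp hp.act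
  rw [hP] at ha' hb'
  obtain ⟨a, ha, rfl⟩ := ha'
  obtain ⟨b, hb, rfl⟩ := hb'
  have haA : (a : G) ∈ A := mem_subgroupOf.1 ha
  have hbA : (b : G) ∈ A := mem_subgroupOf.1 hb
  have haD : (a : G) ∉ DD A w L := fun hc => by
    obtain ⟨-, h1, h2⟩ := mem_DD.1 hc
    exact hac h2
  have hbD : (b : G) ∉ DD A w L := fun hc => by
    obtain ⟨-, h1, h2⟩ := mem_DD.1 hc
    exact hbc h2
  have habD : (a : G) * b ∉ DD A w L := fun hc => by
    obtain ⟨-, h1, h2⟩ := mem_DD.1 hc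
    apply habc
    rw [← map_mul]
    exact h2
  have hAp : IsPGroup 2 A := isPGroup_fam _ S.2
  obtain ⟨k, hk⟩ := IsPGroup.iff_card.1 hAp
  have hdvd : (DD A w L).relIndex A ∣ 2 ^ k := by
    rw [← hk]; exact Subgroup.index_dvd_card _
  obtain ⟨j, -, hj⟩ := (Nat.dvd_prime_pow Nat.prime_two).1 hdvd
  rw [hj]
  have hj0 : j ≠ 0 := by
    rintro rfl
    rw [pow_zero, relIndex_eq_one] at hj
    exact haD (hj haA)
  have hj1 : j ≠ 1 := by
    rintro rfl
    rw [pow_one] at hj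
    have h1 : ((DD A w L).subgroupOf A).index = 2 := hj
    have h2 := (Subgroup.mul_mem_iff_of_index_two h1 (a := ⟨a, haA⟩) (b := ⟨b, hbA⟩))
    rw [mem_subgroupOf, mem_subgroupOf, mem_subgroupOf] at h2
    apply habD
    exact h2.2 ⟨fun hc => absurd hc haD, fun hc => absurd hc hbD⟩
  calc 4 = 2 ^ 2 := by norm_num
    _ ≤ 2 ^ j := Nat.pow_le_pow_right (by norm_num) (by omega)

end Cfsg.Agent.TwoFusion.GoldIdx
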