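import Mathlib
import Cfsg.Agent.Lib.Cores
import Cfsg.Agent.Lib.GenFitting
import Cfsg.Agent.SignalizersComponents.BalanceAux
import Cfsg.Agent.SignalizersComponents.Components
import Cfsg.Agent.PLocal.CoprimeLift
import Cfsg.Agent.Walter.Embed
import Cfsg.Agent.S0028
import Cfsg.Agent.TwoFusion.GoldNorm
import Cfsg.Agent.TwoFusion.GoldFam
import Cfsg.Agent.TwoFusion.GoldSetup

/-!
# Goldschmidt's theorem: the case without components

If no component of any `C_G(w)/O(C_G(w))`, `w ∈ 𝒜#`, is acted on non-trivially by the family, then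
`w ↦ O(C_G(w))` is a signalizer functor on `A` and `G` has a strongly embedded subgroup.
-/

set_option autoImplicit false
set_option linter.style.haveILetI false

namespace Cfsg.Agent.TwoFusion.GoldNZero

open Subgroup Cfsg
open Cfsg.Agent.TwoFusion.ClosedFam Cfsg.Agent.TwoFusion.Gold
open Cfsg.Agent.SignalizersComponents
open Cfsg.Agent.SignalizersComponents.Components

universe u

section Local

variable {X : Type*} [Group X] [Finite X]

/-- In a group without odd core, what centralises `O₂(X)` and all components lies in `O₂(X)`. -/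
theorem mem_pCore_of_centralizes (hO : pPrimeCore 2 X = ⊥) {x : X}
    (h1 : ∀ y ∈ pCore 2 X, y * x = x * y)
    (h2 : ∀ L : Subgroup X, IsComponent L → ∀ l ∈ L, l * x = x * l) : x ∈ pCore 2 X := by
  haveI : Fact (Nat.Prime 2) := ⟨Nat.prime_two⟩
  have hF := BalanceAux.fitting_eq_pCore 2 hO
  haveI hFn : (generalizedFittingSubgroup X).Normal := Lib.GenFitting.genFitting_normal
  set C : Subgroup X := centralizer (generalizedFittingSubgroup X : Set X) with hC
  have hxC : x ∈ C := by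
    have hle : generalizedFittingSubgroup X ≤ centralizer ({x} : Set X) := by
      refine sup_le (sSup_le ?_) ?_
      · intro L hL l hl
        rw [mem_centralizer_singleton_iff]
        exact h2 L hL l hl
      · rw [hF]
        intro y hy
        rw [mem_centralizer_singleton_iff]
        exact h1 y hy
    rw [hC, mem_centralizer_iff]
    intro y hy
    exact mem_centralizer_singleton_iff.1 (hle hy)
  have hCle : C ≤ generalizedFittingSubgroup X := Lib.GenFitting.centralizer_genFitting_le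
  have hCn : C.Normal := inferInstance
  have hcomm : ∀ a ∈ C, ∀ b ∈ C, a * b = b * a := fun a ha b hb =>
    ((mem_centralizer_iff.1 ha) b (hCle hb)).symm
  have hnil : Group.IsNilpotent C := by
    letI : CommGroup C := { (inferInstance : Group C) with
      mul_comm := fun a b => Subtype.ext (hcomm a a.2 b b.2) }
    infer_instance
  have h3 := Lib.Cores.le_fittingSubgroup hCn hnil
  rw [hF] at h3
  exact h3 hxC

/-- If the family centralises all components, it lies in `O₂(X)`. -/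
theorem mem_pCore {ℱ : Set X} (h : IsElemFam ℱ) (hO : pPrimeCore 2 X = ⊥)
    (hc : ∀ L : Subgroup X, IsComponent L → ∀ a ∈ ℱ, ∀ l ∈ L, a * l = l * a) :
    ∀ x ∈ ℱ, x ∈ pCore 2 X := by
  haveI : Fact (Nat.Prime 2) := ⟨Nat.prime_two⟩
  have hP : IsPGroup 2 (pCore 2 X) := Lib.Cores.pCore_isPGroup 2
  have hPn : (pCore 2 X).Normal := Lib.Cores.pCore_normal 2
  set D := fam ℱ (pCore 2 X) with hD
  have hDn : D.Normal := h.toIsClosedFam.fam_normal (pCore 2 X)
  have memD : ∀ {d : X}, d ∈ D ↔ d ∈ ℱ ∧ d ∈ pCore 2 X := h.toIsClosedFam.mem_fam_iff hP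
  have hQ : ∀ a ∈ ℱ, IsPGroup 2 (pCore 2 X ⊔ zpowers a : Subgroup X) := fun a ha =>
    IsPGroup.to_sup_of_normal_left hP (h.toIsClosedFam.isPGroup_zpowers ha)
  have step2 : ∀ a ∈ ℱ, ∀ x ∈ pCore 2 X, a * x * a⁻¹ * x⁻¹ ∈ D := by
    intro a ha x hx
    rw [memD]
    constructor
    · have h1 : x * a⁻¹ * x⁻¹ ∈ ℱ := h.conj_mem _ (h.toIsClosedFam.inv_mem ha) x
      have haQ : a ∈ (pCore 2 X ⊔ zpowers a : Subgroup X) := le_sup_right (a := pCore 2 X) (mem_zpowers a)
      have hxQ : x ∈ (pCore 2 X ⊔ zpowers a : Subgroup X) := le_sup_left (b := zpowers a) hx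
      have h2 := h.mul_mem _ (hQ a ha) a haQ (x * a⁻¹ * x⁻¹)
        (mul_mem (mul_mem hxQ (inv_mem haQ)) (inv_mem hxQ)) ha h1
      have h3 : a * x * a⁻¹ * x⁻¹ = a * (x * a⁻¹ * x⁻¹) := by group
      rw [h3]; exact h2
    · exact mul_mem (hPn.conj_mem x hx a) (inv_mem hx)
  have step3 : ∀ a ∈ ℱ, ∀ d ∈ D, a * d = d * a := by
    intro a ha d hd
    obtain ⟨hd1, hd2⟩ := memD.1 hd
    exact h.comm (hQ a ha) ha (le_sup_right (a := pCore 2 X) (mem_zpowers a)) hd1
      (le_sup_left (b := zpowers a) hd2)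
  let K : Subgroup X :=
    { carrier := {k | (∀ x ∈ pCore 2 X, k * x * k⁻¹ * x⁻¹ ∈ D) ∧ (∀ d ∈ D, k * d = d * k) ∧
        ∀ L : Subgroup X, IsComponent L → ∀ l ∈ L, k * l = l * k}
      one_mem' := ⟨fun x _ => by simp, fun d _ => by simp, fun L _ l _ => by simp⟩
      mul_mem' := by
        rintro k m ⟨hk1, hk2, hk3⟩ ⟨hm1, hm2, hm3⟩
        refine ⟨fun x hx => ?_, fun d hd => ?_, fun L hL l hl => ?_⟩
        · have h1 := hm1 x hx
          have h2 := hk1 x hx
          have h3 : k * m * x * (k * m)⁻¹ * x⁻¹ =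
              (k * (m * x * m⁻¹ * x⁻¹)) * x * k⁻¹ * x⁻¹ := by group
          rw [h3, hk2 _ h1]
          have h4 : (m * x * m⁻¹ * x⁻¹) * k * x * k⁻¹ * x⁻¹ =
              (m * x * m⁻¹ * x⁻¹) * (k * x * k⁻¹ * x⁻¹) := by group
          rw [h4]
          exact mul_mem h1 h2
        · rw [mul_assoc, hm2 d hd, ← mul_assoc, hk2 d hd, mul_assoc]
        · rw [mul_assoc, hm3 L hL l hl, ← mul_assoc, hk3 L hL l hl, mul_assoc]
      inv_mem' := by
        rintro k ⟨hk1, hk2, hk3⟩
        refine ⟨fun x hx => ?_, fun d hd => ?_, fun L hL l hl => ?_⟩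
        · have h1 := hk1 x hx
          have h3 : k⁻¹ * x * k⁻¹⁻¹ * x⁻¹ = k⁻¹ * (k * x * k⁻¹ * x⁻¹)⁻¹ * k := by
            group
          rw [h3]
          have h4 := hDn.conj_mem _ (inv_mem h1) k⁻¹
          rwa [inv_inv] at h4
        · have h1 := hk2 d hd
          calc k⁻¹ * d = k⁻¹ * (d * k) * k⁻¹ := by group
            _ = k⁻¹ * (k * d) * k⁻¹ := by rw [h1]
            _ = d * k⁻¹ := by group
        · have h1 := hk3 L hL l hl
          calc k⁻¹ * l = k⁻¹ * (l * k) * k⁻¹ := by group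
            _ = k⁻¹ * (k * l) * k⁻¹ := by rw [h1]
            _ = l * k⁻¹ := by group }
  have hsq : ∀ k ∈ K, k * k ∈ pCore 2 X := by
    rintro k ⟨hk1, hk2, hk3⟩
    refine mem_pCore_of_centralizes hO ?_ ?_
    · intro x hx
      have h1 := hk1 x hx
      obtain ⟨hd1, -⟩ := memD.1 h1
      have h2 := h.sq _ hd1
      have h3 := hk2 _ h1
      set d := k * x * k⁻¹ * x⁻¹ with hd
      have h4 : k * x * k⁻¹ = d * x := by rw [hd]; group
      have h5 : k * (k * x * k⁻¹) * k⁻¹ = x := by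
        rw [h4]
        calc k * (d * x) * k⁻¹ = (k * d) * x * k⁻¹ := by group
          _ = (d * k) * x * k⁻¹ := by rw [h3]
          _ = d * (k * x * k⁻¹) := by group
          _ = d * (d * x) := by rw [h4]
          _ = (d * d) * x := by group
          _ = x := by rw [h2, one_mul]
      calc x * (k * k) = (k * (k * x * k⁻¹) * k⁻¹) * (k * k) := by rw [h5]
        _ = k * k * x := by group
    · intro L hL l hl
      have h1 := hk3 L hL l hl
      rw [← mul_assoc, ← h1, mul_assoc, ← h1, ← mul_assoc]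
  have hcl : closure ℱ ≤ K := by
    rw [closure_le]
    intro a ha
    exact ⟨step2 a ha, step3 a ha, fun L hL l hl => hc L hL a ha l hl⟩
  have hpg : IsPGroup 2 (closure ℱ) := by
    rintro ⟨k, hk⟩
    obtain ⟨n, hn⟩ := hP ⟨k * k, hsq k (hcl hk)⟩
    refine ⟨n + 1, ?_⟩
    apply Subtype.ext
    have h1 : (k * k) ^ 2 ^ n = 1 := congrArg Subtype.val hn
    rw [← pow_two, ← pow_mul, ← pow_succ'] at h1
    exact h1
  have hn : (closure ℱ).Normal := by
    refine ⟨fun k hk g => ?_⟩
    have h1 : closure ℱ ≤ (closure ℱ).comap (MulAut.conj g).toMonoidHom := by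
      rw [closure_le]
      intro a ha
      exact subset_closure (h.conj_mem a ha g)
    exact h1 hk
  intro x hx
  exact Lib.Cores.le_pCore hn hpg (subset_closure hx)

end Local

section Global

variable {G : Type*} [Group G] [Finite G] {𝒜 : Set G}

/-- `C_G(b) / O(C_G(b))` -/
abbrev CQ (b : G) : Type _ :=
  centralizer ({b} : Set G) ⧸ pPrimeCore 2 (centralizer ({b} : Set G))

/-- the projection -/
abbrev pr (b : G) : centralizer ({b} : Set G) →* CQ b :=
  QuotientGroup.mk' (pPrimeCore 2 (centralizer ({b} : Set G)))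

omit [Finite G] in
theorem fam_le_centralizer (h : IsElemFam 𝒜) (S : Sylow 2 G) {a : G} (ha : a ∈ fam 𝒜 (S : Subgroup G)) :
    fam 𝒜 (S : Subgroup G) ≤ centralizer ({a} : Set G) := by
  intro x hx
  rw [h.mem_fam_iff S.2] at hx ha
  rw [mem_centralizer_singleton_iff]
  exact h.comm S.2 hx.1 hx.2 ha.1 ha.2

/-- `C_G(a) ≤ O(C_G(a)) N_G(A)` if the family lies in `O₂` modulo the core. -/
theorem centralizer_le (h : IsElemFam 𝒜) (S : Sylow 2 G) {a : G} (ha : a ∈ fam 𝒜 (S : Subgroup G))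
    (hmem : ∀ x ∈ push 𝒜 (centralizer ({a} : Set G)), x ∈ pCore 2 (CQ a)) {M : Subgroup G}
    (hcore : centralizerPPrimeCore 2 a ≤ M)
    (hN : normalizer (fam 𝒜 (S : Subgroup G) : Set G) ≤ M) : centralizer ({a} : Set G) ≤ M := by
  haveI : Fact (Nat.Prime 2) := ⟨Nat.prime_two⟩
  set A := fam 𝒜 (S : Subgroup G) with hA
  have hAC : A ≤ centralizer ({a} : Set G) := fam_le_centralizer h S ha
  have hAp : IsPGroup 2 A := isPGroup_fam 𝒜 S.2
  set N : Subgroup (centralizer ({a} : Set G)) := (pCore 2 (CQ a)).comap (pr a) with hNdef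
  haveI hNn : N.Normal := Subgroup.Normal.comap (Lib.Cores.pCore_normal 2) _
  have hAN : A.subgroupOf (centralizer ({a} : Set G)) ≤ N := by
    intro x hx
    refine hmem _ ⟨x, ?_, rfl⟩
    exact ((h.mem_fam_iff S.2).1 (mem_subgroupOf.1 hx)).1
  have hAp' : IsPGroup 2 ((A.subgroupOf (centralizer ({a} : Set G))).subgroupOf N) :=
    (hAp.comap_of_injective _ (subtype_injective _)).comap_of_injective _ (subtype_injective _)
  obtain ⟨R, hR⟩ := hAp'.exists_le_sylow
  have hfr := R.normalizer_sup_eq_top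
  set R1 : Subgroup (centralizer ({a} : Set G)) := (R : Subgroup N).map N.subtype with hR1
  set R2 : Subgroup G := R1.map (centralizer ({a} : Set G)).subtype with hR2
  have hR2p : IsPGroup 2 R2 := (R.2.map _).map _
  have hAR : A ≤ R2 := by
    intro x hx
    have hx1 : (⟨x, hAC hx⟩ : centralizer ({a} : Set G)) ∈ A.subgroupOf (centralizer ({a} : Set G)) :=
      mem_subgroupOf.2 hx
    exact ⟨⟨x, hAC hx⟩, ⟨⟨_, hAN hx1⟩, hR (mem_subgroupOf.2 hx1), rfl⟩, rfl⟩
  have hfam : fam 𝒜 R2 = A := fam_eq_of_le h.toIsClosedFam S hR2p hAR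
  have hNR : (normalizer (R1 : Set (centralizer ({a} : Set G)))).map
      (centralizer ({a} : Set G)).subtype ≤ M := by
    refine le_trans ?_ hN
    rw [← hfam]
    refine le_trans ?_ (h.toIsClosedFam.normalizer_le_normalizer_fam R2)
    rintro _ ⟨n, hn, rfl⟩
    rw [SetLike.mem_coe] at hn
    refine mem_normalizer_fintype ?_
    rintro _ ⟨r, hr, rfl⟩
    exact ⟨n * r * n⁻¹, (mem_normalizer_iff.1 hn r).1 hr, rfl⟩
  have hNM : N.map (centralizer ({a} : Set G)).subtype ≤ M := by
    rintro _ ⟨n, hn, rfl⟩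
    -- `R` covers `N` modulo the core
    have h1 : ∃ r ∈ R1, pr a r = pr a n := by
      let f : N →* pCore 2 (CQ a) := ((pr a).comp N.subtype).codRestrict _ (fun x => x.2)
      have hf : Function.Surjective f := by
        rintro ⟨y, hy⟩
        obtain ⟨x, rfl⟩ := QuotientGroup.mk'_surjective _ y
        exact ⟨⟨x, hy⟩, rfl⟩
      have h2 : ((R.mapSurjective hf : Sylow 2 (pCore 2 (CQ a))) : Subgroup (pCore 2 (CQ a))) = ⊤ := by
        have h3 : IsPGroup 2 (⊤ : Subgroup (pCore 2 (CQ a))) :=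
          (Lib.Cores.pCore_isPGroup (G := CQ a) 2).to_subgroup _
        exact ((R.mapSurjective hf).3 h3 le_top).symm
      have h4 : f ⟨n, hn⟩ ∈ ((R.mapSurjective hf : Sylow 2 (pCore 2 (CQ a))) :
          Subgroup (pCore 2 (CQ a))) := by rw [h2]; exact mem_top _
      rw [Sylow.coe_mapSurjective] at h4
      obtain ⟨r, hr, hrn⟩ := h4
      exact ⟨r, ⟨r, hr, rfl⟩, congrArg Subtype.val hrn⟩
    obtain ⟨r, hr, hrn⟩ := h1
    have h5 : r⁻¹ * n ∈ pPrimeCore 2 (centralizer ({a} : Set G)) := QuotientGroup.eq.1 hrn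
    have h6 : (centralizer ({a} : Set G)).subtype (r⁻¹ * n) ∈ M := hcore ⟨_, h5, rfl⟩
    have h7 : (centralizer ({a} : Set G)).subtype r ∈ M := hNR ⟨r, le_normalizer hr, rfl⟩
    have h8 := mul_mem h7 h6
    rwa [← map_mul, mul_inv_cancel_left] at h8
  intro c hc
  have h1 : (⟨c, hc⟩ : centralizer ({a} : Set G)) ∈ normalizer (R1 : Set _) ⊔ N := by
    rw [hfr]; exact mem_top _
  have h2 : (normalizer (R1 : Set (centralizer ({a} : Set G))) ⊔ N).map
      (centralizer ({a} : Set G)).subtype ≤ M := by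
    rw [Subgroup.map_sup]
    exact sup_le hNR hNM
  exact h2 ⟨_, h1, rfl⟩

/-- Balance. -/
theorem balance {a b : G} (ha2 : orderOf a = 2) (hab : a ∈ centralizer ({b} : Set G))
    (hmem : pr b ⟨a, hab⟩ ∈ pCore 2 (CQ b)) :
    centralizerPPrimeCore 2 a ⊓ centralizer ({b} : Set G) ≤ centralizerPPrimeCore 2 b := by
  haveI : Fact (Nat.Prime 2) := ⟨Nat.prime_two⟩
  have hO : pPrimeCore 2 (CQ b) = ⊥ := Lib.Cores.pPrimeCore_quotient_pPrimeCore 2
  have hcop : (Nat.card (pPrimeCore 2 (centralizer ({b} : Set G)))).Coprime 2 :=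
    Lib.Cores.pPrimeCore_coprime 2
  set a' : centralizer ({b} : Set G) := ⟨a, hab⟩ with ha'
  set Y : Subgroup (centralizer ({b} : Set G)) :=
    (centralizerPPrimeCore 2 a).subgroupOf (centralizer ({b} : Set G)) with hY
  set Z : Subgroup (CQ b) := Y.map (pr b) with hZ
  have hYodd : (Nat.card Y).Coprime 2 := by
    have h1 : (Nat.card (centralizerPPrimeCore 2 a)).Coprime 2 := by
      rw [centralizerPPrimeCore, card_map_of_injective (subtype_injective _)]
      exact Lib.Cores.pPrimeCore_coprime 2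
    have h2 : Nat.card (Y.map (centralizer ({b} : Set G)).subtype) = Nat.card Y :=
      card_map_of_injective (subtype_injective _)
    rw [← h2]
    refine h1.coprime_dvd_left (card_dvd_of_le ?_)
    rintro _ ⟨y, hy, rfl⟩
    exact mem_subgroupOf.1 hy
  have hZodd : (Nat.card Z).Coprime 2 := hYodd.coprime_dvd_left (card_map_dvd _ _)
  have hapow : IsPGroup 2 (zpowers a') := by
    refine IsPGroup.of_card (n := 1) ?_
    rw [Nat.card_zpowers, ← Subgroup.orderOf_coe, pow_one]
    exact ha2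
  -- the centralizer of `a` in the quotient normalises `Z`
  have hnorm : ∀ z : CQ b, z * pr b a' = pr b a' * z → ∀ y ∈ Z, z * y * z⁻¹ ∈ Z := by
    intro z hz
    obtain ⟨g, rfl⟩ := QuotientGroup.mk'_surjective _ z
    obtain ⟨m, hm, hmg⟩ := PLocal.CoprimeLift.exists_commuting_lift
      (pPrimeCore 2 (centralizer ({b} : Set G))) (zpowers a') hcop hapow g (by
        intro x hx
        rw [← QuotientGroup.ker_mk' (pPrimeCore 2 (centralizer ({b} : Set G))), MonoidHom.mem_ker]
        obtain ⟨k, rfl⟩ := mem_zpowers_iff.1 hx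
        have h5 : Commute (pr b a' ^ k) (pr b g) := Commute.zpow_left hz.symm k
        simp only [map_mul, map_inv, map_zpow]
        rw [h5.eq]
        group)
    have hma := hmg a' (mem_zpowers a')
    rintro _ ⟨y, hy, rfl⟩
    have h1 : QuotientGroup.mk' (pPrimeCore 2 (centralizer ({b} : Set G))) g = pr b (m * g) := by
      rw [map_mul, show pr b m = 1 from (QuotientGroup.eq_one_iff m).2 hm, one_mul]
    rw [h1, ← map_mul, ← map_inv, ← map_mul]
    refine mem_map_of_mem _ ?_
    rw [hY, mem_subgroupOf]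
    refine Walter.Embed.conj_mem_core ?_ (mem_subgroupOf.1 hy)
    rw [mem_centralizer_singleton_iff]
    exact (congrArg Subtype.val hma).symm
  have haZ : ∀ y ∈ Z, y * pr b a' = pr b a' * y := by
    rintro _ ⟨y, hy, rfl⟩
    rw [← map_mul, ← map_mul]
    congr 1
    apply Subtype.ext
    exact mem_centralizer_singleton_iff.1 (Walter.Embed.core_le a (mem_subgroupOf.1 hy))
  have hdisj : ∀ x ∈ Z, x ∈ pCore 2 (CQ b) → x = 1 := by
    intro x hx1 hx2
    obtain ⟨k, hk⟩ := Lib.Cores.pCore_isPGroup (G := CQ b) 2 ⟨x, hx2⟩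
    have hk' : x ^ 2 ^ k = 1 := congrArg Subtype.val hk
    have h1 : orderOf x ∣ 2 ^ k := orderOf_dvd_of_pow_eq_one hk'
    have h2 : orderOf x ∣ Nat.card Z := by
      have := orderOf_dvd_natCard (⟨x, hx1⟩ : Z)
      rwa [← Subgroup.orderOf_coe] at this
    rw [← orderOf_eq_one_iff]
    exact Nat.eq_one_of_dvd_coprimes (hZodd.pow_right k) h2 h1
  have hPn : (pCore 2 (CQ b)).Normal := Lib.Cores.pCore_normal 2
  -- `Z` centralises `O₂`
  have hZP : Z ≤ centralizer (pCore 2 (CQ b) : Set (CQ b)) := by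
    refine S0028.result 2 (zpowers (pr b a')) Z (pCore 2 (CQ b)) ?_ hZodd
      (Lib.Cores.pCore_isPGroup 2) ?_ ?_ ?_ ?_
    · have := hapow.map (pr b)
      rwa [MonoidHom.map_zpowers] at this
    · rw [zpowers_le, mem_centralizer_iff]
      exact haZ
    · rw [normalizer_eq_top_iff.2 hPn]; exact le_top
    · rw [normalizer_eq_top_iff.2 hPn]; exact le_top
    · rintro u ⟨hu1, hu2⟩
      rw [mem_centralizer_iff]
      intro y hy
      have hua : u * pr b a' = pr b a' * u :=
        ((mem_centralizer_iff.1 hu2) _ (mem_zpowers _)).symm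
      have h1 : y * (u * y⁻¹ * u⁻¹) ∈ Z := mul_mem hy (hnorm u hua y⁻¹ (inv_mem hy))
      have h2 : y * (u * y⁻¹ * u⁻¹) ∈ pCore 2 (CQ b) := by
        have h3 := mul_mem (hPn.conj_mem u hu1 y) (inv_mem hu1)
        have h4 : y * u * y⁻¹ * u⁻¹ = y * (u * y⁻¹ * u⁻¹) := by group
        rwa [h4] at h3
      have h3 := hdisj _ h1 h2
      calc y * u = (y * (u * y⁻¹ * u⁻¹)) * (u * y) := by group
        _ = u * y := by rw [h3, one_mul]
  -- `Z` centralises the components
  have hZL : ∀ L : Subgroup (CQ b), IsComponent L → ∀ l ∈ L, ∀ z ∈ Z, l * z = z * l := by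
    intro L hL
    have hLa : ∀ l ∈ L, l * pr b a' = pr b a' * l := by
      have h1 : ⁅L, pCore 2 (CQ b)⁆ = ⊥ := by
        refine component_commutator_solvable hL ?_ ?_
        · rw [normalizer_eq_top_iff.2 hPn]; exact le_top
        · have := (Lib.Cores.pCore_isPGroup (G := CQ b) 2).isNilpotent
          infer_instance
      rw [commutator_comm, commutator_eq_bot_iff_le_centralizer] at h1
      intro l hl
      exact (mem_centralizer_iff.1 (h1 hmem)) l hl
    have hLZ : L ≤ normalizer (Z : Set (CQ b)) := by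
      intro l hl
      refine mem_normalizer_fintype ?_
      intro y hy
      exact hnorm l (hLa l hl) y hy
    rcases component_le_or_commutator_eq_bot_of_le_normalizer hL hLZ with h1 | h1
    · exfalso
      have h2 := BalanceAux.dvd_card_component 2 hO hL
      have h3 : 2 ∣ Nat.card Z := h2.trans (card_dvd_of_le h1)
      exact (Nat.Prime.coprime_iff_not_dvd Nat.prime_two).1 hZodd.symm h3
    · intro l hl z hz
      rw [commutator_comm, commutator_eq_bot_iff_le_centralizer] at h1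
      exact (mem_centralizer_iff.1 (h1 hz)) l hl
  have hZbot : ∀ z ∈ Z, z = 1 := by
    intro z hz
    refine hdisj z hz (mem_pCore_of_centralizes hO ?_ ?_)
    · intro y hy
      exact (mem_centralizer_iff.1 (hZP hz)) y hy
    · intro L hL l hl
      exact hZL L hL l hl z hz
  rintro x ⟨hx1, hx2⟩
  have h1 : pr b ⟨x, hx2⟩ ∈ Z := mem_map_of_mem _ (mem_subgroupOf.2 hx1)
  have h2 := hZbot _ h1
  exact ⟨⟨x, hx2⟩, (QuotientGroup.eq_one_iff _).1 h2, rfl⟩

end Global

/-- **The case without active components.** -/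
theorem false_of_not_act {G : Type u} [Group G] [Finite G] {𝒜 : Set G} (h : GoldSetup.Setup 𝒜)
    (S : Sylow 2 G) (_h8 : 8 ≤ Nat.card (fam 𝒜 (S : Subgroup G)))
    (hN : ∀ w ∈ 𝒜, w ≠ 1 → ∀ L : Subgroup (CQ w), IsComponent L →
      ¬ Act (push 𝒜 (centralizer ({w} : Set G))) L)
    (hOO : ∀ X : Subgroup G, ¬ 2 ∣ Nat.card X → Group.IsSolvable X)
    (hSF : ∀ θ : G → Subgroup G, IsSignalizerFunctor 2 (fam 𝒜 (S : Subgroup G)) θ →
      (∀ a ∈ fam 𝒜 (S : Subgroup G), a ≠ 1 → Group.IsSolvable (θ a)) →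
      ¬ 2 ∣ Nat.card ↥(⨆ a : {a : G // a ∈ fam 𝒜 (S : Subgroup G) ∧ a ≠ 1}, θ a))
    (hSE : GoldSetup.SE1174 G) : False := by
  haveI : Fact (Nat.Prime 2) := ⟨Nat.prime_two⟩
  haveI := h.simple
  apply h.noSE
  set A := fam 𝒜 (S : Subgroup G) with hA
  have memA : ∀ {x : G}, x ∈ A ↔ x ∈ 𝒜 ∧ x ∈ (S : Subgroup G) := h.mem_iff S
  have hmem : ∀ a ∈ A, a ≠ 1 → ∀ x ∈ push 𝒜 (centralizer ({a} : Set G)), x ∈ pCore 2 (CQ a) := by
    intro a ha ha1
    have hf : IsElemFam (push 𝒜 (centralizer ({a} : Set G))) := h.fam.push _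
    have hO : oddCore (CQ a) = ⊥ := Lib.Cores.pPrimeCore_quotient_pPrimeCore 2
    refine mem_pCore hf hO ?_
    intro L hL
    exact comm_of_not_act hf hO hL (hN a (memA.1 ha).1 ha1 L hL)
  have hcc : ∀ a ∈ A, A ≤ centralizer ({a} : Set G) := fun a ha => fam_le_centralizer h.fam S ha
  have hbal : ∀ a ∈ A, a ≠ 1 → ∀ b ∈ A, b ≠ 1 →
      centralizerPPrimeCore 2 a ⊓ centralizer ({b} : Set G) ≤ centralizerPPrimeCore 2 b := by
    intro a ha ha1 b hb hb1
    refine balance (h.fam.orderOf_eq (memA.1 ha).1 ha1) (hcc b hb ha) ?_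
    exact hmem b hb hb1 _ ⟨⟨a, hcc b hb ha⟩, (memA.1 ha).1, rfl⟩
  have hodd2 : ∀ a : G, ¬ 2 ∣ Nat.card (centralizerPPrimeCore 2 a) := by
    intro a
    rw [centralizerPPrimeCore, card_map_of_injective (subtype_injective _)]
    exact (Nat.Prime.coprime_iff_not_dvd Nat.prime_two).1 (Lib.Cores.pPrimeCore_coprime 2).symm
  have hW : ¬ 2 ∣ Nat.card (Walter.Embed.W A) := by
    refine hSF (fun a => centralizerPPrimeCore 2 a) ⟨?_, ?_, ?_, hbal⟩ ?_
    · intro a _ _
      exact Walter.Embed.core_le a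
    · intro a _ _
      exact hodd2 a
    · intro a ha _ b hb x hx
      exact Walter.Embed.conj_mem_core (hcc a ha hb) hx
    · intro a _ _
      exact hOO _ (hodd2 a)
  have hAbot : A ≠ ⊥ := h.fam_ne_bot S
  have hmain : ∀ M : Subgroup G, M ≠ ⊤ → normalizer (A : Set G) ≤ M →
      (∀ a ∈ A, a ≠ 1 → centralizerPPrimeCore 2 a ≤ M) → ∃ H : Subgroup G, IsStronglyEmbedded H := by
    intro M hM hNM hcore
    refine hSE S A hAbot (h.sc S) ?_
    intro htop
    apply hM
    rw [eq_top_iff, ← htop]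
    refine iSup_le ?_
    rintro ⟨t, ht, ht2⟩
    have ht1 : t ≠ 1 := by
      rintro rfl
      rw [orderOf_one] at ht2
      omega
    exact centralizer_le h.fam S ht (hmem t ht ht1) (hcore t ht ht1) hNM
  by_cases hWb : Walter.Embed.W A = ⊥
  · refine hmain (normalizer (A : Set G)) ?_ le_rfl ?_
    · intro htop
      have hAn : A.Normal := normalizer_eq_top_iff.1 htop
      rcases hAn.eq_bot_or_eq_top with h1 | h1
      · exact hAbot h1
      · obtain ⟨a, b, hab⟩ := h.nonab
        have h2 : ∀ x : G, x ∈ A := fun x => by rw [h1]; exact mem_top x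
        exact hab (h.comm S a (h2 a) b (h2 b))
    · intro a ha ha1
      have := Walter.Embed.le_W A ha ha1
      rw [hWb, le_bot_iff] at this
      rw [this]
      exact bot_le
  · refine hmain (normalizer (Walter.Embed.W A : Set G)) ?_
      (Walter.Embed.normalizer_le_normalizer_W A) ?_
    · intro htop
      have hWn : (Walter.Embed.W A).Normal := normalizer_eq_top_iff.1 htop
      rcases hWn.eq_bot_or_eq_top with h1 | h1
      · exact hWb h1
      · rw [h1, card_top] at hW
        apply hW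
        obtain ⟨⟨x, hx⟩, hx1⟩ := Subgroup.ne_bot_iff_exists_ne_one.1 hAbot
        have hx1' : x ≠ 1 := fun e => hx1 (Subtype.ext e)
        rw [← h.fam.orderOf_eq (memA.1 hx).1 hx1']
        exact orderOf_dvd_natCard x
    · intro a ha ha1
      exact (Walter.Embed.le_W A ha ha1).trans le_normalizer

end Cfsg.Agent.TwoFusion.GoldNZero
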