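import Cfsg.Agent.TwoFusion.GoldJ

/-!
# Goldschmidt's theorem: the linear algebra step inside a group

`A` is an elementary abelian 2-subgroup of `G` on which `N_G(A)` acts irreducibly, `𝓓` is an invariant set of
subgroups of index `q` of `A` and `K D` is a canonical complement to `D` in `A`.  We transport `gold_lin` and
`gold_J` to this situation.
-/

set_option autoImplicit false
set_option linter.unusedSectionVars false

open scoped Pointwise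

namespace Cfsg.Agent.TwoFusion.GoldCases

open Subgroup
open Cfsg.Agent.TwoFusion.GoldLin Cfsg.Agent.TwoFusion.GoldJ

variable {G : Type*} [Group G]

/-- Canonical complements to the subgroups in `𝓓`. -/
structure Canon (A : Subgroup G) (q : ℕ) (𝓓 : Set (Subgroup G)) (K : Subgroup G → Subgroup G) :
    Prop where
  sq : ∀ a ∈ A, a * a = 1
  comm : ∀ a ∈ A, ∀ b ∈ A, a * b = b * a
  irr : ∀ B ≤ A, (∀ n ∈ normalizer (A : Set G), ∀ x ∈ B, n * x * n⁻¹ ∈ B) → B = ⊥ ∨ B = A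
  idx : ∀ N₀ : Subgroup ↥(normalizer (A : Set G)), N₀.index ≠ 2
  q2 : 2 < q
  le : ∀ D ∈ 𝓓, D ≤ A
  ne : ∀ D ∈ 𝓓, D ≠ ⊥
  Kle : ∀ D ∈ 𝓓, K D ≤ A
  Kcard : ∀ D ∈ 𝓓, Nat.card (K D) = q
  Kinf : ∀ D ∈ 𝓓, K D ⊓ D = ⊥
  Ksup : ∀ D ∈ 𝓓, K D ⊔ D = A
  inv : ∀ D ∈ 𝓓, ∀ n ∈ normalizer (A : Set G), D.map (MulAut.conj n).toMonoidHom ∈ 𝓓
  Kinv : ∀ D ∈ 𝓓, ∀ n ∈ normalizer (A : Set G),
    K (D.map (MulAut.conj n).toMonoidHom) = (K D).map (MulAut.conj n).toMonoidHom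
  ti : ∀ D ∈ 𝓓, ∀ D' ∈ 𝓓, D ≠ D' → D ⊓ D' ≠ ⊥ → K D ≤ D'
  tr : ∀ D ∈ 𝓓, ∀ x ∈ K D, ∀ y ∈ K D, x ≠ 1 → y ≠ 1 →
    ∃ n ∈ normalizer (A : Set G), n * x * n⁻¹ = y ∧ ∀ d ∈ D, n * d * n⁻¹ = d

/-- Conclusion (W). -/
structure ConW (A : Subgroup G) (𝓓 : Set (Subgroup G)) (K : Subgroup G → Subgroup G) : Prop where
  le : ∀ D ∈ 𝓓, ∀ D' ∈ 𝓓, D ≠ D' → K D ≤ D'
  eq : ∀ D ∈ 𝓓, D = ⨆ D' ∈ 𝓓 \ {D}, K D'
  sup : ⨆ D ∈ 𝓓, K D = A
  trans : ∀ D ∈ 𝓓, ∀ D' ∈ 𝓓, ∃ n ∈ normalizer (A : Set G), D.map (MulAut.conj n).toMonoidHom = D'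
  three : 3 ≤ 𝓓.ncard

/-- Conclusion (J). -/
structure ConJ (A : Subgroup G) (q : ℕ) (𝓓 : Set (Subgroup G)) (K : Subgroup G → Subgroup G) :
    Prop where
  card_D : ∀ D ∈ 𝓓, Nat.card D = 2
  q_eq : q = 4
  card_A : Nat.card A = 8
  exists_mem : ∀ x ∈ A, x ≠ 1 → ∃ D ∈ 𝓓, x ∈ D
  disj : ∀ D ∈ 𝓓, ∀ D' ∈ 𝓓, D ≠ D' → D ⊓ D' = ⊥
  odd : Odd (Nat.card A.normalizerMonoidHom.range)
  trans : ∀ x ∈ A, ∀ y ∈ A, x ≠ 1 → y ≠ 1 → ∃ n ∈ normalizer (A : Set G), n * x * n⁻¹ = y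
  tour₁ : ∀ D ∈ 𝓓, ∀ D' ∈ 𝓓, D' ≤ K D → ¬ D ≤ K D'
  tour₂ : ∀ D ∈ 𝓓, ∀ D' ∈ 𝓓, D ≠ D' → ¬ D ≤ K D' → D' ≤ K D

namespace Canon

variable {A : Subgroup G} {q : ℕ} {𝓓 : Set (Subgroup G)} {K : Subgroup G → Subgroup G}

/-- The commutative group structure. -/
@[reducible] def commGroup (h : Canon A q 𝓓 K) : CommGroup A :=
  { (inferInstance : Group A) with
    mul_comm := fun a b => Subtype.ext (h.comm a a.2 b b.2) }

/-- The set of pairs. -/
def pairs (A : Subgroup G) (𝓓 : Set (Subgroup G)) (K : Subgroup G → Subgroup G) :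
    Set (Subgroup A × Subgroup A) :=
  {p | ∃ D ∈ 𝓓, p = ((K D).subgroupOf A, D.subgroupOf A)}

theorem smul_subgroupOf (n : ↥(normalizer (A : Set G))) (X : Subgroup G) :
    n • (X.subgroupOf A) = (X.map (MulAut.conj (n : G)).toMonoidHom).subgroupOf A := by
  ext x
  rw [mem_subgroupOf, Subgroup.mem_pointwise_smul_iff_inv_smul_mem, mem_subgroupOf]
  have e : ((n⁻¹ • x : A) : G) = (n : G)⁻¹ * x * n := by
    change ((n⁻¹ : ↥(normalizer (A : Set G))) : G) * (x : G) * ((n⁻¹ : ↥(normalizer (A : Set G))) : G)⁻¹ = _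
    rw [InvMemClass.coe_inv, inv_inv]
  rw [e]
  constructor
  · intro hx
    refine ⟨_, hx, ?_⟩
    change (n : G) * ((n : G)⁻¹ * x * n) * (n : G)⁻¹ = x
    group
  · rintro ⟨y, hy, hyx⟩
    have : y = (n : G)⁻¹ * x * n := by
      rw [← hyx]
      change y = (n : G)⁻¹ * ((n : G) * y * (n : G)⁻¹) * n
      group
    rwa [← this]

theorem subgroupOf_eq_bot {X : Subgroup G} (hX : X ≤ A) : X.subgroupOf A = ⊥ ↔ X = ⊥ := by
  rw [Subgroup.subgroupOf_eq_bot, disjoint_iff, inf_of_le_left hX]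

theorem subgroupOf_inj {X Y : Subgroup G} (hX : X ≤ A) (hY : Y ≤ A) :
    X.subgroupOf A = Y.subgroupOf A ↔ X = Y := by
  constructor
  · intro e
    rwa [Subgroup.subgroupOf_inj, inf_of_le_left hX, inf_of_le_left hY] at e
  · rintro rfl; rfl

theorem subgroupOf_le {X Y : Subgroup G} (hX : X ≤ A) :
    X.subgroupOf A ≤ Y.subgroupOf A ↔ X ≤ Y := by
  constructor
  · intro e x hx
    exact (mem_subgroupOf (h := ⟨x, hX hx⟩)).1 (e (mem_subgroupOf.2 hx))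
  · intro e x hx
    exact mem_subgroupOf.2 (e (mem_subgroupOf.1 hx))

theorem card_subgroupOf {X : Subgroup G} (hX : X ≤ A) :
    Nat.card (X.subgroupOf A) = Nat.card X :=
  Nat.card_congr (Subgroup.subgroupOfEquivOfLe hX).toEquiv

theorem inf_subgroupOf_eq (X Y : Subgroup G) :
    X.subgroupOf A ⊓ Y.subgroupOf A = (X ⊓ Y).subgroupOf A := by
  ext x
  simp [mem_subgroupOf]

theorem smul_pair (h : Canon A q 𝓓 K) (n : ↥(normalizer (A : Set G))) {D : Subgroup G} (hD : D ∈ 𝓓) :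
    n • (((K D).subgroupOf A, D.subgroupOf A) : Subgroup A × Subgroup A) =
      ((K (D.map (MulAut.conj (n : G)).toMonoidHom)).subgroupOf A,
        (D.map (MulAut.conj (n : G)).toMonoidHom).subgroupOf A) := by
  refine Prod.ext ?_ ?_
  · rw [Prod.smul_fst, h.Kinv D hD n n.2]
    exact smul_subgroupOf n (K D)
  · rw [Prod.smul_snd]
    exact smul_subgroupOf n D

theorem fam (h : Canon A q 𝓓 K) :
    letI := h.commGroup
    Fam (↥(normalizer (A : Set G))) (pairs A 𝓓 K) q := by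
  let _ := h.commGroup
  constructor
  · rintro _ ⟨D, hD, rfl⟩
    exact (card_subgroupOf (h.Kle D hD)).trans (h.Kcard D hD)
  · rintro _ ⟨D, hD, rfl⟩ e
    have := (subgroupOf_eq_bot (h.Kle D hD)).1 e
    have hc := h.Kcard D hD
    rw [this, card_bot] at hc
    have := h.q2
    omega
  · rintro _ ⟨D, hD, rfl⟩ e
    exact h.ne D hD ((subgroupOf_eq_bot (h.le D hD)).1 e)
  · rintro _ ⟨D, hD, rfl⟩
    constructor
    · rw [disjoint_iff]
      change (K D).subgroupOf A ⊓ D.subgroupOf A = ⊥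
      rw [inf_subgroupOf_eq, h.Kinf D hD, bot_subgroupOf]
    · rw [codisjoint_iff]
      change (K D).subgroupOf A ⊔ D.subgroupOf A = ⊤
      rw [← Subgroup.subgroupOf_sup (h.Kle D hD) (h.le D hD), h.Ksup D hD, subgroupOf_self]
  · rintro n _ ⟨D, hD, rfl⟩
    exact ⟨_, h.inv D hD n n.2, h.smul_pair n hD⟩
  · rintro _ ⟨D, hD, rfl⟩ _ ⟨D', hD', rfl⟩ hne hne'
    have h1 : D ≠ D' := by rintro rfl; exact hne rfl
    have h2 : D ⊓ D' ≠ ⊥ := by
      intro e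
      apply hne'
      change D.subgroupOf A ⊓ D'.subgroupOf A = ⊥
      rw [inf_subgroupOf_eq, e, bot_subgroupOf]
    have h2' : D' ⊓ D ≠ ⊥ := by rwa [inf_comm]
    exact ⟨(subgroupOf_le (h.Kle D hD)).2 (h.ti D hD D' hD' h1 h2),
      (subgroupOf_le (h.Kle D' hD')).2 (h.ti D' hD' D hD (Ne.symm h1) h2')⟩
  · rintro _ ⟨D, hD, rfl⟩ x hx y hy hx1 hy1
    obtain ⟨n, hn, hxy, hnd⟩ := h.tr D hD x hx y hy (fun e => hx1 (Subtype.ext e))
      (fun e => hy1 (Subtype.ext e))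
    have hDn : D.map (MulAut.conj n).toMonoidHom = D := by
      ext z
      constructor
      · rintro ⟨d, hd, rfl⟩
        change n * d * n⁻¹ ∈ D
        rw [hnd d hd]; exact hd
      · intro hz
        exact ⟨z, hz, hnd z hz⟩
    refine ⟨⟨n, hn⟩, Subtype.ext hxy, ?_, ?_⟩
    · have := congrArg Prod.fst (h.smul_pair ⟨n, hn⟩ hD)
      change (⟨n, hn⟩ : ↥(normalizer (A : Set G))) • (K D).subgroupOf A = _ at this
      rw [hDn] at this
      exact this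
    · intro d hd
      exact Subtype.ext (hnd d hd)

theorem isPGroup (h : Canon A q 𝓓 K) : IsPGroup 2 A := by
  intro x
  refine ⟨1, ?_⟩
  rw [pow_one, pow_two]
  exact Subtype.ext (h.sq x x.2)

theorem irr' (h : Canon A q 𝓓 K) :
    letI := h.commGroup
    Fam.Irr (↥(normalizer (A : Set G))) (↥A) := by
  let _ := h.commGroup
  intro W hW
  have key := h.irr (W.map A.subtype) (by
    rintro _ ⟨x, -, rfl⟩
    exact x.2) (by
    rintro n hn _ ⟨x, hx, rfl⟩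
    have h1 := hW ⟨n, hn⟩ (Subgroup.smul_mem_pointwise_smul x (⟨n, hn⟩ : ↥(normalizer (A : Set G))) W hx)
    exact ⟨_, h1, rfl⟩)
  rcases key with h1 | h1
  · left
    rwa [Subgroup.map_eq_bot_iff_of_injective _ A.subtype_injective] at h1
  · right
    rw [eq_top_iff]
    intro x _
    have : (x : G) ∈ W.map A.subtype := by rw [h1]; exact x.2
    obtain ⟨y, hy, hyx⟩ := this
    rwa [← Subtype.ext hyx]

/-- the supremum of a family of subgroups. -/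
theorem iSup_subgroupOf (h : Canon A q 𝓓 K) (𝓔 : Set (Subgroup G)) (hE : 𝓔 ⊆ 𝓓) :
    (⨆ D ∈ 𝓔, K D).subgroupOf A = ⨆ D ∈ 𝓔, (K D).subgroupOf A := by
  apply le_antisymm
  · -- work in the image
    have h1 : (⨆ D ∈ 𝓔, K D) ≤ (⨆ D ∈ 𝓔, (K D).subgroupOf A).map A.subtype := by
      refine iSup₂_le fun D hD => ?_
      have h2 : (K D).subgroupOf A ≤ ⨆ D ∈ 𝓔, (K D).subgroupOf A :=
        le_iSup₂ (f := fun (D : Subgroup G) (_ : D ∈ 𝓔) => (K D).subgroupOf A) D hD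
      have h3 := Subgroup.map_mono (f := A.subtype) h2
      rwa [subgroupOf_map_subtype, inf_of_le_left (h.Kle D (hE hD))] at h3
    intro x hx
    obtain ⟨y, hy, hyx⟩ := h1 (mem_subgroupOf.1 hx)
    rwa [← Subtype.ext hyx]
  · refine iSup₂_le fun D hD => ?_
    intro x hx
    have h2 : K D ≤ ⨆ D ∈ 𝓔, K D := le_iSup₂ (f := fun (D : Subgroup G) (_ : D ∈ 𝓔) => K D) D hD
    exact mem_subgroupOf.2 (h2 (mem_subgroupOf.1 hx))

theorem snd_inj (h : Canon A q 𝓓 K) {D D' : Subgroup G} (hD : D ∈ 𝓓) (hD' : D' ∈ 𝓓)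
    (e : (((K D).subgroupOf A, D.subgroupOf A) : Subgroup A × Subgroup A) =
      ((K D').subgroupOf A, D'.subgroupOf A)) : D = D' :=
  (subgroupOf_inj (h.le D hD) (h.le D' hD')).1 (congrArg Prod.snd e)

theorem pair_ne (h : Canon A q 𝓓 K) {D D' : Subgroup G} (hD : D ∈ 𝓓) (hD' : D' ∈ 𝓓) (hne : D ≠ D') :
    (((K D).subgroupOf A, D.subgroupOf A) : Subgroup A × Subgroup A) ≠
      ((K D').subgroupOf A, D'.subgroupOf A) := fun e => hne (h.snd_inj hD hD' e)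

theorem iSup_pairs (h : Canon A q 𝓓 K) (𝓔 : Set (Subgroup G)) (hE : 𝓔 ⊆ 𝓓) :
    ⨆ m ∈ pairs A 𝓔 K, (m : Subgroup A × Subgroup A).1 = (⨆ D ∈ 𝓔, K D).subgroupOf A := by
  rw [h.iSup_subgroupOf 𝓔 hE]
  apply le_antisymm
  · refine iSup₂_le ?_
    rintro _ ⟨D, hD, rfl⟩
    exact le_iSup₂ (f := fun (D : Subgroup G) (_ : D ∈ 𝓔) => (K D).subgroupOf A) D hD
  · refine iSup₂_le fun D hD => ?_
    exact le_iSup₂ (f := fun (m : Subgroup A × Subgroup A) (_ : m ∈ pairs A 𝓔 K) => m.1)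
      ((K D).subgroupOf A, D.subgroupOf A) ⟨D, hD, rfl⟩

theorem pairs_diff (h : Canon A q 𝓓 K) {D : Subgroup G} (hD : D ∈ 𝓓) :
    pairs A 𝓓 K \ {((K D).subgroupOf A, D.subgroupOf A)} = pairs A (𝓓 \ {D}) K := by
  ext p
  constructor
  · rintro ⟨⟨D', hD', rfl⟩, hne⟩
    refine ⟨D', ⟨hD', ?_⟩, rfl⟩
    rintro rfl
    exact hne rfl
  · rintro ⟨D', ⟨hD', hne⟩, rfl⟩
    exact ⟨⟨D', hD', rfl⟩, h.pair_ne hD' hD hne⟩

theorem iSup_le_A (h : Canon A q 𝓓 K) (𝓔 : Set (Subgroup G)) (hE : 𝓔 ⊆ 𝓓) :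
    (⨆ D ∈ 𝓔, K D) ≤ A := iSup₂_le fun D hD => h.Kle D (hE hD)

theorem ncard_pairs (h : Canon A q 𝓓 K) : (pairs A 𝓓 K).ncard = 𝓓.ncard := by
  have e : pairs A 𝓓 K = (fun D => (((K D).subgroupOf A, D.subgroupOf A) :
      Subgroup A × Subgroup A)) '' 𝓓 := by
    ext p
    constructor
    · rintro ⟨D, hD, rfl⟩; exact ⟨D, hD, rfl⟩
    · rintro ⟨D, hD, rfl⟩; exact ⟨D, hD, rfl⟩
  rw [e]
  exact Set.InjOn.ncard_image fun D hD D' hD' e => h.snd_inj hD hD' e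

theorem idx' (h : Canon A q 𝓓 K) :
    letI := h.commGroup
    ∀ N : Subgroup ↥(normalizer (A : Set G)),
      (MulDistribMulAction.toMulAut ↥(normalizer (A : Set G)) ↥A).ker ≤ N → N.index ≠ 2 :=
  fun N _ => h.idx N

/-- The main case distinction. -/
theorem cases [Finite G] (h : Canon A q 𝓓 K) (hne : 𝓓.Nonempty)
    (hsol : Odd (Nat.card A.normalizerMonoidHom.range) →
      Group.IsSolvable A.normalizerMonoidHom.range) :
    ConW A 𝓓 K ∨ ConJ A q 𝓓 K := by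
  let _ := h.commGroup
  have hF := h.fam
  have hI := h.irr'
  have hneP : (pairs A 𝓓 K).Nonempty := by
    obtain ⟨D, hD⟩ := hne
    exact ⟨_, D, hD, rfl⟩
  by_cases hV : q ^ 2 < Nat.card A
  · left
    obtain ⟨w1, w2, w3, w4, w5⟩ := hF.case_W hI hV hneP
    refine ⟨?_, ?_, ?_, ?_, ?_⟩
    · intro D hD D' hD' hDD
      exact (subgroupOf_le (h.Kle D hD)).1
        (w1 _ ⟨D, hD, rfl⟩ _ ⟨D', hD', rfl⟩ (h.pair_ne hD hD' hDD))
    · intro D hD
      have h1 := w2 _ ⟨D, hD, rfl⟩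
      rw [h.pairs_diff hD, h.iSup_pairs _ Set.sdiff_subset] at h1
      exact (subgroupOf_inj (h.le D hD) (h.iSup_le_A _ Set.sdiff_subset)).1 h1
    · rw [h.iSup_pairs _ subset_rfl] at w3
      have h1 : A ≤ ⨆ D ∈ 𝓓, K D := subgroupOf_eq_top.1 w3
      exact le_antisymm (h.iSup_le_A _ subset_rfl) h1
    · intro D hD D' hD'
      obtain ⟨n, hn⟩ := w4 _ ⟨D, hD, rfl⟩ _ ⟨D', hD', rfl⟩
      refine ⟨n, n.2, ?_⟩
      rw [h.smul_pair n hD] at hn
      exact h.snd_inj (h.inv D hD n n.2) hD' hn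
    · rwa [h.ncard_pairs] at w5
  · right
    have hV' := not_lt.1 hV
    obtain ⟨j1, j2, j3, j4, j5, j6, j7, j8⟩ := gold_J hF h.isPGroup hI h.idx' hneP hV'
    obtain ⟨k1, k2⟩ := gold_J_card hF h.isPGroup hI h.idx' hneP hV' h.q2 hsol
    refine ⟨?_, k1, k2, ?_, ?_, j5, ?_, ?_, ?_⟩
    · intro D hD
      rw [← card_subgroupOf (h.le D hD)]
      exact j3 _ ⟨D, hD, rfl⟩
    · intro x hx hx1
      obtain ⟨_, ⟨D, hD, rfl⟩, hxD⟩ := j1 ⟨x, hx⟩ (fun e => hx1 (congrArg Subtype.val e))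
      exact ⟨D, hD, hxD⟩
    · intro D hD D' hD' hDD
      have h1 := j2 _ ⟨D, hD, rfl⟩ _ ⟨D', hD', rfl⟩ (h.pair_ne hD hD' hDD)
      change D.subgroupOf A ⊓ D'.subgroupOf A = ⊥ at h1
      rw [inf_subgroupOf_eq] at h1
      exact (subgroupOf_eq_bot (inf_le_left.trans (h.le D hD))).1 h1
    · intro x hx y hy hx1 hy1
      obtain ⟨n, hn⟩ := j6 ⟨x, hx⟩ ⟨y, hy⟩ (fun e => hx1 (congrArg Subtype.val e))
        (fun e => hy1 (congrArg Subtype.val e))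
      exact ⟨n, n.2, congrArg Subtype.val hn⟩
    · intro D hD D' hD' hle hle'
      exact j7 _ ⟨D, hD, rfl⟩ _ ⟨D', hD', rfl⟩ ((subgroupOf_le (h.le D' hD')).2 hle)
        ((subgroupOf_le (h.le D hD)).2 hle')
    · intro D hD D' hD' hDD hle
      exact (subgroupOf_le (h.le D' hD')).1 (j8 _ ⟨D, hD, rfl⟩ _ ⟨D', hD', rfl⟩ (h.pair_ne hD hD' hDD)
        (fun e => hle ((subgroupOf_le (h.le D hD)).1 e)))

end Canon

/-- The classes of components: the subgroups `D = C_A(L)` for the components `L` with `|A / C_A(L)| = q` maximal,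
together with an odd order subgroup of `N_G(A)` (which lives in `L`). -/
structure ClassData (A : Subgroup G) (q : ℕ) (𝓓 : Set (Subgroup G)) : Prop where
  sq : ∀ a ∈ A, a * a = 1
  comm : ∀ a ∈ A, ∀ b ∈ A, a * b = b * a
  irr : ∀ B ≤ A, (∀ n ∈ normalizer (A : Set G), ∀ x ∈ B, n * x * n⁻¹ ∈ B) → B = ⊥ ∨ B = A
  idx : ∀ N₀ : Subgroup ↥(normalizer (A : Set G)), N₀.index ≠ 2
  q2 : 2 < q
  le : ∀ D ∈ 𝓓, D ≤ A
  ne : ∀ D ∈ 𝓓, D ≠ ⊥
  rel : ∀ D ∈ 𝓓, D.relIndex A = q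
  inv : ∀ D ∈ 𝓓, ∀ n ∈ normalizer (A : Set G), D.map (MulAut.conj n).toMonoidHom ∈ 𝓓
  tor : ∀ D ∈ 𝓓, ∃ J : Subgroup G, J ≤ normalizer (A : Set G) ∧
    (∀ j ∈ J, ∀ d ∈ D, j * d * j⁻¹ = d) ∧
    (∀ x ∈ A, ∀ y ∈ A, x ∉ D → y ∉ D → ∃ j ∈ J, j * x * j⁻¹ * y⁻¹ ∈ D) ∧
    ∀ D' ∈ 𝓓, D' ≠ D → D ⊓ D' ≠ ⊥ → ∀ j ∈ J, ∀ a ∈ A, j * a * j⁻¹ * a⁻¹ ∈ D'

namespace ClassData

variable {A : Subgroup G} {q : ℕ} {𝓓 : Set (Subgroup G)}

theorem card_mul_relIndex' {D A : Subgroup G} (hDA : D ≤ A) :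
    Nat.card D * D.relIndex A = Nat.card A := by
  rw [← relIndex_bot_left D, ← relIndex_bot_left A]
  exact relIndex_mul_relIndex ⊥ D A bot_le hDA

theorem card_eq (h : ClassData A q 𝓓) {D : Subgroup G} (hD : D ∈ 𝓓) :
    Nat.card D * q = Nat.card A := by
  rw [← h.rel D hD]
  exact card_mul_relIndex' (h.le D hD)

theorem inf_ne_bot [Finite G] (h : ClassData A q 𝓓) (hV : q ^ 2 < Nat.card A) {D D' : Subgroup G}
    (hD : D ∈ 𝓓) (hD' : D' ∈ 𝓓) : D ⊓ D' ≠ ⊥ := by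
  intro e
  have h1 := h.card_eq hD
  have h3 := h.card_eq hD'
  have hq : 0 < q := lt_trans two_pos h.q2
  have h4 : q < Nat.card D := by
    rw [← h1, pow_two] at hV
    exact Nat.lt_of_mul_lt_mul_right hV
  have h5 : Nat.card D * Nat.card D' ≤ Nat.card A := by
    rw [← Nat.card_prod]
    refine Nat.card_le_card_of_injective
      (fun x : D × D' => (⟨(x.1 : G) * x.2, mul_mem (h.le D hD x.1.2) (h.le D' hD' x.2.2)⟩ : A)) ?_
    rintro ⟨⟨a, ha⟩, ⟨b, hb⟩⟩ ⟨⟨a', ha'⟩, ⟨b', hb'⟩⟩ e'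
    have e'' : a * b = a' * b' := congrArg Subtype.val e'
    have h6 : a'⁻¹ * a = b' * b⁻¹ := by
      rw [inv_mul_eq_iff_eq_mul, ← mul_assoc, ← e'', mul_inv_cancel_right]
    have h7 : a'⁻¹ * a ∈ D ⊓ D' :=
      mem_inf.2 ⟨mul_mem (inv_mem ha') ha, h6 ▸ mul_mem hb' (inv_mem hb)⟩
    rw [e, mem_bot] at h7
    have h8 : a = a' := (inv_mul_eq_one.1 h7).symm
    have h9 : b = b' := (mul_inv_eq_one.1 (h6 ▸ h7)).symm
    subst h8 h9
    rfl
  have h6 : Nat.card D' = Nat.card D := Nat.eq_of_mul_eq_mul_right hq (h3.trans h1.symm)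
  rw [← h1, h6] at h5
  exact absurd (Nat.le_of_mul_le_mul_left h5 Nat.card_pos) (not_le.2 h4)

theorem ne_A (h : ClassData A q 𝓓) {D : Subgroup G} (hD : D ∈ 𝓓) : D ≠ A := by
  rintro rfl
  have := h.rel _ hD
  rw [relIndex_self] at this
  have := h.q2
  omega

/-- conjugating back. -/
theorem map_map_inv (n : G) (D : Subgroup G) :
    (D.map (MulAut.conj n⁻¹).toMonoidHom).map (MulAut.conj n).toMonoidHom = D := by
  ext x
  constructor
  · rintro ⟨_, ⟨y, hy, rfl⟩, rfl⟩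
    change n * (n⁻¹ * y * n⁻¹⁻¹) * n⁻¹ ∈ D
    have : n * (n⁻¹ * y * n⁻¹⁻¹) * n⁻¹ = y := by group
    rwa [this]
  · intro hx
    refine ⟨n⁻¹ * x * n, ⟨x, hx, ?_⟩, ?_⟩
    · change n⁻¹ * x * n⁻¹⁻¹ = _
      rw [inv_inv]
    · change n * (n⁻¹ * x * n) * n⁻¹ = x
      group

/-- The canonical complement in the large case. -/
def compl (A : Subgroup G) (𝓓 : Set (Subgroup G)) (D : Subgroup G) : Subgroup G :=
  A ⊓ ⨅ D' ∈ 𝓓 \ {D}, D'

theorem mem_compl {D : Subgroup G} {x : G} :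
    x ∈ compl A 𝓓 D ↔ x ∈ A ∧ ∀ D' ∈ 𝓓, D' ≠ D → x ∈ D' := by
  unfold compl
  rw [mem_inf, mem_iInf]
  simp only [mem_iInf, Set.mem_sdiff, Set.mem_singleton_iff, and_imp, ne_eq]

/-- `compl D * D = A`. -/
theorem exists_mul (h : ClassData A q 𝓓) [Finite G] (hV : q ^ 2 < Nat.card A) {D : Subgroup G}
    (hD : D ∈ 𝓓) : ∀ z ∈ A, ∃ c ∈ compl A 𝓓 D, c⁻¹ * z ∈ D := by
  obtain ⟨J, hJ, hJD, hJt, hJ'⟩ := h.tor D hD
  intro z hz
  by_cases hzD : z ∈ D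
  · exact ⟨1, one_mem _, by simpa using hzD⟩
  -- choose `x ∉ D` with `z * x ∉ D`
  obtain ⟨x, hx, hxD, hzx⟩ : ∃ x ∈ A, x ∉ D ∧ z * x ∉ D := by
    by_contra hcon
    push Not at hcon
    -- then `A = D ∪ z⁻¹ D`, so the index is at most two
    have h1 : D.relIndex A ≤ 2 := by
      have h2 : ∀ x : A, (x : G) ∉ D → z * x ∈ D := fun x hxD => hcon x x.2 hxD
      have h3 : Nat.card A ≤ Nat.card (D ⊕ D) := by
        classical
        refine Nat.card_le_card_of_injective (fun x : A =>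
          if hxD : (x : G) ∈ D then (Sum.inl ⟨x, hxD⟩ : D ⊕ D) else Sum.inr ⟨z * x, h2 x hxD⟩) ?_
        intro x y hxy
        dsimp only at hxy
        by_cases hxD : (x : G) ∈ D
        · by_cases hyD : (y : G) ∈ D
          · rw [dif_pos hxD, dif_pos hyD] at hxy
            have h6 := Sum.inl.inj hxy
            exact Subtype.ext (Subtype.mk.inj h6)
          · rw [dif_pos hxD, dif_neg hyD] at hxy
            exact absurd hxy (by simp)
        · by_cases hyD : (y : G) ∈ D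
          · rw [dif_neg hxD, dif_pos hyD] at hxy
            exact absurd hxy (by simp)
          · rw [dif_neg hxD, dif_neg hyD] at hxy
            have h6 := Sum.inr.inj hxy
            exact Subtype.ext (mul_left_cancel (Subtype.mk.inj h6))
      rw [Nat.card_sum, ← card_mul_relIndex' (h.le D hD)] at h3
      have h4 : 0 < Nat.card D := Nat.card_pos
      by_contra h5
      push Not at h5
      have : Nat.card D * 3 ≤ Nat.card D * D.relIndex A := Nat.mul_le_mul_left _ h5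
      omega
    rw [h.rel D hD] at h1
    have := h.q2
    omega
  obtain ⟨j, hj, hjx⟩ := hJt x hx (z * x) (mul_mem hz hx) hxD hzx
  refine ⟨j * x * j⁻¹ * x⁻¹, ?_, ?_⟩
  · rw [mem_compl]
    have hjxA : j * x * j⁻¹ ∈ A := (mem_normalizer_iff.1 (hJ hj) x).1 hx
    refine ⟨mul_mem hjxA (inv_mem hx), fun D' hD' hne => ?_⟩
    exact hJ' D' hD' hne (h.inf_ne_bot hV hD hD') j hj x hx
  · -- `(j x j⁻¹ x⁻¹)⁻¹ z = x (j x j⁻¹)⁻¹ z`
    have hjxA : j * x * j⁻¹ ∈ A := (mem_normalizer_iff.1 (hJ hj) x).1 hx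
    have e : (j * x * j⁻¹ * x⁻¹)⁻¹ * z = ((j * x * j⁻¹) * (z * x)⁻¹)⁻¹ := by
      set y := j * x * j⁻¹ with hy
      have h1 := h.comm z hz x hx
      have h3 := h.comm y⁻¹ (inv_mem hjxA) z hz
      calc (y * x⁻¹)⁻¹ * z = x * (y⁻¹ * z) := by group
        _ = x * (z * y⁻¹) := by rw [h3]
        _ = (x * z) * y⁻¹ := by group
        _ = (z * x) * y⁻¹ := by rw [h1]
        _ = (y * (z * x)⁻¹)⁻¹ := by group
    rw [e]
    exact inv_mem hjx

theorem compl_inf (h : ClassData A q 𝓓) {D : Subgroup G} (hD : D ∈ 𝓓) : compl A 𝓓 D ⊓ D = ⊥ := by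
  have e : compl A 𝓓 D ⊓ D = A ⊓ ⨅ D' ∈ 𝓓, D' := by
    ext x
    rw [mem_inf, mem_compl, mem_inf, mem_iInf]
    simp only [mem_iInf]
    constructor
    · rintro ⟨⟨hA, h1⟩, h2⟩
      refine ⟨hA, fun D' hD' => ?_⟩
      by_cases hne : D' = D
      · rw [hne]; exact h2
      · exact h1 D' hD' hne
    · rintro ⟨hA, h1⟩
      exact ⟨⟨hA, fun D' hD' _ => h1 D' hD'⟩, h1 D hD⟩
  rw [e]
  have key := h.irr (A ⊓ ⨅ D' ∈ 𝓓, D') inf_le_left (by
    intro n hn x hx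
    rw [mem_inf, mem_iInf] at hx ⊢
    simp only [mem_iInf] at hx ⊢
    refine ⟨(mem_normalizer_iff.1 hn x).1 hx.1, fun D' hD' => ?_⟩
    have h2 := hx.2 _ (h.inv D' hD' n⁻¹ (inv_mem hn))
    obtain ⟨y, hy, hyx⟩ := h2
    have hyx' : n⁻¹ * y * n⁻¹⁻¹ = x := hyx
    rw [← hyx']
    have : n * (n⁻¹ * y * n⁻¹⁻¹) * n⁻¹ = y := by group
    rwa [this])
  rcases key with h1 | h1
  · exact h1
  · exfalso
    apply h.ne_A hD
    apply le_antisymm (h.le D hD)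
    rw [← h1]
    exact inf_le_right.trans (iInf₂_le D hD)

/-- In the large case the data are canonical. -/
theorem canon_of_large [Finite G] (h : ClassData A q 𝓓) (hV : q ^ 2 < Nat.card A) :
    Canon A q 𝓓 (compl A 𝓓) where
  sq := h.sq
  comm := h.comm
  irr := h.irr
  idx := h.idx
  q2 := h.q2
  le := h.le
  ne := h.ne
  Kle D _ := inf_le_left
  Kcard D hD := by
    have h1 := h.card_eq hD
    have h2 : Nat.card (compl A 𝓓 D) * Nat.card D = Nat.card A := by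
      rw [← Nat.card_prod]
      refine Nat.card_congr (Equiv.ofBijective (fun x : compl A 𝓓 D × D =>
        (⟨(x.1 : G) * x.2, mul_mem (mem_compl.1 x.1.2).1 (h.le D hD x.2.2)⟩ : A)) ⟨?_, ?_⟩)
      · rintro ⟨⟨a, ha⟩, ⟨b, hb⟩⟩ ⟨⟨a', ha'⟩, ⟨b', hb'⟩⟩ e'
        have e'' : a * b = a' * b' := congrArg Subtype.val e'
        have h6 : a'⁻¹ * a = b' * b⁻¹ := by
          rw [inv_mul_eq_iff_eq_mul, ← mul_assoc, ← e'', mul_inv_cancel_right]
        have h7 : a'⁻¹ * a ∈ compl A 𝓓 D ⊓ D :=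
          mem_inf.2 ⟨mul_mem (inv_mem ha') ha, h6 ▸ mul_mem hb' (inv_mem hb)⟩
        rw [h.compl_inf hD, mem_bot] at h7
        have h8 : a = a' := (inv_mul_eq_one.1 h7).symm
        have h9 : b = b' := (mul_inv_eq_one.1 (h6 ▸ h7)).symm
        subst h8 h9
        rfl
      · rintro ⟨z, hz⟩
        obtain ⟨c, hc, hcz⟩ := h.exists_mul hV hD z hz
        exact ⟨(⟨c, hc⟩, ⟨c⁻¹ * z, hcz⟩), Subtype.ext (mul_inv_cancel_left c z)⟩
    rw [mul_comm] at h2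
    exact Nat.eq_of_mul_eq_mul_left (Nat.card_pos (α := D)) (h2.trans h1.symm)
  Kinf D hD := h.compl_inf hD
  Ksup D hD := by
    apply le_antisymm (sup_le inf_le_left (h.le D hD))
    intro z hz
    obtain ⟨c, hc, hcz⟩ := h.exists_mul hV hD z hz
    rw [← mul_inv_cancel_left c z]
    exact mul_mem_sup hc hcz
  inv := h.inv
  Kinv D hD n hn := by
    ext x
    rw [mem_compl]
    constructor
    · rintro ⟨hA, hx⟩
      refine ⟨n⁻¹ * x * n, mem_compl.2 ⟨?_, ?_⟩, ?_⟩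
      · have := (mem_normalizer_iff.1 (inv_mem hn) x).1 hA
        rwa [inv_inv] at this
      · intro D' hD' hne
        have h1 := hx _ (h.inv D' hD' n hn) (by
          intro e
          apply hne
          have h2 := congrArg (Subgroup.map (MulAut.conj n⁻¹).toMonoidHom) e
          have h3 := map_map_inv n⁻¹ D'
          have h4 := map_map_inv n⁻¹ D
          rw [inv_inv] at h3 h4
          rwa [h3, h4] at h2)
        obtain ⟨y, hy, hyx⟩ := h1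
        have hyx' : n * y * n⁻¹ = x := hyx
        rw [← hyx']
        have : n⁻¹ * (n * y * n⁻¹) * n = y := by group
        rwa [this]
      · change n * (n⁻¹ * x * n) * n⁻¹ = x
        group
    · rintro ⟨y, hy, rfl⟩
      obtain ⟨hyA, hy'⟩ := mem_compl.1 hy
      refine ⟨(mem_normalizer_iff.1 hn y).1 hyA, fun D' hD' hne => ?_⟩
      have h1 := hy' _ (h.inv D' hD' n⁻¹ (inv_mem hn)) (by
        intro e
        apply hne
        rw [← e, map_map_inv])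
      obtain ⟨w, hw, hwy⟩ := h1
      have hwy' : n⁻¹ * w * n⁻¹⁻¹ = y := hwy
      change n * y * n⁻¹ ∈ D'
      rw [← hwy']
      have : n * (n⁻¹ * w * n⁻¹⁻¹) * n⁻¹ = w := by group
      rwa [this]
  ti D hD D' hD' hne _ x hx := (mem_compl.1 hx).2 D' hD' (Ne.symm hne)
  tr D hD x hx y hy hx1 hy1 := by
    obtain ⟨J, hJ, hJD, hJt, hJ'⟩ := h.tor D hD
    have hxA := (mem_compl.1 hx).1
    have hyA := (mem_compl.1 hy).1
    have hxD : x ∉ D := by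
      intro hxD
      have : x ∈ compl A 𝓓 D ⊓ D := mem_inf.2 ⟨hx, hxD⟩
      rw [h.compl_inf hD, mem_bot] at this
      exact hx1 this
    have hyD : y ∉ D := by
      intro hyD
      have : y ∈ compl A 𝓓 D ⊓ D := mem_inf.2 ⟨hy, hyD⟩
      rw [h.compl_inf hD, mem_bot] at this
      exact hy1 this
    obtain ⟨j, hj, hjx⟩ := hJt x hxA y hyA hxD hyD
    refine ⟨j, hJ hj, ?_, hJD j hj⟩
    -- `j x j⁻¹ ∈ compl`
    have h1 : j * x * j⁻¹ ∈ compl A 𝓓 D := by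
      rw [mem_compl]
      have hjxA : j * x * j⁻¹ ∈ A := (mem_normalizer_iff.1 (hJ hj) x).1 hxA
      refine ⟨hjxA, fun D' hD' hne => ?_⟩
      have h2 := hJ' D' hD' hne (h.inf_ne_bot hV hD hD') j hj x hxA
      have h3 := (mem_compl.1 hx).2 D' hD' hne
      have := mul_mem h2 h3
      rwa [inv_mul_cancel_right] at this
    have h2 : j * x * j⁻¹ * y⁻¹ ∈ compl A 𝓓 D ⊓ D := mem_inf.2 ⟨mul_mem h1 (inv_mem hy), hjx⟩
    rw [h.compl_inf hD, mem_bot] at h2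
    exact mul_inv_eq_one.1 h2

end ClassData

end Cfsg.Agent.TwoFusion.GoldCases
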