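import Cfsg.Agent.TwoFusion.GoldPairDefs
import Cfsg.Agent.TwoFusion.GoldSolid
import Cfsg.Agent.TwoFusion.GoldInnerJ
import Cfsg.Agent.TwoFusion.GoldCases

/-!
# The classes of pairs `(w, L)` with `|A : C_A(L)|` maximal
-/

set_option autoImplicit false
set_option linter.style.haveILetI false

namespace Cfsg.Agent.TwoFusion.GoldPairs

open Subgroup
open Cfsg.Agent.TwoFusion.ClosedFam Cfsg.Agent.TwoFusion.Gold Cfsg.Agent.TwoFusion.GoldPairDefs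
open Cfsg.Agent.TwoFusion.GoldSetup

universe u

variable {G : Type u} [Group G] [Finite G] {𝒜 : Set G} (h : Setup 𝒜) (S : Sylow 2 G)

/-- The maximal index. -/
noncomputable def qmax (𝒜 : Set G) (A : Subgroup G) : ℕ :=
  sSup {n : ℕ | ∃ (w : G) (L : Subgroup (Xw w)), IsPair 𝒜 A w L ∧ (DD A w L).relIndex A = n}

/-- The classes. -/
def cls (𝒜 : Set G) (A : Subgroup G) : Set (Subgroup G) :=
  {D | ∃ (w : G) (L : Subgroup (Xw w)), IsPair 𝒜 A w L ∧ DD A w L = D ∧ D.relIndex A = qmax 𝒜 A}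

theorem relIndex_le_card (D A : Subgroup G) : D.relIndex A ≤ Nat.card A := by
  have h1 := Subgroup.card_mul_index (D.subgroupOf A)
  have h2 : 0 < Nat.card (D.subgroupOf A) := Nat.card_pos
  calc D.relIndex A = 1 * (D.subgroupOf A).index := by rw [one_mul]; rfl
    _ ≤ Nat.card (D.subgroupOf A) * (D.subgroupOf A).index := Nat.mul_le_mul_right _ h2
    _ = Nat.card A := h1

theorem bddAbove (𝒜 : Set G) (A : Subgroup G) :
    BddAbove {n : ℕ | ∃ (w : G) (L : Subgroup (Xw w)), IsPair 𝒜 A w L ∧ (DD A w L).relIndex A = n} := by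
  refine ⟨Nat.card A, ?_⟩
  rintro _ ⟨w, L, -, rfl⟩
  exact relIndex_le_card _ _

theorem le_qmax {A : Subgroup G} {w : G} {L : Subgroup (Xw w)} (hp : IsPair 𝒜 A w L) :
    (DD A w L).relIndex A ≤ qmax 𝒜 A :=
  le_csSup (bddAbove 𝒜 A) ⟨w, L, hp, rfl⟩

theorem exists_eq_qmax {A : Subgroup G} (hne : ∃ (w : G) (L : Subgroup (Xw w)), IsPair 𝒜 A w L) :
    ∃ (w : G) (L : Subgroup (Xw w)), IsPair 𝒜 A w L ∧ (DD A w L).relIndex A = qmax 𝒜 A := by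
  have hn : {n : ℕ | ∃ (w : G) (L : Subgroup (Xw w)), IsPair 𝒜 A w L ∧ (DD A w L).relIndex A = n}.Nonempty := by
    obtain ⟨w, L, hp⟩ := hne
    exact ⟨_, w, L, hp, rfl⟩
  exact Nat.sSup_mem hn (bddAbove 𝒜 A)

section Local

include h

omit [Finite G] in
theorem mem_family {a : G} (ha : a ∈ fam 𝒜 (S : Subgroup G)) : a ∈ 𝒜 := ((h.mem_iff S).1 ha).1

theorem ctxw {w : G} (hw : w ∈ fam 𝒜 (S : Subgroup G)) (hw1 : w ≠ 1) : Ctx (push 𝒜 (Cw w)) :=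
  h.ctx w (mem_family h S hw) hw1

omit [Finite G] in
theorem mem_Cw' {a w : G} (ha : a ∈ fam 𝒜 (S : Subgroup G)) (hw : w ∈ fam 𝒜 (S : Subgroup G)) :
    a ∈ Cw w := mem_Cw.2 (h.comm S w hw a ha)

/-- An element of `A` which is trivial modulo the core is trivial. -/
theorem eq_one_of_pw {w a : G} (ha : a ∈ fam 𝒜 (S : Subgroup G)) (haw : a ∈ Cw w)
    (h1 : pw w ⟨a, haw⟩ = 1) : a = 1 := by
  rw [pw_eq_one] at h1
  have hodd : Odd (Nat.card (Cfsg.oddCore ↥(Cw w))) :=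
    Nat.coprime_two_right.1 (Cfsg.Agent.Lib.Cores.pPrimeCore_coprime 2)
  have h2 : (⟨a, haw⟩ : ↥(Cw w)) * ⟨a, haw⟩ = 1 := Subtype.ext (h.sq S a ha)
  set x : Cfsg.oddCore ↥(Cw w) := ⟨⟨a, haw⟩, h1⟩ with hx
  have h3 : x ^ 2 = 1 := by
    rw [pow_two]; exact Subtype.ext h2
  have h4 : x ^ Nat.card (Cfsg.oddCore ↥(Cw w)) = 1 := pow_card_eq_one'
  have h5 : x = 1 := by
    obtain ⟨k, hk⟩ := hodd
    rw [hk, pow_add, pow_mul, h3, one_pow, one_mul, pow_one] at h4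
    exact h4
  exact congrArg (fun z : Cfsg.oddCore ↥(Cw w) => ((z : ↥(Cw w)) : G)) h5

theorem pw_mem_push {w a : G} (ha : a ∈ fam 𝒜 (S : Subgroup G)) (haw : a ∈ Cw w) :
    pw w ⟨a, haw⟩ ∈ push 𝒜 (Cw w) := ⟨⟨a, haw⟩, mem_family h S ha, rfl⟩

/-- Commutators of `JJ` with `A` lie in `L`. -/
theorem comm_mem {w : G} {L : Subgroup (Xw w)} (hp : IsPair 𝒜 (fam 𝒜 (S : Subgroup G)) w L) {g a : G}
    (hg : g ∈ JJ (fam 𝒜 (S : Subgroup G)) w L) (ha : a ∈ fam 𝒜 (S : Subgroup G)) :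
    g * a * g⁻¹ * a⁻¹ ∈ fam 𝒜 (S : Subgroup G) ∧ ∃ hc : g * a * g⁻¹ * a⁻¹ ∈ Cw w,
      pw w ⟨g * a * g⁻¹ * a⁻¹, hc⟩ ∈ L := by
  obtain ⟨hgN, hgw, hgL⟩ := mem_JJ.1 hg
  have haw := mem_Cw' h S ha hp.mem
  refine ⟨mul_mem ((mem_normalizer_iff.1 hgN a).1 ha) (inv_mem ha),
    mul_mem (mul_mem (mul_mem hgw haw) (inv_mem hgw)) (inv_mem haw), ?_⟩
  have hn : pw w ⟨a, haw⟩ ∈ normalizer (L : Set (Xw w)) :=
    mem_normalizer (ctxw h S hp.mem hp.ne).fam (ctxw h S hp.mem hp.ne).core hp.comp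
      (pw_mem_push h S ha haw)
  have h1 : pw w ⟨a, haw⟩ * (pw w ⟨g, hgw⟩)⁻¹ * (pw w ⟨a, haw⟩)⁻¹ ∈ L :=
    (mem_normalizer_iff.1 hn _).1 (inv_mem hgL)
  have e : pw w ⟨g * a * g⁻¹ * a⁻¹, mul_mem (mul_mem (mul_mem hgw haw) (inv_mem hgw)) (inv_mem haw)⟩ =
      pw w ⟨g, hgw⟩ * (pw w ⟨a, haw⟩ * (pw w ⟨g, hgw⟩)⁻¹ * (pw w ⟨a, haw⟩)⁻¹) := by
    rw [← map_inv, ← map_inv, ← map_mul, ← map_mul, ← map_mul]
    congr 1
    apply Subtype.ext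
    change g * a * g⁻¹ * a⁻¹ = g * (a * g⁻¹ * a⁻¹)
    group
  rw [e]
  exact mul_mem hgL h1

/-- `JJ` centralizes `DD`. -/
theorem JJ_comm_DD {w : G} {L : Subgroup (Xw w)} (hp : IsPair 𝒜 (fam 𝒜 (S : Subgroup G)) w L) {g d : G}
    (hg : g ∈ JJ (fam 𝒜 (S : Subgroup G)) w L) (hd : d ∈ DD (fam 𝒜 (S : Subgroup G)) w L) :
    g * d * g⁻¹ = d := by
  obtain ⟨hdA, hdw, hdc⟩ := mem_DD.1 hd
  obtain ⟨h1, h2, -⟩ := comm_mem h S hp hg hdA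
  obtain ⟨-, hgw, hgL⟩ := mem_JJ.1 hg
  have h3 : g * d * g⁻¹ * d⁻¹ = 1 := by
    refine eq_one_of_pw h S h1 h2 ?_
    have e : pw w ⟨g * d * g⁻¹ * d⁻¹, h2⟩ =
        pw w ⟨g, hgw⟩ * pw w ⟨d, hdw⟩ * (pw w ⟨g, hgw⟩)⁻¹ * (pw w ⟨d, hdw⟩)⁻¹ := by
      rw [← map_inv, ← map_inv, ← map_mul, ← map_mul, ← map_mul]
      rfl
    rw [e, (mem_centralizer_iff.1 hdc) _ hgL]
    group
  calc g * d * g⁻¹ = g * d * g⁻¹ * d⁻¹ * d := by group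
    _ = d := by rw [h3, one_mul]

/-- `DD` is not everything. -/
theorem DD_ne {w : G} {L : Subgroup (Xw w)} (hp : IsPair 𝒜 (fam 𝒜 (S : Subgroup G)) w L) :
    w ∈ DD (fam 𝒜 (S : Subgroup G)) w L := by
  rw [mem_DD]
  refine ⟨hp.mem, mem_Cw.2 rfl, ?_⟩
  rw [mem_centralizer_iff]
  intro x _
  obtain ⟨y, rfl⟩ := pw_surjective w x
  rw [← map_mul, ← map_mul]
  congr 1
  apply Subtype.ext
  exact (mem_Cw.1 y.2).symm

/-- `JJ` is transitive on the nontrivial elements of `A/C_A(L)`. -/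
theorem JJ_trans {w : G} {L : Subgroup (Xw w)} (hp : IsPair 𝒜 (fam 𝒜 (S : Subgroup G)) w L) {x y : G}
    (hx : x ∈ fam 𝒜 (S : Subgroup G)) (hy : y ∈ fam 𝒜 (S : Subgroup G))
    (hxD : x ∉ DD (fam 𝒜 (S : Subgroup G)) w L) (hyD : y ∉ DD (fam 𝒜 (S : Subgroup G)) w L) :
    ∃ j ∈ JJ (fam 𝒜 (S : Subgroup G)) w L, j * x * j⁻¹ * y⁻¹ ∈ DD (fam 𝒜 (S : Subgroup G)) w L := by
  set A := fam 𝒜 (S : Subgroup G) with hA
  have hAH : A ≤ Cw w := fun a ha => mem_Cw' h S ha hp.mem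
  obtain ⟨P, hP⟩ := GoldSolid.exists_sylow_push h.fam S hAH
  obtain ⟨J, hJL, hJodd, hJn, hJt⟩ := GoldInnerJ.exists_J (ctxw h S hp.mem hp.ne) hp.comp hp.act P
  have hxw := hAH hx
  have hyw := hAH hy
  have hmem : ∀ {a : G} (ha : a ∈ A) (haw : a ∈ Cw w),
      pw w ⟨a, haw⟩ ∈ fam (push 𝒜 (Cw w)) (P : Subgroup (Xw w)) := by
    intro a ha haw
    rw [hP]
    exact ⟨⟨a, haw⟩, mem_subgroupOf.2 ha, rfl⟩
  obtain ⟨j, hj, hjxy⟩ := hJt (pw w ⟨x, hxw⟩) (hmem hx hxw) (pw w ⟨y, hyw⟩) (hmem hy hyw)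
    (fun hc => hxD (mem_DD.2 ⟨hx, hxw, hc⟩)) (fun hc => hyD (mem_DD.2 ⟨hy, hyw, hc⟩))
  obtain ⟨⟨c, hc⟩, rfl⟩ := pw_surjective w j
  have hjn := hJn hj
  rw [hP] at hjn
  obtain ⟨o, ho, n, hn, hnw, hcn⟩ := GoldSolid.exists_mul_of_mem_normalizer h.fam S hAH hc hjn
  have hpn : pw w ⟨n, hnw⟩ = pw w ⟨c, hc⟩ := by
    have how : o ∈ Cw w := by
      obtain ⟨y, -, rfl⟩ := ho
      exact y.2
    have h1 : pw w ⟨o, how⟩ = 1 := by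
      rw [pw_eq_one]
      obtain ⟨y, hy, hyo⟩ := ho
      have : y = ⟨o, how⟩ := Subtype.ext hyo
      rw [← this]; exact hy
    have h2 : (⟨c, hc⟩ : ↥(Cw w)) = ⟨o, how⟩ * ⟨n, hnw⟩ := Subtype.ext hcn
    rw [h2, map_mul, h1, one_mul]
  refine ⟨n, mem_JJ.2 ⟨hn, hnw, by rw [hpn]; exact hJL hj⟩, ?_⟩
  rw [mem_DD]
  have hz : n * x * n⁻¹ * y⁻¹ ∈ Cw w := mul_mem (mul_mem (mul_mem hnw hxw) (inv_mem hnw)) (inv_mem hyw)
  refine ⟨mul_mem ((mem_normalizer_iff.1 hn x).1 hx) (inv_mem hy), hz, ?_⟩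
  have e : pw w ⟨n * x * n⁻¹ * y⁻¹, hz⟩ =
      pw w ⟨c, hc⟩ * pw w ⟨x, hxw⟩ * (pw w ⟨c, hc⟩)⁻¹ * (pw w ⟨y, hyw⟩)⁻¹ := by
    rw [← hpn, ← map_inv, ← map_inv, ← map_mul, ← map_mul, ← map_mul]
    rfl
  rw [e]
  exact hjxy

/-- Distinct components commute. -/
theorem comm_components {w : G} {L M : Subgroup (Xw w)} (hL : Cfsg.IsComponent L) (hM : Cfsg.IsComponent M)
    (hne : L ≠ M) : L ≤ centralizer (M : Set (Xw w)) := by
  have h1 := Cfsg.Agent.S1270.component_comm_of_ne hL hM hne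
  rwa [commutator_eq_bot_iff_le_centralizer] at h1

end Local

section Classes

variable (hB : Balance 𝒜 (fam 𝒜 (S : Subgroup G))) (hC : ConjPair 𝒜 (fam 𝒜 (S : Subgroup G)))
  (h4 : ∀ (w : G) (L : Subgroup (Xw w)), IsPair 𝒜 (fam 𝒜 (S : Subgroup G)) w L →
    4 ≤ (DD (fam 𝒜 (S : Subgroup G)) w L).relIndex (fam 𝒜 (S : Subgroup G)))

include hB in
omit [Finite G] in
/-- Balance for classes. -/
theorem balance' [Finite G] {w : G} {L : Subgroup (Xw w)} {d : G}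
    (hp : IsPair 𝒜 (fam 𝒜 (S : Subgroup G)) w L)
    (hq : (DD (fam 𝒜 (S : Subgroup G)) w L).relIndex (fam 𝒜 (S : Subgroup G)) =
      qmax 𝒜 (fam 𝒜 (S : Subgroup G)))
    (hd : d ∈ DD (fam 𝒜 (S : Subgroup G)) w L) (hd1 : d ≠ 1) :
    ∃ M : Subgroup (Xw d), IsPair 𝒜 (fam 𝒜 (S : Subgroup G)) d M ∧
      DD (fam 𝒜 (S : Subgroup G)) d M = DD (fam 𝒜 (S : Subgroup G)) w L ∧
      ∀ g ∈ JJ (fam 𝒜 (S : Subgroup G)) w L, ∃ g' ∈ JJ (fam 𝒜 (S : Subgroup G)) d M,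
        ∀ a ∈ fam 𝒜 (S : Subgroup G), g * a * g⁻¹ = g' * a * g'⁻¹ :=
  hB w L d hp hd hd1 (fun M hM => by rw [hq]; exact le_qmax hM)

include hB in
/-- For `D ∈ cls` and `d ∈ D#` there is a component `M` of `X_d` with `C_A(M) = D`. -/
theorem exists_comp {D : Subgroup G} (hD : D ∈ cls 𝒜 (fam 𝒜 (S : Subgroup G))) {d : G} (hd : d ∈ D)
    (hd1 : d ≠ 1) : ∃ M : Subgroup (Xw d), IsPair 𝒜 (fam 𝒜 (S : Subgroup G)) d M ∧
      DD (fam 𝒜 (S : Subgroup G)) d M = D := by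
  obtain ⟨w, L, hp, rfl, hq⟩ := hD
  obtain ⟨M, hM, hMD, -⟩ := balance' S hB hp hq hd hd1
  exact ⟨M, hM, hMD⟩

include h hB hC h4 in
/-- The class data. -/
theorem classData (hne : ∃ (w : G) (L : Subgroup (Xw w)), IsPair 𝒜 (fam 𝒜 (S : Subgroup G)) w L) :
    GoldCases.ClassData (fam 𝒜 (S : Subgroup G)) (qmax 𝒜 (fam 𝒜 (S : Subgroup G)))
      (cls 𝒜 (fam 𝒜 (S : Subgroup G))) where
  sq := h.sq S
  comm := h.comm S
  irr B hBA hn := h.irreducible S hBA hn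
  idx := h.index_ne_two S
  q2 := by
    obtain ⟨w, L, hp, hq⟩ := exists_eq_qmax hne
    have := h4 w L hp
    omega
  le := by
    rintro _ ⟨w, L, -, rfl, -⟩
    exact inf_le_left
  ne := by
    rintro _ ⟨w, L, hp, rfl, -⟩ hbot
    have h1 := DD_ne h S hp
    rw [hbot, mem_bot] at h1
    exact hp.ne h1
  rel := by
    rintro _ ⟨w, L, -, rfl, hq⟩
    exact hq
  inv := by
    rintro _ ⟨w, L, hp, rfl, hq⟩ n hn
    obtain ⟨L', hp', hD', -⟩ := hC w L n hp hn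
    refine ⟨_, L', hp', hD', ?_⟩
    rw [← hq]
    have e : (fam 𝒜 (S : Subgroup G)).map (MulAut.conj n).toMonoidHom = fam 𝒜 (S : Subgroup G) :=
      map_conj_of_mem_normalizer hn
    have e2 := relIndex_map_map_of_injective (DD (fam 𝒜 (S : Subgroup G)) w L) (fam 𝒜 (S : Subgroup G))
      (f := (MulAut.conj n).toMonoidHom) (MulAut.conj n).injective
    rw [e] at e2
    exact e2
  tor := by
    rintro _ ⟨w, L, hp, rfl, hq⟩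
    refine ⟨JJ (fam 𝒜 (S : Subgroup G)) w L, inf_le_left, fun j hj d hd => JJ_comm_DD h S hp hj hd,
      fun x hx y hy hxD hyD => JJ_trans h S hp hx hy hxD hyD, ?_⟩
    rintro _ ⟨w', L', hp', rfl, hq'⟩ hne' hinf j hj a ha
    obtain ⟨⟨d, hd⟩, hd1'⟩ := Subgroup.ne_bot_iff_exists_ne_one.1 hinf
    have hd1 : d ≠ 1 := fun e => hd1' (Subtype.ext e)
    obtain ⟨M, hM, hMD, hMJ⟩ := balance' S hB hp hq hd.1 hd1
    obtain ⟨M', hM', hMD', -⟩ := balance' S hB hp' hq' hd.2 hd1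
    have hMM' : M ≠ M' := by
      rintro rfl
      exact hne' (hMD'.symm.trans hMD)
    obtain ⟨j', hj', hjj'⟩ := hMJ j hj
    rw [hjj' a ha, ← hMD', mem_DD]
    obtain ⟨h1, h2, h3⟩ := comm_mem h S hM hj' ha
    exact ⟨h1, h2, comm_components h hM.comp hM'.comp hMM' h3⟩

end Classes

end Cfsg.Agent.TwoFusion.GoldPairs
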