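import Cfsg.Agent.TwoFusion.GoldBridge
import Cfsg.Agent.TwoFusion.GoldPairs
import Cfsg.Agent.TwoFusion.GoldNZero
import Cfsg.Agent.TwoFusion.GoldConjPair
import Cfsg.Agent.TwoFusion.GoldIdx

/-!
# Goldschmidt's theorem: from the classes of components to case (W) and case (J)

* `Glue 𝒜 A q 𝓓 K`: canonical data together with the components `M` of `C(d)/O(C(d))`, `d ∈ D#`, `D ∈ 𝓓`, with
  `C_A(M) = D` and `K D ≤ M` modulo the core;
* `glue_of_large`: the classes form such data if `q² < |A|`;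
* `caseW`: conclusion (W) of the linear algebra gives `GoldW.CaseW`;
* `exists_pair_of_conJ`: conclusion (J) gives a component for every `x ∈ A#`.
-/

set_option autoImplicit false
set_option linter.style.haveILetI false

namespace Cfsg.Agent.TwoFusion.GoldGlue

open Subgroup
open scoped commutatorElement
open Cfsg.Agent.TwoFusion.ClosedFam Cfsg.Agent.TwoFusion.Gold Cfsg.Agent.TwoFusion.ClosedLocal
open Cfsg.Agent.TwoFusion.GoldSetup Cfsg.Agent.TwoFusion.GoldPairDefs Cfsg.Agent.TwoFusion.GoldPairs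
open Cfsg.Agent.TwoFusion.GoldBridge Cfsg.Agent.TwoFusion.GoldCases

universe u

variable {G : Type u} [Group G] [Finite G] {𝒜 : Set G}

/-- Canonical data with components. -/
structure Glue (𝒜 : Set G) (A : Subgroup G) (q : ℕ) (𝓓 : Set (Subgroup G)) (K : Subgroup G → Subgroup G) :
    Prop where
  canon : Canon A q 𝓓 K
  four : 4 ≤ q
  comp : ∀ D ∈ 𝓓, ∀ d ∈ D, d ≠ 1 → ∃ M : Subgroup (Xw d), IsPair 𝒜 A d M ∧ DD A d M = D ∧
    ∀ a ∈ K D, ∃ ha : a ∈ Cw d, pw d ⟨a, ha⟩ ∈ M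

section Large

variable (h : Setup 𝒜) (S : Sylow 2 G) (hB : Balance 𝒜 (fam 𝒜 (S : Subgroup G)))
  (hC : ConjPair 𝒜 (fam 𝒜 (S : Subgroup G)))
  (h4 : ∀ (w : G) (L : Subgroup (Xw w)), IsPair 𝒜 (fam 𝒜 (S : Subgroup G)) w L →
    4 ≤ (DD (fam 𝒜 (S : Subgroup G)) w L).relIndex (fam 𝒜 (S : Subgroup G)))

include h hB in
/-- The commutators `[JJ, A]` of a maximal pair lie in the other classes. -/
theorem comm_mem_of_ne {w : G} {L : Subgroup (Xw w)} (hp : IsPair 𝒜 (fam 𝒜 (S : Subgroup G)) w L)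
    (hq : (DD (fam 𝒜 (S : Subgroup G)) w L).relIndex (fam 𝒜 (S : Subgroup G)) =
      qmax 𝒜 (fam 𝒜 (S : Subgroup G))) {D' : Subgroup G} (hD' : D' ∈ cls 𝒜 (fam 𝒜 (S : Subgroup G)))
    (hne : D' ≠ DD (fam 𝒜 (S : Subgroup G)) w L) (hinf : DD (fam 𝒜 (S : Subgroup G)) w L ⊓ D' ≠ ⊥)
    {j a : G} (hj : j ∈ JJ (fam 𝒜 (S : Subgroup G)) w L) (ha : a ∈ fam 𝒜 (S : Subgroup G)) :
    j * a * j⁻¹ * a⁻¹ ∈ D' := by
  obtain ⟨w', L', hp', rfl, hq'⟩ := hD'
  obtain ⟨⟨d, hd⟩, hd1'⟩ := Subgroup.ne_bot_iff_exists_ne_one.1 hinf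
  have hd1 : d ≠ 1 := fun e => hd1' (Subtype.ext e)
  obtain ⟨M, hM, hMD, hMJ⟩ := balance' S hB hp hq hd.1 hd1
  obtain ⟨M', hM', hMD', -⟩ := balance' S hB hp' hq' hd.2 hd1
  have hMM' : M ≠ M' := by
    rintro rfl
    exact hne (hMD'.symm.trans hMD)
  obtain ⟨j', hj', hjj'⟩ := hMJ j hj
  rw [hjj' a ha, ← hMD', mem_DD]
  obtain ⟨h1, h2, h3⟩ := comm_mem h S hM hj' ha
  exact ⟨h1, h2, comm_components h hM.comp hM'.comp hMM' h3⟩

include h hB hC h4 in
theorem glue_of_large (hne : ∃ (w : G) (L : Subgroup (Xw w)), IsPair 𝒜 (fam 𝒜 (S : Subgroup G)) w L)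
    (hbig : qmax 𝒜 (fam 𝒜 (S : Subgroup G)) ^ 2 < Nat.card (fam 𝒜 (S : Subgroup G))) :
    Glue 𝒜 (fam 𝒜 (S : Subgroup G)) (qmax 𝒜 (fam 𝒜 (S : Subgroup G))) (cls 𝒜 (fam 𝒜 (S : Subgroup G)))
      (ClassData.compl (fam 𝒜 (S : Subgroup G)) (cls 𝒜 (fam 𝒜 (S : Subgroup G)))) := by
  have hcd := classData h S hB hC h4 hne
  have hcanon := hcd.canon_of_large hbig
  set A := fam 𝒜 (S : Subgroup G) with hA
  refine ⟨hcanon, ?_, ?_⟩
  · obtain ⟨w, L, hp, hq⟩ := exists_eq_qmax hne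
    rw [← hq]; exact h4 w L hp
  rintro D hD d hd hd1
  obtain ⟨w, L, hp, rfl, hq⟩ := id hD
  obtain ⟨M, hM, hMD, -⟩ := balance' S hB hp hq hd hd1
  refine ⟨M, hM, hMD, ?_⟩
  intro a ha
  have hinf := hcd.compl_inf hD
  by_cases ha1 : a = 1
  · subst ha1
    exact ⟨one_mem _, by
      have : (⟨1, one_mem _⟩ : ↥(Cw d)) = 1 := rfl
      rw [this, map_one]; exact one_mem _⟩
  have haD : a ∉ DD A w L := fun hc => ha1 (by
    have : a ∈ ClassData.compl A (cls 𝒜 A) (DD A w L) ⊓ DD A w L := ⟨ha, hc⟩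
    rwa [hinf, mem_bot] at this)
  obtain ⟨haA, haD'⟩ := ClassData.mem_compl.1 ha
  -- choose `x ∉ D` with `a x ∉ D`
  obtain ⟨x, hx, y, hy, hxD, hyD, hxy⟩ := exists_big_pair h.fam S (ctxw h S hp.mem hp.ne) hp
  obtain ⟨x, hx, hxD, hax⟩ : ∃ x ∈ A, x ∉ DD A w L ∧ a * x ∉ DD A w L := by
    by_contra hcon
    push Not at hcon
    have h1 := hcon x hx hxD
    have h2 := hcon y hy hyD
    apply hxy
    have e : x * y⁻¹ = (a * x) * (a * y)⁻¹ := by
      have hc := h.comm S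
      have h3 : a * x = x * a := hc a haA x hx
      have h4' : a * y = y * a := hc a haA y hy
      rw [h3, h4']; group
    rw [e]
    exact mul_mem h1 (inv_mem h2)
  have hMq : (DD A d M).relIndex A = qmax 𝒜 A := by rw [hMD]; exact hq
  obtain ⟨j, hj, hjD⟩ := JJ_trans h S hM hx (mul_mem haA hx) (by rw [hMD]; exact hxD) (by rw [hMD]; exact hax)
  rw [hMD] at hjD
  obtain ⟨h1, h2, h3⟩ := comm_mem h S hM hj hx
  -- the commutator equals `a`
  have hvc : j * x * j⁻¹ * x⁻¹ ∈ ClassData.compl A (cls 𝒜 A) (DD A w L) := by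
    rw [ClassData.mem_compl]
    refine ⟨h1, fun D' hD' hne' => ?_⟩
    have hinf' : DD A w L ⊓ D' ≠ ⊥ := hcd.inf_ne_bot hbig hD hD'
    exact comm_mem_of_ne h S hB hM hMq hD' (by rw [hMD]; exact hne') (by rw [hMD]; exact hinf') hj hx
  have hva : (j * x * j⁻¹ * x⁻¹) * a⁻¹ ∈ DD A w L := by
    have e : (j * x * j⁻¹ * x⁻¹) * a⁻¹ = j * x * j⁻¹ * (a * x)⁻¹ := by group
    rw [e]; exact hjD
  have hva1 : (j * x * j⁻¹ * x⁻¹) * a⁻¹ = 1 := by
    have : (j * x * j⁻¹ * x⁻¹) * a⁻¹ ∈ ClassData.compl A (cls 𝒜 A) (DD A w L) ⊓ DD A w L :=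
      mem_inf.2 ⟨mul_mem hvc ((ClassData.compl A (cls 𝒜 A) (DD A w L)).inv_mem ha), hva⟩
    rwa [hinf, mem_bot] at this
  have hva2 : j * x * j⁻¹ * x⁻¹ = a := mul_inv_eq_one.1 hva1
  have haw : a ∈ Cw d := by rw [← hva2]; exact h2
  refine ⟨haw, ?_⟩
  have e : (⟨a, haw⟩ : ↥(Cw d)) = ⟨j * x * j⁻¹ * x⁻¹, h2⟩ := Subtype.ext hva2.symm
  rw [e]; exact h3

end Large

/-! ### Case (W) -/

section W

variable (h : Setup 𝒜) (S : Sylow 2 G)

omit [Finite G] in
theorem isPGroup_A : IsPGroup 2 (fam 𝒜 (S : Subgroup G)) := isPGroup_fam 𝒜 S.2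

include h

omit [Finite G] in
theorem le_Cw {w : G} (hw : w ∈ fam 𝒜 (S : Subgroup G)) : fam 𝒜 (S : Subgroup G) ≤ Cw w :=
  fun a ha => mem_Cw.2 (h.comm S w hw a ha)

/-- (7.1) for all components. -/
theorem type_of {ι : Type*} [Nonempty ι] {B : ι → Subgroup G}
    (sup : ⨆ i, B i = fam 𝒜 (S : Subgroup G)) (indep : ∀ i, B i ⊓ (⨆ j : {j // j ≠ i}, B j) = ⊥)
    (two : ∀ i, ∀ x ∈ B i, ∃ y ∈ B i, y ≠ 1 ∧ y ≠ x)
    (perm : ∀ g ∈ normalizer (fam 𝒜 (S : Subgroup G) : Set G), ∀ i, ∃ i',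
      (B i).map (MulAut.conj g).toMonoidHom = B i')
    {w : G} (hw : w ∈ fam 𝒜 (S : Subgroup G)) (hw1 : w ≠ 1) {M : Subgroup (Xw w)}
    (hM : Cfsg.IsComponent M) :
    ∃ i, ∀ j, j ≠ i → B j ≤ pull (Cw w) (centralizer (M : Set (Xw w))) := by
  have hctx := ctxw h S hw hw1
  have hAw := le_Cw h S hw
  by_cases hact : Act (push 𝒜 (Cw w)) M
  · obtain ⟨P, hP⟩ := GoldSolid.exists_sylow_push h.fam S hAw
    obtain ⟨J, hJL, hodd, hJN, hJt⟩ := GoldInnerJ.exists_J hctx hM hact P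
    obtain ⟨x, hx, y, hy, h1, h2, h3⟩ := exists_big hctx hM hact P
    rw [hP] at hJN hJt hx hy
    exact GoldBridge.exists_type (h.sq S) (h.comm S) hAw sup indep two perm hJL hodd
      (fun j hj => exists_mem_lift h.fam S hAw hJN hj) hJt ⟨x, hx, y, hy, h1, h2, h3⟩
  · obtain ⟨i⟩ := ‹Nonempty ι›
    refine ⟨i, fun j _ a ha => ?_⟩
    have haA : a ∈ fam 𝒜 (S : Subgroup G) := by
      rw [← sup]; exact (le_iSup B j) ha
    rw [mem_pull]
    refine ⟨hAw haA, ?_⟩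
    rw [mem_centralizer_iff]
    intro m hm
    exact (comm_of_not_act hctx.fam hctx.core hM hact (π (Cw w) ⟨a, hAw haA⟩)
      ⟨⟨a, hAw haA⟩, mem_family h S haA, rfl⟩ m hm).symm

/-- Case (W). -/
theorem caseW {q : ℕ} {𝓓 : Set (Subgroup G)} {K : Subgroup G → Subgroup G}
    (hg : Glue 𝒜 (fam 𝒜 (S : Subgroup G)) q 𝓓 K) (hW : ConW (fam 𝒜 (S : Subgroup G)) 𝓓 K) :
    GoldW.CaseW (fam 𝒜 (S : Subgroup G)) (fun D : 𝓓 => K (D : Subgroup G)) := by
  classical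
  haveI : Fact (Nat.Prime 2) := ⟨Nat.prime_two⟩
  set A := fam 𝒜 (S : Subgroup G) with hA
  have hsup : (⨆ i : 𝓓, K (i : Subgroup G)) = A := by
    rw [← hW.sup, iSup_subtype']
  have hKle : ∀ i : 𝓓, K (i : Subgroup G) ≤ A := fun i => hg.canon.Kle i i.2
  have hle : ∀ i : 𝓓, (⨆ j : {j : 𝓓 // j ≠ i}, K ((j : 𝓓) : Subgroup G)) ≤ i := by
    intro i
    refine iSup_le fun j => ?_
    exact hW.le _ (j : 𝓓).2 _ i.2 (fun e => j.2 (Subtype.ext e))
  have hindep : ∀ i : 𝓓, K (i : Subgroup G) ⊓ (⨆ j : {j : 𝓓 // j ≠ i}, K ((j : 𝓓) : Subgroup G)) = ⊥ := by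
    intro i
    rw [eq_bot_iff, ← hg.canon.Kinf i i.2]
    exact inf_le_inf le_rfl (hle i)
  have hcard : ∀ i : 𝓓, 4 ≤ Nat.card (K (i : Subgroup G)) := fun i => by
    rw [hg.canon.Kcard i i.2]; exact hg.four
  have hnorm : ∀ g ∈ normalizer (A : Set G), ∀ i : 𝓓, ∃ j : 𝓓,
      (K (i : Subgroup G)).map (MulAut.conj g).toMonoidHom = K (j : Subgroup G) := fun g hgN i =>
    ⟨⟨_, hg.canon.inv i i.2 g hgN⟩, (hg.canon.Kinv i i.2 g hgN).symm⟩
  have htwo : ∀ i : 𝓓, ∀ x ∈ K (i : Subgroup G), ∃ y ∈ K (i : Subgroup G), y ≠ 1 ∧ y ≠ x := by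
    intro i x hx
    by_contra hcon
    push Not at hcon
    have h1 : (Set.univ : Set (K (i : Subgroup G))) ⊆ {1, ⟨x, hx⟩} := by
      rintro ⟨y, hy⟩ -
      by_cases hy1 : y = 1
      · left; exact Subtype.ext hy1
      · right; exact Subtype.ext (hcon y hy hy1)
    have h2 := Set.ncard_le_ncard h1 (Set.toFinite _)
    rw [Set.ncard_univ] at h2
    have h3 : ({1, ⟨x, hx⟩} : Set (K (i : Subgroup G))).ncard ≤ 2 := by
      refine (Set.ncard_insert_le _ _).trans ?_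
      rw [Set.ncard_singleton]
    have := hcard i
    omega
  have hthree : ∀ i j : 𝓓, ∃ k, k ≠ i ∧ k ≠ j := by
    intro i j
    by_contra hcon
    push Not at hcon
    have h1 : 𝓓 ⊆ {(i : Subgroup G), (j : Subgroup G)} := by
      intro D hD
      by_cases hDi : (⟨D, hD⟩ : 𝓓) = i
      · left; exact congrArg Subtype.val hDi
      · right; exact congrArg Subtype.val (hcon ⟨D, hD⟩ hDi)
    have h2 := Set.ncard_le_ncard h1 (Set.toFinite _)
    have h3 : ({(i : Subgroup G), (j : Subgroup G)} : Set (Subgroup G)).ncard ≤ 2 := by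
      refine (Set.ncard_insert_le _ _).trans ?_
      rw [Set.ncard_singleton]
    have := hW.three
    omega
  haveI hne : Nonempty 𝓓 := by
    have h0 : 𝓓.Nonempty := by
      rw [← Set.ncard_pos (Set.toFinite _)]
      have := hW.three
      omega
    exact ⟨⟨_, h0.choose_spec⟩⟩
  exact
  { sq := h.sq S
    comm := h.comm S
    sup := hsup
    indep := hindep
    card := hcard
    three := hthree
    norm := hnorm
    weak := by
      intro g hgc
      have hcent : A.map (MulAut.conj g).toMonoidHom ≤ normalizer (A : Set G) := by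
        rintro _ ⟨a, ha, rfl⟩
        refine centralizer_le_normalizer _ ?_
        rw [mem_centralizer_iff]
        intro b hb
        exact (hgc a ha b hb).symm
      have hp : IsPGroup 2 (A ⊔ A.map (MulAut.conj g).toMonoidHom : Subgroup G) :=
        IsPGroup.to_sup_of_normal_left' (isPGroup_A (𝒜 := 𝒜) S) ((isPGroup_A (𝒜 := 𝒜) S).map _) hcent
      exact h.weak S hp le_sup_left le_sup_right
    type := by
      intro w hw hw1 M hM
      obtain ⟨i, hi⟩ := type_of h S hsup hindep htwo hnorm hw hw1 hM.2.1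
      refine ⟨i, fun j hj => ?_⟩
      exact (commutator_le_core_iff ((hKle j).trans (le_Cw h S hw))).2 (hi j hj)
    gen := by
      intro w hw hw1
      exact le_sup_pLayer h.fam S (le_Cw h S hw) (ctxw h S hw hw1)
    comp := by
      intro i j hij x hx hx1
      have hne' : (i : Subgroup G) ≠ j := fun e => hij (Subtype.ext e)
      have hxj : x ∈ (j : Subgroup G) := hW.le _ i.2 _ j.2 hne' hx
      obtain ⟨M, hM, hMD, hMK⟩ := hg.comp _ j.2 x hxj hx1
      have hxA : x ∈ A := hKle i hx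
      obtain ⟨L, hL, hLM⟩ := exists_pcomp hM.comp
      refine ⟨L, hL, ?_, ?_, ?_⟩
      · refine le_sup_core_iff.2 ?_
        intro a ha
        rw [mem_pull]
        obtain ⟨ha', haM⟩ := hMK a ha
        exact ⟨ha', by rw [hLM]; exact haM⟩
      · intro k hkj
        refine (commutator_le_core_iff ((hKle k).trans (le_Cw h S hxA))).2 ?_
        rw [hLM]
        intro a ha
        have haj : a ∈ (j : Subgroup G) := hW.le _ k.2 _ j.2 (fun e => hkj (Subtype.ext e)) ha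
        rw [← hMD, mem_DD] at haj
        obtain ⟨-, h1, h2⟩ := haj
        exact mem_pull.2 ⟨h1, h2⟩
      · intro a ha ha1 hle'
        have haA : a ∈ A := hKle j ha
        have hle2 : zpowers a ≤ Cw x := by
          rw [zpowers_le]; exact le_Cw h S hxA haA
        have h1 := (commutator_le_core_iff hle2).1 hle' (mem_zpowers a)
        rw [hLM, mem_pull] at h1
        obtain ⟨h2, h3⟩ := h1
        have haD : a ∈ (j : Subgroup G) := by
          rw [← hMD, mem_DD]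
          exact ⟨haA, h2, h3⟩
        have h4 : a ∈ K (j : Subgroup G) ⊓ (j : Subgroup G) := ⟨ha, haD⟩
        rw [hg.canon.Kinf j j.2, mem_bot] at h4
        exact ha1 h4 }

/-- Case (W) is impossible. -/
theorem false_of_conW {q : ℕ} {𝓓 : Set (Subgroup G)} {K : Subgroup G → Subgroup G}
    (hg : Glue 𝒜 (fam 𝒜 (S : Subgroup G)) q 𝓓 K) (hW : ConW (fam 𝒜 (S : Subgroup G)) 𝓓 K)
    (hcomplete : ClosedFunctor.Complete G) (hSE : SE1174 G) : False := by
  haveI := h.simple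
  have h0 : 𝓓.Nonempty := by
    rw [← Set.ncard_pos (Set.toFinite _)]
    have := hW.three
    omega
  obtain ⟨M, hM, hle⟩ := (caseW h S hg hW).exists_proper hcomplete ⟨_, h0.choose_spec⟩
  exact h.false_of_cent_le S hSE hM hle

end W

/-! ### Case (J) -/

/-- The situation in case (J). -/
structure JData (𝒜 : Set G) (A : Subgroup G) (K : Subgroup G → Subgroup G) : Prop where
  card_A : Nat.card A = 8
  odd : Odd (Nat.card A.normalizerMonoidHom.range)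
  trans : ∀ x ∈ A, ∀ y ∈ A, x ≠ 1 → y ≠ 1 → ∃ n ∈ normalizer (A : Set G), n * x * n⁻¹ = y
  Kcard : ∀ x ∈ A, x ≠ 1 → Nat.card (K (zpowers x)) = 4
  Kle : ∀ x ∈ A, x ≠ 1 → K (zpowers x) ≤ A
  notMem : ∀ x ∈ A, x ≠ 1 → x ∉ K (zpowers x)
  Kinv : ∀ x ∈ A, x ≠ 1 → ∀ n ∈ normalizer (A : Set G),
    K (zpowers (n * x * n⁻¹)) = (K (zpowers x)).map (MulAut.conj n).toMonoidHom
  tr : ∀ d ∈ A, d ≠ 1 → ∀ x ∈ K (zpowers d), ∀ y ∈ K (zpowers d), x ≠ 1 → y ≠ 1 →
    ∃ n ∈ normalizer (A : Set G), n * x * n⁻¹ = y ∧ n * d * n⁻¹ = d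
  pair : ∀ x ∈ A, x ≠ 1 → ∃ M : Subgroup (Xw x), IsPair 𝒜 A x M ∧ DD A x M = zpowers x ∧
    ∀ a ∈ K (zpowers x), ∃ ha : a ∈ Cw x, pw x ⟨a, ha⟩ ∈ M
  /-- the tournament property -/
  tour₁ : ∀ x ∈ A, ∀ y ∈ A, x ≠ 1 → y ≠ 1 → y ∈ K (zpowers x) → x ∉ K (zpowers y)
  tour₂ : ∀ x ∈ A, ∀ y ∈ A, x ≠ 1 → y ≠ 1 → x ≠ y → x ∉ K (zpowers y) → y ∈ K (zpowers x)

section J

variable {A : Subgroup G}

omit [Finite G] in
theorem zpowers_conj (n x : G) :
    (zpowers x).map (MulAut.conj n).toMonoidHom = zpowers (n * x * n⁻¹) := by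
  rw [MonoidHom.map_zpowers]
  rfl

theorem jData {q : ℕ} {𝓓 : Set (Subgroup G)} {K : Subgroup G → Subgroup G}
    (hg : Glue 𝒜 A q 𝓓 K) (hJ : ConJ A q 𝓓 K) : JData 𝒜 A K := by
  have hq := hJ.q_eq
  have key : ∀ x ∈ A, x ≠ 1 → zpowers x ∈ 𝓓 := by
    intro x hx hx1
    obtain ⟨D, hD, hxD⟩ := hJ.exists_mem x hx hx1
    have h1 : zpowers x ≤ D := by rwa [zpowers_le]
    have h2 : zpowers x = D := by
      apply eq_of_le_of_card_ge h1
      rw [hJ.card_D D hD, Nat.card_zpowers]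
      have h3 : orderOf x ∣ 2 := orderOf_dvd_of_pow_eq_one (by rw [pow_two]; exact hg.canon.sq x hx)
      have h4 : orderOf x ≠ 1 := fun e => hx1 (orderOf_eq_one_iff.1 e)
      have h5 : 0 < orderOf x := orderOf_pos x
      have h6 := Nat.le_of_dvd two_pos h3
      omega
    rw [h2]; exact hD
  refine
  { card_A := hJ.card_A
    odd := hJ.odd
    trans := hJ.trans
    Kcard := fun x hx hx1 => by rw [hg.canon.Kcard _ (key x hx hx1), hq]
    Kle := fun x hx hx1 => hg.canon.Kle _ (key x hx hx1)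
    notMem := ?_
    Kinv := ?_
    tr := ?_
    pair := fun x hx hx1 => hg.comp _ (key x hx hx1) x (mem_zpowers x) hx1
    tour₁ := ?_
    tour₂ := ?_ }
  · intro x hx hx1 hc
    have h1 : x ∈ K (zpowers x) ⊓ zpowers x := mem_inf.2 ⟨hc, mem_zpowers x⟩
    rw [hg.canon.Kinf _ (key x hx hx1), mem_bot] at h1
    exact hx1 h1
  · intro x hx hx1 n hn
    rw [← hg.canon.Kinv _ (key x hx hx1) n hn, zpowers_conj]
  · intro d hd hd1 x hx y hy hx1 hy1
    obtain ⟨n, hn, h1, h2⟩ := hg.canon.tr _ (key d hd hd1) x hx y hy hx1 hy1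
    exact ⟨n, hn, h1, h2 d (mem_zpowers d)⟩
  · intro x hx y hy hx1 hy1 h1 h2
    refine hJ.tour₁ _ (key x hx hx1) _ (key y hy hy1) ?_ ?_
    · rwa [zpowers_le]
    · rwa [zpowers_le]
  · intro x hx y hy hx1 hy1 hxy h1
    have := hJ.tour₂ _ (key x hx hx1) _ (key y hy hy1) (by
      intro e
      apply hxy
      have h3 : x ∈ zpowers y := e ▸ mem_zpowers x
      obtain ⟨k, rfl⟩ := mem_zpowers_iff.1 h3
      have h4 : (y : G) ^ k = 1 ∨ y ^ k = y := by
        have h5 : y ^ 2 = 1 := by rw [pow_two]; exact hg.canon.sq y hy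
        rcases Int.even_or_odd k with ⟨m, hm⟩ | ⟨m, hm⟩
        · left
          rw [hm, ← two_mul, zpow_mul]
          have : y ^ (2 : ℤ) = 1 := by exact_mod_cast h5
          rw [this, one_zpow]
        · right
          rw [hm, zpow_add, zpow_mul, zpow_one]
          have : y ^ (2 : ℤ) = 1 := by exact_mod_cast h5
          rw [this, one_zpow, one_mul]
      rcases h4 with h4 | h4
      · exact absurd h4 hx1
      · exact h4) (fun hc => h1 (hc (mem_zpowers x)))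
    exact this (mem_zpowers y)

end J

/-! ### The case division for `|A| ≥ 8` -/

section Main

variable (h : Setup 𝒜) (S : Sylow 2 G)

include h in
/-- The case `|A| ≥ 8`. -/
theorem tcon (h8 : 8 ≤ Nat.card (fam 𝒜 (S : Subgroup G)))
    (hOO : ∀ (H : Type u) [Group H] [Finite H], Odd (Nat.card H) → Group.IsSolvable H)
    (hSF : ∀ θ : G → Subgroup G, Cfsg.IsSignalizerFunctor 2 (fam 𝒜 (S : Subgroup G)) θ →
      (∀ a ∈ fam 𝒜 (S : Subgroup G), a ≠ 1 → Group.IsSolvable (θ a)) →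
      ¬ 2 ∣ Nat.card ↥(⨆ a : {a : G // a ∈ fam 𝒜 (S : Subgroup G) ∧ a ≠ 1}, θ a))
    (hcomplete : ClosedFunctor.Complete G) (hSE : SE1174 G)
    (hB : Balance 𝒜 (fam 𝒜 (S : Subgroup G)))
    (hCentre : (∃ (w : G) (L : Subgroup (Xw w)), IsPair 𝒜 (fam 𝒜 (S : Subgroup G)) w L) →
      Nat.card (fam 𝒜 (S : Subgroup G)) ≤ qmax 𝒜 (fam 𝒜 (S : Subgroup G)) ^ 2 →
      ∃ K : Subgroup G → Subgroup G, Glue 𝒜 (fam 𝒜 (S : Subgroup G)) (qmax 𝒜 (fam 𝒜 (S : Subgroup G)))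
        (cls 𝒜 (fam 𝒜 (S : Subgroup G))) K)
    (hJ : ∀ K : Subgroup G → Subgroup G, JData 𝒜 (fam 𝒜 (S : Subgroup G)) K → TCon G) : TCon G := by
  have hC := GoldConjPair.conjPair h S
  have h4 := fun (w : G) (L : Subgroup (Xw w)) (hp : IsPair 𝒜 (fam 𝒜 (S : Subgroup G)) w L) =>
    GoldIdx.four_le h S hp
  by_cases hne : ∃ (w : G) (L : Subgroup (Xw w)), IsPair 𝒜 (fam 𝒜 (S : Subgroup G)) w L
  · have hglue : ∃ K : Subgroup G → Subgroup G, Glue 𝒜 (fam 𝒜 (S : Subgroup G))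
        (qmax 𝒜 (fam 𝒜 (S : Subgroup G))) (cls 𝒜 (fam 𝒜 (S : Subgroup G))) K := by
      by_cases hbig : qmax 𝒜 (fam 𝒜 (S : Subgroup G)) ^ 2 < Nat.card (fam 𝒜 (S : Subgroup G))
      · exact ⟨_, glue_of_large h S hB hC h4 hne hbig⟩
      · exact hCentre hne (not_lt.1 hbig)
    obtain ⟨K, hg⟩ := hglue
    have hcls : (cls 𝒜 (fam 𝒜 (S : Subgroup G))).Nonempty := by
      obtain ⟨w, L, hp, hq⟩ := exists_eq_qmax hne
      exact ⟨_, w, L, hp, rfl, hq⟩
    rcases hg.canon.cases hcls (fun hodd => hOO _ hodd) with hW | hJ'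
    · exact (false_of_conW h S hg hW hcomplete hSE).elim
    · exact hJ K (jData hg hJ')
  · exfalso
    refine GoldNZero.false_of_not_act h S h8 ?_ ?_ hSF hSE
    · intro w hw hw1 L hL hact
      -- move `w` into `S`
      obtain ⟨n, hn⟩ := GoldLayer.exists_conj_mem h.fam S hw
      have hn1 : n * w * n⁻¹ ≠ 1 := by
        intro e
        rw [mul_inv_eq_one, mul_eq_left] at e
        exact hw1 e
      apply hne
      have hp : IsPair 𝒜 (⊤ : Subgroup G) w L := ⟨mem_top _, hw1, hL, hact⟩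
      have hp' := GoldConjPair.isPair_conj h.fam.toIsClosedFam.conj_mem hp (n := n) (by
        rw [mem_normalizer_iff]; intro x; exact ⟨fun _ => mem_top _, fun _ => mem_top _⟩)
      exact ⟨_, _, hn, hn1, hp'.comp, hp'.act⟩
    · intro X hX
      exact hOO X (by
        rw [← Nat.not_even_iff_odd, even_iff_two_dvd]; exact hX)

end Main

end Cfsg.Agent.TwoFusion.GoldGlue
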