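import Cfsg.Agent.TwoFusion.GoldCentre
import Cfsg.Agent.TwoFusion.GoldGlue

/-!
# Goldschmidt's theorem: the glue data in the small case `|A| ≤ q²`
-/

set_option autoImplicit false
set_option linter.style.haveILetI false

namespace Cfsg.Agent.TwoFusion.GoldCentreGlue

open Subgroup
open Cfsg.Agent.TwoFusion.ClosedFam Cfsg.Agent.TwoFusion.Gold Cfsg.Agent.TwoFusion.GoldPairDefs
open Cfsg.Agent.TwoFusion.GoldSetup Cfsg.Agent.TwoFusion.GoldPairs Cfsg.Agent.TwoFusion.GoldCentreCompl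
open Cfsg.Agent.TwoFusion.GoldCentre

universe u

variable {G : Type u} [Group G] [Finite G] {𝒜 : Set G}

/-- In the small case the classes form `Glue` data. -/
theorem glue_of_small (h : Setup 𝒜) (S : Sylow 2 G) (hB : Balance 𝒜 (fam 𝒜 (S : Subgroup G)))
    (hC : ConjPair 𝒜 (fam 𝒜 (S : Subgroup G)))
    (hne : ∃ (w : G) (L : Subgroup (Xw w)), IsPair 𝒜 (fam 𝒜 (S : Subgroup G)) w L)
    (hV : Nat.card (fam 𝒜 (S : Subgroup G)) ≤ qmax 𝒜 (fam 𝒜 (S : Subgroup G)) ^ 2) :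
    GoldGlue.Glue 𝒜 (fam 𝒜 (S : Subgroup G)) (qmax 𝒜 (fam 𝒜 (S : Subgroup G)))
      (cls 𝒜 (fam 𝒜 (S : Subgroup G))) (KK 𝒜 (fam 𝒜 (S : Subgroup G))) where
  canon := canon h S hB hC hne hV
  four := by
    obtain ⟨w, L, hp, hq⟩ := exists_eq_qmax hne
    rw [← hq]; exact GoldIdx.four_le h S hp
  comp := by
    intro D hD d hd hd1
    have hq : D.relIndex (fam 𝒜 (S : Subgroup G)) = qmax 𝒜 (fam 𝒜 (S : Subgroup G)) := by
      obtain ⟨w, L, -, rfl, hq⟩ := hD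
      exact hq
    obtain ⟨M, hM, hMD⟩ := exists_comp S hB hD hd hd1
    refine ⟨M, hM, hMD, ?_⟩
    rw [← hMD, KK_eq h S hB hM (by rw [hMD]; exact hq)]
    have hle : cm (fam 𝒜 (S : Subgroup G)) (JJ (fam 𝒜 (S : Subgroup G)) d M) ≤
        (M.comap (pw d)).map (Cw d).subtype := by
      rw [cm, closure_le]
      rintro _ ⟨j, hj, a, ha, rfl⟩
      obtain ⟨-, h2, h3⟩ := comm_mem h S hM hj ha
      exact ⟨⟨_, h2⟩, h3, rfl⟩
    intro a ha
    obtain ⟨y, hy, rfl⟩ := hle ha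
    exact ⟨y.2, hy⟩

end Cfsg.Agent.TwoFusion.GoldCentreGlue
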