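import Cfsg.Agent.TwoFusion.GoldLFourBad
import Cfsg.Agent.TwoFusion.GoldDefs

/-!
# Goldschmidt's theorem, `|A| = 4`: from `fam (push 𝒜 H) ⊤` in `H/O(H)` to `K/O(K)`, `K = fam 𝒜 H`

If the subgroup of `H/O(H)` generated by the image of the family is simple, with Sylow 2-subgroups of order four
which are not unique, then `K = fam 𝒜 H` satisfies `Simp A K`.
-/

set_option autoImplicit false
set_option linter.style.haveILetI false

namespace Cfsg.Agent.TwoFusion.GoldBadSimp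

open Subgroup
open Cfsg.Agent.TwoFusion.ClosedFam Cfsg.Agent.TwoFusion.Gold

variable {G : Type*} [Group G] [Finite G] {𝒜 : Set G}

/-- The map `K → H/O(H)`. -/
noncomputable def toPush {H K : Subgroup G} (hK : K ≤ H) : ↥K →* ↥H ⧸ Cfsg.oddCore ↥H :=
  (QuotientGroup.mk' (Cfsg.oddCore ↥H)).comp (Subgroup.inclusion hK)

omit [Finite G] in
theorem range_toPush {H : Subgroup G} :
    (toPush (fam_le 𝒜 H)).range = fam (push 𝒜 H) (⊤ : Subgroup (↥H ⧸ Cfsg.oddCore ↥H)) := by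
  have h1 : (fam {x : H | (x : G) ∈ 𝒜} ⊤).map H.subtype = fam 𝒜 H := map_fam_restrict_top 𝒜 H
  have h2 : (fam {x : H | (x : G) ∈ 𝒜} ⊤).map (QuotientGroup.mk' (Cfsg.oddCore ↥H)) =
      fam (push 𝒜 H) (⊤ : Subgroup (↥H ⧸ Cfsg.oddCore ↥H)) := map_fam_top _ _
  rw [← h2]
  ext x
  constructor
  · rintro ⟨k, rfl⟩
    have h3 : (k : G) ∈ (fam {x : H | (x : G) ∈ 𝒜} ⊤).map H.subtype := by rw [h1]; exact k.2
    obtain ⟨y, hy, hyk⟩ := h3
    refine ⟨y, hy, ?_⟩
    change _ = QuotientGroup.mk' (Cfsg.oddCore ↥H) (Subgroup.inclusion (fam_le 𝒜 H) k)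
    congr 1
    exact Subtype.ext hyk
  · rintro ⟨y, hy, rfl⟩
    have h3 : (y : G) ∈ fam 𝒜 H := by rw [← h1]; exact ⟨y, hy, rfl⟩
    exact ⟨⟨y, h3⟩, rfl⟩

theorem odd_ker {H K : Subgroup G} (hK : K ≤ H) : (Nat.card (toPush hK).ker).Coprime 2 := by
  have h1 : (Nat.card (Cfsg.oddCore ↥H)).Coprime 2 := Cfsg.Agent.Lib.Cores.pPrimeCore_coprime 2
  refine Nat.Coprime.coprime_dvd_left ?_ h1
  have h2 : (toPush hK).ker.map (Subgroup.inclusion hK) ≤ Cfsg.oddCore ↥H := by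
    rintro _ ⟨x, hx, rfl⟩
    have h3 : QuotientGroup.mk' (Cfsg.oddCore ↥H) (Subgroup.inclusion hK x) = 1 := hx
    rwa [← MonoidHom.mem_ker, QuotientGroup.ker_mk'] at h3
  have h3 : Nat.card ((toPush hK).ker.map (Subgroup.inclusion hK)) = Nat.card (toPush hK).ker :=
    (Nat.card_congr ((toPush hK).ker.equivMapOfInjective _ (Subgroup.inclusion_injective hK)).toEquiv).symm
  rw [← h3]
  exact card_dvd_of_le h2

variable (S : Sylow 2 G) (h4 : Nat.card (fam 𝒜 (S : Subgroup G)) = 4)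
  {H : Subgroup G} (hAH : fam 𝒜 (S : Subgroup G) ≤ H)
  (hsimple : IsSimpleGroup ↥(fam (push 𝒜 H) (⊤ : Subgroup (↥H ⧸ Cfsg.oddCore ↥H))))
  (hsyl : ∀ Q : Sylow 2 ↥(fam (push 𝒜 H) (⊤ : Subgroup (↥H ⧸ Cfsg.oddCore ↥H))), Nat.card Q = 4)

include hsimple hsyl in
/-- `O(K)` is the kernel of `K → H/O(H)`. -/
theorem ker_eq : (toPush (fam_le 𝒜 H)).ker = Cfsg.oddCore ↥(fam 𝒜 H) := by
  have h2 : Fact (Nat.Prime 2) := ⟨Nat.prime_two⟩
  set g := toPush (fam_le 𝒜 H) with hg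
  have hr : g.range = fam (push 𝒜 H) (⊤ : Subgroup (↥H ⧸ Cfsg.oddCore ↥H)) := range_toPush
  apply le_antisymm
  · exact Cfsg.Agent.Lib.Cores.le_pPrimeCore inferInstance (odd_ker (fam_le 𝒜 H))
  · have hn : (Cfsg.oddCore ↥(fam 𝒜 H)).Normal := Cfsg.Agent.Lib.Cores.pPrimeCore_normal 2
    have hn2 : ((Cfsg.oddCore ↥(fam 𝒜 H)).map g.rangeRestrict).Normal :=
      Cfsg.Agent.Lib.Cores.map_normal_of_surjective g.rangeRestrict_surjective hn
    have hs : IsSimpleGroup g.range := by rw [hr]; exact hsimple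
    have hsy : ∀ Q : Sylow 2 g.range, Nat.card Q = 4 := by rw [hr]; exact hsyl
    rcases IsSimpleGroup.eq_bot_or_eq_top_of_normal _ hn2 with hb | ht
    · intro x hx
      rw [MonoidHom.mem_ker]
      have h3 : g.rangeRestrict x ∈ (Cfsg.oddCore ↥(fam 𝒜 H)).map g.rangeRestrict := ⟨x, hx, rfl⟩
      rw [hb, mem_bot] at h3
      exact congrArg Subtype.val h3
    · exfalso
      have hc : (Nat.card (Cfsg.oddCore ↥(fam 𝒜 H))).Coprime 2 := Cfsg.Agent.Lib.Cores.pPrimeCore_coprime 2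
      have h3 : Nat.card g.range ∣ Nat.card (Cfsg.oddCore ↥(fam 𝒜 H)) := by
        have h5 := card_map_dvd (Cfsg.oddCore ↥(fam 𝒜 H)) g.rangeRestrict
        rwa [ht, card_top] at h5
      obtain ⟨Q⟩ : Nonempty (Sylow 2 g.range) := inferInstance
      have h5 : Nat.card (Q : Subgroup g.range) ∣ Nat.card g.range := card_subgroup_dvd_card _
      have h6 : Nat.card (Q : Subgroup g.range) = 4 := hsy Q
      rw [h6] at h5
      have h7 : 2 ∣ Nat.card (Cfsg.oddCore ↥(fam 𝒜 H)) := (Dvd.intro 2 (by norm_num : 2 * 2 = 4)).trans (h5.trans h3)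
      have h8 := Nat.eq_one_of_dvd_coprimes hc h7 (dvd_refl 2)
      omega

include hsimple hsyl h4 hAH in
/-- `K = fam 𝒜 H` satisfies `Simp A K`. -/
theorem simp_fam
    (hne : ∃ Q R : Sylow 2 ↥(fam (push 𝒜 H) (⊤ : Subgroup (↥H ⧸ Cfsg.oddCore ↥H))), Q ≠ R) :
    GoldLFourBad.Simp (fam 𝒜 (S : Subgroup G)) (fam 𝒜 H) := by
  have h2 : Fact (Nat.Prime 2) := ⟨Nat.prime_two⟩
  set g := toPush (fam_le 𝒜 H) with hg
  have hr : g.range = fam (push 𝒜 H) (⊤ : Subgroup (↥H ⧸ Cfsg.oddCore ↥H)) := range_toPush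
  have hk : g.ker = Cfsg.oddCore ↥(fam 𝒜 H) := ker_eq hsimple hsyl
  have hs : IsSimpleGroup g.range := by rw [hr]; exact hsimple
  have hsy : ∀ Q : Sylow 2 g.range, Nat.card Q = 4 := by rw [hr]; exact hsyl
  have hne' : ∃ Q R : Sylow 2 g.range, Q ≠ R := by rw [hr]; exact hne
  let e : (↥(fam 𝒜 H) ⧸ Cfsg.oddCore ↥(fam 𝒜 H)) ≃* g.range :=
    (QuotientGroup.quotientMulEquivOfEq hk.symm).trans (QuotientGroup.quotientKerEquivRange g)
  have hAK : fam 𝒜 (S : Subgroup G) ≤ fam 𝒜 H := by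
    rw [fam_le_iff]
    intro x hx hxS
    exact mem_fam hx (hAH (mem_fam hx hxS))
  refine ⟨hAK, e.isSimpleGroup_congr.2 hs, ?_, ?_⟩
  · by_contra hcon
    push Not at hcon
    have hcomm : ∀ x y : g.range, x * y = y * x := by
      intro x y
      have := hcon (e.symm x) (e.symm y)
      rw [← map_mul, ← map_mul] at this
      exact e.symm.injective this
    obtain ⟨Q, R, hQR⟩ := hne'
    apply hQR
    obtain ⟨k, hk⟩ := MulAction.exists_smul_eq g.range Q R
    rw [← hk]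
    symm
    rw [Sylow.smul_eq_iff_mem_normalizer]
    change k ∈ normalizer ((Q : Subgroup g.range) : Set g.range)
    rw [mem_normalizer_iff]
    intro x
    have : k * x * k⁻¹ = x := by rw [hcomm k x]; group
    rw [this]
  · have hcardK : (Nat.card ↥(fam 𝒜 H)).factorization 2 = 2 := by
      obtain ⟨Q⟩ : Nonempty (Sylow 2 g.range) := inferInstance
      have h6 := Q.card_eq_multiplicity
      rw [hsy Q] at h6
      have h7 : (Nat.card g.range).factorization 2 = 2 := by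
        have h8 : 2 ^ 2 = 2 ^ (Nat.card g.range).factorization 2 := by rw [← h6]; norm_num
        exact (Nat.pow_right_injective (le_refl 2) h8).symm
      have h8 : Nat.card ↥(fam 𝒜 H) = Nat.card g.range * Nat.card g.ker := by
        rw [← Nat.card_congr (QuotientGroup.quotientKerEquivRange g).toEquiv]
        exact card_eq_card_quotient_mul_card_subgroup g.ker
      have h9 : (Nat.card g.ker).factorization 2 = 0 := by
        apply Nat.factorization_eq_zero_of_not_dvd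
        intro hd
        have h10 := Nat.eq_one_of_dvd_coprimes (odd_ker (fam_le 𝒜 H)) hd (dvd_refl 2)
        omega
      rw [h8, Nat.factorization_mul Nat.card_pos.ne' Nat.card_pos.ne', Finsupp.add_apply, h7, h9]
    refine ⟨Sylow.ofCard ((fam 𝒜 (S : Subgroup G)).subgroupOf (fam 𝒜 H)) ?_, rfl⟩
    rw [hcardK, Nat.card_congr (subgroupOfEquivOfLe hAK).toEquiv, h4]
    norm_num

end Cfsg.Agent.TwoFusion.GoldBadSimp
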