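import Cfsg.Agent.TwoFusion.GoldBad
import Cfsg.Agent.TwoFusion.GoldActNoSE
import Cfsg.Agent.TwoFusion.GoldBadSimp

/-!
# Goldschmidt's theorem, `|A| = 4`: bad elements

* `ofNoSE`: the statement `GoldBad.OfNoSE`;
* `exists_bad`: every involution coset `tA` outside `A` contains a bad element;
* `simp_of_bad`: a bad element `e` gives `Simp A (fam 𝒜 (C(e)))`.
-/

set_option autoImplicit false
set_option linter.style.haveILetI false

namespace Cfsg.Agent.TwoFusion.GoldBadOf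

open Subgroup
open Cfsg.Agent.TwoFusion.ClosedFam Cfsg.Agent.TwoFusion.Gold Cfsg.Agent.TwoFusion.GoldSetup

universe u

theorem ofNoSE : GoldBad.OfNoSE.{u} := by
  intro X _ _ 𝒜 h T h4 L hL ha hse
  exact GoldActNoSE.of_no_se h T h4 hL ha hse

variable {G : Type u} [Group G] [Finite G] {𝒜 : Set G}

/-- Every involution coset `tA` outside `A` contains a bad element. -/
theorem exists_bad (h : Setup 𝒜) (S : Sylow 2 G) (h4 : Nat.card (fam 𝒜 (S : Subgroup G)) = 4)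
    (hsol : ∀ H : Subgroup G, Odd (Nat.card H) → Group.IsSolvable H) (h1174 : SE1174 G)
    (hSE : GoldLambda.SEHyp.{u}) {t : G} (ht : t ∈ (S : Subgroup G)) (htt : t * t = 1)
    (htA : t ∉ fam 𝒜 (S : Subgroup G)) : ∃ a ∈ fam 𝒜 (S : Subgroup G), GoldBad.Bad 𝒜 (t * a) :=
  GoldBad.exists_bad_of h S ofNoSE h4 hsol h1174 hSE ht htt htA

/-- A bad element `e` commuting with `A` gives `Simp A (fam 𝒜 (C(e)))`. -/
theorem simp_of_bad (S : Sylow 2 G) (h4 : Nat.card (fam 𝒜 (S : Subgroup G)) = 4) {e : G}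
    (heA : ∀ a ∈ fam 𝒜 (S : Subgroup G), a * e = e * a) (hb : GoldBad.Bad 𝒜 e) :
    GoldLFourBad.Simp (fam 𝒜 (S : Subgroup G)) (fam 𝒜 (centralizer ({e} : Set G))) := by
  obtain ⟨-, -, hs, hsyl, Q, R, hQR, -⟩ := hb
  refine GoldBadSimp.simp_fam S h4 ?_ hs hsyl ⟨Q, R, hQR⟩
  intro a ha
  rw [mem_centralizer_iff]
  intro y hy
  rw [Set.mem_singleton_iff.1 hy]
  exact (heA a ha).symm

end Cfsg.Agent.TwoFusion.GoldBadOf
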