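import Mathlib
import Cfsg.Prelude.Def_TwoFusion
import Cfsg.Agent.Transfer.TausskyTwoGroup
import Cfsg.Agent.Transfer.ThompsonTransfer

set_option autoImplicit false

namespace Cfsg.Agent.TwoFusion.GoldEight

open Subgroup
open scoped commutatorElement Pointwise

/-- In a group with all squares and commutators in `N`, any element outside `N` is avoided by a subgroup of
index two containing `N`. -/
theorem exists_index_two_of_notMem {P : Type*} [Group P] [Finite P] (N : Subgroup P)
    (hN : commutator P ≤ N) (hsq : ∀ x : P, x * x ∈ N) {v : P} (hv : v ∉ N) :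
    ∃ M : Subgroup P, N ≤ M ∧ M.index = 2 ∧ v ∉ M := by
  classical
  obtain ⟨M, hM⟩ := Set.Finite.exists_maximal
    (s := {M : Subgroup P | N ≤ M ∧ v ∉ M}) (Set.toFinite _) ⟨N, le_rfl, hv⟩
  obtain ⟨⟨hNM, hvM⟩, hmax⟩ := hM
  have hMn : M.Normal := by
    constructor
    intro m hm g
    have : g * m * g⁻¹ = ⁅g, m⁆ * m := by simp [commutatorElement_def]
    rw [this]
    exact M.mul_mem (hNM (hN (Subgroup.commutator_mem_commutator (mem_top g) (mem_top m)))) hm
  refine ⟨M, hNM, ?_, hvM⟩
  have key : ∀ y : P, y ∉ M → ∃ m ∈ M, v = m * y := by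
    intro y hy
    let K : Subgroup P :=
      { carrier := {x | x ∈ M ∨ ∃ m ∈ M, x = m * y}
        one_mem' := Or.inl M.one_mem
        mul_mem' := by
          rintro a b (ha | ⟨m, hm, rfl⟩) (hb | ⟨m', hm', rfl⟩)
          · exact Or.inl (M.mul_mem ha hb)
          · exact Or.inr ⟨a * m', M.mul_mem ha hm', by group⟩
          · refine Or.inr ⟨m * (y * b * y⁻¹), M.mul_mem hm (hMn.conj_mem b hb y), by group⟩
          · refine Or.inl ?_
            have : m * y * (m' * y) = m * (y * m' * y⁻¹) * (y * y) := by group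
            rw [this]
            exact M.mul_mem (M.mul_mem hm (hMn.conj_mem m' hm' y)) (hNM (hsq y))
        inv_mem' := by
          rintro a (ha | ⟨m, hm, rfl⟩)
          · exact Or.inl (M.inv_mem ha)
          · refine Or.inr ⟨(m * y)⁻¹ * y⁻¹, ?_, by group⟩
            have : (m * y)⁻¹ * y⁻¹ = y⁻¹ * m⁻¹ * y⁻¹⁻¹ * (y * y)⁻¹ := by group
            rw [this]
            exact M.mul_mem (hMn.conj_mem _ (M.inv_mem hm) y⁻¹) (M.inv_mem (hNM (hsq y))) }
    have hMK : M ≤ K := fun x hx => Or.inl hx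
    have hyK : y ∈ K := Or.inr ⟨1, M.one_mem, by simp⟩
    have hvK : v ∈ K := by
      by_contra hvK
      exact hy (hmax ⟨hNM.trans hMK, hvK⟩ hMK hyK)
    rcases hvK with h | ⟨m, hm, h⟩
    · exact absurd h hvM
    · exact ⟨m, hm, h⟩
  rw [Subgroup.index_eq_two_iff]
  refine ⟨v, fun b => ?_⟩
  by_cases hb : b ∈ M
  · refine Or.inr ⟨hb, fun h => hvM ?_⟩
    have := M.mul_mem (M.inv_mem hb) h
    simpa [← mul_assoc] using this
  · refine Or.inl ⟨?_, hb⟩
    obtain ⟨m, hm, rfl⟩ := key b hb
    have : b * (m * b) = (b * m * b⁻¹) * (b * b) := by group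
    rw [this]
    exact M.mul_mem (hMn.conj_mem m hm b) (hNM (hsq b))

/-- Sum-free subsets of an elementary abelian group of order eight are avoided by a subgroup of index two. -/
theorem sumfree_eight {Q : Type*} [Group Q] [Finite Q] (h8 : Nat.card Q = 8)
    (hsq : ∀ q : Q, q * q = 1) (X : Set Q) (h1 : (1 : Q) ∉ X) (hX : ∀ x ∈ X, ∀ y ∈ X, x * y ∉ X)
    (x₀ : Q) (hx₀ : x₀ ∈ X) :
    ∃ M : Subgroup Q, M.index = 2 ∧ ∀ x ∈ X, x ∉ M := by
  classical
  have hinv : ∀ q : Q, q⁻¹ = q := fun q => inv_eq_of_mul_eq_one_left (hsq q)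
  have hcomm : ∀ a b : Q, a * b = b * a := by
    intro a b
    have := hinv (a * b)
    rw [mul_inv_rev, hinv, hinv] at this
    exact this.symm
  have hx1 : x₀ ≠ 1 := fun h => h1 (h ▸ hx₀)
  obtain ⟨y, hy1, hyx, hyX⟩ : ∃ y : Q, y ≠ 1 ∧ y ≠ x₀ ∧ ((∃ w ∈ X, w ≠ x₀) → y ∈ X) := by
    by_cases h : ∃ w ∈ X, w ≠ x₀
    · obtain ⟨w, hw, hwx⟩ := h
      exact ⟨w, fun h => h1 (h ▸ hw), hwx, fun _ => hw⟩
    · by_contra hcon
      push Not at hcon
      have : ∀ y : Q, y ∈ ({1, x₀} : Finset Q) := by
        intro y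
        simp only [Finset.mem_insert, Finset.mem_singleton]
        by_contra hy
        push Not at hy
        obtain ⟨h', _⟩ := hcon y hy.1 hy.2
        exact h h'
      have hle : Nat.card Q ≤ 2 := by
        have : Fintype Q := Fintype.ofFinite Q
        rw [Nat.card_eq_fintype_card]
        calc Fintype.card Q ≤ ({1, x₀} : Finset Q).card := by
              rw [← Finset.card_univ]; exact Finset.card_le_card (fun z _ => ‹∀ y : Q, y ∈ ({1, x₀} : Finset Q)› z)
          _ ≤ 2 := Finset.card_le_two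
      omega
  obtain ⟨z, hz1, hzx, hzy, hzxy, hzX⟩ : ∃ z : Q, z ≠ 1 ∧ z ≠ x₀ ∧ z ≠ y ∧ z ≠ x₀ * y ∧
      ((∃ w ∈ X, w ≠ x₀ ∧ w ≠ y ∧ w ≠ x₀ * y) → z ∈ X) := by
    by_cases h : ∃ w ∈ X, w ≠ x₀ ∧ w ≠ y ∧ w ≠ x₀ * y
    · obtain ⟨w, hw, h2, h3, h4⟩ := h
      exact ⟨w, fun h => h1 (h ▸ hw), h2, h3, h4, fun _ => hw⟩
    · by_contra hcon
      push Not at hcon
      have h' : ∀ w : Q, w ∈ ({1, x₀, y, x₀ * y} : Finset Q) := by
        intro w
        simp only [Finset.mem_insert, Finset.mem_singleton]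
        by_contra hw
        push Not at hw
        obtain ⟨h', _⟩ := hcon w hw.1 hw.2.1 hw.2.2.1 hw.2.2.2
        exact h h'
      have hle : Nat.card Q ≤ 4 := by
        have : Fintype Q := Fintype.ofFinite Q
        rw [Nat.card_eq_fintype_card]
        calc Fintype.card Q ≤ ({1, x₀, y, x₀ * y} : Finset Q).card := by
              rw [← Finset.card_univ]; exact Finset.card_le_card (fun z _ => h' z)
          _ ≤ 4 := Finset.card_le_four
      omega
  let M : Subgroup Q :=
    { carrier := {q | q = 1 ∨ q = x₀ * y ∨ q = x₀ * z ∨ q = y * z}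
      one_mem' := Or.inl rfl
      mul_mem' := by
        have e1 : x₀ * y * (x₀ * z) = y * z := by
          rw [hcomm x₀ y, mul_assoc, ← mul_assoc x₀, hsq, one_mul]
        have e2 : x₀ * y * (y * z) = x₀ * z := by
          rw [mul_assoc, ← mul_assoc y, hsq, one_mul]
        have e3 : x₀ * z * (y * z) = x₀ * y := by
          rw [hcomm y z, mul_assoc, ← mul_assoc z, hsq, one_mul]
        rintro a b (rfl | rfl | rfl | rfl) (rfl | rfl | rfl | rfl) <;>
          simp only [Set.mem_ofPred_eq, one_mul, mul_one, hsq, true_or, or_true, e1, e2, e3,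
            hcomm (x₀ * z) (x₀ * y), hcomm (y * z) (x₀ * y), hcomm (y * z) (x₀ * z)]
      inv_mem' := by
        intro a ha
        rw [hinv]
        exact ha }
  have hcard : Nat.card M = 4 := by
    have : ((M : Subgroup Q) : Set Q) = (({1, x₀ * y, x₀ * z, y * z} : Finset Q) : Set Q) := by
      ext q; simp [M]
    have h2 : Nat.card M = Nat.card ((({1, x₀ * y, x₀ * z, y * z} : Finset Q) : Set Q)) := by
      exact Nat.card_congr (Equiv.setCongr this)
    rw [h2, Nat.card_coe_set_eq, Set.ncard_coe_finset]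
    have n1 : (1 : Q) ≠ x₀ * y := fun h => hyx (by
      have := congrArg (fun t => x₀ * t) h
      simp only [mul_one, ← mul_assoc, hsq, one_mul] at this
      exact this.symm)
    have n2 : (1 : Q) ≠ x₀ * z := fun h => hzx (by
      have := congrArg (fun t => x₀ * t) h
      simp only [mul_one, ← mul_assoc, hsq, one_mul] at this
      exact this.symm)
    have n3 : (1 : Q) ≠ y * z := fun h => hzy (by
      have := congrArg (fun t => y * t) h
      simp only [mul_one, ← mul_assoc, hsq, one_mul] at this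
      exact this.symm)
    have n4 : x₀ * y ≠ x₀ * z := fun h => hzy (mul_left_cancel h).symm
    have n5 : x₀ * y ≠ y * z := fun h => hzx (by
      rw [hcomm x₀ y] at h
      exact (mul_left_cancel h).symm)
    have n6 : x₀ * z ≠ y * z := fun h => hyx (mul_right_cancel h).symm
    rw [Finset.card_insert_of_notMem, Finset.card_insert_of_notMem, Finset.card_pair n6]
    · simp [n4, n5]
    · simp [n1, n2, n3]
  refine ⟨M, ?_, ?_⟩
  · have := M.card_mul_index
    rw [hcard, h8] at this
    omega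
  · intro x hx hxM
    have hyX' : ∀ w ∈ X, w ≠ x₀ → y ∈ X := fun w hw hwx => hyX ⟨w, hw, hwx⟩
    have hzX' : ∀ w ∈ X, w ≠ x₀ → w ≠ y → w ≠ x₀ * y → z ∈ X :=
      fun w hw h2 h3 h4 => hzX ⟨w, hw, h2, h3, h4⟩
    rcases hxM with rfl | rfl | rfl | rfl
    · exact h1 hx
    · have hy : y ∈ X := hyX' _ hx (fun h => hy1 (by
        have := mul_left_cancel (h.trans (mul_one x₀).symm); exact this))
      exact hX _ hx₀ _ hy hx
    · have hz : z ∈ X := hzX' _ hx (fun h => hz1 (mul_left_cancel (h.trans (mul_one x₀).symm)))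
        (fun h => hzxy (by
          have := congrArg (fun t => x₀ * t) h
          simp only [← mul_assoc, hsq, one_mul] at this
          exact this)) (fun h => hzy (mul_left_cancel h))
      exact hX _ hx₀ _ hz hx
    · have hne : y * z ≠ x₀ := fun h => hzxy (by
          have := congrArg (fun t => y * t) h
          simp only [← mul_assoc, hsq, one_mul] at this
          rw [this, hcomm])
      have hy : y ∈ X := hyX' _ hx hne
      have hz : z ∈ X := hzX' _ hx hne (fun h => hz1 (mul_left_cancel (h.trans (mul_one y).symm)))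
        (fun h => hzx (by
          rw [hcomm x₀ y] at h
          exact mul_left_cancel h))
      exact hX _ hy _ hz hx

section TwoGroup

variable {P : Type*} [Group P] [Finite P] {A : Subgroup P}

omit [Finite P] in
theorem card_centralizer (hAc : ∀ a ∈ A, ∀ x : P, a * x = x * a) (hA4 : Nat.card A = 4)
    (hb : ∀ u : P, u ∉ A → u * u = 1 → ∀ x : P, x * u = u * x → x ∈ A ∨ x * u ∈ A)
    {u : P} (hu : u ∉ A) (hu2 : u * u = 1) : Nat.card (centralizer ({u} : Set P)) = 8 := by
  have hmem : ∀ x : P, x ∈ centralizer ({u} : Set P) ↔ x * u = u * x := fun x => by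
    rw [mem_centralizer_singleton_iff]
  have hAle : A ≤ centralizer ({u} : Set P) := fun a ha => (hmem a).2 (hAc a ha u)
  have huC : u ∈ centralizer ({u} : Set P) := (hmem u).2 rfl
  have hrel : (A.subgroupOf (centralizer ({u} : Set P))).index = 2 := by
    rw [Subgroup.index_eq_two_iff]
    refine ⟨⟨u, huC⟩, fun b => ?_⟩
    rw [mem_subgroupOf, mem_subgroupOf]
    change Xor ((b : P) * u ∈ A) ((b : P) ∈ A)
    by_cases hbA : (b : P) ∈ A
    · exact Or.inr ⟨hbA, fun h => hu (by simpa using A.mul_mem (A.inv_mem hbA) h)⟩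
    · rcases hb u hu hu2 b ((hmem b).1 b.2) with h | h
      · exact absurd h hbA
      · exact Or.inl ⟨h, hbA⟩
  have h1 := (A.subgroupOf (centralizer ({u} : Set P))).card_mul_index
  rw [hrel, Nat.card_congr (Subgroup.subgroupOfEquivOfLe hAle).toEquiv, hA4] at h1
  omega

theorem conj_class (hc : ∀ u : P, u ∉ A → u * u = 1 → Nat.card (centralizer ({u} : Set P)) = 8)
    {u : P} (hu : u ∉ A) (hu2 : u * u = 1) :
    (commutator P).index ≤ 8 ∧
      ((commutator P).index = 8 → ∀ c ∈ commutator P, ∃ x : P, x * u * x⁻¹ = c * u) := by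
  classical
  let C := centralizer ({u} : Set P)
  have hmem : ∀ x : P, x ∈ C ↔ x * u = u * x := fun x => by
    rw [mem_centralizer_singleton_iff]
  let f : P ⧸ C → commutator P := Quotient.lift
    (fun x : P => (⟨⁅x, u⁆, Subgroup.commutator_mem_commutator (mem_top x) (mem_top u)⟩ :
      commutator P)) (by
      intro x y hxy
      have hxy' : x⁻¹ * y ∈ C := QuotientGroup.leftRel_apply.1 hxy
      rw [hmem] at hxy'
      apply Subtype.ext
      change ⁅x, u⁆ = ⁅y, u⁆
      have h1 : y * u = x * (x⁻¹ * y * u) := by group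
      rw [hxy'] at h1
      have h2 : y * u * y⁻¹ = x * u * x⁻¹ := by
        rw [h1]; group
      simp only [commutatorElement_def]
      rw [h2])
  have hf : ∀ x : P, ((f (QuotientGroup.mk x) : commutator P) : P) = x * u * x⁻¹ * u⁻¹ :=
    fun x => rfl
  have hinj : Function.Injective f := by
    intro a b hab
    induction a using QuotientGroup.induction_on with | _ x => ?_
    induction b using QuotientGroup.induction_on with | _ y => ?_
    have h := congrArg (Subtype.val) hab
    rw [hf, hf] at h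
    have h' : x * u * x⁻¹ = y * u * y⁻¹ := mul_right_cancel h
    rw [QuotientGroup.eq, hmem]
    calc x⁻¹ * y * u = x⁻¹ * (y * u * y⁻¹) * y := by group
      _ = x⁻¹ * (x * u * x⁻¹) * y := by rw [h']
      _ = u * (x⁻¹ * y) := by group
  have hcard : Nat.card (P ⧸ C) * 8 = Nat.card P := by
    have := C.index_mul_card
    rw [hc u hu hu2] at this
    exact this
  have hle : Nat.card (P ⧸ C) ≤ Nat.card (commutator P) := Nat.card_le_card_of_injective f hinj
  have hidx := (commutator P).card_mul_index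
  have hpos : 0 < Nat.card (commutator P) := Nat.card_pos
  refine ⟨?_, fun h8 c hc' => ?_⟩
  · by_contra hcon
    push Not at hcon
    nlinarith
  · have heq : Nat.card (P ⧸ C) = Nat.card (commutator P) := by
      rw [h8] at hidx
      omega
    have hsurj : Function.Surjective f :=
      ((Nat.bijective_iff_injective_and_card f).2 ⟨hinj, heq⟩).2
    obtain ⟨q, hq⟩ := hsurj ⟨c, hc'⟩
    induction q using QuotientGroup.induction_on with | _ x => ?_
    refine ⟨x, ?_⟩
    have h := congrArg (Subtype.val) hq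
    rw [hf] at h
    change x * u * x⁻¹ * u⁻¹ = c at h
    rw [← h]; group

/-- Core 2-group lemma. -/
theorem exists_index_two_avoiding (hP : IsPGroup 2 P) (D : Subgroup P)
    (hAc : ∀ a ∈ A, ∀ x : P, a * x = x * a) (hA4 : Nat.card A = 4)
    (hAe : ∀ a ∈ A, a * a = 1)
    (hb : ∀ u : P, u ∉ A → u * u = 1 → ∀ x : P, x * u = u * x → x ∈ A ∨ x * u ∈ A)
    (hD : Nat.card D = 32) (hD2 : ∀ x ∈ D, x * x ∈ A) (hAD : A ≤ commutator P)
    (u₀ : P) (hu₀ : u₀ ∉ A) (hu₀2 : u₀ * u₀ = 1) :
    ∃ M : Subgroup P, M.index = 2 ∧ ∀ u : P, u ∉ A → u * u = 1 → u ∉ M := by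
  classical
  have hc : ∀ u : P, u ∉ A → u * u = 1 → Nat.card (centralizer ({u} : Set P)) = 8 :=
    fun u hu hu2 => card_centralizer hAc hA4 hb hu hu2
  have hcl := conj_class hc hu₀ hu₀2
  obtain ⟨n, hn⟩ := IsPGroup.iff_card.1 hP
  have hPc : 32 ≤ Nat.card P := hD ▸ Subgroup.card_le_card_group D
  have hnotcomm : commutator P ≠ ⊥ := by
    intro h
    have h1 : ∀ x : P, x ∈ centralizer ({u₀} : Set P) := by
      intro x
      rw [mem_centralizer_singleton_iff]
      have : ⁅x, u₀⁆ ∈ commutator P := Subgroup.commutator_mem_commutator (mem_top x) (mem_top u₀)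
      rw [h, mem_bot] at this
      exact commutatorElement_eq_one_iff_mul_comm.1 this
    have h2 : centralizer ({u₀} : Set P) = ⊤ := (eq_top_iff' _).2 h1
    have h3 := hc u₀ hu₀ hu₀2
    rw [h2, Subgroup.card_top] at h3
    omega
  have hnil : Group.IsNilpotent P := hP.isNilpotent
  -- the index of the commutator subgroup
  have hdvd : (commutator P).index ∣ 2 ^ n := hn ▸ (commutator P).index_dvd_card
  obtain ⟨k, hk, hidx⟩ := (Nat.dvd_prime_pow Nat.prime_two).1 hdvd
  have hk3 : k ≤ 3 := by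
    by_contra hcon
    push Not at hcon
    have : 2 ^ 4 ≤ 2 ^ k := Nat.pow_le_pow_right (by norm_num) hcon
    have := hcl.1
    omega
  have h8 : (commutator P).index = 8 := by
    interval_cases k
    · exfalso
      have : Subsingleton (P ⧸ commutator P) := by
        rw [← Finite.card_le_one_iff_subsingleton]
        exact le_of_eq hidx
      exact hnotcomm (Cfsg.Agent.Transfer.TausskyTwoGroup.commutator_eq_bot_of_isCyclic_quotient
        inferInstance)
    · exfalso
      have : IsCyclic (P ⧸ commutator P) := isCyclic_of_prime_card (p := 2) hidx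
      exact hnotcomm (Cfsg.Agent.Transfer.TausskyTwoGroup.commutator_eq_bot_of_isCyclic_quotient
        inferInstance)
    · exfalso
      obtain ⟨C, hC, hC2⟩ := Cfsg.Agent.Transfer.TausskyTwoGroup.exists_isCyclic_index_two n hn
        (by simpa using hidx)
      -- the cyclic group `C ⊓ D` has order at least 16 and exponent at most 4
      have hne : C.index ≠ 0 := by omega
      have h1 : C.relIndex D ≤ 2 := by
        have := Subgroup.relIndex_le_of_le_right (H := C) (le_top : D ≤ ⊤)
          (by rw [Subgroup.relIndex_top_right]; exact hne)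
        rwa [Subgroup.relIndex_top_right, hC2] at this
      have h2 := (C.subgroupOf D).card_mul_index
      rw [hD] at h2
      have h3 : (C.subgroupOf D).index = C.relIndex D := rfl
      rw [h3] at h2
      have h4 : 16 ≤ Nat.card (C.subgroupOf D) := by
        have hpos : 0 < Nat.card (C.subgroupOf D) := Nat.card_pos
        by_contra hcon
        push Not at hcon
        nlinarith
      -- generator
      obtain ⟨g, hg⟩ := IsCyclic.exists_generator (α := C)
      have hexp : ∀ x : (C.subgroupOf D), x ^ 4 = 1 := by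
        intro x
        apply Subtype.ext
        apply Subtype.ext
        have h5 := hAe _ (hD2 _ x.1.2)
        change ((x : D) : P) ^ 4 = 1
        rw [← h5, pow_succ, pow_succ, pow_succ, pow_one]
        simp only [mul_assoc]
      have hcyc : IsCyclic (C.subgroupOf D) := by
        let φ : (C.subgroupOf D) →* C :=
          { toFun := fun x => ⟨((x : D) : P), x.2⟩
            map_one' := rfl
            map_mul' := fun _ _ => rfl }
        refine isCyclic_of_injective φ ?_
        intro a b hab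
        apply Subtype.ext
        apply Subtype.ext
        have h7 : ((φ a : C) : P) = ((φ b : C) : P) := congrArg (Subtype.val) hab
        exact h7
      have h6 : Nat.card (C.subgroupOf D) ∣ 4 := by
        rw [← IsCyclic.exponent_eq_card]
        exact Monoid.exponent_dvd_of_forall_pow_eq_one hexp
      have := Nat.le_of_dvd (by norm_num) h6
      omega
    · simpa using hidx
  -- every involution outside `A` is conjugate to every element of its coset of the commutator subgroup
  have hcoset : ∀ u : P, u ∉ A → u * u = 1 → ∀ c ∈ commutator P, ∃ x : P, x * u * x⁻¹ = c * u :=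
    fun u hu hu2 => (conj_class hc hu hu2).2 h8
  have hu1 : ∀ u : P, u ∉ A → u ≠ 1 := fun u hu h => hu (h ▸ A.one_mem)
  have hX1 : ∀ u : P, u ∉ A → u * u = 1 → u ∉ commutator P := by
    intro u hu hu2 hmem
    obtain ⟨x, hx⟩ := hcoset u hu hu2 u⁻¹ ((commutator P).inv_mem hmem)
    rw [inv_mul_cancel] at hx
    exact hu1 u hu (by simpa using hx)
  -- `u` is not a square modulo the commutator subgroup
  have hX2 : ∀ u : P, u ∉ A → u * u = 1 → ∀ y : P, y * y * u⁻¹ ∉ commutator P := by
    intro u hu hu2 y hmem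
    obtain ⟨x, hx⟩ := hcoset u hu hu2 _ hmem
    rw [inv_mul_cancel_right] at hx
    -- `x⁻¹ y x` commutes with `u`
    have h1 : (x⁻¹ * y * x) * (x⁻¹ * y * x) = u := by
      calc (x⁻¹ * y * x) * (x⁻¹ * y * x) = x⁻¹ * (y * y) * x := by group
        _ = x⁻¹ * (x * u * x⁻¹) * x := by rw [hx]
        _ = u := by group
    have h2 : (x⁻¹ * y * x) * u = u * (x⁻¹ * y * x) := by
      rw [← h1]; group
    rcases hb u hu hu2 _ h2 with h | h
    · exact hu1 u hu (h1 ▸ hAe _ h)
    · have h3 := hAe _ h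
      have h4 : x⁻¹ * y * x * u * (x⁻¹ * y * x * u) = (x⁻¹ * y * x) * (x⁻¹ * y * x) * (u * u) := by
        rw [mul_assoc (x⁻¹ * y * x) u, ← mul_assoc u, ← h2]
        group
      rw [h4, h1, hu2, mul_one] at h3
      exact hu1 u hu h3
  have hX3 : ∀ u : P, u ∉ A → u * u = 1 → ∀ v : P, v ∉ A → v * v = 1 →
      ∀ w : P, w ∉ A → w * w = 1 → u * v * w⁻¹ ∉ commutator P := by
    intro u hu hu2 v hv hv2 w hw hw2 hmem
    obtain ⟨x, hx⟩ := hcoset w hw hw2 _ hmem
    rw [inv_mul_cancel_right] at hx
    have h1 : (u * v) * (u * v) = 1 := by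
      rw [← hx]
      calc x * w * x⁻¹ * (x * w * x⁻¹) = x * (w * w) * x⁻¹ := by group
        _ = 1 := by rw [hw2]; group
    have h2 : v * u = u * v := by
      have hu' : u⁻¹ = u := inv_eq_of_mul_eq_one_left hu2
      have hv' : v⁻¹ = v := inv_eq_of_mul_eq_one_left hv2
      have h3 : (u * v)⁻¹ = u * v := inv_eq_of_mul_eq_one_left h1
      rw [mul_inv_rev, hu', hv'] at h3
      exact h3
    rcases hb u hu hu2 v h2 with h | h
    · exact hv h
    · rw [h2] at h
      -- `u v ∈ A ≤ commutator`, hence `w` lies in the commutator subgroup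
      refine hX1 w hw hw2 ?_
      have h4 : w = (u * v * w⁻¹)⁻¹ * (u * v) := by group
      rw [h4]
      exact (commutator P).mul_mem ((commutator P).inv_mem hmem) (hAD h)
  let Q := P ⧸ commutator P
  have hQ8 : Nat.card Q = 8 := h8
  have hQcomm : ∀ a b : Q, a * b = b * a := by
    intro a b
    induction a using QuotientGroup.induction_on with | _ x => ?_
    induction b using QuotientGroup.induction_on with | _ y => ?_
    rw [← QuotientGroup.mk_mul, ← QuotientGroup.mk_mul, QuotientGroup.eq]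
    have : (x * y)⁻¹ * (y * x) = ⁅y⁻¹, x⁻¹⁆ := by
      simp only [commutatorElement_def]; group
    rw [this]
    exact Subgroup.commutator_mem_commutator (mem_top _) (mem_top _)
  by_cases hel : ∀ x : P, x * x ∈ commutator P
  · -- elementary abelian quotient of order 8
    have hsq : ∀ q : Q, q * q = 1 := by
      intro q
      induction q using QuotientGroup.induction_on with | _ x => ?_
      rw [← QuotientGroup.mk_mul, QuotientGroup.eq_one_iff]
      exact hel x
    obtain ⟨M, hM2, hM⟩ := sumfree_eight hQ8 hsq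
      {q : Q | ∃ u : P, u ∉ A ∧ u * u = 1 ∧ (QuotientGroup.mk u : Q) = q}
      (by
        rintro ⟨u, hu, hu2, h⟩
        exact hX1 u hu hu2 ((QuotientGroup.eq_one_iff u).1 h))
      (by
        rintro _ ⟨u, hu, hu2, rfl⟩ _ ⟨v, hv, hv2, rfl⟩ ⟨w, hw, hw2, h⟩
        apply hX3 u hu hu2 v hv hv2 w hw hw2
        rw [← QuotientGroup.mk_mul] at h
        have h' : ((u * v * w⁻¹ : P) : Q) = 1 := by
          rw [QuotientGroup.mk_mul, QuotientGroup.mk_inv, ← h, mul_inv_cancel]
        exact (QuotientGroup.eq_one_iff _).1 h')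
      (QuotientGroup.mk u₀) ⟨u₀, hu₀, hu₀2, rfl⟩
    refine ⟨M.comap (QuotientGroup.mk' _), ?_, ?_⟩
    · rw [Subgroup.index_comap_of_surjective _ (QuotientGroup.mk'_surjective _)]
      exact hM2
    · intro u hu hu2 hmem
      exact hM _ ⟨u, hu, hu2, rfl⟩ hmem
  · -- squaring is a nontrivial homomorphism
    push Not at hel
    obtain ⟨x₁, hx₁⟩ := hel
    let sq : Q →* Q :=
      { toFun := fun q => q * q
        map_one' := one_mul 1
        map_mul' := fun a b => by
          rw [mul_assoc, ← mul_assoc b, hQcomm b a]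
          simp only [mul_assoc] }
    have hsq : ∀ q : Q, sq q = q * q := fun _ => rfl
    have hpg : IsPGroup 2 sq.range := (hP.to_quotient (commutator P)).to_subgroup _
    have hr1 : Nat.card sq.range ≠ 1 := by
      intro h
      have h2 : sq.range = ⊥ := Subgroup.eq_bot_of_card_eq _ h
      have h3 : sq (QuotientGroup.mk x₁) ∈ sq.range := ⟨_, rfl⟩
      rw [h2, mem_bot, hsq, ← QuotientGroup.mk_mul, QuotientGroup.eq_one_iff] at h3
      exact hx₁ h3
    obtain ⟨j, hj⟩ := IsPGroup.iff_card.1 hpg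
    have hj0 : j ≠ 0 := by
      rintro rfl
      exact hr1 (by simpa using hj)
    have h2r : 2 ∣ Nat.card sq.range := hj ▸ dvd_pow_self 2 hj0
    obtain ⟨r, hr⟩ := exists_prime_orderOf_dvd_card' (G := sq.range) 2 h2r
    have hrr : (r : Q) * r = 1 := by
      have := pow_orderOf_eq_one r
      rw [hr, pow_two] at this
      exact congrArg (Subtype.val) this
    have hrne : (r : Q) ≠ 1 := by
      intro h
      have : r = 1 := Subtype.ext h
      rw [this, orderOf_one] at hr
      omega
    have hker : Nat.card sq.ker ≤ 4 := by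
      have h1 := sq.ker.card_mul_index
      rw [Subgroup.index_ker, hQ8] at h1
      have h2 : 2 ≤ Nat.card sq.range := Nat.le_of_dvd Nat.card_pos h2r
      by_contra hcon
      push Not at hcon
      nlinarith
    obtain ⟨M, hNM, hM2, hM⟩ := exists_index_two_of_notMem (P := P)
      (sq.range.comap (QuotientGroup.mk' (commutator P))) (v := u₀)
      (by
        intro c hc'
        have : (QuotientGroup.mk' (commutator P)) c = 1 := (QuotientGroup.eq_one_iff c).2 hc'
        rw [mem_comap, this]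
        exact one_mem _)
      (fun x => ⟨QuotientGroup.mk x, rfl⟩)
      (by
        rintro ⟨q, hq⟩
        induction q using QuotientGroup.induction_on with | _ y => ?_
        rw [hsq, ← QuotientGroup.mk_mul] at hq
        have h' : ((y * y * u₀⁻¹ : P) : Q) = 1 := by
          rw [QuotientGroup.mk_mul, hq, QuotientGroup.mk_inv]
          exact mul_inv_cancel _
        exact hX2 u₀ hu₀ hu₀2 y ((QuotientGroup.eq_one_iff _).1 h'))
    refine ⟨M, hM2, fun u hu hu2 huM => ?_⟩
    have hnr : ∀ v : P, v ∉ A → v * v = 1 → (QuotientGroup.mk v : Q) ∉ sq.range := by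
      rintro v hv hv2 ⟨q, hq⟩
      induction q using QuotientGroup.induction_on with | _ y => ?_
      rw [hsq, ← QuotientGroup.mk_mul] at hq
      have h' : ((y * y * v⁻¹ : P) : Q) = 1 := by
        rw [QuotientGroup.mk_mul, hq, QuotientGroup.mk_inv]
        exact mul_inv_cancel _
      exact hX2 v hv hv2 y ((QuotientGroup.eq_one_iff _).1 h')
    have hkm : ∀ v : P, v * v = 1 → (QuotientGroup.mk v : Q) ∈ sq.ker := by
      intro v hv2
      rw [MonoidHom.mem_ker, hsq, ← QuotientGroup.mk_mul, hv2, QuotientGroup.mk_one]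
    set a : Q := QuotientGroup.mk u₀ with ha
    set b : Q := QuotientGroup.mk u with hb'
    have hrk : (r : Q) ∈ sq.ker := by rw [MonoidHom.mem_ker, hsq, hrr]
    have hak : a ∈ sq.ker := hkm u₀ hu₀2
    have hbk : b ∈ sq.ker := hkm u hu2
    have har : a ∉ sq.range := hnr u₀ hu₀ hu₀2
    have hbr : b ∉ sq.range := hnr u hu hu2
    -- `b ≠ a` and `b ≠ a r` because `u ∈ M`, `u₀ ∉ M`
    have hsep : ∀ s ∈ sq.range, b ≠ a * s := by
      intro s hs h
      apply hM
      have h1 : (QuotientGroup.mk (u⁻¹ * u₀) : Q) ∈ sq.range := by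
        rw [QuotientGroup.mk_mul, QuotientGroup.mk_inv, ← ha, ← hb', h, mul_inv_rev, mul_assoc,
          inv_mul_cancel, mul_one]
        exact sq.range.inv_mem hs
      have h2 : u⁻¹ * u₀ ∈ M := hNM h1
      have h3 : u₀ = u * (u⁻¹ * u₀) := by group
      rw [h3]
      exact M.mul_mem huM h2
    have hb_ne_a : b ≠ a := fun h => hsep 1 (one_mem _) (by rw [mul_one]; exact h)
    have hb_ne_ar : b ≠ a * r := hsep r r.2
    have h5 : (5 : ℕ) ≤ Nat.card sq.ker := by
      have hsub : (({1, (r : Q), a, a * r, b} : Finset Q) : Set Q) ⊆ (sq.ker : Set Q) := by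
        intro x hx
        simp only [Finset.coe_insert, Finset.coe_singleton, Set.mem_insert_iff,
          Set.mem_singleton_iff] at hx
        rcases hx with rfl | rfl | rfl | rfl | rfl
        · exact one_mem _
        · exact hrk
        · exact hak
        · exact mul_mem hak hrk
        · exact hbk
      have hc5 : ({1, (r : Q), a, a * r, b} : Finset Q).card = 5 := by
        have n1 : (1 : Q) ≠ r := fun h => hrne h.symm
        have n2 : (1 : Q) ≠ a := fun h => har (h ▸ one_mem _)
        have n3 : (1 : Q) ≠ a * r := fun h => har (by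
          have h' : a = (r : Q)⁻¹ := eq_inv_of_mul_eq_one_left h.symm
          rw [h']; exact sq.range.inv_mem r.2)
        have n4 : (1 : Q) ≠ b := fun h => hbr (h ▸ one_mem _)
        have n5 : (r : Q) ≠ a := fun h => har (h ▸ r.2)
        have n6 : (r : Q) ≠ a * r := fun h => n2 (by
          have : (1 : Q) * r = a * r := by rw [one_mul]; exact h
          exact mul_right_cancel this)
        have n7 : (r : Q) ≠ b := fun h => hbr (h ▸ r.2)
        have n8 : a ≠ a * r := fun h => n1 (by
          have : a * 1 = a * r := by rw [mul_one]; exact h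
          exact mul_left_cancel this)
        rw [Finset.card_insert_of_notMem, Finset.card_insert_of_notMem,
          Finset.card_insert_of_notMem, Finset.card_pair (Ne.symm hb_ne_ar)]
        · simp [n8, Ne.symm hb_ne_a]
        · simp [n5, n6, n7]
        · simp [n1, n2, n3, n4]
      rw [← hc5, ← Set.ncard_coe_finset]
      exact Set.ncard_le_ncard hsub (Set.toFinite _)
    omega

end TwoGroup

section Main

variable {G : Type*} [Group G] [Finite G]

/-- The hypotheses on `(S, A)` used below. -/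
structure Data (S : Sylow 2 G) (A : Subgroup G) : Prop where
  sc : Cfsg.IsStronglyClosed A (S : Subgroup G)
  card : Nat.card A = 4
  sq : ∀ a ∈ A, a * a = 1
  comm : ∀ a ∈ A, ∀ s ∈ S, a * s = s * a
  cent : ∀ u ∈ S, u ∉ A → u * u = 1 → ∀ x ∈ S, x * u = u * x → x ∈ A ∨ x * u ∈ A

theorem Data.transfer {S : Sylow 2 G} {A : Subgroup G} (hd : Data S A) (S' : Sylow 2 G)
    (hAS : A ≤ (S' : Subgroup G)) : Data S' A := by
  obtain ⟨g, rfl⟩ := MulAction.exists_smul_eq G S S'
  have hmem : ∀ x : G, x ∈ g • S ↔ g⁻¹ * x * g ∈ S := by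
    intro x
    change x ∈ (MulAut.conj g • (S : Subgroup G)) ↔ g⁻¹ * x * g ∈ (S : Subgroup G)
    rw [Subgroup.mem_pointwise_smul_iff_inv_smul_mem]
    simp [MulAut.smul_def, ← map_inv, MulAut.conj_apply]
  have hA1 : ∀ a ∈ A, g⁻¹ * a * g ∈ A := by
    intro a ha
    have h1 := (hmem a).1 (hAS ha)
    have h2 := hd.sc.2 a ha g⁻¹ (by rw [inv_inv]; exact h1)
    rwa [inv_inv] at h2
  have hA2 : ∀ a, g⁻¹ * a * g ∈ A → a ∈ A := by
    intro a ha
    -- conjugation by `g⁻¹` is an injective self map of the finite group `A`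
    let f : A → A := fun a => ⟨g⁻¹ * a * g, hA1 a a.2⟩
    have hinj : Function.Injective f := by
      intro x y hxy
      have h := congrArg (Subtype.val) hxy
      change g⁻¹ * (x : G) * g = g⁻¹ * (y : G) * g at h
      exact Subtype.ext (mul_left_cancel (mul_right_cancel h))
    obtain ⟨b, hb⟩ := (Finite.injective_iff_surjective.1 hinj) ⟨_, ha⟩
    have h := congrArg (Subtype.val) hb
    change g⁻¹ * (b : G) * g = g⁻¹ * a * g at h
    rw [← mul_left_cancel (mul_right_cancel h)]
    exact b.2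
  refine ⟨⟨hAS, fun x hx k hk => ?_⟩, hd.card, hd.sq, fun a ha s hs => ?_, ?_⟩
  · apply hA2
    have h1 := (hmem _).1 hk
    have h2 := hd.sc.2 x hx (g⁻¹ * k) (by
      have : g⁻¹ * k * x * (g⁻¹ * k)⁻¹ = g⁻¹ * (k * x * k⁻¹) * g := by group
      rw [this]; exact h1)
    have : g⁻¹ * k * x * (g⁻¹ * k)⁻¹ = g⁻¹ * (k * x * k⁻¹) * g := by group
    rwa [this] at h2
  · have h1 := hd.comm _ (hA1 a ha) _ ((hmem s).1 hs)
    have h2 : g⁻¹ * (a * s) * g = g⁻¹ * (s * a) * g := by
      calc g⁻¹ * (a * s) * g = (g⁻¹ * a * g) * (g⁻¹ * s * g) := by group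
        _ = (g⁻¹ * s * g) * (g⁻¹ * a * g) := h1
        _ = g⁻¹ * (s * a) * g := by group
    exact mul_left_cancel (mul_right_cancel h2)
  · intro u hu huA hu2 x hx hxu
    have h1 := hd.cent _ ((hmem u).1 hu) (fun h => huA (hA2 _ h)) (by
      calc g⁻¹ * u * g * (g⁻¹ * u * g) = g⁻¹ * (u * u) * g := by group
        _ = 1 := by rw [hu2]; group) _ ((hmem x).1 hx) (by
      calc g⁻¹ * x * g * (g⁻¹ * u * g) = g⁻¹ * (x * u) * g := by group
        _ = g⁻¹ * (u * x) * g := by rw [hxu]
        _ = g⁻¹ * u * g * (g⁻¹ * x * g) := by group)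
    rcases h1 with h1 | h1
    · exact Or.inl (hA2 _ h1)
    · refine Or.inr (hA2 _ ?_)
      have : g⁻¹ * (x * u) * g = g⁻¹ * x * g * (g⁻¹ * u * g) := by group
      rw [this]; exact h1

/-- **Rank two case, all involution centralizers of order eight.**  If `A` is a strongly closed central four-group
of the Sylow 2-subgroup `S`, `C_S(u) = A × ⟨u⟩` for all involutions `u ∈ S - A`, and some such involution `t`
commutes with an element `h` normalizing `A` and acting fixed-point-freely on it, then `G` has a subgroup of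
index two or `S` is abelian. -/
theorem main (hidx : ∀ K : Subgroup G, K.index ≠ 2) (S : Sylow 2 G) (A : Subgroup G)
    (hd : Data S A) (hS : ∃ x ∈ S, ∃ y ∈ S, x * y ≠ y * x)
    (t : G) (ht : t ∈ S) (htA : t ∉ A) (ht2 : t * t = 1)
    (h : G) (hhA : ∀ a ∈ A, h * a * h⁻¹ ∈ A) (hht : h * t = t * h)
    (hfix : ∀ a ∈ A, h * a * h⁻¹ = a → a = 1) : False := by
  classical
  obtain ⟨hAS, hscl⟩ := hd.sc
  have hAcomm : ∀ a ∈ A, ∀ b ∈ A, a * b = b * a := fun a ha b hb => hd.comm a ha b (hAS hb)
  -- no conjugate of `t` lies in `A`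
  have htconj : ∀ g : G, g * t * g⁻¹ ∉ A := by
    intro g hg
    have e : g⁻¹ * (g * t * g⁻¹) * g⁻¹⁻¹ = t := by group
    exact htA (e ▸ hscl _ hg g⁻¹ (by rw [e]; exact ht))
  have hta : ∀ a ∈ A, a * t = t * a := fun a ha => hd.comm a ha t ht
  have htinv : t⁻¹ = t := inv_eq_of_mul_eq_one_left ht2
  let E : Subgroup G :=
    { carrier := {x | x ∈ A ∨ ∃ a ∈ A, x = a * t}
      one_mem' := Or.inl A.one_mem
      mul_mem' := by
        rintro x y (hx | ⟨a, ha, rfl⟩) (hy | ⟨b, hb, rfl⟩)
        · exact Or.inl (A.mul_mem hx hy)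
        · exact Or.inr ⟨x * b, A.mul_mem hx hb, by group⟩
        · exact Or.inr ⟨a * y, A.mul_mem ha hy, by rw [mul_assoc, ← hta y hy, ← mul_assoc]⟩
        · refine Or.inl ?_
          have : a * t * (b * t) = a * b := by
            rw [mul_assoc, ← mul_assoc t, ← hta b hb, mul_assoc b, ht2, mul_one]
          rw [this]
          exact A.mul_mem ha hb
      inv_mem' := by
        rintro x (hx | ⟨a, ha, rfl⟩)
        · exact Or.inl (A.inv_mem hx)
        · exact Or.inr ⟨a⁻¹, A.inv_mem ha, by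
            rw [mul_inv_rev, htinv, hta _ (A.inv_mem ha)]⟩ }
  have hAE : A ≤ E := fun x hx => Or.inl hx
  have htE : t ∈ E := Or.inr ⟨1, A.one_mem, (one_mul t).symm⟩
  have hES : E ≤ (S : Subgroup G) := by
    rintro x (hx | ⟨a, ha, rfl⟩)
    · exact hAS hx
    · exact mul_mem (hAS ha) ht
  have hE8 : Nat.card E = 8 := by
    have h2 : (A.subgroupOf E).index = 2 := by
      rw [Subgroup.index_eq_two_iff]
      refine ⟨⟨t, htE⟩, fun b => ?_⟩
      rw [mem_subgroupOf, mem_subgroupOf]
      change Xor ((b : G) * t ∈ A) ((b : G) ∈ A)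
      rcases b.2 with hb | ⟨a, ha, hb⟩
      · exact Or.inr ⟨hb, fun h => htA (by simpa using A.mul_mem (A.inv_mem hb) h)⟩
      · refine Or.inl ⟨?_, ?_⟩
        · rw [hb, mul_assoc, ht2, mul_one]; exact ha
        · rw [hb]; exact fun h => htA (by simpa using A.mul_mem (A.inv_mem ha) h)
    have h1 := (A.subgroupOf E).card_mul_index
    rw [h2, Nat.card_congr (Subgroup.subgroupOfEquivOfLe hAE).toEquiv, hd.card] at h1
    omega
  have hEt : ∀ x ∈ E, x * t = t * x := by
    rintro x (hx | ⟨a, ha, rfl⟩)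
    · exact hta x hx
    · rw [mul_assoc, ← mul_assoc t, ← hta a ha, mul_assoc]
  let N : Subgroup G := normalizer (E : Set G)
  have hN : ∀ x ∈ N, ∀ y ∈ E, x * y * x⁻¹ ∈ E := fun x hx y hy =>
    (Subgroup.mem_normalizer_iff.1 hx y).1 hy
  have hNA : ∀ x ∈ N, ∀ a ∈ A, x * a * x⁻¹ ∈ A := fun x hx a ha =>
    hscl a ha x (hES (hN x hx a (hAE ha)))
  have hNt : ∀ x ∈ N, x * t * x⁻¹ * t⁻¹ ∈ A := by
    intro x hx
    rcases hN x hx t htE with hx1 | ⟨a, ha, h1⟩
    · exact absurd hx1 (htconj x)
    · rw [h1, mul_inv_cancel_right]; exact ha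
  have hEN : E ≤ N := Subgroup.le_normalizer
  have hhN : h ∈ N := by
    have hfin : ∀ x ∈ E, h * x * h⁻¹ ∈ E := by
      rintro x (hx | ⟨a, ha, rfl⟩)
      · exact Or.inl (hhA x hx)
      · refine Or.inr ⟨h * a * h⁻¹, hhA a ha, ?_⟩
        calc h * (a * t) * h⁻¹ = h * a * (t * h⁻¹) := by group
          _ = h * a * (h⁻¹ * t) := by
              congr 1
              calc t * h⁻¹ = h⁻¹ * (h * t) * h⁻¹ := by group
                _ = h⁻¹ * (t * h) * h⁻¹ := by rw [hht]
                _ = h⁻¹ * t := by group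
          _ = h * a * h⁻¹ * t := by group
    rw [Subgroup.mem_normalizer_iff]
    intro x
    refine ⟨hfin x, fun hx => ?_⟩
    let f : E → E := fun y => ⟨h * y * h⁻¹, hfin y y.2⟩
    have hinj : Function.Injective f := by
      intro x y hxy
      have h' := congrArg (Subtype.val) hxy
      change h * (x : G) * h⁻¹ = h * (y : G) * h⁻¹ at h'
      exact Subtype.ext (mul_left_cancel (mul_right_cancel h'))
    obtain ⟨b, hb⟩ := (Finite.injective_iff_surjective.1 hinj) ⟨_, hx⟩
    have h' := congrArg (Subtype.val) hb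
    change h * (b : G) * h⁻¹ = h * x * h⁻¹ at h'
    rw [← mul_left_cancel (mul_right_cancel h')]
    exact b.2
  -- the conjugates of `t` under `N`
  obtain ⟨x₀, hx₀N, hx₀S, hx₀E⟩ : ∃ x : G, x ∈ N ∧ x ∈ S ∧ x ∉ E := by
    have hlt : E.subgroupOf (S : Subgroup G) < ⊤ := by
      rw [lt_top_iff_ne_top]
      intro htop
      obtain ⟨x, hx, y, hy, hxy⟩ := hS
      have hSE : (S : Subgroup G) ≤ E := Subgroup.subgroupOf_eq_top.1 htop
      apply hxy
      have hcE : ∀ x ∈ E, ∀ y ∈ E, x * y = y * x := by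
        rintro x (hx | ⟨a, ha, rfl⟩) y hy
        · exact hd.comm x hx y (hES hy)
        · rw [mul_assoc, ← hEt y hy, ← mul_assoc, hd.comm a ha y (hES hy), mul_assoc]
      exact hcE x (hSE hx) y (hSE hy)
    have hnilS : Group.IsNilpotent (S : Subgroup G) := S.isPGroup'.isNilpotent
    have hnc := Group.normalizerCondition_of_isNilpotent (G := (S : Subgroup G)) _ hlt
    obtain ⟨x, hx, hxE⟩ := SetLike.exists_of_lt hnc
    refine ⟨x, ?_, x.2, fun h => hxE (mem_subgroupOf.2 h)⟩
    rw [Subgroup.mem_normalizer_iff] at hx ⊢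
    intro y
    constructor
    · intro hy
      exact mem_subgroupOf.1 ((hx ⟨y, hES hy⟩).1 (mem_subgroupOf.2 hy))
    · intro hy
      have hyS : y ∈ (S : Subgroup G) := by
        have := mul_mem (mul_mem (inv_mem x.2) (hES hy)) x.2
        have e : (x : G)⁻¹ * ((x : G) * y * (x : G)⁻¹) * x = y := by group
        rwa [e] at this
      exact mem_subgroupOf.1 ((hx ⟨y, hyS⟩).2 (mem_subgroupOf.2 hy))
  let φ : G → G := fun x => x * t * x⁻¹ * t⁻¹
  have hφh : ∀ x ∈ N, φ (h * x) = h * φ x * h⁻¹ := by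
    intro x _
    have e : t⁻¹ * h⁻¹ = h⁻¹ * t⁻¹ := by rw [← mul_inv_rev, ← mul_inv_rev, hht]
    change h * x * t * (h * x)⁻¹ * t⁻¹ = h * (x * t * x⁻¹ * t⁻¹) * h⁻¹
    rw [mul_assoc h, mul_assoc h, mul_assoc h, mul_assoc h (x * t * x⁻¹ * t⁻¹), mul_assoc (x * t * x⁻¹), e]
    group
  have hφ1 : φ 1 = 1 := by simp [φ]
  have hφx : φ x₀ ≠ 1 := by
    intro h1
    have h2 : x₀ * t = t * x₀ := by
      have h3 : x₀ * t * x₀⁻¹ = t := by
        have := mul_eq_one_iff_eq_inv.1 h1
        rw [inv_inv] at this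
        exact this
      calc x₀ * t = x₀ * t * x₀⁻¹ * x₀ := by group
        _ = t * x₀ := by rw [h3]
    rcases hd.cent t ht htA ht2 x₀ hx₀S h2 with h3 | h3
    · exact hx₀E (Or.inl h3)
    · refine hx₀E (Or.inr ⟨x₀ * t, h3, ?_⟩)
      rw [mul_assoc, ht2, mul_one]
  have hsurj : ∀ a ∈ A, ∃ x ∈ N, φ x = a := by
    -- four distinct values
    set a₁ := φ x₀ with ha₁
    have ha₁A : a₁ ∈ A := hNt x₀ hx₀N
    set a₂ := h * a₁ * h⁻¹ with ha₂
    have ha₂A : a₂ ∈ A := hhA a₁ ha₁A
    set a₃ := h * a₂ * h⁻¹ with ha₃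
    have ha₃A : a₃ ∈ A := hhA a₂ ha₂A
    have n12 : a₁ ≠ a₂ := fun e => hφx (hfix a₁ ha₁A e.symm)
    have n2 : a₂ ≠ 1 := by
      intro e
      apply hφx
      have : a₁ = h⁻¹ * a₂ * h := by rw [ha₂]; group
      rw [this, e]; group
    have n23 : a₂ ≠ a₃ := fun e => n2 (hfix a₂ ha₂A e.symm)
    have n3 : a₃ ≠ 1 := by
      intro e
      apply n2
      have : a₂ = h⁻¹ * a₃ * h := by rw [ha₃]; group
      rw [this, e]; group
    have n13 : a₁ ≠ a₃ := by
      intro e
      have h1 : h * (a₁ * a₂) * h⁻¹ = a₁ * a₂ := by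
        calc h * (a₁ * a₂) * h⁻¹ = (h * a₁ * h⁻¹) * (h * a₂ * h⁻¹) := by group
          _ = a₂ * a₃ := rfl
          _ = a₂ * a₁ := by rw [← e]
          _ = a₁ * a₂ := hAcomm _ ha₂A _ ha₁A
      have h2 := hfix _ (A.mul_mem ha₁A ha₂A) h1
      apply n12
      have h3 := hd.sq a₂ ha₂A
      exact mul_right_cancel (h2.trans h3.symm)
    have hcard4 : (({1, a₁, a₂, a₃} : Finset G)).card = 4 := by
      rw [Finset.card_insert_of_notMem, Finset.card_insert_of_notMem, Finset.card_pair n23]
      · simp [n12, n13]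
      · simp [Ne.symm hφx, Ne.symm n2, Ne.symm n3]
    have hsub : (({1, a₁, a₂, a₃} : Finset G) : Set G) ⊆ (A : Set G) := by
      intro x hx
      simp only [Finset.coe_insert, Finset.coe_singleton, Set.mem_insert_iff,
        Set.mem_singleton_iff] at hx
      rcases hx with rfl | rfl | rfl | rfl
      · exact one_mem _
      · exact ha₁A
      · exact ha₂A
      · exact ha₃A
    have heq : (({1, a₁, a₂, a₃} : Finset G) : Set G) = (A : Set G) := by
      apply Set.eq_of_subset_of_ncard_le hsub _ (Set.toFinite _)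
      rw [Set.ncard_coe_finset, hcard4, ← Nat.card_coe_set_eq]
      exact le_of_eq hd.card
    intro a ha
    have ha' : a ∈ (({1, a₁, a₂, a₃} : Finset G) : Set G) := by rw [heq]; exact ha
    simp only [Finset.coe_insert, Finset.coe_singleton, Set.mem_insert_iff,
      Set.mem_singleton_iff] at ha'
    rcases ha' with rfl | rfl | rfl | rfl
    · exact ⟨1, one_mem _, hφ1⟩
    · exact ⟨x₀, hx₀N, rfl⟩
    · exact ⟨h * x₀, mul_mem hhN hx₀N, hφh x₀ hx₀N⟩
    · refine ⟨h * (h * x₀), mul_mem hhN (mul_mem hhN hx₀N), ?_⟩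
      rw [hφh _ (mul_mem hhN hx₀N), hφh x₀ hx₀N]
  -- the order of `N` is divisible by 32
  have h32 : 2 ^ 5 ∣ Nat.card N := by
    let C : Subgroup N := (centralizer ({t} : Set G)).subgroupOf N
    have hmemC : ∀ x : N, x ∈ C ↔ (x : G) * t = t * x := fun x => by
      rw [mem_subgroupOf, mem_centralizer_singleton_iff]
    let f : N ⧸ C → A := Quotient.lift (fun x : N => (⟨φ x, hNt x x.2⟩ : A)) (by
      intro x y hxy
      have hxy' : x⁻¹ * y ∈ C := QuotientGroup.leftRel_apply.1 hxy
      rw [hmemC] at hxy'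
      apply Subtype.ext
      change (x : G) * t * (x : G)⁻¹ * t⁻¹ = (y : G) * t * (y : G)⁻¹ * t⁻¹
      congr 1
      have h1 : (y : G) * t * (y : G)⁻¹ = x * ((x : G)⁻¹ * y * t) * (y : G)⁻¹ := by group
      rw [h1]
      have h2 : (x : G)⁻¹ * y * t = t * ((x : G)⁻¹ * y) := hxy'
      rw [h2]; group)
    have hf : Function.Surjective f := by
      intro a
      obtain ⟨x, hx, hxa⟩ := hsurj a a.2
      exact ⟨QuotientGroup.mk ⟨x, hx⟩, Subtype.ext hxa⟩
    have hfi : Function.Injective f := by
      intro a b hab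
      induction a using QuotientGroup.induction_on with | _ x => ?_
      induction b using QuotientGroup.induction_on with | _ y => ?_
      have h1 : (x : G) * t * (x : G)⁻¹ * t⁻¹ = (y : G) * t * (y : G)⁻¹ * t⁻¹ :=
        congrArg (Subtype.val) hab
      have h2 := mul_right_cancel h1
      rw [QuotientGroup.eq, hmemC]
      calc (x : G)⁻¹ * y * t = (x : G)⁻¹ * ((y : G) * t * (y : G)⁻¹) * y := by group
        _ = (x : G)⁻¹ * ((x : G) * t * (x : G)⁻¹) * y := by rw [h2]
        _ = t * ((x : G)⁻¹ * y) := by group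
    have hidx4 : C.index = 4 := by
      rw [← hd.card]
      exact Nat.card_congr (Equiv.ofBijective f ⟨hfi, hf⟩)
    have h8C : 8 ∣ Nat.card C := by
      let g : E →* C :=
        { toFun := fun x => ⟨⟨x, hEN x.2⟩, (hmemC _).2 (hEt x x.2)⟩
          map_one' := rfl
          map_mul' := fun _ _ => rfl }
      have hg : Function.Injective g := by
        intro x y hxy
        have h1 : (((g x : C) : N) : G) = (((g y : C) : N) : G) := by rw [hxy]
        exact Subtype.ext h1
      rw [← hE8]
      exact Subgroup.card_dvd_of_injective g hg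
    have h1 := C.card_mul_index
    rw [hidx4] at h1
    rw [← h1]
    obtain ⟨m, hm⟩ := h8C
    exact ⟨m, by rw [hm]; ring⟩
  -- a Sylow 2-subgroup of `N`
  obtain ⟨D₀⟩ : Nonempty (Sylow 2 N) := inferInstance
  let D : Subgroup G := (D₀ : Subgroup N).map N.subtype
  have hDN : D ≤ N := Subgroup.map_subtype_le _
  have hDp : IsPGroup 2 D := D₀.isPGroup'.map _
  have hDcard : Nat.card D = Nat.card D₀ :=
    Nat.card_congr ((D₀ : Subgroup N).equivMapOfInjective _ N.subtype_injective).toEquiv.symm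
  have h32D : 32 ∣ Nat.card D := by
    rw [hDcard]
    exact D₀.pow_dvd_card_of_pow_dvd_card h32
  have hED : E ≤ D := by
    have hn : (E.subgroupOf N).Normal := Subgroup.normal_in_normalizer
    have hp : IsPGroup 2 (E.subgroupOf N) := by
      have h1 : IsPGroup 2 E := S.isPGroup'.to_le hES
      exact h1.of_injective (Subgroup.subgroupOfEquivOfLe hEN).toMonoidHom
        (Subgroup.subgroupOfEquivOfLe hEN).injective
    have h1 : IsPGroup 2 ((D₀ : Subgroup N) ⊔ E.subgroupOf N : Subgroup N) :=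
      IsPGroup.to_sup_of_normal_right D₀.isPGroup' hp
    have h2 : (D₀ : Subgroup N) ⊔ E.subgroupOf N = D₀ := D₀.is_maximal' h1 le_sup_left
    intro x hx
    refine ⟨⟨x, hEN hx⟩, ?_, rfl⟩
    have h3 : (⟨x, hEN hx⟩ : N) ∈ (D₀ : Subgroup N) ⊔ E.subgroupOf N :=
      (le_sup_right : E.subgroupOf N ≤ _) (mem_subgroupOf.2 hx)
    rw [h2] at h3
    exact h3
  obtain ⟨S', hDS'⟩ := hDp.exists_le_sylow
  have hd' : Data S' A := hd.transfer S' ((hAE.trans hED).trans hDS')
  have htS' : t ∈ S' := hDS' (hED htE)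
  have hcentD : ∀ x ∈ D, x * t = t * x → x ∈ E := by
    intro x hx hxt
    rcases hd'.cent t htS' htA ht2 x (hDS' hx) hxt with h1 | h1
    · exact Or.inl h1
    · exact Or.inr ⟨x * t, h1, by rw [mul_assoc, ht2, mul_one]⟩
  -- the homomorphism `D → A`
  let ψ : D →* A :=
    { toFun := fun x => ⟨φ x, hNt x (hDN x.2)⟩
      map_one' := Subtype.ext hφ1
      map_mul' := by
        intro x y
        apply Subtype.ext
        change (x : G) * y * t * ((x : G) * y)⁻¹ * t⁻¹ =
          ((x : G) * t * (x : G)⁻¹ * t⁻¹) * ((y : G) * t * (y : G)⁻¹ * t⁻¹)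
        have h1 : (y : G) * t * (y : G)⁻¹ * t⁻¹ ∈ A := hNt y (hDN y.2)
        have h2 := hd'.comm _ h1 x (hDS' x.2)
        have h3 := hd'.comm _ h1 ((x : G) * t * (x : G)⁻¹ * t⁻¹) (by
          exact mul_mem (mul_mem (mul_mem (hDS' x.2) htS') (inv_mem (hDS' x.2))) (inv_mem htS'))
        calc (x : G) * y * t * ((x : G) * y)⁻¹ * t⁻¹
            = x * ((y : G) * t * (y : G)⁻¹ * t⁻¹) * (t * (x : G)⁻¹ * t⁻¹) := by group
          _ = ((y : G) * t * (y : G)⁻¹ * t⁻¹) * x * (t * (x : G)⁻¹ * t⁻¹) := by rw [← h2]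
          _ = ((y : G) * t * (y : G)⁻¹ * t⁻¹) * ((x : G) * t * (x : G)⁻¹ * t⁻¹) := by group
          _ = _ := h3 }
  have hψ : ∀ x : D, ((ψ x : A) : G) = (x : G) * t * (x : G)⁻¹ * t⁻¹ := fun _ => rfl
  have hψker : ∀ x : D, x ∈ ψ.ker → (x : G) ∈ E := by
    intro x hx
    apply hcentD x x.2
    have h1 : (x : G) * t * (x : G)⁻¹ * t⁻¹ = 1 := by
      rw [← hψ, MonoidHom.mem_ker.1 hx]; rfl
    have h3 : (x : G) * t * (x : G)⁻¹ = t := by
      have := mul_eq_one_iff_eq_inv.1 h1
      rw [inv_inv] at this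
      exact this
    calc (x : G) * t = (x : G) * t * (x : G)⁻¹ * x := by group
      _ = t * x := by rw [h3]
  have hkerle : Nat.card ψ.ker ≤ 8 := by
    rw [← hE8]
    refine Nat.card_le_card_of_injective (fun x : ψ.ker => (⟨((x : D) : G), hψker x x.2⟩ : E)) ?_
    intro x y hxy
    have h1 : ((x : D) : G) = ((y : D) : G) := Subtype.mk.inj hxy
    exact Subtype.ext (Subtype.ext h1)
  have hrange : Nat.card ψ.range ≤ 4 := by
    rw [← hd.card]
    exact Subgroup.card_le_card_group _
  have hDle : Nat.card D = Nat.card ψ.ker * Nat.card ψ.range := by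
    rw [← Subgroup.index_ker, Subgroup.card_mul_index]
  have hDge : 32 ≤ Nat.card D := Nat.le_of_dvd Nat.card_pos h32D
  have hD32 : Nat.card D = 32 := by
    have h1 : Nat.card ψ.ker * Nat.card ψ.range ≤ 8 * 4 := Nat.mul_le_mul hkerle hrange
    omega
  have hrange4 : Nat.card ψ.range = 4 := by
    have hpos : 0 < Nat.card ψ.range := Nat.card_pos
    by_contra hne
    have h1 : Nat.card ψ.range ≤ 3 := by omega
    have h2 : Nat.card ψ.ker * Nat.card ψ.range ≤ 8 * 3 := Nat.mul_le_mul hkerle h1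
    omega
  have hψsurj : Function.Surjective ψ := by
    rw [← MonoidHom.range_eq_top]
    exact Subgroup.eq_top_of_card_eq _ (by rw [hrange4, hd.card])
  have hDsq : ∀ x ∈ D, x * x ∈ A := by
    intro x hx
    have h1 := hNt x (hDN hx)
    set a := x * t * x⁻¹ * t⁻¹ with ha
    have h2 : x * t = a * t * x := by rw [ha]; group
    have h3 : x * a = a * x := (hd'.comm a h1 x (hDS' hx)).symm
    have h4 : x * x * t = t * (x * x) := by
      calc x * x * t = x * (x * t) := by group
        _ = x * (a * t * x) := by rw [h2]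
        _ = (x * a) * t * x := by group
        _ = a * (x * t) * x := by rw [h3]; group
        _ = a * (a * t * x) * x := by rw [h2]
        _ = (a * a) * t * (x * x) := by group
        _ = t * (x * x) := by rw [hd.sq a h1, one_mul]
    rcases hcentD (x * x) (mul_mem hx hx) h4 with h5 | ⟨b, hb, h5⟩
    · exact h5
    · -- then `x` commutes with `t`
      have h6 : x * t = t * x := by
        have h7 : t = b⁻¹ * (x * x) := by rw [h5]; group
        have h8 : x * b⁻¹ = b⁻¹ * x := (hd'.comm _ (A.inv_mem hb) x (hDS' hx)).symm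
        calc x * t = (x * b⁻¹) * (x * x) := by rw [h7]; group
          _ = b⁻¹ * (x * x) * x := by rw [h8]; group
          _ = t * x := by rw [← h7]
      have h9 : x * x = 1 := by
        rcases hcentD x hx h6 with h10 | ⟨c, hc, h10⟩
        · exact hd.sq x h10
        · rw [h10, mul_assoc, ← mul_assoc t, ← hta c hc, mul_assoc c, ht2, mul_one]
          exact hd.sq c hc
      rw [h9]; exact one_mem _
  -- apply the 2-group lemma in `S'`
  let P := (S' : Subgroup G)
  let A' : Subgroup P := A.subgroupOf P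
  have hAP : A ≤ P := hd'.sc.1
  have hmemA' : ∀ x : P, x ∈ A' ↔ (x : G) ∈ A := fun x => mem_subgroupOf
  let D' : Subgroup P := D.subgroupOf P
  obtain ⟨M, hM2, hM⟩ := exists_index_two_avoiding (P := P) (A := A') S'.isPGroup' D'
    (fun a ha x => Subtype.ext (hd'.comm a ((hmemA' a).1 ha) x x.2))
    (by rw [Nat.card_congr (Subgroup.subgroupOfEquivOfLe hAP).toEquiv]; exact hd.card)
    (fun a ha => Subtype.ext (hd.sq a ((hmemA' a).1 ha)))
    (fun u hu hu2 x hxu => by
      rcases hd'.cent u u.2 (fun h => hu ((hmemA' u).2 h)) (congrArg (Subtype.val) hu2) x x.2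
        (congrArg (Subtype.val) hxu) with h1 | h1
      · exact Or.inl ((hmemA' x).2 h1)
      · exact Or.inr ((hmemA' (x * u)).2 h1))
    (by rw [Nat.card_congr (Subgroup.subgroupOfEquivOfLe hDS').toEquiv]; exact hD32)
    (fun x hx => (hmemA' (x * x)).2 (hDsq x (mem_subgroupOf.1 hx)))
    (by
      intro a ha
      obtain ⟨x, hx⟩ := hψsurj ⟨a, (hmemA' a).1 ha⟩
      have h1 : (x : G) * t * (x : G)⁻¹ * t⁻¹ = a := by rw [← hψ, hx]
      have h2 : a = ⁅(⟨x, hDS' x.2⟩ : P), (⟨t, htS'⟩ : P)⁆ := Subtype.ext h1.symm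
      rw [h2]
      exact Subgroup.commutator_mem_commutator (mem_top _) (mem_top _))
    ⟨t, htS'⟩ (fun h => htA ((hmemA' _).1 h)) (Subtype.ext ht2)
  -- Thompson transfer
  have hrel : (M.map P.subtype).relIndex P = 2 := by
    rw [Subgroup.relIndex, Subgroup.subgroupOf, Subgroup.comap_map_eq_self_of_injective P.subtype_injective]
    exact hM2
  rcases Cfsg.Agent.Transfer.ThompsonTransfer.thompson_transfer S' (M.map P.subtype)
    (Subgroup.map_subtype_le _) hrel t (by rw [pow_two]; exact ht2) with ⟨K, _, hK, _⟩ | ⟨g, hg⟩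
  · exact hidx K hK
  · obtain ⟨u, huM, hu⟩ := hg
    have hu' : (u : G) = g * t * g⁻¹ := hu
    refine hM u (fun h => htconj g (hu' ▸ (hmemA' u).1 h)) ?_ huM
    apply Subtype.ext
    change (u : G) * u = 1
    rw [hu']
    calc g * t * g⁻¹ * (g * t * g⁻¹) = g * (t * t) * g⁻¹ := by group
      _ = 1 := by rw [ht2]; group

end Main

end Cfsg.Agent.TwoFusion.GoldEight
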