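import Mathlib
import Cfsg.Prelude.Def_TwoFusion
import Cfsg.Agent.TypeL3.Basic
import Cfsg.Agent.Transfer.ThompsonTransfer

/-!
# Goldschmidt's theorem, `|A| = 4`: Sylow 2-subgroups properly containing one of type `PSL(3,4)`

`S` is a Sylow 2-subgroup, `T = R₁ R₂ ≤ S` of type `PSL(3,4)`, `A = R₁ ∩ R₂` central in `S` and strongly
closed.  Transfer shows `T = S` (`Up.eq`).
-/

set_option autoImplicit false
set_option linter.style.haveILetI false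

namespace Cfsg.Agent.TwoFusion.GoldLFourUp

open Subgroup Cfsg.Agent.TypeL3 Cfsg.Agent.Lib.GoldschmidtFusion

variable {G : Type*} [Group G]

/-- `T = R₁ R₂` is a subgroup of type `PSL(3,4)` of the 2-group `S`. -/
structure Up (S T R₁ R₂ : Subgroup G) : Prop where
  ab : IsAB T R₁ R₂
  le : T ≤ S
  central : ∀ a ∈ R₁ ⊓ R₂, ∀ s ∈ S, a * s = s * a
  c1 : ∀ e ∈ R₁, e ∉ R₂ → ∀ s ∈ S, e * s = s * e → s ∈ R₁
  c2 : ∀ e ∈ R₂, e ∉ R₁ → ∀ s ∈ S, e * s = s * e → s ∈ R₂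
  n1 : ∀ s ∈ S, (∀ r ∈ R₁, s * r * s⁻¹ ∈ R₁) → s ∈ T
  card1 : Nat.card R₁ = 16
  card2 : Nat.card R₂ = 16
  cardZ : Nat.card (R₁ ⊓ R₂ : Subgroup G) = 4

theorem conj_mul' (g x y : G) : g * (x * y) * g⁻¹ = (g * x * g⁻¹) * (g * y * g⁻¹) := by group

/-- If all conjugates of the elements of `R` lie in `R'`, `|R| = |R'|`, then the converse holds as well. -/
theorem conj_inv_mem [Finite G] {R R' : Subgroup G} (hc : Nat.card R = Nat.card R') {n : G}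
    (hn : ∀ r ∈ R, n * r * n⁻¹ ∈ R') : ∀ r ∈ R', n⁻¹ * r * n ∈ R := by
  intro r hr
  have h1 : R.map (MulAut.conj n).toMonoidHom ≤ R' := by
    rintro _ ⟨x, hx, rfl⟩
    exact hn x hx
  have h2 : R.map (MulAut.conj n).toMonoidHom = R' :=
    Subgroup.eq_of_le_of_card_ge h1 (by rw [card_map_conj, hc])
  rw [← h2, mem_map_conj] at hr
  exact hr

namespace Up

variable {S T R₁ R₂ : Subgroup G}

/-- Elementary subgroups of `S` normalising `T` of order 16 lie in `T`; here the main case distinction. -/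
theorem swap [Finite G] (h : Up S T R₁ R₂) {n : G} (hn : n ∈ S) (hnT : ∀ t ∈ T, n * t * n⁻¹ ∈ T)
    (hn' : n ∉ T) : (∀ r ∈ R₁, n * r * n⁻¹ ∈ R₂) ∧ (∀ r ∈ R₂, n * r * n⁻¹ ∈ R₁) := by
  have hle : ∀ R : Subgroup G, R ≤ T → (∀ r ∈ R, r * r = 1) →
      R.map (MulAut.conj n).toMonoidHom ≤ R₁ ∨ R.map (MulAut.conj n).toMonoidHom ≤ R₂ := by
    intro R hR hsq
    apply h.ab.le_or_le
    · rintro _ ⟨x, hx, rfl⟩
      exact hnT x (hR hx)
    · rintro _ ⟨x, hx, rfl⟩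
      rw [← map_mul, hsq x hx, map_one]
  have h1 : R₁.map (MulAut.conj n).toMonoidHom ≤ R₂ := by
    rcases hle R₁ h.ab.A_le h.ab.A_sq with h1 | h1
    · exact absurd (h.n1 n hn fun r hr => h1 ⟨r, hr, rfl⟩) hn'
    · exact h1
  have h2 : R₂.map (MulAut.conj n).toMonoidHom ≤ R₁ := by
    rcases hle R₂ h.ab.B_le h.ab.B_sq with h2 | h2
    · exact h2
    · exfalso
      have e1 : R₁.map (MulAut.conj n).toMonoidHom = R₂ :=
        Subgroup.eq_of_le_of_card_ge h1 (by rw [card_map_conj, h.card1, h.card2])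
      have e2 : R₂.map (MulAut.conj n).toMonoidHom = R₂ :=
        Subgroup.eq_of_le_of_card_ge h2 (by rw [card_map_conj])
      have e3 : R₁ = R₂ := Subgroup.map_injective (MulAut.conj n).injective (e1.trans e2.symm)
      obtain ⟨a, ha, ha'⟩ := h.ab.neA
      exact ha' (e3 ▸ ha)
  exact ⟨fun r hr => h1 ⟨r, hr, rfl⟩, fun r hr => h2 ⟨r, hr, rfl⟩⟩

theorem mul_mem_T [Finite G] (h : Up S T R₁ R₂) {n m : G} (hn : n ∈ S) (hnT : ∀ t ∈ T, n * t * n⁻¹ ∈ T)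
    (hn' : n ∉ T) (hm : m ∈ S) (hmT : ∀ t ∈ T, m * t * m⁻¹ ∈ T) (hm' : m ∉ T) : n * m ∈ T := by
  apply h.n1 _ (mul_mem hn hm)
  intro r hr
  have h1 := (h.swap hm hmT hm').1 r hr
  have h2 := (h.swap hn hnT hn').2 _ h1
  have e : n * m * r * (n * m)⁻¹ = n * (m * r * m⁻¹) * n⁻¹ := by group
  rw [e]; exact h2

/-- An elementary subgroup of `S` of order 16 normalising `T` lies in `T`. -/
theorem elem_le [Finite G] (h : Up S T R₁ R₂) {E : Subgroup G} (hE : E ≤ S) (hsq : ∀ e ∈ E, e * e = 1)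
    (hc : Nat.card E = 16) (hET : ∀ e ∈ E, ∀ t ∈ T, e * t * e⁻¹ ∈ T) : E ≤ T := by
  by_contra hcon
  obtain ⟨e, he, heT⟩ := SetLike.not_le_iff_exists.1 hcon
  have hcomm : ∀ x ∈ E, ∀ y ∈ E, x * y = y * x := by
    intro x hx y hy
    have h1 := hsq _ (mul_mem hx hy)
    have hx' : x⁻¹ = x := inv_eq_of_mul_eq_one_right (hsq x hx)
    have hy' : y⁻¹ = y := inv_eq_of_mul_eq_one_right (hsq y hy)
    have h2 : (x * y)⁻¹ = x * y := inv_eq_of_mul_eq_one_right h1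
    rw [mul_inv_rev, hx', hy'] at h2
    exact h2.symm
  -- `T ∩ E` has index two in `E`
  have hidx : (T.subgroupOf E).index = 2 := by
    rw [Subgroup.index_eq_two_iff]
    refine ⟨⟨e, he⟩, fun b => ?_⟩
    rw [mem_subgroupOf, mem_subgroupOf]
    change Xor ((b : G) * e ∈ T) ((b : G) ∈ T)
    by_cases hb : (b : G) ∈ T
    · exact Or.inr ⟨hb, fun h1 => heT (by simpa using mul_mem (inv_mem hb) h1)⟩
    · exact Or.inl ⟨h.mul_mem_T (hE b.2) (hET b b.2) hb (hE he) (hET e he) heT, hb⟩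
  have hcard : Nat.card (T.subgroupOf E) = 8 := by
    have := (T.subgroupOf E).card_mul_index
    rw [hidx, hc] at this
    omega
  -- `T ∩ E ≤ R₁ ∩ R₂`
  have hsw := h.swap (hE he) (hET e he) heT
  have hle : T ⊓ E ≤ R₁ ⊓ R₂ := by
    have hfix : ∀ x ∈ T ⊓ E, e * x * e⁻¹ = x := by
      intro x hx
      rw [hcomm e he x (mem_inf.1 hx).2]; group
    rcases h.ab.le_or_le (E := T ⊓ E) inf_le_left (fun x hx => hsq x (mem_inf.1 hx).2) with h1 | h1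
    · intro x hx
      refine mem_inf.2 ⟨h1 hx, ?_⟩
      have := hsw.1 x (h1 hx)
      rwa [hfix x hx] at this
    · intro x hx
      refine mem_inf.2 ⟨?_, h1 hx⟩
      have := hsw.2 x (h1 hx)
      rwa [hfix x hx] at this
  have hcle : Nat.card (T.subgroupOf E) ≤ Nat.card (R₁ ⊓ R₂ : Subgroup G) := by
    refine Nat.card_le_card_of_injective
      (fun x : T.subgroupOf E => (⟨((x : E) : G), hle (mem_inf.2 ⟨mem_subgroupOf.1 x.2, x.1.2⟩)⟩ :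
        (R₁ ⊓ R₂ : Subgroup G))) ?_
    intro x y hxy
    have h1 : ((x : E) : G) = ((y : E) : G) := Subtype.mk.inj hxy
    exact Subtype.ext (Subtype.ext h1)
  rw [hcard, h.cardZ] at hcle
  omega

/-- `T` is generated by `R₁` and `R₂`. -/
theorem conj_T (h : Up S T R₁ R₂) {n : G} (h1 : ∀ r ∈ R₁, n * r * n⁻¹ ∈ T) (h2 : ∀ r ∈ R₂, n * r * n⁻¹ ∈ T) :
    ∀ t ∈ T, n * t * n⁻¹ ∈ T := by
  intro t ht
  obtain ⟨a, ha, b, hb, rfl⟩ := h.ab.prod t ht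
  rw [conj_mul']
  exact mul_mem (h1 a ha) (h2 b hb)

/-- `T` is normal in `S`. -/
theorem normal [Finite G] (h : Up S T R₁ R₂) (hS : IsPGroup 2 S) : ∀ s ∈ S, ∀ t ∈ T, s * t * s⁻¹ ∈ T := by
  haveI : Fact (Nat.Prime 2) := ⟨Nat.prime_two⟩
  set N : Subgroup G := S ⊓ normalizer (T : Set G) with hN
  have hNT : ∀ s ∈ N, ∀ t ∈ T, s * t * s⁻¹ ∈ T := by
    intro s hs t ht
    exact ((mem_normalizer_iff.1 (mem_inf.1 hs).2) t).1 ht
  have hTN : T ≤ N := le_inf h.le Subgroup.le_normalizer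
  by_cases hNS : N = S
  · intro s hs
    exact hNT s (hNS ▸ hs)
  exfalso
  have hlt : N < S := lt_of_le_of_ne inf_le_left hNS
  have h1 := lt_inf_normalizer hS hlt
  obtain ⟨m, hm, hmN⟩ := SetLike.exists_of_lt h1
  obtain ⟨hmS, hmn⟩ := mem_inf.1 hm
  have hmN' : ∀ x ∈ N, m * x * m⁻¹ ∈ N := fun x hx => ((mem_normalizer_iff.1 hmn) x).1 hx
  have key : ∀ R : Subgroup G, R ≤ T → (∀ r ∈ R, r * r = 1) → Nat.card R = 16 →
      ∀ r ∈ R, m * r * m⁻¹ ∈ T := by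
    intro R hR hsq hc r hr
    have h2 : R.map (MulAut.conj m).toMonoidHom ≤ T := by
      apply h.elem_le
      · rintro _ ⟨x, hx, rfl⟩
        exact (mem_inf.1 (hmN' x (hTN (hR hx)))).1
      · rintro _ ⟨x, hx, rfl⟩
        rw [← map_mul, hsq x hx, map_one]
      · rw [card_map_conj]; exact hc
      · rintro _ ⟨x, hx, rfl⟩
        exact hNT _ (hmN' x (hTN (hR hx)))
    exact h2 ⟨r, hr, rfl⟩
  apply hmN
  refine mem_inf.2 ⟨hmS, ?_⟩
  rw [mem_normalizer_iff_map_conj]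
  apply map_conj_le_of_le_normalizer
  rintro _ ⟨t, ht, rfl⟩
  exact h.conj_T (key R₁ h.ab.A_le h.ab.A_sq h.card1) (key R₂ h.ab.B_le h.ab.B_sq h.card2) t ht

/-- Elements of `S ∖ T` swap `R₁` and `R₂`. -/
theorem swap' [Finite G] (h : Up S T R₁ R₂) (hS : IsPGroup 2 S) {n : G} (hn : n ∈ S) (hn' : n ∉ T) :
    (∀ r ∈ R₁, n * r * n⁻¹ ∈ R₂) ∧ (∀ r ∈ R₂, n * r * n⁻¹ ∈ R₁) :=
  h.swap hn (h.normal hS n hn) hn'

theorem mul_mem' [Finite G] (h : Up S T R₁ R₂) (hS : IsPGroup 2 S) {n m : G} (hn : n ∈ S) (hn' : n ∉ T)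
    (hm : m ∈ S) (hm' : m ∉ T) : n * m ∈ T :=
  h.mul_mem_T hn (h.normal hS n hn) hn' hm (h.normal hS m hm) hm'

theorem inv_eq {x : G} (hx : x * x = 1) : x⁻¹ = x := inv_eq_of_mul_eq_one_right hx

theorem sqZ (h : Up S T R₁ R₂) {z : G} (hz : z ∈ R₁ ⊓ R₂) : z * z = 1 := h.ab.A_sq z (mem_inf.1 hz).1

theorem Z_le (h : Up S T R₁ R₂) : R₁ ⊓ R₂ ≤ S := h.ab.Z_le.trans h.le

/-- If `w ∈ S ∖ T` then some `w ∈ S ∖ T` has `w² ∈ Z`. -/
theorem exists_sq_mem [Finite G] (h : Up S T R₁ R₂) (hS : IsPGroup 2 S) {w₀ : G} (hw : w₀ ∈ S)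
    (hw' : w₀ ∉ T) : ∃ w ∈ S, w ∉ T ∧ w * w ∈ R₁ ⊓ R₂ := by
  have hsq : w₀ * w₀ ∈ T := h.mul_mem' hS hw hw' hw hw'
  have hsw := h.swap' hS hw hw'
  obtain ⟨a, ha, b, hb, hab⟩ := h.ab.prod _ hsq
  have ha' := hsw.1 a ha
  have hb' := hsw.2 b hb
  set a' := w₀ * a * w₀⁻¹ with ea
  set b' := w₀ * b * w₀⁻¹ with eb
  have e1 : a' * b' = a * b := by
    rw [ea, eb, ← conj_mul', hab]; group
  obtain ⟨z, hz, e2⟩ := h.ab.exists_comm (h.ab.B_le ha') (h.ab.A_le hb')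
  -- `b' a' z = a b`
  have e3 : a⁻¹ * b' = b * z⁻¹ * a'⁻¹ := by
    have hza : z * a' = a' * z := h.ab.comm_Z hz (h.ab.B_le ha')
    calc a⁻¹ * b' = a⁻¹ * (b' * (a' * z)) * z⁻¹ * a'⁻¹ := by group
      _ = a⁻¹ * (a * b) * z⁻¹ * a'⁻¹ := by rw [← e1, e2]; group
      _ = b * z⁻¹ * a'⁻¹ := by group
  have hy : a⁻¹ * b' ∈ R₁ ⊓ R₂ := by
    refine mem_inf.2 ⟨mul_mem (inv_mem ha) hb', ?_⟩
    rw [e3]
    exact mul_mem (mul_mem hb (inv_mem (mem_inf.1 hz).2)) (inv_mem ha')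
  -- hence `b = y a'` for some `y ∈ Z`
  obtain ⟨y, hyZ, hby⟩ : ∃ y ∈ R₁ ⊓ R₂, b = y * a' := by
    refine ⟨b * a'⁻¹, ?_, by group⟩
    have h1 : b * a'⁻¹ = (a⁻¹ * b') * z := by
      rw [e3]
      have hza : z * a' = a' * z := h.ab.comm_Z hz (h.ab.B_le ha')
      calc b * a'⁻¹ = b * z⁻¹ * a'⁻¹ * (a' * z * a'⁻¹) := by group
        _ = b * z⁻¹ * a'⁻¹ * z := by rw [← hza]; group
    rw [h1]
    exact mul_mem hy hz
  refine ⟨a * w₀, mul_mem (h.le (h.ab.A_le ha)) hw, ?_, ?_⟩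
  · intro h1
    exact hw' (by simpa using mul_mem (inv_mem (h.ab.A_le ha)) h1)
  · have e4 : a * w₀ * (a * w₀) = a * a' * (a * b) := by
      rw [hab, ea]; group
    have hca := h.ab.comm_mem (h.ab.A_le ha) (h.ab.B_le ha')
    have e5 : a * a' * (a * b) = y * (a * a' * a⁻¹ * a'⁻¹) := by
      rw [hby, inv_eq (h.ab.A_sq a ha), inv_eq (h.ab.B_sq a' ha')]
      have hya : y * a = a * y := h.ab.comm_Z hyZ (h.ab.A_le ha)
      have hya' : y * a' = a' * y := h.ab.comm_Z hyZ (h.ab.B_le ha')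
      calc a * a' * (a * (y * a')) = a * a' * (a * y) * a' := by group
        _ = a * (a' * y) * a * a' := by rw [← hya]; group
        _ = (a * y) * a' * a * a' := by rw [← hya']; group
        _ = y * (a * a' * a * a') := by rw [← hya]; group
    rw [e4, e5]
    exact mul_mem hyZ hca

/-- The shape of the elements `t ∈ T` with `t · t^w ∈ Z`. -/
theorem shape [Finite G] (h : Up S T R₁ R₂) (hS : IsPGroup 2 S) {w : G} (hw : w ∈ S) (hw' : w ∉ T)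
    {t : G} (ht : t ∈ T) (htt : t * (w * t * w⁻¹) ∈ R₁ ⊓ R₂) :
    ∃ r ∈ R₁, ∃ y ∈ R₁ ⊓ R₂, t = y * (r * (w * r * w⁻¹)) := by
  have hsw := h.swap' hS hw hw'
  obtain ⟨a, ha, b, hb, rfl⟩ := h.ab.prod t ht
  have ha' := hsw.1 a ha
  have hb' := hsw.2 b hb
  rw [conj_mul'] at htt
  set a' := w * a * w⁻¹ with ea
  set b' := w * b * w⁻¹ with eb
  -- `b a' ∈ Z`
  have h1 : b * a' ∈ R₁ ⊓ R₂ := by
    refine mem_inf.2 ⟨?_, mul_mem hb ha'⟩
    have e : b * a' = a⁻¹ * (a * b * (a' * b')) * b'⁻¹ := by group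
    rw [e]
    exact mul_mem (mul_mem (inv_mem ha) (mem_inf.1 htt).1) (inv_mem hb')
  refine ⟨a, ha, b * a', h1, ?_⟩
  have h2 : b = (b * a') * a' := by rw [mul_assoc, h.ab.B_sq a' ha', mul_one]
  have h3 := h.ab.comm_Z h1 (h.ab.A_le ha)
  calc a * b = a * ((b * a') * a') := by rw [← h2]
    _ = (a * (b * a')) * a' := by group
    _ = (b * a') * (a * a') := by rw [← h3]; group

/-- All elements of `S ∖ T` with square in `Z` have the same square. -/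
theorem sq_eq [Finite G] (h : Up S T R₁ R₂) (hS : IsPGroup 2 S) {w x : G} (hw : w ∈ S) (hw' : w ∉ T)
    (hwZ : w * w ∈ R₁ ⊓ R₂) (hx : x ∈ S) (hx' : x ∉ T) (hxZ : x * x ∈ R₁ ⊓ R₂) : x * x = w * w := by
  have hwi : w⁻¹ ∉ T := fun h1 => hw' (by simpa using inv_mem h1)
  have ht : x * w⁻¹ ∈ T := h.mul_mem' hS hx hx' (inv_mem hw) hwi
  have e1 : x * x = (x * w⁻¹) * (w * (x * w⁻¹) * w⁻¹) * (w * w) := by group
  have h1 : (x * w⁻¹) * (w * (x * w⁻¹) * w⁻¹) ∈ R₁ ⊓ R₂ := by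
    have e2 : (x * w⁻¹) * (w * (x * w⁻¹) * w⁻¹) = x * x * (w * w)⁻¹ := by group
    rw [e2]
    exact mul_mem hxZ (inv_mem hwZ)
  obtain ⟨r, hr, y, hy, e⟩ := h.shape hS hw hw' ht h1
  have hr' := (h.swap' hS hw hw').1 r hr
  rw [e1, e]
  set r' := w * r * w⁻¹ with er
  have hyw : y * w = w * y := h.central y hy w hw
  have e3 : w * (y * (r * r')) * w⁻¹ = y * (r' * r) := by
    have e4 : w * r' * w⁻¹ = r := by
      have := h.central _ hwZ r (h.le (h.ab.A_le hr))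
      calc w * r' * w⁻¹ = (w * w * r) * (w * w)⁻¹ := by rw [er]; group
        _ = r := by rw [this]; group
    calc w * (y * (r * r')) * w⁻¹ = (w * y) * r * r' * w⁻¹ := by group
      _ = y * (w * r * w⁻¹) * (w * r' * w⁻¹) := by rw [← hyw]; group
      _ = y * (r' * r) := by rw [e4, ← er]; group
  rw [e3]
  have e5 : y * (r * r') * (y * (r' * r)) = 1 := by
    have h2 : y * (r * r') = (r * r') * y :=
      h.ab.comm_Z hy (mul_mem (h.ab.A_le hr) (h.ab.B_le hr'))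
    calc y * (r * r') * (y * (r' * r)) = ((r * r') * y) * (y * (r' * r)) := by rw [h2]
      _ = r * r' * (y * y) * r' * r := by group
      _ = r * (r' * r') * r := by rw [h.sqZ hy]; group
      _ = 1 := by rw [h.ab.B_sq r' hr', mul_one, h.ab.A_sq r hr]
  rw [e5, one_mul]

/-- An element of `T` commuting with the involution `w ∈ S ∖ T` lies in `Z`. -/
theorem mem_Z_of_comm [Finite G] (h : Up S T R₁ R₂) (hS : IsPGroup 2 S) {w t : G} (hw : w ∈ S) (hw' : w ∉ T)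
    (hw2 : w * w = 1) (ht : t ∈ T) (hc : t * w = w * t) : t ∈ R₁ ⊓ R₂ := by
  have e1 : w * t * w⁻¹ = t := by rw [← hc]; group
  -- squares of elements of `T` lie in `Z`
  have hsq : t * t ∈ R₁ ⊓ R₂ := by
    obtain ⟨a, ha, b, hb, rfl⟩ := h.ab.prod t ht
    have h1 := h.ab.comm_mem (h.ab.A_le ha) (h.ab.B_le hb)
    rw [inv_eq (h.ab.A_sq a ha), inv_eq (h.ab.B_sq b hb)] at h1
    have e : a * b * (a * b) = a * b * a * b := by group
    rw [e]; exact h1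
  obtain ⟨r, hr, y, hy, e⟩ := h.shape hS hw hw' ht (by rw [e1]; exact hsq)
  have hr' := (h.swap' hS hw hw').1 r hr
  have hyw : y * w = w * y := h.central y hy w hw
  have e4 : w * (w * r * w⁻¹) * w⁻¹ = r := by
    calc w * (w * r * w⁻¹) * w⁻¹ = (w * w) * r * (w * w)⁻¹ := by group
      _ = r := by rw [hw2]; group
  have e3 : w * t * w⁻¹ = y * ((w * r * w⁻¹) * r) := by
    rw [e]
    calc w * (y * (r * (w * r * w⁻¹))) * w⁻¹
        = (w * y) * r * (w * r * w⁻¹) * w⁻¹ := by group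
      _ = y * (w * r * w⁻¹) * (w * (w * r * w⁻¹) * w⁻¹) := by rw [← hyw]; group
      _ = y * ((w * r * w⁻¹) * r) := by rw [e4]; group
  rw [e1, e] at e3
  have e5 : r * (w * r * w⁻¹) = (w * r * w⁻¹) * r := mul_left_cancel e3
  have hr2 : r ∈ R₂ := by
    by_contra hr2
    have h1 := h.ab.centA r hr hr2 _ (h.ab.B_le hr') e5
    -- `r' ∈ R₁` gives `r ∈ R₂`
    have h2 := (h.swap' hS hw hw').1 _ h1
    rw [e4] at h2
    exact hr2 h2
  have h3 := (h.swap' hS hw hw').2 r hr2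
  rw [e]
  exact mul_mem hy (mul_mem (mem_inf.2 ⟨hr, hr2⟩) (mem_inf.2 ⟨h3, hr'⟩))

/-- Centralisers of involutions `u ∈ S ∖ Z` have order at most 16. -/
theorem card_cent_le [Finite G] (h : Up S T R₁ R₂) (hS : IsPGroup 2 S) {u : G} (hu : u ∈ S)
    (huZ : u ∉ R₁ ⊓ R₂) (hu2 : u * u = 1) {Q : Subgroup G} (hQ : Q ≤ S) (hc : ∀ x ∈ Q, x * u = u * x) :
    Nat.card Q ≤ 16 := by
  by_cases huT : u ∈ T
  · rcases h.ab.inv u huT hu2 with h1 | h1
    · have h2 : u ∉ R₂ := fun h2 => huZ (mem_inf.2 ⟨h1, h2⟩)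
      have : Q ≤ R₁ := fun x hx => h.c1 u h1 h2 x (hQ hx) (hc x hx).symm
      exact (Subgroup.card_le_of_le this).trans h.card1.le
    · have h2 : u ∉ R₁ := fun h2 => huZ (mem_inf.2 ⟨h2, h1⟩)
      have : Q ≤ R₂ := fun x hx => h.c2 u h1 h2 x (hQ hx) (hc x hx).symm
      exact (Subgroup.card_le_of_le this).trans h.card2.le
  · -- `Q ∩ T ≤ Z` has index at most two
    have hle : T ⊓ Q ≤ R₁ ⊓ R₂ := fun x hx =>
      h.mem_Z_of_comm hS hu huT hu2 (mem_inf.1 hx).1 (hc x (mem_inf.1 hx).2)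
    have hcle : Nat.card (T.subgroupOf Q) ≤ 4 := by
      rw [← h.cardZ]
      refine Nat.card_le_card_of_injective
        (fun x : T.subgroupOf Q => (⟨((x : Q) : G), hle (mem_inf.2 ⟨mem_subgroupOf.1 x.2, x.1.2⟩)⟩ :
          (R₁ ⊓ R₂ : Subgroup G))) ?_
      intro x y hxy
      have h1 : ((x : Q) : G) = ((y : Q) : G) := Subtype.mk.inj hxy
      exact Subtype.ext (Subtype.ext h1)
    have hidx : (T.subgroupOf Q).index ≤ 2 := by
      by_cases hQT : Q ≤ T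
      · have : T.subgroupOf Q = ⊤ := by rw [subgroupOf_eq_top]; exact hQT
        rw [this, index_top]; norm_num
      · obtain ⟨e, he, heT⟩ := SetLike.not_le_iff_exists.1 hQT
        apply le_of_eq
        rw [Subgroup.index_eq_two_iff]
        refine ⟨⟨e, he⟩, fun b => ?_⟩
        rw [mem_subgroupOf, mem_subgroupOf]
        change Xor ((b : G) * e ∈ T) ((b : G) ∈ T)
        by_cases hb : (b : G) ∈ T
        · exact Or.inr ⟨hb, fun h1 => heT (by simpa using mul_mem (inv_mem hb) h1)⟩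
        · exact Or.inl ⟨h.mul_mem' hS (hQ b.2) hb (hQ he) heT, hb⟩
    have := (T.subgroupOf Q).card_mul_index
    calc Nat.card Q = Nat.card (T.subgroupOf Q) * (T.subgroupOf Q).index := this.symm
      _ ≤ 4 * 2 := Nat.mul_le_mul hcle hidx
      _ ≤ 16 := by norm_num

/-- `|T| = 64`. -/
theorem card_T [Finite G] (h : Up S T R₁ R₂) : Nat.card T = 64 := by
  have h1 : (R₁.subgroupOf T).Normal := by
    refine ⟨fun n hn g => ?_⟩
    rw [mem_subgroupOf] at hn ⊢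
    exact h.ab.conj_mem inf_le_left h.ab.A_le g.2 hn
  have hsup : R₂.subgroupOf T ⊔ R₁.subgroupOf T = ⊤ := by
    rw [eq_top_iff]
    rintro ⟨t, ht⟩ -
    obtain ⟨a, ha, b, hb, rfl⟩ := h.ab.prod t ht
    have e : (⟨a * b, ht⟩ : T) = ⟨a, h.ab.A_le ha⟩ * ⟨b, h.ab.B_le hb⟩ := rfl
    rw [e]
    exact mul_mem (mem_sup_right (mem_subgroupOf.2 ha)) (mem_sup_left (mem_subgroupOf.2 hb))
  have h2 : (R₁.subgroupOf T).index = (R₁.subgroupOf T).relIndex (R₂.subgroupOf T) := by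
    rw [← relIndex_sup_right, hsup, relIndex_top_right]
  have h3 : (R₁.subgroupOf T).relIndex (R₂.subgroupOf T) = R₁.relIndex R₂ := by
    rw [relIndex_subgroupOf h.ab.B_le]
  have h4 : R₁.relIndex R₂ = (R₁ ⊓ R₂).relIndex R₂ := by rw [inf_relIndex_right]
  have h5 : Nat.card (R₁ ⊓ R₂ : Subgroup G) * (R₁ ⊓ R₂).relIndex R₂ = Nat.card R₂ := by
    rw [← Nat.card_congr (Subgroup.subgroupOfEquivOfLe (inf_le_right : R₁ ⊓ R₂ ≤ R₂)).toEquiv]
    exact Subgroup.card_mul_index _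
  have h6 := (R₁.subgroupOf T).card_mul_index
  rw [Nat.card_congr (Subgroup.subgroupOfEquivOfLe h.ab.A_le).toEquiv, h.card1, h2, h3, h4] at h6
  rw [h.cardZ, h.card2] at h5
  omega

end Up

/-- The group of elements of `N(Z)` fixing the coset `Z v`. -/
def cosetStab (Z : Subgroup G) (v : G) : Subgroup G where
  carrier := {m | m ∈ normalizer (Z : Set G) ∧ m * v * m⁻¹ * v⁻¹ ∈ Z}
  one_mem' := ⟨one_mem _, by simp [Z.one_mem]⟩
  mul_mem' := by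
    rintro a b ⟨ha1, ha2⟩ ⟨hb1, hb2⟩
    refine ⟨mul_mem ha1 hb1, ?_⟩
    have e : a * b * v * (a * b)⁻¹ * v⁻¹ = a * (b * v * b⁻¹ * v⁻¹) * a⁻¹ * (a * v * a⁻¹ * v⁻¹) := by group
    rw [e]
    exact mul_mem ((mem_normalizer_iff.1 ha1 _).1 hb2) ha2
  inv_mem' := by
    rintro a ⟨ha1, ha2⟩
    refine ⟨inv_mem ha1, ?_⟩
    have e : a⁻¹ * v * a⁻¹⁻¹ * v⁻¹ = a⁻¹ * (a * v * a⁻¹ * v⁻¹)⁻¹ * a⁻¹⁻¹ := by group
    rw [e]
    exact (mem_normalizer_iff.1 (inv_mem ha1) _).1 (inv_mem ha2)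

section Main

variable [Finite G] {S : Sylow 2 G} {T R₁ R₂ : Subgroup G}

/-- Frattini: the fixed-point-free action on `Z` is induced by an element of `N(S)`. -/
theorem exists_normalizer {Z : Subgroup G} (hZ : ∀ a ∈ Z, ∀ s ∈ (S : Subgroup G), a * s = s * a)
    {n : G} (hn : n ∈ normalizer (Z : Set G)) :
    ∃ k ∈ normalizer ((S : Subgroup G) : Set G), k ∈ normalizer (Z : Set G) ∧
      ∀ a ∈ Z, k * a * k⁻¹ = n * a * n⁻¹ := by
  haveI : Fact (Nat.Prime 2) := ⟨Nat.prime_two⟩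
  have hSC : (S : Subgroup G) ≤ centralizer (Z : Set G) := by
    intro s hs
    rw [mem_centralizer_iff]
    intro a ha
    exact hZ a ha s hs
  have hD : (S : Subgroup G).map (MulAut.conj n).toMonoidHom ≤ centralizer (Z : Set G) := by
    rintro _ ⟨s, hs, rfl⟩
    rw [mem_centralizer_iff]
    intro a ha
    have h1 : n⁻¹ * a * n ∈ Z := by
      have := (mem_normalizer_iff.1 (inv_mem hn) a).1 ha
      rwa [inv_inv] at this
    have h2 := hZ _ h1 s hs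
    change a * (n * s * n⁻¹) = n * s * n⁻¹ * a
    calc a * (n * s * n⁻¹) = n * (n⁻¹ * a * n * s) * n⁻¹ := by group
      _ = n * s * n⁻¹ * a := by rw [h2]; group
  obtain ⟨c, hc, hcle⟩ := exists_conj_le_in (p := 2) S.isPGroup'
    (fun h => S.not_dvd_index (h.trans (relIndex_dvd_index_of_le hSC))) hD (S.isPGroup'.map _)
  rw [map_conj_map_conj] at hcle
  refine ⟨c * n, mem_normalizer_iff_map_conj.2 (map_conj_le_of_le_normalizer hcle),
    mul_mem (centralizer_le_normalizer _ hc) hn, fun a ha => ?_⟩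
  have h1 : n * a * n⁻¹ ∈ Z := (mem_normalizer_iff.1 hn a).1 ha
  have h2 := (mem_centralizer_iff.1 hc) _ h1
  calc c * n * a * (c * n)⁻¹ = c * (n * a * n⁻¹) * c⁻¹ := by group
    _ = n * a * n⁻¹ := by rw [← h2]; group

variable (hU : Up (S : Subgroup G) T R₁ R₂)

include hU

/-- There is an involution in `S ∖ T`. -/
theorem exists_involution {n : G} (hn : n ∈ normalizer ((R₁ ⊓ R₂ : Subgroup G) : Set G))
    (hfix : ∀ a ∈ R₁ ⊓ R₂, n * a * n⁻¹ = a → a = 1) (hTS : T ≠ S) :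
    ∃ w ∈ (S : Subgroup G), w ∉ T ∧ w * w = 1 := by
  have hS := S.isPGroup'
  obtain ⟨w₀, hw₀, hw₀'⟩ := SetLike.exists_of_lt (lt_of_le_of_ne hU.le hTS)
  obtain ⟨w, hw, hwT, hwZ⟩ := hU.exists_sq_mem hS hw₀ hw₀'
  refine ⟨w, hw, hwT, ?_⟩
  obtain ⟨k, hk, hkZ, hka⟩ := exists_normalizer (S := S) hU.central hn
  have hkS : ∀ s ∈ (S : Subgroup G), k * s * k⁻¹ ∈ (S : Subgroup G) := fun s hs =>
    (mem_normalizer_iff.1 hk s).1 hs
  -- `k` normalises `T`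
  have key : ∀ R : Subgroup G, R ≤ T → (∀ r ∈ R, r * r = 1) → Nat.card R = 16 →
      ∀ r ∈ R, k * r * k⁻¹ ∈ T := by
    intro R hR hsq hc r hr
    have h2 : R.map (MulAut.conj k).toMonoidHom ≤ T := by
      apply hU.elem_le
      · rintro _ ⟨x, hx, rfl⟩
        exact hkS x (hU.le (hR hx))
      · rintro _ ⟨x, hx, rfl⟩
        rw [← map_mul, hsq x hx, map_one]
      · rw [card_map_conj]; exact hc
      · rintro _ ⟨x, hx, rfl⟩
        exact hU.normal hS _ (hkS x (hU.le (hR hx)))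
    exact h2 ⟨r, hr, rfl⟩
  have hkT : ∀ t ∈ T, k * t * k⁻¹ ∈ T :=
    hU.conj_T (key R₁ hU.ab.A_le hU.ab.A_sq hU.card1) (key R₂ hU.ab.B_le hU.ab.B_sq hU.card2)
  have hkT' := conj_inv_mem (R := T) (R' := T) rfl hkT
  have h1 : k * w * k⁻¹ ∉ T := by
    intro h1
    apply hwT
    have := hkT' _ h1
    have e : k⁻¹ * (k * w * k⁻¹) * k = w := by group
    rwa [e] at this
  have e1 : (k * w * k⁻¹) * (k * w * k⁻¹) = k * (w * w) * k⁻¹ := by group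
  have h2 : (k * w * k⁻¹) * (k * w * k⁻¹) ∈ R₁ ⊓ R₂ := by
    rw [e1]
    exact (mem_normalizer_iff.1 hkZ _).1 hwZ
  have h3 := hU.sq_eq hS hw hwT hwZ (hkS w hw) h1 h2
  rw [e1, hka _ hwZ] at h3
  exact hfix _ hwZ h3

variable (hsc : Cfsg.IsStronglyClosed (R₁ ⊓ R₂) (S : Subgroup G))

include hsc

/-- 2-subgroups centralising a non-2-central involution have order at most 16. -/
theorem card_le_sixteen {u : G} (hu : u ∈ (S : Subgroup G)) (huZ : u ∉ R₁ ⊓ R₂) (hu2 : u * u = 1)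
    {R : Subgroup G} (hR : IsPGroup 2 R) (huR : u ∈ R) (hc : ∀ x ∈ R, x * u = u * x) :
    Nat.card R ≤ 16 := by
  haveI : Fact (Nat.Prime 2) := ⟨Nat.prime_two⟩
  obtain ⟨P, hP⟩ := hR.exists_le_sylow
  obtain ⟨x, hx⟩ := MulAction.exists_smul_eq G P S
  have hxS : ∀ y ∈ (P : Subgroup G), x * y * x⁻¹ ∈ (S : Subgroup G) := by
    intro y hy
    rw [← hx]
    exact ⟨y, hy, rfl⟩
  have h1 : x * u * x⁻¹ ∉ R₁ ⊓ R₂ := by
    intro h1
    apply huZ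
    have := hsc.2 _ h1 x⁻¹ (by
      have e : x⁻¹ * (x * u * x⁻¹) * x⁻¹⁻¹ = u := by group
      rw [e]; exact hu)
    have e : x⁻¹ * (x * u * x⁻¹) * x⁻¹⁻¹ = u := by group
    rwa [e] at this
  rw [← card_map_conj R x]
  apply hU.card_cent_le S.isPGroup' (hxS u (hP huR)) h1
  · calc x * u * x⁻¹ * (x * u * x⁻¹) = x * (u * u) * x⁻¹ := by group
      _ = 1 := by rw [hu2]; group
  · rintro _ ⟨y, hy, rfl⟩
    exact hxS y (hP hy)
  · rintro _ ⟨y, hy, rfl⟩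
    change x * y * x⁻¹ * (x * u * x⁻¹) = x * u * x⁻¹ * (x * y * x⁻¹)
    calc x * y * x⁻¹ * (x * u * x⁻¹) = x * (y * u) * x⁻¹ := by group
      _ = x * u * x⁻¹ * (x * y * x⁻¹) := by rw [hc y hy]; group

/-- A 2-subgroup containing `Z` centralises `Z`. -/
theorem comm_of_isPGroup {R : Subgroup G} (hR : IsPGroup 2 R) (hZR : R₁ ⊓ R₂ ≤ R) :
    ∀ z ∈ R₁ ⊓ R₂, ∀ r ∈ R, z * r = r * z := by
  haveI : Fact (Nat.Prime 2) := ⟨Nat.prime_two⟩
  obtain ⟨P, hP⟩ := hR.exists_le_sylow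
  obtain ⟨x, hx⟩ := MulAction.exists_smul_eq G P S
  have hxS : ∀ y ∈ (P : Subgroup G), x * y * x⁻¹ ∈ (S : Subgroup G) := by
    intro y hy
    rw [← hx]
    exact ⟨y, hy, rfl⟩
  intro z hz r hr
  have h1 : x * z * x⁻¹ ∈ R₁ ⊓ R₂ := hsc.2 z hz x (hxS z (hP (hZR hz)))
  have h2 := hU.central _ h1 _ (hxS r (hP hr))
  have h3 : x * (z * r) * x⁻¹ = x * (r * z) * x⁻¹ := by
    calc x * (z * r) * x⁻¹ = x * z * x⁻¹ * (x * r * x⁻¹) := by group
      _ = x * (r * z) * x⁻¹ := by rw [h2]; group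
  exact mul_left_cancel (mul_right_cancel h3)

/-- If `w ∈ S` is conjugate to an element `v` of `R₁ ∖ R₂`, it is so under `N(Z)`. -/
theorem exists_conj_normalizer {w g : G} (hwS : w ∈ (S : Subgroup G)) (h1 : g * w * g⁻¹ ∈ R₁)
    (h2 : g * w * g⁻¹ ∉ R₂) :
    ∃ k ∈ normalizer ((R₁ ⊓ R₂ : Subgroup G) : Set G), k * w * k⁻¹ = g * w * g⁻¹ := by
  haveI : Fact (Nat.Prime 2) := ⟨Nat.prime_two⟩
  set v := g * w * g⁻¹ with hv
  have hvZ : v ∉ R₁ ⊓ R₂ := fun h => h2 (mem_inf.1 h).2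
  have hvS : v ∈ (S : Subgroup G) := hU.le (hU.ab.A_le h1)
  have hRle : R₁ ≤ centralizer ({v} : Set G) := by
    intro r hr
    rw [mem_centralizer_singleton_iff]
    exact hU.ab.A_comm r hr v h1
  have hRp : IsPGroup 2 R₁ := S.isPGroup'.to_le (hU.ab.A_le.trans hU.le)
  obtain ⟨R, hR1, hR2, hR3, hR4⟩ := exists_sylow_in (p := 2) hRle hRp
  have hcard := card_le_sixteen hU hsc hvS hvZ (hU.ab.A_sq v h1) hR3 (hR1 h1)
    (fun x hx => mem_centralizer_singleton_iff.1 (hR2 hx))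
  have hRR : R₁ = R := Subgroup.eq_of_le_of_card_ge hR1 (by rw [hU.card1]; exact hcard)
  rw [← hRR] at hR4
  have hD : (R₁ ⊓ R₂).map (MulAut.conj g).toMonoidHom ≤ centralizer ({v} : Set G) := by
    rintro _ ⟨z, hz, rfl⟩
    rw [mem_centralizer_singleton_iff]
    have h3 := hU.central z hz w hwS
    change g * z * g⁻¹ * v = v * (g * z * g⁻¹)
    calc g * z * g⁻¹ * v = g * (z * w) * g⁻¹ := by rw [hv]; group
      _ = v * (g * z * g⁻¹) := by rw [h3, hv]; group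
  obtain ⟨c, hc, hcle⟩ := exists_conj_le_in (p := 2) hRp hR4 hD
    ((S.isPGroup'.to_le hU.Z_le).map _)
  rw [map_conj_map_conj] at hcle
  refine ⟨c * g, ?_, ?_⟩
  · rw [mem_normalizer_iff_map_conj]
    apply map_conj_le_of_le_normalizer
    rintro _ ⟨z, hz, rfl⟩
    exact hsc.2 z hz (c * g) (hU.le (hU.ab.A_le (hcle ⟨z, hz, rfl⟩)))
  · have h3 := mem_centralizer_singleton_iff.1 hc
    calc c * g * w * (c * g)⁻¹ = (c * v) * c⁻¹ := by rw [hv]; group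
      _ = v := by rw [h3]; group

/-- `T` is a Sylow 2-subgroup of the stabiliser of `Z v`, `v ∈ R₁ ∖ R₂`. -/
theorem not_dvd_relIndex {v : G} (h1 : v ∈ R₁) (h2 : v ∉ R₂) :
    T ≤ cosetStab (R₁ ⊓ R₂) v ∧ ¬ 2 ∣ T.relIndex (cosetStab (R₁ ⊓ R₂) v) := by
  haveI : Fact (Nat.Prime 2) := ⟨Nat.prime_two⟩
  have hvZ : v ∉ R₁ ⊓ R₂ := fun h => h2 (mem_inf.1 h).2
  have hvT : v ∈ T := hU.ab.A_le h1
  have hTM : T ≤ cosetStab (R₁ ⊓ R₂) v := fun t ht =>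
    ⟨hU.ab.S_le_normalizer_Z ht, hU.ab.comm_mem ht hvT⟩
  refine ⟨hTM, ?_⟩
  obtain ⟨R, hR1, hR2, hR3, hR4⟩ := exists_sylow_in (p := 2) hTM (S.isPGroup'.to_le hU.le)
  have hcomm := comm_of_isPGroup hU hsc hR3 (hU.ab.Z_le.trans hR1)
  let ψ : R →* (R₁ ⊓ R₂ : Subgroup G) :=
    { toFun := fun r => ⟨(r : G) * v * (r : G)⁻¹ * v⁻¹, (hR2 r.2).2⟩
      map_one' := Subtype.ext (by simp)
      map_mul' := by
        intro x y
        apply Subtype.ext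
        change (x : G) * y * v * ((x : G) * y)⁻¹ * v⁻¹ =
          ((x : G) * v * (x : G)⁻¹ * v⁻¹) * ((y : G) * v * (y : G)⁻¹ * v⁻¹)
        have h3 := hcomm _ (hR2 y.2).2 x x.2
        have h4 := hcomm _ (hR2 y.2).2 ((x : G) * v * (x : G)⁻¹ * v⁻¹) (hR1 (hU.ab.Z_le (hR2 x.2).2))
        calc (x : G) * y * v * ((x : G) * y)⁻¹ * v⁻¹
            = x * ((y : G) * v * (y : G)⁻¹ * v⁻¹) * (v * (x : G)⁻¹ * v⁻¹) := by group
          _ = ((y : G) * v * (y : G)⁻¹ * v⁻¹) * ((x : G) * v * (x : G)⁻¹ * v⁻¹) := by rw [← h3]; group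
          _ = _ := h4 }
  have hψ : ∀ x : R, ((ψ x : (R₁ ⊓ R₂ : Subgroup G)) : G) = (x : G) * v * (x : G)⁻¹ * v⁻¹ := fun _ => rfl
  have hker : Nat.card ψ.ker ≤ 16 := by
    have h3 : Nat.card (ψ.ker.map R.subtype) ≤ 16 := by
      apply card_le_sixteen hU hsc (hU.le hvT) hvZ (hU.ab.A_sq v h1)
      · exact hR3.to_le (Subgroup.map_subtype_le _)
      · refine ⟨⟨v, hR1 hvT⟩, ?_, rfl⟩
        rw [SetLike.mem_coe, MonoidHom.mem_ker]
        apply Subtype.ext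
        rw [hψ]; simp
      · rintro _ ⟨x, hx, rfl⟩
        have h4 : (x : G) * v * (x : G)⁻¹ * v⁻¹ = 1 := by
          rw [← hψ, MonoidHom.mem_ker.1 hx]; rfl
        change (x : G) * v = v * x
        calc (x : G) * v = (x : G) * v * (x : G)⁻¹ * v⁻¹ * (v * x) := by group
          _ = v * x := by rw [h4, one_mul]
    rwa [Subgroup.card_map_of_injective R.subtype_injective] at h3
  have hrange : Nat.card ψ.range ≤ 4 := by
    rw [← hU.cardZ]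
    exact Subgroup.card_le_card_group _
  have hcard : Nat.card R = Nat.card ψ.ker * Nat.card ψ.range := by
    rw [← Subgroup.index_ker, Subgroup.card_mul_index]
  have hle : Nat.card R ≤ 64 := by
    rw [hcard]
    calc Nat.card ψ.ker * Nat.card ψ.range ≤ 16 * 4 := Nat.mul_le_mul hker hrange
      _ = 64 := by norm_num
  have hTR : T = R := Subgroup.eq_of_le_of_card_ge hR1 (by rw [hU.card_T]; exact hle)
  rw [← hTR] at hR4
  exact hR4

/-- **`T = S`.** -/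
theorem eq_of_no_index_two (hidx : ∀ K : Subgroup G, K.index ≠ 2) {n : G}
    (hn : n ∈ normalizer ((R₁ ⊓ R₂ : Subgroup G) : Set G))
    (hfix : ∀ a ∈ R₁ ⊓ R₂, n * a * n⁻¹ = a → a = 1) : T = S := by
  haveI : Fact (Nat.Prime 2) := ⟨Nat.prime_two⟩
  by_contra hTS
  have hS := S.isPGroup'
  obtain ⟨w, hw, hwT, hw2⟩ := exists_involution hU hn hfix hTS
  have hsw := hU.swap' hS hw hwT
  -- transfer
  have hrel : T.relIndex (S : Subgroup G) = 2 := by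
    rw [relIndex, Subgroup.index_eq_two_iff]
    refine ⟨⟨w, hw⟩, fun b => ?_⟩
    rw [mem_subgroupOf, mem_subgroupOf]
    change Xor ((b : G) * w ∈ T) ((b : G) ∈ T)
    by_cases hb : (b : G) ∈ T
    · exact Or.inr ⟨hb, fun h1 => hwT (by simpa using mul_mem (inv_mem hb) h1)⟩
    · exact Or.inl ⟨hU.mul_mem' hS b.2 hb hw hwT, hb⟩
  obtain ⟨g, hg⟩ : ∃ g : G, g * w * g⁻¹ ∈ T := by
    rcases Cfsg.Agent.Transfer.ThompsonTransfer.thompson_transfer S T hU.le hrel w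
      (by rw [pow_two]; exact hw2) with ⟨K, _, hK, _⟩ | h1
    · exact absurd hK (hidx K)
    · exact h1
  have hgZ : g * w * g⁻¹ ∉ R₁ ⊓ R₂ := by
    intro h1
    apply hwT
    have e : g⁻¹ * (g * w * g⁻¹) * g⁻¹⁻¹ = w := by group
    have := hsc.2 _ h1 g⁻¹ (by rw [e]; exact hw)
    rw [e] at this
    exact hU.ab.Z_le this
  have hg2 : g * w * g⁻¹ * (g * w * g⁻¹) = 1 := by
    calc g * w * g⁻¹ * (g * w * g⁻¹) = g * (w * w) * g⁻¹ := by group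
      _ = 1 := by rw [hw2]; group
  -- without loss of generality the conjugate lies in `R₁`
  obtain ⟨g, hg1, hg2⟩ : ∃ g : G, g * w * g⁻¹ ∈ R₁ ∧ g * w * g⁻¹ ∉ R₂ := by
    rcases hU.ab.inv _ hg hg2 with h1 | h1
    · exact ⟨g, h1, fun h2 => hgZ (mem_inf.2 ⟨h1, h2⟩)⟩
    · refine ⟨w * g, ?_, ?_⟩
      · have h3 := hsw.2 _ h1
        have e : w * g * w * (w * g)⁻¹ = w * (g * w * g⁻¹) * w⁻¹ := by group
        rw [e]; exact h3
      · intro h3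
        have h4 := hsw.2 _ h3
        have e : w * (w * g * w * (w * g)⁻¹) * w⁻¹ = g * w * g⁻¹ := by
          calc w * (w * g * w * (w * g)⁻¹) * w⁻¹ = (w * w) * (g * w * g⁻¹) * (w * w)⁻¹ := by group
            _ = g * w * g⁻¹ := by rw [hw2]; group
        rw [e] at h4
        exact hgZ (mem_inf.2 ⟨h4, h1⟩)
  obtain ⟨k, hkZ, hk⟩ := exists_conj_normalizer hU hsc hw hg1 hg2
  rw [← hk] at hg1 hg2
  clear hk hg hgZ
  set v := k * w * k⁻¹ with hv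
  have hvv : v * v = 1 := hU.ab.A_sq v hg1
  obtain ⟨hTM, hTi⟩ := not_dvd_relIndex hU hsc hg1 hg2
  -- the group `D = N_T(Z⟨w⟩)`
  set D : Subgroup G := T ⊓ cosetStab (R₁ ⊓ R₂) w with hD
  have hDM : D.map (MulAut.conj k).toMonoidHom ≤ cosetStab (R₁ ⊓ R₂) v := by
    rintro _ ⟨t, ht, rfl⟩
    obtain ⟨-, ht1, ht2⟩ := mem_inf.1 ht
    refine ⟨mul_mem (mul_mem hkZ ht1) (inv_mem hkZ), ?_⟩
    have h3 := (mem_normalizer_iff.1 hkZ _).1 ht2
    change k * t * k⁻¹ * v * (k * t * k⁻¹)⁻¹ * v⁻¹ ∈ R₁ ⊓ R₂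
    have e : k * t * k⁻¹ * v * (k * t * k⁻¹)⁻¹ * v⁻¹ = k * (t * w * t⁻¹ * w⁻¹) * k⁻¹ := by
      rw [hv]; group
    rw [e]; exact h3
  have hDp : IsPGroup 2 D := hS.to_le (inf_le_left.trans hU.le)
  obtain ⟨m, hm, hmle⟩ := exists_conj_le_in (p := 2) (hS.to_le hU.le) hTi hDM (hDp.map _)
  rw [map_conj_map_conj] at hmle
  -- the new conjugating element `l = m k`
  have hlZ : m * k ∈ normalizer ((R₁ ⊓ R₂ : Subgroup G) : Set G) := mul_mem hm.1 hkZ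
  set l := m * k with hl
  set u := l * w * l⁻¹ with hu
  have huv : ∃ z ∈ R₁ ⊓ R₂, u = z * v := by
    refine ⟨m * v * m⁻¹ * v⁻¹, hm.2, ?_⟩
    rw [hu, hl, hv]; group
  have hu1 : u ∈ R₁ := by
    obtain ⟨z, hz, e⟩ := huv
    rw [e]; exact mul_mem (mem_inf.1 hz).1 hg1
  have hu2 : u ∉ R₂ := by
    obtain ⟨z, hz, e⟩ := huv
    intro h1
    apply hg2
    have e' : v = z⁻¹ * u := by rw [e]; group
    rw [e']; exact mul_mem (inv_mem (mem_inf.1 hz).2) h1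
  -- the elements `r r^w`
  have hinv : ∀ r ∈ R₁, w * (r * (w * r * w⁻¹)) * w⁻¹ = (r * (w * r * w⁻¹))⁻¹ := by
    intro r hr
    have h1 := hsw.1 r hr
    rw [mul_inv_rev, Up.inv_eq (hU.ab.A_sq r hr), Up.inv_eq (hU.ab.B_sq _ h1)]
    calc w * (r * (w * r * w⁻¹)) * w⁻¹ = (w * r * w⁻¹) * ((w * w) * r * (w * w)⁻¹) := by group
      _ = w * r * w⁻¹ * r := by rw [hw2]; group
  have hmemD : ∀ r ∈ R₁, r * (w * r * w⁻¹) ∈ D := by
    intro r hr
    have h1 := hsw.1 r hr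
    have hT1 : r * (w * r * w⁻¹) ∈ T := mul_mem (hU.ab.A_le hr) (hU.ab.B_le h1)
    refine mem_inf.2 ⟨hT1, hU.ab.S_le_normalizer_Z hT1, ?_⟩
    have e : r * (w * r * w⁻¹) * w * (r * (w * r * w⁻¹))⁻¹ * w⁻¹ =
        r * (w * r * w⁻¹) * (w * (r * (w * r * w⁻¹)) * w⁻¹)⁻¹ := by group
    rw [e, hinv r hr, inv_inv]
    have h3 := hU.ab.comm_mem (hU.ab.A_le hr) (hU.ab.B_le h1)
    rw [Up.inv_eq (hU.ab.A_sq r hr), Up.inv_eq (hU.ab.B_sq _ h1)] at h3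
    have e2 : r * (w * r * w⁻¹) * (r * (w * r * w⁻¹)) = r * (w * r * w⁻¹) * r * (w * r * w⁻¹) := by group
    rw [e2]; exact h3
  have key : ∀ r ∈ R₁, r ∉ R₂ → ∃ b ∈ R₂, l * (r * (w * r * w⁻¹)) * l⁻¹ = u * b := by
    intro r hr hr2
    have h1 := hsw.1 r hr
    have hf : l * (r * (w * r * w⁻¹)) * l⁻¹ ∈ T := hmle ⟨_, hmemD r hr, rfl⟩
    obtain ⟨a, ha, b, hb, hab⟩ := hU.ab.prod _ hf
    -- `u` inverts `a b`
    have e1 : u * (a * b) * u⁻¹ = (a * b)⁻¹ := by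
      rw [hab, hu]
      calc l * w * l⁻¹ * (l * (r * (w * r * w⁻¹)) * l⁻¹) * (l * w * l⁻¹)⁻¹
          = l * (w * (r * (w * r * w⁻¹)) * w⁻¹) * l⁻¹ := by group
        _ = (l * (r * (w * r * w⁻¹)) * l⁻¹)⁻¹ := by rw [hinv r hr]; group
    have e2 : (a * u) * b = b * (a * u) := by
      have hua : u * a = a * u := hU.ab.A_comm u hu1 a ha
      rw [mul_inv_rev a b, Up.inv_eq (hU.ab.A_sq a ha), Up.inv_eq (hU.ab.B_sq b hb)] at e1
      calc (a * u) * b = (u * a) * b := by rw [hua]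
        _ = (u * (a * b) * u⁻¹) * u := by group
        _ = b * (a * u) := by rw [e1]; group
    by_cases hbR : b ∈ R₁
    · exfalso
      -- then `r r^w` is an involution
      have h3 : l * (r * (w * r * w⁻¹)) * l⁻¹ ∈ R₁ := by rw [← hab]; exact mul_mem ha hbR
      have h4 := hU.ab.A_sq _ h3
      have h5 : (r * (w * r * w⁻¹)) * (r * (w * r * w⁻¹)) = 1 := by
        calc (r * (w * r * w⁻¹)) * (r * (w * r * w⁻¹)) =
            l⁻¹ * (l * (r * (w * r * w⁻¹)) * l⁻¹ * (l * (r * (w * r * w⁻¹)) * l⁻¹)) * l := by group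
          _ = 1 := by rw [h4]; group
      have h6 : r * (w * r * w⁻¹) = (w * r * w⁻¹) * r := by
        have h7 := inv_eq_of_mul_eq_one_right h5
        rw [mul_inv_rev, Up.inv_eq (hU.ab.A_sq r hr), Up.inv_eq (hU.ab.B_sq _ h1)] at h7
        exact h7.symm
      have h7 := hU.ab.centA r hr hr2 _ (hU.ab.B_le h1) h6
      have h8 := hsw.1 _ h7
      have e : w * (w * r * w⁻¹) * w⁻¹ = r := by
        calc w * (w * r * w⁻¹) * w⁻¹ = (w * w) * r * (w * w)⁻¹ := by group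
          _ = r := by rw [hw2]; group
      rw [e] at h8
      exact hr2 h8
    · have h3 : a * u ∈ R₂ := hU.ab.centB b hb hbR _ (mul_mem (hU.ab.A_le ha) (hU.ab.A_le hu1)) e2.symm
      refine ⟨u⁻¹ * a * b, ?_, by rw [← hab]; group⟩
      apply mul_mem _ hb
      have hua : u * a = a * u := hU.ab.A_comm u hu1 a ha
      rw [Up.inv_eq (hU.ab.A_sq u hu1), hua]
      exact h3
  -- choose `r₁, r₂`
  obtain ⟨r₁, hr₁, r₂, hr₂, h1, h2, h12⟩ : ∃ r₁ ∈ R₁, ∃ r₂ ∈ R₁, r₁ ∉ R₂ ∧ r₂ ∉ R₂ ∧ r₁ * r₂ ∉ R₂ := by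
    by_contra hcon
    push Not at hcon
    have hidx2 : (R₂.subgroupOf R₁).index = 2 := by
      rw [Subgroup.index_eq_two_iff]
      refine ⟨⟨u, hu1⟩, fun b => ?_⟩
      rw [mem_subgroupOf, mem_subgroupOf]
      change Xor ((b : G) * u ∈ R₂) ((b : G) ∈ R₂)
      by_cases hb : (b : G) ∈ R₂
      · exact Or.inr ⟨hb, fun h1 => hu2 (by simpa using mul_mem (inv_mem hb) h1)⟩
      · exact Or.inl ⟨hcon _ b.2 _ hu1 hb hu2, hb⟩
    have h3 := (R₂.subgroupOf R₁).card_mul_index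
    have h4 : Nat.card (R₂.subgroupOf R₁) = 4 := by
      rw [← hU.cardZ, ← Nat.card_congr (Subgroup.subgroupOfEquivOfLe (inf_le_left : R₁ ⊓ R₂ ≤ R₁)).toEquiv]
      congr 1
      rw [inf_subgroupOf_left]
    rw [h4, hidx2, hU.card1] at h3
    omega
  obtain ⟨b₁, hb₁, e₁⟩ := key r₁ hr₁ h1
  obtain ⟨b₂, hb₂, e₂⟩ := key r₂ hr₂ h2
  obtain ⟨b₃, hb₃, e₃⟩ := key (r₁ * r₂) (mul_mem hr₁ hr₂) h12
  have h1' := hsw.1 r₁ hr₁
  have h2' := hsw.1 r₂ hr₂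
  -- `t₁ t₂ = z t₃`
  obtain ⟨z, hz, hzc⟩ := hU.ab.exists_comm (hU.ab.B_le h1') (hU.ab.A_le hr₂)
  have e4 : r₁ * (w * r₁ * w⁻¹) * (r₂ * (w * r₂ * w⁻¹)) =
      z * (r₁ * r₂ * (w * (r₁ * r₂) * w⁻¹)) := by
    have hz1 := hU.ab.comm_Z hz (mul_mem (hU.ab.A_le hr₁) (hU.ab.A_le hr₂))
    have hz2 := hU.ab.comm_Z hz (hU.ab.B_le h1')
    calc r₁ * (w * r₁ * w⁻¹) * (r₂ * (w * r₂ * w⁻¹))
        = r₁ * ((w * r₁ * w⁻¹) * r₂) * (w * r₂ * w⁻¹) := by group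
      _ = r₁ * (r₂ * (w * r₁ * w⁻¹) * z) * (w * r₂ * w⁻¹) := by rw [hzc]
      _ = r₁ * r₂ * ((w * r₁ * w⁻¹) * z) * (w * r₂ * w⁻¹) := by group
      _ = (r₁ * r₂) * z * (w * r₁ * w⁻¹) * (w * r₂ * w⁻¹) := by rw [← hz2]; group
      _ = z * (r₁ * r₂ * (w * (r₁ * r₂) * w⁻¹)) := by rw [← hz1]; group
  have e5 : u * b₁ * (u * b₂) = (l * z * l⁻¹) * (u * b₃) := by
    rw [← e₁, ← e₂, ← e₃]
    calc l * (r₁ * (w * r₁ * w⁻¹)) * l⁻¹ * (l * (r₂ * (w * r₂ * w⁻¹)) * l⁻¹)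
        = l * (r₁ * (w * r₁ * w⁻¹) * (r₂ * (w * r₂ * w⁻¹))) * l⁻¹ := by group
      _ = _ := by rw [e4]; group
  have hlz : l * z * l⁻¹ ∈ R₁ ⊓ R₂ := (mem_normalizer_iff.1 hlZ _).1 hz
  have huu : u * u = 1 := hU.ab.A_sq u hu1
  have h6 : u * b₁ * (u * b₂) ∈ R₂ := by
    have h7 : u * b₁ * u⁻¹ ∈ R₂ := hU.ab.conj_mem inf_le_right hU.ab.B_le (hU.ab.A_le hu1) hb₁
    have e6 : u * b₁ * (u * b₂) = (u * b₁ * u⁻¹) * b₂ := by
      rw [Up.inv_eq huu]; group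
    rw [e6]; exact mul_mem h7 hb₂
  rw [e5] at h6
  apply hu2
  have e7 : u = (l * z * l⁻¹)⁻¹ * (l * z * l⁻¹ * (u * b₃)) * b₃⁻¹ := by group
  rw [e7]
  exact mul_mem (mul_mem (inv_mem (mem_inf.1 hlz).2) h6) (inv_mem hb₃)

end Main


end Cfsg.Agent.TwoFusion.GoldLFourUp
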