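import Mathlib
import Cfsg.Agent.TwoFusion.GoldLFourUp
import Cfsg.Agent.TypeL3.Control
import Cfsg.Agent.Lib.EssentialFusion

/-!
# Goldschmidt's theorem, `|A| = 4`: recognition of the subgroups of type `PSL(3,4)`

`exists_up`: if the centralizers in `S` of the involutions outside `A` have order at most 16 and `P = C_S(u)` is
elementary of order 16, different from `S`, then `T = N_S(P)` is of type `PSL(3,4)`.
-/

set_option autoImplicit false

namespace Cfsg.Agent.TwoFusion.GoldFourUpIn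

open Subgroup
open Cfsg.Agent.Lib.GoldschmidtFusion

variable {G : Type*} [Group G] [Finite G]

section Loc

variable {S A P : Subgroup G}

/-- the hypotheses on `P` -/
structure Hyp (S A P : Subgroup G) : Prop where
  AP : A ≤ P
  PS : P ≤ S
  A4 : Nat.card A = 4
  P16 : Nat.card P = 16
  sq : ∀ x ∈ P, x * x = 1
  cen : ∀ a ∈ A, ∀ s ∈ S, a * s = s * a
  c : ∀ u ∈ P, u ∉ A → ∀ s ∈ S, s * u = u * s → s ∈ P

theorem Hyp.inv (h : Hyp S A P) {x : G} (hx : x ∈ P) : x⁻¹ = x := inv_eq_of_mul_eq_one_left (h.sq x hx)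

theorem Hyp.comm (h : Hyp S A P) {x y : G} (hx : x ∈ P) (hy : y ∈ P) : x * y = y * x := by
  have h1 := h.inv (mul_mem hx hy)
  rw [mul_inv_rev, h.inv hx, h.inv hy] at h1
  exact h1.symm

theorem Hyp.conjA (h : Hyp S A P) {a s : G} (ha : a ∈ A) (hs : s ∈ S) : s * a * s⁻¹ = a := by
  rw [← h.cen a ha s hs, mul_inv_cancel_right]

theorem Hyp.exists_not_mem (h : Hyp S A P) : ∃ g ∈ P, g ∉ A := by
  by_contra hcon
  push Not at hcon
  have h1 := Subgroup.card_le_of_le (show P ≤ A from hcon)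
  rw [h.A4, h.P16] at h1
  omega

/-- the four cosets -/
theorem Hyp.cosets (h : Hyp S A P) {g g' : G} (hg : g ∈ P) (hgA : g ∉ A) (hg' : g' ∈ P) (hgA' : g' ∉ A)
    (hgg : g' * g ∉ A) {p : G} (hp : p ∈ P) : p ∈ A ∨ p * g ∈ A ∨ p * g' ∈ A ∨ p * (g' * g) ∈ A := by
  classical
  let f : A × Bool × Bool → P := fun x =>
    ⟨x.1 * ((if x.2.1 then g else 1) * (if x.2.2 then g' else 1)), mul_mem (h.AP x.1.2) (mul_mem (by
      split_ifs
      · exact hg
      · exact one_mem _) (by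
      split_ifs
      · exact hg'
      · exact one_mem _))⟩
  have hfi : Function.Injective f := by
    rintro ⟨a, b, c⟩ ⟨a', b', c'⟩ e
    have e1 : (a : G) * ((if b then g else 1) * (if c then g' else 1)) =
        (a' : G) * ((if b' then g else 1) * (if c' then g' else 1)) := congrArg Subtype.val e
    have e2 : (a' : G)⁻¹ * a = ((if b' then g else 1) * (if c' then g' else 1)) *
        ((if b then g else 1) * (if c then g' else 1))⁻¹ := by
      have e3 : (a : G) = (a' : G) * ((if b' then g else 1) * (if c' then g' else 1)) *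
          ((if b then g else 1) * (if c then g' else 1))⁻¹ := by
        rw [← e1]; group
      rw [e3]; group
    have hA : ((if b' then g else 1) * (if c' then g' else 1)) *
        ((if b then g else 1) * (if c then g' else 1))⁻¹ ∈ A := by
      rw [← e2]; exact mul_mem (inv_mem a'.2) a.2
    have hgi := h.inv hg
    have hgi' := h.inv hg'
    have hgg2 : g * g' ∉ A := by rw [h.comm hg hg']; exact hgg
    have hi : ∀ z ∈ P, z ∉ A → z⁻¹ ∉ A := fun z _ hz hz' => hz (by simpa using inv_mem hz')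
    have hbc : b = b' ∧ c = c' := by
      have h1 := h.sq g hg
      have h2 := h.sq g' hg'
      have h3 : g * g' * g ∉ A := by
        rw [mul_assoc, h.comm hg' hg, ← mul_assoc, h1, one_mul]; exact hgA'
      have h4 : g * (g' * g) ∉ A := by rw [← mul_assoc]; exact h3
      have h5 : g * g' * g' ∉ A := by rw [mul_assoc, h2, mul_one]; exact hgA
      have h6 : g' * (g' * g) ∉ A := by rw [← mul_assoc, h2, one_mul]; exact hgA
      have h7 : g' * g * g ∉ A := by rw [mul_assoc, h1, mul_one]; exact hgA'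
      have h8 : g' * g * g' ∉ A := by rw [mul_assoc, ← h.comm hg' hg]; exact h6
      rcases b <;> rcases b' <;> rcases c <;> rcases c' <;>
        simp_all
    obtain ⟨rfl, rfl⟩ := hbc
    have e3 : a = a' := Subtype.ext (mul_right_cancel e1)
    rw [e3]
  have hcard : Nat.card (A × Bool × Bool) = Nat.card P := by
    rw [Nat.card_prod, Nat.card_prod, h.A4, h.P16]
    simp
  have hsurj := ((Nat.bijective_iff_injective_and_card f).2 ⟨hfi, hcard⟩).2
  obtain ⟨⟨a, b, c⟩, e⟩ := hsurj ⟨p, hp⟩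
  have e1 : (a : G) * ((if b then g else 1) * (if c then g' else 1)) = p := congrArg Subtype.val e
  have h1 := h.sq g hg
  have h2 := h.sq g' hg'
  rcases b <;> rcases c
  · left
    simp only [Bool.false_eq_true, ↓reduceIte, mul_one] at e1
    rw [← e1]; exact a.2
  · right; right; left
    simp only [Bool.false_eq_true, ↓reduceIte, one_mul] at e1
    rw [← e1, mul_assoc, h2, mul_one]; exact a.2
  · right; left
    simp only [Bool.false_eq_true, ↓reduceIte, mul_one] at e1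
    rw [← e1, mul_assoc, h1, mul_one]; exact a.2
  · right; right; right
    simp only [↓reduceIte] at e1
    have e2 : p * (g' * g) = a := by
      rw [← e1]
      calc (a : G) * (g * g') * (g' * g) = a * (g * (g' * g') * g) := by group
        _ = a := by rw [h2, mul_one, h1, mul_one]
    rw [e2]; exact a.2

/-- a 2-element normalizing `P` fixes a coset of `A` -/
theorem Hyp.exists_fixed (h : Hyp S A P) (hS : IsPGroup 2 S) {n : G} (hn : n ∈ S)
    (hnP : ∀ p ∈ P, n * p * n⁻¹ ∈ P) : ∃ g ∈ P, g ∉ A ∧ n * g * n⁻¹ * g ∈ A := by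
  by_contra hcon
  push Not at hcon
  obtain ⟨g, hg, hgA⟩ := h.exists_not_mem
  have hnA : ∀ a ∈ A, n * a * n⁻¹ ∈ A := fun a ha => by rw [h.conjA ha hn]; exact ha
  have hout : ∀ z ∈ P, z ∉ A → n * z * n⁻¹ ∉ A := by
    intro z hz hzA hc
    apply hzA
    have h1 : n⁻¹ * (n * z * n⁻¹) * n⁻¹⁻¹ = n * z * n⁻¹ := h.conjA hc (inv_mem hn)
    have h2 : n⁻¹ * (n * z * n⁻¹) * n⁻¹⁻¹ = z := by group
    rw [← h2, h1]; exact hc
  set g' := n * g * n⁻¹ with hg'd
  have hg' : g' ∈ P := hnP g hg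
  have hgA' : g' ∉ A := hout g hg hgA
  have hgg : g' * g ∉ A := hcon g hg hgA
  set k := n * g' * n⁻¹ with hkd
  have hk : k ∈ P := hnP g' hg'
  have hkA : k ∉ A := hout g' hg' hgA'
  have hkg' : k * g' ∉ A := hcon g' hg' hgA'
  have hkg : k * g ∉ A := by
    intro hc
    apply hcon (g' * g) (mul_mem hg' hg) hgg
    have e : n * (g' * g) * n⁻¹ * (g' * g) = k * g := by
      calc n * (g' * g) * n⁻¹ * (g' * g) = (n * g' * n⁻¹) * ((n * g * n⁻¹) * g') * g := by group
        _ = k * (g' * g') * g := by rw [← hg'd, ← hkd]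
        _ = k * g := by rw [h.sq g' hg', mul_one]
    rw [e]; exact hc
  have hkc : k * (g' * g) ∈ A := by
    rcases h.cosets hg hgA hg' hgA' hgg hk with h1 | h1 | h1 | h1
    · exact absurd h1 hkA
    · exact absurd h1 hkg
    · exact absurd h1 hkg'
    · exact h1
  -- `n ^ 3` fixes the coset of `g`
  have h3 : n * k * n⁻¹ * g ∈ A := by
    have h4 := hnA _ hkc
    have e : n * (k * (g' * g)) * n⁻¹ = (n * k * n⁻¹ * g) * (g * k * g') := by
      calc n * (k * (g' * g)) * n⁻¹ = (n * k * n⁻¹) * ((n * g' * n⁻¹) * (n * g * n⁻¹)) := by group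
        _ = (n * k * n⁻¹) * (k * g') := by rw [← hg'd, ← hkd]
        _ = (n * k * n⁻¹) * ((g * g) * (k * g')) := by rw [h.sq g hg, one_mul]
        _ = (n * k * n⁻¹ * g) * (g * k * g') := by group
    rw [e] at h4
    have h5 : g * k * g' ∈ A := by
      have : g * k * g' = k * (g' * g) := by
        rw [h.comm hg hk, mul_assoc, h.comm hg hg']
      rw [this]; exact hkc
    exact (Subgroup.mul_mem_cancel_right _ h5).1 h4
  have hn3 : n ^ 3 * g * (n ^ 3)⁻¹ * g ∈ A := by
    have e : n ^ 3 * g * (n ^ 3)⁻¹ = n * k * n⁻¹ := by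
      rw [hkd, hg'd, pow_succ, pow_two]; group
    rw [e]; exact h3
  have hiter : ∀ m : ℕ, (n ^ 3) ^ m * g * ((n ^ 3) ^ m)⁻¹ * g ∈ A := by
    intro m
    induction m with
    | zero => simpa using (show g * g ∈ A by rw [h.sq g hg]; exact one_mem _)
    | succ m ih =>
      have h4 : n ^ 3 * ((n ^ 3) ^ m * g * ((n ^ 3) ^ m)⁻¹ * g) * (n ^ 3)⁻¹ ∈ A := by
        rw [h.conjA ih (pow_mem hn 3)]; exact ih
      have e : (n ^ 3) ^ (m + 1) * g * ((n ^ 3) ^ (m + 1))⁻¹ * g =
          (n ^ 3 * ((n ^ 3) ^ m * g * ((n ^ 3) ^ m)⁻¹ * g) * (n ^ 3)⁻¹) *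
          (n ^ 3 * g * (n ^ 3)⁻¹)⁻¹ * g := by
        rw [pow_succ' (n ^ 3) m]; group
      rw [e]
      have h5 : (n ^ 3 * g * (n ^ 3)⁻¹)⁻¹ * g ∈ A := by
        have e2 : (n ^ 3 * g * (n ^ 3)⁻¹)⁻¹ = n ^ 3 * g * (n ^ 3)⁻¹ := by
          have : n ^ 3 * g * (n ^ 3)⁻¹ = n * k * n⁻¹ := by
            rw [hkd, hg'd, pow_succ, pow_two]; group
          rw [this, h.inv (hnP k hk)]
        rw [e2]; exact hn3
      rw [mul_assoc]
      exact mul_mem h4 h5
  obtain ⟨r, hr⟩ := hS ⟨n, hn⟩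
  have hr' : n ^ 2 ^ r = 1 := by simpa using congrArg Subtype.val hr
  have hcop : (orderOf n).Coprime 3 :=
    Nat.Coprime.coprime_dvd_left (orderOf_dvd_of_pow_eq_one hr') (Nat.Coprime.pow_left r (by norm_num))
  obtain ⟨m, hm⟩ := exists_pow_eq_self_of_coprime hcop.symm
  have h4 := hiter m
  rw [hm] at h4
  exact hgg h4

/-- elements of `N_S(P)` centralize `P / A` -/
theorem Hyp.comm_mem (h : Hyp S A P) (hS : IsPGroup 2 S) {n : G} (hn : n ∈ S)
    (hnP : ∀ p ∈ P, n * p * n⁻¹ ∈ P) {p : G} (hp : p ∈ P) : n * p * n⁻¹ * p ∈ A := by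
  by_cases hnP' : n ∈ P
  · rw [h.comm hnP' hp, mul_inv_cancel_right, h.sq p hp]
    exact one_mem _
  obtain ⟨g, hg, hgA, hga⟩ := h.exists_fixed hS hn hnP
  set a := n * g * n⁻¹ * g with had
  have haP := h.AP hga
  have hng : n * g * n⁻¹ = a * g := by
    rw [had, mul_assoc (n * g * n⁻¹), h.sq g hg, mul_one]
  have haa := h.sq a haP
  have ha1 : a ≠ 1 := by
    intro e
    apply hnP'
    apply h.c g hg hgA n hn
    rw [e, one_mul] at hng
    rwa [mul_inv_eq_iff_eq_mul] at hng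
  have hn2 : n * n ∈ P := by
    apply h.c g hg hgA _ (mul_mem hn hn)
    have e : n * n * g * (n * n)⁻¹ = g := by
      calc n * n * g * (n * n)⁻¹ = n * (n * g * n⁻¹) * n⁻¹ := by group
        _ = n * (a * g) * n⁻¹ := by rw [hng]
        _ = (n * a * n⁻¹) * (n * g * n⁻¹) := by group
        _ = a * (a * g) := by rw [h.conjA hga hn, hng]
        _ = g := by rw [← mul_assoc, haa, one_mul]
    rwa [mul_inv_eq_iff_eq_mul] at e
  by_contra hcon
  have hpA : p ∉ A := by
    intro hpA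
    apply hcon
    rw [h.conjA hpA hn, h.sq p hp]; exact one_mem _
  have hgp : p * g ∉ A := by
    intro hc
    apply hcon
    have e : n * p * n⁻¹ * p = a := by
      have e1 : n * (p * g) * n⁻¹ = p * g := h.conjA hc hn
      have e2 : n * p * n⁻¹ = p * g * (a * g)⁻¹ := by
        rw [← hng, ← e1]; group
      rw [e2, mul_inv_rev, h.inv haP, h.inv hg, ← mul_assoc, mul_assoc p g g, h.sq g hg, mul_one,
        h.comm hp haP, mul_assoc, h.sq p hp, mul_one]
    rw [e]; exact hga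
  have hk := hnP p hp
  have hout : n * p * n⁻¹ ∉ A := by
    intro hc
    apply hpA
    have h1 : n⁻¹ * (n * p * n⁻¹) * n⁻¹⁻¹ = n * p * n⁻¹ := h.conjA hc (inv_mem hn)
    have h2 : n⁻¹ * (n * p * n⁻¹) * n⁻¹⁻¹ = p := by group
    rw [← h2, h1]; exact hc
  rcases h.cosets hg hgA hp hpA hgp hk with h1 | h1 | h1 | h1
  · exact hout h1
  · -- `n p n⁻¹ ∈ g A`
    apply hgp
    have e : n * (p * g) * n⁻¹ = (n * p * n⁻¹ * g) * a := by
      calc n * (p * g) * n⁻¹ = (n * p * n⁻¹) * (n * g * n⁻¹) := by group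
        _ = (n * p * n⁻¹) * (a * g) := by rw [hng]
        _ = (n * p * n⁻¹) * (g * a) := by rw [h.comm haP hg]
        _ = (n * p * n⁻¹ * g) * a := by group
    have h2 : n * (p * g) * n⁻¹ ∈ A := by rw [e]; exact mul_mem h1 hga
    have h3 : n⁻¹ * (n * (p * g) * n⁻¹) * n⁻¹⁻¹ = n * (p * g) * n⁻¹ := h.conjA h2 (inv_mem hn)
    have h4 : n⁻¹ * (n * (p * g) * n⁻¹) * n⁻¹⁻¹ = p * g := by group
    rw [← h4, h3]; exact h2
  · exact hcon h1
  · -- `n p n⁻¹ ∈ g p A`
    set b := n * p * n⁻¹ * (p * g) with hb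
    have hbP := h.AP h1
    have hnp : n * p * n⁻¹ = b * (p * g) := by
      rw [hb, mul_assoc (n * p * n⁻¹), h.sq (p * g) (mul_mem hp hg), mul_one]
    have e : n * n * p * (n * n)⁻¹ = a * p := by
      calc n * n * p * (n * n)⁻¹ = n * (n * p * n⁻¹) * n⁻¹ := by group
        _ = n * (b * (p * g)) * n⁻¹ := by rw [hnp]
        _ = (n * b * n⁻¹) * ((n * p * n⁻¹) * (n * g * n⁻¹)) := by group
        _ = b * ((b * (p * g)) * (a * g)) := by rw [h.conjA h1 hn, hnp, hng]
        _ = (b * b) * (p * g * (a * g)) := by group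
        _ = p * g * (a * g) := by rw [h.sq b hbP, one_mul]
        _ = p * (g * g * a) := by rw [h.comm haP hg]; group
        _ = p * a := by rw [h.sq g hg, one_mul]
        _ = a * p := h.comm hp haP
    have e2 : n * n * p * (n * n)⁻¹ = p := by
      rw [h.comm hn2 hp, mul_inv_cancel_right]
    rw [e] at e2
    exact ha1 (by simpa using e2)

/-- the squares of `N_S(P)` lie in `A` -/
theorem Hyp.sq_mem (h : Hyp S A P) (hS : IsPGroup 2 S) {n : G} (hn : n ∈ S)
    (hnP : ∀ p ∈ P, n * p * n⁻¹ ∈ P) : n * n ∈ A := by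
  by_cases hnP' : n ∈ P
  · rw [h.sq n hnP']; exact one_mem _
  obtain ⟨g, hg, hgA⟩ := h.exists_not_mem
  have hn2 : n * n ∈ P := by
    apply h.c g hg hgA _ (mul_mem hn hn)
    have h1 := h.comm_mem hS hn hnP hg
    set a := n * g * n⁻¹ * g with had
    have hng : n * g * n⁻¹ = a * g := by
      rw [had, mul_assoc (n * g * n⁻¹), h.sq g hg, mul_one]
    have e : n * n * g * (n * n)⁻¹ = g := by
      calc n * n * g * (n * n)⁻¹ = n * (n * g * n⁻¹) * n⁻¹ := by group
        _ = n * (a * g) * n⁻¹ := by rw [hng]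
        _ = (n * a * n⁻¹) * (n * g * n⁻¹) := by group
        _ = a * (a * g) := by rw [h.conjA h1 hn, hng]
        _ = g := by rw [← mul_assoc, h.sq a (h.AP h1), one_mul]
    rwa [mul_inv_eq_iff_eq_mul] at e
  by_contra hcon
  exact hnP' (h.c _ hn2 hcon n hn (by group))

/-- the commutator with an element of `N_S(P)` outside `P` maps `P` onto `A` -/
theorem Hyp.surj (h : Hyp S A P) (hS : IsPGroup 2 S) {n : G} (hn : n ∈ S)
    (hnP : ∀ p ∈ P, n * p * n⁻¹ ∈ P) (hnP' : n ∉ P) {a : G} (ha : a ∈ A) :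
    ∃ u ∈ P, n * u * n⁻¹ * u = a := by
  let φ : P →* A :=
    { toFun := fun u => ⟨n * u * n⁻¹ * u, h.comm_mem hS hn hnP u.2⟩
      map_one' := Subtype.ext (by simp)
      map_mul' := fun u v => Subtype.ext (by
        change n * (u * v : G) * n⁻¹ * (u * v) = (n * u * n⁻¹ * u) * (n * v * n⁻¹ * v)
        have h1 : (u : G) * (n * v * n⁻¹) = (n * v * n⁻¹) * u := h.comm u.2 (hnP v v.2)
        calc n * (u * v : G) * n⁻¹ * (u * v) = (n * u * n⁻¹) * ((n * v * n⁻¹) * u) * v := by group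
          _ = (n * u * n⁻¹) * (u * (n * v * n⁻¹)) * v := by rw [h1]
          _ = (n * u * n⁻¹ * u) * (n * v * n⁻¹ * v) := by group) }
  have hker : φ.ker = A.subgroupOf P := by
    ext u
    rw [MonoidHom.mem_ker, mem_subgroupOf]
    constructor
    · intro e
      have e1 : n * u * n⁻¹ * u = 1 := congrArg Subtype.val e
      by_contra hu
      apply hnP'
      apply h.c u u.2 hu n hn
      rw [mul_eq_one_iff_eq_inv, h.inv u.2, mul_inv_eq_iff_eq_mul] at e1
      exact e1
    · intro hu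
      apply Subtype.ext
      change n * u * n⁻¹ * u = 1
      rw [h.conjA hu hn, h.sq u u.2]
  have hkc : Nat.card φ.ker = 4 := by
    rw [hker, Nat.card_congr (subgroupOfEquivOfLe h.AP).toEquiv, h.A4]
  have h1 : Nat.card φ.range * Nat.card φ.ker = Nat.card P := by
    rw [← Nat.card_congr (QuotientGroup.quotientKerEquivRange φ).toEquiv]
    exact (Subgroup.card_eq_card_quotient_mul_card_subgroup φ.ker).symm
  rw [hkc, h.P16] at h1
  have h2 : φ.range = ⊤ := by
    apply Subgroup.eq_top_of_card_eq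
    rw [h.A4]; omega
  obtain ⟨u, hu⟩ : (⟨a, ha⟩ : A) ∈ φ.range := by rw [h2]; exact mem_top _
  exact ⟨u, u.2, congrArg Subtype.val hu⟩

end Loc

/-- **Recognition.** -/
theorem exists_up (S : Sylow 2 G) {A P : Subgroup G} (hAP : A ≤ P) (hPS : P ≤ (S : Subgroup G))
    (hne : P ≠ (S : Subgroup G)) (hA4 : Nat.card A = 4) (hP16 : Nat.card P = 16) (hPsq : ∀ x ∈ P, x * x = 1)
    (hAc : ∀ a ∈ A, ∀ s ∈ (S : Subgroup G), a * s = s * a)
    (hcent : ∀ u ∈ (S : Subgroup G), u * u = 1 → u ∉ A → ∀ Q : Subgroup G, Q ≤ (S : Subgroup G) →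
      (∀ q ∈ Q, q * u = u * q) → Nat.card Q ≤ 16)
    (hcent' : ∀ u ∈ (S : Subgroup G), u * u = 1 → u ∉ A → ∀ Q : Subgroup G, Q ≤ (S : Subgroup G) →
      (∀ q ∈ Q, q * u = u * q) → Nat.card Q = 16 → ∀ x ∈ Q, x * x = 1)
    (hsyl : ¬ 2 ∣ ((S : Subgroup G) ⊓ normalizer (P : Set G)).relIndex (normalizer (P : Set G)))
    {x : G} (hx : x ∈ normalizer (P : Set G)) (hxA : x ∈ normalizer (A : Set G))
    (hfix : ∀ a ∈ A, x * a * x⁻¹ = a → a = 1) (hxP : ∀ p ∈ P, x * p * x⁻¹ * p⁻¹ ∈ A) :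
    ∃ T Q : Subgroup G, GoldLFourUp.Up (S : Subgroup G) T P Q ∧ P ⊓ Q = A := by
  classical
  have : Fact (Nat.Prime 2) := ⟨Nat.prime_two⟩
  have hS : IsPGroup 2 (S : Subgroup G) := S.isPGroup'
  have hPcomm : ∀ x ∈ P, ∀ y ∈ P, x * y = y * x := by
    intro x hx y hy
    have h1 : (x * y)⁻¹ = x * y := inv_eq_of_mul_eq_one_left (hPsq _ (mul_mem hx hy))
    rw [mul_inv_rev, inv_eq_of_mul_eq_one_left (hPsq x hx), inv_eq_of_mul_eq_one_left (hPsq y hy)] at h1
    exact h1.symm
  have h : Hyp (S : Subgroup G) A P :=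
    { AP := hAP, PS := hPS, A4 := hA4, P16 := hP16, sq := hPsq, cen := hAc
      c := by
        intro u hu huA s hs hsu
        have h1 : P ≤ (S : Subgroup G) ⊓ centralizer ({u} : Set G) := by
          intro p hp
          exact ⟨hPS hp, mem_centralizer_singleton_iff.2 (hPcomm p hp u hu)⟩
        have h2 : Nat.card ((S : Subgroup G) ⊓ centralizer ({u} : Set G) : Subgroup G) ≤ 16 :=
          hcent u (hPS hu) (hPsq u hu) huA _ inf_le_left fun q hq => mem_centralizer_singleton_iff.1 hq.2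
        have h3 := Subgroup.eq_of_le_of_card_ge h1 (by rw [hP16]; exact h2)
        rw [h3]
        exact ⟨hs, mem_centralizer_singleton_iff.2 hsu⟩ }
  set T : Subgroup G := (S : Subgroup G) ⊓ normalizer (P : Set G) with hT
  have hTS : T ≤ S := inf_le_left
  have hTP : ∀ n ∈ T, ∀ p ∈ P, n * p * n⁻¹ ∈ P := fun n hn p hp => (mem_normalizer_iff.1 hn.2 p).1 hp
  have hPT : P ≤ T := le_inf hPS le_normalizer
  have hmemT : ∀ s ∈ (S : Subgroup G), (∀ p ∈ P, s * p * s⁻¹ ∈ P) → s ∈ T := by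
    intro s hs hsP
    refine Subgroup.mem_inf.2 ⟨hs, ?_⟩
    have h1 : P.map (MulAut.conj s).toMonoidHom ≤ P := by
      rintro _ ⟨p, hp, rfl⟩
      exact hsP p hp
    have h2 : P.map (MulAut.conj s).toMonoidHom = P :=
      Subgroup.eq_of_le_of_card_ge h1 (by rw [card_map_conj])
    rw [mem_normalizer_iff_map_conj]
    exact h2
  have hPltT : P < T := lt_inf_normalizer hS (lt_of_le_of_ne hPS hne)
  have hcm : ∀ n ∈ T, ∀ p ∈ P, n * p * n⁻¹ * p ∈ A := fun n hn p hp => h.comm_mem hS hn.1 (hTP n hn) hp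
  have hsqT : ∀ n ∈ T, n * n ∈ A := fun n hn => h.sq_mem hS hn.1 (hTP n hn)
  have hAT : A ≤ T := hAP.trans hPT
  -- commutators in `T`
  have hcomT : ∀ s ∈ T, ∀ t ∈ T, s * t * s⁻¹ * t⁻¹ ∈ A := by
    intro s hs t ht
    have h1 := hsqT s hs
    have h2 := hsqT t ht
    have h3 := hsqT (s * t) (mul_mem hs ht)
    have e : s * t * s⁻¹ * t⁻¹ = (s * t * (s * t)) * ((t * t)⁻¹ * (t * (s * s)⁻¹ * t⁻¹)) := by group
    rw [e, h.conjA (inv_mem h1) ht.1]
    exact mul_mem h3 (mul_mem (inv_mem h2) (inv_mem h1))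
  -- an involution outside `P`
  obtain ⟨y, hyT, hyP, hyy⟩ : ∃ y ∈ T, y ∉ P ∧ y * y = 1 := by
    obtain ⟨n, hn, hnP⟩ := SetLike.exists_of_lt hPltT
    obtain ⟨u, hu, hua⟩ := h.surj hS hn.1 (hTP n hn) hnP (hsqT n hn)
    refine ⟨u * n, mul_mem (hPT hu) hn, ?_, ?_⟩
    · intro hc
      exact hnP ((Subgroup.mul_mem_cancel_left _ hu).1 hc)
    · have h2 := hsqT n hn
      have h3 : n * u * n⁻¹ = n * n * u := by
        have : n * u * n⁻¹ * u * u = n * n * u := by rw [hua]
        rwa [mul_assoc (n * u * n⁻¹), hPsq u hu, mul_one] at this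
      calc u * n * (u * n) = u * (n * u * n⁻¹) * (n * n) := by group
        _ = u * (n * n * u) * (n * n) := by rw [h3]
        _ = u * ((n * n) * u) * (n * n) := by group
        _ = u * (u * (n * n)) * (n * n) := by rw [hAc _ h2 u (hPS hu)]
        _ = (u * u) * ((n * n) * (n * n)) := by group
        _ = 1 := by rw [hPsq u hu, hPsq _ (hAP h2), mul_one]
  have hyS := hyT.1
  have hyA : y ∉ A := fun hc => hyP (hAP hc)
  -- `|T| ≥ 64`
  have hT64 : 64 ≤ Nat.card T := by
    let R : Subgroup G :=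
      { carrier := {r | r ∈ normalizer (P : Set G) ∧ (∀ a ∈ A, r * a * r⁻¹ = a) ∧ ∀ p ∈ P, r * p * r⁻¹ * p ∈ A}
        one_mem' := ⟨one_mem _, fun a _ => by group, fun p hp => by
          have : (1 : G) * p * 1⁻¹ * p = p * p := by group
          rw [this, hPsq p hp]; exact one_mem _⟩
        mul_mem' := by
          rintro r s ⟨hr1, hr2, hr3⟩ ⟨hs1, hs2, hs3⟩
          refine ⟨mul_mem hr1 hs1, fun a ha => ?_, fun p hp => ?_⟩
          · calc r * s * a * (r * s)⁻¹ = r * (s * a * s⁻¹) * r⁻¹ := by group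
              _ = a := by rw [hs2 a ha, hr2 a ha]
          · have h1 := hs3 p hp
            have e : r * s * p * (r * s)⁻¹ * p = (r * (s * p * s⁻¹ * p) * r⁻¹) * (r * p * r⁻¹ * p) := by
              have e1 : r * s * p * (r * s)⁻¹ * p = r * (s * p * s⁻¹) * (p * p) * r⁻¹ * p := by
                rw [hPsq p hp]; group
              rw [e1]; group
            rw [e, hr2 _ h1]
            exact mul_mem h1 (hr3 p hp)
        inv_mem' := by
          rintro r ⟨hr1, hr2, hr3⟩
          have hr2' : ∀ a ∈ A, r⁻¹ * a * r⁻¹⁻¹ = a := by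
            intro a ha
            calc r⁻¹ * a * r⁻¹⁻¹ = r⁻¹ * (r * a * r⁻¹) * r⁻¹⁻¹ := by rw [hr2 a ha]
              _ = a := by group
          refine ⟨inv_mem hr1, hr2', fun p hp => ?_⟩
          have hp' : r⁻¹ * p * r⁻¹⁻¹ ∈ P := (mem_normalizer_iff.1 (inv_mem hr1) p).1 hp
          have h1 := hr3 _ hp'
          have e : r * (r⁻¹ * p * r⁻¹⁻¹) * r⁻¹ * (r⁻¹ * p * r⁻¹⁻¹) = p * (r⁻¹ * p * r⁻¹⁻¹) := by group
          rw [e, hPcomm _ hp _ hp'] at h1
          exact h1 }
    have hTR : T ≤ R := fun n hn => ⟨hn.2, fun a ha => h.conjA ha hn.1, hcm n hn⟩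
    have hRN : R ≤ normalizer (P : Set G) := fun r hr => hr.1
    have hTRi : ¬ 2 ∣ T.relIndex R := Cfsg.Agent.Lib.EssentialFusion.not_dvd_relIndex_of_le hTR hRN hsyl
    have hxinv := inv_mem hx
    have hxAinv := inv_mem hxA
    have hyR : x * y * x⁻¹ ∈ R := by
      have hyR' := hTR hyT
      refine ⟨mul_mem (mul_mem hx hyR'.1) hxinv, fun a ha => ?_, fun p hp => ?_⟩
      · have h1 : x⁻¹ * a * x⁻¹⁻¹ ∈ A := (mem_normalizer_iff.1 hxAinv a).1 ha
        calc x * y * x⁻¹ * a * (x * y * x⁻¹)⁻¹ = x * (y * (x⁻¹ * a * x⁻¹⁻¹) * y⁻¹) * x⁻¹ := by group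
          _ = x * (x⁻¹ * a * x⁻¹⁻¹) * x⁻¹ := by rw [hyR'.2.1 _ h1]
          _ = a := by group
      · have h1 : x⁻¹ * p * x⁻¹⁻¹ ∈ P := (mem_normalizer_iff.1 hxinv p).1 hp
        have h2 := hyR'.2.2 _ h1
        have h3 := (mem_normalizer_iff.1 hxA _).1 h2
        have e : x * (y * (x⁻¹ * p * x⁻¹⁻¹) * y⁻¹ * (x⁻¹ * p * x⁻¹⁻¹)) * x⁻¹ =
            x * y * x⁻¹ * p * (x * y * x⁻¹)⁻¹ * p := by group
        rwa [e] at h3
    obtain ⟨t, ht, c, hc, hxy⟩ := Cfsg.Agent.TypeL3.exists_mul_of_pow_mem' (p := 2) (R := R) (T := T)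
      (C := centralizer (P : Set G)) (hS.to_le hTS) hTRi (by
        intro r hr c hc
        rw [mem_centralizer_iff] at hc ⊢
        intro p hp
        have h1 : r⁻¹ * p * r⁻¹⁻¹ ∈ P := (mem_normalizer_iff.1 (inv_mem hr.1) p).1 hp
        have h2 := hc _ h1
        calc p * (r * c * r⁻¹) = r * ((r⁻¹ * p * r⁻¹⁻¹) * c) * r⁻¹ := by group
          _ = r * (c * (r⁻¹ * p * r⁻¹⁻¹)) * r⁻¹ := by rw [h2]
          _ = r * c * r⁻¹ * p := by group) (by
        intro r hr
        refine ⟨1, ?_⟩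
        rw [pow_one, pow_two, mem_centralizer_iff]
        intro p hp
        have h1 := hr.2.2 p hp
        have h2 := hr.2.1 _ h1
        set b := r * p * r⁻¹ * p with hb
        have h3 : r * p * r⁻¹ = b * p := by
          rw [hb, mul_assoc (r * p * r⁻¹), hPsq p hp, mul_one]
        have e : r * r * p * (r * r)⁻¹ = p := by
          calc r * r * p * (r * r)⁻¹ = r * (r * p * r⁻¹) * r⁻¹ := by group
            _ = r * (b * p) * r⁻¹ := by rw [h3]
            _ = (r * b * r⁻¹) * (r * p * r⁻¹) := by group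
            _ = b * (b * p) := by rw [h2, h3]
            _ = p := by rw [← mul_assoc, hPsq b (hAP h1), one_mul]
        rw [mul_inv_eq_iff_eq_mul] at e
        exact e.symm) hyR
    -- the action of `t`
    obtain ⟨u, hu, huA⟩ := h.exists_not_mem
    have hcu : c * u = u * c := ((mem_centralizer_iff.1 hc) u hu).symm
    set a := y * u * y⁻¹ * u with ha
    have haA : a ∈ A := hcm y hyT u hu
    have ha1 : a ≠ 1 := by
      intro e
      apply hyP
      apply h.c u hu huA y hyS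
      rw [ha, mul_eq_one_iff_eq_inv, h.inv hu, mul_inv_eq_iff_eq_mul] at e
      exact e
    have htu : t * u * t⁻¹ * u = x * a * x⁻¹ := by
      -- `t u t⁻¹ = (x y x⁻¹) u (x y x⁻¹)⁻¹`
      have e1 : t * u * t⁻¹ = x * y * x⁻¹ * u * (x * y * x⁻¹)⁻¹ := by
        rw [hxy]
        calc t * u * t⁻¹ = t * (u * c) * c⁻¹ * t⁻¹ := by group
          _ = t * (c * u) * c⁻¹ * t⁻¹ := by rw [hcu]
          _ = t * c * u * (t * c)⁻¹ := by group
      -- `x⁻¹ u x = b u`
      have hw : x⁻¹ * u * x⁻¹⁻¹ ∈ P := (mem_normalizer_iff.1 hxinv u).1 hu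
      set w := x⁻¹ * u * x⁻¹⁻¹ with hwd
      have hb : w * u ∈ A := by
        have h1 := hxP w hw
        have e2 : x * w * x⁻¹ = u := by rw [hwd]; group
        rw [e2, h.inv hw, hPcomm _ hu _ hw] at h1
        exact h1
      have hyw : y * w * y⁻¹ * w = a := by
        have h2 : y * (w * u) * y⁻¹ = w * u := h.conjA hb hyS
        have h3 : y * w * y⁻¹ = w * u * (y * u * y⁻¹)⁻¹ := by
          rw [← h2]; group
        have h4 : y * u * y⁻¹ ∈ P := hTP y hyT u hu
        rw [h3, h.inv h4, ha]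
        calc w * u * (y * u * y⁻¹) * w = w * (u * (y * u * y⁻¹)) * w := by group
          _ = w * ((y * u * y⁻¹) * u) * w := by rw [hPcomm _ hu _ h4]
          _ = w * (w * ((y * u * y⁻¹) * u)) := by
            rw [mul_assoc w, hPcomm _ (mul_mem h4 hu) _ hw]
          _ = (w * w) * (y * u * y⁻¹ * u) := by group
          _ = y * u * y⁻¹ * u := by rw [hPsq w hw, one_mul]
      rw [e1, ← hyw, hwd]
      group
    have hta : x * a * x⁻¹ ≠ a := fun e => ha1 (hfix a haA e)
    have hta1 : x * a * x⁻¹ ≠ 1 := by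
      intro e
      rw [mul_inv_eq_one, mul_eq_left] at e
      exact ha1 e
    have htP : t ∉ P := by
      intro htP
      apply hta1
      rw [← htu, hPcomm _ htP _ hu, mul_inv_cancel_right, hPsq u hu]
    have hytP : y⁻¹ * t ∉ P := by
      intro hc
      apply hta
      rw [← htu, ha]
      have e : t = y * (y⁻¹ * t) := by group
      have e1 : t * u * t⁻¹ = y * u * y⁻¹ := by
        rw [e]
        calc y * (y⁻¹ * t) * u * (y * (y⁻¹ * t))⁻¹ = y * ((y⁻¹ * t) * u) * (y⁻¹ * t)⁻¹ * y⁻¹ := by group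
          _ = y * (u * (y⁻¹ * t)) * (y⁻¹ * t)⁻¹ * y⁻¹ := by rw [hPcomm _ hc _ hu]
          _ = y * u * y⁻¹ := by group
      rw [e1]
    -- the index
    have hidx : P.relIndex T ≠ 2 := by
      intro h2
      have h3 := Subgroup.mul_mem_iff_of_index_two (H := P.subgroupOf T) h2 (a := ⟨y, hyT⟩⁻¹) (b := ⟨t, ht⟩)
      rw [mem_subgroupOf, mem_subgroupOf, mem_subgroupOf] at h3
      apply hytP
      apply h3.2
      constructor
      · intro h4; exact absurd (inv_mem_iff.1 h4) hyP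
      · intro h4; exact absurd h4 htP
    have hcardT : Nat.card T = 16 * P.relIndex T := by
      have e1 := Subgroup.card_mul_index (P.subgroupOf T)
      rw [Nat.card_congr (subgroupOfEquivOfLe hPT).toEquiv, hP16] at e1
      exact e1.symm
    have hTp : IsPGroup 2 T := hS.to_le hTS
    obtain ⟨m, hm⟩ := (IsPGroup.iff_card.1 hTp)
    have hi1 : P.relIndex T ≠ 1 := by
      intro h1
      rw [relIndex_eq_one] at h1
      exact hyP (h1 hyT)
    have hm4 : 4 < m := by
      by_contra hle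
      have h5 : 2 ^ m ≤ 2 ^ 4 := Nat.pow_le_pow_right (by norm_num) (by omega)
      have h6 : 0 < P.relIndex T := Nat.pos_of_ne_zero (by
        intro e
        rw [e, mul_zero] at hcardT
        exact Nat.card_pos.ne' hcardT)
      have h7 : 2 ≤ P.relIndex T := by omega
      rw [hm] at hcardT
      norm_num at h5
      omega
    have hm5 : m ≠ 5 := by
      intro e
      rw [hm, e] at hcardT
      apply hidx
      norm_num at hcardT
      omega
    rw [hm]
    calc 64 = 2 ^ 6 := by norm_num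
      _ ≤ 2 ^ m := Nat.pow_le_pow_right (by norm_num) (by omega)
  -- the other elementary subgroup
  set Q : Subgroup G := T ⊓ centralizer ({y} : Set G) with hQ
  have hQT : Q ≤ T := inf_le_left
  have hQy : ∀ q ∈ Q, q * y = y * q := fun q hq => mem_centralizer_singleton_iff.1 hq.2
  have hQle : Nat.card Q ≤ 16 := hcent y hyS hyy hyA Q (hQT.trans hTS) hQy
  let ψ : T →* A :=
    { toFun := fun t => ⟨t * y * (t : G)⁻¹ * y⁻¹, hcomT t t.2 y hyT⟩
      map_one' := Subtype.ext (by simp)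
      map_mul' := fun s t => Subtype.ext (by
        change (s * t : G) * y * (s * t : G)⁻¹ * y⁻¹ = (s * y * (s : G)⁻¹ * y⁻¹) * (t * y * (t : G)⁻¹ * y⁻¹)
        have h1 : (s : G) * (t * y * (t : G)⁻¹ * y⁻¹) * (s : G)⁻¹ = t * y * (t : G)⁻¹ * y⁻¹ :=
          h.conjA (hcomT t t.2 y hyT) s.2.1
        have h2 : (t * y * (t : G)⁻¹ * y⁻¹ : G) * (s * y * (s : G)⁻¹ * y⁻¹) =
          (s * y * (s : G)⁻¹ * y⁻¹) * (t * y * (t : G)⁻¹ * y⁻¹) :=
          hPcomm _ (hAP (hcomT t t.2 y hyT)) _ (hAP (hcomT s s.2 y hyT))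
        calc (s * t : G) * y * (s * t : G)⁻¹ * y⁻¹ =
            (s * (t * y * (t : G)⁻¹ * y⁻¹) * (s : G)⁻¹) * (s * y * (s : G)⁻¹ * y⁻¹) := by group
          _ = (t * y * (t : G)⁻¹ * y⁻¹) * (s * y * (s : G)⁻¹ * y⁻¹) := by rw [h1]
          _ = _ := h2) }
  have hψker : ψ.ker = Q.subgroupOf T := by
    ext t
    rw [MonoidHom.mem_ker, mem_subgroupOf]
    constructor
    · intro e
      have e1 : (t : G) * y * (t : G)⁻¹ * y⁻¹ = 1 := congrArg Subtype.val e
      refine ⟨t.2, mem_centralizer_singleton_iff.2 ?_⟩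
      rw [mul_inv_eq_one, mul_inv_eq_iff_eq_mul] at e1
      exact e1
    · intro ht
      apply Subtype.ext
      change (t : G) * y * (t : G)⁻¹ * y⁻¹ = 1
      rw [mul_inv_eq_one, mul_inv_eq_iff_eq_mul]
      exact hQy t ht
  have hψc : Nat.card T = Nat.card ψ.range * Nat.card Q := by
    rw [← Nat.card_congr (subgroupOfEquivOfLe hQT).toEquiv, ← hψker,
      ← Nat.card_congr (QuotientGroup.quotientKerEquivRange ψ).toEquiv]
    exact Subgroup.card_eq_card_quotient_mul_card_subgroup ψ.ker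
  have hrange : Nat.card ψ.range ≤ 4 := by
    rw [← hA4]
    exact Nat.card_le_card_of_injective _ Subtype.val_injective
  have hQ16 : Nat.card Q = 16 := by
    apply le_antisymm hQle
    nlinarith
  have hQsq : ∀ q ∈ Q, q * q = 1 := hcent' y hyS hyy hyA Q (hQT.trans hTS) hQy hQ16
  have hQcomm : ∀ p ∈ Q, ∀ q ∈ Q, p * q = q * p := by
    intro p hp q hq
    have h1 : (p * q)⁻¹ = p * q := inv_eq_of_mul_eq_one_left (hQsq _ (mul_mem hp hq))
    rw [mul_inv_rev, inv_eq_of_mul_eq_one_left (hQsq p hp), inv_eq_of_mul_eq_one_left (hQsq q hq)] at h1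
    exact h1.symm
  have hAQ : A ≤ Q := fun a ha => ⟨hAT ha, mem_centralizer_singleton_iff.2 (hAc a ha y hyS)⟩
  have hPQ : P ⊓ Q = A := by
    apply le_antisymm
    · rintro u ⟨hu, huQ⟩
      by_contra huA
      exact hyP (h.c u hu huA y hyS (hQy u huQ).symm)
    · exact le_inf hAP hAQ
  have hyQ : y ∈ Q := ⟨hyT, mem_centralizer_singleton_iff.2 rfl⟩
  have hcQ : ∀ u ∈ Q, u ∉ A → ∀ s ∈ (S : Subgroup G), u * s = s * u → s ∈ Q := by
    intro u hu huA s hs hsu
    have h1 : Q ≤ (S : Subgroup G) ⊓ centralizer ({u} : Set G) := by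
      intro p hp
      exact ⟨hTS (hQT hp), mem_centralizer_singleton_iff.2 (hQcomm p hp u hu)⟩
    have h2 : Nat.card ((S : Subgroup G) ⊓ centralizer ({u} : Set G) : Subgroup G) ≤ 16 :=
      hcent u (hTS (hQT hu)) (hQsq u hu) huA _ inf_le_left fun q hq => mem_centralizer_singleton_iff.1 hq.2
    have h3 := Subgroup.eq_of_le_of_card_ge h1 (by rw [hQ16]; exact h2)
    rw [h3]
    exact ⟨hs, mem_centralizer_singleton_iff.2 hsu.symm⟩
  have hprod : ∀ s ∈ T, ∃ p ∈ P, ∃ q ∈ Q, p * q = s := by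
    intro s hs
    have h1 := hcomT s hs y hyT
    obtain ⟨u, hu, hua⟩ := h.surj hS hyS (hTP y hyT) hyP h1
    refine ⟨u, hu, u⁻¹ * s, Subgroup.mem_inf.2 ⟨mul_mem (inv_mem (hPT hu)) hs, ?_⟩, by group⟩
    rw [mem_centralizer_singleton_iff]
    -- `[u, y] = [s, y]`
    have h2 : u * y * u⁻¹ * y⁻¹ = s * y * s⁻¹ * y⁻¹ := by
      have h3 : y * u * y⁻¹ * u = u * y * u⁻¹ * y⁻¹ := by
        have h4 : y * u * y⁻¹ ∈ P := hTP y hyT u hu
        rw [hPcomm _ h4 _ hu]
        have h5 : y⁻¹ = y := inv_eq_of_mul_eq_one_left hyy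
        rw [h5, h.inv hu]
        group
      rw [← h3]; exact hua
    have h3 : u * y * u⁻¹ = s * y * s⁻¹ := mul_right_cancel h2
    calc u⁻¹ * s * y = u⁻¹ * (s * y * s⁻¹) * s := by group
      _ = u⁻¹ * (u * y * u⁻¹) * s := by rw [h3]
      _ = y * (u⁻¹ * s) := by group
  obtain ⟨g, hg, hgA⟩ := h.exists_not_mem
  refine ⟨T, Q, ?_, hPQ⟩
  have hcz : Nat.card (P ⊓ Q : Subgroup G) = 4 := by rw [hPQ]; exact hA4
  refine ⟨?_, hTS, ?_, ?_, ?_, hmemT, hP16, hQ16, hcz⟩
  · exact
      { A_le := hPT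
        B_le := hQT
        prod := hprod
        A_comm := hPcomm
        B_comm := hQcomm
        A_sq := hPsq
        B_sq := hQsq
        br := fun a ha b hb => by rw [hPQ]; exact hcomT a (hPT ha) b (hQT hb)
        inv := by
          intro s hs hss
          obtain ⟨p, hp, q, hq, rfl⟩ := hprod s hs
          have hc : p * q = q * p := by
            have h1 : (p * q)⁻¹ = p * q := inv_eq_of_mul_eq_one_left hss
            rw [mul_inv_rev, inv_eq_of_mul_eq_one_left (hPsq p hp),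
              inv_eq_of_mul_eq_one_left (hQsq q hq)] at h1
            exact h1.symm
          by_cases hpA : p ∈ A
          · exact Or.inr (mul_mem (hAQ hpA) hq)
          · exact Or.inl (mul_mem hp (h.c p hp hpA q (hTS (hQT hq)) hc.symm))
        centA := fun a ha haQ s hs e => h.c a ha (fun hA => haQ (hAQ hA)) s hs.1 e.symm
        centB := fun b hb hbP s hs e => hcQ b hb (fun hA => hbP (hAP hA)) s hs.1 e
        der := by
          intro a ha
          rw [hPQ] at ha
          obtain ⟨u, hu, hua⟩ := h.surj hS hyS (hTP y hyT) hyP ha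
          have h1 := Subgroup.commutator_mem_commutator hyT (hPT hu)
          rw [commutatorElement_def, h.inv hu, hua] at h1
          exact h1
        neA := ⟨g, hg, fun hgQ => hgA (by rw [← hPQ]; exact ⟨hg, hgQ⟩)⟩
        neB := ⟨y, hyQ, hyP⟩ }
  · intro a ha s hs
    rw [hPQ] at ha
    exact hAc a ha s hs
  · intro e he heQ s hs hes
    exact h.c e he (fun hA => heQ (hAQ hA)) s hs hes.symm
  · intro e he heP s hs hes
    exact hcQ e he (fun hA => heP (hAP hA)) s hs hes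

end Cfsg.Agent.TwoFusion.GoldFourUpIn
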