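import Cfsg.Agent.TwoFusion.ClosedMin
import Cfsg.Agent.S0215
import Cfsg.Agent.Lib.KleinGen
import Cfsg.Agent.Involutions.NormalFour

/-!
# Local facts for pairs of disjoint closed families

`CPair 𝒜 ℬ a b`: `a ∈ 𝒜`, `b ∈ ℬ` are commuting involutions.

* `zstar_local` : Glauberman's Z*-theorem inside a subgroup `H` of `G`.
* `exists_conj_of_le_sup` : Sylow's theorem in `K T`, `K` of odd order, `T` a 2-group.
* `comm_mem_Oc` : `[a, C(ab)] ≤ O(C(ab))`.
* `exists_dihedral` : for involutions `a ∈ 𝒜`, `b ∈ ℬ` there is `a' ∈ 𝒜` commuting with `b` and `v ∈ O(C(a'b))`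
  with `a = v a' v⁻¹`, and `a' b ∈ ⟨a, b⟩` is centralised by `a` and `b`.
* `exists_four` : the four-groups.
-/

set_option autoImplicit false
set_option linter.style.haveILetI false

namespace Cfsg.Agent.TwoFusion.ClosedLocal

open Subgroup
open Cfsg.Agent.TwoFusion.ClosedFam
open Cfsg.Agent.TwoFusion.ClosedSimple
open Cfsg.Agent.TwoFusion.ClosedMin

variable {G : Type*} [Group G]

/-- commuting involutions of the two families -/
structure CPair (𝒜 ℬ : Set G) (a b : G) : Prop where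
  a_mem : a ∈ 𝒜
  b_mem : b ∈ ℬ
  oa : orderOf a = 2
  ob : orderOf b = 2
  comm : Commute a b

theorem Min.symm {𝒜 ℬ : Set G} (h : Min 𝒜 ℬ) : Min ℬ 𝒜 where
  toPair := h.toPair.symm
  oddCore := h.oddCore
  ind H hH := by rw [commutator_comm]; exact h.ind H hH
  left_two := h.right_two
  right_two := h.left_two

theorem CPair.symm {𝒜 ℬ : Set G} {a b : G} (h : CPair 𝒜 ℬ a b) : CPair ℬ 𝒜 b a :=
  ⟨h.b_mem, h.a_mem, h.ob, h.oa, h.comm.symm⟩

theorem mul_self {a : G} (ha : orderOf a = 2) : a * a = 1 := by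
  rw [← sq, ← ha, pow_orderOf_eq_one]

theorem inv_eq {a : G} (ha : orderOf a = 2) : a⁻¹ = a := inv_eq_of_mul_eq_one_left (mul_self ha)

theorem ne_one {a : G} (ha : orderOf a = 2) : a ≠ 1 := by
  rintro rfl
  rw [orderOf_one] at ha
  exact absurd ha (by norm_num)

theorem orderOf_eq_two {a : G} (ha : a * a = 1) (h1 : a ≠ 1) : orderOf a = 2 := by
  haveI : Fact (Nat.Prime 2) := ⟨Nat.prime_two⟩
  exact orderOf_eq_prime (by rw [sq, ha]) h1

theorem orderOf_conj {a : G} (ha : orderOf a = 2) (g : G) : orderOf (g * a * g⁻¹) = 2 := by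
  apply orderOf_eq_two
  · have : g * a * g⁻¹ * (g * a * g⁻¹) = g * (a * a) * g⁻¹ := by group
    rw [this, mul_self ha]; group
  · intro h
    have : a = g⁻¹ * (g * a * g⁻¹) * g := by group
    rw [h] at this
    apply ne_one ha
    rw [this]; group

theorem CPair.conj {𝒜 ℬ : Set G} (hA : IsClosedFam 𝒜) (hB : IsClosedFam ℬ) {a b : G} (h : CPair 𝒜 ℬ a b)
    (g : G) : CPair 𝒜 ℬ (g * a * g⁻¹) (g * b * g⁻¹) where
  a_mem := hA.conj_mem a h.a_mem g
  b_mem := hB.conj_mem b h.b_mem g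
  oa := orderOf_conj h.oa g
  ob := orderOf_conj h.ob g
  comm := by
    have e := h.comm.eq
    show g * a * g⁻¹ * (g * b * g⁻¹) = g * b * g⁻¹ * (g * a * g⁻¹)
    calc g * a * g⁻¹ * (g * b * g⁻¹) = g * (a * b) * g⁻¹ := by group
      _ = g * (b * a) * g⁻¹ := by rw [e]
      _ = _ := by group

theorem CPair.mul_order {𝒜 ℬ : Set G} (hp : Pair 𝒜 ℬ) {a b : G} (h : CPair 𝒜 ℬ a b) :
    orderOf (a * b) = 2 := by
  apply orderOf_eq_two
  · calc a * b * (a * b) = a * (b * a) * b := by group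
      _ = a * (a * b) * b := by rw [h.comm.eq]
      _ = (a * a) * (b * b) := by group
      _ = 1 := by rw [mul_self h.oa, mul_self h.ob, one_mul]
  · intro h1
    have h2 : a = b := by
      have : a = b⁻¹ := eq_inv_of_mul_eq_one_left h1
      rw [this, inv_eq h.ob]
    exact ne_one h.oa (hp.disj a h.a_mem (h2 ▸ h.b_mem))

/-! ### cores -/

theorem core_le (H : Subgroup G) : core H ≤ H := by
  unfold core
  rw [map_le_iff_le_comap]
  intro x _
  exact x.2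

theorem conj_mem_core {H : Subgroup G} {g x : G} (hg : g ∈ H) (hx : x ∈ core H) :
    g * x * g⁻¹ ∈ core H := by
  obtain ⟨y, hy, rfl⟩ := hx
  refine ⟨⟨g, hg⟩ * y * ⟨g, hg⟩⁻¹, ?_, rfl⟩
  exact (Cfsg.Agent.Lib.Cores.pPrimeCore_normal 2).conj_mem y hy _

theorem odd_core [Finite G] (H : Subgroup G) : Odd (Nat.card (core H)) := by
  have h1 : (Nat.card (core H)).Coprime 2 :=
    Cfsg.Agent.Lib.LocalCore.card_map_pPrimeCore_coprime 2 H
  exact Nat.coprime_two_right.1 h1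

theorem le_core {H K : Subgroup G} (hK : K ≤ H) (hn : ∀ h ∈ H, ∀ k ∈ K, h * k * h⁻¹ ∈ K)
    (hodd : Odd (Nat.card K)) : K ≤ core H := by
  have h1 : (K.subgroupOf H).Normal := ⟨fun k hk g => hn g g.2 k hk⟩
  have h2 : Nat.card (K.subgroupOf H) = Nat.card K :=
    Nat.card_congr (Subgroup.subgroupOfEquivOfLe hK).toEquiv
  have h3 : K.subgroupOf H ≤ Cfsg.pPrimeCore 2 H :=
    Cfsg.Agent.Lib.Cores.le_pPrimeCore h1 (by rw [h2]; exact Nat.coprime_two_right.2 hodd)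
  intro k hk
  exact ⟨⟨k, hK hk⟩, h3 hk, rfl⟩

theorem Oc_eq (a : G) : Oc a = core (centralizer ({a} : Set G)) := rfl

theorem mem_cent {a g : G} : g ∈ centralizer ({a} : Set G) ↔ g * a = a * g :=
  mem_centralizer_singleton_iff

theorem odd_Oc [Finite G] (a : G) : Odd (Nat.card (Oc a)) := odd_core _

theorem Oc_comm {a v : G} (hv : v ∈ Oc a) : v * a = a * v := mem_cent.1 (core_le _ hv)

theorem conj_mem_Oc {a g v : G} (hg : g * a = a * g) (hv : v ∈ Oc a) : g * v * g⁻¹ ∈ Oc a :=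
  conj_mem_core (mem_cent.2 hg) hv

/-! ### 2-subgroups -/

theorem isPGroup_zpowers_of_orderOf {a : G} (ha : orderOf a = 2) : IsPGroup 2 (zpowers a) := by
  rintro ⟨y, hy⟩
  refine ⟨1, ?_⟩
  obtain ⟨n, rfl⟩ := mem_zpowers_iff.1 hy
  apply Subtype.ext
  simp only [pow_one, SubmonoidClass.mk_pow, OneMemClass.coe_one]
  rw [sq, ← (Commute.refl a).mul_zpow, mul_self ha, one_zpow]

/-- a 2-subgroup together with an involution commuting with it lies in a 2-subgroup. -/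
theorem isPGroup_sup_zpowers {Q : Subgroup G} (hQ : IsPGroup 2 Q) {x : G} (hx : orderOf x = 2)
    (hc : ∀ q ∈ Q, x * q = q * x) : IsPGroup 2 (Q ⊔ zpowers x : Subgroup G) := by
  refine hQ.to_sup_of_normal_left' (isPGroup_zpowers_of_orderOf hx) ?_
  rw [zpowers_le]
  rw [mem_normalizer_iff]
  intro q
  constructor
  · intro hq
    rw [hc q hq]
    simpa using hq
  · intro hq
    have h1 := hc _ hq
    have h2 : x * (x * q * x⁻¹) * x⁻¹ = x * q * x⁻¹ := by rw [h1]; group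
    have h3 : x * q * x⁻¹ = q := by
      have := congrArg (fun t => x⁻¹ * t * x) h2
      simpa [mul_assoc] using this
    rwa [h3] at hq

theorem CPair.isPGroup {𝒜 ℬ : Set G} {a b : G} (h : CPair 𝒜 ℬ a b) :
    IsPGroup 2 (zpowers a ⊔ zpowers b : Subgroup G) := by
  refine isPGroup_sup_zpowers (isPGroup_zpowers_of_orderOf h.oa) h.ob ?_
  intro q hq
  obtain ⟨n, rfl⟩ := mem_zpowers_iff.1 hq
  exact (h.comm.symm.zpow_right n).eq

theorem mem_sup_left' {a b : G} : a ∈ (zpowers a ⊔ zpowers b : Subgroup G) :=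
  mem_sup_left (mem_zpowers a)

theorem mem_sup_right' {a b : G} : b ∈ (zpowers a ⊔ zpowers b : Subgroup G) :=
  mem_sup_right (mem_zpowers b)

/-- A closed family meeting the 2-subgroup `T` nontrivially contains an involution of the centre of `T`. -/
theorem exists_central [Finite G] {𝒜 : Set G} (h : IsClosedFam 𝒜) {T : Subgroup G} (hT : IsPGroup 2 T)
    {x : G} (hx : x ∈ 𝒜) (hxT : x ∈ T) (hx1 : x ≠ 1) :
    ∃ a ∈ 𝒜, a ∈ T ∧ orderOf a = 2 ∧ ∀ t ∈ T, a * t = t * a := by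
  haveI : Fact (Nat.Prime 2) := ⟨Nat.prime_two⟩
  have hN : ((fam 𝒜 T).subgroupOf T).Normal := by
    refine ⟨fun y hy g => ?_⟩
    rw [mem_subgroupOf] at hy ⊢
    exact h.conj_mem_fam (fun z hz => mul_mem (mul_mem g.2 hz) (inv_mem g.2)) hy
  have hne : (fam 𝒜 T).subgroupOf T ≠ ⊥ := by
    intro hb
    have : (⟨x, hxT⟩ : T) ∈ (fam 𝒜 T).subgroupOf T := mem_fam hx hxT
    rw [hb, mem_bot] at this
    exact hx1 (congrArg Subtype.val this)
  obtain ⟨z, hz, hzc, hz2⟩ := Cfsg.Agent.Involutions.NormalFour.exists_mem_center_of_normal hT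
    ((fam 𝒜 T).subgroupOf T) hne
  refine ⟨z, ((h.mem_fam_iff hT).1 hz).1, z.2, by rw [← hz2, Subgroup.orderOf_coe], ?_⟩
  intro t ht
  have := mem_center_iff.1 hzc ⟨t, ht⟩
  exact (congrArg Subtype.val this).symm

/-- every 2-element is conjugate into a given Sylow 2-subgroup. -/
theorem exists_conj_sylow [Finite G] {Q : Subgroup G} (hQ : IsPGroup 2 Q) (T : Sylow 2 G) :
    ∃ g : G, ∀ q ∈ Q, g * q * g⁻¹ ∈ (T : Subgroup G) := by
  haveI : Fact (Nat.Prime 2) := ⟨Nat.prime_two⟩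
  obtain ⟨S, hS⟩ := hQ.exists_le_sylow
  obtain ⟨g, hg⟩ := MulAction.exists_smul_eq G S T
  refine ⟨g, fun q hq => ?_⟩
  rw [← hg]
  exact ⟨q, hS hq, rfl⟩

/-- every 2-subgroup of `H` is conjugate in `H` into a given 2-subgroup of `H` whose index in `H` is odd. -/
theorem exists_conj_sylow_subgroup [Finite G] {H Q : Subgroup G} (hQ : IsPGroup 2 Q) (hQH : Q ≤ H)
    (T : Sylow 2 H) : ∃ g ∈ H, ∀ q ∈ Q, g * q * g⁻¹ ∈ (T : Subgroup H).map H.subtype := by
  haveI : Fact (Nat.Prime 2) := ⟨Nat.prime_two⟩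
  have hQ' : IsPGroup 2 (Q.subgroupOf H) := hQ.of_equiv (Subgroup.subgroupOfEquivOfLe hQH).symm
  obtain ⟨g, hg⟩ := exists_conj_sylow hQ' T
  refine ⟨g, g.2, fun q hq => ?_⟩
  exact ⟨g * ⟨q, hQH hq⟩ * g⁻¹, hg _ hq, rfl⟩

/-- elements of `K ⊔ T` when `T` normalises `K`. -/
theorem exists_mul_of_mem_sup {K T : Subgroup G} (hn : T ≤ normalizer (K : Set G)) {x : G}
    (hx : x ∈ K ⊔ T) : ∃ t ∈ T, ∃ k ∈ K, x = t * k := by
  let S : Subgroup G :=
    { carrier := {x | ∃ t ∈ T, ∃ k ∈ K, x = t * k}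
      one_mem' := ⟨1, T.one_mem, 1, K.one_mem, by simp⟩
      mul_mem' := by
        rintro _ _ ⟨t, ht, k, hk, rfl⟩ ⟨t', ht', k', hk', rfl⟩
        refine ⟨t * t', mul_mem ht ht', t'⁻¹ * k * t' * k', mul_mem ?_ hk', by group⟩
        have := (mem_normalizer_iff.1 (hn (inv_mem ht')) k).1 hk
        simpa using this
      inv_mem' := by
        rintro _ ⟨t, ht, k, hk, rfl⟩
        refine ⟨t⁻¹, inv_mem ht, t * k⁻¹ * t⁻¹, ?_, by group⟩
        exact (mem_normalizer_iff.1 (hn ht) k⁻¹).1 (inv_mem hk) }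
  have h1 : K ⊔ T ≤ S := by
    refine sup_le ?_ ?_
    · intro k hk; exact ⟨1, T.one_mem, k, hk, by simp⟩
    · intro t ht; exact ⟨t, ht, 1, K.one_mem, by simp⟩
  exact h1 hx

theorem eq_one_of_odd_of_isPGroup [Finite G] {K T : Subgroup G} (hK : Odd (Nat.card K))
    (hT : IsPGroup 2 T) {x : G} (hxK : x ∈ K) (hxT : x ∈ T) : x = 1 := by
  obtain ⟨k, hk2⟩ := hT ⟨_, hxT⟩
  have hk3 : x ^ 2 ^ k = 1 := congrArg Subtype.val hk2
  have hd1 : orderOf x ∣ 2 ^ k := orderOf_dvd_of_pow_eq_one hk3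
  have hd2 : orderOf x ∣ Nat.card K := by
    have := orderOf_dvd_natCard (⟨_, hxK⟩ : K)
    rwa [← Subgroup.orderOf_coe] at this
  have hc : Nat.Coprime (2 ^ k) (Nat.card K) := Nat.Coprime.pow_left k (Nat.coprime_two_left.2 hK)
  exact orderOf_eq_one_iff.1 (Nat.eq_one_of_dvd_coprimes hc hd1 hd2)

/-- **Sylow's theorem in `K T`**: `K` of odd order normalised by the 2-group `T`; every 2-subgroup of `K ⊔ T`
is conjugate into `T` by an element of `K`. -/
theorem exists_conj_of_le_sup [Finite G] {K T R : Subgroup G} (hK : Odd (Nat.card K))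
    (hT : IsPGroup 2 T) (hn : T ≤ normalizer (K : Set G)) (hR : IsPGroup 2 R) (hRle : R ≤ K ⊔ T) :
    ∃ v ∈ K, ∀ r ∈ R, v * r * v⁻¹ ∈ T := by
  haveI : Fact (Nat.Prime 2) := ⟨Nat.prime_two⟩
  set H : Subgroup G := K ⊔ T with hH
  have hTH : T ≤ H := le_sup_right
  have hT' : IsPGroup 2 (T.subgroupOf H) := hT.of_equiv (Subgroup.subgroupOfEquivOfLe hTH).symm
  obtain ⟨S, hS⟩ := hT'.exists_le_sylow
  have hST : ∀ s ∈ (S : Subgroup H).map H.subtype, s ∈ T := by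
    rintro _ ⟨s, hs, rfl⟩
    obtain ⟨t, ht, k, hk, e⟩ := exists_mul_of_mem_sup hn s.2
    have ht' : (⟨t, hTH ht⟩ : H) ∈ (S : Subgroup H) := hS ht
    have h1 : ((⟨t, hTH ht⟩ : H)⁻¹ * s) ∈ (S : Subgroup H) := mul_mem (inv_mem ht') hs
    have h2 : k = ((⟨t, hTH ht⟩ : H)⁻¹ * s : H) := by
      show k = t⁻¹ * (s : G)
      rw [e]; group
    have h3 : k = 1 := by
      refine eq_one_of_odd_of_isPGroup (T := (S : Subgroup H).map H.subtype) hK (S.2.map _) hk ?_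
      rw [h2]
      exact ⟨_, h1, rfl⟩
    show (s : G) ∈ T
    rw [e, h3, mul_one]; exact ht
  obtain ⟨h, hh, hconj⟩ := exists_conj_sylow_subgroup hR hRle S
  obtain ⟨t, ht, k, hk, e⟩ := exists_mul_of_mem_sup hn hh
  refine ⟨k, hk, fun r hr => ?_⟩
  have h1 := hST _ (hconj r hr)
  have h2 : k * r * k⁻¹ = t⁻¹ * (h * r * h⁻¹) * t := by rw [e]; group
  rw [h2]
  exact mul_mem (mul_mem (inv_mem ht) h1) ht

/-- Two congruent involutions are conjugate: `x, x'` involutions, `x` normalises `K` (odd), `x' x⁻¹ ∈ K`. -/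
theorem exists_conj_of_mul_inv_mem [Finite G] {K : Subgroup G} (hK : Odd (Nat.card K)) {x x' : G}
    (hx : orderOf x = 2) (hx' : orderOf x' = 2) (hn : ∀ k ∈ K, x * k * x⁻¹ ∈ K) (h : x' * x⁻¹ ∈ K) :
    ∃ v ∈ K, x' = v * x * v⁻¹ := by
  have hnx : zpowers x ≤ normalizer (K : Set G) := by
    rw [zpowers_le, mem_normalizer_iff]
    intro k
    refine ⟨hn k, fun hk => ?_⟩
    have := hn _ hk
    have e : x * (x * k * x⁻¹) * x⁻¹ = (x * x) * k * (x * x)⁻¹ := by group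
    rw [e, mul_self hx] at this
    simpa using this
  obtain ⟨v, hv, hvr⟩ := exists_conj_of_le_sup (R := zpowers x') hK (isPGroup_zpowers_of_orderOf hx) hnx
    (isPGroup_zpowers_of_orderOf hx') (by
      rw [zpowers_le]
      have : x' = x' * x⁻¹ * x := by group
      rw [this]
      exact mul_mem (mem_sup_left h) (mem_sup_right (mem_zpowers x)))
  have h1 := hvr x' (mem_zpowers x')
  -- `v x' v⁻¹ x⁻¹ ∈ K ∩ ⟨x⟩`
  have h2 : v * x' * v⁻¹ * x⁻¹ ∈ K := by
    have e : v * x' * v⁻¹ * x⁻¹ = v * (x' * x⁻¹) * (x * v⁻¹ * x⁻¹) := by group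
    rw [e]
    exact mul_mem (mul_mem hv h) (hn _ (inv_mem hv))
  have h3 : v * x' * v⁻¹ * x⁻¹ = 1 :=
    eq_one_of_odd_of_isPGroup hK (isPGroup_zpowers_of_orderOf hx) h2
      (mul_mem h1 (inv_mem (mem_zpowers x)))
  refine ⟨v⁻¹, inv_mem hv, ?_⟩
  have h4 : v * x' * v⁻¹ = x := mul_inv_eq_one.1 h3
  rw [← h4]; group

/-! ### Glauberman's Z*-theorem in subgroups -/

/-- Z* inside the subgroup `H`, with the fusion hypothesis for the 2-subgroups of `H` containing a given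
2-subgroup `P₀` with `u ∈ P₀`. -/
theorem zstar_local [Finite G] {H P₀ : Subgroup G} (hP₀ : IsPGroup 2 P₀) (hP₀H : P₀ ≤ H) {u : G}
    (hu : u ∈ P₀) (ou : orderOf u = 2)
    (hiso : ∀ Q : Subgroup G, IsPGroup 2 Q → P₀ ≤ Q → Q ≤ H → ∀ g ∈ H, g * u * g⁻¹ ∈ Q → g * u * g⁻¹ = u) :
    ∀ g ∈ H, u * g * u⁻¹ * g⁻¹ ∈ core H := by
  haveI : Fact (Nat.Prime 2) := ⟨Nat.prime_two⟩
  have hP' : IsPGroup 2 (P₀.subgroupOf H) := hP₀.of_equiv (Subgroup.subgroupOfEquivOfLe hP₀H).symm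
  obtain ⟨S, hS⟩ := hP'.exists_le_sylow
  obtain ⟨N, hN, hNodd, hNc⟩ := Cfsg.Agent.S0215.result (G := H) S ⟨u, hP₀H hu⟩
    (by rw [← Subgroup.orderOf_coe]; exact ou) (hS hu) (by
      intro g hg
      apply Subtype.ext
      refine hiso ((S : Subgroup H).map H.subtype) (S.2.map _) ?_ ?_ g g.2 ⟨_, hg, rfl⟩
      · intro p hp
        exact ⟨⟨p, hP₀H hp⟩, hS hp, rfl⟩
      · rintro _ ⟨s, _, rfl⟩
        exact s.2)
  intro g hg
  refine ⟨_, Cfsg.Agent.Lib.Cores.le_pPrimeCore hN (Nat.coprime_two_right.2 hNodd) (hNc ⟨g, hg⟩), rfl⟩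

/-- For a commuting pair `(a, b)`, `a` is central modulo the core in `C(ab)`. -/
theorem CPair.comm_mem_Oc [Finite G] {𝒜 ℬ : Set G} (hp : Pair 𝒜 ℬ) {a b : G} (h : CPair 𝒜 ℬ a b) {g : G}
    (hg : g * (a * b) = a * b * g) : a * g * a⁻¹ * g⁻¹ ∈ Oc (a * b) := by
  refine zstar_local (P₀ := zpowers a ⊔ zpowers b) h.isPGroup ?_ mem_sup_left' h.oa ?_ g (mem_cent.2 hg)
  · refine sup_le ?_ ?_
    · rw [zpowers_le, mem_cent, mul_assoc, h.comm.eq]
    · rw [zpowers_le, mem_cent, ← mul_assoc, h.comm.symm.eq]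
  · intro Q hQ hPQ _ k hk hkQ
    have haQ : a ∈ Q := hPQ mem_sup_left'
    have hbQ : b ∈ Q := hPQ mem_sup_right'
    have hk' : k * (a * b) * k⁻¹ = a * b := by
      rw [mem_cent.1 hk]; group
    -- `a⁻¹ (k a k⁻¹) = b (k b k⁻¹)⁻¹`
    have e1 : a⁻¹ * (k * a * k⁻¹) = b * (k * b * k⁻¹)⁻¹ := by
      have e2 : (k * a * k⁻¹) * (k * b * k⁻¹) = a * b := by rw [← hk']; group
      have e3 : k * a * k⁻¹ = a * b * (k * b * k⁻¹)⁻¹ := by rw [← e2]; group
      rw [e3]; group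
    have h1 : a⁻¹ * (k * a * k⁻¹) ∈ 𝒜 :=
      hp.left.mul_mem Q hQ _ (inv_mem haQ) _ hkQ (hp.left.inv_mem h.a_mem)
        (hp.left.conj_mem _ h.a_mem k)
    have h2 : k * b * k⁻¹ ∈ Q := by
      have e2 : k * b * k⁻¹ = (k * a * k⁻¹)⁻¹ * (a * b) := by rw [← hk']; group
      rw [e2]
      exact mul_mem (inv_mem hkQ) (mul_mem haQ hbQ)
    have h3 : b * (k * b * k⁻¹)⁻¹ ∈ ℬ :=
      hp.right.mul_mem Q hQ _ hbQ _ (inv_mem h2) h.b_mem
        (hp.right.inv_mem (hp.right.conj_mem _ h.b_mem k))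
    rw [← e1] at h3
    have h4 := hp.disj _ h1 h3
    exact (inv_mul_eq_one.1 h4).symm

/-- an involution `x` inverts `x y` (`y` an involution). -/
theorem mul_zpow_dihedral {x y : G} (hx : x * x = 1) (hy : y * y = 1) (k : ℤ) :
    x * (x * y) ^ k = (x * y) ^ (-k) * x := by
  have hxi : x⁻¹ = x := inv_eq_of_mul_eq_one_left hx
  have hyi : y⁻¹ = y := inv_eq_of_mul_eq_one_left hy
  have h1 : x * (x * y) ^ k * x⁻¹ = (x * y) ^ (-k) := by
    rw [← conj_zpow, zpow_neg, ← inv_zpow]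
    congr 1
    rw [mul_inv_rev, hyi, hxi, ← mul_assoc, hx, one_mul]
  rw [← h1]; group

theorem mul_zpow_dihedral' {x y : G} (hx : x * x = 1) (hy : y * y = 1) (k : ℤ) :
    y * (x * y) ^ k = (x * y) ^ (-k) * y := by
  have hxi : x⁻¹ = x := inv_eq_of_mul_eq_one_left hx
  have hyi : y⁻¹ = y := inv_eq_of_mul_eq_one_left hy
  have h1 : y * (x * y) ^ k * y⁻¹ = (x * y) ^ (-k) := by
    rw [← conj_zpow, zpow_neg, ← inv_zpow]
    congr 1
    rw [mul_inv_rev, hyi, hxi]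
    calc y * (x * y) * y = y * x * (y * y) := by group
      _ = y * x := by rw [hy, mul_one]
  rw [← h1]; group

/-- For involutions `x ∈ 𝒜`, `y ∈ ℬ` there is a conjugate `x' ∈ 𝒜` of `x` commuting with `y`, such that
`z = x' y` is a power of `x y`, is centralised by `x` (and `y`), and `x = v x' v⁻¹` with `v ∈ O(C(z))`. -/
theorem exists_dihedral [Finite G] {𝒜 ℬ : Set G} (hp : Pair 𝒜 ℬ) {x y : G} (hx : x ∈ 𝒜) (hy : y ∈ ℬ)
    (ox : orderOf x = 2) (oy : orderOf y = 2) :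
    ∃ x' : G, CPair 𝒜 ℬ x' y ∧ x * (x' * y) = x' * y * x ∧ x' * y ∈ zpowers (x * y) ∧
      ∃ v ∈ Oc (x' * y), x = v * x' * v⁻¹ := by
  have hxx := mul_self ox
  have hyy := mul_self oy
  set r := x * y with hr
  have hn : orderOf r ≠ 0 := (orderOf_pos r).ne'
  obtain ⟨k, m, hm, hkm⟩ := Nat.exists_eq_two_pow_mul_odd hn
  obtain ⟨j, rfl⟩ := hm
  set z := r ^ (2 * j + 1) with hz
  -- the conjugate
  set x' := r ^ (j : ℤ) * x * (r ^ (j : ℤ))⁻¹ with hx'
  have hx'2 : x' = z * y := by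
    have e1 : x * r ^ (-(j : ℤ)) = r ^ (j : ℤ) * x := by
      rw [hr, mul_zpow_dihedral hxx hyy, neg_neg]
    have e2 : x = r * y := by rw [hr, mul_assoc, hyy, mul_one]
    calc x' = r ^ (j : ℤ) * (x * r ^ (-(j : ℤ))) := by rw [hx', zpow_neg]; group
      _ = r ^ (j : ℤ) * (r ^ (j : ℤ) * x) := by rw [e1]
      _ = r ^ (j : ℤ) * r ^ (j : ℤ) * (r * y) := by rw [← e2]; group
      _ = z * y := by
        rw [hz]
        have e3 : r ^ (j : ℤ) * r ^ (j : ℤ) * r = r ^ (2 * j + 1) := by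
          rw [zpow_natCast, ← pow_add, ← pow_succ]; congr 1; ring
        rw [← e3]; group
  have hz2 : x' * y = z := by rw [hx'2, mul_assoc, hyy, mul_one]
  have hx'A : x' ∈ 𝒜 := hp.left.conj_mem x hx _
  have ox' : orderOf x' = 2 := orderOf_conj ox _
  -- `x'` and `y` lie in a 2-group
  have hzp : IsPGroup 2 (zpowers z) := by
    rintro ⟨w, hw⟩
    refine ⟨k, ?_⟩
    obtain ⟨n, rfl⟩ := mem_zpowers_iff.1 hw
    apply Subtype.ext
    simp only [SubmonoidClass.mk_pow, OneMemClass.coe_one]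
    have h1 : z ^ 2 ^ k = 1 := by
      rw [hz, ← pow_mul, mul_comm, ← hkm, pow_orderOf_eq_one]
    rw [← zpow_natCast, ← zpow_mul, mul_comm, zpow_mul, zpow_natCast, h1, one_zpow]
  have hzr : z = r ^ ((2 * j + 1 : ℕ) : ℤ) := by rw [zpow_natCast]
  have hyz : y * z = z⁻¹ * y := by
    rw [hzr, hr, mul_zpow_dihedral' hxx hyy, zpow_neg]
  have hxz : x * z = z⁻¹ * x := by
    rw [hzr, hr, mul_zpow_dihedral hxx hyy, zpow_neg]
  have hnorm : zpowers y ≤ normalizer (zpowers z : Set G) := by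
    rw [zpowers_le, mem_normalizer_iff]
    have e1 : ∀ n : ℤ, y * z ^ n * y⁻¹ = z ^ (-n) := by
      intro n
      rw [← conj_zpow, hyz, zpow_neg, ← inv_zpow]
      congr 1; group
    have e2 : ∀ w ∈ zpowers z, y * w * y⁻¹ ∈ zpowers z := by
      intro w hw
      obtain ⟨n, rfl⟩ := mem_zpowers_iff.1 hw
      rw [e1]
      exact zpow_mem (mem_zpowers z) _
    intro w
    refine ⟨e2 w, fun hw => ?_⟩
    have := e2 _ hw
    have e3 : y * (y * w * y⁻¹) * y⁻¹ = (y * y) * w * (y * y)⁻¹ := by group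
    rw [e3, hyy] at this
    simpa using this
  have hQ : IsPGroup 2 (zpowers z ⊔ zpowers y : Subgroup G) :=
    hzp.to_sup_of_normal_left' (isPGroup_zpowers_of_orderOf oy) hnorm
  have hc : x' * y = y * x' := by
    refine hp.comm hQ hx'A hy ?_ (mem_sup_right (mem_zpowers y))
    rw [hx'2]
    exact mul_mem (mem_sup_left (mem_zpowers z)) (mem_sup_right (mem_zpowers y))
  have hcp : CPair 𝒜 ℬ x' y := ⟨hx'A, hy, ox', oy, hc⟩
  have hzz : z⁻¹ = z := by rw [← hz2]; exact inv_eq (hcp.mul_order hp)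
  refine ⟨x', hcp, ?_, ?_, ?_⟩
  · rw [hz2, hxz, hzz]
  · rw [hz2]; exact npow_mem_zpowers r _
  · have hg : r ^ (-(j : ℤ)) * (x' * y) = x' * y * r ^ (-(j : ℤ)) := by
      rw [hz2, hzr]
      exact ((Commute.refl r).zpow_zpow _ _).eq
    have h1 := hcp.comm_mem_Oc hp hg
    have h2 : x' * r ^ (-(j : ℤ)) * x'⁻¹ * (r ^ (-(j : ℤ)))⁻¹ = x' * x⁻¹ := by
      have e4 : x = r ^ (-(j : ℤ)) * x' * (r ^ (-(j : ℤ)))⁻¹ := by rw [hx', zpow_neg]; group
      conv_rhs => rw [e4]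
      group
    rw [h2] at h1
    have h3 : x * x'⁻¹ ∈ Oc (x' * y) := by
      have := inv_mem h1
      rwa [mul_inv_rev, inv_inv] at this
    refine exists_conj_of_mul_inv_mem (odd_Oc _) ox' ox ?_ h3
    intro c hcO
    refine conj_mem_Oc ?_ hcO
    rw [mul_assoc x' y x', ← hc]

/-- Four-groups: an involution `b ∈ ℬ` of a Sylow 2-subgroup `T` commutes with another involution
`b₁ ∈ ℬ` of `T`. -/
theorem exists_four [Finite G] {𝒜 ℬ : Set G} (h : Min 𝒜 ℬ) (T : Sylow 2 G) {b : G} (hb : b ∈ ℬ)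
    (hbT : b ∈ (T : Subgroup G)) (ob : orderOf b = 2) :
    ∃ b₁ ∈ ℬ, b₁ ∈ (T : Subgroup G) ∧ orderOf b₁ = 2 ∧ b₁ ≠ b ∧ b * b₁ = b₁ * b := by
  by_contra hcon
  push Not at hcon
  -- `b` is the only involution of `ℬ ∩ T`
  obtain ⟨c, hcB, hcT, oc, hcc⟩ := exists_central h.right T.2 hb hbT (ne_one ob)
  have hcb : c = b := by
    by_contra hne
    exact hcon c hcB hcT oc hne (hcc b hbT).symm
  have huniq : ∀ x ∈ ℬ, x ∈ (T : Subgroup G) → orderOf x = 2 → x = b := by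
    intro x hx hxT ox
    by_contra hne
    exact hcon x hx hxT ox hne (by rw [← hcb]; exact hcc x hxT)
  have hz := Cfsg.Agent.S0215.result T b ob hbT (by
    intro g hg
    exact huniq _ (h.right.conj_mem b hb g) hg (orderOf_conj ob g))
  obtain ⟨N, hN, hNodd, hNc⟩ := hz
  have hN1 : N ≤ Cfsg.pPrimeCore 2 G :=
    Cfsg.Agent.Lib.Cores.le_pPrimeCore hN (Nat.coprime_two_right.2 hNodd)
  have hcent : ∀ g : G, b * g = g * b := by
    intro g
    have h1 := hN1 (hNc g)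
    have h2 : Cfsg.pPrimeCore 2 G = ⊥ := h.oddCore
    rw [h2, mem_bot] at h1
    calc b * g = (b * g * b⁻¹ * g⁻¹) * (g * b) := by group
      _ = g * b := by rw [h1, one_mul]
  have hn : (zpowers b).Normal := by
    refine ⟨fun x hx g => ?_⟩
    obtain ⟨n, rfl⟩ := mem_zpowers_iff.1 hx
    have : g * b ^ n * g⁻¹ = b ^ n := by
      have h3 : Commute g (b ^ n) := ((show Commute b g from hcent g).symm).zpow_right n
      rw [h3.eq]; group
    rw [this]; exact hx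
  have h4 : b ∈ Cfsg.pCore 2 G :=
    Cfsg.Agent.Lib.Cores.le_pCore hn (isPGroup_zpowers_of_orderOf ob) (mem_zpowers b)
  exact ne_one ob (h.right_two b hb h4)

/-! ### Consequences of the induction hypothesis -/

/-- elementwise form of `ind`. -/
theorem ind_mem {𝒜 ℬ : Set G} (h : Min 𝒜 ℬ) {H : Subgroup G} (hH : H ≠ ⊤) {a b : G} (ha : a ∈ 𝒜)
    (hb : b ∈ ℬ) (haH : a ∈ H) (hbH : b ∈ H) : a * b * a⁻¹ * b⁻¹ ∈ core H :=
  h.ind H hH (commutator_mem_commutator (mem_fam ha haH) (mem_fam hb hbH))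

/-- an involution of `𝒜` is not central -/
theorem centralizer_ne_top_left {𝒜 ℬ : Set G} (h : Min 𝒜 ℬ) {a : G} (ha : a ∈ 𝒜) (oa : orderOf a = 2) :
    centralizer ({a} : Set G) ≠ ⊤ := by
  intro htop
  have hcent : ∀ g : G, g * a = a * g := fun g => mem_cent.1 (by rw [htop]; exact mem_top g)
  have hn : (zpowers a).Normal := by
    refine ⟨fun x hx g => ?_⟩
    obtain ⟨n, rfl⟩ := mem_zpowers_iff.1 hx
    have : g * a ^ n * g⁻¹ = a ^ n := by
      have h3 : Commute g (a ^ n) := (show Commute g a from hcent g).zpow_right n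
      rw [h3.eq]; group
    rw [this]; exact hx
  have h4 : a ∈ Cfsg.pCore 2 G :=
    Cfsg.Agent.Lib.Cores.le_pCore hn (isPGroup_zpowers_of_orderOf oa) (mem_zpowers a)
  exact ne_one oa (h.left_two a ha h4)

theorem centralizer_ne_top_right {𝒜 ℬ : Set G} (h : Min 𝒜 ℬ) {b : G} (hb : b ∈ ℬ) (ob : orderOf b = 2) :
    centralizer ({b} : Set G) ≠ ⊤ := centralizer_ne_top_left (Min.symm h) hb ob

/-- In a subgroup `H` where `[𝒜 ∩ H, ℬ ∩ H] ≤ O(H)`: an element `g ∈ H` centralising `x y` centralises `x` and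
`y` modulo `O(H)`. -/
theorem comm_mem_core_of_ind [Finite G] {𝒜 ℬ : Set G} (h : Min 𝒜 ℬ) {H : Subgroup G} (hH : H ≠ ⊤)
    {x y g : G} (hc : CPair 𝒜 ℬ x y) (hxH : x ∈ H) (hyH : y ∈ H) (hgH : g ∈ H)
    (hg : g * (x * y) = x * y * g) : g * x * g⁻¹ * x⁻¹ ∈ core H := by
  classical
  have hnorm : (Cfsg.pPrimeCore 2 H).Normal := Cfsg.Agent.Lib.Cores.pPrimeCore_normal 2
  set f : H →* H ⧸ (Cfsg.pPrimeCore 2 H) := QuotientGroup.mk' _ with hf
  have hfs : Function.Surjective f := QuotientGroup.mk'_surjective _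
  have hodd : Odd (Nat.card f.ker) := by
    rw [hf, QuotientGroup.ker_mk']
    exact Nat.coprime_two_right.1 (Cfsg.Agent.Lib.Cores.pPrimeCore_coprime 2)
  have hP : Pair (f '' {x : H | (x : G) ∈ 𝒜}) (f '' {x : H | (x : G) ∈ ℬ}) :=
    (h.toPair.restrict H).image_of_odd hfs hodd
  have hker : ∀ u : H, f u = 1 ↔ (u : G) ∈ core H := by
    intro u
    rw [hf, QuotientGroup.mk'_apply, QuotientGroup.eq_one_iff]
    constructor
    · intro hu; exact ⟨u, hu, rfl⟩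
    · rintro ⟨v, hv, e⟩
      rwa [← Subtype.ext e]
  have hcomm : ∀ u v : H, (u : G) ∈ 𝒜 → (v : G) ∈ ℬ → f u * f v = f v * f u := by
    intro u v hu hv
    have h1 := ind_mem h hH hu hv u.2 v.2
    have h2 : f (u * v * u⁻¹ * v⁻¹) = 1 := (hker _).2 h1
    rw [map_mul, map_mul, map_mul, map_inv, map_inv] at h2
    calc f u * f v = (f u * f v * (f u)⁻¹ * (f v)⁻¹) * (f v * f u) := by group
      _ = _ := by rw [h2, one_mul]
  -- names
  set x₀ : H := ⟨x, hxH⟩ with hx₀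
  set y₀ : H := ⟨y, hyH⟩ with hy₀
  set g₀ : H := ⟨g, hgH⟩ with hg₀
  have ex : x₀ * x₀ = 1 := Subtype.ext (mul_self hc.oa)
  have ey : y₀ * y₀ = 1 := Subtype.ext (mul_self hc.ob)
  set X := f x₀ with hX
  set Y := f y₀ with hY
  set g' := f g₀ with hg'
  have hXX : X * X = 1 := by rw [hX, ← map_mul, ex, map_one]
  have hYY : Y * Y = 1 := by rw [hY, ← map_mul, ey, map_one]
  set X' := g' * X * g'⁻¹ with hX'
  set Y' := g' * Y * g'⁻¹ with hY'
  have hX'X' : X' * X' = 1 := by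
    have : X' * X' = g' * (X * X) * g'⁻¹ := by rw [hX']; group
    rw [this, hXX]; group
  have hY'Y' : Y' * Y' = 1 := by
    have : Y' * Y' = g' * (Y * Y) * g'⁻¹ := by rw [hY']; group
    rw [this, hYY]; group
  have hXA : X ∈ f '' {x : H | (x : G) ∈ 𝒜} := ⟨x₀, hc.a_mem, rfl⟩
  have hYB : Y ∈ f '' {x : H | (x : G) ∈ ℬ} := ⟨y₀, hc.b_mem, rfl⟩
  have hX'A : X' ∈ f '' {x : H | (x : G) ∈ 𝒜} := hP.left.conj_mem X hXA g'
  have hY'B : Y' ∈ f '' {x : H | (x : G) ∈ ℬ} := hP.right.conj_mem Y hYB g'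
  have hcommQ : ∀ U ∈ f '' {x : H | (x : G) ∈ 𝒜}, ∀ V ∈ f '' {x : H | (x : G) ∈ ℬ}, U * V = V * U := by
    rintro _ ⟨u, hu, rfl⟩ _ ⟨v, hv, rfl⟩
    exact hcomm u v hu hv
  have hprod : X' * Y' = X * Y := by
    have e1 : g₀ * (x₀ * y₀) * g₀⁻¹ = x₀ * y₀ := by
      apply Subtype.ext
      show g * (x * y) * g⁻¹ = x * y
      rw [hg]; group
    have e2 : X' * Y' = f (g₀ * (x₀ * y₀) * g₀⁻¹) := by
      rw [hX', hY', hX, hY, hg']
      simp only [map_mul, map_inv]; group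
    rw [e2, e1, map_mul]
  -- `w = X⁻¹ X' = Y Y'⁻¹`
  set w := X⁻¹ * X' with hw
  have hw2 : w = Y * Y'⁻¹ := by
    have : X' = X * Y * Y'⁻¹ := by rw [← hprod]; group
    rw [hw, this]; group
  have hXi : X⁻¹ = X := inv_eq_of_mul_eq_one_left hXX
  have hYi : Y⁻¹ = Y := inv_eq_of_mul_eq_one_left hYY
  have hY'i : Y'⁻¹ = Y' := inv_eq_of_mul_eq_one_left hY'Y'
  have hX'i : X'⁻¹ = X' := inv_eq_of_mul_eq_one_left hX'X'
  -- `X` and `X'` commute
  have hXw : X * w = w * X := by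
    rw [hw2, hY'i, ← mul_assoc, hcommQ X hXA Y hYB, mul_assoc, hcommQ X hXA Y' hY'B, ← mul_assoc]
  have hYw : Y * w = w * Y := by
    rw [hw, hXi, ← mul_assoc, ← hcommQ X hXA Y hYB, mul_assoc, ← hcommQ X' hX'A Y hYB, ← mul_assoc]
  have hXX' : X * X' = X' * X := by
    have e : X' = X * w := by rw [hw]; group
    calc X * X' = X * (X * w) := by rw [← e]
      _ = X * (w * X) := by rw [hXw]
      _ = (X * w) * X := by group
      _ = X' * X := by rw [← e]
  have hYY' : Y * Y' = Y' * Y := by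
    have e : Y' = w⁻¹ * Y := by rw [hw2]; group
    have hw3 : Y * w⁻¹ = w⁻¹ * Y := by
      have : Commute Y w := hYw
      exact this.inv_right.eq
    calc Y * Y' = Y * (w⁻¹ * Y) := by rw [← e]
      _ = (Y * w⁻¹) * Y := by group
      _ = (w⁻¹ * Y) * Y := by rw [hw3]
      _ = Y' * Y := by rw [← e]
  have hwA : w ∈ f '' {x : H | (x : G) ∈ 𝒜} := by
    by_cases hX1 : X = 1
    · have : w = X' := by rw [hw, hX1]; group
      rw [this]; exact hX'A
    · have hX'1 : X' ≠ 1 := by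
        intro h1
        apply hX1
        have : X = g'⁻¹ * X' * g' := by rw [hX']; group
        rw [this, h1]; group
      have hQ := isPGroup_sup_zpowers (isPGroup_zpowers_of_orderOf (orderOf_eq_two hXX hX1))
        (orderOf_eq_two hX'X' hX'1) (by
          intro q hq
          obtain ⟨n, rfl⟩ := mem_zpowers_iff.1 hq
          exact ((show Commute X' X from hXX'.symm).zpow_right n).eq)
      exact hP.left.mul_mem _ hQ _ (inv_mem mem_sup_left') _ mem_sup_right' (hP.left.inv_mem hXA) hX'A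
  have hwB : w ∈ f '' {x : H | (x : G) ∈ ℬ} := by
    by_cases hY1 : Y = 1
    · have : w = Y'⁻¹ := by rw [hw2, hY1]; group
      rw [this]; exact hP.right.inv_mem hY'B
    · have hY'1 : Y' ≠ 1 := by
        intro h1
        apply hY1
        have : Y = g'⁻¹ * Y' * g' := by rw [hY']; group
        rw [this, h1]; group
      have hQ := isPGroup_sup_zpowers (isPGroup_zpowers_of_orderOf (orderOf_eq_two hYY hY1))
        (orderOf_eq_two hY'Y' hY'1) (by
          intro q hq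
          obtain ⟨n, rfl⟩ := mem_zpowers_iff.1 hq
          exact ((show Commute Y' Y from hYY'.symm).zpow_right n).eq)
      rw [hw2]
      exact hP.right.mul_mem _ hQ _ mem_sup_left' _ (inv_mem mem_sup_right') hYB (hP.right.inv_mem hY'B)
  have hw1 : w = 1 := hP.disj w hwA hwB
  have h5 : X' * X⁻¹ = 1 := by
    have : X' = X := (inv_mul_eq_one.1 hw1).symm
    rw [this]; group
  have h6 : f (g₀ * x₀ * g₀⁻¹ * x₀⁻¹) = 1 := by
    rw [← h5, hX', hX, hg']
    simp only [map_mul, map_inv]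
  exact (hker _).1 h6

end Cfsg.Agent.TwoFusion.ClosedLocal
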