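import Cfsg.Agent.TwoFusion.GoldSetup
import Cfsg.Agent.TwoFusion.ClosedLocal
import Mathlib

/-!
# Goldschmidt's theorem, the case `|A| = 4`: the frame

`Setup 𝒜`, `A = fam 𝒜 S` of order four.
* `trans`: `N_G(A)` is transitive on `A#`;
* `stab`: an element of `N_G(A)` fixing some `x ∈ A#` centralizes `A`;
* `central`: `A ≤ Z(S)`.
Under the hypothesis `Solid` (`C(w) ≤ O(C(w)) N_G(A)` for `w ∈ A#`):
* `cent_le`: `C(w) ≤ O(C(w)) C(A)`;
* `core_inf`: `O(C(w)) ∩ C(A) = O(C(A))`;
* `false_of_core_le`: if `O(C(w)) ≤ C(A)` then `G` has a strongly embedded subgroup (using S1174).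
-/

set_option autoImplicit false
set_option linter.style.haveILetI false

namespace Cfsg.Agent.TwoFusion.GoldFour

open Subgroup
open Cfsg.Agent.TwoFusion.ClosedFam Cfsg.Agent.TwoFusion.Gold Cfsg.Agent.TwoFusion.GoldSetup
open Cfsg.Agent.TwoFusion.ClosedLocal

universe u

variable {G : Type u} [Group G] [Finite G] {𝒜 : Set G}

omit [Finite G] in
/-- The order of a product of two subgroups. -/
theorem card_sup_dvd_of_le_normalizer {V K : Subgroup G} (hVK : V ≤ normalizer (K : Set G)) :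
    Nat.card (V ⊔ K : Subgroup G) ∣ Nat.card K * Nat.card V := by
  set C := V ⊔ K with hC
  have hVC : V ≤ C := le_sup_left
  have hKC : K ≤ C := le_sup_right
  have hn : (K.subgroupOf C).Normal :=
    (normal_subgroupOf_iff_le_normalizer hKC).2 (sup_le hVK le_normalizer)
  have h1 := Cfsg.Agent.Lib.Cores.card_sup_dvd (K.subgroupOf C) (V.subgroupOf C) hn
  rw [← subgroupOf_sup hKC hVC, sup_comm K V, ← hC, subgroupOf_self, card_top,
    Nat.card_congr (subgroupOfEquivOfLe hKC).toEquiv,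
    Nat.card_congr (subgroupOfEquivOfLe hVC).toEquiv] at h1
  exact h1

/-- `C_G(w) ≤ O(C_G(w)) N_G(A)` for all `w ∈ A#`. -/
def Solid (𝒜 : Set G) (S : Sylow 2 G) : Prop :=
  ∀ w ∈ fam 𝒜 (S : Subgroup G), w ≠ 1 → ∀ c : G, c * w = w * c →
    ∃ o ∈ core (centralizer ({w} : Set G)), ∃ n ∈ normalizer (fam 𝒜 (S : Subgroup G) : Set G), c = o * n

section

variable (h : Setup 𝒜) (S : Sylow 2 G) (h4 : Nat.card (fam 𝒜 (S : Subgroup G)) = 4)

include h h4

/-- The elements of a four-group. -/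
theorem exhaust {x y z : G} (hx : x ∈ fam 𝒜 (S : Subgroup G)) (hy : y ∈ fam 𝒜 (S : Subgroup G))
    (hz : z ∈ fam 𝒜 (S : Subgroup G)) (hx1 : x ≠ 1) (hy1 : y ≠ 1) (hxy : x ≠ y) :
    z = 1 ∨ z = x ∨ z = y ∨ z = x * y := by
  classical
  by_contra hcon
  push Not at hcon
  obtain ⟨h1, h2, h3, h5⟩ := hcon
  have hxx := h.sq S x hx
  have hyy := h.sq S y hy
  have hxy1 : x * y ≠ 1 := by
    intro e
    apply hxy
    have : x = y⁻¹ := eq_inv_of_mul_eq_one_left e
    rw [this]; exact inv_eq_of_mul_eq_one_left hyy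
  have hxyx : x * y ≠ x := fun e => hy1 (mul_eq_left.1 e)
  have hxyy : x * y ≠ y := fun e => hx1 (mul_eq_right.1 e)
  let s : Finset (fam 𝒜 (S : Subgroup G)) :=
    {⟨1, one_mem _⟩, ⟨x, hx⟩, ⟨y, hy⟩, ⟨x * y, mul_mem hx hy⟩, ⟨z, hz⟩}
  have hs : s.card = 5 := by
    simp only [s]
    rw [Finset.card_insert_of_notMem, Finset.card_insert_of_notMem, Finset.card_insert_of_notMem,
      Finset.card_insert_of_notMem, Finset.card_singleton]
    · simp only [Finset.mem_singleton, Subtype.mk.injEq]; exact fun e => h5 e.symm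
    · simp only [Finset.mem_insert, Finset.mem_singleton, Subtype.mk.injEq]
      rintro (e | e)
      · exact hxyy e.symm
      · exact h3 e.symm
    · simp only [Finset.mem_insert, Finset.mem_singleton, Subtype.mk.injEq]
      rintro (e | e | e)
      · exact hxy e
      · exact hxyx e.symm
      · exact h2 e.symm
    · simp only [Finset.mem_insert, Finset.mem_singleton, Subtype.mk.injEq]
      rintro (e | e | e | e)
      · exact hx1 e.symm
      · exact hy1 e.symm
      · exact hxy1 e.symm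
      · exact h1 e.symm
  have hfin : Fintype (fam 𝒜 (S : Subgroup G)) := Fintype.ofFinite _
  have := Finset.card_le_univ s
  rw [hs, ← Nat.card_eq_fintype_card, h4] at this
  omega

/-- An involution of `A` is not normalized by the whole of `N_G(A)`. -/
theorem exists_moved {x : G} (hx : x ∈ fam 𝒜 (S : Subgroup G)) (hx1 : x ≠ 1) :
    ∃ n ∈ normalizer (fam 𝒜 (S : Subgroup G) : Set G), n * x * n⁻¹ ≠ x := by
  by_contra hcon
  push Not at hcon
  have hxx := h.sq S x hx
  have hB : zpowers x ≤ fam 𝒜 (S : Subgroup G) := by rwa [zpowers_le]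
  rcases h.irreducible S hB (by
    intro n hn y hy
    obtain ⟨k, rfl⟩ := mem_zpowers_iff.1 hy
    rw [← conj_zpow, hcon n hn]
    exact ⟨k, rfl⟩) with e | e
  · rw [zpowers_eq_bot] at e; exact hx1 e
  · have h1 : Nat.card (zpowers x) = 2 := by
      rw [Nat.card_zpowers]
      exact orderOf_eq_prime (by rw [pow_two]; exact hxx) hx1
    rw [e, h4] at h1
    omega

/-- `N_G(A)` is transitive on `A#`. -/
theorem trans {x y : G} (hx : x ∈ fam 𝒜 (S : Subgroup G)) (hy : y ∈ fam 𝒜 (S : Subgroup G))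
    (hx1 : x ≠ 1) (hy1 : y ≠ 1) : ∃ n ∈ normalizer (fam 𝒜 (S : Subgroup G) : Set G), n * x * n⁻¹ = y := by
  set A := fam 𝒜 (S : Subgroup G) with hA
  have hconj : ∀ n ∈ normalizer (A : Set G), ∀ z ∈ A, n * z * n⁻¹ ∈ A := fun n hn z hz =>
    (mem_normalizer_iff.1 hn z).1 hz
  obtain ⟨n, hn, hnx⟩ := exists_moved h S h4 hx hx1
  set x' := n * x * n⁻¹ with hx'
  have hx'A : x' ∈ A := hconj n hn x hx
  have hx'1 : x' ≠ 1 := by
    intro e
    apply hx1
    have : x = n⁻¹ * x' * n := by rw [hx']; group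
    rw [this, e]; group
  have hxx := h.sq S x hx
  have hx'x' := h.sq S x' hx'A
  by_cases hm : ∃ m ∈ normalizer (A : Set G), m * x * m⁻¹ = x * x'
  · rcases exhaust h S h4 hx hx'A hy hx1 hx'1 (Ne.symm hnx) with e | e | e | e
    · exact absurd e hy1
    · exact ⟨1, one_mem _, by rw [e]; simp⟩
    · exact ⟨n, hn, e.symm⟩
    · obtain ⟨m, hm, hmx⟩ := hm
      exact ⟨m, hm, by rw [hmx, e]⟩
  · exfalso
    push Not at hm
    have h1 : ∀ m ∈ normalizer (A : Set G), m * x * m⁻¹ = x ∨ m * x * m⁻¹ = x' := by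
      intro m hmN
      rcases exhaust h S h4 hx hx'A (hconj m hmN x hx) hx1 hx'1 (Ne.symm hnx) with e | e | e | e
      · exfalso
        apply hx1
        have : x = m⁻¹ * (m * x * m⁻¹) * m := by group
        rw [this, e]; group
      · exact Or.inl e
      · exact Or.inr e
      · exact absurd e (hm m hmN)
    have hcomm : x * x' = x' * x := h.comm S x hx x' hx'A
    have hxx'1 : x * x' ≠ 1 := by
      intro e
      apply hnx
      have : x' = x⁻¹ := (inv_eq_of_mul_eq_one_right e).symm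
      rw [this]; exact inv_eq_of_mul_eq_one_left hxx
    obtain ⟨m, hmN, hmx⟩ := exists_moved h S h4 (mul_mem hx hx'A) hxx'1
    apply hmx
    have e1 : m * (x * x') * m⁻¹ = (m * x * m⁻¹) * (m * n * x * (m * n)⁻¹) := by
      rw [hx']; group
    have e2 : m * x' * m⁻¹ = m * n * x * (m * n)⁻¹ := by rw [hx']; group
    have hne : m * x * m⁻¹ ≠ m * x' * m⁻¹ := by
      intro e
      exact hnx (mul_left_cancel (mul_right_cancel e)).symm
    rw [e1]
    rw [e2] at hne
    rcases h1 m hmN with e3 | e3 <;> rcases h1 (m * n) (mul_mem hmN hn) with e4 | e4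
    · exact absurd (e3.trans e4.symm) hne
    · rw [e3, e4]
    · rw [e3, e4, hcomm]
    · exact absurd (e3.trans e4.symm) hne

/-- An element of `N_G(A)` fixing an element of `A#` centralizes `A`. -/
theorem stab {n x : G} (hn : n ∈ normalizer (fam 𝒜 (S : Subgroup G) : Set G))
    (hx : x ∈ fam 𝒜 (S : Subgroup G)) (hx1 : x ≠ 1) (hnx : n * x * n⁻¹ = x) :
    n ∈ centralizer (fam 𝒜 (S : Subgroup G) : Set G) := by
  classical
  by_contra hcon
  haveI hfin : Fintype (fam 𝒜 (S : Subgroup G)) := Fintype.ofFinite _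
  -- an element `y` moved by `n`
  obtain ⟨y, hy, hny⟩ : ∃ y ∈ fam 𝒜 (S : Subgroup G), n * y * n⁻¹ ≠ y := by
    by_contra hc
    push Not at hc
    apply hcon
    rw [mem_centralizer_iff]
    intro y hy
    have := hc y hy
    calc y * n = (n * y * n⁻¹) * n := by rw [this]
      _ = n * y := by group
  have hy1 : y ≠ 1 := by
    rintro rfl
    exact hny (by simp)
  have hyx : y ≠ x := by
    rintro rfl
    exact hny hnx
  have hnyA : n * y * n⁻¹ ∈ fam 𝒜 (S : Subgroup G) := (mem_normalizer_iff.1 hn y).1 hy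
  have hny' : n * y * n⁻¹ = x * y := by
    rcases exhaust h S h4 hx hy hnyA hx1 hy1 (Ne.symm hyx) with e | e | e | e
    · exfalso
      apply hy1
      have : y = n⁻¹ * (n * y * n⁻¹) * n := by group
      rw [this, e]; group
    · exfalso
      exact hyx (mul_left_cancel (mul_right_cancel (e.trans hnx.symm)))
    · exact absurd e hny
    · exact e
  -- the sign homomorphism
  let f : ↥(normalizer (fam 𝒜 (S : Subgroup G) : Set G)) →* ℤˣ :=
    (Equiv.Perm.sign (α := fam 𝒜 (S : Subgroup G))).comp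
      ((MulAut.toPerm (fam 𝒜 (S : Subgroup G))).comp (normalizerMonoidHom (fam 𝒜 (S : Subgroup G))))
  have happ : ∀ a : fam 𝒜 (S : Subgroup G),
      ((((MulAut.toPerm (fam 𝒜 (S : Subgroup G))).comp (normalizerMonoidHom (fam 𝒜 (S : Subgroup G))))
        ⟨n, hn⟩ : Equiv.Perm (fam 𝒜 (S : Subgroup G))) a : G) = n * a * n⁻¹ := fun a => rfl
  have hperm : ((MulAut.toPerm (fam 𝒜 (S : Subgroup G))).comp (normalizerMonoidHom (fam 𝒜 (S : Subgroup G))))
      ⟨n, hn⟩ = Equiv.swap (⟨y, hy⟩ : fam 𝒜 (S : Subgroup G)) ⟨x * y, mul_mem hx hy⟩ := by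
    have hxyy : x * y ≠ y := fun e => hx1 (mul_eq_right.1 e)
    have hxyx : x * y ≠ x := fun e => hy1 (mul_eq_left.1 e)
    have hxy1 : x * y ≠ 1 := by
      intro e
      apply hyx
      have : y = x⁻¹ := (inv_eq_of_mul_eq_one_right e).symm
      rw [this]; exact inv_eq_of_mul_eq_one_left (h.sq S x hx)
    ext ⟨a, ha⟩
    rw [happ]
    rcases exhaust h S h4 hx hy ha hx1 hy1 (Ne.symm hyx) with e | e | e | e
    · subst e
      rw [Equiv.swap_apply_of_ne_of_ne]
      · simp
      · intro e; exact hy1 (congrArg Subtype.val e).symm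
      · intro e; exact hxy1 (congrArg Subtype.val e).symm
    · subst e
      rw [Equiv.swap_apply_of_ne_of_ne]
      · exact hnx
      · intro e; exact hyx (congrArg Subtype.val e).symm
      · intro e; exact hxyx (congrArg Subtype.val e).symm
    · subst e
      rw [Equiv.swap_apply_left]
      exact hny'
    · subst e
      rw [Equiv.swap_apply_right]
      change n * (x * y) * n⁻¹ = y
      have e1 : n * (x * y) * n⁻¹ = (n * x * n⁻¹) * (n * y * n⁻¹) := by group
      rw [e1, hnx, hny', ← mul_assoc, h.sq S x hx, one_mul]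
  have hf : f ⟨n, hn⟩ = -1 := by
    change Equiv.Perm.sign (((MulAut.toPerm (fam 𝒜 (S : Subgroup G))).comp
      (normalizerMonoidHom (fam 𝒜 (S : Subgroup G)))) ⟨n, hn⟩) = -1
    rw [hperm, Equiv.Perm.sign_swap]
    intro e
    have e' : y = x * y := congrArg Subtype.val e
    exact hx1 (mul_eq_right.1 e'.symm)
  obtain ⟨H, hH⟩ := IndexTwo.exists_index_two_of_hom f _ hf
  exact h.index_ne_two S H hH

/-- `A` is central in `S`. -/
theorem central : ∀ a ∈ fam 𝒜 (S : Subgroup G), ∀ s ∈ (S : Subgroup G), s * a = a * s := by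
  classical
  haveI : Fact (Nat.Prime 2) := ⟨Nat.prime_two⟩
  haveI hfin : Fintype (fam 𝒜 (S : Subgroup G)) := Fintype.ofFinite _
  intro a ha s hs
  have hsN : s ∈ normalizer (fam 𝒜 (S : Subgroup G) : Set G) := h.le_normalizer S hs
  -- the action of `⟨s⟩` on `A` has an even number of fixed points
  have hsp : IsPGroup 2 (zpowers s) := S.isPGroup'.to_le (by rwa [zpowers_le])
  let φ : zpowers s →* Equiv.Perm (fam 𝒜 (S : Subgroup G)) :=
    ((MulAut.toPerm (fam 𝒜 (S : Subgroup G))).comp (normalizerMonoidHom (fam 𝒜 (S : Subgroup G)))).comp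
      (inclusion (by rwa [zpowers_le] : zpowers s ≤ normalizer (fam 𝒜 (S : Subgroup G) : Set G)))
  letI : MulAction (zpowers s) (fam 𝒜 (S : Subgroup G)) := MulAction.compHom _ φ
  have hsmul : ∀ (g : zpowers s) (b : fam 𝒜 (S : Subgroup G)), ((g • b : fam 𝒜 (S : Subgroup G)) : G) =
      (g : G) * b * (g : G)⁻¹ := fun g b => rfl
  have hmod := hsp.card_modEq_card_fixedPoints (fam 𝒜 (S : Subgroup G))
  rw [h4] at hmod
  have heven : 2 ∣ Nat.card (MulAction.fixedPoints (zpowers s) (fam 𝒜 (S : Subgroup G))) :=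
    (Nat.ModEq.dvd_iff hmod (dvd_refl 2)).1 (by norm_num)
  have h1mem : (⟨1, one_mem _⟩ : fam 𝒜 (S : Subgroup G)) ∈
      MulAction.fixedPoints (zpowers s) (fam 𝒜 (S : Subgroup G)) := by
    intro g
    apply Subtype.ext
    rw [hsmul]; simp
  obtain ⟨b, hb, hb1⟩ : ∃ b ∈ MulAction.fixedPoints (zpowers s) (fam 𝒜 (S : Subgroup G)),
      b ≠ ⟨1, one_mem _⟩ := by
    by_contra hcon
    push Not at hcon
    have : Nat.card (MulAction.fixedPoints (zpowers s) (fam 𝒜 (S : Subgroup G))) = 1 := by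
      rw [Nat.card_eq_one_iff_unique]
      exact ⟨⟨fun x y => Subtype.ext ((hcon x x.2).trans (hcon y y.2).symm)⟩, ⟨⟨_, h1mem⟩⟩⟩
    omega
  have hsb : s * b * s⁻¹ = b := by
    have := hb ⟨s, mem_zpowers s⟩
    have := congrArg Subtype.val this
    rw [hsmul] at this
    exact this
  have hc := stab h S h4 hsN b.2 (fun e => hb1 (Subtype.ext e)) hsb
  exact ((mem_centralizer_iff.1 hc) a ha).symm

/-- `C(w) = O(C(w)) C(A)`. -/
theorem cent_decomp (hs : Solid 𝒜 S) {w c : G} (hw : w ∈ fam 𝒜 (S : Subgroup G)) (hw1 : w ≠ 1)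
    (hc : c * w = w * c) : ∃ o ∈ core (centralizer ({w} : Set G)),
      ∃ n ∈ centralizer (fam 𝒜 (S : Subgroup G) : Set G), c = o * n := by
  obtain ⟨o, ho, n, hn, e⟩ := hs w hw hw1 c hc
  refine ⟨o, ho, n, ?_, e⟩
  apply stab h S h4 hn hw hw1
  have h1 : o * w = w * o := mem_cent.1 (core_le _ ho)
  have e1 : n = o⁻¹ * c := by rw [e]; group
  have h2 : n * w = w * n := by
    rw [e1]
    calc o⁻¹ * c * w = o⁻¹ * (c * w) := by group
      _ = o⁻¹ * w * c := by rw [hc]; group
      _ = w * o⁻¹ * c := by rw [(show Commute o w from h1).inv_left.eq]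
      _ = w * (o⁻¹ * c) := by group
  rw [h2]; group

omit [Finite G] h h4 in
theorem centralizer_le_cent {w : G} (hw : w ∈ fam 𝒜 (S : Subgroup G)) :
    centralizer (fam 𝒜 (S : Subgroup G) : Set G) ≤ centralizer ({w} : Set G) :=
  centralizer_le (by simpa using hw)

/-- `O(C(w)) ∩ C(A) = O(C(A))`. -/
theorem core_inf_centralizer (hs : Solid 𝒜 S) {w : G} (hw : w ∈ fam 𝒜 (S : Subgroup G)) (hw1 : w ≠ 1) :
    core (centralizer ({w} : Set G)) ⊓ centralizer (fam 𝒜 (S : Subgroup G) : Set G) =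
      core (centralizer (fam 𝒜 (S : Subgroup G) : Set G)) := by
  apply le_antisymm
  · apply le_core inf_le_right
    · rintro g hg k ⟨hk1, hk2⟩
      exact ⟨conj_mem_core (centralizer_le_cent S hw hg) hk1,
        Subgroup.mul_mem _ (Subgroup.mul_mem _ hg hk2) (Subgroup.inv_mem _ hg)⟩
    · have h1 := odd_core (centralizer ({w} : Set G))
      exact h1.of_dvd_nat (Subgroup.card_dvd_of_le inf_le_left)
  · apply le_inf _ (core_le _)
    -- `O(C(w)) O(C(A))` is a normal subgroup of odd order of `C(w)`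
    set K := core (centralizer ({w} : Set G)) with hK
    set V := core (centralizer (fam 𝒜 (S : Subgroup G) : Set G)) with hV
    have hVC : V ≤ centralizer ({w} : Set G) := (core_le _).trans (centralizer_le_cent S hw)
    have hVK : V ≤ normalizer (K : Set G) := by
      rw [le_normalizer_iff]
      intro v hv k hk
      exact conj_mem_core (hVC hv) hk
    have hmem : ∀ x, x ∈ V ⊔ K ↔ ∃ v ∈ V, ∃ k ∈ K, x = v * k := by
      intro x
      have h1 : x ∈ V ⊔ K ↔ x ∈ ((V ⊔ K : Subgroup G) : Set G) := Iff.rfl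
      rw [h1, coe_mul_of_left_le_normalizer_right _ _ hVK, Set.mem_mul]
      constructor
      · rintro ⟨v, hv, k, hk, e⟩; exact ⟨v, hv, k, hk, e.symm⟩
      · rintro ⟨v, hv, k, hk, e⟩; exact ⟨v, hv, k, hk, e.symm⟩
    have h1 : V ⊔ K ≤ core (centralizer ({w} : Set G)) := by
      apply le_core (sup_le hVC (core_le _))
      · intro g hg x hx
        obtain ⟨v, hv, k, hk, rfl⟩ := (hmem x).1 hx
        obtain ⟨o, ho, n, hn, rfl⟩ := cent_decomp h S h4 hs hw hw1 (mem_cent.1 hg)
        have hnv : n * v * n⁻¹ ∈ V := conj_mem_core hn hv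
        have hgk : o * n * k * (o * n)⁻¹ ∈ K := conj_mem_core hg hk
        have e : o * n * (v * k) * (o * n)⁻¹ =
            (o * (n * v * n⁻¹) * o⁻¹) * (o * n * k * (o * n)⁻¹) := by group
        rw [e]
        exact mul_mem (mul_mem (mul_mem ((le_sup_right : K ≤ V ⊔ K) ho) ((le_sup_left : V ≤ V ⊔ K) hnv))
          (inv_mem ((le_sup_right : K ≤ V ⊔ K) ho))) ((le_sup_right : K ≤ V ⊔ K) hgk)
      · have e1 : Odd (Nat.card V) := odd_core _
        have e2 : Odd (Nat.card K) := odd_core _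
        exact (e2.mul e1).of_dvd_nat (card_sup_dvd_of_le_normalizer hVK)
    exact le_sup_left.trans h1

/-- `O(C(w)) ∩ O(C(b)) = O(C(A))` for `w ≠ b` in `A#`. -/
theorem core_inf_core (hs : Solid 𝒜 S) {w b : G} (hw : w ∈ fam 𝒜 (S : Subgroup G)) (hw1 : w ≠ 1)
    (hb : b ∈ fam 𝒜 (S : Subgroup G)) (hb1 : b ≠ 1) (hwb : w ≠ b) :
    core (centralizer ({w} : Set G)) ⊓ core (centralizer ({b} : Set G)) =
      core (centralizer (fam 𝒜 (S : Subgroup G) : Set G)) := by
  apply le_antisymm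
  · rintro x ⟨hx1, hx2⟩
    rw [← core_inf_centralizer h S h4 hs hw hw1]
    have hxw : x * w = w * x := mem_cent.1 (core_le _ hx1)
    have hxb : x * b = b * x := mem_cent.1 (core_le _ hx2)
    refine ⟨hx1, mem_centralizer_iff.2 ?_⟩
    intro z hz
    rcases exhaust h S h4 hw hb hz hw1 hb1 hwb with e | e | e | e
    · rw [e]; simp
    · rw [e]; exact hxw.symm
    · rw [e]; exact hxb.symm
    · rw [e]
      calc w * b * x = w * (b * x) := by group
        _ = w * x * b := by rw [← hxb]; group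
        _ = x * (w * b) := by rw [← hxw]; group
  · apply le_inf
    · rw [← core_inf_centralizer h S h4 hs hw hw1]; exact inf_le_left
    · rw [← core_inf_centralizer h S h4 hs hb hb1]; exact inf_le_left

/-- If the cores `O(C(w))`, `w ∈ A#`, centralize `A` we get a contradiction (S1174). -/
theorem false_of_core_le (h1174 : SE1174 G) (hs : Solid 𝒜 S)
    (hle : ∀ w ∈ fam 𝒜 (S : Subgroup G), w ≠ 1 →
      core (centralizer ({w} : Set G)) ≤ centralizer (fam 𝒜 (S : Subgroup G) : Set G)) : False := by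
  apply h.false_of_cent_le S h1174 (h.normalizer_ne_top S)
  intro a ha ha1 c hc
  obtain ⟨o, ho, n, hn, rfl⟩ := cent_decomp h S h4 hs ha ha1 (mem_cent.1 hc)
  exact mul_mem (centralizer_le_normalizer _ (hle a ha ha1 ho)) (centralizer_le_normalizer _ hn)

/-- It is enough that one core `O(C(w))`, `w ∈ A#`, centralizes `A`. -/
theorem false_of_core_le_one (h1174 : SE1174 G) (hs : Solid 𝒜 S) {w : G}
    (hw : w ∈ fam 𝒜 (S : Subgroup G)) (hw1 : w ≠ 1)
    (hle : core (centralizer ({w} : Set G)) ≤ centralizer (fam 𝒜 (S : Subgroup G) : Set G)) : False := by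
  apply false_of_core_le h S h4 h1174 hs
  intro a ha ha1 x hx
  obtain ⟨n, hn, e⟩ := trans h S h4 hw ha hw1 ha1
  -- conjugate by `n`
  have h1 : n⁻¹ * x * n ∈ core (centralizer ({w} : Set G)) := by
    have h2 : (core (centralizer ({a} : Set G))).map (MulAut.conj n⁻¹).toMonoidHom ≤
        core (centralizer ({w} : Set G)) := by
      apply le_core
      · rintro _ ⟨y, hy, rfl⟩
        rw [mem_cent]
        have hya : y * a = a * y := mem_cent.1 (core_le _ hy)
        have ew : w = n⁻¹ * a * n := by rw [← e]; group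
        change n⁻¹ * y * n⁻¹⁻¹ * w = w * (n⁻¹ * y * n⁻¹⁻¹)
        rw [ew]
        calc n⁻¹ * y * n⁻¹⁻¹ * (n⁻¹ * a * n) = n⁻¹ * (y * a) * n := by group
          _ = n⁻¹ * (a * y) * n := by rw [hya]
          _ = n⁻¹ * a * n * (n⁻¹ * y * n⁻¹⁻¹) := by group
      · rintro g hg _ ⟨y, hy, rfl⟩
        refine ⟨(n * g * n⁻¹) * y * (n * g * n⁻¹)⁻¹, ?_, ?_⟩
        · refine conj_mem_core ?_ hy
          rw [mem_cent]
          have hgw : g * w = w * g := mem_cent.1 hg
          rw [← e]
          calc n * g * n⁻¹ * (n * w * n⁻¹) = n * (g * w) * n⁻¹ := by group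
            _ = n * (w * g) * n⁻¹ := by rw [hgw]
            _ = n * w * n⁻¹ * (n * g * n⁻¹) := by group
        · change n⁻¹ * ((n * g * n⁻¹) * y * (n * g * n⁻¹)⁻¹) * n⁻¹⁻¹ = g * (n⁻¹ * y * n⁻¹⁻¹) * g⁻¹
          group
      · rw [Cfsg.Agent.Lib.GoldschmidtFusion.card_map_conj]
        exact odd_core _
    exact h2 ⟨x, hx, by simp⟩
  have h2 := hle h1
  rw [mem_centralizer_iff] at h2 ⊢
  intro z hz
  have hz' : n⁻¹ * z * n ∈ fam 𝒜 (S : Subgroup G) := by
    have := (mem_normalizer_iff.1 (inv_mem hn) z).1 hz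
    simpa using this
  have h3 := h2 _ hz'
  calc z * x = n * ((n⁻¹ * z * n) * (n⁻¹ * x * n)) * n⁻¹ := by group
    _ = n * ((n⁻¹ * x * n) * (n⁻¹ * z * n)) * n⁻¹ := by rw [h3]
    _ = x * z := by group

end

end Cfsg.Agent.TwoFusion.GoldFour
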