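import Cfsg.Agent.TwoFusion.GoldLFourBad
import Cfsg.Agent.TwoFusion.GoldFour

/-!
# Goldschmidt's theorem, `|A| = 4`: no Sylow 2-subgroup `S = R₁ R₂` of type `PSL(3,4)`

`false_of_isAB`: in the setting of `GoldSetup.Setup`, `|A| = 4`, `C(w) ≤ O(C(w)) N(A)` for `w ∈ A#`, the Sylow
2-subgroup `S` cannot be of type `PSL(3,4)` with all its involutions outside `A` bad
(`Bad 𝒜 A e`: `⟨𝒜 ∩ C(e)⟩/O` is simple with Sylow 2-subgroup `A`).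
-/

set_option autoImplicit false

namespace Cfsg.Agent.TwoFusion.GoldLFourMain

open Subgroup
open Cfsg.Agent.TwoFusion.ClosedFam Cfsg.Agent.TwoFusion.GoldSetup Cfsg.Agent.TwoFusion.GoldFour
open Cfsg.Agent.TwoFusion.GoldLFour Cfsg.Agent.TwoFusion.GoldLFourBad
open Cfsg.Agent.TypeL3 (IsAB)

universe u

variable {G : Type u} [Group G] [Finite G] {𝒜 : Set G}

/-- `e` is bad: `⟨𝒜 ∩ C(e)⟩/O(⟨𝒜 ∩ C(e)⟩)` is simple nonabelian with Sylow 2-subgroup `A`. -/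
abbrev Bad (𝒜 : Set G) (A : Subgroup G) (e : G) : Prop := Simp A (fam 𝒜 (centralizer ({e} : Set G)))

theorem mem_iff_conj (h : Setup 𝒜) (S : Sylow 2 G) (x : G) :
    x ∈ 𝒜 ↔ ∃ g : G, g * x * g⁻¹ ∈ fam 𝒜 (S : Subgroup G) := by
  have hfact : Fact (Nat.Prime 2) := ⟨Nat.prime_two⟩
  constructor
  · intro hx
    obtain ⟨T, hT⟩ := (h.fam.toIsClosedFam.isPGroup_zpowers hx).exists_le_sylow
    obtain ⟨c, hc⟩ := MulAction.exists_smul_eq G T S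
    refine ⟨c, ?_⟩
    rw [h.mem_iff S]
    refine ⟨h.fam.toIsClosedFam.conj_mem x hx c, ?_⟩
    rw [← hc]
    exact ⟨x, hT (mem_zpowers x), rfl⟩
  · rintro ⟨g, hg⟩
    exact (h.fam.toIsClosedFam.conj_mem_iff g).1 ((h.mem_iff S).1 hg).1

theorem lf (h : Setup 𝒜) (S : Sylow 2 G) (h4 : Nat.card (fam 𝒜 (S : Subgroup G)) = 4) (hs : Solid 𝒜 S)
    {R₁ R₂ : Subgroup G} (hab : IsAB (S : Subgroup G) R₁ R₂) (hinf : R₁ ⊓ R₂ = fam 𝒜 (S : Subgroup G))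
    (h1 : Nat.card R₁ = 16) (h2 : Nat.card R₂ = 16)
    (hbad : ∀ e ∈ (S : Subgroup G), e * e = 1 → e ∉ fam 𝒜 (S : Subgroup G) → Bad 𝒜 (fam 𝒜 (S : Subgroup G)) e) :
    LF S R₁ R₂ where
  ab := hab
  card := by rw [hinf]; exact h4
  card₁ := h1
  card₂ := h2
  sc := by rw [hinf]; exact h.sc S
  split := by
    rw [hinf]
    intro z hz hz1 x hx
    obtain ⟨o, ho, n, hn, e⟩ := cent_decomp h S h4 hs hz hz1 hx
    refine ⟨n, hn, ?_⟩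
    have e1 : n⁻¹ * x = n⁻¹ * o * n⁻¹⁻¹ := by rw [e]; group
    rw [e1]
    exact ClosedLocal.conj_mem_core (inv_mem (centralizer_le_cent S hz hn)) ho
  rot := by
    rw [hinf]
    intro e he hee heA z hz hz1 z' hz' hz1'
    obtain ⟨n, hnK, hn, hnz⟩ := (hbad e he hee heA).rot h4 (h.sq S) hz hz1 hz' hz1'
    exact ⟨n, hn, mem_centralizer_singleton_iff.1 (fam_le 𝒜 _ hnK), hnz⟩
  odd := by
    rw [hinf]
    intro e he hee heA a ha ha1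
    exact (hbad e he hee heA).odd h4 (h.sq S) (mem_iff_conj h S) ha ha1

/-- **M2(a), `|S| = 64`.** -/
theorem false_of_isAB (h : Setup 𝒜) (S : Sylow 2 G) (h4 : Nat.card (fam 𝒜 (S : Subgroup G)) = 4)
    (hs : Solid 𝒜 S) {R₁ R₂ : Subgroup G} (hab : IsAB (S : Subgroup G) R₁ R₂)
    (hinf : R₁ ⊓ R₂ = fam 𝒜 (S : Subgroup G)) (h1 : Nat.card R₁ = 16) (h2 : Nat.card R₂ = 16)
    (hbad : ∀ e ∈ (S : Subgroup G), e * e = 1 → e ∉ fam 𝒜 (S : Subgroup G) → Bad 𝒜 (fam 𝒜 (S : Subgroup G)) e) :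
    False :=
  (lf h S h4 hs hab hinf h1 h2 hbad).false

end Cfsg.Agent.TwoFusion.GoldLFourMain
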