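import Cfsg.Agent.TwoFusion.GoldRedMax
import Cfsg.Agent.TwoFusion.GoldEight
import Cfsg.Agent.TwoFusion.GoldFourUpIn
import Cfsg.Agent.TwoFusion.GoldLFourMain
import Cfsg.Agent.TwoFusion.GoldBadOf

/-!
# Goldschmidt's theorem, `|A| = 4`: reduction of M2

All involutions outside `𝒜` lead to the configurations of `GoldEight` and `GoldLFourMain`.
-/

set_option autoImplicit false
set_option linter.style.haveILetI false

namespace Cfsg.Agent.TwoFusion.GoldFourRed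

open Subgroup
open Cfsg.Agent.TwoFusion.ClosedFam Cfsg.Agent.TwoFusion.Gold Cfsg.Agent.TwoFusion.GoldSetup
open Cfsg.Agent.TwoFusion.ClosedLocal Cfsg.Agent.TwoFusion.GoldCen Cfsg.Agent.TwoFusion.GoldBad
open Cfsg.Agent.TwoFusion.GoldRedMax

universe u

variable {G : Type u} [Group G]

/-- Every coset `tA`, `t` an involution of `S` outside `A`, contains a bad element. -/
def HBad (𝒜 : Set G) : Prop :=
  ∀ (T : Sylow 2 G) (t : G), t ∈ (T : Subgroup G) → t * t = 1 → t ∉ fam 𝒜 (T : Subgroup G) →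
    ∃ a ∈ fam 𝒜 (T : Subgroup G), Bad 𝒜 (t * a)

/-- The balance statement (B3). -/
def HBal (𝒜 : Set G) : Prop :=
  ∀ T : Sylow 2 G, Nat.card (fam 𝒜 (T : Subgroup G)) = 4 → Bal 𝒜 (fam 𝒜 (T : Subgroup G))

section

variable [Finite G] {𝒜 : Set G} (h : Setup 𝒜) {S : Sylow 2 G} (h4 : Nat.card (fam 𝒜 (S : Subgroup G)) = 4)
  {e : G} (hm : MaxPair 𝒜 S e) (hC1 : GoldP.C1 G) (hbad : HBad 𝒜)

include h

omit [Finite G] in
theorem hidx : ∀ K : Subgroup G, K.index ≠ 2 := by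
  intro K hK
  haveI := h.simple
  obtain ⟨a, b, hab⟩ := h.nonab
  exact hab (GoldBasic.comm_of_index_two hK a b)

include h4 hm hC1

theorem nonab : ∃ x ∈ S, ∃ y ∈ S, x * y ≠ y * x := by
  by_contra hcon
  push Not at hcon
  apply ne h h4 hm hC1
  apply le_antisymm inf_le_left
  intro x hx
  exact mem_Pe.2 ⟨hx, hcon x hx e hm.mem⟩

include hbad

/-- The case `|C_S(e)| = 8`. -/
theorem false_eight (h8 : Nat.card (Pe S e) = 8) : False := by
  classical
  set A := fam 𝒜 (S : Subgroup G) with hA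
  have hcen := GoldFour.central h S h4
  have hd : GoldEight.Data S A := by
    refine ⟨h.sc S, h4, h.sq S, fun a ha s hs => (hcen a ha s hs).symm, ?_⟩
    intro u hu huA huu x hx hxu
    obtain ⟨f, -, -, -, hf⟩ := card_le h h4 hm hbad S hu huu huA
    set Q : Subgroup G := (S : Subgroup G) ⊓ centralizer ({u} : Set G) with hQ
    obtain ⟨-, hQ8⟩ := hf Q inf_le_left (fun q hq => mem_cent.1 (mem_inf.1 hq).2)
    have hAQ : A ≤ Q := fun a ha => mem_inf.2 ⟨fam_le _ _ ha, mem_cent.2 (hcen a ha u hu).symm⟩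
    have huQ : u ∈ Q := mem_inf.2 ⟨hu, mem_cent.2 rfl⟩
    have hxQ : x ∈ Q := mem_inf.2 ⟨hx, mem_cent.2 hxu⟩
    have h1 : A.relIndex Q ≠ 1 := by
      intro h1
      exact huA (relIndex_eq_one.1 h1 huQ)
    have h2 : Nat.card A * A.relIndex Q = Nat.card Q := by
      have := relIndex_mul_relIndex ⊥ A Q bot_le hAQ
      rwa [relIndex_bot_left, relIndex_bot_left] at this
    have h3 : A.relIndex Q = 2 := by
      rw [h4] at h2
      have h5 : Nat.card Q ≤ 8 := hQ8.trans h8.le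
      have h6 : 0 < Nat.card Q := Nat.card_pos
      omega
    by_cases hxA : x ∈ A
    · exact Or.inl hxA
    · right
      have h5 := Subgroup.mul_mem_iff_of_index_two (H := A.subgroupOf Q) h3 (a := ⟨x, hxQ⟩) (b := ⟨u, huQ⟩)
      rw [mem_subgroupOf, mem_subgroupOf, mem_subgroupOf] at h5
      exact h5.2 (iff_of_false hxA huA)
  obtain ⟨n, hne, hnA, hfix⟩ := GoldCenAct.exists_fpf h.fam S h4 hm.bad (comm_e h h4 hm)
  exact GoldEight.main (hidx h) S A hd (nonab h h4 hm hC1) e hm.mem (notMem h h4 hm) hm.bad.1 n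
    (fun a ha => (mem_normalizer_iff.1 hnA a).1 ha) hne hfix

end

/-- In a group of type `PSL(3,4)` the elements of `R₁ - R₂` are conjugate to all elements of their `Z`-coset. -/
theorem exists_conj_eq [Finite G] {T R₁ R₂ : Subgroup G} (h : Cfsg.Agent.TypeL3.IsAB T R₁ R₂)
    (h1 : Nat.card R₁ = 16) (hT : Nat.card T = 64)
    (hZ : Nat.card (R₁ ⊓ R₂ : Subgroup G) = 4) {u : G} (hu : u ∈ R₁) (hu2 : u ∉ R₂) {a : G} (ha : a ∈ R₁ ⊓ R₂) :
    ∃ s ∈ T, s * u * s⁻¹ = u * a := by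
  classical
  have huT := h.A_le hu
  let φ : T →* (R₁ ⊓ R₂ : Subgroup G) :=
    { toFun := fun s => ⟨s * u * (s : G)⁻¹ * u⁻¹, h.comm_mem s.2 huT⟩
      map_one' := Subtype.ext (by
        change (1 : G) * u * (1 : G)⁻¹ * u⁻¹ = 1
        group)
      map_mul' := fun s t => Subtype.ext (by
        change (s : G) * t * u * ((s : G) * t)⁻¹ * u⁻¹ = (s * u * (s : G)⁻¹ * u⁻¹) * (t * u * (t : G)⁻¹ * u⁻¹)
        have h2 := h.comm_Z (h.comm_mem t.2 huT) s.2
        have h3 := h.comm_Z (h.comm_mem t.2 huT) (h.Z_le (h.comm_mem s.2 huT))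
        calc (s : G) * t * u * ((s : G) * t)⁻¹ * u⁻¹ = s * (t * u * (t : G)⁻¹ * u⁻¹) * u * (s : G)⁻¹ * u⁻¹ := by
              group
          _ = (t * u * (t : G)⁻¹ * u⁻¹) * s * u * (s : G)⁻¹ * u⁻¹ := by rw [h2]
          _ = (t * u * (t : G)⁻¹ * u⁻¹) * (s * u * (s : G)⁻¹ * u⁻¹) := by group
          _ = (s * u * (s : G)⁻¹ * u⁻¹) * (t * u * (t : G)⁻¹ * u⁻¹) := h3) }
  have hker : φ.ker = R₁.subgroupOf T := by
    ext s
    rw [MonoidHom.mem_ker, mem_subgroupOf]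
    constructor
    · intro h2
      have h3 : (s : G) * u * (s : G)⁻¹ * u⁻¹ = 1 := congrArg Subtype.val h2
      have h4 : (s : G) * u * (s : G)⁻¹ = u := mul_inv_eq_one.1 h3
      refine h.centA u hu hu2 s s.2 ?_
      calc u * s = ((s : G) * u * (s : G)⁻¹) * s := by rw [h4]
        _ = s * u := by group
    · intro h2
      apply Subtype.ext
      change (s : G) * u * (s : G)⁻¹ * u⁻¹ = 1
      rw [h.A_comm s h2 u hu]; group
  have hkc : Nat.card φ.ker = 16 := by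
    rw [hker, Nat.card_congr (subgroupOfEquivOfLe h.A_le).toEquiv, h1]
  have h5 : Nat.card φ.range * Nat.card φ.ker = Nat.card T := by
    rw [← Nat.card_congr (QuotientGroup.quotientKerEquivRange φ).toEquiv]
    exact (Subgroup.card_eq_card_quotient_mul_card_subgroup φ.ker).symm
  rw [hkc, hT] at h5
  have h6 : φ.range = ⊤ := by
    apply Subgroup.eq_top_of_card_eq
    rw [hZ]; omega
  obtain ⟨s, hs⟩ : (⟨a, ha⟩ : (R₁ ⊓ R₂ : Subgroup G)) ∈ φ.range := by rw [h6]; exact mem_top _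
  refine ⟨s, s.2, ?_⟩
  have h7 : (s : G) * u * (s : G)⁻¹ * u⁻¹ = a := congrArg Subtype.val hs
  calc (s : G) * u * (s : G)⁻¹ = (s * u * (s : G)⁻¹ * u⁻¹) * u := by group
    _ = a * u := by rw [h7]
    _ = u * a := h.comm_Z ha huT

section

variable [Finite G] {𝒜 : Set G} (h : Setup 𝒜) {S : Sylow 2 G} (h4 : Nat.card (fam 𝒜 (S : Subgroup G)) = 4)
  {e : G} (hm : MaxPair 𝒜 S e)

include hm

omit [Finite G] in
theorem maxPair_of_le {T : Sylow 2 G} {f : G} (hf : f ∈ (T : Subgroup G)) (hfb : Bad 𝒜 f)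
    (hle : Nat.card (Pe S e) ≤ Nat.card (Pe T f)) : MaxPair 𝒜 T f :=
  ⟨hf, hfb, fun T' f' h1 h2 => (hm.max T' f' h1 h2).trans hle⟩

/-- A 2-subgroup of `C(e)` containing `P` equals `P`. -/
theorem eq_of_isPGroup {R : Subgroup G} (hPR : Pe S e ≤ R) (hR : IsPGroup 2 R) (hRe : R ≤ centralizer ({e} : Set G)) :
    R = Pe S e := by
  haveI : Fact (Nat.Prime 2) := ⟨Nat.prime_two⟩
  obtain ⟨T, hT⟩ := hR.exists_le_sylow
  have heT : e ∈ (T : Subgroup G) := hT (hPR (mem_Pe.2 ⟨hm.mem, rfl⟩))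
  have h1 := hm.max T e heT hm.bad
  have h2 : R ≤ (T : Subgroup G) ⊓ centralizer ({e} : Set G) := le_inf hT hRe
  exact (Subgroup.eq_of_le_of_card_ge hPR ((Subgroup.card_le_of_le h2).trans h1)).symm

/-- Change of the Sylow subgroup: `N_S(P)` may be assumed to be a Sylow subgroup of `N_G(P)`. -/
theorem exists_sylow : ∃ T : Sylow 2 G, MaxPair 𝒜 T e ∧ Pe T e = Pe S e ∧
    ¬ 2 ∣ ((T : Subgroup G) ⊓ normalizer (Pe T e : Set G)).relIndex (normalizer (Pe T e : Set G)) := by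
  haveI : Fact (Nat.Prime 2) := ⟨Nat.prime_two⟩
  have hPp : IsPGroup 2 (Pe S e) := S.2.to_le inf_le_left
  obtain ⟨R, hPR, hRN, hRp, hRi⟩ := Lib.GoldschmidtFusion.exists_sylow_in (N := normalizer (Pe S e : Set G))
    le_normalizer hPp
  obtain ⟨T, hT⟩ := hRp.exists_le_sylow
  have hPT : Pe S e ≤ Pe T e := le_inf (hPR.trans hT) inf_le_right
  have heT : e ∈ (T : Subgroup G) := hT (hPR (mem_Pe.2 ⟨hm.mem, rfl⟩))
  have h1 := hm.max T e heT hm.bad
  have hPeq : Pe T e = Pe S e := (Subgroup.eq_of_le_of_card_ge hPT h1).symm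
  refine ⟨T, maxPair_of_le hm heT hm.bad (Subgroup.card_le_of_le hPT), hPeq, ?_⟩
  rw [hPeq]
  intro h2
  apply hRi
  rw [← relIndex_mul_relIndex R ((T : Subgroup G) ⊓ normalizer (Pe S e : Set G)) _ (le_inf hT hRN) inf_le_right]
  exact h2.mul_left _

include h h4

/-- An element of `C(e) ∩ N(P) ∩ N(A)` without fixed points on `A`. -/
theorem exists_x : ∃ x : G, x * e = e * x ∧ x ∈ normalizer (Pe S e : Set G) ∧
    x ∈ normalizer (fam 𝒜 (S : Subgroup G) : Set G) ∧ ∀ a ∈ fam 𝒜 (S : Subgroup G), x * a * x⁻¹ = a → a = 1 := by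
  haveI : Fact (Nat.Prime 2) := ⟨Nat.prime_two⟩
  set A := fam 𝒜 (S : Subgroup G) with hA
  have hcen := GoldFour.central h S h4
  have hPp : IsPGroup 2 (Pe S e) := S.2.to_le inf_le_left
  set D : Subgroup G := centralizer (A : Set G) ⊓ centralizer ({e} : Set G) with hD
  have hPD : Pe S e ≤ D := by
    intro p hp
    rw [mem_Pe] at hp
    refine mem_inf.2 ⟨mem_centralizer_iff.2 fun a ha => (hcen a ha p hp.1).symm, mem_cent.2 hp.2⟩
  obtain ⟨R, hPR, hRD, hRp, hRi⟩ := Lib.GoldschmidtFusion.exists_sylow_in hPD hPp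
  have hReq : R = Pe S e := eq_of_isPGroup hm hPR hRp (hRD.trans inf_le_right)
  rw [hReq] at hRi
  obtain ⟨n, hne, hnA, hfix⟩ := GoldCenAct.exists_fpf h.fam S h4 hm.bad (comm_e h h4 hm)
  have hnD : ∀ d ∈ D, n * d * n⁻¹ ∈ D := by
    intro d hd
    have hd1 := mem_centralizer_iff.1 (mem_inf.1 hd).1
    have hd2 := mem_cent.1 (mem_inf.1 hd).2
    refine mem_inf.2 ⟨mem_centralizer_iff.2 fun a ha => ?_, mem_cent.2 ?_⟩
    · have h1 : n⁻¹ * a * n ∈ A := by
        have := (mem_normalizer_iff.1 (inv_mem hnA) a).1 ha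
        rwa [inv_inv] at this
      have h2 := hd1 _ h1
      calc a * (n * d * n⁻¹) = n * ((n⁻¹ * a * n) * d) * n⁻¹ := by group
        _ = n * (d * (n⁻¹ * a * n)) * n⁻¹ := by rw [h2]
        _ = n * d * n⁻¹ * a := by group
    · have h1 : n⁻¹ * e * n = e := by
        rw [mul_assoc, ← hne]; group
      calc n * d * n⁻¹ * e = n * (d * (n⁻¹ * e * n)) * n⁻¹ := by group
        _ = n * ((n⁻¹ * e * n) * d) * n⁻¹ := by rw [h1, hd2]
        _ = e * (n * d * n⁻¹) := by group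
  obtain ⟨d, hd, hdP⟩ := Lib.GoldschmidtFusion.exists_conj_le_in (N := D) hPp hRi
    (D := (Pe S e).map (MulAut.conj n).toMonoidHom) (by
      rintro _ ⟨p, hp, rfl⟩
      exact hnD p (hPD hp)) (hPp.map _)
  rw [← map_conj_mul] at hdP
  have hd1 := mem_centralizer_iff.1 (mem_inf.1 hd).1
  have hd2 := mem_cent.1 (mem_inf.1 hd).2
  refine ⟨d * n, ?_, ?_, ?_, ?_⟩
  · calc d * n * e = d * (n * e) := by group
      _ = (d * e) * n := by rw [hne]; group
      _ = e * (d * n) := by rw [hd2]; group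
  · exact Lib.GoldschmidtFusion.mem_normalizer_iff_map_conj.2
      (Lib.GoldschmidtFusion.map_conj_le_of_le_normalizer hdP)
  · exact mul_mem (centralizer_le_normalizer _ (mem_inf.1 hd).1) hnA
  · intro a ha hx
    apply hfix a ha
    have h1 : n * a * n⁻¹ ∈ A := (mem_normalizer_iff.1 hnA a).1 ha
    have h2 := hd1 _ h1
    calc n * a * n⁻¹ = d⁻¹ * (d * (n * a * n⁻¹)) := by group
      _ = d⁻¹ * ((n * a * n⁻¹) * d) := by rw [h2]
      _ = d⁻¹ * (d * n * a * (d * n)⁻¹) * d := by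
          have h3 : d * n * a * (d * n)⁻¹ = n * a * n⁻¹ := by
            calc d * n * a * (d * n)⁻¹ = (d * (n * a * n⁻¹)) * d⁻¹ := by group
              _ = ((n * a * n⁻¹) * d) * d⁻¹ := by rw [h2]
              _ = n * a * n⁻¹ := by group
          rw [h3]; group
      _ = d⁻¹ * a * d := by rw [hx]
      _ = d⁻¹ * (a * d) := by group
      _ = a := by rw [hd1 a ha]; group

/-- For `|R| = 4`: an element of `N(P) ∩ N(A)` without fixed points on `A` and with `[x, P] ≤ A`. -/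
theorem exists_y (hR4 : Nat.card (Re 𝒜 S e) = 4) (hP2 : ∀ x ∈ Pe S e, x * x = 1) :
    ∃ y : G, y ∈ normalizer (Pe S e : Set G) ∧
    y ∈ normalizer (fam 𝒜 (S : Subgroup G) : Set G) ∧ (∀ a ∈ fam 𝒜 (S : Subgroup G), y * a * y⁻¹ = a → a = 1) ∧
    ∀ p ∈ Pe S e, y * p * y⁻¹ * p⁻¹ ∈ fam 𝒜 (S : Subgroup G) := by
  obtain ⟨x, hxe, hxP, hxA, hfix⟩ := exists_x h h4 hm
  have hxa : ∀ a ∈ fam 𝒜 (S : Subgroup G), x * a * x⁻¹ ∈ fam 𝒜 (S : Subgroup G) := fun a ha =>
    (mem_normalizer_iff.1 hxA a).1 ha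
  have hxR : ∀ r ∈ Re 𝒜 S e, x * r * x⁻¹ ∈ Re 𝒜 S e := by
    intro r hr
    exact mem_inf.2 ⟨(mem_normalizer_iff.1 hxP r).1 (mem_inf.1 hr).1,
      GoldCenAct.conj_mem_cen h.fam hxe (mem_inf.1 hr).2⟩
  have hRsq : ∀ r ∈ Re 𝒜 S e, r * r = 1 := fun r hr => hP2 r (mem_inf.1 hr).1
  have hxee : x * e * x⁻¹ = e := by rw [hxe]; group
  have hR : ∀ r ∈ Re 𝒜 S e, x * (x * r * x⁻¹) * x⁻¹ = r := by
    intro r hr
    by_cases hr1 : r = 1
    · rw [hr1]; group
    by_cases hre : r = e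
    · rw [hre, hxee, hxee]
    rcases GoldFourAct.exhaust hR4 hRsq (e_mem_Re hm) hr (hxR r hr) hm.bad.2.1 hr1 (fun e1 => hre e1.symm) with
      h1 | h1 | h1 | h1
    · exfalso
      apply hr1
      calc r = x⁻¹ * (x * r * x⁻¹) * x := by group
        _ = 1 := by rw [h1]; group
    · exfalso
      apply hre
      calc r = x⁻¹ * (x * r * x⁻¹) * x := by group
        _ = x⁻¹ * (x * e * x⁻¹) * x := by rw [h1, hxee]
        _ = e := by group
    · rw [h1, h1]
    · rw [h1]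
      calc x * (e * r) * x⁻¹ = (x * e * x⁻¹) * (x * r * x⁻¹) := by group
        _ = e * (e * r) := by rw [h1, hxee]
        _ = r := by rw [← mul_assoc, hm.bad.1, one_mul]
  refine ⟨x * x, mul_mem hxP hxP, mul_mem hxA hxA, ?_, ?_⟩
  · intro a ha hxx
    have h1 := hxa a ha
    have h2 : x * (x * a * x⁻¹) * x⁻¹ = a := by
      calc x * (x * a * x⁻¹) * x⁻¹ = x * x * a * (x * x)⁻¹ := by group
        _ = a := hxx
    have h3 : a * (x * a * x⁻¹) = 1 := by
      apply hfix _ (mul_mem ha h1)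
      calc x * (a * (x * a * x⁻¹)) * x⁻¹ = (x * a * x⁻¹) * (x * (x * a * x⁻¹) * x⁻¹) := by group
        _ = (x * a * x⁻¹) * a := by rw [h2]
        _ = a * (x * a * x⁻¹) := h.comm S _ h1 _ ha
    apply hfix a ha
    have h5 := h.sq S a ha
    calc x * a * x⁻¹ = (a * a) * (x * a * x⁻¹) := by rw [h5, one_mul]
      _ = a * (a * (x * a * x⁻¹)) := by group
      _ = a := by rw [h3, mul_one]
  · intro p hp
    obtain ⟨a, ha, har⟩ := exists_mul_mem h h4 hm hp
    have h1 := hR _ har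
    have h2 : x * x * p * (x * x)⁻¹ * p⁻¹ = (x * (x * a * x⁻¹) * x⁻¹)⁻¹ * a := by
      have e1 : x * (x * (a * p) * x⁻¹) * x⁻¹ = (x * (x * a * x⁻¹) * x⁻¹) * (x * (x * p * x⁻¹) * x⁻¹) := by group
      rw [e1] at h1
      have e2 : x * x * p * (x * x)⁻¹ = x * (x * p * x⁻¹) * x⁻¹ := by group
      rw [e2, mul_inv_eq_iff_eq_mul, mul_assoc _ a p, ← h1, inv_mul_cancel_left]
    rw [h2]
    exact mul_mem (inv_mem (hxa _ (hxa a ha))) ha

end

section

variable [Finite G] {𝒜 : Set G} (h : Setup 𝒜) (hC1 : GoldP.C1 G) (hbad : HBad 𝒜) (hbal : HBal 𝒜)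

include h hC1 hbad hbal

/-- The case `|C_S(e)| = 16`. -/
theorem false_sixteen {S : Sylow 2 G} (h4 : Nat.card (fam 𝒜 (S : Subgroup G)) = 4) {e : G}
    (hm : MaxPair 𝒜 S e) (hR4 : Nat.card (Re 𝒜 S e) = 4) (h16 : Nat.card (Pe S e) = 16)
    (hP2 : ∀ x ∈ Pe S e, x * x = 1)
    (hsyl : ¬ 2 ∣ ((S : Subgroup G) ⊓ normalizer (Pe S e : Set G)).relIndex (normalizer (Pe S e : Set G))) :
    False := by
  classical
  haveI : Fact (Nat.Prime 2) := ⟨Nat.prime_two⟩
  have hcen := GoldFour.central h S h4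
  have hPS : Pe S e ≤ (S : Subgroup G) := inf_le_left
  obtain ⟨y, hyP, hyA, hfix, hyc⟩ := exists_y h h4 hm hR4 hP2
  obtain ⟨T, Q, hU, hPQ⟩ := GoldFourUpIn.exists_up S (fam_le_Pe h h4 hm) hPS (ne h h4 hm hC1) h4 h16 hP2
    (fun a ha s hs => (hcen a ha s hs).symm)
    (by
      intro u hu huu huA Q hQ hQu
      obtain ⟨f, -, -, -, hf⟩ := card_le h h4 hm hbad S hu huu huA
      exact (hf Q hQ hQu).2.trans h16.le)
    (by
      intro u hu huu huA Q hQ hQu hQ16 x hx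
      obtain ⟨f, hfS, hfb, -, hf⟩ := card_le h h4 hm hbad S hu huu huA
      have hQf := (hf Q hQ hQu).1
      have hmf : MaxPair 𝒜 S f := maxPair_of_le hm hfS hfb (by
        rw [h16, ← hQ16]; exact Subgroup.card_le_of_le hQf)
      exact (structure_Pe h h4 hmf (hbal S h4) hC1).1 x (hQf hx))
    hsyl hyP hyA hfix hyc
  have hTS : T = (S : Subgroup G) := by
    refine GoldLFourUp.eq_of_no_index_two hU ?_ (hidx h) (n := y) ?_ ?_
    · rw [hPQ]; exact h.sc S
    · rw [hPQ]; exact hyA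
    · rw [hPQ]; exact hfix
  have hT64 := hU.card_T
  rw [hTS] at hT64
  have hab := hU.ab
  rw [hTS] at hab
  have hZ := hU.cardZ
  refine GoldLFourMain.false_of_isAB h S h4 (GoldSolid.solid h S h4) hab hPQ hU.card1 hU.card2 ?_
  intro u hu huu huA
  obtain ⟨a, ha, hb⟩ := hbad S u hu huu huA
  have hfS : u * a ∈ (S : Subgroup G) := mul_mem hu (fam_le _ _ ha)
  have hsimp := GoldBadOf.simp_of_bad S h4 (fun a' ha' => (hcen a' ha' (u * a) hfS).symm) hb
  -- `u` is conjugate to `u a`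
  have huPQ : u ∉ Pe S e ∨ u ∉ Q := by
    by_contra hcon
    push Not at hcon
    apply huA
    rw [← hPQ]
    exact mem_inf.2 hcon
  have hex : ∃ s ∈ (S : Subgroup G), s * u * s⁻¹ = u * a := by
    rcases hab.inv u hu huu with h1 | h1
    · exact exists_conj_eq hab hU.card1 hT64 hZ h1 (huPQ.resolve_left (not_not.2 h1)) (by rw [hPQ]; exact ha)
    · refine exists_conj_eq hab.symm hU.card2 hT64 (by rw [inf_comm]; exact hZ) h1
        (huPQ.resolve_right (not_not.2 h1)) (by rw [inf_comm, hPQ]; exact ha)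
  obtain ⟨s, hs, hsu⟩ := hex
  have h1 := GoldRedConj.simp_conj h.fam.toIsClosedFam hsimp (n := s⁻¹) (inv_mem (h.le_normalizer S hs))
  have e1 : s⁻¹ * (u * a) * s⁻¹⁻¹ = u := by rw [← hsu]; group
  rwa [e1] at h1

/-- **M2**: there is no involution in `S - A`. -/
theorem false_of_involution (S : Sylow 2 G) (h4 : Nat.card (fam 𝒜 (S : Subgroup G)) = 4) {t : G}
    (ht : t ∈ (S : Subgroup G)) (htt : t * t = 1) (htA : t ∉ fam 𝒜 (S : Subgroup G)) : False := by
  obtain ⟨a, ha, hb⟩ := hbad S t ht htt htA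
  obtain ⟨T, e, hm⟩ := exists_maxPair S (mul_mem ht (fam_le _ _ ha)) hb
  have h4T : Nat.card (fam 𝒜 (T : Subgroup G)) = 4 := by rw [card_fam_sylow h.fam.toIsClosedFam T S, h4]
  obtain ⟨hP2, ⟨-, h8⟩ | ⟨hR4, h16⟩⟩ := structure_Pe h h4T hm (hbal T h4T) hC1
  · exact false_eight h h4T hm hC1 hbad h8
  · obtain ⟨T', hm', hPeq, hsyl⟩ := exists_sylow hm
    have h4T' : Nat.card (fam 𝒜 (T' : Subgroup G)) = 4 := by rw [card_fam_sylow h.fam.toIsClosedFam T' S, h4]
    have h16' : Nat.card (Pe T' e) = 16 := by rw [hPeq]; exact h16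
    refine false_sixteen h hC1 hbad hbal h4T' hm' ?_ h16' ?_ hsyl
    · have := card_Pe h h4T' hm'
      omega
    · rw [hPeq]; exact hP2

end

end Cfsg.Agent.TwoFusion.GoldFourRed
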