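import Mathlib
import Cfsg.Agent.Solvable.Glauberman
import Cfsg.Agent.Lib.CoprimeAbelian
import Cfsg.Agent.Lib.CoprimeStab

/-!
# Tools for case (J) of Goldschmidt's theorem

* `exists_fixed_odd`: an element of odd order normalising a 2-subgroup `N` and a coset of `N` centralises an
  element of the coset;
* `comm_mem`: a quadratic form argument;
* `exists_inv_index_two`: invariant subgroups of index two.
-/

set_option autoImplicit false
set_option linter.style.haveILetI false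

namespace Cfsg.Agent.TwoFusion.GoldJBasic

open Subgroup

variable {G : Type*} [Group G]

/-- An element of odd order normalising a 2-subgroup `N` and a coset `x N` centralises an element of the coset. -/
theorem exists_fixed_odd [Finite G] (g : G) (hg : Odd (orderOf g)) (N : Subgroup G) (hN : IsPGroup 2 N)
    (hgN : ∀ n ∈ N, g * n * g⁻¹ ∈ N) (x : G) (hx : x⁻¹ * (g * x * g⁻¹) ∈ N) :
    ∃ y : G, x⁻¹ * y ∈ N ∧ g * y = y * g := by
  haveI : Fact (Nat.Prime 2) := ⟨Nat.prime_two⟩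
  have hgn : g ∈ normalizer (N : Set G) := by
    have h1 : N.map (MulAut.conj g).toMonoidHom ≤ N := by
      rintro _ ⟨n, hn, rfl⟩
      exact hgN n hn
    have h2 : N.map (MulAut.conj g).toMonoidHom = N := by
      apply Subgroup.eq_of_le_of_card_ge h1
      exact (Nat.card_congr (N.equivMapOfInjective _ (MulAut.conj g).injective).toEquiv).le
    rw [mem_normalizer_iff]
    intro n
    refine ⟨fun hn => hgN n hn, fun hn => ?_⟩
    have h3 : g * n * g⁻¹ ∈ N.map (MulAut.conj g).toMonoidHom := by rw [h2]; exact hn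
    obtain ⟨m, hm, e⟩ := h3
    have e1 : g * m * g⁻¹ = g * n * g⁻¹ := e
    have e2 : m = n := by simpa using e1
    rwa [← e2]
  have hzn : zpowers g ≤ normalizer (N : Set G) := by rwa [zpowers_le]
  have hcop : (Nat.card (zpowers g)).Coprime (Nat.card N) := by
    rw [Nat.card_zpowers]
    obtain ⟨k, hk⟩ := IsPGroup.iff_card.mp hN
    rw [hk]
    exact (Nat.coprime_two_right.mpr hg).pow_right k
  have hsolv : Group.IsSolvable (zpowers g) := by
    letI : CommGroup (zpowers g) := IsCyclic.commGroup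
    infer_instance
  have hcl : ∀ a ∈ zpowers g, ∃ n ∈ N, a * x⁻¹ * a⁻¹ = n * x⁻¹ := by
    have h0 : x⁻¹ * (g * x * g⁻¹) ∈ N := hx
    have h1 : ∃ n ∈ N, g * x⁻¹ * g⁻¹ = n * x⁻¹ :=
      ⟨_, N.inv_mem h0, by group⟩
    let K : Subgroup G :=
      { carrier := {a | a ∈ normalizer (N : Set G) ∧ ∃ n ∈ N, a * x⁻¹ * a⁻¹ = n * x⁻¹}
        one_mem' := ⟨one_mem _, 1, N.one_mem, by simp⟩
        mul_mem' := by
          rintro a b ⟨ha, n, hn, en⟩ ⟨hb, m, hm, em⟩
          refine ⟨mul_mem ha hb, (a * m * a⁻¹) * n, N.mul_mem ((mem_normalizer_iff.1 ha m).1 hm) hn, ?_⟩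
          have : a * b * x⁻¹ * (a * b)⁻¹ = a * (b * x⁻¹ * b⁻¹) * a⁻¹ := by group
          rw [this, em]
          have : a * (m * x⁻¹) * a⁻¹ = (a * m * a⁻¹) * (a * x⁻¹ * a⁻¹) := by group
          rw [this, en]; group
        inv_mem' := by
          rintro a ⟨ha, n, hn, en⟩
          have ha' : a⁻¹ ∈ normalizer (N : Set G) := inv_mem ha
          refine ⟨ha', a⁻¹ * n⁻¹ * a⁻¹⁻¹, (mem_normalizer_iff.1 ha' _).1 (N.inv_mem hn), ?_⟩
          have e1 : x⁻¹ = n⁻¹ * (a * x⁻¹ * a⁻¹) := by rw [en]; group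
          have e2 : a⁻¹ * n⁻¹ * a⁻¹⁻¹ * x⁻¹ = a⁻¹ * (n⁻¹ * (a * x⁻¹ * a⁻¹)) * a⁻¹⁻¹ := by group
          rw [e2, ← e1] }
    have h2 : zpowers g ≤ K := by
      rw [zpowers_le]
      exact ⟨hgn, h1⟩
    intro a ha
    exact (h2 ha).2
  obtain ⟨k, hk, hfix⟩ := Cfsg.Agent.Solvable.Glauberman.exists_smul_fixed (zpowers g) N hzn hcop
    (Or.inl hsolv) (X := G ⧸ zpowers g) (QuotientGroup.mk x⁻¹) (by
      intro a ha
      obtain ⟨n, hn, e⟩ := hcl a ha
      refine ⟨n, hn, ?_⟩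
      rw [MulAction.Quotient.smul_mk, MulAction.Quotient.smul_mk, smul_eq_mul, smul_eq_mul, ← e,
        QuotientGroup.eq]
      have : (a * x⁻¹)⁻¹ * (a * x⁻¹ * a⁻¹) = a⁻¹ := by group
      rw [this]
      exact inv_mem ha)
  refine ⟨x * k⁻¹, ?_, ?_⟩
  · rw [inv_mul_cancel_left]; exact N.inv_mem hk
  · have h1 := hfix g (mem_zpowers g)
    rw [MulAction.Quotient.smul_mk, MulAction.Quotient.smul_mk, smul_eq_mul, smul_eq_mul, eq_comm,
      QuotientGroup.eq] at h1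
    -- `y⁻¹ g y ∈ ⟨g⟩`
    have h2 : (k * x⁻¹)⁻¹ * (g * (k * x⁻¹)) * g⁻¹ ∈ zpowers g :=
      mul_mem h1 (inv_mem (mem_zpowers g))
    obtain ⟨n, hn, en⟩ := hcl g (mem_zpowers g)
    have h3 : (k * x⁻¹)⁻¹ * (g * (k * x⁻¹)) * g⁻¹ = x * (k⁻¹ * (g * k * g⁻¹) * n) * x⁻¹ := by
      have : (k * x⁻¹)⁻¹ * (g * (k * x⁻¹)) * g⁻¹ = x * (k⁻¹ * (g * k * g⁻¹)) * (g * x⁻¹ * g⁻¹) := by group
      rw [this, en]; group
    set m := k⁻¹ * (g * k * g⁻¹) * n with hm
    have hmN : m ∈ N := N.mul_mem (N.mul_mem (N.inv_mem hk) (hgN k hk)) hn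
    rw [h3] at h2
    have h4 : orderOf (x * m * x⁻¹) ∣ orderOf g := by
      have := orderOf_dvd_natCard (⟨_, h2⟩ : zpowers g)
      rwa [Nat.card_zpowers, Subgroup.orderOf_mk] at this
    have h5 : orderOf (x * m * x⁻¹) = orderOf m := by
      exact orderOf_injective (MulAut.conj x).toMonoidHom (MulAut.conj x).injective m
    have h6 : m = 1 := by
      rw [← orderOf_eq_one_iff]
      have h7 : orderOf m ∣ Nat.card N := by
        have := orderOf_dvd_natCard (⟨m, hmN⟩ : N)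
        rwa [Subgroup.orderOf_mk] at this
      rw [h5] at h4
      have h8 := Nat.dvd_gcd h4 h7
      rw [Nat.card_zpowers] at hcop
      rw [hcop] at h8
      exact Nat.dvd_one.mp h8
    rw [h6] at h3
    have h9 : (k * x⁻¹)⁻¹ * (g * (k * x⁻¹)) = g := by
      have := congrArg (fun z => z * g) h3
      simpa using this
    have h10 : x * k⁻¹ * g * (x * k⁻¹)⁻¹ = g := by
      have e : x * k⁻¹ * g * (x * k⁻¹)⁻¹ = (k * x⁻¹)⁻¹ * (g * (k * x⁻¹)) := by group
      rw [e, h9]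
    calc g * (x * k⁻¹) = (x * k⁻¹ * g * (x * k⁻¹)⁻¹) * (x * k⁻¹) := by rw [h10]
      _ = x * k⁻¹ * g := by group

/-- A quadratic form on a space of dimension at least three, constant on the nonzero vectors, is trivial. -/
theorem comm_mem {T M N : Subgroup G} (hMc : ∀ m ∈ M, ∀ t ∈ T, m * t = t * m)
    (hsq : ∀ t ∈ T, t * t ∈ M)
    (hN2 : ∀ m ∈ M, ∀ m' ∈ M, (m * m' ∈ N ↔ (m ∈ N ↔ m' ∈ N)))
    (hq : ∀ t ∈ T, ∀ u ∈ T, t ∉ M → u ∉ M → (t * t ∈ N ↔ u * u ∈ N))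
    (hbig : ∀ t ∈ T, ∀ u ∈ T, ∃ w ∈ T, w ∉ M ∧ t * w ∉ M ∧ u * w ∉ M ∧ t * (u * w) ∉ M) :
    ∀ t ∈ T, ∀ u ∈ T, t * u * t⁻¹ * u⁻¹ ∈ N := by
  have h1N : (1 : G) ∈ N := N.one_mem
  -- the commutator in terms of squares
  have hc : ∀ t ∈ T, ∀ u ∈ T, t * u * (t * u) = (t * u * t⁻¹ * u⁻¹) * ((t * t) * (u * u)) := by
    intro t ht u hu
    have h := hMc _ (hsq t ht) u hu
    calc t * u * (t * u) = (t * u * t⁻¹ * u⁻¹) * (u * (t * t)) * u := by group
      _ = (t * u * t⁻¹ * u⁻¹) * ((t * t) * u) * u := by rw [h]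
      _ = _ := by group
  have hcM : ∀ t ∈ T, ∀ u ∈ T, t * u * t⁻¹ * u⁻¹ ∈ M := by
    intro t ht u hu
    have h := hc t ht u hu
    have e : t * u * t⁻¹ * u⁻¹ = (t * u * (t * u)) * ((t * t) * (u * u))⁻¹ := by rw [h]; group
    rw [e]
    exact M.mul_mem (hsq _ (mul_mem ht hu)) (M.inv_mem (M.mul_mem (hsq t ht) (hsq u hu)))
  have hK : ∀ t ∈ T, ∀ u ∈ T, (t * u * (t * u) ∈ N ↔
      (t * u * t⁻¹ * u⁻¹ ∈ N ↔ (t * t ∈ N ↔ u * u ∈ N))) := by
    intro t ht u hu
    rw [hc t ht u hu, hN2 _ (hcM t ht u hu) _ (M.mul_mem (hsq t ht) (hsq u hu)),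
      hN2 _ (hsq t ht) _ (hsq u hu)]
  have hone : ∀ t u : G, t * u = u * t → t * u * t⁻¹ * u⁻¹ ∈ N := by
    intro t u h
    rw [h]
    have : u * t * t⁻¹ * u⁻¹ = 1 := by group
    rw [this]; exact h1N
  intro t ht u hu
  by_cases htM : t ∈ M
  · exact hone t u (hMc t htM u hu)
  by_cases huM : u ∈ M
  · exact hone t u (hMc u huM t ht).symm
  by_cases htu : t * u ∈ M
  · apply hone
    have h := hMc _ htu t ht
    have h2 : t * u * t = t * (t * u) := h
    have h3 : t * (u * t) = t * (t * u) := by rw [← mul_assoc]; exact h2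
    exact (mul_left_cancel h3).symm
  have hk := hK t ht u hu
  have q1 := hq t ht u hu htM huM
  have q2 := hq t ht (t * u) (mul_mem ht hu) htM htu
  by_cases htN : t * t ∈ N
  · exact (hk.1 (q2.1 htN)).2 ⟨fun _ => q1.1 htN, fun _ => htN⟩
  · exfalso
    obtain ⟨w, hw, w1, w2, w3, w4⟩ := hbig t ht u hu
    have hbad : ∀ v ∈ T, v ∉ M → t * v ∉ M → t * v * t⁻¹ * v⁻¹ ∉ N := by
      intro v hv hvM htv hcon
      have k1 := hK t ht v hv
      have p1 := hq t ht v hv htM hvM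
      have p2 := hq t ht (t * v) (mul_mem ht hv) htM htv
      exact htN (p2.2 (k1.2 ⟨fun _ => p1, fun _ => hcon⟩))
    have b1 := hbad u hu huM htu
    have b2 := hbad w hw w1 w2
    have b3 := hbad (u * w) (mul_mem hu hw) w3 w4
    apply b3
    have e : t * (u * w) * t⁻¹ * (u * w)⁻¹ = (t * u * t⁻¹ * u⁻¹) * (t * w * t⁻¹ * w⁻¹) := by
      have h := hMc _ (hcM t ht w hw) u hu
      calc t * (u * w) * t⁻¹ * (u * w)⁻¹
          = (t * u * t⁻¹ * u⁻¹) * (u * (t * w * t⁻¹ * w⁻¹)) * u⁻¹ := by group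
        _ = (t * u * t⁻¹ * u⁻¹) * ((t * w * t⁻¹ * w⁻¹) * u) * u⁻¹ := by rw [h]
        _ = _ := by group
    rw [e, hN2 _ (hcM t ht u hu) _ (hcM t ht w hw)]
    exact ⟨fun h => absurd h b1, fun h => absurd h b2⟩

/-- Let `g` of odd order normalise the abelian 2-group `M`, `Z = C_M(g) ≠ 1`: there is a `g`-invariant subgroup
of index two of `M` not containing `Z`. -/
theorem exists_inv_index_two [Finite G] {M Z : Subgroup G} (hM : IsPGroup 2 M)
    (hMc : ∀ m ∈ M, ∀ m' ∈ M, m * m' = m' * m) {g : G} (hg : Odd (orderOf g))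
    (hgM : g ∈ normalizer (M : Set G)) (hZ : ∀ z ∈ M, (g * z = z * g ↔ z ∈ Z)) (hZM : Z ≤ M)
    (hZ1 : Z ≠ ⊥) :
    ∃ N : Subgroup G, N ≤ M ∧ (∀ m ∈ M, ∀ m' ∈ M, (m * m' ∈ N ↔ (m ∈ N ↔ m' ∈ N))) ∧
      (∀ m ∈ M, (g * m * g⁻¹ ∈ N ↔ m ∈ N)) ∧ ∃ z ∈ Z, z ∉ N := by
  haveI : Fact (Nat.Prime 2) := ⟨Nat.prime_two⟩
  set D := ⁅M, zpowers g⁆ with hD
  have hcop : (Nat.card (zpowers g)).Coprime (Nat.card M) := by
    rw [Nat.card_zpowers]
    obtain ⟨k, hk⟩ := IsPGroup.iff_card.mp hM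
    rw [hk]
    exact (Nat.coprime_two_right.mpr hg).pow_right k
  have hzM : zpowers g ≤ normalizer (M : Set G) := by rwa [zpowers_le]
  have h1 := Cfsg.Agent.Lib.CoprimeAbelian.inf_commutator_eq_bot (zpowers g) M hMc hzM hcop
  have h2 := Cfsg.Agent.Lib.CoprimeAbelian.sup_commutator_eq (zpowers g) M hMc hzM hcop
  have hC : M ⊓ centralizer ((zpowers g : Subgroup G) : Set G) = Z := by
    ext z
    rw [mem_inf]
    constructor
    · rintro ⟨hz, hz'⟩
      exact (hZ z hz).1 (mem_centralizer_iff.1 hz' g (mem_zpowers g))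
    · intro hz
      refine ⟨hZM hz, ?_⟩
      have h3 := (hZ z (hZM hz)).2 hz
      rw [mem_centralizer_iff]
      rintro _ ⟨k, rfl⟩
      exact ((show Commute g z from h3).zpow_left k).eq
  rw [hC] at h1 h2
  have hDM : D ≤ M := by
    rw [← h2]; exact le_sup_right
  have hDne : D.subgroupOf M ≠ ⊤ := by
    intro h
    rw [subgroupOf_eq_top] at h
    apply hZ1
    rw [eq_bot_iff, ← h1]
    exact le_inf le_rfl (hZM.trans h)
  haveI hDn : (D.subgroupOf M).Normal := by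
    refine ⟨fun x hx y => ?_⟩
    have : y * x * y⁻¹ = x := by
      apply Subtype.ext
      change (y : G) * x * (y : G)⁻¹ = x
      rw [hMc y y.2 x x.2, mul_inv_cancel_right]
    rwa [this]
  haveI : Nontrivial (↥M ⧸ D.subgroupOf M) := QuotientGroup.nontrivial_iff.mpr hDne
  obtain ⟨K, -, hKi, -, -⟩ := Cfsg.Agent.Lib.CoprimeStab.exists_normal_index_prime (p := 2)
    (↥M ⧸ D.subgroupOf M) (hM.to_quotient _)
  set K' : Subgroup M := K.comap (QuotientGroup.mk' _) with hK'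
  have hK'i : K'.index = 2 := by
    rw [hK', index_comap_of_surjective _ (QuotientGroup.mk'_surjective _)]
    exact hKi
  refine ⟨K'.map M.subtype, ?_, ?_, ?_, ?_⟩
  · rintro _ ⟨x, -, rfl⟩
    exact x.2
  all_goals
    have hmem : ∀ (m : G) (hm : m ∈ M), (m ∈ K'.map M.subtype ↔ (⟨m, hm⟩ : M) ∈ K') := by
      intro m hm
      constructor
      · rintro ⟨x, hx, rfl⟩
        exact hx
      · intro h
        exact ⟨_, h, rfl⟩
  · intro m hm m' hm'
    rw [hmem _ (M.mul_mem hm hm'), hmem _ hm, hmem _ hm']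
    exact mul_mem_iff_of_index_two (a := ⟨m, hm⟩) (b := ⟨m', hm'⟩) hK'i
  · intro m hm
    have hgm : g * m * g⁻¹ ∈ M := (mem_normalizer_iff.1 hgM m).1 hm
    rw [hmem _ hgm, hmem _ hm]
    have hDK : ∀ d (hd : d ∈ D), (⟨d, hDM hd⟩ : M) ∈ K' := by
      intro d hd
      rw [hK', mem_comap]
      have : (QuotientGroup.mk' (D.subgroupOf M)) ⟨d, hDM hd⟩ = 1 := by
        rw [QuotientGroup.mk'_apply, QuotientGroup.eq_one_iff]
        exact hd
      rw [this]; exact one_mem _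
    have hd : g * m * g⁻¹ * m⁻¹ ∈ D := by
      have : m * g * m⁻¹ * g⁻¹ ∈ D := commutator_mem_commutator hm (mem_zpowers g)
      have e : g * m * g⁻¹ * m⁻¹ = (m * g * m⁻¹ * g⁻¹)⁻¹ := by group
      rw [e]; exact inv_mem this
    have e : (⟨g * m * g⁻¹, hgm⟩ : M) = ⟨_, hDM hd⟩ * ⟨m, hm⟩ := by
      apply Subtype.ext
      change g * m * g⁻¹ = g * m * g⁻¹ * m⁻¹ * m
      group
    rw [e]
    exact mul_mem_cancel_left (hDK _ hd)
  · by_contra hcon
    push Not at hcon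
    have h3 : K' = ⊤ := by
      rw [eq_top_iff]
      rintro ⟨m, hm⟩ -
      have hm' := hm
      rw [← h2] at hm'
      have h4 : Z ⊔ D ≤ K'.map M.subtype := by
        apply sup_le hcon
        intro d hd
        rw [hmem _ (hDM hd), hK', mem_comap]
        have : (QuotientGroup.mk' (D.subgroupOf M)) ⟨d, hDM hd⟩ = 1 := by
          rw [QuotientGroup.mk'_apply, QuotientGroup.eq_one_iff]
          exact hd
        rw [this]; exact one_mem _
      exact (hmem m hm).1 (h4 hm')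
    rw [h3, index_top] at hK'i
    omega

end Cfsg.Agent.TwoFusion.GoldJBasic
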