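import Mathlib

/-!
# Coordinates for the Sylow 2-subgroup of `U_3(4)`

Facts about a field with 16 elements and the structure of a group with coordinates `(a, b)`,
`b + b ^ 4 = a ^ 5`, multiplied by `(a, b) (c, d) = (a + c, b + d + a c ^ 4)`.
-/

set_option autoImplicit false

namespace Cfsg.Agent.TwoFusion.U34Coord

variable {F : Type*} [Field F] [Fintype F]

theorem pow16 (hF : Fintype.card F = 16) (x : F) : x ^ 16 = x := by
  rw [← hF]; exact FiniteField.pow_card x

theorem charTwo (hF : Fintype.card F = 16) : CharP F 2 := by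
  have : Fact (Nat.Prime 2) := ⟨Nat.prime_two⟩
  exact charP_of_card_eq_prime_pow (p := 2) (f := 4) (by rw [hF]; norm_num)

theorem two_eq_zero (hF : Fintype.card F = 16) : (2 : F) = 0 := by
  have := charTwo hF
  exact_mod_cast CharP.cast_eq_zero F 2

theorem add_self (hF : Fintype.card F = 16) (x : F) : x + x = 0 := by
  rw [← two_mul, two_eq_zero hF, zero_mul]

theorem add_pow4 (hF : Fintype.card F = 16) (x y : F) : (x + y) ^ 4 = x ^ 4 + y ^ 4 := by
  have h2 := two_eq_zero hF
  linear_combination (2 * x ^ 3 * y + 3 * x ^ 2 * y ^ 2 + 2 * x * y ^ 3) * h2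

theorem eq_of_add_eq_zero (hF : Fintype.card F = 16) {x y : F} (h : x + y = 0) : x = y := by
  have h2 := two_eq_zero hF
  linear_combination h - y * h2

/-- the additive map `x ↦ x + x ^ 4` -/
def T (hF : Fintype.card F = 16) : F →+ F where
  toFun x := x + x ^ 4
  map_zero' := by simp
  map_add' x y := by rw [add_pow4 hF]; ring

theorem T_apply (hF : Fintype.card F = 16) (x : F) : T hF x = x + x ^ 4 := rfl

theorem mem_ker_T (hF : Fintype.card F = 16) (x : F) : x ∈ (T hF).ker ↔ x + x ^ 4 = 0 := Iff.rfl

theorem card_ker_T_le (hF : Fintype.card F = 16) : Nat.card (T hF).ker ≤ 4 := by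
  classical
  let q : Polynomial F := Polynomial.X + Polynomial.X ^ 4
  have hdeg : q.natDegree = 4 := by
    simp only [q]; compute_degree!
  have hq : q ≠ 0 := by
    intro h; rw [h] at hdeg; simp at hdeg
  have hsub : ((T hF).ker : Set F) ⊆ (q.roots.toFinset : Set F) := by
    intro x hx
    have hx' : x + x ^ 4 = 0 := hx
    simp only [Finset.mem_coe, Multiset.mem_toFinset, Polynomial.mem_roots hq, Polynomial.IsRoot.def]
    simp [q, hx']
  have h1 : Nat.card (T hF).ker ≤ Nat.card (q.roots.toFinset : Set F) :=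
    Nat.card_mono (Set.toFinite _) hsub
  refine h1.trans ?_
  rw [Nat.card_coe_set_eq, Set.ncard_coe_finset]
  exact (Multiset.toFinset_card_le _).trans ((Polynomial.card_roots' q).trans hdeg.le)

theorem range_T_le (hF : Fintype.card F = 16) : (T hF).range ≤ (T hF).ker := by
  rintro _ ⟨x, rfl⟩
  rw [mem_ker_T, T_apply]
  have h16 := pow16 hF x
  have h2 := two_eq_zero hF
  rw [add_pow4 hF]
  have : (x ^ 4) ^ 4 = x := by rw [← pow_mul]; exact h16
  rw [this]
  linear_combination (x + x ^ 4) * h2

theorem card_mul (hF : Fintype.card F = 16) : Nat.card (T hF).range * Nat.card (T hF).ker = 16 := by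
  rw [← hF, ← Nat.card_eq_fintype_card (α := F), AddSubgroup.card_eq_card_quotient_mul_card_addSubgroup (T hF).ker]
  congr 1
  exact Nat.card_congr (QuotientAddGroup.quotientKerEquivRange (T hF)).toEquiv.symm

theorem card_ker_T (hF : Fintype.card F = 16) : Nat.card (T hF).ker = 4 := by
  have h1 := card_ker_T_le hF
  have h2 := card_mul hF
  have h3 : Nat.card (T hF).range ≤ Nat.card (T hF).ker :=
    Nat.card_mono (Set.toFinite _) (range_T_le hF)
  interval_cases (Nat.card (T hF).ker) <;> omega

theorem range_T (hF : Fintype.card F = 16) : (T hF).range = (T hF).ker := by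
  apply AddSubgroup.eq_of_le_of_card_ge (range_T_le hF)
  have h2 := card_mul hF
  rw [card_ker_T hF] at *
  omega

/-- `x ↦ x + x ^ 4` maps onto the subfield with 4 elements. -/
theorem exists_T_eq (hF : Fintype.card F = 16) (y : F) (hy : y + y ^ 4 = 0) : ∃ x : F, x + x ^ 4 = y := by
  have : y ∈ (T hF).range := by rw [range_T hF]; exact hy
  obtain ⟨x, hx⟩ := this
  exact ⟨x, hx⟩

theorem norm_mem (hF : Fintype.card F = 16) (a : F) : a ^ 5 + (a ^ 5) ^ 4 = 0 := by
  have h16 := pow16 hF a
  have h2 := two_eq_zero hF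
  have : (a ^ 5) ^ 4 = a ^ 16 * a ^ 4 := by ring
  rw [this, h16]
  linear_combination a ^ 5 * h2

theorem exists_omega (hF : Fintype.card F = 16) : ∃ w : F, w + w ^ 4 = 1 := by
  apply exists_T_eq hF
  rw [one_pow]
  exact add_self hF 1

theorem exists_section (hF : Fintype.card F = 16) : ∃ c : F → F, ∀ a, c a + c a ^ 4 = a ^ 5 := by
  choose c hc using fun a : F => exists_T_eq hF (a ^ 5) (norm_mem hF a)
  exact ⟨c, hc⟩

/-- The structure of a group with the coordinates of the Sylow 2-subgroup of `U_3(4)`. -/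
theorem structure_of_coords (hF : Fintype.card F = 16) {S : Type*} [Group S] (f : S → F × F)
    (hinj : Function.Injective f)
    (hmem : ∀ s, (f s).2 + (f s).2 ^ 4 = (f s).1 ^ 5)
    (hsurj : ∀ a b : F, b + b ^ 4 = a ^ 5 → ∃ s, f s = (a, b))
    (hmul : ∀ s t, f (s * t) = ((f s).1 + (f t).1, (f s).2 + (f t).2 + (f s).1 * (f t).1 ^ 4)) :
    Nat.card S = 64 ∧ IsKleinFour (Subgroup.center S) ∧
      Subgroup.center S = Subgroup.closure {x : S | orderOf x = 2} ∧
      Subgroup.center S = commutator S ∧
      Nat.card (S ⧸ Subgroup.center S) = 16 ∧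
      ∀ x : S ⧸ Subgroup.center S, x ^ 2 = 1 := by
  have h2 := two_eq_zero hF
  have hm1 : ∀ s t, (f (s * t)).1 = (f s).1 + (f t).1 := fun s t => by rw [hmul]
  have hm2 : ∀ s t, (f (s * t)).2 = (f s).2 + (f t).2 + (f s).1 * (f t).1 ^ 4 := fun s t => by
    rw [hmul]
  have h11 : (f 1).1 = 0 := by
    have := hm1 1 1
    rw [mul_one] at this
    linear_combination -this
  have h12 : (f 1).2 = 0 := by
    have := hm2 1 1
    rw [mul_one, h11] at this
    linear_combination -this
  have hext : ∀ s t : S, (f s).1 = (f t).1 → (f s).2 = (f t).2 → s = t := fun s t h1 h2 =>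
    hinj (Prod.ext h1 h2)
  -- finiteness and order
  obtain ⟨c, hc⟩ := exists_section hF
  have hequiv : Nonempty (S ≃ F × (T hF).ker) := by
    refine ⟨Equiv.ofBijective (fun s => ((f s).1, ⟨(f s).2 + c (f s).1, ?_⟩)) ⟨?_, ?_⟩⟩
    · rw [mem_ker_T, add_pow4 hF]
      linear_combination hmem s + hc (f s).1 + (f s).1 ^ 5 * h2
    · intro s t hst
      simp only [Prod.mk.injEq, Subtype.mk.injEq] at hst
      obtain ⟨h3, h4⟩ := hst
      rw [h3] at h4
      exact hext s t h3 (add_right_cancel h4)
    · rintro ⟨a, ⟨k, hk⟩⟩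
      rw [mem_ker_T] at hk
      obtain ⟨s, hs⟩ := hsurj a (k + c a) (by
        rw [add_pow4 hF]; linear_combination hk + hc a)
      refine ⟨s, ?_⟩
      simp only [hs, Prod.mk.injEq, Subtype.mk.injEq, true_and]
      linear_combination c a * h2
  obtain ⟨e⟩ := hequiv
  have hcard : Nat.card S = 64 := by
    rw [Nat.card_congr e, Nat.card_prod, card_ker_T hF, Nat.card_eq_fintype_card, hF]
  -- the centre
  have hcen : ∀ s : S, s ∈ Subgroup.center S ↔ (f s).1 = 0 := by
    intro s
    rw [Subgroup.mem_center_iff]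
    constructor
    · intro h
      obtain ⟨w, hw⟩ := exists_omega hF
      obtain ⟨t1, ht1⟩ := hsurj 1 w (by rw [hw]; ring)
      obtain ⟨t2, ht2⟩ := hsurj w (c w) (hc w)
      have e1 := congrArg (fun x => (f x).2) (h t1)
      have e2 := congrArg (fun x => (f x).2) (h t2)
      simp only [hm2, ht1, ht2] at e1 e2
      -- e1 : w + s2 + 1 * s1^4 = s2 + w + s1 * 1^4
      have e1' : (f s).1 ^ 4 = (f s).1 := by linear_combination e1
      have e2' : w * (f s).1 = (f s).1 * w ^ 4 := by
        rw [e1'] at e2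
        linear_combination e2
      linear_combination e2' - (f s).1 * hw + (f s).1 * w ^ 4 * h2
    · intro h t
      apply hext
      · rw [hm1, hm1, add_comm]
      · rw [hm2, hm2, h]; ring
  have hsq : ∀ s : S, s * s = 1 ↔ (f s).1 = 0 := by
    intro s
    constructor
    · intro h
      have e1 := congrArg (fun x => (f x).2) h
      simp only [hm2, h12] at e1
      have : (f s).1 ^ 5 = 0 := by linear_combination e1 - (f s).2 * h2
      exact pow_eq_zero_iff (by norm_num) |>.1 this
    · intro h
      apply hext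
      · rw [hm1, h11, h]; ring
      · rw [hm2, h12, h]; linear_combination (f s).2 * h2
  have hfin : Finite S := Nat.finite_of_card_ne_zero (by rw [hcard]; norm_num)
  have hcequiv : Nonempty (Subgroup.center S ≃ (T hF).ker) := by
    refine ⟨Equiv.ofBijective (fun s => ⟨(f (s : S)).2, ?_⟩) ⟨?_, ?_⟩⟩
    · rw [mem_ker_T, hmem, (hcen _).1 s.2]; ring
    · intro s t hst
      simp only [Subtype.mk.injEq] at hst
      apply Subtype.ext
      exact hext _ _ (by rw [(hcen _).1 s.2, (hcen _).1 t.2]) hst
    · rintro ⟨k, hk⟩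
      rw [mem_ker_T] at hk
      obtain ⟨s, hs⟩ := hsurj 0 k (by rw [hk]; ring)
      exact ⟨⟨s, (hcen s).2 (by rw [hs])⟩, by simp [hs]⟩
  obtain ⟨ec⟩ := hcequiv
  have hccard : Nat.card (Subgroup.center S) = 4 := by
    rw [Nat.card_congr ec, card_ker_T hF]
  have hnt : Nontrivial (Subgroup.center S) := by
    rw [← Finite.one_lt_card_iff_nontrivial, hccard]; norm_num
  have hsqc : ∀ s ∈ Subgroup.center S, s ^ 2 = 1 := by
    intro s hs
    rw [pow_two, hsq]; exact (hcen s).1 hs
  refine ⟨hcard, ⟨hccard, ?_⟩, ?_, ?_, ?_, ?_⟩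
  · rw [Monoid.exponent_eq_prime_iff Nat.prime_two]
    intro g hg
    apply orderOf_eq_prime _ hg
    apply Subtype.ext
    exact hsqc g.1 g.2
  · apply le_antisymm
    · intro s hs
      by_cases h1 : s = 1
      · rw [h1]; exact one_mem _
      · apply Subgroup.subset_closure
        exact orderOf_eq_prime (hsqc s hs) h1
    · rw [Subgroup.closure_le]
      intro s hs
      have hs' : orderOf s = 2 := hs
      have : s ^ 2 = 1 := by rw [← hs']; exact pow_orderOf_eq_one s
      exact (hcen s).2 ((hsq s).1 (by rw [← pow_two]; exact this))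
  · apply le_antisymm
    · intro z hz
      have hz1 := (hcen z).1 hz
      have hz2 : (f z).2 + (f z).2 ^ 4 = 0 := by rw [hmem, hz1]; ring
      obtain ⟨x, hx⟩ := exists_T_eq hF _ hz2
      obtain ⟨s, hs⟩ := hsurj x (c x) (hc x)
      obtain ⟨t, ht⟩ := hsurj 1 (c 1) (hc 1)
      have : z = s * t * s⁻¹ * t⁻¹ := by
        rw [eq_mul_inv_iff_mul_eq, eq_mul_inv_iff_mul_eq, mul_assoc]
        apply hext
        · simp only [hm1, hs, ht, hz1]; ring
        · simp only [hm2, hm1, hs, ht, hz1]
          linear_combination -hx + x ^ 4 * h2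
      rw [this]
      exact Subgroup.commutator_mem_commutator (Subgroup.mem_top _) (Subgroup.mem_top _)
    · rw [commutator_def, Subgroup.commutator_le]
      intro s _ t _
      rw [hcen]
      have e1 : ∀ s : S, (f s⁻¹).1 = - (f s).1 := by
        intro s
        have := hm1 s s⁻¹
        rw [mul_inv_cancel, h11] at this
        linear_combination -this
      rw [commutatorElement_def, hm1, hm1, hm1, e1, e1]
      ring
  · have h3 := Subgroup.card_eq_card_quotient_mul_card_subgroup (Subgroup.center S)
    rw [hcard, hccard] at h3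
    omega
  · intro x
    induction x using QuotientGroup.induction_on with
    | H s =>
      rw [← QuotientGroup.mk_pow, QuotientGroup.eq_one_iff, hcen, pow_two, hm1]
      linear_combination (f s).1 * h2

end Cfsg.Agent.TwoFusion.U34Coord
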