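import Mathlib
import Cfsg.Prelude.Def_Classical
import Cfsg.Agent.LieRecognition.PSUThreeSylow
import Cfsg.Agent.SuzukiRankOne.PSUModel
import Cfsg.Agent.TwoFusion.U34Sylow

/-!
# A Sylow 2-subgroup of `U₃(4)` and its normaliser

`U34Data L T Z`: `T` is like a Sylow 2-subgroup of `L ≅ U₃(4)`, `Z = Z(T)`.
-/

set_option autoImplicit false

namespace Cfsg.Agent.TwoFusion.GoldU34

open Subgroup Cfsg.Agent.LieRecognition Cfsg.Agent.LieRecognition.PSUThreeSylow
open Cfsg.Agent.LieRecognition.HermHeis Cfsg.Agent.SuzukiRankOne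

/-- `T` is a Sylow 2-subgroup of `L` and `Z` its centre, when `L ≅ U₃(4)`: the facts that we need. -/
structure U34Data {X : Type*} [Group X] (L T Z : Subgroup X) : Prop where
  T_le : T ≤ L
  Z_le : Z ≤ T
  card_T : Nat.card T = 64
  card_Z : Nat.card Z = 4
  central : ∀ z ∈ Z, ∀ t ∈ T, z * t = t * z
  sq_eq : ∀ z ∈ Z, z * z = 1
  inv : ∀ t ∈ T, t * t = 1 → t ∈ Z
  comm_mem : ∀ t ∈ T, ∀ u ∈ T, t * u * t⁻¹ * u⁻¹ ∈ Z
  sq_mem : ∀ t ∈ T, t * t ∈ Z
  surj : ∀ t ∈ T, t ∉ Z → ∀ z ∈ Z, ∃ u ∈ T, t * u * t⁻¹ * u⁻¹ = z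
  torus : ∃ g ∈ L, Odd (orderOf g) ∧ (∀ t ∈ T, g * t * g⁻¹ ∈ T) ∧ (∀ z ∈ Z, g * z * g⁻¹ ∈ Z) ∧
    (∀ z ∈ Z, g * z = z * g → z = 1) ∧
    (∃ m : ℕ, (∀ z ∈ Z, g ^ m * z = z * g ^ m) ∧ ∀ t ∈ T, g ^ m * t = t * g ^ m → t ∈ Z) ∧
    ∀ t ∈ T, ∀ u ∈ T, t ∉ Z → u ∉ Z → ∃ k : ℕ, g ^ k * t * (g ^ k)⁻¹ * u⁻¹ ∈ Z
  norm : ∀ g ∈ L, (∀ t ∈ T, g * t * g⁻¹ ∈ T) → (∀ t ∈ T, g * t * g⁻¹ * t⁻¹ ∈ Z) → g ∈ T

/-- Transport along an injective homomorphism. -/
theorem U34Data.map {X Y : Type*} [Group X] [Group Y] {L T Z : Subgroup X} (h : U34Data L T Z)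
    (f : X →* Y) (hf : Function.Injective f) : U34Data (L.map f) (T.map f) (Z.map f) where
  T_le := Subgroup.map_mono h.T_le
  Z_le := Subgroup.map_mono h.Z_le
  card_T := by rw [← h.card_T]; exact (Nat.card_congr (T.equivMapOfInjective f hf).toEquiv).symm
  card_Z := by rw [← h.card_Z]; exact (Nat.card_congr (Z.equivMapOfInjective f hf).toEquiv).symm
  central := by
    rintro _ ⟨z, hz, rfl⟩ _ ⟨t, ht, rfl⟩
    rw [← map_mul, ← map_mul, h.central z hz t ht]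
  sq_eq := by
    rintro _ ⟨z, hz, rfl⟩
    rw [← map_mul, h.sq_eq z hz, map_one]
  inv := by
    rintro _ ⟨t, ht, rfl⟩ h1
    refine ⟨t, h.inv t ht (hf ?_), rfl⟩
    rw [map_mul, h1, map_one]
  comm_mem := by
    rintro _ ⟨t, ht, rfl⟩ _ ⟨u, hu, rfl⟩
    exact ⟨_, h.comm_mem t ht u hu, by simp⟩
  sq_mem := by
    rintro _ ⟨t, ht, rfl⟩
    exact ⟨_, h.sq_mem t ht, by simp⟩
  surj := by
    rintro _ ⟨t, ht, rfl⟩ h1 _ ⟨z, hz, rfl⟩
    obtain ⟨u, hu, hu'⟩ := h.surj t ht (fun h2 => h1 ⟨t, h2, rfl⟩) z hz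
    exact ⟨f u, ⟨u, hu, rfl⟩, by rw [← hu']; simp⟩
  torus := by
    obtain ⟨g, hg, h1, h2, h3, h4, ⟨m, h5, h6⟩, h7⟩ := h.torus
    refine ⟨f g, ⟨g, hg, rfl⟩, ?_, ?_, ?_, ?_, ⟨m, ?_, ?_⟩, ?_⟩
    · rwa [orderOf_injective f hf]
    · rintro _ ⟨t, ht, rfl⟩
      exact ⟨_, h2 t ht, by simp⟩
    · rintro _ ⟨t, ht, rfl⟩
      exact ⟨_, h3 t ht, by simp⟩
    · rintro _ ⟨z, hz, rfl⟩ hc
      rw [h4 z hz (hf (by rw [map_mul, map_mul, hc])), map_one]
    · rintro _ ⟨z, hz, rfl⟩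
      rw [← map_pow, ← map_mul, h5 z hz, map_mul]
    · rintro _ ⟨t, ht, rfl⟩ hc
      rw [← map_pow, ← map_mul, ← map_mul] at hc
      exact ⟨t, h6 t ht (hf hc), rfl⟩
    · rintro _ ⟨t, ht, rfl⟩ _ ⟨u, hu, rfl⟩ h8 h9
      obtain ⟨k, hk⟩ := h7 t ht u hu (fun h => h8 ⟨t, h, rfl⟩) (fun h => h9 ⟨u, h, rfl⟩)
      exact ⟨k, _, hk, by simp⟩
  norm := by
    rintro _ ⟨g, hg, rfl⟩ h1 h2
    refine ⟨g, h.norm g hg ?_ ?_, rfl⟩
    · intro t ht
      have := h1 (f t) ⟨t, ht, rfl⟩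
      rw [← map_inv, ← map_mul, ← map_mul] at this
      obtain ⟨t', ht', e⟩ := this
      rwa [← hf e]
    · intro t ht
      have := h2 (f t) ⟨t, ht, rfl⟩
      rw [← map_inv, ← map_inv, ← map_mul, ← map_mul, ← map_mul] at this
      obtain ⟨t', ht', e⟩ := this
      rwa [← hf e]

section Model

variable {F : Type*} [Field F] [CharP F 2] {σ : F →+* F} [hσ : Fact (∀ x, σ (σ x) = x)]

/-- The diagonal element of `SUJ σ`. -/
def dg (σ : F →+* F) [hσ : Fact (∀ x, σ (σ x) = x)] (l : F) (hl : l ≠ 0) : SUJ σ :=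
  ⟨⟨!![l, 0, 0; 0, σ l / l, 0; 0, 0, (σ l)⁻¹], by
    have h : σ l ≠ 0 := (map_ne_zero σ).mpr hl
    rw [Matrix.det_fin_three]
    simp
    field_simp⟩, by
    have h : σ l ≠ 0 := (map_ne_zero σ).mpr hl
    change (!![l, 0, 0; 0, σ l / l, 0; 0, 0, (σ l)⁻¹] : Matrix (Fin 3) (Fin 3) F).transpose * Jm F *
      (!![l, 0, 0; 0, σ l / l, 0; 0, 0, (σ l)⁻¹] : Matrix (Fin 3) (Fin 3) F).map σ = Jm F
    ext i j
    fin_cases i <;> fin_cases j <;>
      simp [Jm, Matrix.mul_apply, Fin.sum_univ_three, HermHeis.sig, hl, h]⟩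

omit [CharP F 2] in
theorem dg_val (l : F) (hl : l ≠ 0) :
    (dg σ l hl).1.1 = !![l, 0, 0; 0, σ l / l, 0; 0, 0, (σ l)⁻¹] := rfl

omit [CharP F 2] in
theorem dg_mul (l m : F) (hl : l ≠ 0) (hm : m ≠ 0) :
    dg σ l hl * dg σ m hm = dg σ (l * m) (mul_ne_zero hl hm) := by
  apply Subtype.ext
  apply Subtype.ext
  rw [SuzukiRankOne.PSUModel.coe_mul_SUJ, dg_val, dg_val, dg_val]
  ext i j
  fin_cases i <;> fin_cases j <;>
    simp [Matrix.mul_apply, Fin.sum_univ_three, div_mul_div_comm, mul_comm]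

omit [CharP F 2] in
theorem dg_one (h : (1 : F) ≠ 0) : dg σ 1 h = 1 := by
  apply Subtype.ext
  apply Subtype.ext
  rw [dg_val]
  ext i j
  fin_cases i <;> fin_cases j <;> simp

omit [CharP F 2] in
theorem dg_pow (l : F) (hl : l ≠ 0) (n : ℕ) :
    dg σ l hl ^ n = dg σ (l ^ n) (pow_ne_zero n hl) := by
  induction n with
  | zero => simp only [pow_zero]; rw [dg_one]
  | succ n ih =>
    rw [pow_succ, ih, dg_mul]
    congr 1
    rw [pow_succ]

/-- Action of a diagonal element. -/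
theorem dg_mul_emb (l : F) (hl : l ≠ 0) (x y : Heis σ) (ha : y.a = l ^ 2 / σ l * x.a)
    (hb : y.b = l * σ l * x.b) : dg σ l hl * emb σ x = emb σ y * dg σ l hl := by
  have h : σ l ≠ 0 := (map_ne_zero σ).mpr hl
  apply Subtype.ext
  apply Subtype.ext
  rw [SuzukiRankOne.PSUModel.coe_mul_SUJ, SuzukiRankOne.PSUModel.coe_mul_SUJ, dg_val, emb_val, emb_val]
  ext i j
  fin_cases i <;> fin_cases j <;>
    simp [umat, Matrix.mul_apply, Fin.sum_univ_three, ha, hb, HermHeis.sig] <;> field_simp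

omit [CharP F 2] in
/-- The conjugate. -/
theorem exists_dg_conj (l : F) (hl : l ≠ 0) (x : Heis σ) :
    ∃ y : Heis σ, y.a = l ^ 2 / σ l * x.a ∧ y.b = l * σ l * x.b := by
  have h : σ l ≠ 0 := (map_ne_zero σ).mpr hl
  refine ⟨⟨l ^ 2 / σ l * x.a, l * σ l * x.b, ?_⟩, rfl, rfl⟩
  simp only [map_mul, map_div₀, map_pow, HermHeis.sig]
  have := x.h
  field_simp
  linear_combination this

variable [Finite F]

/-- The facts for the model. -/
theorem data_model (hs : ∀ x, σ x = x ^ 4) (hF : Nat.card F = 4 ^ 2) :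
    U34Data (⊤ : Subgroup (SUJ σ)) (emb σ).range ((center (Heis σ)).map (emb σ)) := by
  have hq : 1 < 4 := by norm_num
  have hmem : ∀ x : Heis σ, x ∈ center (Heis σ) ↔ x.a = 0 :=
    fun x => mem_center_iff hq hs hF x
  have hmem' : ∀ x : Heis σ, emb σ x ∈ (center (Heis σ)).map (emb σ) ↔ x.a = 0 := by
    intro x
    rw [← hmem]
    constructor
    · rintro ⟨y, hy, e⟩
      rwa [← emb_injective e]
    · intro hx
      exact ⟨x, hx, rfl⟩
  obtain ⟨-, htr⟩ := card_fixed (σ := σ) hq hs hF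
  obtain ⟨l, hl, hgen⟩ : ∃ l : Fˣ, orderOf l = 15 ∧ ∀ x : Fˣ, x ∈ zpowers l := by
    obtain ⟨l, hl⟩ := IsCyclic.exists_generator (α := Fˣ)
    refine ⟨l, ?_, hl⟩
    rw [orderOf_eq_card_of_forall_mem_zpowers hl]
    classical
    let _ : Fintype F := Fintype.ofFinite F
    rw [Nat.card_eq_fintype_card] at hF
    rw [Nat.card_eq_fintype_card, Fintype.card_units, hF]
    norm_num
  have hl0 : (l : F) ≠ 0 := l.ne_zero
  have hpow : ∀ n : ℕ, ¬ 15 ∣ n → (l : F) ^ n ≠ 1 := by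
    intro n hn h
    apply hn
    rw [← hl]
    apply orderOf_dvd_of_pow_eq_one
    apply Units.ext
    rw [Units.val_pow_eq_pow_val, h, Units.val_one]
  have h15 : (l : F) ^ 15 = 1 := by
    have := pow_orderOf_eq_one l
    rw [hl] at this
    rw [← Units.val_pow_eq_pow_val, this, Units.val_one]
  -- conjugation by the powers of the diagonal element
  have hconj : ∀ (k : F) (hk : k ≠ 0) (x y : Heis σ), y.a = k ^ 2 / σ k * x.a →
      y.b = k * σ k * x.b → dg σ k hk * emb σ x * (dg σ k hk)⁻¹ = emb σ y := by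
    intro k hk x y h1 h2
    rw [dg_mul_emb k hk x y h1 h2, mul_inv_cancel_right]
  refine ⟨le_top, ?_, ?_, ?_, ?_, ?_, ?_, ?_, ?_, ?_, ?_, ?_⟩
  · rintro _ ⟨x, -, rfl⟩
    exact ⟨x, rfl⟩
  · have h1 : Nat.card (emb σ).range = Nat.card (Heis σ) :=
      (Nat.card_congr (MonoidHom.ofInjective emb_injective).toEquiv).symm
    rw [h1, card_heis hq hs hF]
    norm_num
  · have h1 : Nat.card ((center (Heis σ)).map (emb σ)) = Nat.card (center (Heis σ)) :=
      (Nat.card_congr ((center (Heis σ)).equivMapOfInjective (emb σ) emb_injective).toEquiv).symm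
    rw [h1, card_center hq hs hF]
  · rintro _ ⟨z, hz, rfl⟩ _ ⟨t, rfl⟩
    rw [← map_mul, ← map_mul, (mem_center_iff.mp hz t)]
  · rintro _ ⟨z, hz, rfl⟩
    rw [← map_mul, (HermHeis.mul_self_eq_one_iff z).mpr ((hmem z).mp hz), map_one]
  · rintro _ ⟨t, rfl⟩ h
    rw [hmem', ← HermHeis.mul_self_eq_one_iff]
    apply emb_injective (σ := σ)
    rw [map_mul, h, map_one]
  · rintro _ ⟨t, rfl⟩ _ ⟨u, rfl⟩
    rw [← map_inv, ← map_inv, ← map_mul, ← map_mul, ← map_mul, hmem']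
    simp only [mul_a, inv_a]
    linear_combination CharTwo.add_self_eq_zero (t.a + u.a)
  · rintro _ ⟨t, rfl⟩
    rw [← map_mul, hmem', mul_a]
    exact CharTwo.add_self_eq_zero _
  · rintro _ ⟨t, rfl⟩ ht _ ⟨z, hz, rfl⟩
    rw [hmem'] at ht
    have hza := (hmem z).mp hz
    obtain ⟨d, hd⟩ := htr z.b (b_fixed_of_a_eq_zero hza)
    obtain ⟨u, hu⟩ := exists_heis_a (σ := σ) hq hs hF (σ (d / t.a))
    refine ⟨emb σ u, ⟨u, rfl⟩, ?_⟩
    rw [← map_inv, ← map_inv, ← map_mul, ← map_mul, ← map_mul]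
    congr 1
    have h1 : t * u = z * (u * t) := by
      ext
      · simp [hza, add_comm]
      · simp only [mul_b, mul_a, hza, hu, HermHeis.sig, zero_mul, add_zero]
        have e1 : t.a * (d / t.a) = d := by field_simp
        have e2 : σ (d / t.a) * σ t.a = σ d := by rw [← map_mul, div_mul_cancel₀ _ ht]
        rw [e1, e2, ← hd]
        linear_combination - CharTwo.add_self_eq_zero (σ d)
    rw [h1]
    group
  · refine ⟨dg σ l hl0, trivial, ?_, ?_, ?_, ?_, ⟨3, ?_, ?_⟩, ?_⟩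
    · have h1 : dg σ l hl0 ^ 15 = 1 := by
        rw [dg_pow]
        have e : dg σ ((l : F) ^ 15) (pow_ne_zero 15 hl0) = dg σ 1 one_ne_zero := by
          congr 1
        rw [e, dg_one]
      exact Odd.of_dvd_nat (by decide : Odd 15) (orderOf_dvd_of_pow_eq_one h1)
    · rintro _ ⟨x, rfl⟩
      obtain ⟨y, hy1, hy2⟩ := exists_dg_conj (σ := σ) l hl0 x
      rw [hconj l hl0 x y hy1 hy2]
      exact ⟨y, rfl⟩
    · rintro _ ⟨x, hx, rfl⟩
      obtain ⟨y, hy1, hy2⟩ := exists_dg_conj (σ := σ) l hl0 x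
      rw [hconj l hl0 x y hy1 hy2, hmem', hy1, (hmem x).mp hx, mul_zero]
    · rintro _ ⟨x, hx, rfl⟩ h
      obtain ⟨y, hy1, hy2⟩ := exists_dg_conj (σ := σ) l hl0 x
      have h1 := hconj l hl0 x y hy1 hy2
      rw [h, mul_inv_cancel_right] at h1
      have h2 := emb_injective h1
      rw [← h2] at hy2
      have h3 : x.b * ((l : F) ^ 5 - 1) = 0 := by
        rw [hs] at hy2
        linear_combination -hy2
      rcases mul_eq_zero.mp h3 with h4 | h4
      · have : x = 1 := by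
          ext
          · exact (hmem x).mp hx
          · exact h4
        rw [this, map_one]
      · exact absurd (sub_eq_zero.mp h4) (hpow 5 (by norm_num))
    · rintro _ ⟨x, hx, rfl⟩
      rw [dg_pow]
      refine dg_mul_emb _ _ x x ?_ ?_
      · rw [(hmem x).mp hx, mul_zero]
      · rw [hs]
        have : (l : F) ^ 3 * ((l : F) ^ 3) ^ 4 = 1 := by rw [← h15]; ring
        rw [this, one_mul]
    · rintro _ ⟨x, rfl⟩ h
      rw [dg_pow] at h
      have hk := pow_ne_zero 3 hl0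
      obtain ⟨y, hy1, hy2⟩ := exists_dg_conj (σ := σ) ((l : F) ^ 3) hk x
      have h1 := hconj _ hk x y hy1 hy2
      rw [h, mul_inv_cancel_right] at h1
      have h2 := emb_injective h1
      rw [← h2, hs] at hy1
      rw [hmem']
      by_contra hne
      have h3 : x.a * ((l : F) ^ 6 - 1) = 0 := by
        have e : x.a * ((l : F) ^ 3) ^ 4 = ((l : F) ^ 3) ^ 2 * x.a := by
          have h4 : ((l : F) ^ 3) ^ 4 ≠ 0 := pow_ne_zero _ hk
          rw [div_mul_eq_mul_div, eq_div_iff h4] at hy1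
          exact hy1
        have h6 : (l : F) ^ 6 ≠ 0 := pow_ne_zero _ hl0
        apply mul_left_cancel₀ h6
        linear_combination e
      rcases mul_eq_zero.mp h3 with h4 | h4
      · exact hne h4
      · exact hpow 6 (by norm_num) (sub_eq_zero.mp h4)
    · rintro _ ⟨x, rfl⟩ _ ⟨y, rfl⟩ hx hy
      rw [hmem'] at hx hy
      obtain ⟨k, hk⟩ : ∃ k : ℕ, l ^ k = (Units.mk0 (x.a / y.a) (div_ne_zero hx hy)) ^ 8 := by
        have := hgen ((Units.mk0 (x.a / y.a) (div_ne_zero hx hy)) ^ 8)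
        rw [← mem_powers_iff_mem_zpowers] at this
        obtain ⟨k, hk⟩ := this
        exact ⟨k, hk⟩
      have hk' : (l : F) ^ k = (x.a / y.a) ^ 8 := by
        have := congrArg Units.val hk
        simpa using this
      have h16 : (x.a / y.a) ^ 16 = x.a / y.a := by
        have := hσ.out (x.a / y.a)
        rw [hs, hs, ← pow_mul] at this
        exact this
      refine ⟨k, ?_⟩
      have hlk := pow_ne_zero k hl0
      rw [dg_pow]
      obtain ⟨w, hw1, hw2⟩ := exists_dg_conj (σ := σ) ((l : F) ^ k) hlk x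
      rw [hconj _ hlk x w hw1 hw2, ← map_inv, ← map_mul, hmem']
      rw [hs, hk'] at hw1
      have hw3 : w.a = y.a := by
        have e0 : x.a / y.a ≠ 0 := div_ne_zero hx hy
        have e1 : ((x.a / y.a) ^ 8) ^ 2 = x.a / y.a := by rw [← pow_mul]; exact h16
        have e2 : ((x.a / y.a) ^ 8) ^ 4 = (x.a / y.a) ^ 2 := by
          rw [show (4 : ℕ) = 2 * 2 from rfl, pow_mul, e1]
        rw [hw1, e1, e2]
        field_simp
      simp only [mul_a, inv_a, hw3]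
      exact CharTwo.add_self_eq_zero _
  · intro g _ h1 h2
    -- the element `(1, b)`
    have hx : ∃ x : Heis σ, x.a ≠ 0 := by
      obtain ⟨x, hx⟩ := exists_heis_a (σ := σ) hq hs hF 1
      exact ⟨x, by rw [hx]; exact one_ne_zero⟩
    have hb : g ∈ SuzukiRankOne.PSUModel.borel σ := by
      have h3 : g⁻¹ ∈ SuzukiRankOne.PSUModel.borel σ := by
        apply col_of_mem_normalizer hx
        intro u hu
        rw [inv_inv]
        exact h1 u hu
      rw [← inv_inv g]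
      exact inv_mem h3
    obtain ⟨g10, g20⟩ := hb
    have e := entry_of_mem_SUJ g.2
    have e01 := e 0 1
    have e02 := e 0 2
    have e11 := e 1 1
    have hdet : g.1.1.det = 1 := g.1.2
    have h00 : g.1.1 0 0 ≠ 0 := by
      intro h0
      rw [Matrix.det_fin_three, h0, g10, g20] at hdet
      simp at hdet
    simp [Jm, g10, g20, h00] at e01 e02
    simp [Jm, e01] at e11
    rw [Matrix.det_fin_three] at hdet
    simp [g10, g20, e01] at hdet
    obtain ⟨x, hx⟩ := exists_heis_a (σ := σ) hq hs hF 1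
    obtain ⟨z, hz, hz'⟩ := h2 (emb σ x) ⟨x, rfl⟩
    have hza := (hmem z).mp hz
    have h3 : g * emb σ x = emb σ (z * x) * g := by
      rw [map_mul, hz']
      group
    have h4 := congrArg (fun k : SUJ σ => k.1.1 0 1) h3
    simp only [SuzukiRankOne.PSUModel.coe_mul_SUJ, emb_val, Matrix.mul_apply, Fin.sum_univ_three,
      umat] at h4
    simp [hx, hza, e01] at h4
    have h5 : g.1.1 1 1 = g.1.1 0 0 := by linear_combination -h4
    rw [h5] at e11 hdet
    rw [hs] at e11 e02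
    have h6 : g.1.1 0 0 ^ 7 = 1 := by
      have h7 : (g.1.1 0 0 * g.1.1 0 0 * g.1.1 2 2) ^ 4 = 1 := by rw [hdet, one_pow]
      linear_combination h7 - g.1.1 0 0 ^ 7 * e02
    have h7 : g.1.1 0 0 ^ 2 = 1 := by
      linear_combination h6 - g.1.1 0 0 ^ 2 * e11
    have h8 : g.1.1 0 0 = 1 := by
      linear_combination e11 - g.1.1 0 0 * (g.1.1 0 0 ^ 2 + 1) * h7
    exact mem_range_of_col h8 g10 g20

end Model

/-- The facts in a group isomorphic to `U₃(4)`. -/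
theorem exists_data {F : Type*} [Field F] [Fintype F] (hF : Fintype.card F = 16) {L : Type*} [Group L]
    [Finite L] (e : L ≃* Cfsg.PSU 3 F 4) (T : Sylow 2 L) :
    ∃ Z : Subgroup L, U34Data (⊤ : Subgroup L) (T : Subgroup L) Z := by
  have hF' : Nat.card F = (2 ^ 2) ^ 2 := by rw [Nat.card_eq_fintype_card, hF]; norm_num
  obtain ⟨h2, σ, hinv, hs, -, -⟩ := exists_heis_equiv F (show 1 ≤ 2 by norm_num) hF'
  have : Fact (Nat.Prime 2) := ⟨Nat.prime_two⟩
  have hs' : ∀ x, σ x = x ^ 4 := by intro x; rw [hs]; norm_num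
  have hF4 : Nat.card F = 4 ^ 2 := by rw [hF']; norm_num
  have hdat := data_model (σ := σ) hs' hF4
  obtain ⟨c, hc⟩ := HermHeis.exists_not_fixed (σ := σ) (by norm_num : 1 < 4) hs' hF4
  obtain ⟨A, A', hAA', hA⟩ := exists_T hc
  let e1 : SUJ σ ≃* Cfsg.SU 3 F 4 :=
    ((conjT hAA').subgroupMap (SUJ σ)).trans (MulEquiv.subgroupCongr (SU_eq_map hs' hAA' hA))
  have hcen : Subgroup.center (Cfsg.SU 3 F 4) = ⊥ := U34Sylow.center_eq_bot hF
  let e2 : Cfsg.SU 3 F 4 ≃* Cfsg.PSU 3 F 4 :=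
    (QuotientGroup.quotientBot.symm).trans (QuotientGroup.quotientMulEquivOfEq hcen.symm)
  let f : SUJ σ ≃* L := (e1.trans e2).trans e.symm
  -- a Sylow subgroup of the model
  have hq : 1 < 4 := by norm_num
  have h2g : IsPGroup 2 (Heis σ) :=
    IsPGroup.of_card (n := 2 * 3) (by rw [HermHeis.card_heis hq hs' hF4]; norm_num)
  obtain ⟨x, hx⟩ := HermHeis.exists_heis_a (σ := σ) hq hs' hF4 1
  obtain ⟨P, hP⟩ := exists_sylow ⟨x, by rw [hx]; exact one_ne_zero⟩ h2g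
  have hd1 := hdat.map f.toMonoidHom f.injective
  rw [← hP] at hd1
  obtain ⟨g, hg⟩ := MulAction.exists_smul_eq L (P.mapSurjective (f := f.toMonoidHom) f.surjective) T
  have hd2 := hd1.map (MulAut.conj g).toMonoidHom (MulAut.conj g).injective
  have e3 : ((⊤ : Subgroup (SUJ σ)).map f.toMonoidHom).map (MulAut.conj g).toMonoidHom = ⊤ := by
    rw [Subgroup.map_top_of_surjective _ f.surjective, Subgroup.map_top_of_surjective _ (MulAut.conj g).surjective]
  have e4 : ((P : Subgroup (SUJ σ)).map f.toMonoidHom).map (MulAut.conj g).toMonoidHom =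
      (T : Subgroup L) := by
    rw [← hg]
    rfl
  rw [e3, e4] at hd2
  exact ⟨_, hd2⟩

end Cfsg.Agent.TwoFusion.GoldU34
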