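import Mathlib
import Cfsg.Agent.TwoFusion.GoldU34
import Cfsg.Agent.TwoFusion.GoldJBasic

/-!
# Case (J) of Goldschmidt's theorem: the component has trivial centre

* `mem_commutator_of_center`: in a perfect group the central elements of a Sylow subgroup lie in its commutator
  subgroup;
* `center_eq_bot_of_comm`, `center_eq_bot_of_u34`.
-/

set_option autoImplicit false
set_option linter.style.haveILetI false

namespace Cfsg.Agent.TwoFusion.GoldJCentre

open Subgroup
open Cfsg.Agent.TwoFusion.GoldU34 Cfsg.Agent.TwoFusion.GoldJBasic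

variable {J : Type*} [Group J] [Finite J]

/-- In a perfect group the central elements of a Sylow subgroup lie in its commutator subgroup. -/
theorem mem_commutator_of_center (hJ : commutator J = ⊤) {p : ℕ}
    [Fact p.Prime] (Q : Sylow p J) {z : J} (hz : z ∈ center J) (hzQ : z ∈ (Q : Subgroup J)) :
    z ∈ ⁅(Q : Subgroup J), (Q : Subgroup J)⁆ := by
  set φ : (Q : Subgroup J) →* Abelianization (Q : Subgroup J) := Abelianization.of with hφ
  have hzc := mem_center_iff.1 hz
  have key : ∀ (k : ℕ) (g₀ : J), g₀⁻¹ * z ^ k * g₀ ∈ (Q : Subgroup J) → g₀⁻¹ * z ^ k * g₀ = z ^ k := by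
    intro k g₀ _
    have h1 := mem_center_iff.1 (pow_mem hz k) g₀
    rw [mul_assoc, ← h1, ← mul_assoc, inv_mul_cancel, one_mul]
  have h1 := MonoidHom.transfer_eq_pow φ z key
  have h2 : MonoidHom.transfer φ z = 1 := by
    have h3 := Abelianization.commutator_subset_ker (MonoidHom.transfer φ)
    rw [hJ] at h3
    exact h3 (mem_top z)
  rw [h2] at h1
  set n := (Q : Subgroup J).index with hn
  have h3 : (⟨z ^ n, MonoidHom.transfer_eq_pow_aux z key⟩ : (Q : Subgroup J)) ∈
      commutator (Q : Subgroup J) := by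
    rw [← Abelianization.ker_of, MonoidHom.mem_ker]
    exact h1.symm
  have h4 : z ^ n ∈ ⁅(Q : Subgroup J), (Q : Subgroup J)⁆ := by
    rw [← Subgroup.map_subtype_commutator]
    exact ⟨_, h3, rfl⟩
  -- `z` is a power of `z ^ n`
  obtain ⟨m, hm⟩ := Q.isPGroup' ⟨z, hzQ⟩
  have hzm : z ^ p ^ m = 1 := congrArg Subtype.val hm
  have hcop : Nat.Coprime n (orderOf z) := by
    apply Nat.Coprime.coprime_dvd_right (orderOf_dvd_of_pow_eq_one hzm)
    apply Nat.Coprime.pow_right
    rw [Nat.coprime_comm, Nat.Prime.coprime_iff_not_dvd Fact.out]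
    exact Q.not_dvd_index
  obtain ⟨l, hl⟩ := exists_pow_eq_self_of_coprime hcop
  rw [← hl]
  exact pow_mem h4 l

/-- A normal 2-subgroup lies in every Sylow 2-subgroup. -/
theorem le_sylow_of_normal (T : Sylow 2 J) {Z : Subgroup J} [hZn : Z.Normal] (hZ : IsPGroup 2 Z) :
    Z ≤ (T : Subgroup J) := by
  haveI : Fact (Nat.Prime 2) := ⟨Nat.prime_two⟩
  obtain ⟨Q, hQ⟩ := hZ.exists_le_sylow
  obtain ⟨g, hg⟩ := MulAction.exists_smul_eq J Q T
  intro z hz
  rw [← hg]
  have h1 : g⁻¹ * z * g ∈ Z := by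
    have := hZn.conj_mem z hz g⁻¹
    rwa [inv_inv] at this
  refine ⟨g⁻¹ * z * g, hQ h1, ?_⟩
  simp [MulAut.conj_apply, mul_assoc]

/-- A perfect group with commutative Sylow 2-subgroups whose centre is a 2-group has trivial centre. -/
theorem center_eq_bot_of_comm (hJ : commutator J = ⊤) (T : Sylow 2 J)
    (hT : ∀ a ∈ T, ∀ b ∈ T, a * b = b * a) (hZ : IsPGroup 2 (center J)) : center J = ⊥ := by
  haveI : Fact (Nat.Prime 2) := ⟨Nat.prime_two⟩
  rw [eq_bot_iff]
  intro z hz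
  have h1 := mem_commutator_of_center hJ T hz (le_sylow_of_normal T hZ hz)
  have h2 : ⁅(T : Subgroup J), (T : Subgroup J)⁆ = ⊥ := by
    rw [Subgroup.commutator_eq_bot_iff_le_centralizer]
    intro a ha
    rw [mem_centralizer_iff]
    intro b hb
    exact hT b hb a ha
  rwa [h2] at h1

omit [Finite J] in
/-- An odd order lift of an element of odd order, modulo a 2-group. -/
theorem exists_odd_lift {K : Type*} [Group K] {f : J →* K} (hker : IsPGroup 2 f.ker) (g0 : J)
    (hg : Odd (orderOf (f g0))) : ∃ g : J, f g = f g0 ∧ Odd (orderOf g) := by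
  set r := orderOf (f g0) with hr
  have h1 : g0 ^ r ∈ f.ker := by rw [MonoidHom.mem_ker, map_pow, hr, pow_orderOf_eq_one]
  obtain ⟨s, hs⟩ := hker ⟨g0 ^ r, h1⟩
  have hs' : (g0 ^ r) ^ 2 ^ s = 1 := congrArg Subtype.val hs
  -- `j = 0 mod 2 ^ s`, `j = 1 mod r`
  have hcop : Nat.Coprime (2 ^ s) r := (Nat.coprime_two_left.mpr hg).pow_left s
  obtain ⟨j, hj1, hj2⟩ := Nat.chineseRemainder hcop 0 1
  refine ⟨g0 ^ j, ?_, ?_⟩
  · rw [map_pow]
    have := (pow_eq_pow_iff_modEq (x := f g0) (n := j) (m := 1)).mpr hj2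
    rw [this, pow_one]
  · have h2 : (g0 ^ j) ^ r = 1 := by
      obtain ⟨c, hc⟩ := (Nat.modEq_zero_iff_dvd).1 hj1
      rw [hc, ← pow_mul]
      have : 2 ^ s * c * r = r * 2 ^ s * c := by ring
      rw [this, pow_mul, pow_mul, hs', one_pow]
    exact hg.of_dvd_nat (orderOf_dvd_of_pow_eq_one h2)

/-- Four cosets do not cover. -/
theorem exists_avoid {T Z : Subgroup J} (hcard : 4 * Nat.card Z < Nat.card T) (t u : J) :
    ∃ w ∈ T, w ∉ Z ∧ t * w ∉ Z ∧ u * w ∉ Z ∧ t * (u * w) ∉ Z := by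
  classical
  by_contra hcon
  push Not at hcon
  have hsub : (T : Set J) ⊆ (Z : Set J) ∪ (fun z => t⁻¹ * z) '' (Z : Set J) ∪
      (fun z => u⁻¹ * z) '' (Z : Set J) ∪ (fun z => u⁻¹ * (t⁻¹ * z)) '' (Z : Set J) := by
    intro w hw
    by_cases h1 : w ∈ Z
    · exact Or.inl (Or.inl (Or.inl h1))
    by_cases h2 : t * w ∈ Z
    · exact Or.inl (Or.inl (Or.inr ⟨_, h2, by simp⟩))
    by_cases h3 : u * w ∈ Z
    · exact Or.inl (Or.inr ⟨_, h3, by simp⟩)
    · exact Or.inr ⟨_, hcon w hw h1 h2 h3, by simp [mul_assoc]⟩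
  have h1 := Set.ncard_le_ncard hsub (Set.toFinite _)
  have h2 : ∀ φ : J → J, (φ '' (Z : Set J)).ncard ≤ Nat.card Z := by
    intro φ
    have := Set.ncard_image_le (f := φ) (Set.toFinite (Z : Set J))
    exact this
  have h3 := Set.ncard_union_le ((Z : Set J) ∪ (fun z => t⁻¹ * z) '' (Z : Set J) ∪
      (fun z => u⁻¹ * z) '' (Z : Set J)) ((fun z => u⁻¹ * (t⁻¹ * z)) '' (Z : Set J))
  have h4 := Set.ncard_union_le ((Z : Set J) ∪ (fun z => t⁻¹ * z) '' (Z : Set J))
    ((fun z => u⁻¹ * z) '' (Z : Set J))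
  have h5 := Set.ncard_union_le (Z : Set J) ((fun z => t⁻¹ * z) '' (Z : Set J))
  have h6 := h2 (fun z => t⁻¹ * z)
  have h7 := h2 (fun z => u⁻¹ * z)
  have h8 := h2 (fun z => u⁻¹ * (t⁻¹ * z))
  have h9 : (Z : Set J).ncard = Nat.card Z := rfl
  have h10 : (T : Set J).ncard = Nat.card T := rfl
  omega

/-- The `U₃(4)` case. -/
theorem center_eq_bot_of_u34 (hJ : commutator J = ⊤) (T : Sylow 2 J) (hZ : IsPGroup 2 (center J))
    {Zb : Subgroup (J ⧸ center J)}
    (hd : U34Data ⊤ ((T : Subgroup J).map (QuotientGroup.mk' (center J))) Zb)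
    (hcen : ∀ m ∈ T, (QuotientGroup.mk' (center J)) m ∈ Zb → ∀ t ∈ T, m * t = t * m) :
    center J = ⊥ := by
  haveI : Fact (Nat.Prime 2) := ⟨Nat.prime_two⟩
  by_contra hne
  set f := QuotientGroup.mk' (center J) with hf
  have hker : f.ker = center J := QuotientGroup.ker_mk' _
  have hZT : center J ≤ (T : Subgroup J) := le_sylow_of_normal T hZ
  set M : Subgroup J := (T : Subgroup J) ⊓ Zb.comap f with hM
  have hmemM : ∀ m, m ∈ M ↔ m ∈ (T : Subgroup J) ∧ f m ∈ Zb := fun m => Iff.rfl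
  have hZM : center J ≤ M := by
    intro z hz
    have : f z = 1 := by rw [← MonoidHom.mem_ker, hker]; exact hz
    rw [hmemM, this]
    exact ⟨hZT hz, one_mem _⟩
  have hTmem : ∀ x, f x ∈ (T : Subgroup J).map f → x ∈ (T : Subgroup J) := by
    rintro x ⟨t, ht, e⟩
    have h1 : t⁻¹ * x ∈ f.ker := by rw [MonoidHom.mem_ker, map_mul, map_inv, e, inv_mul_cancel]
    rw [hker] at h1
    have h2 := mul_mem ht (hZT h1)
    rwa [mul_inv_cancel_left] at h2
  obtain ⟨gb, -, hgo, hgT, hgZ, hgfix, -, htrans⟩ := hd.torus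
  obtain ⟨g0, hg0⟩ := QuotientGroup.mk'_surjective (center J) gb
  obtain ⟨g, hfg, hgodd⟩ := exists_odd_lift (f := f) (by rw [hker]; exact hZ) g0 (by rw [hg0]; exact hgo)
  rw [hg0] at hfg
  have hgM : ∀ m ∈ M, g * m * g⁻¹ ∈ M := by
    intro m hm
    rw [hmemM] at hm ⊢
    constructor
    · apply hTmem
      rw [map_mul, map_mul, map_inv, hfg]
      exact hgT _ ⟨m, hm.1, rfl⟩
    · rw [map_mul, map_mul, map_inv, hfg]
      exact hgZ _ hm.2
  have hgMn : g ∈ normalizer (M : Set J) := by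
    have h1 : M.map (MulAut.conj g).toMonoidHom ≤ M := by
      rintro _ ⟨n, hn, rfl⟩
      exact hgM n hn
    have h2 : M.map (MulAut.conj g).toMonoidHom = M := by
      apply Subgroup.eq_of_le_of_card_ge h1
      exact (Nat.card_congr (M.equivMapOfInjective _ (MulAut.conj g).injective).toEquiv).le
    rw [mem_normalizer_iff]
    intro n
    refine ⟨fun hn => hgM n hn, fun hn => ?_⟩
    have h3 : g * n * g⁻¹ ∈ M.map (MulAut.conj g).toMonoidHom := by rw [h2]; exact hn
    obtain ⟨m, hm, e⟩ := h3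
    have e1 : g * m * g⁻¹ = g * n * g⁻¹ := e
    have e2 : m = n := by simpa using e1
    rwa [← e2]
  have hMc : ∀ m ∈ M, ∀ t ∈ (T : Subgroup J), m * t = t * m := fun m hm t ht =>
    hcen m hm.1 hm.2 t ht
  obtain ⟨N, hNM, hN2, hNg, z, hz, hzN⟩ := exists_inv_index_two (M := M) (Z := center J)
    (T.2.to_le inf_le_left) (fun m hm m' hm' => hMc m hm m' hm'.1) hgodd hgMn (by
      intro z hz
      constructor
      · intro h
        rw [← hker, MonoidHom.mem_ker]
        apply hgfix _ hz.2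
        rw [← hfg, ← map_mul, h, map_mul]
      · intro h
        exact (mem_center_iff.1 h g)) hZM hne
  have hNk : ∀ k : ℕ, ∀ m ∈ M, g ^ k * m * (g ^ k)⁻¹ ∈ M ∧ (g ^ k * m * (g ^ k)⁻¹ ∈ N ↔ m ∈ N) := by
    intro k
    induction k with
    | zero => intro m hm; simp [hm]
    | succ k ih =>
      intro m hm
      have e : g ^ (k + 1) * m * (g ^ (k + 1))⁻¹ = g * (g ^ k * m * (g ^ k)⁻¹) * g⁻¹ := by
        rw [pow_succ']; group
      rw [e]
      obtain ⟨h1, h2⟩ := ih m hm
      exact ⟨hgM _ h1, (hNg _ h1).trans h2⟩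
  have hcomm := comm_mem (T := (T : Subgroup J)) (M := M) (N := N) hMc (by
      intro t ht
      rw [hmemM, map_mul]
      exact ⟨mul_mem ht ht, hd.sq_mem _ ⟨t, ht, rfl⟩⟩) hN2 (by
      intro t ht u hu htM huM
      have h1 : f t ∉ Zb := fun h => htM ⟨ht, h⟩
      have h2 : f u ∉ Zb := fun h => huM ⟨hu, h⟩
      obtain ⟨k, hk⟩ := htrans _ ⟨t, ht, rfl⟩ _ ⟨u, hu, rfl⟩ h1 h2
      have hkT : ∀ x ∈ (T : Subgroup J), g ^ k * x * (g ^ k)⁻¹ ∈ (T : Subgroup J) := by
        clear hk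
        induction k with
        | zero => intro x hx; simpa using hx
        | succ k ih =>
          intro x hx
          have e : g ^ (k + 1) * x * (g ^ (k + 1))⁻¹ = g * (g ^ k * x * (g ^ k)⁻¹) * g⁻¹ := by
            rw [pow_succ']; group
          rw [e]
          apply hTmem
          rw [map_mul, map_mul, map_inv, hfg]
          exact hgT _ ⟨_, ih x hx, rfl⟩
      set m := g ^ k * t * (g ^ k)⁻¹ * u⁻¹ with hm
      have hmM : m ∈ M := by
        rw [hmemM]
        refine ⟨mul_mem (hkT t ht) (inv_mem hu), ?_⟩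
        rw [hm, map_mul, map_mul, map_mul, map_inv, map_inv, map_pow, hfg]
        exact hk
      have hsqM : ∀ v ∈ (T : Subgroup J), v * v ∈ M := by
        intro v hv
        rw [hmemM, map_mul]
        exact ⟨mul_mem hv hv, hd.sq_mem _ ⟨v, hv, rfl⟩⟩
      have e1 : g ^ k * (t * t) * (g ^ k)⁻¹ = (m * m) * (u * u) := by
        have e2 : g ^ k * t * (g ^ k)⁻¹ = m * u := by rw [hm]; group
        have e3 : g ^ k * (t * t) * (g ^ k)⁻¹ = (g ^ k * t * (g ^ k)⁻¹) * (g ^ k * t * (g ^ k)⁻¹) := by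
          group
        rw [e3, e2]
        have h := hMc m hmM u hu
        calc m * u * (m * u) = m * (u * m) * u := by group
          _ = m * (m * u) * u := by rw [h]
          _ = _ := by group
      have h3 := (hNk k _ (hsqM t ht)).2
      rw [e1, hN2 _ (M.mul_mem hmM hmM) _ (hsqM u hu)] at h3
      have h4 : m * m ∈ N := (hN2 m hmM m hmM).2 Iff.rfl
      rw [← h3]
      exact ⟨fun h => h.1 h4, fun h => ⟨fun _ => h, fun _ => h4⟩⟩) (by
      intro t ht u hu
      obtain ⟨w, ⟨w', hw', rfl⟩, h1, h2, h3, h4⟩ := exists_avoid (T := (T : Subgroup J).map f) (Z := Zb)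
        (by rw [hd.card_T, hd.card_Z]; norm_num) (f t) (f u)
      refine ⟨w', hw', fun h => h1 h.2, fun h => h2 ?_, fun h => h3 ?_, fun h => h4 ?_⟩
      · rw [← map_mul]; exact h.2
      · rw [← map_mul]; exact h.2
      · rw [← map_mul, ← map_mul]; exact h.2)
  apply hzN
  have h1 := mem_commutator_of_center hJ T hz (hZT hz)
  have h2 : ⁅(T : Subgroup J), (T : Subgroup J)⁆ ≤ N := by
    rw [Subgroup.commutator_le]
    intro a ha b hb
    exact hcomm a ha b hb
  exact h2 h1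

end Cfsg.Agent.TwoFusion.GoldJCentre
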