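import Mathlib
import Cfsg.Agent.WeakTI.PslTwo
import Cfsg.Agent.LieRecognition.PSUThreeSylow
import Cfsg.Agent.TwoFusion.GoldDefs
import Cfsg.Agent.TwoFusion.GoldU34

/-!
# Case (J) of Goldschmidt's theorem: a simple group with `|Ω₁(S)| = 4`

`exists_u34`: a simple group satisfying `TCon` with `|Ω₁(S)| = 4` has elementary Sylow 2-subgroups or is
`U₃(4)`.
-/

set_option autoImplicit false
set_option linter.style.haveILetI false

namespace Cfsg.Agent.TwoFusion.GoldJIso

open Subgroup Cfsg.Agent.TwoFusion.Gold Cfsg.Agent.TwoFusion.GoldU34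
open Cfsg.Agent.LieRecognition Cfsg.Agent.LieRecognition.PSUThreeSylow

universe u

/-- The conclusion of Bender's theorem S0222 for the group `L`. -/
def Ben (L : Type u) [Group L] : Prop :=
  ∀ H : Subgroup L, Cfsg.IsStronglyEmbedded H →
    (∃ (F : Type) (_ : Field F) (_ : Fintype F), CharP F 2 ∧ 4 ≤ Fintype.card F ∧
      Nonempty (L ≃* Matrix.ProjectiveSpecialLinearGroup (Fin 2) F)) ∨ Cfsg.IsSuzuki L ∨
    (∃ (F : Type) (_ : Field F) (_ : Fintype F) (q : ℕ), Fintype.card F = q ^ 2 ∧ Even q ∧ 4 ≤ q ∧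
      Nonempty (L ≃* Cfsg.PSU 3 F q))

/-- A Suzuki order is not divisible by three. -/
theorem not_suzuki {G : Type*} [Group G] (h3 : 3 ∣ Nat.card G) (h : Cfsg.IsSuzuki G) : False := by
  obtain ⟨-, n, hn, hc⟩ := h
  obtain ⟨q, hq⟩ : ∃ q, q = 2 ^ (2 * n + 1) := ⟨_, rfl⟩
  rw [← hq] at hc
  have h1 : q % 3 = 2 := by
    rw [hq, pow_succ, pow_mul]
    have h2 : (2 ^ 2) ^ n % 3 = 1 := by
      rw [Nat.pow_mod]
      norm_num
    rw [Nat.mul_mod, h2]
  have h2 : (q - 1) % 3 = 1 := by omega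
  have h4 : q ^ 2 % 3 = 1 := by rw [Nat.pow_mod, h1]
  have h5 : (q ^ 2 + 1) % 3 = 2 := by rw [Nat.add_mod, h4]
  have h6 : Nat.card G % 3 = 2 := by
    have h7 : q ^ 2 * (q ^ 2 + 1) % 3 = 2 := by
      rw [Nat.mul_mod, h4, h5]
    rw [hc, Nat.mul_mod, h7, h2]
  omega

variable {L : Type u} [Group L] [Finite L]

/-- If the three involutions of `Ω₁(S)` are conjugate and `S` is a TI set then `3` divides `|L|`. -/
theorem three_dvd (hT : TCon L) (hti : ∀ S S' : Sylow 2 L, S ≠ S' → (S : Subgroup L) ⊓ S' = ⊥)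
    (S : Sylow 2 L) (h4 : (invo L (S : Subgroup L)).ncard = 4) : 3 ∣ Nat.card L := by
  classical
  haveI : Fact (Nat.Prime 2) := ⟨Nat.prime_two⟩
  set N := normalizer ((S : Subgroup L) : Set L) with hN
  let Y := {s : L // (s ∈ (S : Subgroup L) ∧ s * s = 1) ∧ s ≠ 1}
  let act : MulAction N Y :=
    { smul := fun n s => ⟨(n : L) * s.1 * (n : L)⁻¹,
        ⟨⟨(mem_normalizer_iff.1 n.2 s.1).1 s.2.1.1, by
          have := s.2.1.2
          calc (n : L) * s.1 * (n : L)⁻¹ * ((n : L) * s.1 * (n : L)⁻¹) = (n : L) * (s.1 * s.1) * (n : L)⁻¹ := by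
                group
            _ = 1 := by rw [this]; group⟩, fun h => s.2.2 (by
          have : s.1 = (n : L)⁻¹ * ((n : L) * s.1 * (n : L)⁻¹) * (n : L) := by group
          rw [this, h]; group)⟩⟩
      one_smul := fun s => Subtype.ext (by
        change ((1 : N) : L) * s.1 * ((1 : N) : L)⁻¹ = s.1
        simp)
      mul_smul := fun a b s => Subtype.ext (by
        change ((a * b : N) : L) * s.1 * ((a * b : N) : L)⁻¹ = (a : L) * ((b : L) * s.1 * (b : L)⁻¹) * (a : L)⁻¹
        push_cast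
        group) }
  have hsm : ∀ (n : N) (s : Y), ((n • s : Y) : L) = (n : L) * s.1 * (n : L)⁻¹ := fun n s => rfl
  have hYc : Nat.card Y = 3 := by
    have e : (invo L (S : Subgroup L)) = insert 1 {s : L | (s ∈ (S : Subgroup L) ∧ s * s = 1) ∧ s ≠ 1} := by
      ext s
      simp only [invo, Set.mem_setOf_eq, Set.mem_insert_iff]
      constructor
      · intro h
        by_cases h1 : s = 1
        · exact Or.inl h1
        · exact Or.inr ⟨h, h1⟩
      · rintro (rfl | h)
        · exact ⟨one_mem _, one_mul 1⟩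
        · exact h.1
    rw [e, Set.ncard_insert_of_notMem (by simp) (Set.toFinite _)] at h4
    have : ({s : L | (s ∈ (S : Subgroup L) ∧ s * s = 1) ∧ s ≠ 1}).ncard = Nat.card Y := rfl
    omega
  have htr : MulAction.IsPretransitive N Y := by
    refine ⟨fun x y => ?_⟩
    obtain ⟨g, hg⟩ := hT.conj x.1 y.1
      (orderOf_eq_prime (by rw [pow_two]; exact x.2.1.2) x.2.2)
      (orderOf_eq_prime (by rw [pow_two]; exact y.2.1.2) y.2.2)
    have hgN : g ∈ N := by
      by_contra hgN
      have h1 : S ≠ g • S := by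
        intro h
        apply hgN
        have h2 : g • S = S := h.symm
        rw [hN]
        exact Sylow.smul_eq_iff_mem_normalizer.1 h2
      have h2 := hti _ _ h1
      have h3 : y.1 ∈ (S : Subgroup L) ⊓ (g • S : Sylow 2 L) := by
        refine ⟨y.2.1.1, ?_⟩
        refine ⟨x.1, x.2.1.1, ?_⟩
        exact hg
      rw [h2, mem_bot] at h3
      exact y.2.2 h3
    exact ⟨⟨g, hgN⟩, Subtype.ext hg⟩
  have hne : Nonempty Y := by
    have : 0 < Nat.card Y := by omega
    exact (Nat.card_pos_iff.1 this).1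
  obtain ⟨y⟩ := hne
  have h1 := MulAction.index_stabilizer_of_transitive N y
  rw [hYc] at h1
  have h2 : 3 ∣ Nat.card N := h1 ▸ (MulAction.stabilizer N y).index_dvd_card
  exact h2.trans N.card_subgroup_dvd_card

/-- A simple group satisfying `TCon` with `|Ω₁(S)| = 4` has elementary Sylow 2-subgroups or is `U₃(4)`. -/
theorem exists_u34 (hBen : Ben L) (hT : TCon L)
    (S : Sylow 2 L) (h4 : (invo L (S : Subgroup L)).ncard = 4) :
    (∀ s ∈ S, s * s = 1) ∨ ∃ Z : Subgroup L, U34Data ⊤ (S : Subgroup L) Z := by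
  haveI : Fact (Nat.Prime 2) := ⟨Nat.prime_two⟩
  rcases hT.alt with h | hb
  · exact Or.inl (h S)
  obtain ⟨H, hH⟩ := hb.se
  rcases hBen H hH with ⟨F, _, _, _, -, ⟨e⟩⟩ | hsz | ⟨F, _, _, q, hF, hq, hq4, ⟨e⟩⟩
  · left
    intro s hs
    obtain ⟨k, hk⟩ := S.2 ⟨s, hs⟩
    have hk' : s ^ 2 ^ k = 1 := congrArg Subtype.val hk
    exact Cfsg.Agent.WeakTI.PslTwo.mul_self e hk'
  · exact absurd hsz (fun h => not_suzuki (three_dvd hT hb.ti S h4) h)
  · right
    -- `q` is a power of two
    obtain ⟨p, hp⟩ := CharP.exists F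
    have hpp : p.Prime := CharP.char_is_prime F p
    obtain ⟨k, -, hk⟩ := FiniteField.card F p
    have hp2 : p = 2 := by
      have h1 : 2 ∣ p ^ (k : ℕ) := by
        rw [← hk, hF]
        exact dvd_pow hq.two_dvd two_ne_zero
      exact ((Nat.prime_dvd_prime_iff_eq Nat.prime_two hpp).1
        (Nat.prime_two.dvd_of_dvd_pow h1)).symm
    subst hp2
    obtain ⟨n, -, hn⟩ : ∃ n ≤ (k : ℕ), q = 2 ^ n := by
      refine (Nat.dvd_prime_pow Nat.prime_two).1 ?_
      rw [← hk, hF]
      exact dvd_pow_self q two_ne_zero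
    subst hn
    have hn1 : 1 ≤ n := by
      by_contra h
      have h0 : n = 0 := by omega
      subst h0
      norm_num at hq4
    have hF' : Nat.card F = (2 ^ n) ^ 2 := by rw [Nat.card_eq_fintype_card, hF]
    obtain ⟨h2, σ, hinv, hsig, -, he⟩ := exists_heis_equiv F hn1 hF'
    have : Finite (Cfsg.PSU 3 F (2 ^ n)) := Finite.of_equiv _ e.toEquiv
    set S' : Sylow 2 (Cfsg.PSU 3 F (2 ^ n)) :=
      S.mapSurjective (f := (e : L →* Cfsg.PSU 3 F (2 ^ n))) e.surjective with hS'
    obtain ⟨e2⟩ := he S'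
    have hq1 : 1 < 2 ^ n := Nat.one_lt_two_pow (by omega)
    -- the number of elements of order at most two
    have hcard : (invo L (S : Subgroup L)).ncard = 2 ^ n := by
      rw [← HermHeis.card_center hq1 hsig hF']
      have h5 : (invo L (S : Subgroup L)).ncard = Nat.card (invo L (S : Subgroup L)) := rfl
      rw [h5]
      have hmem : ∀ x : HermHeis.Heis σ, x ∈ center (HermHeis.Heis σ) ↔ x * x = 1 := by
        intro x
        rw [HermHeis.mem_center_iff hq1 hsig hF', HermHeis.mul_self_eq_one_iff]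
      refine (Nat.card_congr (Equiv.ofBijective
        (fun x : center (HermHeis.Heis σ) => (⟨e.symm ((e2 x.1 : S') : Cfsg.PSU 3 F (2 ^ n)), ?_, ?_⟩ :
          invo L (S : Subgroup L))) ⟨?_, ?_⟩)).symm
      · have h6 : ((e2 x.1 : S') : Cfsg.PSU 3 F (2 ^ n)) ∈ (S : Subgroup L).map (e : L →* Cfsg.PSU 3 F (2 ^ n)) :=
          (e2 x.1).2
        obtain ⟨s, hs, hse⟩ := h6
        rw [← hse]
        change e.symm (e s) ∈ (S : Subgroup L)
        rw [MulEquiv.symm_apply_apply]
        exact hs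
      · change e.symm ((e2 x.1 : S') : Cfsg.PSU 3 F (2 ^ n)) * e.symm ((e2 x.1 : S') : Cfsg.PSU 3 F (2 ^ n)) = 1
        rw [← map_mul, ← Subgroup.coe_mul, ← map_mul, (hmem x.1).1 x.2, map_one, OneMemClass.coe_one, map_one]
      · rintro ⟨x, hx⟩ ⟨y, hy⟩ hxy
        have h6 := Subtype.mk.inj hxy
        have h7 := e2.injective (Subtype.ext (e.symm.injective h6))
        exact Subtype.ext h7
      · rintro ⟨s, hs, hs2⟩
        have h6 : e s ∈ (S' : Subgroup (Cfsg.PSU 3 F (2 ^ n))) := ⟨s, hs, rfl⟩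
        have h7 : e2.symm ⟨e s, h6⟩ ∈ center (HermHeis.Heis σ) := by
          rw [hmem, ← map_mul]
          have : (⟨e s, h6⟩ : S') * ⟨e s, h6⟩ = 1 := by
            apply Subtype.ext
            change e s * e s = 1
            rw [← map_mul, hs2, map_one]
          rw [this, map_one]
        refine ⟨⟨_, h7⟩, ?_⟩
        apply Subtype.ext
        change e.symm ((e2 (e2.symm ⟨e s, h6⟩) : S') : Cfsg.PSU 3 F (2 ^ n)) = s
        rw [MulEquiv.apply_symm_apply]
        exact e.symm_apply_apply s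
    rw [h4] at hcard
    have hn2 : n = 2 := by
      have : 2 ^ 2 = 2 ^ n := by rw [← hcard]; norm_num
      exact (Nat.pow_right_injective (le_refl 2) this).symm
    subst hn2
    exact exists_data (F := F) (by rw [hF]; norm_num) e S

end Cfsg.Agent.TwoFusion.GoldJIso
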