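import Mathlib
import Cfsg.Agent.TwoFusion.GoldNorm
import Cfsg.Agent.TwoFusion.GoldJCentre
import Cfsg.Agent.TwoFusion.GoldJIso
import Cfsg.Agent.SignalizersComponents.BalanceAux

/-!
# Case (J) of Goldschmidt's theorem: the local structure

`Loc 𝒜 P x L B`: `X` has trivial odd core, the elements of the family in the Sylow subgroup `P` are `B × ⟨x⟩`,
central in `P`, `L` is a component containing `B` and centralized by `x`.  Then `L` is normal with trivial centre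
and `P ∩ L = B` or `L ≅ U₃(4)`.
-/

set_option autoImplicit false
set_option linter.style.haveILetI false

namespace Cfsg.Agent.TwoFusion.GoldJLocal

open Subgroup
open Cfsg.Agent.TwoFusion.ClosedFam Cfsg.Agent.TwoFusion.Gold Cfsg.Agent.TwoFusion.GoldU34
open Cfsg.Agent.TwoFusion.GoldJBasic Cfsg.Agent.TwoFusion.GoldJCentre Cfsg.Agent.TwoFusion.GoldJIso

universe u

variable {X : Type u} [Group X] {𝒜 : Set X}

/-- The local situation of case (J). -/
structure Loc (𝒜 : Set X) (P : Sylow 2 X) (x : X) (L B : Subgroup X) : Prop where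
  fam : IsElemFam 𝒜
  core : Cfsg.oddCore X = ⊥
  T : TProp (↥L ⧸ center ↥L)
  ben : Ben (↥L ⧸ center ↥L)
  cen : ∀ a ∈ 𝒜, a ∈ P → ∀ s ∈ P, s * a = a * s
  comp : Cfsg.IsComponent L
  x_mem : x ∈ 𝒜
  x_ne : x ≠ 1
  x_cen : ∀ y : X, y * x = x * y
  B_fam : ∀ b ∈ B, b ∈ 𝒜
  B_P : ∀ b ∈ B, b ∈ P
  B_L : B ≤ L
  B_card : Nat.card B = 4
  x_not : x ∉ B
  split : ∀ a ∈ 𝒜, a ∈ P → ∃ b ∈ B, a = b ∨ a = b * x
  cent : ∀ a ∈ 𝒜, a ∈ P → (∀ l ∈ L, a * l = l * a) → a = 1 ∨ a = x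

namespace Loc

variable {P : Sylow 2 X} {x : X} {L B : Subgroup X} (h : Loc 𝒜 P x L B)

include h

/-- An element of `B` centralizing `L` is trivial. -/
theorem eq_one {b : X} (hb : b ∈ B) (hc : ∀ l ∈ L, b * l = l * b) : b = 1 := by
  rcases h.cent b (h.B_fam b hb) (h.B_P b hb) hc with h1 | h1
  · exact h1
  · exact absurd (h1 ▸ hb) h.x_not

theorem exists_ne : ∃ b ∈ B, b ≠ 1 := by
  by_contra hcon
  push Not at hcon
  have : B = ⊥ := by
    rw [eq_bot_iff]; intro b hb; rw [mem_bot]; exact hcon b hb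
  have h4 := h.B_card
  rw [this, card_bot] at h4
  omega

variable [Finite X]

/-- `L` is normal. -/
theorem normal : L.Normal := by
  classical
  haveI : Fact (Nat.Prime 2) := ⟨Nat.prime_two⟩
  rw [← normalizer_eq_top_iff, eq_top_iff]
  intro g _
  by_contra hg
  have hcomm : ∀ l ∈ L, ∀ m ∈ L, (g * l * g⁻¹) * m = m * (g * l * g⁻¹) := by
    intro l hl m hm
    have h1 := Cfsg.Agent.S1270.commute_conj h.comp (g := g) (h := 1) (by simpa using hg) hl hm
    simpa using h1.eq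
  obtain ⟨b, hb, hb1⟩ := h.exists_ne
  set L' := L.map (MulAut.conj g).toMonoidHom with hL'
  have hcomp := Cfsg.Agent.S1270.component_conj h.comp g
  obtain ⟨T, hT⟩ := exists_sylow_subgroupOf P hcomp.1
  have hc𝒜 : g * b * g⁻¹ ∈ 𝒜 := h.fam.conj_mem b (h.B_fam b hb) g
  have hcL : g * b * g⁻¹ ∈ L' := ⟨b, h.B_L hb, rfl⟩
  -- conjugate into `P`
  have hp : IsPGroup 2 (zpowers (⟨g * b * g⁻¹, hcL⟩ : L')) := by
    have h1 := h.fam.isPGroup_zpowers hc𝒜
    have h2 : (zpowers (⟨g * b * g⁻¹, hcL⟩ : L')).map L'.subtype = zpowers (g * b * g⁻¹) := by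
      rw [MonoidHom.map_zpowers]; rfl
    have h3 := h1.comap_of_injective L'.subtype L'.subtype_injective
    refine h3.to_le ?_
    rw [← map_le_iff_le_comap, h2]
  obtain ⟨Q, hQ⟩ := hp.exists_le_sylow
  obtain ⟨k, hk⟩ := MulAction.exists_smul_eq L' Q T
  have h1 : k * ⟨g * b * g⁻¹, hcL⟩ * k⁻¹ ∈ (T : Subgroup L') := by
    rw [← hk]
    exact ⟨_, hQ (mem_zpowers _), rfl⟩
  rw [hT, mem_subgroupOf] at h1
  have h2 : (k : X) * (g * b * g⁻¹) * (k : X)⁻¹ ∈ P := h1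
  have h3 : (k : X) * (g * b * g⁻¹) * (k : X)⁻¹ ∈ L' := (k * ⟨g * b * g⁻¹, hcL⟩ * k⁻¹).2
  have h4 : (k : X) * (g * b * g⁻¹) * (k : X)⁻¹ ∈ 𝒜 := h.fam.conj_mem _ hc𝒜 _
  have h5 : ∀ l ∈ L, (k : X) * (g * b * g⁻¹) * (k : X)⁻¹ * l = l * ((k : X) * (g * b * g⁻¹) * (k : X)⁻¹) := by
    obtain ⟨m, hm, e⟩ := h3
    have e' : g * m * g⁻¹ = (k : X) * (g * b * g⁻¹) * (k : X)⁻¹ := e
    intro l hl
    rw [← e']
    exact hcomm m hm l hl
  -- `b` would be trivial or `x`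
  have key : ∀ y : X, (∀ z : X, z * y = y * z) → (k : X) * (g * b * g⁻¹) * (k : X)⁻¹ = y → b = y := by
    intro y hy e
    have e2 : b = ((k : X) * g)⁻¹ * y * ((k : X) * g) := by rw [← e]; group
    rw [e2, mul_assoc, ← hy ((k : X) * g), inv_mul_cancel_left]
  rcases h.cent _ h4 h2 h5 with h6 | h6
  · exact hb1 (key 1 (fun z => by rw [mul_one, one_mul]) h6)
  · exact h.x_not ((key x h.x_cen h6) ▸ hb)

/-- The centre of `L` is a 2-group. -/
theorem center_isPGroup : IsPGroup 2 (center ↥L) := by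
  haveI : Fact (Nat.Prime 2) := ⟨Nat.prime_two⟩
  have h1 := Cfsg.Agent.SignalizersComponents.BalanceAux.center_component_le_pCore 2 h.core h.comp
  have h2 : (center ↥L).map L.subtype ≤ Cfsg.pCore 2 X := by
    rintro _ ⟨z, hz, rfl⟩
    have h2 : (z : X) ∈ centralizer (L : Set X) := by
      rw [mem_centralizer_iff]
      intro l hl
      exact congrArg Subtype.val (mem_center_iff.1 hz ⟨l, hl⟩)
    exact h1 ⟨z.2, h2⟩
  have h3 := (Cfsg.Agent.Lib.Cores.pCore_isPGroup (G := X) 2).to_le h2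
  have h4 := h3.comap_of_injective L.subtype L.subtype_injective
  rwa [comap_map_eq_self_of_injective L.subtype_injective] at h4

/-- The family in `L / Z(L)`. -/
theorem tcon : TCon (↥L ⧸ center ↥L) := by
  have h1 : IsElemFam ((QuotientGroup.mk' (center ↥L)) '' {l : L | (l : X) ∈ 𝒜}) :=
    (h.fam.restrict L).image (QuotientGroup.mk'_surjective _)
  refine h.T _ h1 ?_
  obtain ⟨b, hb, hb1⟩ := h.exists_ne
  refine ⟨_, ⟨⟨b, h.B_L hb⟩, h.B_fam b hb, rfl⟩, ?_⟩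
  intro e
  rw [QuotientGroup.mk'_apply, QuotientGroup.eq_one_iff, mem_center_iff] at e
  apply hb1
  apply h.eq_one hb
  intro l hl
  exact (congrArg Subtype.val (e ⟨l, hl⟩)).symm

/-- The structure of `L`. -/
theorem main : center ↥L = ⊥ ∧ ((P : Subgroup X) ⊓ L = B ∨ U34Data L ((P : Subgroup X) ⊓ L) B) := by
  classical
  haveI : Fact (Nat.Prime 2) := ⟨Nat.prime_two⟩
  set f := QuotientGroup.mk' (center ↥L) with hf
  have hfs : Function.Surjective f := QuotientGroup.mk'_surjective _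
  have hker : f.ker = center ↥L := QuotientGroup.ker_mk' _
  have hZ2 := h.center_isPGroup
  obtain ⟨T, hT⟩ := exists_sylow_subgroupOf P h.comp.1
  have hmemT : ∀ l : L, l ∈ (T : Subgroup L) ↔ (l : X) ∈ P := by
    intro l; rw [hT, mem_subgroupOf]; rfl
  have hZT : center ↥L ≤ (T : Subgroup L) := le_sylow_of_normal T hZ2
  have hperf : _root_.commutator ↥L = ⊤ := h.comp.2.1.commutator_eq_top
  have hTmem : ∀ y, f y ∈ (T : Subgroup L).map f → y ∈ (T : Subgroup L) := by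
    rintro y ⟨t, ht, e⟩
    have h1 : t⁻¹ * y ∈ f.ker := by rw [MonoidHom.mem_ker, map_mul, map_inv, e, inv_mul_cancel]
    rw [hker] at h1
    have h2 := mul_mem ht (hZT h1)
    rwa [mul_inv_cancel_left] at h2
  set Tb : Sylow 2 (↥L ⧸ center ↥L) := T.mapSurjective hfs with hTb
  have hTbc : (Tb : Subgroup (↥L ⧸ center ↥L)) = (T : Subgroup L).map f := rfl
  have htc := h.tcon
  -- injectivity on `B`
  have hBc : ∀ b (hb : b ∈ B), (⟨b, h.B_L hb⟩ : L) ∈ center ↥L → b = 1 := by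
    intro b hb hbc
    apply h.eq_one hb
    intro l hl
    exact (congrArg Subtype.val (mem_center_iff.1 hbc ⟨l, hl⟩)).symm
  have hxc : ∀ hx : x ∈ L, (⟨x, hx⟩ : L) ∈ center ↥L := by
    intro hx
    rw [mem_center_iff]
    intro l
    exact Subtype.ext (h.x_cen l)
  -- elements of order at most two
  have hinv : ∀ s ∈ (T : Subgroup L).map f, s * s = 1 → ∃ b, ∃ hb : b ∈ B, f ⟨b, h.B_L hb⟩ = s := by
    intro s hs hs2
    by_cases hs1 : s = 1
    · exact ⟨1, B.one_mem, by rw [hs1]; exact map_one f⟩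
    obtain ⟨b, hb, hb1⟩ := h.exists_ne
    have hfb1 : f ⟨b, h.B_L hb⟩ ≠ 1 := by
      intro e
      rw [← MonoidHom.mem_ker, hker] at e
      exact hb1 (hBc b hb e)
    have hfb2 : f ⟨b, h.B_L hb⟩ ^ 2 = 1 := by
      rw [← map_pow]
      have : (⟨b, h.B_L hb⟩ : L) ^ 2 = 1 := Subtype.ext (by
        change b ^ 2 = 1
        rw [pow_two]; exact h.fam.sq b (h.B_fam b hb))
      rw [this, map_one]
    obtain ⟨g, hg⟩ := htc.conj _ s (orderOf_eq_prime hfb2 hfb1)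
      (orderOf_eq_prime (by rw [pow_two]; exact hs2) hs1)
    obtain ⟨g, rfl⟩ := hfs g
    set l : L := g * ⟨b, h.B_L hb⟩ * g⁻¹ with hl
    have hls : f l = s := by rw [← hg, hl, map_mul, map_mul, map_inv]
    have hl𝒜 : (l : X) ∈ 𝒜 := h.fam.conj_mem b (h.B_fam b hb) g
    have hlT : l ∈ (T : Subgroup L) := hTmem l (by rw [hls]; exact hs)
    obtain ⟨b', hb', e⟩ := h.split l hl𝒜 ((hmemT l).1 hlT)
    refine ⟨b', hb', ?_⟩
    rcases e with e | e
    · rw [← hls]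
      congr 1
      exact Subtype.ext e.symm
    · have hxL : x ∈ L := by
        have : x = b'⁻¹ * l := by rw [e]; group
        rw [this]
        exact mul_mem (inv_mem (h.B_L hb')) l.2
      have e2 : l = ⟨b', h.B_L hb'⟩ * ⟨x, hxL⟩ := Subtype.ext e
      have e3 : f ⟨x, hxL⟩ = 1 := by
        rw [← MonoidHom.mem_ker, hker]; exact hxc hxL
      rw [← hls, e2, map_mul, e3, mul_one]
  have h4 : (invo (↥L ⧸ center ↥L) (Tb : Subgroup (↥L ⧸ center ↥L))).ncard = 4 := by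
    have e1 : (invo (↥L ⧸ center ↥L) (Tb : Subgroup (↥L ⧸ center ↥L))).ncard =
        Nat.card (invo (↥L ⧸ center ↥L) (Tb : Subgroup (↥L ⧸ center ↥L))) := rfl
    rw [e1, ← h.B_card]
    refine (Nat.card_congr (Equiv.ofBijective (fun b : B => (⟨f ⟨b, h.B_L b.2⟩, ?_, ?_⟩ :
      invo (↥L ⧸ center ↥L) (Tb : Subgroup (↥L ⧸ center ↥L)))) ⟨?_, ?_⟩)).symm
    · exact ⟨⟨b, h.B_L b.2⟩, (hmemT _).2 (h.B_P b b.2), rfl⟩
    · change f ⟨b, h.B_L b.2⟩ * f ⟨b, h.B_L b.2⟩ = 1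
      rw [← map_mul]
      have : (⟨(b : X), h.B_L b.2⟩ : L) * ⟨b, h.B_L b.2⟩ = 1 :=
        Subtype.ext (h.fam.sq b (h.B_fam b b.2))
      rw [this, map_one]
    · rintro ⟨b, hb⟩ ⟨c, hc⟩ e
      have e1 : f ⟨b, h.B_L hb⟩ = f ⟨c, h.B_L hc⟩ := congrArg Subtype.val e
      have e2 : (⟨b⁻¹ * c, h.B_L (B.mul_mem (B.inv_mem hb) hc)⟩ : L) ∈ center ↥L := by
        rw [← hker, MonoidHom.mem_ker]
        have : (⟨b⁻¹ * c, h.B_L (B.mul_mem (B.inv_mem hb) hc)⟩ : L) =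
          (⟨b, h.B_L hb⟩ : L)⁻¹ * ⟨c, h.B_L hc⟩ := rfl
        rw [this, map_mul, map_inv, e1, inv_mul_cancel]
      have e3 := hBc _ (B.mul_mem (B.inv_mem hb) hc) e2
      exact Subtype.ext (inv_mul_eq_one.1 e3)
    · rintro ⟨s, hs, hs2⟩
      obtain ⟨b, hb, e⟩ := hinv s hs hs2
      exact ⟨⟨b, hb⟩, Subtype.ext e⟩
  -- elements of `T` mapping to involutions are central in `T`
  have hcenT : ∀ m ∈ (T : Subgroup L), f m * f m = 1 → ∀ t ∈ (T : Subgroup L), m * t = t * m := by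
    intro m hm hm2 t ht
    obtain ⟨b, hb, e⟩ := hinv (f m) ⟨m, hm, rfl⟩ hm2
    have h1 : (⟨b, h.B_L hb⟩ : L)⁻¹ * m ∈ center ↥L := by
      rw [← hker, MonoidHom.mem_ker, map_mul, map_inv, e, inv_mul_cancel]
    have h2 : (⟨b, h.B_L hb⟩ : L) * t = t * ⟨b, h.B_L hb⟩ :=
      Subtype.ext (h.cen b (h.B_fam b hb) (h.B_P b hb) t ((hmemT t).1 ht)).symm
    have h3 := mem_center_iff.1 h1 t
    calc m * t = (⟨b, h.B_L hb⟩ : L) * (((⟨b, h.B_L hb⟩ : L)⁻¹ * m) * t) := by group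
      _ = (⟨b, h.B_L hb⟩ : L) * (t * ((⟨b, h.B_L hb⟩ : L)⁻¹ * m)) := by rw [h3]
      _ = ((⟨b, h.B_L hb⟩ : L) * t) * ((⟨b, h.B_L hb⟩ : L)⁻¹ * m) := by group
      _ = (t * (⟨b, h.B_L hb⟩ : L)) * ((⟨b, h.B_L hb⟩ : L)⁻¹ * m) := by rw [h2]
      _ = t * m := by group
  -- once the centre is trivial
  have hBeq : center ↥L = ⊥ → ∀ m ∈ (T : Subgroup L), f m * f m = 1 → (m : X) ∈ B := by
    intro hZ m hm hm2
    obtain ⟨b, hb, e⟩ := hinv (f m) ⟨m, hm, rfl⟩ hm2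
    have h1 : (⟨b, h.B_L hb⟩ : L)⁻¹ * m ∈ center ↥L := by
      rw [← hker, MonoidHom.mem_ker, map_mul, map_inv, e, inv_mul_cancel]
    rw [hZ, mem_bot, inv_mul_eq_one] at h1
    rw [← h1]; exact hb
  rcases exists_u34 h.ben htc Tb h4 with hel | ⟨Zb, hd⟩
  · have hZ : center ↥L = ⊥ := center_eq_bot_of_comm hperf T
      (fun a ha b hb => hcenT a ha (hel _ ⟨a, ha, rfl⟩) b hb) hZ2
    refine ⟨hZ, Or.inl ?_⟩
    apply le_antisymm
    · rintro y ⟨hyP, hyL⟩
      have hyT : (⟨y, hyL⟩ : L) ∈ (T : Subgroup L) := (hmemT _).2 hyP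
      exact hBeq hZ _ hyT (hel _ ⟨_, hyT, rfl⟩)
    · exact fun b hb => ⟨h.B_P b hb, h.B_L hb⟩
  · rw [hTbc] at hd
    have hZ : center ↥L = ⊥ := center_eq_bot_of_u34 hperf T hZ2 hd
      (fun m hm hmZ t ht => hcenT m hm (hd.sq_eq _ hmZ) t ht)
    refine ⟨hZ, Or.inr ?_⟩
    have hinj : Function.Injective f := by
      rw [← MonoidHom.ker_eq_bot_iff, hker, hZ]
    let e : L ≃* ↥L ⧸ center ↥L := MulEquiv.ofBijective f ⟨hinj, hfs⟩
    have hef : ∀ l, e.symm (f l) = l := fun l => e.symm_apply_apply l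
    have hd' := hd.map (L.subtype.comp e.symm.toMonoidHom)
      (L.subtype_injective.comp e.symm.injective)
    have e1 : (⊤ : Subgroup (↥L ⧸ center ↥L)).map (L.subtype.comp e.symm.toMonoidHom) = L := by
      ext y
      constructor
      · rintro ⟨z, -, rfl⟩
        exact (e.symm z).2
      · intro hy
        exact ⟨f ⟨y, hy⟩, mem_top _, congrArg Subtype.val (hef ⟨y, hy⟩)⟩
    have e2 : ((T : Subgroup L).map f).map (L.subtype.comp e.symm.toMonoidHom) = (P : Subgroup X) ⊓ L := by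
      ext y
      constructor
      · rintro ⟨_, ⟨t, ht, rfl⟩, rfl⟩
        have : (L.subtype.comp e.symm.toMonoidHom) (f t) = t := congrArg Subtype.val (hef t)
        rw [this]
        exact ⟨(hmemT t).1 ht, t.2⟩
      · rintro ⟨hyP, hyL⟩
        exact ⟨f ⟨y, hyL⟩, ⟨⟨y, hyL⟩, (hmemT _).2 hyP, rfl⟩, congrArg Subtype.val (hef ⟨y, hyL⟩)⟩
    have e3 : Zb.map (L.subtype.comp e.symm.toMonoidHom) = B := by
      ext y
      constructor
      · rintro ⟨z, hz, rfl⟩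
        obtain ⟨b, hb, hbz⟩ := hinv z (hd.Z_le hz) (hd.sq_eq z hz)
        have : (L.subtype.comp e.symm.toMonoidHom) z = b := by
          rw [← hbz]
          exact congrArg Subtype.val (hef ⟨b, h.B_L hb⟩)
        rw [this]; exact hb
      · intro hy
        refine ⟨f ⟨y, h.B_L hy⟩, ?_, congrArg Subtype.val (hef ⟨y, h.B_L hy⟩)⟩
        apply hd.inv _ ⟨⟨y, h.B_L hy⟩, (hmemT _).2 (h.B_P y hy), rfl⟩
        rw [← map_mul]
        have : (⟨y, h.B_L hy⟩ : L) * ⟨y, h.B_L hy⟩ = 1 := Subtype.ext (h.fam.sq y (h.B_fam y hy))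
        rw [this, map_one]
    rw [e1, e2, e3] at hd'
    exact hd'

/-- If the centre of `L` is trivial then all involutions of `L` are conjugate in `L`. -/
theorem conj (hZ : center ↥L = ⊥) {u v : X} (hu : u ∈ L) (hv : v ∈ L) (hu2 : u * u = 1) (hv2 : v * v = 1)
    (hu1 : u ≠ 1) (hv1 : v ≠ 1) : ∃ l ∈ L, l * u * l⁻¹ = v := by
  haveI : Fact (Nat.Prime 2) := ⟨Nat.prime_two⟩
  set f := QuotientGroup.mk' (center ↥L) with hf
  have hfs : Function.Surjective f := QuotientGroup.mk'_surjective _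
  have hinj : Function.Injective f := by
    rw [← MonoidHom.ker_eq_bot_iff, QuotientGroup.ker_mk', hZ]
  have key : ∀ w (hw : w ∈ L), w * w = 1 → w ≠ 1 → orderOf (f ⟨w, hw⟩) = 2 := by
    intro w hw hw2 hw1
    refine orderOf_eq_prime ?_ ?_
    · rw [← map_pow]
      have : (⟨w, hw⟩ : L) ^ 2 = 1 := Subtype.ext (by
        change w ^ 2 = 1
        rw [pow_two]; exact hw2)
      rw [this, map_one]
    · intro e
      apply hw1
      exact congrArg Subtype.val (hinj (e.trans (map_one f).symm))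
  obtain ⟨g, hg⟩ := h.tcon.conj _ _ (key u hu hu2 hu1) (key v hv hv2 hv1)
  obtain ⟨g, rfl⟩ := hfs g
  rw [← map_inv, ← map_mul, ← map_mul] at hg
  exact ⟨g, g.2, congrArg Subtype.val (hinj hg)⟩

end Loc

end Cfsg.Agent.TwoFusion.GoldJLocal
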