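import Mathlib
import Cfsg.Agent.TwoFusion.GoldJLocal

/-!
# Case (J) of Goldschmidt's theorem: a commutator lemma in the `U₃(4)` case

`Loc.comm_eq`: if `L ≅ U₃(4)`, `s, s' ∈ P` act on `T = P ∩ L` by `[T, s], [T, s'] ⊆ {1, z}` and `[s, s']` lies in
the family then `[s, s'] ∈ {1, x}`.
-/

set_option autoImplicit false
set_option linter.style.haveILetI false

namespace Cfsg.Agent.TwoFusion.GoldJLocal

open Subgroup
open Cfsg.Agent.TwoFusion.ClosedFam Cfsg.Agent.TwoFusion.Gold Cfsg.Agent.TwoFusion.GoldU34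
open Cfsg.Agent.TwoFusion.GoldJBasic

universe u

variable {X : Type u} [Group X] [Finite X] {𝒜 : Set X}

/-- An injective endomorphism of a finite subgroup is surjective. -/
theorem inv_conj_mem {T : Subgroup X} {g : X} (hg : ∀ t ∈ T, g * t * g⁻¹ ∈ T) :
    ∀ t ∈ T, g⁻¹ * t * g ∈ T := by
  have h1 : T.map (MulAut.conj g).toMonoidHom ≤ T := by
    rintro _ ⟨n, hn, rfl⟩
    exact hg n hn
  have h2 : T.map (MulAut.conj g).toMonoidHom = T := by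
    apply Subgroup.eq_of_le_of_card_ge h1
    exact (Nat.card_congr (T.equivMapOfInjective _ (MulAut.conj g).injective).toEquiv).le
  intro t ht
  have h3 : t ∈ T.map (MulAut.conj g).toMonoidHom := by rw [h2]; exact ht
  obtain ⟨m, hm, e⟩ := h3
  have e1 : g * m * g⁻¹ = t := e
  have e2 : g⁻¹ * t * g = m := by rw [← e1]; group
  rw [e2]; exact hm

namespace Loc

variable {P : Sylow 2 X} {x : X} {L B : Subgroup X} (h : Loc 𝒜 P x L B)

include h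

/-- The first step: `s = c b`, `c` commutes with the torus element `g` and `b ∈ B`. -/
theorem exists_factor (hd : U34Data L ((P : Subgroup X) ⊓ L) B) {g : X} (hgL : g ∈ L)
    (hgo : Odd (orderOf g)) (hgT : ∀ t ∈ (P : Subgroup X) ⊓ L, g * t * g⁻¹ ∈ (P : Subgroup X) ⊓ L)
    (hgB : ∀ b ∈ B, g * b * g⁻¹ ∈ B) {m : ℕ} (hm1 : ∀ b ∈ B, g ^ m * b = b * g ^ m)
    (hm2 : ∀ t ∈ (P : Subgroup X) ⊓ L, g ^ m * t = t * g ^ m → t ∈ B)
    {z : X} {s : X} (hs : s ∈ P) (hz : z ∈ B)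
    (h1 : ∀ t ∈ P, t ∈ L → t * s * t⁻¹ * s⁻¹ = 1 ∨ t * s * t⁻¹ * s⁻¹ = z) :
    ∃ c ∈ P, ∃ b ∈ B, s = c * b ∧ g * c = c * g := by
  classical
  haveI : Fact (Nat.Prime 2) := ⟨Nat.prime_two⟩
  set T := (P : Subgroup X) ⊓ L with hT
  have hLn := h.normal
  have hmemT : ∀ y, y ∈ T ↔ y ∈ P ∧ y ∈ L := fun y => Iff.rfl
  have hTp : IsPGroup 2 T := P.2.to_le inf_le_left
  have hBc : ∀ b ∈ B, ∀ y ∈ P, y * b = b * y := fun b hb y hy =>
    h.cen b (h.B_fam b hb) (h.B_P b hb) y hy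
  have hsT : ∀ y ∈ P, ∀ t ∈ T, y * t * y⁻¹ ∈ T := by
    intro y hy t ht
    have hyP : y ∈ (P : Subgroup X) := hy
    have htP : t ∈ (P : Subgroup X) := ht.1
    rw [hmemT]
    exact ⟨mul_mem (mul_mem hyP htP) (inv_mem hyP), hLn.conj_mem t ht.2 y⟩
  have hsB : ∀ t ∈ T, t * s * t⁻¹ * s⁻¹ ∈ B := by
    intro t ht
    rcases h1 t ht.1 ht.2 with e | e
    · rw [e]; exact one_mem _
    · rw [e]; exact hz
  -- `s⁻¹ (g s g⁻¹) ∈ T`
  have hcomm : s⁻¹ * (g * s * g⁻¹) ∈ T := by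
    apply hd.norm
    · have e : s⁻¹ * (g * s * g⁻¹) = (s⁻¹ * g * s⁻¹⁻¹) * g⁻¹ := by group
      rw [e]
      exact mul_mem (hLn.conj_mem g hgL s⁻¹) (inv_mem hgL)
    · intro t ht
      have e : s⁻¹ * (g * s * g⁻¹) * t * (s⁻¹ * (g * s * g⁻¹))⁻¹ =
          s⁻¹ * (g * (s * (g⁻¹ * t * g) * s⁻¹) * g⁻¹) * s⁻¹⁻¹ := by group
      rw [e]
      exact hsT _ (inv_mem hs) _ (hgT _ (hsT _ hs _ (inv_conj_mem hgT t ht)))
    · intro t ht
      set k := g * s * g⁻¹ with hk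
      -- `[k, t] ∈ B`
      have hkt : k * t * k⁻¹ * t⁻¹ ∈ B := by
        set t' := g⁻¹ * t * g with ht'
        have ht'T : t' ∈ T := inv_conj_mem hgT t ht
        have e : k * t * k⁻¹ * t⁻¹ = g * (s * t' * s⁻¹ * t'⁻¹) * g⁻¹ := by
          rw [hk, ht']; group
        rw [e]
        apply hgB
        have e2 : s * t' * s⁻¹ * t'⁻¹ = (t' * s * t'⁻¹ * s⁻¹)⁻¹ := by group
        rw [e2]
        exact inv_mem (hsB t' ht'T)
      have e : s⁻¹ * k * t * (s⁻¹ * k)⁻¹ * t⁻¹ = (s⁻¹ * (k * t * k⁻¹ * t⁻¹)) * (t * s * t⁻¹) := by group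
      rw [e, hBc _ hkt _ (inv_mem hs)]
      have e2 : k * t * k⁻¹ * t⁻¹ * s⁻¹ * (t * s * t⁻¹) =
          (k * t * k⁻¹ * t⁻¹) * (s⁻¹ * (t * s * t⁻¹ * s⁻¹) * s) := by group
      rw [e2, hBc _ (hsB t ht) _ (inv_mem hs), inv_mul_cancel_right]
      exact mul_mem hkt (hsB t ht)
  obtain ⟨c, hc, hgc⟩ := exists_fixed_odd g hgo T hTp hgT s hcomm
  have hcP : c ∈ P := by
    have := mul_mem hs hc.1
    rwa [mul_inv_cancel_left] at this
  set t₁ := s⁻¹ * c with ht₁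
  -- `[c, t] ∈ B`
  have hcB : ∀ t ∈ T, c * t * c⁻¹ * t⁻¹ ∈ B := by
    intro t ht
    have e : c * t * c⁻¹ * t⁻¹ = s * (t₁ * t * t₁⁻¹ * t⁻¹) * (t * s⁻¹ * t⁻¹) := by
      rw [ht₁]; group
    rw [e, hBc _ (hd.comm_mem _ hc _ ht) _ hs]
    have e2 : t₁ * t * t₁⁻¹ * t⁻¹ * s * (t * s⁻¹ * t⁻¹) =
        (t₁ * t * t₁⁻¹ * t⁻¹) * (t * s * t⁻¹ * s⁻¹)⁻¹ * (s * t * s⁻¹ * t⁻¹ * (t * s * t⁻¹ * s⁻¹)) := by
      group
    have e3 : s * t * s⁻¹ * t⁻¹ = (t * s * t⁻¹ * s⁻¹)⁻¹ := by group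
    have e4 : t₁ * t * t₁⁻¹ * t⁻¹ * s * (t * s⁻¹ * t⁻¹) =
        (t₁ * t * t₁⁻¹ * t⁻¹) * (s * t * s⁻¹ * t⁻¹) := by group
    rw [e4, e3]
    exact mul_mem (hd.comm_mem _ hc _ ht) (inv_mem (hsB t ht))
  -- `c` centralizes `T`
  have hcT : ∀ t ∈ T, c * t = t * c := by
    set k := g ^ m with hk
    have hko : Odd (orderOf k) := hgo.of_dvd_nat (orderOf_pow_dvd m)
    have hkc : k * c = c * k := ((show Commute g c from hgc).pow_left m).eq
    have hpow : ∀ n : ℕ, ∀ t ∈ T, g ^ n * t * (g ^ n)⁻¹ ∈ T := by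
      intro n
      induction n with
      | zero => intro t ht; simpa using ht
      | succ n ih =>
        intro t ht
        have e : g ^ (n + 1) * t * (g ^ (n + 1))⁻¹ = g * (g ^ n * t * (g ^ n)⁻¹) * g⁻¹ := by
          rw [pow_succ']; group
        rw [e]
        exact hgT _ (ih t ht)
    have hkT : ∀ t ∈ T, k * t * k⁻¹ ∈ T := hpow m
    let K : Subgroup X :=
      { carrier := {t | t ∈ T ∧ c * t = t * c}
        one_mem' := ⟨one_mem _, by simp⟩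
        mul_mem' := by
          rintro a b ⟨ha, ha'⟩ ⟨hb, hb'⟩
          refine ⟨mul_mem ha hb, ?_⟩
          rw [← mul_assoc, ha', mul_assoc, hb', mul_assoc]
        inv_mem' := by
          rintro a ⟨ha, ha'⟩
          refine ⟨inv_mem ha, ?_⟩
          exact ((show Commute c a from ha').inv_right).eq }
    have hmemK : ∀ y, y ∈ K ↔ y ∈ T ∧ c * y = y * c := fun y => Iff.rfl
    have hKp : IsPGroup 2 K := hTp.to_le (fun y hy => hy.1)
    intro t ht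
    have hkK : ∀ n ∈ K, k * n * k⁻¹ ∈ K := by
      rintro n ⟨hn, hn'⟩
      refine ⟨hkT n hn, ?_⟩
      have hkc' : c * k⁻¹ = k⁻¹ * c := ((show Commute k c from hkc).inv_left).eq.symm
      calc c * (k * n * k⁻¹) = (c * k) * n * k⁻¹ := by group
        _ = k * (c * n) * k⁻¹ := by rw [← hkc]; group
        _ = k * n * (c * k⁻¹) := by rw [hn']; group
        _ = k * n * k⁻¹ * c := by rw [hkc']; group
    have hx : t⁻¹ * (k * t * k⁻¹) ∈ K := by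
      refine ⟨mul_mem (inv_mem ht) (hkT t ht), ?_⟩
      set κ := c * t * c⁻¹ * t⁻¹ with hκ
      have hκB : κ ∈ B := hcB t ht
      have e1 : c * t = κ * t * c := by rw [hκ]; group
      have e2 : c * (k * t * k⁻¹) = κ * (k * t * k⁻¹) * c := by
        have hkc' : c * k⁻¹ = k⁻¹ * c := ((show Commute k c from hkc).inv_left).eq.symm
        calc c * (k * t * k⁻¹) = (c * k) * t * k⁻¹ := by group
          _ = k * (c * t) * k⁻¹ := by rw [← hkc]; group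
          _ = (k * κ) * t * (c * k⁻¹) := by rw [e1]; group
          _ = (κ * k) * t * (k⁻¹ * c) := by rw [hm1 κ hκB, hkc']
          _ = _ := by group
      have e3 : c * t⁻¹ = κ⁻¹ * t⁻¹ * c := by
        have h3 := hBc κ hκB t ht.1
        -- `c t⁻¹ = (t c⁻¹)⁻¹`, `t c⁻¹ = c⁻¹ κ t`
        have e4 : t * c⁻¹ = c⁻¹ * (κ * t) := by rw [hκ]; group
        have e5 : c * t⁻¹ = (t * c⁻¹)⁻¹ := by group
        rw [e5, e4, ← h3]; group
      have h4 := hBc κ hκB (k * t * k⁻¹) (hkT t ht).1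
      have h5 := hBc κ hκB t⁻¹ (inv_mem ht).1
      calc c * (t⁻¹ * (k * t * k⁻¹)) = (c * t⁻¹) * (k * t * k⁻¹) := by group
        _ = κ⁻¹ * t⁻¹ * (c * (k * t * k⁻¹)) := by rw [e3]; group
        _ = κ⁻¹ * (t⁻¹ * κ) * (k * t * k⁻¹) * c := by rw [e2]; group
        _ = κ⁻¹ * (κ * t⁻¹) * (k * t * k⁻¹) * c := by rw [h5]
        _ = t⁻¹ * (k * t * k⁻¹) * c := by group
    obtain ⟨y, hy, hky⟩ := exists_fixed_odd k hko K hKp hkK t hx
    have hyT : y ∈ T := by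
      have := mul_mem ht hy.1
      rwa [mul_inv_cancel_left] at this
    have hyB := hm2 y hyT hky
    have hyK : y ∈ K := ⟨hyT, hBc y hyB c hcP⟩
    have h3 := K.mul_mem hyK (K.inv_mem hy)
    have e : y * (t⁻¹ * y)⁻¹ = t := by group
    rw [e] at h3
    exact h3.2
  -- `t₁ ∈ B`
  have ht₁B : t₁ ∈ B := by
    by_contra hcon
    have hcon' : t₁⁻¹ ∉ B := fun h => hcon (by have := inv_mem h; rwa [inv_inv] at this)
    have h2 : ∀ w ∈ B, w = 1 ∨ w = z := by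
      intro w hw
      obtain ⟨u, hu, e⟩ := hd.surj t₁⁻¹ (inv_mem hc) hcon' w⁻¹ (inv_mem hw)
      have e2 : u * t₁⁻¹ * u⁻¹ * t₁ = w := by
        have : u * t₁⁻¹ * u⁻¹ * t₁ = (t₁⁻¹ * u * t₁⁻¹⁻¹ * u⁻¹)⁻¹ := by group
        rw [this, e, inv_inv]
      have e3 : u * s * u⁻¹ * s⁻¹ = w := by
        have e4 : s = c * t₁⁻¹ := by rw [ht₁]; group
        rw [e4]
        have h5 := hcT u hu
        have h6 := hcT (u * t₁⁻¹ * u⁻¹ * t₁) (mul_mem (mul_mem (mul_mem hu (inv_mem hc)) (inv_mem hu)) hc)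
        calc u * (c * t₁⁻¹) * u⁻¹ * (c * t₁⁻¹)⁻¹ = (u * c) * t₁⁻¹ * u⁻¹ * t₁ * c⁻¹ := by group
          _ = c * (u * t₁⁻¹ * u⁻¹ * t₁) * c⁻¹ := by rw [← h5]; group
          _ = (u * t₁⁻¹ * u⁻¹ * t₁) := by rw [h6]; group
          _ = w := e2
      rcases h1 u hu.1 hu.2 with e5 | e5
      · left; rw [← e3, e5]
      · right; rw [← e3, e5]
    have h3 : (Set.univ : Set B) ⊆ {1, ⟨z, hz⟩} := by
      rintro ⟨w, hw⟩ -
      rcases h2 w hw with e | e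
      · left; exact Subtype.ext e
      · right; exact Subtype.ext e
    have h4 := Set.ncard_le_ncard h3 (Set.toFinite _)
    rw [Set.ncard_univ, h.B_card] at h4
    have h5 : ({1, ⟨z, hz⟩} : Set B).ncard ≤ 2 := by
      refine (Set.ncard_insert_le _ _).trans ?_
      rw [Set.ncard_singleton]
    omega
  exact ⟨c, hcP, t₁⁻¹, inv_mem ht₁B, by rw [ht₁]; group, hgc⟩

/-- The commutator lemma. -/
theorem comm_eq (hd : U34Data L ((P : Subgroup X) ⊓ L) B) {z : X} (hz : z ∈ B) {s s' : X}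
    (hs : s ∈ P) (hs' : s' ∈ P)
    (h1 : ∀ t ∈ P, t ∈ L → t * s * t⁻¹ * s⁻¹ = 1 ∨ t * s * t⁻¹ * s⁻¹ = z)
    (h2 : ∀ t ∈ P, t ∈ L → t * s' * t⁻¹ * s'⁻¹ = 1 ∨ t * s' * t⁻¹ * s'⁻¹ = z)
    (hA : s * s' * s⁻¹ * s'⁻¹ ∈ 𝒜) : s * s' * s⁻¹ * s'⁻¹ = 1 ∨ s * s' * s⁻¹ * s'⁻¹ = x := by
  obtain ⟨g, hgL, hgo, hgT, hgB, hgfix, ⟨m, hm1, hm2⟩, -⟩ := hd.torus
  obtain ⟨c, hc, b, hb, rfl, hgc⟩ := h.exists_factor hd hgL hgo hgT hgB hm1 hm2 hs hz h1
  obtain ⟨c', hc', b', hb', rfl, hgc'⟩ := h.exists_factor hd hgL hgo hgT hgB hm1 hm2 hs' hz h2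
  have hBc : ∀ b ∈ B, ∀ y ∈ P, y * b = b * y := fun b hb y hy =>
    h.cen b (h.B_fam b hb) (h.B_P b hb) y hy
  have e : c * b * (c' * b') * (c * b)⁻¹ * (c' * b')⁻¹ = c * c' * c⁻¹ * c'⁻¹ := by
    have h3 := hBc b hb c' hc'
    have h4 := hBc b hb b' (h.B_P b' hb')
    have h5 := hBc b' hb' c⁻¹ (inv_mem hc)
    calc c * b * (c' * b') * (c * b)⁻¹ * (c' * b')⁻¹ = c * (b * c') * b' * b⁻¹ * c⁻¹ * b'⁻¹ * c'⁻¹ := by group
      _ = c * c' * (b * b') * b⁻¹ * c⁻¹ * b'⁻¹ * c'⁻¹ := by rw [← h3]; group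
      _ = c * c' * (b' * c⁻¹) * b'⁻¹ * c'⁻¹ := by rw [← h4]; group
      _ = c * c' * c⁻¹ * c'⁻¹ := by rw [← h5]; group
  rw [e] at hA ⊢
  have hwP : c * c' * c⁻¹ * c'⁻¹ ∈ P := mul_mem (mul_mem (mul_mem hc hc') (inv_mem hc)) (inv_mem hc')
  have hwg : g * (c * c' * c⁻¹ * c'⁻¹) = (c * c' * c⁻¹ * c'⁻¹) * g := by
    have i1 : Commute g c := hgc
    have i2 : Commute g c' := hgc'
    exact (((i1.mul_right i2).mul_right i1.inv_right).mul_right i2.inv_right).eq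
  obtain ⟨b₀, hb₀, e0⟩ := h.split _ hA hwP
  rcases e0 with e0 | e0
  · left
    rw [e0]
    rw [e0] at hwg
    exact hgfix b₀ hb₀ hwg
  · right
    rw [e0]
    rw [e0] at hwg
    have h3 : g * b₀ = b₀ * g := by
      have h4 := h.x_cen g
      have h5 : g * b₀ * x = b₀ * g * x := by
        calc g * b₀ * x = g * (b₀ * x) := by group
          _ = b₀ * x * g := hwg
          _ = b₀ * (x * g) := by group
          _ = b₀ * g * x := by rw [← h4]; group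
      exact mul_right_cancel h5
    rw [hgfix b₀ hb₀ h3, one_mul]

end Loc

end Cfsg.Agent.TwoFusion.GoldJLocal
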