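import Mathlib
import Cfsg.Prelude.Def_Local

/-!
# Case (J) of Goldschmidt's theorem: a subgroup of index two

`P` a Sylow 2-subgroup of `X`, `L` normal, `T = P ∩ L` a four-group, central in `P`, whose involutions are
`L`-conjugate: `T` is not contained in the intersection of the subgroups of index two of `P`.
-/

set_option autoImplicit false
set_option linter.style.haveILetI false

namespace Cfsg.Agent.TwoFusion.GoldJTwo

open Subgroup

/-- An element of odd order in `L ∩ N(P)` with prescribed action on `u ∈ P ∩ L`. -/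
theorem exists_odd_conj {X : Type*} [Group X] [Finite X] (P : Sylow 2 X) {L : Subgroup X} (hLn : L.Normal)
    (hcen : ∀ t ∈ P, t ∈ L → ∀ s ∈ P, s * t = t * s) {u v l : X} (hu : u ∈ P) (huL : u ∈ L) (hv : v ∈ P)
    (hvL : v ∈ L) (hl : l ∈ L) (hlu : l * u * l⁻¹ = v) :
    ∃ g ∈ L, Odd (orderOf g) ∧ g ∈ normalizer ((P : Subgroup X) : Set X) ∧ g * u * g⁻¹ = v := by
  classical
  haveI : Fact (Nat.Prime 2) := ⟨Nat.prime_two⟩
  set Y : Subgroup X := L ⊔ (P : Subgroup X) with hY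
  have hLY : L ≤ Y := le_sup_left
  have hPY : (P : Subgroup X) ≤ Y := le_sup_right
  let P' : Sylow 2 Y := P.subtype hPY
  have hP' : ∀ x : Y, x ∈ (P' : Subgroup Y) ↔ (x : X) ∈ (P : Subgroup X) := fun x => by
    change x ∈ (P : Subgroup X).subgroupOf Y ↔ _
    rw [mem_subgroupOf]
  obtain ⟨n, hn, hnu⟩ := Sylow.conj_eq_normalizer_conj_of_mem_centralizer P' (⟨u, hLY huL⟩ : Y) (⟨l, hLY hl⟩⁻¹ : Y)
    (by
      rw [mem_centralizer_iff]
      rintro ⟨s, hs⟩ hsP
      exact Subtype.ext (hcen u hu huL s ((hP' _).1 hsP)))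
    (by
      rw [mem_centralizer_iff]
      rintro ⟨s, hs⟩ hsP
      apply Subtype.ext
      change s * (l⁻¹⁻¹ * u * l⁻¹) = l⁻¹⁻¹ * u * l⁻¹ * s
      rw [inv_inv, hlu]
      exact hcen v hv hvL s ((hP' _).1 hsP))
  have hnu' : v = (n : X)⁻¹ * u * n := by
    have := congrArg Subtype.val hnu
    change l⁻¹⁻¹ * u * l⁻¹ = (n : X)⁻¹ * u * n at this
    rw [inv_inv, hlu] at this
    exact this
  -- `n⁻¹ = l' s`
  have hnY : ((n : X)⁻¹) ∈ L ⊔ (P : Subgroup X) := inv_mem n.2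
  obtain ⟨l', hl', s, hs, hls⟩ := mem_sup_of_normal_left.1 hnY
  have hnN : (n : X) ∈ normalizer ((P : Subgroup X) : Set X) := by
    rw [mem_normalizer_iff]
    intro x
    constructor
    · intro hx
      have h1 := (mem_normalizer_iff.1 hn ⟨x, hPY hx⟩).1 ((hP' _).2 hx)
      exact (hP' _).1 h1
    · intro hx
      have h1 : (⟨(n : X) * x * (n : X)⁻¹, hPY hx⟩ : Y) ∈ (P' : Subgroup Y) := (hP' _).2 hx
      have h2 := (mem_normalizer_iff.1 (inv_mem hn) _).1 h1
      have h3 := (hP' _).1 h2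
      have e : ((n⁻¹ * (⟨(n : X) * x * (n : X)⁻¹, hPY hx⟩ : Y) * n⁻¹⁻¹ : Y) : X) = x := by
        change (n : X)⁻¹ * ((n : X) * x * (n : X)⁻¹) * (n : X)⁻¹⁻¹ = x
        group
      rwa [e] at h3
  have hl'N : l' ∈ normalizer ((P : Subgroup X) : Set X) := by
    have : l' = (n : X)⁻¹ * s⁻¹ := by rw [← hls]; group
    rw [this]
    exact mul_mem (inv_mem hnN) (inv_mem (le_normalizer hs))
  have hl'u : l' * u * l'⁻¹ = v := by
    have h1 : l' = (n : X)⁻¹ * s⁻¹ := by rw [← hls]; group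
    have h2 : s⁻¹ * u = u * s⁻¹ := hcen u hu huL s⁻¹ (inv_mem hs)
    rw [hnu', h1]
    calc (n : X)⁻¹ * s⁻¹ * u * ((n : X)⁻¹ * s⁻¹)⁻¹ = (n : X)⁻¹ * (s⁻¹ * u) * s * n := by group
      _ = (n : X)⁻¹ * (u * s⁻¹) * s * n := by rw [h2]
      _ = (n : X)⁻¹ * u * n := by group
  -- the odd part
  obtain ⟨k, m, hm, hkm⟩ := Nat.exists_eq_two_pow_mul_odd (n := orderOf l') (orderOf_pos l').ne'
  have hcop : Nat.Coprime m (2 ^ k) := (Nat.coprime_two_right.2 hm).pow_right k
  obtain ⟨a, ha1, ha2⟩ := Nat.chineseRemainder hcop 1 0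
  have ha2' : 2 ^ k ∣ a := (Nat.modEq_zero_iff_dvd).1 ha2
  set g := l' ^ a with hg
  set t := l' * g⁻¹ with ht
  have hgm : g ^ m = 1 := by
    obtain ⟨c, hc⟩ := ha2'
    rw [hg, ← pow_mul, hc]
    have : 2 ^ k * c * m = orderOf l' * c := by rw [hkm]; ring
    rw [this, pow_mul, pow_orderOf_eq_one, one_pow]
  have hgodd : Odd (orderOf g) := hm.of_dvd_nat (orderOf_dvd_of_pow_eq_one hgm)
  have hgL : g ∈ L := pow_mem hl' a
  have hgN : g ∈ normalizer ((P : Subgroup X) : Set X) := pow_mem hl'N a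
  have htL : t ∈ L := mul_mem hl' (inv_mem hgL)
  have htN : t ∈ normalizer ((P : Subgroup X) : Set X) := mul_mem hl'N (inv_mem hgN)
  have htk : t ^ 2 ^ k = 1 := by
    have h1 : t = l' ^ ((1 : ℤ) - a) := by
      rw [ht, hg, zpow_sub, zpow_one, zpow_natCast]
    have h2 : (m : ℤ) ∣ (1 : ℤ) - a := by
      have h3 := (Nat.modEq_iff_dvd.1 ha1)
      exact_mod_cast h3
    obtain ⟨c, hc⟩ := h2
    rw [h1, hc, ← zpow_natCast, ← zpow_mul]
    have h4 : (m : ℤ) * c * ((2 ^ k : ℕ) : ℤ) = (orderOf l' : ℤ) * c := by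
      rw [hkm]; push_cast; ring
    rw [h4, zpow_mul, zpow_natCast, pow_orderOf_eq_one, one_zpow]
  have htp : IsPGroup 2 (zpowers t) := by
    rintro ⟨y, hy⟩
    obtain ⟨i, rfl⟩ := mem_zpowers_iff.1 hy
    refine ⟨k, Subtype.ext ?_⟩
    change (t ^ i) ^ 2 ^ k = 1
    rw [← zpow_natCast, ← zpow_mul, mul_comm, zpow_mul, zpow_natCast, htk, one_zpow]
  have htP : t ∈ (P : Subgroup X) := by
    have h1 := IsPGroup.inf_normalizer_sylow htp P
    have h2 : t ∈ zpowers t ⊓ normalizer (P : Set X) := mem_inf.2 ⟨mem_zpowers t, htN⟩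
    rw [h1] at h2
    exact (mem_inf.1 h2).2
  refine ⟨g, hgL, hgodd, hgN, ?_⟩
  have h1 : g = t⁻¹ * l' := by
    have hc : Commute l' g := by rw [hg]; exact (Commute.refl l').pow_right a
    rw [ht, mul_inv_rev, inv_inv]
    calc g = g * l'⁻¹ * l' := by group
      _ = g * l'⁻¹ * l' := rfl
  have h2 : t⁻¹ * v = v * t⁻¹ := (hcen v hv hvL t⁻¹ (inv_mem htP))
  calc g * u * g⁻¹ = t⁻¹ * (l' * u * l'⁻¹) * t := by rw [h1]; group
    _ = t⁻¹ * v * t := by rw [hl'u]
    _ = v * t⁻¹ * t := by rw [h2]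
    _ = v := by group

/-- `T = P ∩ L` is not contained in some subgroup of index two of `P`. -/
theorem exists_index_two {X : Type*} [Group X] [Finite X] (P : Sylow 2 X) {L : Subgroup X} (hLn : L.Normal)
    (hcard : Nat.card ↥((P : Subgroup X) ⊓ L) = 4) (hsq : ∀ t ∈ P, t ∈ L → t * t = 1)
    (hcen : ∀ t ∈ P, t ∈ L → ∀ s ∈ P, s * t = t * s)
    (hconj : ∀ u ∈ P, ∀ v ∈ P, u ∈ L → v ∈ L → u ≠ 1 → v ≠ 1 → ∃ l ∈ L, l * u * l⁻¹ = v) :
    ∃ M : Subgroup X, M ≤ P ∧ M.relIndex (P : Subgroup X) = 2 ∧ ∃ a ∈ P, a ∈ L ∧ a ∉ M := by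
  classical
  set T : Subgroup X := (P : Subgroup X) ⊓ L with hT
  haveI : Finite T := inferInstance
  -- two different involutions
  obtain ⟨u, huT, hu1⟩ : ∃ u ∈ T, u ≠ 1 := by
    by_contra hcon
    push Not at hcon
    have : T = ⊥ := by rw [eq_bot_iff]; intro x hx; exact mem_bot.2 (hcon x hx)
    rw [this, card_bot] at hcard
    omega
  have hzc : Nat.card (zpowers u) = 2 := by
    rw [Nat.card_zpowers]
    exact orderOf_eq_prime (by rw [pow_two]; exact hsq u (mem_inf.1 huT).1 (mem_inf.1 huT).2) hu1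
  obtain ⟨v, hvT, hvu⟩ : ∃ v ∈ T, v ∉ zpowers u := by
    by_contra hcon
    push Not at hcon
    have h1 : T ≤ zpowers u := hcon
    have h2 := Subgroup.card_le_of_le h1
    omega
  have hv1 : v ≠ 1 := fun e => hvu (e ▸ one_mem _)
  have huP := (mem_inf.1 huT).1
  have huL := (mem_inf.1 huT).2
  have hvP := (mem_inf.1 hvT).1
  have hvL := (mem_inf.1 hvT).2
  obtain ⟨l, hl, hlu⟩ := hconj u huP v hvP huL hvL hu1 hv1
  obtain ⟨g, hgL, hgodd, hgN, hgu⟩ := exists_odd_conj P hLn hcen huP huL hvP hvL hl hlu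
  -- the commutator map
  have hδ : ∀ s ∈ (P : Subgroup X), g * s * g⁻¹ * s⁻¹ ∈ T := by
    intro s hs
    refine mem_inf.2 ⟨mul_mem ((mem_normalizer_iff.1 hgN s).1 hs) (inv_mem hs), ?_⟩
    have e : g * s * g⁻¹ * s⁻¹ = g * (s * g⁻¹ * s⁻¹) := by group
    rw [e]
    exact mul_mem hgL (hLn.conj_mem _ (inv_mem hgL) s)
  let δ : ↥(P : Subgroup X) →* T := MonoidHom.mk' (fun s => ⟨g * s * g⁻¹ * (s : X)⁻¹, hδ s s.2⟩) (by
    intro s s'
    apply Subtype.ext
    change g * ((s : X) * s') * g⁻¹ * ((s : X) * s')⁻¹ = (g * s * g⁻¹ * (s : X)⁻¹) * (g * s' * g⁻¹ * (s' : X)⁻¹)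
    have h1 := hδ s' s'.2
    have h2 := hcen _ (mem_inf.1 h1).1 (mem_inf.1 h1).2 (s : X)⁻¹ (inv_mem s.2)
    calc g * ((s : X) * s') * g⁻¹ * ((s : X) * s')⁻¹
        = (g * s * g⁻¹) * ((g * s' * g⁻¹ * (s' : X)⁻¹) * (s : X)⁻¹) := by group
      _ = (g * s * g⁻¹) * ((s : X)⁻¹ * (g * s' * g⁻¹ * (s' : X)⁻¹)) := by rw [h2]
      _ = _ := by group)
  -- `g` has no fixed points on `T`
  have hcommT : ∀ a ∈ T, ∀ b ∈ T, a * b = b * a := fun a ha b hb =>
    hcen b (mem_inf.1 hb).1 (mem_inf.1 hb).2 a (mem_inf.1 ha).1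
  have hfix : ∀ w ∈ T, g * w * g⁻¹ = w → w = 1 := by
    intro w hw hgw
    by_contra hw1
    -- `g²` fixes `u`
    have hne : u * v ≠ 1 := fun e => hvu (by
      have : v = u⁻¹ := eq_inv_of_mul_eq_one_right e
      rw [this]; exact inv_mem (mem_zpowers u))
    have hall : ∀ z ∈ T, z = 1 ∨ z = u ∨ z = v ∨ z = u * v := by
      intro z hz
      by_contra hcon
      push Not at hcon
      obtain ⟨h1, h2, h3, h4⟩ := hcon
      have hs : ({⟨1, one_mem _⟩, ⟨u, huT⟩, ⟨v, hvT⟩, ⟨u * v, mul_mem huT hvT⟩, ⟨z, hz⟩} : Finset T).card = 5 := by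
        have huv : u ≠ v := fun e => hvu (e ▸ mem_zpowers u)
        rw [Finset.card_insert_of_notMem, Finset.card_insert_of_notMem, Finset.card_insert_of_notMem,
          Finset.card_insert_of_notMem, Finset.card_singleton]
        · simp only [Finset.mem_singleton, Subtype.mk.injEq]
          exact fun e => h4 e.symm
        · simp only [Finset.mem_insert, Finset.mem_singleton, Subtype.mk.injEq]
          rintro (e | e)
          · exact hu1 (mul_eq_right.1 e.symm)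
          · exact h3 e.symm
        · simp only [Finset.mem_insert, Finset.mem_singleton, Subtype.mk.injEq]
          rintro (e | e | e)
          · exact huv e
          · exact hv1 (mul_eq_left.1 e.symm)
          · exact h2 e.symm
        · simp only [Finset.mem_insert, Finset.mem_singleton, Subtype.mk.injEq]
          rintro (e | e | e | e)
          · exact hu1 e.symm
          · exact hv1 e.symm
          · exact hne e.symm
          · exact h1 e.symm
      haveI : Fintype T := Fintype.ofFinite _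
      have := Finset.card_le_univ ({⟨1, one_mem _⟩, ⟨u, huT⟩, ⟨v, hvT⟩, ⟨u * v, mul_mem huT hvT⟩, ⟨z, hz⟩} : Finset T)
      rw [hs, ← Nat.card_eq_fintype_card] at this
      omega
    have hmul : ∀ a b : X, g * (a * b) * g⁻¹ = (g * a * g⁻¹) * (g * b * g⁻¹) := fun a b => by group
    have hinj : ∀ a b : X, g * a * g⁻¹ = g * b * g⁻¹ → a = b := fun a b e => by
      have := mul_right_cancel e
      exact mul_left_cancel this
    have hgw' : g * u * g⁻¹ = v := hgu
    have huv : u ≠ v := fun e => hvu (e ▸ mem_zpowers u)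
    have hgv : g * v * g⁻¹ = u := by
      rcases hall w hw with h1 | h1 | h1 | h1
      · exact absurd h1 hw1
      · exfalso
        apply huv
        rw [← h1, ← hgw, h1, hgw']
      · exfalso
        rw [h1] at hgw
        exact huv (hinj _ _ (hgw'.trans hgw.symm))
      · rw [h1, hmul, hgw'] at hgw
        have h2 : v * (g * v * g⁻¹) = v * u := by rw [hgw]; exact hcommT u huT v hvT
        exact mul_left_cancel h2
    have hg2 : (g ^ 2) * u * (g ^ 2)⁻¹ = u := by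
      calc (g ^ 2) * u * (g ^ 2)⁻¹ = g * (g * u * g⁻¹) * g⁻¹ := by rw [pow_two]; group
        _ = u := by rw [hgw', hgv]
    have hcu : Commute (g ^ 2) u := by
      have := mul_inv_eq_iff_eq_mul.1 hg2
      exact this
    have hgu' : Commute g u := by
      obtain ⟨k, hk⟩ := hgodd
      have h1 : g ^ (2 * k + 1) = 1 := by rw [← hk]; exact pow_orderOf_eq_one g
      have h2 : g = (g ^ 2) ^ (k + 1) := by
        calc g = g * g ^ (2 * k + 1) := by rw [h1, mul_one]
          _ = (g ^ 2) ^ (k + 1) := by rw [← pow_mul, ← pow_succ']; congr 1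
      rw [h2]
      exact hcu.pow_left (k + 1)
    apply huv
    rw [← hgw', hgu'.eq]; group
  have hδinj : ∀ a b : T, δ ⟨a, (mem_inf.1 a.2).1⟩ = δ ⟨b, (mem_inf.1 b.2).1⟩ → a = b := by
    intro a b hab
    have h0 : g * (a : X) * g⁻¹ * (a : X)⁻¹ = g * (b : X) * g⁻¹ * (b : X)⁻¹ := congrArg Subtype.val hab
    have h1 : g * ((b : X)⁻¹ * a) * g⁻¹ = (b : X)⁻¹ * a := by
      have h2 : g * (a : X) * g⁻¹ = g * (b : X) * g⁻¹ * (b : X)⁻¹ * a := by rw [← h0]; group
      calc g * ((b : X)⁻¹ * a) * g⁻¹ = (g * (b : X) * g⁻¹)⁻¹ * (g * (a : X) * g⁻¹) := by group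
        _ = (g * (b : X) * g⁻¹)⁻¹ * (g * (b : X) * g⁻¹ * (b : X)⁻¹ * a) := by rw [h2]
        _ = (b : X)⁻¹ * a := by group
    have h3 := hfix _ (mul_mem (inv_mem b.2) a.2) h1
    exact Subtype.ext (inv_mul_eq_one.1 h3).symm
  have hδsurj : ∀ y : T, ∃ a : T, δ ⟨a, (mem_inf.1 a.2).1⟩ = y := by
    have h1 : Function.Injective (fun a : T => δ ⟨a, (mem_inf.1 a.2).1⟩) := hδinj
    exact Finite.surjective_of_injective h1
  have hsurj : Function.Surjective δ := fun y => by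
    obtain ⟨a, ha⟩ := hδsurj y
    exact ⟨_, ha⟩
  set T₀ : Subgroup T := (zpowers u).subgroupOf T with hT₀
  have hT₀i : T₀.index = 2 := by
    have h1 := T₀.card_mul_index
    have h2 : Nat.card T₀ = 2 := by
      rw [← hzc]
      exact Nat.card_congr (subgroupOfEquivOfLe (by rw [zpowers_le]; exact huT)).toEquiv
    rw [h2, hcard] at h1
    omega
  refine ⟨(T₀.comap δ).map (P : Subgroup X).subtype, map_subtype_le _, ?_, ?_⟩
  · rw [relIndex, subgroupOf, comap_map_eq_self_of_injective (P : Subgroup X).subtype_injective,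
      index_comap_of_surjective _ hsurj, hT₀i]
  · obtain ⟨a, ha⟩ := hδsurj ⟨v, hvT⟩
    refine ⟨a, (mem_inf.1 a.2).1, (mem_inf.1 a.2).2, ?_⟩
    rintro ⟨s, hs, hsa⟩
    have h1 : s = ⟨a, (mem_inf.1 a.2).1⟩ := Subtype.ext hsa
    rw [h1, SetLike.mem_coe, mem_comap, ha] at hs
    exact hvu hs

end Cfsg.Agent.TwoFusion.GoldJTwo
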