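import Cfsg.Agent.TwoFusion.GoldSetup

/-!
# Lemma P of Goldschmidt's theorem

`G` simple nonabelian, `A` an elementary abelian strongly closed 2-subgroup of the Sylow 2-subgroup `S`,
`A ≤ Z(S)`.  If `A` meets the subgroup generated by the squares of `S` trivially, then `S = A`.
-/

set_option autoImplicit false

namespace Cfsg.Agent.TwoFusion.GoldP

open Subgroup

/-- The subgroup generated by the squares. -/
def sq (S : Type*) [Group S] : Subgroup S := closure {x : S | ∃ s : S, x = s * s}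

instance sq_normal (S : Type*) [Group S] : (sq S).Normal := by
  constructor
  intro n hn g
  have h : sq S ≤ (sq S).comap (MulAut.conj g).toMonoidHom := by
    rw [sq, closure_le]
    rintro x ⟨s, rfl⟩
    simp only [coe_comap, MulEquiv.coe_toMonoidHom, Set.mem_preimage, MulAut.conj_apply, SetLike.mem_coe]
    exact subset_closure ⟨g * s * g⁻¹, by group⟩
  exact h hn

/-- Existence of a retraction onto a subgroup which meets the Frattini subgroup trivially. -/
theorem exists_retraction {S A : Type*} [Group S] [CommGroup A] (i : A →* S) (hel : ∀ a : A, a * a = 1)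
    (hi : ∀ a : A, i a ∈ sq S → a = 1) : ∃ π : S →* A, ∀ a, π (i a) = a := by
  classical
  have hQ : ∀ x : S ⧸ sq S, x * x = 1 := by
    intro x
    obtain ⟨s, rfl⟩ := QuotientGroup.mk_surjective x
    rw [← QuotientGroup.mk_mul, QuotientGroup.eq_one_iff]
    exact subset_closure ⟨s, rfl⟩
  let Q := S ⧸ sq S
  let : CommGroup Q := { (inferInstance : Group Q) with
    mul_comm := fun x y => by
      have h1 : x⁻¹ = x := inv_eq_of_mul_eq_one_left (hQ x)
      have h2 : y⁻¹ = y := inv_eq_of_mul_eq_one_left (hQ y)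
      have h3 : (x * y)⁻¹ = x * y := inv_eq_of_mul_eq_one_left (hQ (x * y))
      rw [← h3, mul_inv_rev, h1, h2] }
  let : Module (ZMod 2) (Additive A) := AddCommGroup.zmodModule (n := 2) (fun x => by
    rw [two_nsmul]; exact hel x.toMul)
  let : Module (ZMod 2) (Additive Q) := AddCommGroup.zmodModule (n := 2) (fun x => by
    rw [two_nsmul]; exact hQ x.toMul)
  let f0 : A →* Q := (QuotientGroup.mk' (sq S)).comp i
  let f : Additive A →ₗ[ZMod 2] Additive Q := f0.toAdditive.toZModLinearMap 2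
  have hinj : Function.Injective f := by
    rw [injective_iff_map_eq_zero]
    intro a ha
    exact hi a.toMul ((QuotientGroup.eq_one_iff _).1 ha)
  obtain ⟨g, hg⟩ := f.exists_leftInverse_of_injective (LinearMap.ker_eq_bot.2 hinj)
  let g0 : Q →* A := AddMonoidHom.toMultiplicative g.toAddMonoidHom
  refine ⟨g0.comp (QuotientGroup.mk' (sq S)), fun a => ?_⟩
  exact LinearMap.congr_fun hg (Additive.ofMul a)

/-- The squares of a 2-group lie in the Frattini subgroup. -/
theorem sq_le_frattini {S : Type*} [Group S] [Finite S] (hS : IsPGroup 2 S) : sq S ≤ frattini S := by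
  have : Fact (Nat.Prime 2) := ⟨Nat.prime_two⟩
  have := hS.isNilpotent
  rw [sq, closure_le]
  rintro _ ⟨s, rfl⟩
  rw [SetLike.mem_coe, frattini, Order.radical, mem_iInf]
  intro M
  rw [mem_iInf]
  intro hM
  have hMn : M.Normal := NormalizerCondition.normal_of_coatom M Group.normalizerCondition_of_isNilpotent hM
  by_contra hs
  have h1 : M ⊔ zpowers (s * s) = ⊤ := by
    apply hM.2
    refine lt_of_le_of_ne le_sup_left (fun h => hs ?_)
    rw [h]
    exact (le_sup_right : zpowers (s * s) ≤ _) (mem_zpowers _)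
  have h2 : s ∈ M ⊔ zpowers (s * s) := h1 ▸ mem_top s
  obtain ⟨m, hm, y, hy, hmy⟩ := mem_sup_of_normal_left.1 h2
  obtain ⟨k, rfl⟩ := mem_zpowers_iff.1 hy
  obtain ⟨n, hn⟩ := hS s
  have h3 : s ^ (1 - 2 * k) ∈ M := by
    have : s ^ (1 - 2 * k) = m := by
      rw [zpow_sub, zpow_one, zpow_mul, zpow_two]
      exact mul_inv_eq_iff_eq_mul.2 hmy.symm
    rw [this]; exact hm
  have h4 : IsCoprime (1 - 2 * k : ℤ) ((2 : ℤ) ^ n) := by
    apply IsCoprime.pow_right
    exact ⟨1, k, by ring⟩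
  obtain ⟨u, v, huv⟩ := h4
  have h5 : s = (s ^ (1 - 2 * k)) ^ u * (s ^ ((2 : ℤ) ^ n)) ^ v := by
    rw [← zpow_mul, ← zpow_mul, ← zpow_add]
    have : (1 - 2 * k) * u + (2 : ℤ) ^ n * v = 1 := by linear_combination huv
    rw [this, zpow_one]
  have h6 : s ^ ((2 : ℤ) ^ n) = 1 := by
    rw [← hn, ← zpow_natCast]; norm_cast
  rw [h6, one_zpow, mul_one] at h5
  apply hs
  have h7 : s ∈ M := by rw [h5]; exact zpow_mem h3 u
  exact mul_mem h7 h7

theorem mulZMod_sq (x : Multiplicative (ZMod 2)) : x * x = 1 := by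
  revert x; decide

/-- Elements outside of the subgroup generated by the squares are detected by homomorphisms to a group of order
two. -/
theorem exists_hom_of_not_mem_sq {S : Type*} [Group S] {a : S} (ha : a ∉ sq S) :
    ∃ χ : S →* Multiplicative (ZMod 2), χ a ≠ 1 := by
  classical
  have hQ : ∀ x : S ⧸ sq S, x * x = 1 := by
    intro x
    obtain ⟨s, rfl⟩ := QuotientGroup.mk_surjective x
    rw [← QuotientGroup.mk_mul, QuotientGroup.eq_one_iff]
    exact subset_closure ⟨s, rfl⟩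
  let Q := S ⧸ sq S
  let : CommGroup Q := { (inferInstance : Group Q) with
    mul_comm := fun x y => by
      have h1 : x⁻¹ = x := inv_eq_of_mul_eq_one_left (hQ x)
      have h2 : y⁻¹ = y := inv_eq_of_mul_eq_one_left (hQ y)
      have h3 : (x * y)⁻¹ = x * y := inv_eq_of_mul_eq_one_left (hQ (x * y))
      rw [← h3, mul_inv_rev, h1, h2] }
  let : Module (ZMod 2) (Additive Q) := AddCommGroup.zmodModule (n := 2) (fun x => by
    rw [two_nsmul]; exact hQ x.toMul)
  let v : Additive Q := Additive.ofMul (QuotientGroup.mk a)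
  have hv : v ≠ 0 := fun h0 => ha ((QuotientGroup.eq_one_iff _).1 h0)
  obtain ⟨f, hf⟩ : ∃ f : Module.Dual (ZMod 2) (Additive Q), f v ≠ 0 := by
    by_contra hcon
    push Not at hcon
    exact hv ((Module.forall_dual_apply_eq_zero_iff (ZMod 2) v).1 hcon)
  let g0 : Q →* Multiplicative (ZMod 2) := AddMonoidHom.toMultiplicative f.toAddMonoidHom
  exact ⟨g0.comp (QuotientGroup.mk' (sq S)), fun h1 => hf h1⟩

/-- Transfer extends a retraction from a subgroup of odd index. -/
theorem exists_extension {C A : Type*} [Group C] [CommGroup A] (S : Subgroup C) (hS : Odd S.index)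
    (i : A →* C) (hel : ∀ a : A, a * a = 1) (hcen : ∀ a c, i a * c = c * i a) (hiS : ∀ a, i a ∈ S)
    (π : S →* A) (hπ : ∀ a, π ⟨i a, hiS a⟩ = a) : ∃ V : C →* A, ∀ a, V (i a) = a := by
  have : S.FiniteIndex := ⟨fun h => by rw [h] at hS; exact absurd hS (by decide)⟩
  refine ⟨MonoidHom.transfer π, fun a => ?_⟩
  rw [MonoidHom.transfer_eq_pow π (i a) (fun k g₀ _ => by
    rw [mul_assoc, ← map_pow, hcen, inv_mul_cancel_left])]
  have hp : i a ^ S.index = i a := by
    rw [← map_pow]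
    obtain ⟨m, hm⟩ := hS
    rw [hm, pow_succ, pow_mul, pow_two, hel, one_pow, one_mul]
  have : (⟨i a ^ S.index, MonoidHom.transfer_eq_pow_aux (i a) (fun k g₀ _ => by
    rw [mul_assoc, ← map_pow, hcen, inv_mul_cancel_left])⟩ : S) = ⟨i a, hiS a⟩ := Subtype.ext hp
  rw [this, hπ]

section Average

variable {N : Type*} [Group N] {C A : Subgroup N} [C.Normal] [A.Normal]

/-- The conjugation action of `N` on `Hom(C, A)`. -/
def act (n : N) (V : C →* A) : C →* A :=
  (MulAut.conjNormal n : A ≃* A).toMonoidHom.comp (V.comp (MulAut.conjNormal n⁻¹ : C ≃* C).toMonoidHom)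

theorem coe_act (n : N) (V : C →* A) (c : C) :
    (act n V c : N) = n * V (MulAut.conjNormal n⁻¹ c) * n⁻¹ := rfl

theorem act_mul (m n : N) (V : C →* A) : act (m * n) V = act m (act n V) := by
  ext c
  rw [coe_act, coe_act, coe_act, mul_inv_rev, map_mul, MulAut.mul_apply]
  group

/-- Averaging a retraction over a group of odd order. -/
theorem exists_equivariant [Finite N] (hC : Odd C.index) (hAC : A ≤ C) (hel : ∀ a ∈ A, a * a = 1)
    (hcen : ∀ a ∈ A, ∀ c ∈ C, a * c = c * a) (V₀ : C →* A) (hV : ∀ a (h : a ∈ A), (V₀ ⟨a, hAC h⟩ : N) = a) :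
    ∃ V : C →* A, (∀ a (h : a ∈ A), (V ⟨a, hAC h⟩ : N) = a) ∧ ∀ n c, V (MulAut.conjNormal n c) =
      MulAut.conjNormal n (V c) := by
  classical
  let : CommGroup A := { (inferInstance : Group A) with
    mul_comm := fun x y => Subtype.ext (hcen x x.2 y (hAC y.2)) }
  have hact : ∀ c ∈ C, ∀ V : C →* A, act c V = V := by
    intro c hc V
    ext x
    rw [coe_act]
    have h1 : (MulAut.conjNormal c⁻¹ x : C) = ⟨c, hc⟩⁻¹ * x * ⟨c, hc⟩ := by
      ext
      simp
    rw [h1, map_mul, map_mul, map_inv, mul_comm _ (V x), inv_mul_cancel_right, ← hcen _ (V x).2 c hc,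
      mul_inv_cancel_right]
  let : Fintype (N ⧸ C) := Fintype.ofFinite _
  let V : C →* A := ∏ q : N ⧸ C, act q.out V₀
  have hVap : ∀ c, V c = ∏ q : N ⧸ C, act q.out V₀ c := fun c => by
    simp only [V, MonoidHom.finsetProd_apply]
  refine ⟨V, ?_, ?_⟩
  · intro a ha
    have h1 : ∀ q : N ⧸ C, act q.out V₀ ⟨a, hAC ha⟩ = ⟨a, ha⟩ := by
      intro q
      ext
      rw [coe_act]
      have h2 : q.out⁻¹ * a * q.out ∈ A := by
        have := (inferInstance : A.Normal).conj_mem a ha q.out⁻¹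
        simpa using this
      have h3 : (MulAut.conjNormal (q.out)⁻¹ ⟨a, hAC ha⟩ : C) = ⟨q.out⁻¹ * a * q.out, hAC h2⟩ := by
        ext
        simp
      rw [h3, hV _ h2]
      group
    rw [hVap, Finset.prod_congr rfl (fun q _ => h1 q), Finset.prod_const, Finset.card_univ,
      ← Nat.card_eq_fintype_card]
    have h4 : Nat.card (N ⧸ C) = C.index := rfl
    obtain ⟨m, hm⟩ := hC
    rw [h4, hm]
    rw [pow_succ, pow_mul, pow_two]
    have h5 : (⟨a, ha⟩ : A) * ⟨a, ha⟩ = 1 := Subtype.ext (hel a ha)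
    rw [h5, one_pow, one_mul]
  · intro n c
    rw [hVap, hVap, map_prod]
    -- reindex by left multiplication by `n⁻¹`
    refine Fintype.prod_equiv (MulAction.toPerm (n⁻¹ : N)) _ _ (fun q => ?_)
    rw [MulAction.toPerm_apply]
    obtain ⟨d, hd, hd2⟩ : ∃ d ∈ C, (n⁻¹ • q).out = n⁻¹ * q.out * d := by
      have h1 : ((n⁻¹ • q).out : N ⧸ C) = ((n⁻¹ * q.out : N) : N ⧸ C) := by
        rw [QuotientGroup.out_eq']
        conv_lhs => rw [← QuotientGroup.out_eq' q]
        rfl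
      have h2 := QuotientGroup.eq.1 h1.symm
      exact ⟨_, h2, by group⟩
    rw [hd2, act_mul, hact d hd]
    ext
    rw [coe_act, MulAut.conjNormal_apply, coe_act]
    have h3 : (MulAut.conjNormal (n⁻¹ * q.out)⁻¹ c : C) = MulAut.conjNormal (q.out)⁻¹ (MulAut.conjNormal n c) := by
      rw [mul_inv_rev, inv_inv, map_mul, MulAut.mul_apply]
    rw [h3]
    group

end Average

section Split

open Cfsg.Agent.TwoFusion.ClosedFam Cfsg.Agent.TwoFusion.Gold Cfsg.Agent.TwoFusion.GoldSetup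

universe u

variable {G : Type u} [Group G] [Finite G] {𝒜 : Set G}

/-- The product theorem (commutator part) for the group `G`. -/
def C1 (G : Type u) [Group G] : Prop :=
  ∀ ℬ 𝒞 : Set G, Pair ℬ 𝒞 → (∀ x ∈ ℬ, x = 1) ∨ (∀ x ∈ 𝒞, x = 1)

/-- `C1 G` for nonabelian simple groups from the commutator part of the product theorem
(`ClosedCommutator.fam_commutator_le`). -/
theorem c1_of (hs : IsSimpleGroup G) (hna : ∃ a b : G, a * b ≠ b * a)
    (hcl : ∀ ℬ 𝒞 : Set G, Pair ℬ 𝒞 → ⁅fam ℬ ⊤, fam 𝒞 ⊤⁆ ≤ Cfsg.oddCore G) : C1 G := by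
  intro ℬ 𝒞 hp
  have htriv : Odd (Nat.card G) → ∀ x ∈ ℬ, x = 1 := by
    intro hodd x hx
    obtain ⟨k, hk⟩ := hp.left.two x hx
    have h1 : orderOf x ∣ 2 ^ k := orderOf_dvd_of_pow_eq_one hk
    have h2 : orderOf x ∣ Nat.card G := orderOf_dvd_natCard x
    have h3 : Nat.Coprime (2 ^ k) (Nat.card G) := (Nat.coprime_two_left.2 hodd).pow_left k
    exact orderOf_eq_one_iff.1 (Nat.eq_one_of_dvd_coprimes h3 h1 h2)
  have hcore : Cfsg.oddCore G = ⊥ ∨ Odd (Nat.card G) := by
    rcases IsSimpleGroup.eq_bot_or_eq_top_of_normal (Cfsg.oddCore G) inferInstance with hb | ht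
    · exact Or.inl hb
    · right
      have h1 := Cfsg.Agent.Lib.Cores.pPrimeCore_coprime (G := G) 2
      change Nat.Coprime (Nat.card (Cfsg.oddCore G)) 2 at h1
      rw [ht, card_top] at h1
      exact Nat.coprime_two_right.1 h1
  rcases hcore with hb | ho
  swap
  · exact Or.inl (htriv ho)
  have hc := hcl ℬ 𝒞 hp
  rw [hb, le_bot_iff] at hc
  have hn1 : (fam ℬ ⊤).Normal := hp.left.fam_normal ⊤
  have hn2 : (fam 𝒞 ⊤).Normal := hp.right.fam_normal ⊤
  rcases IsSimpleGroup.eq_bot_or_eq_top_of_normal _ hn1 with h1 | h1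
  · left
    intro x hx
    have := mem_fam hx (mem_top x)
    rwa [h1, mem_bot] at this
  rcases IsSimpleGroup.eq_bot_or_eq_top_of_normal _ hn2 with h2 | h2
  · right
    intro x hx
    have := mem_fam hx (mem_top x)
    rwa [h2, mem_bot] at this
  exfalso
  obtain ⟨a, b, hab⟩ := hna
  rw [h1, h2] at hc
  have h3 := commutator_mem_commutator (mem_top a) (mem_top b)
  rw [hc, mem_bot, commutatorElement_eq_one_iff_mul_comm] at h3
  exact hab h3

section

variable (h : Setup 𝒜) (S : Sylow 2 G)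

/-- `C_G(A)` as a subgroup of `N_G(A)`. -/
def CN (A : Subgroup G) : Subgroup ↥(normalizer (A : Set G)) :=
  (centralizer (A : Set G)).subgroupOf (normalizer (A : Set G))

/-- `A` as a subgroup of `N_G(A)`. -/
def AN (A : Subgroup G) : Subgroup ↥(normalizer (A : Set G)) := A.subgroupOf (normalizer (A : Set G))

omit [Finite G] in
theorem mem_CN {A : Subgroup G} {x : ↥(normalizer (A : Set G))} : x ∈ CN A ↔ ∀ a ∈ A, a * (x : G) = x * a := by
  rw [CN, mem_subgroupOf, mem_centralizer_iff]; rfl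

omit [Finite G] in
theorem mem_AN {A : Subgroup G} {x : ↥(normalizer (A : Set G))} : x ∈ AN A ↔ (x : G) ∈ A := by
  rw [AN, mem_subgroupOf]

instance AN_normal (A : Subgroup G) : (AN A).Normal := by
  constructor
  intro x hx n
  rw [mem_AN] at hx ⊢
  exact (mem_normalizer_iff.1 n.2 _).1 hx

instance CN_normal (A : Subgroup G) : (CN A).Normal := by
  constructor
  intro x hx n
  rw [mem_CN] at hx ⊢
  intro a ha
  have h1 : (n : G)⁻¹ * a * n ∈ A := by
    have := (mem_normalizer_iff.1 (inv_mem n.2) a).1 ha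
    simpa using this
  have h2 := hx _ h1
  simp only [coe_mul, InvMemClass.coe_inv]
  calc a * ((n : G) * x * (n : G)⁻¹) = n * (((n : G)⁻¹ * a * n) * x) * (n : G)⁻¹ := by group
    _ = n * (x * ((n : G)⁻¹ * a * n)) * (n : G)⁻¹ := by rw [h2]
    _ = _ := by group

include h

/-- From a homomorphism `C_G(A) → A` which is the identity on `A` we get `S = A`. -/
theorem le_of_hom (hC1 : C1 G) (hcent : ∀ a ∈ ClosedFam.fam 𝒜 (S : Subgroup G), ∀ s ∈ (S : Subgroup G), s * a = a * s)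
    (hAC : AN (ClosedFam.fam 𝒜 (S : Subgroup G)) ≤ CN (ClosedFam.fam 𝒜 (S : Subgroup G)))
    (hodd : Odd (CN (ClosedFam.fam 𝒜 (S : Subgroup G))).index)
    (V₀ : CN (ClosedFam.fam 𝒜 (S : Subgroup G)) →* AN (ClosedFam.fam 𝒜 (S : Subgroup G)))
    (hV₀ : ∀ a (ha : a ∈ AN (ClosedFam.fam 𝒜 (S : Subgroup G))),
      (V₀ ⟨a, hAC ha⟩ : ↥(normalizer (ClosedFam.fam 𝒜 (S : Subgroup G) : Set G))) = a) :
    (S : Subgroup G) ≤ ClosedFam.fam 𝒜 (S : Subgroup G) := by
  have hA := h.fam_ne_bot S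
  have hsc := h.sc S
  have hsq := h.sq S
  have hN := h.le_normalizer S
  have hinf := fun X hX => h.sc_inf S (X := X) hX
  generalize ClosedFam.fam 𝒜 (S : Subgroup G) = A at *
  obtain ⟨V, hV1, hV2⟩ := exists_equivariant hodd hAC
    (fun a ha => Subtype.ext (hsq _ (mem_AN.1 ha)))
    (fun a ha c hc => Subtype.ext (mem_CN.1 hc _ (mem_AN.1 ha))) V₀ hV₀
  let X : Subgroup G := ((V.ker).map (CN A).subtype).map (normalizer (A : Set G)).subtype
  have hXmem : ∀ x : G, x ∈ X ↔ ∃ (h1 : x ∈ normalizer (A : Set G)) (h2 : (⟨x, h1⟩ : ↥(normalizer (A : Set G))) ∈ CN A),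
      V ⟨⟨x, h1⟩, h2⟩ = 1 := by
    intro x
    constructor
    · rintro ⟨_, ⟨⟨⟨y, h1⟩, h2⟩, h3, rfl⟩, rfl⟩
      exact ⟨h1, h2, h3⟩
    · rintro ⟨h1, h2, h3⟩
      exact ⟨⟨x, h1⟩, ⟨⟨⟨x, h1⟩, h2⟩, h3, rfl⟩, rfl⟩
  have hXn : ∀ n ∈ normalizer (A : Set G), ∀ x ∈ X, n * x * n⁻¹ ∈ X := by
    intro n hn x hx
    rw [hXmem] at hx ⊢
    obtain ⟨h1, h2, h3⟩ := hx
    have h4 := hV2 ⟨n, hn⟩ ⟨⟨x, h1⟩, h2⟩
    rw [h3, map_one] at h4
    refine ⟨mul_mem (mul_mem hn h1) (inv_mem hn), ?_, ?_⟩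
    · exact (CN_normal A).conj_mem ⟨x, h1⟩ h2 ⟨n, hn⟩
    · rw [← h4]
      congr 1
  have hX := hinf X hXn
  have hdisj : A ⊓ ((S : Subgroup G) ⊓ X) = ⊥ := by
    rw [eq_bot_iff]
    rintro a ⟨ha, -, hax⟩
    obtain ⟨h1, h2, h3⟩ := (hXmem a).1 hax
    have h4 := hV1 ⟨a, h1⟩ (mem_AN.2 ha)
    rw [h3] at h4
    have h5 := congrArg Subtype.val h4
    rw [mem_bot]
    exact h5.symm
  rcases hC1 _ _ (pair_of_isStronglyClosed S A _ hdisj hsc hX) with h1 | h1
  · exfalso
    apply hA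
    rw [eq_bot_iff]
    intro a ha
    exact h1 a ⟨1, by simpa using ha⟩
  · intro s hs
    have hsN : s ∈ normalizer (A : Set G) := hN hs
    have hsC : (⟨s, hsN⟩ : ↥(normalizer (A : Set G))) ∈ CN A := mem_CN.2 fun a ha => (hcent a ha s hs).symm
    let a := V ⟨⟨s, hsN⟩, hsC⟩
    have ha : (((a : ↥(normalizer (A : Set G)))) : G) ∈ A := mem_AN.1 a.2
    have h2 : s * ((a : ↥(normalizer (A : Set G))) : G)⁻¹ ∈ (S : Subgroup G) ⊓ X := by
      refine mem_inf.2 ⟨mul_mem hs (inv_mem (hsc.1 ha)), ?_⟩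
      rw [hXmem]
      refine ⟨mul_mem hsN (inv_mem (a : ↥(normalizer (A : Set G))).2), mul_mem hsC (inv_mem (hAC a.2)), ?_⟩
      have h3 : (⟨⟨s * ((a : ↥(normalizer (A : Set G))) : G)⁻¹, mul_mem hsN (inv_mem (a : ↥(normalizer (A : Set G))).2)⟩,
          mul_mem hsC (inv_mem (hAC a.2))⟩ : CN A) = ⟨⟨s, hsN⟩, hsC⟩ * (⟨(a : ↥(normalizer (A : Set G))), hAC a.2⟩ : CN A)⁻¹ := rfl
      rw [h3, map_mul, map_inv]
      have h4 : V (⟨(a : ↥(normalizer (A : Set G))), hAC a.2⟩ : CN A) = a := Subtype.ext (hV1 _ a.2)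
      rw [h4]
      exact mul_inv_cancel a
    have h5 := h1 _ ⟨1, by simpa using h2⟩
    have h6 : s = ((a : ↥(normalizer (A : Set G))) : G) := by
      rw [mul_inv_eq_one] at h5; exact h5
    rw [h6]; exact ha

omit h in
/-- Odd indices. -/
theorem odd_index {A : Subgroup G} (hN : (S : Subgroup G) ≤ normalizer (A : Set G))
    (hcent : ∀ a ∈ A, ∀ s ∈ (S : Subgroup G), s * a = a * s) :
    (S : Subgroup G).subgroupOf (normalizer (A : Set G)) ≤ CN A ∧ Odd (CN A).index ∧
      Odd (((S : Subgroup G).subgroupOf (normalizer (A : Set G))).subgroupOf (CN A)).index := by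
  have hSC : (S : Subgroup G).subgroupOf (normalizer (A : Set G)) ≤ CN A := by
    intro x hx
    rw [mem_CN]
    intro a ha
    exact (hcent a ha _ (mem_subgroupOf.1 hx)).symm
  have hSodd := Cfsg.Agent.TwoFusion.IndexTwo.odd_index_sylow S
  have h1 := relIndex_mul_index hN
  rw [← h1] at hSodd
  have h2 : Odd ((S : Subgroup G).subgroupOf (normalizer (A : Set G))).index := (Nat.odd_mul.1 hSodd).1
  rw [← relIndex_mul_index hSC] at h2
  exact ⟨hSC, (Nat.odd_mul.1 h2).2, (Nat.odd_mul.1 h2).1⟩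

omit h in
theorem split_aux {A : Subgroup G} (hcent : ∀ a ∈ A, ∀ s ∈ (S : Subgroup G), s * a = a * s)
    (hcomm : ∀ a ∈ A, ∀ b ∈ A, a * b = b * a) (hsq : ∀ a ∈ A, a * a = 1)
    (hN : (S : Subgroup G) ≤ normalizer (A : Set G)) (hle : A ≤ (S : Subgroup G))
    (hend : ∀ (hAC : AN A ≤ CN A), Odd (CN A).index → ∀ (V₀ : ↥(CN A) →* ↥(AN A)),
      (∀ (a : ↥(normalizer (A : Set G))) (ha : a ∈ AN A), (V₀ ⟨a, hAC ha⟩ : ↥(normalizer (A : Set G))) = a) →
        (S : Subgroup G) ≤ A)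
    (π : (S : Subgroup G) →* A) (hπ : ∀ a (ha : a ∈ A), (π ⟨a, hle ha⟩ : G) = a) : (S : Subgroup G) ≤ A := by
  obtain ⟨hSC, hodd, hodd'⟩ := odd_index S hN hcent
  have hAN : A ≤ normalizer (A : Set G) := le_normalizer
  have hAC : AN A ≤ CN A := by
    intro x hx
    rw [mem_CN]
    intro a ha
    exact hcomm a ha _ (mem_AN.1 hx)
  let : CommGroup (AN A) := { (inferInstance : Group (AN A)) with
    mul_comm := fun x y => Subtype.ext (Subtype.ext (hcomm _ (mem_AN.1 x.2) _ (mem_AN.1 y.2))) }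
  let i : AN A →* CN A := inclusion hAC
  let S₁ := ((S : Subgroup G).subgroupOf (normalizer (A : Set G))).subgroupOf (CN A)
  have hS₁ : ∀ x : S₁, (((x : CN A) : ↥(normalizer (A : Set G))) : G) ∈ (S : Subgroup G) := fun x =>
    mem_subgroupOf.1 (mem_subgroupOf.1 x.2)
  let j : S₁ →* (S : Subgroup G) :=
    { toFun := fun x => ⟨(((x : CN A) : ↥(normalizer (A : Set G))) : G), hS₁ x⟩
      map_one' := rfl
      map_mul' := fun _ _ => rfl }
  let k : A →* AN A :=
    { toFun := fun x => ⟨⟨x, hAN x.2⟩, mem_AN.2 x.2⟩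
      map_one' := rfl
      map_mul' := fun _ _ => rfl }
  obtain ⟨V, hV⟩ := exists_extension S₁ hodd' i (fun a => Subtype.ext (Subtype.ext (hsq _ (mem_AN.1 a.2))))
    (fun a c => Subtype.ext (Subtype.ext (mem_CN.1 c.2 _ (mem_AN.1 a.2))))
    (fun a => mem_subgroupOf.2 (mem_subgroupOf.2 (hle (mem_AN.1 a.2)))) (k.comp (π.comp j)) (by
      intro a
      apply Subtype.ext
      apply Subtype.ext
      exact hπ _ (mem_AN.1 a.2))
  refine hend hAC hodd V ?_
  intro a ha
  exact congrArg Subtype.val (hV ⟨a, ha⟩)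

/-- **Lemma P** (first form): if `A ≤ Z(S)` and `S` has a retraction onto `A` then `S = A`. -/
theorem eq_of_split (hC1 : C1 G)
    (hcent : ∀ a ∈ ClosedFam.fam 𝒜 (S : Subgroup G), ∀ s ∈ (S : Subgroup G), s * a = a * s)
    (π : (S : Subgroup G) →* ClosedFam.fam 𝒜 (S : Subgroup G))
    (hπ : ∀ a (ha : a ∈ ClosedFam.fam 𝒜 (S : Subgroup G)), (π ⟨a, (h.sc S).1 ha⟩ : G) = a) :
    (S : Subgroup G) ≤ ClosedFam.fam 𝒜 (S : Subgroup G) :=
  split_aux S hcent (h.comm S) (h.sq S) (h.le_normalizer S) (h.sc S).1 (le_of_hom h S hC1 hcent) π hπ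

/-- **Lemma P** (second form): if `A ≤ Z(S)` then `S = A` or `A` is contained in the subgroup generated by the
squares of `S`. -/
theorem le_or_le_sq (hC1 : C1 G)
    (hcent : ∀ a ∈ ClosedFam.fam 𝒜 (S : Subgroup G), ∀ s ∈ (S : Subgroup G), s * a = a * s) :
    (S : Subgroup G) ≤ ClosedFam.fam 𝒜 (S : Subgroup G) ∨
      ClosedFam.fam 𝒜 (S : Subgroup G) ≤ (sq (S : Subgroup G)).map (S : Subgroup G).subtype := by
  have hcomm := h.comm S
  have hsq := h.sq S
  have hN := h.le_normalizer S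
  have hle := (h.sc S).1
  have hend := le_of_hom h S hC1 hcent
  have hirr := fun B h1 h2 => h.irreducible S (B := B) h1 h2
  generalize ClosedFam.fam 𝒜 (S : Subgroup G) = A at *
  obtain ⟨hSC, hodd, hodd'⟩ := odd_index S hN hcent
  have hAN : A ≤ normalizer (A : Set G) := le_normalizer
  have hAC : AN A ≤ CN A := by
    intro x hx
    rw [mem_CN]
    intro a ha
    exact hcomm a ha _ (mem_AN.1 hx)
  let : CommGroup (AN A) := { (inferInstance : Group (AN A)) with
    mul_comm := fun x y => Subtype.ext (Subtype.ext (hcomm _ (mem_AN.1 x.2) _ (mem_AN.1 y.2))) }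
  let i : AN A →* CN A := inclusion hAC
  have hel : ∀ a : AN A, a * a = 1 := fun a => Subtype.ext (Subtype.ext (hsq _ (mem_AN.1 a.2)))
  -- the elements of `A` in the subgroup generated by the squares of `C_G(A)`
  let B : Subgroup G := (((sq (CN A)).comap i).map (AN A).subtype).map (normalizer (A : Set G)).subtype
  have hBmem : ∀ x : G, x ∈ B ↔ ∃ (h1 : x ∈ normalizer (A : Set G)) (h2 : (⟨x, h1⟩ : ↥(normalizer (A : Set G))) ∈ AN A),
      i ⟨⟨x, h1⟩, h2⟩ ∈ sq (CN A) := by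
    intro x
    constructor
    · rintro ⟨_, ⟨⟨⟨y, h1⟩, h2⟩, h3, rfl⟩, rfl⟩
      exact ⟨h1, h2, h3⟩
    · rintro ⟨h1, h2, h3⟩
      exact ⟨⟨x, h1⟩, ⟨⟨⟨x, h1⟩, h2⟩, h3, rfl⟩, rfl⟩
  rcases hirr B (fun x hx => by
      obtain ⟨h1, h2, -⟩ := (hBmem x).1 hx
      exact mem_AN.1 h2) (by
      intro n hn x hx
      rw [hBmem] at hx ⊢
      obtain ⟨h1, h2, h3⟩ := hx
      refine ⟨mul_mem (mul_mem hn h1) (inv_mem hn), (AN_normal A).conj_mem ⟨x, h1⟩ h2 ⟨n, hn⟩, ?_⟩
      have key : sq (CN A) ≤ (sq (CN A)).comap (MulAut.conjNormal (⟨n, hn⟩ : ↥(normalizer (A : Set G))) :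
          CN A ≃* CN A).toMonoidHom := by
        rw [sq, closure_le]
        rintro _ ⟨s, rfl⟩
        refine subset_closure ⟨MulAut.conjNormal (⟨n, hn⟩ : ↥(normalizer (A : Set G))) s, ?_⟩
        exact map_mul _ _ _
      exact key h3) with hB | hB
  · left
    obtain ⟨V, hV⟩ := exists_retraction i hel (by
      intro a ha
      have h1 : ((a : ↥(normalizer (A : Set G))) : G) ∈ B := by
        rw [hBmem]
        exact ⟨(a : ↥(normalizer (A : Set G))).2, a.2, ha⟩
      rw [hB, mem_bot] at h1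
      exact Subtype.ext (Subtype.ext h1))
    refine hend hAC hodd V ?_
    intro a ha
    exact congrArg Subtype.val (hV ⟨a, ha⟩)
  · right
    intro a ha
    by_contra hcon
    -- a homomorphism from `S` to a group of order two which is nontrivial on `a`
    have haS : a ∈ (S : Subgroup G) := hle ha
    obtain ⟨χ, hχ⟩ := exists_hom_of_not_mem_sq (a := (⟨a, haS⟩ : (S : Subgroup G))) (fun hmem =>
      hcon ⟨⟨a, haS⟩, hmem, rfl⟩)
    obtain ⟨h1, h2, h3⟩ := (hBmem a).1 (hB.symm ▸ ha)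
    let S₁ := ((S : Subgroup G).subgroupOf (normalizer (A : Set G))).subgroupOf (CN A)
    have hS₁ : ∀ x : S₁, (((x : CN A) : ↥(normalizer (A : Set G))) : G) ∈ (S : Subgroup G) := fun x =>
      mem_subgroupOf.1 (mem_subgroupOf.1 x.2)
    let j : S₁ →* (S : Subgroup G) :=
      { toFun := fun x => ⟨(((x : CN A) : ↥(normalizer (A : Set G))) : G), hS₁ x⟩
        map_one' := rfl
        map_mul' := fun _ _ => rfl }
    have hfi : S₁.FiniteIndex := ⟨fun h0 => by
      have h5 := hodd'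
      rw [h0] at h5; exact absurd h5 (by decide)⟩
    let c : CN A := i ⟨⟨a, h1⟩, h2⟩
    have hc1 : ∀ x : CN A, c * x = x * c := fun x => Subtype.ext (Subtype.ext (mem_CN.1 x.2 _ ha))
    have hc2 : c * c = 1 := congrArg i (hel ⟨⟨a, h1⟩, h2⟩) |>.trans (map_one i)
    have key : ∀ (k : ℕ) (g₀ : CN A), g₀⁻¹ * c ^ k * g₀ ∈ S₁ → g₀⁻¹ * c ^ k * g₀ = c ^ k := by
      intro k g₀ _
      rw [mul_assoc, (show Commute (c ^ k) g₀ from (show Commute c g₀ from hc1 g₀).pow_left k).eq, inv_mul_cancel_left]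
    have h4 := MonoidHom.transfer_eq_pow (χ.comp j) c key
    have h6 : c ^ S₁.index = c := by
      obtain ⟨m, hm⟩ := hodd'
      change c ^ (((S : Subgroup G).subgroupOf (normalizer (A : Set G))).subgroupOf (CN A)).index = c
      rw [hm, pow_succ, pow_mul, pow_two, hc2, one_pow, one_mul]
    have h7 : j ⟨c ^ S₁.index, MonoidHom.transfer_eq_pow_aux c key⟩ = ⟨a, haS⟩ := by
      apply Subtype.ext
      change ((((c ^ S₁.index : CN A)) : ↥(normalizer (A : Set G))) : G) = a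
      rw [h6]; rfl
    rw [MonoidHom.comp_apply, h7] at h4
    apply hχ
    rw [← h4]
    have h8 : sq (CN A) ≤ (MonoidHom.transfer (χ.comp j)).ker := by
      rw [sq, closure_le]
      rintro _ ⟨s, rfl⟩
      rw [SetLike.mem_coe, MonoidHom.mem_ker, map_mul]
      exact mulZMod_sq _
    exact h8 h3

/-- **Lemma P** (third form): if `A ≤ Z(S)` and some element of `A` lies outside of some subgroup of index two of
`S` then `S = A`. -/
theorem le_of_index_two (hC1 : C1 G)
    (hcent : ∀ a ∈ ClosedFam.fam 𝒜 (S : Subgroup G), ∀ s ∈ (S : Subgroup G), s * a = a * s)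
    {a : G} (ha : a ∈ ClosedFam.fam 𝒜 (S : Subgroup G)) {M : Subgroup G}
    (hM : M.relIndex (S : Subgroup G) = 2) (haM : a ∉ M) :
    (S : Subgroup G) ≤ ClosedFam.fam 𝒜 (S : Subgroup G) := by
  rcases le_or_le_sq h S hC1 hcent with h1 | h1
  · exact h1
  · exfalso
    obtain ⟨b, hb, hba⟩ := h1 ha
    have h2 : sq (S : Subgroup G) ≤ M.subgroupOf (S : Subgroup G) := by
      rw [sq, closure_le]
      rintro _ ⟨s, rfl⟩
      exact mul_self_mem_of_index_two (H := M.subgroupOf (S : Subgroup G)) hM s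
    apply haM
    rw [← hba]
    exact mem_subgroupOf.1 (h2 hb)

/-- **Lemma P** (fourth form): if `A ≤ Z(S)` then `S = A` or `A ≤ Φ(S)`. -/
theorem le_or_le_frattini (hC1 : C1 G)
    (hcent : ∀ a ∈ ClosedFam.fam 𝒜 (S : Subgroup G), ∀ s ∈ (S : Subgroup G), s * a = a * s) :
    (S : Subgroup G) ≤ ClosedFam.fam 𝒜 (S : Subgroup G) ∨
      ClosedFam.fam 𝒜 (S : Subgroup G) ≤ (frattini (S : Subgroup G)).map (S : Subgroup G).subtype :=
  (le_or_le_sq h S hC1 hcent).imp id fun h1 => h1.trans (map_mono (sq_le_frattini S.2))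

end

end Split

end Cfsg.Agent.TwoFusion.GoldP
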