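import Mathlib
import Cfsg.Agent.TwoFusion.GoldJComm
import Cfsg.Agent.TwoFusion.GoldP
import Cfsg.Agent.TwoFusion.GoldGlue
import Cfsg.Agent.TwoFusion.GoldJTwo

/-!
# Case (J) of Goldschmidt's theorem: the end

* `Uni A S x T K`: the data at `x ∈ A#` in the `U₃(4)` case, seen in the Sylow subgroup `S`;
* `false_of_uni`: two such data with different `K` are incompatible;
* `tcon_of_jData`: `JData` implies `TCon G`.
-/

set_option autoImplicit false
set_option linter.style.haveILetI false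

namespace Cfsg.Agent.TwoFusion.GoldJEnd

open Subgroup
open Cfsg.Agent.TwoFusion.ClosedFam Cfsg.Agent.TwoFusion.Gold Cfsg.Agent.TwoFusion.GoldU34
open Cfsg.Agent.TwoFusion.GoldSetup Cfsg.Agent.TwoFusion.GoldPairDefs Cfsg.Agent.TwoFusion.GoldGlue
open Cfsg.Agent.TwoFusion.GoldJIso Cfsg.Agent.TwoFusion.GoldJLocal

universe u

section Final

variable {G : Type u} [Group G] [Finite G]

/-- The `U₃(4)` data in `S`. -/
structure Uni (A S : Subgroup G) (x : G) (T K : Subgroup G) : Prop where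
  T_le : T ≤ S
  K_le : K ≤ T
  K_A : K ≤ A
  K_card : Nat.card K = 4
  normal : ∀ s ∈ S, ∀ t ∈ T, s * t * s⁻¹ ∈ T
  inv : ∀ t ∈ T, t * t = 1 → t ∈ K
  sq : ∀ t ∈ K, t * t = 1
  surj : ∀ t ∈ T, t ∉ K → ∀ z ∈ K, ∃ u ∈ T, t * u * t⁻¹ * u⁻¹ = z
  comm_mem : ∀ t ∈ T, ∀ u ∈ T, t * u * t⁻¹ * u⁻¹ ∈ K
  exists_not : ∃ t ∈ T, t ∉ K
  loc : ∀ z ∈ K, ∀ s ∈ S, ∀ s' ∈ S, (∀ t ∈ T, t * s * t⁻¹ * s⁻¹ = 1 ∨ t * s * t⁻¹ * s⁻¹ = z) →
    (∀ t ∈ T, t * s' * t⁻¹ * s'⁻¹ = 1 ∨ t * s' * t⁻¹ * s'⁻¹ = z) → s * s' * s⁻¹ * s'⁻¹ ∈ A →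
    s * s' * s⁻¹ * s'⁻¹ = 1 ∨ s * s' * s⁻¹ * s'⁻¹ = x

/-- A subgroup with at most the elements `1` and `z`. -/
theorem card_le_two {K : Subgroup G} {z : G} (h : ∀ w ∈ K, w = 1 ∨ w = z) : Nat.card K ≤ 2 := by
  classical
  have h3 : (K : Set G) ⊆ {1, z} := fun w hw => h w hw
  have h4 := Set.ncard_le_ncard h3 (Set.toFinite _)
  have h5 : ({1, z} : Set G).ncard ≤ 2 := by
    refine (Set.ncard_insert_le _ _).trans ?_
    rw [Set.ncard_singleton]
  exact h4.trans h5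

/-- The intersection of two different subgroups of order four. -/
theorem exists_inf {K K' : Subgroup G} (h1 : Nat.card K = 4) (h2 : Nat.card K' = 4) (hne : K ≠ K') :
    ∃ z ∈ K, ∀ w ∈ K, w ∈ K' → w = 1 ∨ w = z := by
  classical
  by_cases hb : K ⊓ K' = ⊥
  · refine ⟨1, one_mem _, fun w hw hw' => Or.inl ?_⟩
    have : w ∈ K ⊓ K' := ⟨hw, hw'⟩
    rwa [hb, mem_bot] at this
  obtain ⟨⟨z, hz⟩, hz1⟩ := Subgroup.ne_bot_iff_exists_ne_one.1 hb
  refine ⟨z, hz.1, fun w hw hw' => ?_⟩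
  have hd : Nat.card ↥(K ⊓ K') ∣ 4 := h1 ▸ card_dvd_of_le inf_le_left
  have hle : Nat.card ↥(K ⊓ K') ≤ 2 := by
    have h3 := Nat.le_of_dvd (by norm_num) hd
    have h4 : Nat.card ↥(K ⊓ K') ≠ 4 := by
      intro h4
      apply hne
      have e1 : K ⊓ K' = K := eq_of_le_of_card_ge inf_le_left (by rw [h4, h1])
      have e2 : K ⊓ K' = K' := eq_of_le_of_card_ge inf_le_right (by rw [h4, h2])
      rw [← e1]; exact e2
    have h5 : Nat.card ↥(K ⊓ K') ≠ 3 := by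
      intro h5
      rw [h5] at hd
      omega
    omega
  by_contra hcon
  push Not at hcon
  have h6 : ({1, z, w} : Set G) ⊆ (K ⊓ K' : Subgroup G) := by
    rintro y (rfl | rfl | rfl)
    · exact one_mem _
    · exact hz
    · exact ⟨hw, hw'⟩
  have h7 := Set.ncard_le_ncard h6 (Set.toFinite _)
  have hz1' : z ≠ 1 := fun e => hz1 (Subtype.ext e)
  have h8 : ({1, z, w} : Set G).ncard = 3 := by
    rw [Set.ncard_eq_three]
    exact ⟨1, z, w, hz1'.symm, fun e => hcon.1 e.symm, fun e => hcon.2 e.symm, rfl⟩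
  rw [h8] at h7
  have h9 : ((K ⊓ K' : Subgroup G) : Set G).ncard = Nat.card ↥(K ⊓ K') := rfl
  omega

/-- Two data with different `K` are incompatible. -/
theorem false_of_uni {A S : Subgroup G} {x y : G} {T K T' K' : Subgroup G} (h : Uni A S x T K)
    (h' : Uni A S y T' K') (hne : K ≠ K') : False := by
  classical
  -- `T ∩ T' ≤ K ∩ K'`
  have key : ∀ {x y : G} {T K T' K' : Subgroup G}, Uni A S x T K → Uni A S y T' K' → K ≠ K' →
      ∀ t ∈ T, t ∈ T' → t ∈ K := by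
    intro x y T K T' K' h h' hne t ht ht'
    by_contra hcon
    apply hne
    apply eq_of_le_of_card_ge
    · intro z hz
      obtain ⟨u, hu, e⟩ := h.surj t ht hcon z hz
      apply h'.inv z _ (h.sq z hz)
      rw [← e]
      have e2 : t * u * t⁻¹ * u⁻¹ = t * (u * t⁻¹ * u⁻¹) := by group
      rw [e2]
      exact mul_mem ht' (h'.normal u (h.T_le hu) _ (inv_mem ht'))
    · rw [h.K_card, h'.K_card]
  obtain ⟨z, hz, hzz⟩ := exists_inf h.K_card h'.K_card hne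
  have hTT : ∀ t ∈ T, ∀ s ∈ T', t * s * t⁻¹ * s⁻¹ = 1 ∨ t * s * t⁻¹ * s⁻¹ = z := by
    intro t ht s hs
    have h1 : t * s * t⁻¹ * s⁻¹ ∈ T := by
      have e : t * s * t⁻¹ * s⁻¹ = t * (s * t⁻¹ * s⁻¹) := by group
      rw [e]
      exact mul_mem ht (h.normal s (h'.T_le hs) _ (inv_mem ht))
    have h2 : t * s * t⁻¹ * s⁻¹ ∈ T' := mul_mem (h'.normal t (h.T_le ht) s hs) (inv_mem hs)
    exact hzz _ (key h h' hne _ h1 h2) (key h' h hne.symm _ h2 h1)
  have hK' : ∀ w ∈ K', w = 1 ∨ w = x := by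
    intro w hw
    obtain ⟨s, hs, hsK⟩ := h'.exists_not
    obtain ⟨s', hs', e⟩ := h'.surj s hs hsK w hw
    have h1 := h.loc z hz s (h'.T_le hs) s' (h'.T_le hs') (fun t ht => hTT t ht s hs)
      (fun t ht => hTT t ht s' hs') (h'.K_A (h'.comm_mem s hs s' hs'))
    rwa [e] at h1
  have := card_le_two hK'
  rw [h'.K_card] at this
  omega

end Final

section Transport

variable {G : Type u} [Group G] [Finite G] {𝒜 : Set G} (h : Setup 𝒜) (S : Sylow 2 G)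
  {K : Subgroup G → Subgroup G} (hJ : JData 𝒜 (fam 𝒜 (S : Subgroup G)) K)

omit [Finite G] in
include h hJ in
/-- `A ≤ Z(S)`. -/
theorem central : ∀ a ∈ fam 𝒜 (S : Subgroup G), ∀ s ∈ (S : Subgroup G), s * a = a * s := by
  intro a ha s hs
  set A := fam 𝒜 (S : Subgroup G) with hA
  have hsN : s ∈ normalizer (A : Set G) := h.le_normalizer S hs
  set φ := A.normalizerMonoidHom ⟨s, hsN⟩ with hφ
  obtain ⟨k, hk⟩ := S.2 ⟨s, hs⟩
  have hk' : s ^ 2 ^ k = 1 := congrArg Subtype.val hk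
  have h1 : φ ^ 2 ^ k = 1 := by
    rw [hφ, ← map_pow]
    have : (⟨s, hsN⟩ : ↥(normalizer (A : Set G))) ^ 2 ^ k = 1 := Subtype.ext hk'
    rw [this, map_one]
  have h2 : orderOf φ ∣ Nat.card A.normalizerMonoidHom.range := by
    have := orderOf_dvd_natCard (⟨φ, ⟨_, rfl⟩⟩ : A.normalizerMonoidHom.range)
    rw [← Subgroup.orderOf_coe] at this
    exact this
  have h3 : φ = 1 := by
    rw [← orderOf_eq_one_iff]
    have h4 : orderOf φ ∣ 2 ^ k := orderOf_dvd_of_pow_eq_one h1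
    have h5 : Nat.Coprime (2 ^ k) (Nat.card A.normalizerMonoidHom.range) :=
      (Nat.coprime_two_left.mpr hJ.odd).pow_left k
    exact Nat.eq_one_of_dvd_coprimes h5 h4 h2
  have h4 : ((φ ⟨a, ha⟩ : A) : G) = a := by rw [h3]; rfl
  have h5 : ((φ ⟨a, ha⟩ : A) : G) = s * a * s⁻¹ := rfl
  rw [h5] at h4
  calc s * a = (s * a * s⁻¹) * s := by group
    _ = a * s := by rw [h4]

variable {S}

/-- The image of `S` in `X_x`. -/
noncomputable def Px {x : G} (hx : (S : Subgroup G) ≤ Cw x) : Sylow 2 (Xw x) :=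
  haveI : Fact (Nat.Prime 2) := ⟨Nat.prime_two⟩
  (S.subtype hx).mapSurjective (pw_surjective x)

theorem mem_Px {x : G} (hx : (S : Subgroup G) ≤ Cw x) {y : Xw x} :
    y ∈ Px hx ↔ ∃ s, ∃ hs : s ∈ (S : Subgroup G), pw x ⟨s, hx hs⟩ = y := by
  constructor
  · rintro ⟨⟨s, hsC⟩, hs, rfl⟩
    exact ⟨s, hs, rfl⟩
  · rintro ⟨s, hs, rfl⟩
    exact ⟨⟨s, hx hs⟩, hs, rfl⟩

theorem pw_inj {x : G} (hx : (S : Subgroup G) ≤ Cw x) {s t : G} (hs : s ∈ (S : Subgroup G))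
    (ht : t ∈ (S : Subgroup G)) (e : pw x ⟨s, hx hs⟩ = pw x ⟨t, hx ht⟩) : s = t := by
  have h1 : (⟨s, hx hs⟩ : ↥(Cw x)) * (⟨t, hx ht⟩)⁻¹ ∈ Cfsg.oddCore ↥(Cw x) := by
    rw [← pw_eq_one, map_mul, map_inv, e, mul_inv_cancel]
  have h2 : s * t⁻¹ ∈ core (Cw x) := ⟨_, h1, rfl⟩
  have h3 := GoldBridge.inf_core (H := Cw x) (A := (S : Subgroup G)) S.2 (mul_mem hs (inv_mem ht)) h2
  exact mul_inv_eq_one.1 h3

include h in
theorem mem_fam_Px {x : G} (hx : (S : Subgroup G) ≤ Cw x) {a : Xw x} (ha : a ∈ push 𝒜 (Cw x))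
    (haP : a ∈ Px hx) :
    ∃ b, ∃ hb : b ∈ fam 𝒜 (S : Subgroup G), pw x ⟨b, hx (fam_le _ _ hb)⟩ = a := by
  classical
  haveI : Fact (Nat.Prime 2) := ⟨Nat.prime_two⟩
  set A := fam 𝒜 (S : Subgroup G) with hA
  have hAC : A ≤ Cw x := (fam_le _ _).trans hx
  obtain ⟨P, hP⟩ := GoldSolid.exists_sylow_push h.fam S hAC
  have hpush := h.fam.push (Cw x)
  obtain ⟨g, hg⟩ := MulAction.exists_smul_eq (Xw x) P (Px hx)
  have hc1 : Nat.card (fam (push 𝒜 (Cw x)) ((Px hx : Sylow 2 (Xw x)) : Subgroup (Xw x))) ≤ Nat.card A := by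
    have e1 : ((Px hx : Sylow 2 (Xw x)) : Subgroup (Xw x)) =
        (P : Subgroup (Xw x)).map (MulAut.conj g).toMonoidHom := by rw [← hg]; rfl
    rw [e1, ← hpush.toIsClosedFam.map_conj_fam, hP]
    calc Nat.card ↥(((A.subgroupOf (Cw x)).map (QuotientGroup.mk' (Cfsg.oddCore ↥(Cw x)))).map
          (MulAut.conj g).toMonoidHom) ≤ Nat.card ↥((A.subgroupOf (Cw x)).map
          (QuotientGroup.mk' (Cfsg.oddCore ↥(Cw x)))) := Nat.card_image_le (Set.toFinite _)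
      _ ≤ Nat.card ↥(A.subgroupOf (Cw x)) := Nat.card_image_le (Set.toFinite _)
      _ = Nat.card A := Nat.card_congr (subgroupOfEquivOfLe hAC).toEquiv
  let φ : A → fam (push 𝒜 (Cw x)) ((Px hx : Sylow 2 (Xw x)) : Subgroup (Xw x)) := fun b =>
    ⟨pw x ⟨b, hAC b.2⟩, mem_fam ⟨⟨b, hAC b.2⟩, ((h.mem_iff S).1 b.2).1, rfl⟩
      ((mem_Px hx).2 ⟨b, fam_le _ _ b.2, rfl⟩)⟩
  have hφ : Function.Injective φ := by
    intro b c e
    have e' : pw x ⟨b, hAC b.2⟩ = pw x ⟨c, hAC c.2⟩ := congrArg Subtype.val e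
    exact Subtype.ext (pw_inj hx (fam_le _ _ b.2) (fam_le _ _ c.2) e')
  have hφ2 : Function.Bijective φ := hφ.bijective_of_nat_card_le hc1
  obtain ⟨b, hb⟩ := hφ2.2 ⟨a, mem_fam ha haP⟩
  exact ⟨b, b.2, congrArg Subtype.val hb⟩

/-- The image of a subgroup of `S`. -/
def im (x : G) (B : Subgroup G) : Subgroup (Xw x) := (B.subgroupOf (Cw x)).map (pw x)

omit [Finite G] in
theorem mem_im {x : G} {B : Subgroup G} (hB : B ≤ Cw x) {y : Xw x} :
    y ∈ im x B ↔ ∃ b, ∃ hb : b ∈ B, pw x ⟨b, hB hb⟩ = y := by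
  constructor
  · rintro ⟨⟨b, hbC⟩, hb, rfl⟩
    exact ⟨b, hb, rfl⟩
  · rintro ⟨b, hb, rfl⟩
    exact ⟨⟨b, hB hb⟩, hb, rfl⟩

include h hJ in
/-- The local situation. -/
theorem exists_loc (hBen : ∀ (L : Type u) [Group L] [Finite L] [IsSimpleGroup L],
    (∃ a b : L, a * b ≠ b * a) → Ben L) {x : G} (hxA : x ∈ fam 𝒜 (S : Subgroup G)) (hx1 : x ≠ 1) :
    ∃ (hx : (S : Subgroup G) ≤ Cw x) (M : Subgroup (Xw x)),
      Loc (push 𝒜 (Cw x)) (Px hx) (pw x ⟨x, hx (fam_le _ _ hxA)⟩) M (im x (K (zpowers x))) := by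
  classical
  have hcen := central h S hJ
  set A := fam 𝒜 (S : Subgroup G) with hA
  have hx : (S : Subgroup G) ≤ Cw x := by
    intro s hs
    rw [mem_Cw]
    exact (hcen x hxA s hs).symm
  have hAS : A ≤ (S : Subgroup G) := fam_le _ _
  obtain ⟨M, hM, hMD, hMK⟩ := hJ.pair x hxA hx1
  have hctx := h.ctxCent hx1
  set k := K (zpowers x) with hk
  have hkA : k ≤ A := hJ.Kle x hxA hx1
  have hkC : k ≤ Cw x := hkA.trans (hAS.trans hx)
  have hx𝒜 : x ∈ 𝒜 := ((h.mem_iff S).1 hxA).1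
  have hk4 : Nat.card k = 4 := hJ.Kcard x hxA hx1
  have hxk : x ∉ k := hJ.notMem x hxA hx1
  have hxx : x * x = 1 := h.sq S x hxA
  have hindex : (k.subgroupOf A).index = 2 := by
    have e1 := (k.subgroupOf A).card_mul_index
    rw [Nat.card_congr (subgroupOfEquivOfLe hkA).toEquiv, hk4, hJ.card_A] at e1
    omega
  haveI : IsSimpleGroup (↥M ⧸ center ↥M) := hM.comp.2.2
  refine ⟨hx, M, ?_⟩
  refine
  { fam := hctx.fam
    core := hctx.core
    T := hctx.T M hM.comp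
    ben := hBen _ (GoldSolid.quasisimple_nonab hM.comp.2)
    cen := ?_
    comp := hM.comp
    x_mem := ⟨⟨x, hx (hAS hxA)⟩, hx𝒜, rfl⟩
    x_ne := ?_
    x_cen := ?_
    B_fam := ?_
    B_P := ?_
    B_L := ?_
    B_card := ?_
    x_not := ?_
    split := ?_
    cent := ?_ }
  · intro a ha haP s hs
    obtain ⟨b, hb, rfl⟩ := mem_fam_Px h hx ha haP
    obtain ⟨s, hs', rfl⟩ := (mem_Px hx).1 hs
    rw [← map_mul, ← map_mul]
    congr 1
    exact Subtype.ext (hcen b hb s hs')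
  · intro e
    apply hx1
    apply pw_inj hx (hAS hxA) (one_mem _)
    rw [e]
    exact (map_one (pw x)).symm
  · intro y
    obtain ⟨y, rfl⟩ := pw_surjective x y
    rw [← map_mul, ← map_mul]
    congr 1
    exact Subtype.ext (mem_Cw.1 y.2).symm
  · intro b hb0
    obtain ⟨b, hb, rfl⟩ := (mem_im hkC).1 hb0
    exact ⟨⟨b, hkC hb⟩, ((h.mem_iff S).1 (hkA hb)).1, rfl⟩
  · intro b hb0
    obtain ⟨b, hb, rfl⟩ := (mem_im hkC).1 hb0
    exact (mem_Px hx).2 ⟨b, hAS (hkA hb), rfl⟩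
  · intro b hb0
    obtain ⟨b, hb, rfl⟩ := (mem_im hkC).1 hb0
    obtain ⟨hb', hbM⟩ := hMK b hb
    exact hbM
  · rw [← hk4]
    refine (Nat.card_congr (Equiv.ofBijective (fun b : k => (⟨pw x ⟨b, hkC b.2⟩,
      (mem_im hkC).2 ⟨b, b.2, rfl⟩⟩ : im x k)) ⟨?_, ?_⟩)).symm
    · rintro b c e
      have e' : pw x ⟨b, hkC b.2⟩ = pw x ⟨c, hkC c.2⟩ := congrArg Subtype.val e
      exact Subtype.ext (pw_inj hx (hAS (hkA b.2)) (hAS (hkA c.2)) e')
    · rintro ⟨y, hy⟩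
      obtain ⟨b, hb, rfl⟩ := (mem_im hkC).1 hy
      exact ⟨⟨b, hb⟩, rfl⟩
  · intro e
    obtain ⟨b, hb, e⟩ := (mem_im hkC).1 e
    have := pw_inj hx (hAS (hkA hb)) (hAS hxA) e
    exact hxk (this ▸ hb)
  · intro a ha haP
    obtain ⟨b, hb, rfl⟩ := mem_fam_Px h hx ha haP
    by_cases hbk : b ∈ k
    · exact ⟨_, (mem_im hkC).2 ⟨b, hbk, rfl⟩, Or.inl rfl⟩
    · have h1 : b * x ∈ k := by
        have h2 := mul_mem_iff_of_index_two (a := (⟨b, hb⟩ : A)) (b := ⟨x, hxA⟩) hindex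
        have h3 : ((⟨b, hb⟩ : A) * ⟨x, hxA⟩ ∈ k.subgroupOf A) := h2.2
          ⟨fun h4 => absurd h4 hbk, fun h4 => absurd h4 hxk⟩
        exact h3
      refine ⟨_, (mem_im hkC).2 ⟨b * x, h1, rfl⟩, Or.inr ?_⟩
      rw [← map_mul]
      congr 1
      apply Subtype.ext
      change b = b * x * x
      rw [mul_assoc, hxx, mul_one]
  · intro a ha haP hc
    obtain ⟨b, hb, rfl⟩ := mem_fam_Px h hx ha haP
    have h1 : b ∈ DD A x M := by
      rw [mem_DD]
      refine ⟨hb, hx (hAS hb), ?_⟩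
      rw [mem_centralizer_iff]
      intro m hm
      exact (hc m hm).symm
    rw [hMD] at h1
    obtain ⟨n, rfl⟩ := mem_zpowers_iff.1 h1
    have h4 : (x : G) ^ n = 1 ∨ x ^ n = x := by
      have h5 : x ^ 2 = 1 := by rw [pow_two]; exact hxx
      rcases Int.even_or_odd n with ⟨m, hm⟩ | ⟨m, hm⟩
      · left
        rw [hm, ← two_mul, zpow_mul]
        have : x ^ (2 : ℤ) = 1 := by exact_mod_cast h5
        rw [this, one_zpow]
      · right
        rw [hm, zpow_add, zpow_mul, zpow_one]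
        have : x ^ (2 : ℤ) = 1 := by exact_mod_cast h5
        rw [this, one_zpow, one_mul]
    rcases h4 with h4 | h4
    · left
      have : (⟨x ^ n, hx (hAS hb)⟩ : ↥(Cw x)) = 1 := Subtype.ext h4
      rw [this, map_one]
    · right
      congr 1
      exact Subtype.ext h4

include h in
/-- The data in `S`. -/
theorem uni_of_loc {x : G} (hxA : x ∈ fam 𝒜 (S : Subgroup G)) {k : Subgroup G}
    (hkA : k ≤ fam 𝒜 (S : Subgroup G)) (hk4 : Nat.card k = 4) (hx : (S : Subgroup G) ≤ Cw x)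
    {M : Subgroup (Xw x)}
    (hl : Loc (push 𝒜 (Cw x)) (Px hx) (pw x ⟨x, hx (fam_le _ _ hxA)⟩) M (im x k))
    (hd : U34Data M (((Px hx : Sylow 2 (Xw x)) : Subgroup (Xw x)) ⊓ M) (im x k)) :
    ∃ T, Uni (fam 𝒜 (S : Subgroup G)) (S : Subgroup G) x T k := by
  classical
  set A := fam 𝒜 (S : Subgroup G) with hA
  have hAS : A ≤ (S : Subgroup G) := fam_le _ _
  have hkC : k ≤ Cw x := hkA.trans (hAS.trans hx)
  have hkS : k ≤ (S : Subgroup G) := hkA.trans hAS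
  have hMn := hl.normal
  -- the map
  let φ : (S : Subgroup G) →* Xw x := (pw x).comp (inclusion hx)
  have hφ : ∀ s : (S : Subgroup G), φ s = pw x ⟨s, hx s.2⟩ := fun s => rfl
  have hinj : Function.Injective φ := fun s t e => Subtype.ext (pw_inj hx s.2 t.2 e)
  have hφP : ∀ s : (S : Subgroup G), φ s ∈ Px hx := fun s => (mem_Px hx).2 ⟨s, s.2, rfl⟩
  have hlift : ∀ y ∈ Px hx, ∃ s : (S : Subgroup G), φ s = y := by
    intro y hy
    obtain ⟨s, hs, rfl⟩ := (mem_Px hx).1 hy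
    exact ⟨⟨s, hs⟩, rfl⟩
  have hkim : ∀ s : (S : Subgroup G), φ s ∈ im x k ↔ (s : G) ∈ k := by
    intro s
    constructor
    · intro hs
      obtain ⟨b, hb, e⟩ := (mem_im hkC).1 hs
      have := pw_inj hx (hkS hb) s.2 e
      rw [← this]; exact hb
    · intro hs
      exact (mem_im hkC).2 ⟨s, hs, rfl⟩
  set T' : Subgroup (S : Subgroup G) := M.comap φ with hT'
  have hmemT' : ∀ s : (S : Subgroup G), s ∈ T' ↔ φ s ∈ M := fun s => Iff.rfl
  have hPM : ∀ s ∈ T', φ s ∈ ((Px hx : Sylow 2 (Xw x)) : Subgroup (Xw x)) ⊓ M := fun s hs =>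
    ⟨hφP s, hs⟩
  have hmem : ∀ (s : G) (hs : s ∈ (S : Subgroup G)), s ∈ T'.map (S : Subgroup G).subtype ↔ (⟨s, hs⟩ : (S : Subgroup G)) ∈ T' := by
    intro s hs
    constructor
    · rintro ⟨t, ht, rfl⟩; exact ht
    · intro h; exact ⟨_, h, rfl⟩
  refine ⟨T'.map (S : Subgroup G).subtype, ?_⟩
  refine
  { T_le := ?_
    K_le := ?_
    K_A := hkA
    K_card := hk4
    normal := ?_
    inv := ?_
    sq := fun t ht => h.sq S t (hkA ht)
    surj := ?_
    comm_mem := ?_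
    exists_not := ?_
    loc := ?_ }
  · rintro _ ⟨t, -, rfl⟩; exact t.2
  · intro b hb
    rw [hmem b (hkS hb), hmemT']
    exact hl.B_L ((hkim ⟨b, hkS hb⟩).2 hb)
  · rintro s hs _ ⟨t, ht, rfl⟩
    refine ⟨⟨s, hs⟩ * t * ⟨s, hs⟩⁻¹, ?_, rfl⟩
    rw [SetLike.mem_coe, hmemT', map_mul, map_mul, map_inv]
    exact hMn.conj_mem _ ht _
  · rintro _ ⟨t, ht, rfl⟩ e
    apply (hkim t).1
    apply hd.inv _ (hPM t ht)
    rw [← map_mul]
    have : t * t = 1 := Subtype.ext e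
    rw [this, map_one]
  · rintro _ ⟨t, ht, rfl⟩ htk z hz
    have h1 : φ t ∉ im x k := fun e => htk ((hkim t).1 e)
    obtain ⟨u', hu', e⟩ := hd.surj _ (hPM t ht) h1 _ ((hkim ⟨z, hkS hz⟩).2 hz)
    obtain ⟨u, rfl⟩ := hlift u' hu'.1
    refine ⟨u, ⟨u, hu'.2, rfl⟩, ?_⟩
    rw [← map_inv, ← map_inv, ← map_mul, ← map_mul, ← map_mul] at e
    exact congrArg Subtype.val (hinj e)
  · rintro _ ⟨t, ht, rfl⟩ _ ⟨u, hu, rfl⟩
    have h1 := hd.comm_mem _ (hPM t ht) _ (hPM u hu)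
    rw [← map_inv, ← map_inv, ← map_mul, ← map_mul, ← map_mul, hkim] at h1
    exact h1
  · obtain ⟨y, hy, hyk⟩ : ∃ y ∈ ((Px hx : Sylow 2 (Xw x)) : Subgroup (Xw x)) ⊓ M, y ∉ im x k := by
      by_contra hcon
      push Not at hcon
      have h1 : ((Px hx : Sylow 2 (Xw x)) : Subgroup (Xw x)) ⊓ M ≤ im x k := hcon
      have h2 := Nat.card_le_card_of_injective _ (inclusion_injective h1)
      rw [hd.card_T, hd.card_Z] at h2
      omega
    obtain ⟨t, rfl⟩ := hlift y hy.1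
    exact ⟨t, ⟨t, hy.2, rfl⟩, fun e => hyk ((hkim t).2 e)⟩
  · intro z hz s hs s' hs' h1 h2 h3
    have key : ∀ u (hu : u ∈ (S : Subgroup G)),
        (∀ t ∈ T'.map (S : Subgroup G).subtype, t * u * t⁻¹ * u⁻¹ = 1 ∨ t * u * t⁻¹ * u⁻¹ = z) →
        ∀ t ∈ Px hx, t ∈ M → t * φ ⟨u, hu⟩ * t⁻¹ * (φ ⟨u, hu⟩)⁻¹ = 1 ∨
          t * φ ⟨u, hu⟩ * t⁻¹ * (φ ⟨u, hu⟩)⁻¹ = φ ⟨z, hkS hz⟩ := by
      intro u hu hut t ht htM
      obtain ⟨t, rfl⟩ := hlift t ht
      rw [← map_inv, ← map_inv, ← map_mul, ← map_mul, ← map_mul]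
      rcases hut t ⟨t, htM, rfl⟩ with e | e
      · left
        have : t * ⟨u, hu⟩ * t⁻¹ * (⟨u, hu⟩ : (S : Subgroup G))⁻¹ = 1 := Subtype.ext e
        rw [this, map_one]
      · right
        congr 1
        exact Subtype.ext e
    have h4 := hl.comm_eq hd (z := φ ⟨z, hkS hz⟩) ((hkim ⟨z, hkS hz⟩).2 hz) (hφP ⟨s, hs⟩) (hφP ⟨s', hs'⟩)
      (key s hs h1) (key s' hs' h2) (by
        rw [← map_inv, ← map_inv, ← map_mul, ← map_mul, ← map_mul]
        exact ⟨⟨s * s' * s⁻¹ * s'⁻¹, hx (hAS h3)⟩, ((h.mem_iff S).1 h3).1, rfl⟩)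
    rw [← map_inv, ← map_inv, ← map_mul, ← map_mul, ← map_mul] at h4
    rcases h4 with e | e
    · left
      have := hinj (e.trans (map_one φ).symm)
      exact congrArg Subtype.val this
    · right
      have e' : φ (⟨s, hs⟩ * ⟨s', hs'⟩ * (⟨s, hs⟩ : (S : Subgroup G))⁻¹ * (⟨s', hs'⟩ : (S : Subgroup G))⁻¹) =
        φ ⟨x, hAS hxA⟩ := e
      exact congrArg Subtype.val (hinj e')

include h hJ in
/-- **Case (J)**. -/
theorem tcon_of_jData (hC1 : GoldP.C1 G)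
    (hBen : ∀ (L : Type u) [Group L] [Finite L] [IsSimpleGroup L],
      (∃ a b : L, a * b ≠ b * a) → Ben L) : TCon G := by
  classical
  set A := fam 𝒜 (S : Subgroup G) with hA
  have hAS : A ≤ (S : Subgroup G) := fam_le _ _
  -- it is enough to show `S ≤ A`
  suffices hSA : (S : Subgroup G) ≤ A by
    refine h.tcon_of_eq S hSA ?_
    intro x hx y hy hx1 hy1
    obtain ⟨n, -, e⟩ := hJ.trans x hx y hy hx1 hy1
    exact ⟨n, e⟩
  by_cases hall : ∀ x ∈ A, x ≠ 1 → ∃ T, Uni A (S : Subgroup G) x T (K (zpowers x))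
  · exfalso
    obtain ⟨x, hx, hx1⟩ : ∃ x ∈ A, x ≠ 1 := by
      by_contra hcon
      push Not at hcon
      have : A = ⊥ := by rw [eq_bot_iff]; intro y hy; exact mem_bot.2 (hcon y hy)
      have h8 := hJ.card_A
      rw [this, card_bot] at h8
      omega
    obtain ⟨y, hy, hy1, hyx⟩ : ∃ y ∈ A, y ≠ 1 ∧ y ≠ x := by
      by_contra hcon
      push Not at hcon
      have h2 := card_le_two (K := A) (z := x) (fun w hw => by
        by_cases hw1 : w = 1
        · exact Or.inl hw1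
        · exact Or.inr (hcon w hw hw1))
      rw [hJ.card_A] at h2
      omega
    obtain ⟨T, hT⟩ := hall x hx hx1
    obtain ⟨T', hT'⟩ := hall y hy hy1
    refine false_of_uni hT hT' ?_
    intro e
    have h1 : x ∉ K (zpowers y) := by rw [← e]; exact hJ.notMem x hx hx1
    have h2 := hJ.tour₂ x hx y hy hx1 hy1 hyx.symm h1
    rw [e] at h2
    exact hJ.notMem y hy hy1 h2
  · push Not at hall
    obtain ⟨x, hxA, hx1, hno⟩ := hall
    obtain ⟨hx, M, hl⟩ := exists_loc h hJ hBen hxA hx1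
    obtain ⟨hZ, hcase⟩ := hl.main
    have hkA := hJ.Kle x hxA hx1
    rcases hcase with hPM | hd
    · -- the elementary case
      set k := K (zpowers x) with hk
      have hkC : k ≤ Cw x := hkA.trans (hAS.trans hx)
      have hin : ∀ t, t ∈ Px hx → t ∈ M → t ∈ im x k := by
        intro t ht htM
        rw [← hPM]
        exact ⟨ht, htM⟩
      obtain ⟨N, hNP, hNi, a, haP, haM, haN⟩ := GoldJTwo.exists_index_two (Px hx) hl.normal
        (by rw [hPM]; exact hl.B_card)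
        (fun t ht htM => hl.fam.sq t (hl.B_fam t (hin t ht htM)))
        (fun t ht htM s hs => hl.cen t (hl.B_fam t (hin t ht htM)) ht s hs)
        (fun u hu v hv huM hvM hu1 hv1 => hl.conj hZ huM hvM
          (hl.fam.sq u (hl.B_fam u (hin u hu huM))) (hl.fam.sq v (hl.B_fam v (hin v hv hvM))) hu1 hv1)
      obtain ⟨b, hb, e⟩ := (mem_im hkC).1 (hin a haP haM)
      -- pull back to `S`
      let φ : (S : Subgroup G) →* ((Px hx : Sylow 2 (Xw x)) : Subgroup (Xw x)) :=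
        ((pw x).comp (inclusion hx)).codRestrict _ (fun s => (mem_Px hx).2 ⟨s, s.2, rfl⟩)
      have hφs : Function.Surjective φ := by
        rintro ⟨y, hy⟩
        obtain ⟨s, hs, rfl⟩ := (mem_Px hx).1 hy
        exact ⟨⟨s, hs⟩, rfl⟩
      set N' : Subgroup (S : Subgroup G) :=
        (N.subgroupOf ((Px hx : Sylow 2 (Xw x)) : Subgroup (Xw x))).comap φ with hN'
      have hN'i : N'.index = 2 := by
        rw [hN', index_comap_of_surjective _ hφs]
        exact hNi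
      have hrel : (N'.map (S : Subgroup G).subtype).relIndex (S : Subgroup G) = 2 := by
        rw [relIndex, subgroupOf, comap_map_eq_self_of_injective (S : Subgroup G).subtype_injective]
        exact hN'i
      refine GoldP.le_of_index_two h S hC1 (central h S hJ) (hkA hb) hrel ?_
      rintro ⟨b', hb', e'⟩
      have hbS : b ∈ (S : Subgroup G) := hAS (hkA hb)
      have e2 : b' = ⟨b, hbS⟩ := Subtype.ext e'
      rw [e2] at hb'
      apply haN
      rw [← e]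
      exact hb'
    · obtain ⟨T, hT⟩ := uni_of_loc h hxA hkA (hJ.Kcard x hxA hx1) hx hl hd
      exact absurd hT (hno T)

end Transport

end Cfsg.Agent.TwoFusion.GoldJEnd
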