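import Mathlib
import Cfsg.Agent.Classification.TypeB.Core

/-!
# Case [M1] of Goldschmidt's theorem (S1169): the local frame

`G` is a simple group with a Sylow 2-subgroup `S` of the type of `PSU(3,4)`, `A = Z(S) = Ω₁(S)` a four-group,
`g0 ∈ N_G(S)` permutes the involutions of `A` cyclically.  `Frame S A g0` collects the facts which hold in a minimal
counterexample without strongly embedded subgroup.  The target is `C_G(x) = C_G(A)` for `x ∈ A`, `x ≠ 1`.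
-/

set_option autoImplicit false

namespace Cfsg.Agent.TwoFusion.GoldM1

open Subgroup
open Cfsg.Agent.Classification.TypeB.Core (oc)

/-- The local frame of case [M1]. -/
structure Frame {G : Type*} [Group G] (S A : Subgroup G) (g0 : G) : Prop where
  /-- `G` is simple -/
  simple : ∀ N : Subgroup G, N.Normal → N = ⊥ ∨ N = ⊤
  /-- the odd order theorem -/
  solv : ∀ X : Subgroup G, Odd (Nat.card X) → Group.IsSolvable X
  cardS : Nat.card S = 64
  /-- `S` is a Sylow 2-subgroup -/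
  sylow : ¬ 2 ∣ S.index
  AS : A ≤ S
  cardA : Nat.card A = 4
  cen : ∀ x ∈ A, ∀ s ∈ S, x * s = s * x
  sq : ∀ x ∈ A, x * x = 1
  inv : ∀ s ∈ S, s * s = 1 → s ∈ A
  comm : ∀ s ∈ S, ∀ u ∈ S, s * u * s⁻¹ * u⁻¹ ∈ A
  surj : ∀ s ∈ S, s ∉ A → ∀ x ∈ A, ∃ u ∈ S, s * u * s⁻¹ * u⁻¹ = x
  g0S : g0 ∈ normalizer (S : Set G)
  g0A : ∀ x ∈ A, g0 * x * g0⁻¹ ∈ A
  g0_fpf : ∀ x ∈ A, g0 * x = x * g0 → x = 1
  /-- `C(x) = O(C(x)) C(A)` -/
  fact : ∀ x ∈ A, x ≠ 1 →
    centralizer ({x} : Set G) ≤ oc (centralizer ({x} : Set G)) ⊔ centralizer (A : Set G)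
  /-- `O(C(A)) S` is normal in `C(A)` -/
  normCA : centralizer (A : Set G) ≤
    normalizer ((oc (centralizer (A : Set G)) ⊔ S : Subgroup G) : Set G)
  /-- the quotient `C(A) / O(C(A)) S` has order 1 or 5 -/
  indexCA : (oc (centralizer (A : Set G)) ⊔ S).relIndex (centralizer (A : Set G)) = 1 ∨
    (oc (centralizer (A : Set G)) ⊔ S).relIndex (centralizer (A : Set G)) = 5
  /-- (INV): `S`-invariant subgroups of odd order of a proper subgroup `H ≥ S` lie in `O(H)` -/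
  invCore : ∀ H : Subgroup G, H ≠ ⊤ → S ≤ H → ∀ Y ≤ H, Odd (Nat.card Y) →
    S ≤ normalizer (Y : Set G) → Y ≤ oc H
  /-- type I or type F -/
  type : ∀ H : Subgroup G, H ≠ ⊤ → S ≤ H → (∀ x ∈ A, ∀ h ∈ H, h * x * h⁻¹ * x⁻¹ ∈ oc H) ∨
    (∃ g ∈ H, g ∈ normalizer (S : Set G) ∧ ∀ x ∈ A, g * x * g⁻¹ = g0 * x * g0⁻¹)
  /-- no proper subgroup contains `C(x)` and `C(y)` for different `x`, `y` in `A` (otherwise there is a strongly
  embedded subgroup): proper overgroups of `C(x)` are of type I -/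
  emb : ∀ H : Subgroup G, H ≠ ⊤ → ∀ x ∈ A, x ≠ 1 → centralizer ({x} : Set G) ≤ H →
    ¬ ∃ g ∈ H, g ∈ normalizer (S : Set G) ∧ ∀ x ∈ A, g * x * g⁻¹ = g0 * x * g0⁻¹
  /-- no section `SL(2,p)`, `p` odd -/
  sl : ∀ p : ℕ, p.Prime → p ≠ 2 → ¬ ∃ (H K : Subgroup G) (_ : (K.subgroupOf H).Normal),
    Nonempty ((H ⧸ K.subgroupOf H) ≃* Matrix.SpecialLinearGroup (Fin 2) (ZMod p))

/-- `H` is of type I: the elements of `A` are central modulo `O(H)`. -/
def TypeI {G : Type*} [Group G] (A H : Subgroup G) : Prop :=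
  ∀ x ∈ A, ∀ h ∈ H, h * x * h⁻¹ * x⁻¹ ∈ oc H

/-- `H` is of type F: `H` contains an element of `N(S)` which permutes `A` like `g0`. -/
def TypeF {G : Type*} [Group G] (S A : Subgroup G) (g0 : G) (H : Subgroup G) : Prop :=
  ∃ g ∈ H, g ∈ normalizer (S : Set G) ∧ ∀ x ∈ A, g * x * g⁻¹ = g0 * x * g0⁻¹

end Cfsg.Agent.TwoFusion.GoldM1
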