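import Mathlib
import Cfsg.Agent.TwoFusion.GoldM1Defs
import Cfsg.Agent.Lib.PGroupCoprimeAction

/-!
# Case [M1] of Goldschmidt's theorem: `S`-invariant `p`-subgroups

`Frame.tr`: two maximal `S`-invariant `p`-subgroups (`p` odd) with nontrivial intersection are conjugate
under `C_G(S)`.
`Frame.typeF_of_moved`: the normaliser of a maximal `S`-invariant `q`-subgroup `T` is of type F if `T` contains a
nontrivial `S`-invariant subgroup which is normalised by `C(a)` and not centralised by `a`, `a ∈ A`.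
-/

set_option autoImplicit false
set_option linter.unusedSectionVars false

namespace Cfsg.Agent.TwoFusion.GoldM1

open Subgroup
open Cfsg.Agent.Classification.TypeB.Core (oc oc_le odd_oc normalizer_le_oc le_normalizer_oc le_oc
  odd_of_isPGroup)
open Cfsg.Agent.Classification.TypeB.Basic (IsInv mem_normalizer_of_conj le_of_four odd_of_le
  conj_mem_of_mem_normalizer)

variable {G : Type*} [Group G] [Finite G]

/-- `Y` is an `S`-invariant `p`-subgroup. -/
def Inv (S : Subgroup G) (p : ℕ) (Y : Subgroup G) : Prop :=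
  IsPGroup p Y ∧ S ≤ normalizer (Y : Set G)

/-- `Y` is a maximal `S`-invariant `p`-subgroup. -/
def MaxInv (S : Subgroup G) (p : ℕ) (Y : Subgroup G) : Prop :=
  Inv S p Y ∧ ∀ Z, Inv S p Z → Y ≤ Z → Z ≤ Y

/-- `T` is a Sylow `p`-subgroup of `H`. -/
def SylIn (p : ℕ) (T H : Subgroup G) : Prop := ∃ P : Sylow p H, (P : Subgroup H).map H.subtype = T

theorem exists_maxInv {S : Subgroup G} {p : ℕ} {Y : Subgroup G} (hY : Inv S p Y) :
    ∃ Z, MaxInv S p Z ∧ Y ≤ Z := by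
  obtain ⟨Z, ⟨hZ, hYZ⟩, hmax⟩ :=
    (Set.toFinite {Z : Subgroup G | Inv S p Z ∧ Y ≤ Z}).exists_maximal ⟨Y, hY, le_rfl⟩
  exact ⟨Z, ⟨hZ, fun W hW hZW => hmax ⟨hW, hYZ.trans hZW⟩ hZW⟩, hYZ⟩

theorem map_conj_conj (Y : Subgroup G) (c d : G) :
    (Y.map (MulAut.conj c).toMonoidHom).map (MulAut.conj d).toMonoidHom =
      Y.map (MulAut.conj (d * c)).toMonoidHom := by
  rw [map_map]
  congr 1
  ext x
  simp [mul_assoc]

theorem map_conj_one (Y : Subgroup G) : Y.map (MulAut.conj (1 : G)).toMonoidHom = Y := by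
  ext x; simp [mem_map]

theorem mem_map_conj_iff {Y : Subgroup G} {c x : G} :
    x ∈ Y.map (MulAut.conj c).toMonoidHom ↔ c⁻¹ * x * c ∈ Y := by
  rw [mem_map]
  constructor
  · rintro ⟨y, hy, rfl⟩
    have : c⁻¹ * (c * y * c⁻¹) * c = y := by group
    simpa [this] using hy
  · intro h
    exact ⟨_, h, by simp [mul_assoc]⟩

theorem map_conj_eq_iff_mem_normalizer {Y : Subgroup G} {c : G} :
    Y.map (MulAut.conj c).toMonoidHom = Y ↔ c ∈ normalizer (Y : Set G) :=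
  (OddOrderLocal.PiCoreOf.mem_normalizer_iff_conj).symm

theorem Inv.conj {S : Subgroup G} {p : ℕ} {Y : Subgroup G} (h : Inv S p Y) {c : G}
    (hc : c ∈ normalizer (S : Set G)) : Inv S p (Y.map (MulAut.conj c).toMonoidHom) := by
  refine ⟨h.1.map _, ?_⟩
  intro s hs
  apply mem_normalizer_of_conj
  intro x hx
  rw [mem_map_conj_iff] at hx ⊢
  have h1 : c⁻¹ * s * c ∈ S := by
    have := (mem_normalizer_iff.mp (inv_mem hc) s).mp hs
    simpa using this
  have h2 := conj_mem_of_mem_normalizer (h.2 h1) hx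
  have e : c⁻¹ * s * c * (c⁻¹ * x * c) * (c⁻¹ * s * c)⁻¹ = c⁻¹ * (s * x * s⁻¹) * c := by group
  rw [e] at h2
  exact h2

theorem MaxInv.conj {S : Subgroup G} {p : ℕ} {Y : Subgroup G} (h : MaxInv S p Y) {c : G}
    (hc : c ∈ normalizer (S : Set G)) : MaxInv S p (Y.map (MulAut.conj c).toMonoidHom) := by
  refine ⟨h.1.conj hc, ?_⟩
  intro Z hZ hYZ
  have h1 := hZ.conj (inv_mem hc)
  have h2 : Y ≤ Z.map (MulAut.conj c⁻¹).toMonoidHom := by
    intro y hy
    rw [mem_map_conj_iff]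
    apply hYZ
    rw [mem_map_conj_iff]
    have : c⁻¹ * (c⁻¹⁻¹ * y * c⁻¹) * c = y := by group
    rwa [this]
  have h3 := h.2 _ h1 h2
  intro z hz
  rw [mem_map_conj_iff]
  apply h3
  rw [mem_map_conj_iff]
  have : c⁻¹⁻¹ * (c⁻¹ * z * c) * c⁻¹ = z := by group
  rwa [this]

theorem centralizer_le_normalizer' (S : Subgroup G) :
    centralizer (S : Set G) ≤ normalizer (S : Set G) := by
  intro c hc
  apply mem_normalizer_of_conj
  intro x hx
  have h1 := mem_centralizer_iff.mp hc x hx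
  have e : c * x * c⁻¹ = x := by rw [← h1]; group
  rwa [e]

theorem MaxInv.eq_of_le {S : Subgroup G} {p : ℕ} {Y Z : Subgroup G} (h : MaxInv S p Y)
    (hZ : Inv S p Z) (hle : Y ≤ Z) : Y = Z := le_antisymm hle (h.2 Z hZ hle)

/-- normalizer condition, ambient form -/
theorem lt_inf_normalizer {p : ℕ} [Fact p.Prime] {Y D : Subgroup G} (hY : IsPGroup p Y) (hD : D < Y) :
    D < Y ⊓ normalizer (D : Set G) := by
  have : Group.IsNilpotent Y := hY.isNilpotent
  have hlt : D.subgroupOf Y < ⊤ := by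
    rw [lt_top_iff_ne_top, Ne, subgroupOf_eq_top]
    exact not_le_of_gt hD
  have hlt2 := Group.normalizerCondition_of_isNilpotent (G := Y) _ hlt
  obtain ⟨x, hx, hxD⟩ := SetLike.exists_of_lt hlt2
  refine lt_of_le_of_ne (le_inf hD.le le_normalizer) ?_
  intro heq
  apply hxD
  rw [mem_subgroupOf, heq]
  refine mem_inf.mpr ⟨x.2, ?_⟩
  apply mem_normalizer_of_conj
  intro y hy
  exact (mem_normalizer_iff.mp hx ⟨y, hD.le hy⟩).mp hy

theorem card_lt_of_lt {D K : Subgroup G} (h : D < K) : Nat.card D < Nat.card K := by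
  have h3 : (D : Set G) ⊂ (K : Set G) := h
  have h4 := Set.ncard_lt_ncard h3
  rwa [← Nat.card_coe_set_eq, ← Nat.card_coe_set_eq] at h4

section frame

variable {S A : Subgroup G} {g0 : G}

namespace Frame

variable (F : Frame S A g0)
include F

theorem isPGroup_S : IsPGroup 2 S :=
  IsPGroup.of_card (n := 6) (by rw [F.cardS]; norm_num)

theorem isPGroup_A : IsPGroup 2 A :=
  IsPGroup.of_card (n := 2) (by rw [F.cardA]; norm_num)

theorem isInv {x : G} (hx : x ∈ A) (h1 : x ≠ 1) : IsInv x := ⟨F.sq x hx, h1⟩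

theorem comm_A {x y : G} (hx : x ∈ A) (hy : y ∈ A) : x * y = y * x := F.cen x hx y (F.AS hy)

theorem S_le_centralizer {x : G} (hx : x ∈ A) : S ≤ centralizer ({x} : Set G) := by
  intro s hs
  rw [mem_centralizer_singleton_iff]
  exact (F.cen x hx s hs).symm

theorem S_le_centralizer_A : S ≤ centralizer (A : Set G) := by
  intro s hs
  rw [mem_centralizer_iff]
  intro x hx
  exact F.cen x hx s hs

theorem normalizer_ne_top {p : ℕ} [Fact p.Prime] (hp : p ≠ 2) {D : Subgroup G} (hD : IsPGroup p D)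
    (h1 : D ≠ ⊥) : normalizer (D : Set G) ≠ ⊤ := by
  intro h
  have hn : D.Normal := normalizer_eq_top_iff.mp h
  rcases F.simple D hn with h2 | h2
  · exact h1 h2
  · have hodd := odd_of_isPGroup (Fact.out : p.Prime) hp hD
    have h3 : Nat.card S ∣ Nat.card D := card_dvd_of_le (by rw [h2]; exact le_top)
    rw [F.cardS] at h3
    obtain ⟨k, hk⟩ := h3
    rw [hk] at hodd
    have : ¬ Odd (64 * k) := by
      rw [Nat.not_odd_iff_even]
      exact ⟨32 * k, by ring⟩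
    exact this hodd

theorem normalizer_ne_top_of_odd {D : Subgroup G} (hD : Odd (Nat.card D))
    (h1 : D ≠ ⊥) : normalizer (D : Set G) ≠ ⊤ := by
  intro h
  have hn : D.Normal := normalizer_eq_top_iff.mp h
  rcases F.simple D hn with h2 | h2
  · exact h1 h2
  · have h3 : Nat.card S ∣ Nat.card D := card_dvd_of_le (by rw [h2]; exact le_top)
    rw [F.cardS] at h3
    obtain ⟨k, hk⟩ := h3
    rw [hk] at hD
    have : ¬ Odd (64 * k) := by
      rw [Nat.not_odd_iff_even]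
      exact ⟨32 * k, by ring⟩
    exact this hD

/-- invariant Sylow subgroups above a given invariant `p`-subgroup -/
theorem exists_syl {p : ℕ} [Fact p.Prime] {O R : Subgroup G} (hO : Odd (Nat.card O))
    (hSO : S ≤ normalizer (O : Set G)) (hR : Inv S p R) (hRO : R ≤ O) :
    ∃ T, SylIn p T O ∧ Inv S p T ∧ R ≤ T ∧ T ≤ O := by
  have h2 : ¬ 2 ∣ Nat.card O := by
    intro h
    exact (Nat.not_even_iff_odd.mpr hO) (even_iff_two_dvd.mpr h)
  have : Fact (Nat.Prime 2) := ⟨Nat.prime_two⟩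
  obtain ⟨T, hT, hST, hRT⟩ := Lib.PGroupCoprimeAction.exists_invariant_sylow_ge F.isPGroup_S h2
    (fun b hb u hu => conj_mem_of_mem_normalizer (hSO hb) hu) hRO hR.1
    (fun b hb u hu => conj_mem_of_mem_normalizer (hR.2 hb) hu)
  obtain ⟨P, hP⟩ := hT
  refine ⟨T, ⟨P, hP⟩, ⟨?_, ?_⟩, hRT, ?_⟩
  · rw [← hP]; exact P.isPGroup'.map _
  · intro s hs
    apply mem_normalizer_of_conj
    exact hST s hs
  · rw [← hP]; exact map_subtype_le _

theorem syl_conj {p : ℕ} [Fact p.Prime] {O T1 T2 : Subgroup G} (hO : Odd (Nat.card O))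
    (hSO : S ≤ normalizer (O : Set G)) (h1 : SylIn p T1 O) (h2 : SylIn p T2 O)
    (i1 : Inv S p T1) (i2 : Inv S p T2) :
    ∃ c ∈ O ⊓ centralizer (S : Set G), T1.map (MulAut.conj c).toMonoidHom = T2 := by
  have h2' : ¬ 2 ∣ Nat.card O := by
    intro h
    exact (Nat.not_even_iff_odd.mpr hO) (even_iff_two_dvd.mpr h)
  have : Fact (Nat.Prime 2) := ⟨Nat.prime_two⟩
  exact Lib.PGroupCoprimeAction.exists_centralizer_conj F.isPGroup_S h2'
    (fun b hb u hu => conj_mem_of_mem_normalizer (hSO hb) hu) h1 h2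
    (fun b hb u hu => conj_mem_of_mem_normalizer (i1.2 hb) hu)
    (fun b hb u hu => conj_mem_of_mem_normalizer (i2.2 hb) hu)

/-- **(Tr)** two maximal `S`-invariant `p`-subgroups with nontrivial intersection are conjugate under `C_G(S)`. -/
theorem tr {p : ℕ} [hp : Fact p.Prime] (hp2 : p ≠ 2) :
    ∀ (n : ℕ) (Y1 Y2 : Subgroup G), MaxInv S p Y1 → MaxInv S p Y2 → Y1 ⊓ Y2 ≠ ⊥ →
      Nat.card G ≤ n + Nat.card ↥(Y1 ⊓ Y2) →
      ∃ c ∈ centralizer (S : Set G), Y1.map (MulAut.conj c).toMonoidHom = Y2 := by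
  intro n
  induction n with
  | zero =>
    intro Y1 Y2 h1 h2 hne hle
    have h3 : Y1 ⊓ Y2 = ⊤ := by
      apply eq_top_of_card_eq
      apply le_antisymm (card_le_card_group _)
      simpa using hle
    have h4 : Y1 = ⊤ := top_le_iff.mp (h3 ▸ inf_le_left)
    have h5 : Y2 = ⊤ := top_le_iff.mp (h3 ▸ inf_le_right)
    refine ⟨1, one_mem _, ?_⟩
    rw [map_conj_one, h4, h5]
  | succ n ih =>
    intro Y1 Y2 h1 h2 hne hle
    set D := Y1 ⊓ Y2 with hD
    by_cases hD1 : Y1 ≤ Y2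
    · refine ⟨1, one_mem _, ?_⟩
      rw [map_conj_one]
      exact h1.eq_of_le h2.1 hD1
    by_cases hD2 : Y2 ≤ Y1
    · refine ⟨1, one_mem _, ?_⟩
      rw [map_conj_one]
      exact (h2.eq_of_le h1.1 hD2).symm
    have hDp : IsPGroup p D := h1.1.1.to_le inf_le_left
    have hlt1 : D < Y1 := lt_of_le_of_ne inf_le_left (fun h => hD1 (inf_eq_left.mp h))
    have hlt2 : D < Y2 := lt_of_le_of_ne inf_le_right (fun h => hD2 (inf_eq_right.mp h))
    have hSD : S ≤ normalizer (D : Set G) := by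
      intro s hs
      apply mem_normalizer_of_conj
      intro x hx
      exact mem_inf.mpr ⟨conj_mem_of_mem_normalizer (h1.1.2 hs) hx.1,
        conj_mem_of_mem_normalizer (h2.1.2 hs) hx.2⟩
    have hNtop := F.normalizer_ne_top hp2 hDp hne
    have key : ∀ Y, MaxInv S p Y → D < Y → ∃ T, SylIn p T (oc (normalizer (D : Set G))) ∧ Inv S p T ∧
        Y ⊓ normalizer (D : Set G) ≤ T := by
      intro Y hY hlt
      have hi : Inv S p (Y ⊓ normalizer (D : Set G)) := by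
        refine ⟨hY.1.1.to_le inf_le_left, ?_⟩
        intro s hs
        apply mem_normalizer_of_conj
        intro x hx
        exact mem_inf.mpr ⟨conj_mem_of_mem_normalizer (hY.1.2 hs) hx.1,
          mul_mem (mul_mem (hSD hs) hx.2) (inv_mem (hSD hs))⟩
      have hle' : Y ⊓ normalizer (D : Set G) ≤ oc (normalizer (D : Set G)) :=
        F.invCore _ hNtop hSD _ inf_le_right (odd_of_isPGroup hp.out hp2 hi.1) hi.2
      obtain ⟨T, hT, hTi, hRT, -⟩ := F.exists_syl (odd_oc _)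
        (hSD.trans (le_normalizer_oc _)) hi hle'
      exact ⟨T, hT, hTi, hRT⟩
    obtain ⟨T1, hT1, hT1i, hle1⟩ := key Y1 h1 hlt1
    obtain ⟨T2, hT2, hT2i, hle2⟩ := key Y2 h2 hlt2
    obtain ⟨c0, hc0, hTT⟩ := F.syl_conj (odd_oc _) (hSD.trans (le_normalizer_oc _)) hT1 hT2 hT1i hT2i
    obtain ⟨Z, hZ, hTZ⟩ := exists_maxInv hT1i
    have hDlt1 : D < Y1 ⊓ Z := lt_of_lt_of_le (lt_inf_normalizer h1.1.1 hlt1)
      (le_inf inf_le_left (hle1.trans hTZ))
    have hcard1 : Nat.card D < Nat.card ↥(Y1 ⊓ Z) := by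
      exact card_lt_of_lt hDlt1
    have hne1 : Y1 ⊓ Z ≠ ⊥ := by
      intro h
      rw [h] at hDlt1
      exact (not_lt_bot hDlt1).elim
    obtain ⟨c1, hc1, hc1'⟩ := ih Y1 Z h1 hZ hne1 (by omega)
    have hc0N : c0 ∈ normalizer (S : Set G) := centralizer_le_normalizer' S hc0.2
    have hZc := hZ.conj hc0N
    have hDlt2 : D < Z.map (MulAut.conj c0).toMonoidHom ⊓ Y2 := by
      refine lt_of_lt_of_le (lt_inf_normalizer h2.1.1 hlt2) (le_inf ?_ inf_le_left)
      refine hle2.trans ?_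
      rw [← hTT]
      exact map_mono hTZ
    have hcard2 : Nat.card D < Nat.card ↥(Z.map (MulAut.conj c0).toMonoidHom ⊓ Y2) := by
      exact card_lt_of_lt hDlt2
    have hne2 : Z.map (MulAut.conj c0).toMonoidHom ⊓ Y2 ≠ ⊥ := by
      intro h
      rw [h] at hDlt2
      exact (not_lt_bot hDlt2).elim
    obtain ⟨c2, hc2, hc2'⟩ := ih _ Y2 hZc h2 hne2 (by omega)
    refine ⟨c2 * (c0 * c1), mul_mem hc2 (mul_mem hc0.2 hc1), ?_⟩
    rw [← map_conj_conj, ← map_conj_conj, hc1', hc2']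

/-- **(Tr)** -/
theorem exists_conj {p : ℕ} [hp : Fact p.Prime] (hp2 : p ≠ 2) {Y1 Y2 : Subgroup G}
    (h1 : MaxInv S p Y1) (h2 : MaxInv S p Y2) (hne : Y1 ⊓ Y2 ≠ ⊥) :
    ∃ c ∈ centralizer (S : Set G), Y1.map (MulAut.conj c).toMonoidHom = Y2 :=
  F.tr hp2 (Nat.card G) Y1 Y2 h1 h2 hne (Nat.le_add_right _ _)

/-! ### The action of `g0` on `A` -/

theorem g0_pow_normalizer (k : ℕ) : g0 ^ k ∈ normalizer (S : Set G) := pow_mem F.g0S k

theorem g0_conj_ne {x : G} (hx : x ∈ A) (h1 : x ≠ 1) : g0 * x * g0⁻¹ ≠ x := by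
  intro h
  apply h1
  apply F.g0_fpf x hx
  calc g0 * x = g0 * x * g0⁻¹ * g0 := by group
    _ = x * g0 := by rw [h]

theorem g0_conj_ne_one {x : G} (h1 : x ≠ 1) : g0 * x * g0⁻¹ ≠ 1 := by
  intro h
  apply h1
  calc x = g0⁻¹ * (g0 * x * g0⁻¹) * g0 := by group
    _ = 1 := by rw [h]; group

/-- `A = {1, x, x^g0, x * x^g0}`. -/
theorem mem_A_cases {x : G} (hx : x ∈ A) (h1 : x ≠ 1) {y : G} (hy : y ∈ A) :
    y = 1 ∨ y = x ∨ y = g0 * x * g0⁻¹ ∨ y = x * (g0 * x * g0⁻¹) := by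
  classical
  set u := g0 * x * g0⁻¹ with hu
  have huA : u ∈ A := F.g0A x hx
  have hux : u ≠ x := F.g0_conj_ne hx h1
  have hu1 : u ≠ 1 := F.g0_conj_ne_one h1
  have hxu1 : x * u ≠ 1 := by
    intro h
    apply hux
    have : x⁻¹ = x := inv_eq_of_mul_eq_one_left (F.sq x hx)
    rw [← this]
    exact (inv_eq_of_mul_eq_one_right h).symm
  have hxux : x * u ≠ x := by
    intro h
    exact hu1 (by simpa using h)
  have hxuu : x * u ≠ u := by
    intro h
    exact h1 (by simpa using h)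
  let T : Finset A := {1, ⟨x, hx⟩, ⟨u, huA⟩, ⟨x * u, mul_mem hx huA⟩}
  have hT : T.card = 4 := by
    have e1 : (⟨x, hx⟩ : A) ≠ 1 := fun h => h1 (congrArg Subtype.val h)
    have e2 : (⟨u, huA⟩ : A) ≠ 1 := fun h => hu1 (congrArg Subtype.val h)
    have e3 : (⟨x * u, mul_mem hx huA⟩ : A) ≠ 1 := fun h => hxu1 (congrArg Subtype.val h)
    have e4 : (⟨x, hx⟩ : A) ≠ ⟨u, huA⟩ := fun h => hux (congrArg Subtype.val h).symm
    have e5 : (⟨x, hx⟩ : A) ≠ ⟨x * u, mul_mem hx huA⟩ := fun h => hxux (congrArg Subtype.val h).symm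
    have e6 : (⟨u, huA⟩ : A) ≠ ⟨x * u, mul_mem hx huA⟩ := fun h => hxuu (congrArg Subtype.val h).symm
    simp only [T]
    rw [Finset.card_insert_of_notMem, Finset.card_insert_of_notMem, Finset.card_insert_of_notMem,
      Finset.card_singleton]
    · simp [e6]
    · simp [e4, e5]
    · simp [e1.symm, e2.symm, e3.symm]
  have : Fintype A := Fintype.ofFinite _
  have hTu : T = Finset.univ := by
    apply Finset.eq_univ_of_card
    rw [hT, ← Nat.card_eq_fintype_card, F.cardA]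
  have hyT : (⟨y, hy⟩ : A) ∈ T := by rw [hTu]; exact Finset.mem_univ _
  simp only [T, Finset.mem_insert, Finset.mem_singleton, Subtype.ext_iff, OneMemClass.coe_one] at hyT
  exact hyT

theorem g0_sq_conj {x : G} (hx : x ∈ A) (h1 : x ≠ 1) :
    g0 * (g0 * x * g0⁻¹) * g0⁻¹ = x * (g0 * x * g0⁻¹) := by
  have hu : g0 * x * g0⁻¹ ∈ A := F.g0A x hx
  have hu1 : g0 * x * g0⁻¹ ≠ 1 := F.g0_conj_ne_one h1
  rcases F.mem_A_cases hx h1 (F.g0A _ hu) with h | h | h | h
  · exact absurd h (F.g0_conj_ne_one hu1)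
  · exfalso
    -- `g0` swaps `x` and `u`, so fixes `x u`
    have h2 : g0 * (x * (g0 * x * g0⁻¹)) * g0⁻¹ = x * (g0 * x * g0⁻¹) := by
      have e : g0 * (x * (g0 * x * g0⁻¹)) * g0⁻¹ =
          (g0 * x * g0⁻¹) * (g0 * (g0 * x * g0⁻¹) * g0⁻¹) := by group
      rw [e, h]
      exact F.comm_A hu hx
    have h3 : x * (g0 * x * g0⁻¹) = 1 := by
      by_contra h4
      exact F.g0_conj_ne (mul_mem hx hu) h4 h2
    have h5 : g0 * x * g0⁻¹ = x := by
      have h6 : x⁻¹ = x := inv_eq_of_mul_eq_one_left (F.sq x hx)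
      exact (inv_eq_of_mul_eq_one_right h3).symm.trans h6
    exact F.g0_conj_ne hx h1 h5
  · exact absurd h (F.g0_conj_ne hu hu1)
  · exact h

theorem g0_cube_conj {x : G} (hx : x ∈ A) : g0 ^ 3 * x * (g0 ^ 3)⁻¹ = x := by
  by_cases h1 : x = 1
  · rw [h1]; group
  have h2 := F.g0_sq_conj hx h1
  have e : g0 ^ 3 * x * (g0 ^ 3)⁻¹ = g0 * (g0 * (g0 * x * g0⁻¹) * g0⁻¹) * g0⁻¹ := by
    simp only [pow_succ, pow_zero, one_mul, mul_inv_rev]; group
  rw [e, h2]
  have e2 : g0 * (x * (g0 * x * g0⁻¹)) * g0⁻¹ = (g0 * x * g0⁻¹) * (g0 * (g0 * x * g0⁻¹) * g0⁻¹) := by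
    group
  rw [e2, h2, ← mul_assoc, F.comm_A (F.g0A x hx) hx, mul_assoc, F.sq _ (F.g0A x hx), mul_one]

/-- `⟨g0⟩` is transitive on the involutions of `A`. -/
theorem exists_pow_conj {x y : G} (hx : x ∈ A) (hx1 : x ≠ 1) (hy : y ∈ A) (hy1 : y ≠ 1) :
    ∃ k : ℕ, g0 ^ k * x * (g0 ^ k)⁻¹ = y := by
  rcases F.mem_A_cases hx hx1 hy with h | h | h | h
  · exact absurd h hy1
  · exact ⟨0, by rw [h]; group⟩
  · exact ⟨1, by rw [h]; group⟩
  · refine ⟨2, ?_⟩
    rw [h, ← F.g0_sq_conj hx hx1, pow_two]; group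

/-- if `h ∈ H ∩ N(S)` acts on `A` like `g0 ^ k` and nontrivially, then `H` is of type F. -/
theorem typeF_of_pow {H : Subgroup G} {h : G} (hH : h ∈ H) (hS : h ∈ normalizer (S : Set G)) (k : ℕ)
    (hact : ∀ x ∈ A, h * x * h⁻¹ = g0 ^ k * x * (g0 ^ k)⁻¹) (hne : ∃ x ∈ A, h * x * h⁻¹ ≠ x) :
    TypeF S A g0 H := by
  have hpow : ∀ (m : ℕ), ∀ x ∈ A, g0 ^ (3 * m) * x * (g0 ^ (3 * m))⁻¹ = x := by
    intro m
    induction m with
    | zero => intro x _; simp
    | succ m ih =>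
      intro x hx
      have e : g0 ^ (3 * (m + 1)) * x * (g0 ^ (3 * (m + 1)))⁻¹ =
          g0 ^ 3 * (g0 ^ (3 * m) * x * (g0 ^ (3 * m))⁻¹) * (g0 ^ 3)⁻¹ := by
        rw [show 3 * (m + 1) = 3 + 3 * m by ring, pow_add, mul_inv_rev]; group
      rw [e, ih x hx, F.g0_cube_conj hx]
  have hAh : ∀ x ∈ A, h * x * h⁻¹ ∈ A := by
    intro x hx
    rw [hact x hx]
    have : ∀ (k : ℕ), ∀ x ∈ A, g0 ^ k * x * (g0 ^ k)⁻¹ ∈ A := by
      intro k
      induction k with
      | zero => intro x hx; simpa using hx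
      | succ k ih =>
        intro x hx
        have e : g0 ^ (k + 1) * x * (g0 ^ (k + 1))⁻¹ = g0 * (g0 ^ k * x * (g0 ^ k)⁻¹) * g0⁻¹ := by
          rw [pow_succ', mul_inv_rev]; group
        rw [e]
        exact F.g0A _ (ih x hx)
    exact this k x hx
  have hred : ∀ x ∈ A, g0 ^ k * x * (g0 ^ k)⁻¹ = g0 ^ (k % 3) * x * (g0 ^ (k % 3))⁻¹ := by
    intro x hx
    conv_lhs => rw [← Nat.mod_add_div k 3]
    have e : g0 ^ (k % 3 + 3 * (k / 3)) * x * (g0 ^ (k % 3 + 3 * (k / 3)))⁻¹ =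
        g0 ^ (k % 3) * (g0 ^ (3 * (k / 3)) * x * (g0 ^ (3 * (k / 3)))⁻¹) * (g0 ^ (k % 3))⁻¹ := by
      rw [pow_add, mul_inv_rev]; group
    rw [e, hpow _ x hx]
  have hlt : k % 3 < 3 := Nat.mod_lt _ (by norm_num)
  interval_cases hk : k % 3
  · exfalso
    obtain ⟨x, hx, hx'⟩ := hne
    apply hx'
    rw [hact x hx, hred x hx]; simp
  · refine ⟨h, hH, hS, fun x hx => ?_⟩
    rw [hact x hx, hred x hx, pow_one]
  · refine ⟨h * h, mul_mem hH hH, mul_mem hS hS, fun x hx => ?_⟩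
    have e : h * h * x * (h * h)⁻¹ = h * (h * x * h⁻¹) * h⁻¹ := by group
    rw [e, hact _ (hAh x hx), hact x hx, hred x hx, hred]
    · have e2 : g0 ^ 2 * (g0 ^ 2 * x * (g0 ^ 2)⁻¹) * (g0 ^ 2)⁻¹ =
          g0 * (g0 ^ 3 * x * (g0 ^ 3)⁻¹) * g0⁻¹ := by
        simp only [pow_succ, pow_zero, one_mul, mul_inv_rev]; group
      rw [e2, F.g0_cube_conj hx]
    · have := hAh x hx
      rwa [hact x hx, hred x hx] at this

/-- if `T^(g0^k)` is `C(S)`-conjugate to `T` and `g0 ^ k` acts nontrivially on `A`, then `N(T)` is of type F. -/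
theorem typeF_normalizer {T : Subgroup G} {k : ℕ} {c : G} (hc : c ∈ centralizer (S : Set G))
    (hT : T.map (MulAut.conj (g0 ^ k)).toMonoidHom = T.map (MulAut.conj c).toMonoidHom)
    (hne : ∃ x ∈ A, g0 ^ k * x * (g0 ^ k)⁻¹ ≠ x) :
    TypeF S A g0 (normalizer (T : Set G)) := by
  have hcS : c ∈ normalizer (S : Set G) := centralizer_le_normalizer' S hc
  have hcA : ∀ x ∈ A, c⁻¹ * x * c = x := by
    intro x hx
    have h1 := mem_centralizer_iff.mp hc x (F.AS hx)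
    calc c⁻¹ * x * c = c⁻¹ * (x * c) := by group
      _ = c⁻¹ * (c * x) := by rw [h1]
      _ = x := by group
  have hact : ∀ x ∈ A, c⁻¹ * g0 ^ k * x * (c⁻¹ * g0 ^ k)⁻¹ = g0 ^ k * x * (g0 ^ k)⁻¹ := by
    intro x hx
    have hAk : ∀ (k : ℕ), ∀ x ∈ A, g0 ^ k * x * (g0 ^ k)⁻¹ ∈ A := by
      intro k
      induction k with
      | zero => intro x hx; simpa using hx
      | succ k ih =>
        intro x hx
        have e : g0 ^ (k + 1) * x * (g0 ^ (k + 1))⁻¹ = g0 * (g0 ^ k * x * (g0 ^ k)⁻¹) * g0⁻¹ := by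
          rw [pow_succ', mul_inv_rev]; group
        rw [e]
        exact F.g0A _ (ih x hx)
    have e : c⁻¹ * g0 ^ k * x * (c⁻¹ * g0 ^ k)⁻¹ = c⁻¹ * (g0 ^ k * x * (g0 ^ k)⁻¹) * c := by group
    rw [e, hcA _ (hAk k x hx)]
  refine F.typeF_of_pow (h := c⁻¹ * g0 ^ k) ?_ (mul_mem (inv_mem hcS) (F.g0_pow_normalizer k)) k hact ?_
  · rw [← map_conj_eq_iff_mem_normalizer, ← map_conj_conj, hT, map_conj_conj]
    rw [inv_mul_cancel, map_conj_one]
  · obtain ⟨x, hx, hx'⟩ := hne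
    exact ⟨x, hx, by rwa [hact x hx]⟩

theorem centralizer_ne_top {x : G} (hx : x ∈ A) (h1 : x ≠ 1) : centralizer ({x} : Set G) ≠ ⊤ := by
  intro h
  have h2 : x ∈ center G := by
    rw [mem_center_iff]
    intro g
    have h3 : g ∈ centralizer ({x} : Set G) := by rw [h]; exact mem_top g
    rw [mem_centralizer_singleton_iff] at h3
    exact h3
  rcases F.simple (center G) inferInstance with h3 | h3
  · rw [h3, mem_bot] at h2
    exact h1 h2
  · -- `G` abelian: `A` is normal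
    have hcomm : ∀ g : G, g * g0 = g0 * g := by
      intro g
      have : g0 ∈ center G := by rw [h3]; exact mem_top _
      exact (mem_center_iff.mp this g)
    exact h1 (F.g0_fpf x hx (hcomm x).symm)

/-- **(F)** The normaliser of a maximal `S`-invariant `p`-subgroup `T` is of type F if `T` contains a nontrivial
`S`-invariant subgroup `Q` normalised by `C(a)` and not centralised by `a`. -/
theorem typeF_of_moved {p : ℕ} [hp : Fact p.Prime] (hp2 : p ≠ 2) {T Q : Subgroup G}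
    (hT : MaxInv S p T) (hQT : Q ≤ T) (hQS : Inv S p Q) {a : G} (ha : a ∈ A) (ha1 : a ≠ 1)
    (hCa : centralizer ({a} : Set G) ≤ normalizer (Q : Set G))
    (hmov : ¬ Q ≤ centralizer ({a} : Set G)) : TypeF S A g0 (normalizer (T : Set G)) := by
  have hQne : Q ≠ ⊥ := by
    rintro rfl
    exact hmov bot_le
  have hTodd := odd_of_isPGroup hp.out hp2 hT.1.1
  -- an element `d` of `A` with nontrivial centraliser in `T`, `d ≠ a`
  obtain ⟨d, hd, hd1, hda, hdT⟩ : ∃ d ∈ A, d ≠ 1 ∧ d ≠ a ∧ T ⊓ centralizer ({d} : Set G) ≠ ⊥ := by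
    by_contra hcon
    push Not at hcon
    set b := g0 * a * g0⁻¹ with hb
    have hbA : b ∈ A := F.g0A a ha
    have hb1 : b ≠ 1 := F.g0_conj_ne_one ha1
    have hba : b ≠ a := F.g0_conj_ne ha ha1
    have hab1 : a * b ≠ 1 := by
      intro h
      apply hba
      have : a⁻¹ = a := inv_eq_of_mul_eq_one_left (F.sq a ha)
      rw [← this]
      exact (inv_eq_of_mul_eq_one_right h).symm
    have haba : a * b ≠ a := by
      intro h
      exact hb1 (by simpa using h)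
    apply hmov
    refine hQT.trans (le_of_four hTodd (F.isInv ha ha1) (F.isInv hbA hb1) (F.comm_A ha hbA)
      (hT.1.2 (F.AS ha)) (hT.1.2 (F.AS hbA)) inf_le_right ?_ ?_)
    · rw [hcon b hbA hb1 hba]; exact bot_le
    · rw [hcon (a * b) (mul_mem ha hbA) hab1 haba]; exact bot_le
  -- the Sylow subgroup of `O(C(d))`
  have hSd := F.S_le_centralizer hd
  have hCd := F.centralizer_ne_top hd hd1
  have hR : Inv S p (T ⊓ centralizer ({d} : Set G)) := by
    refine ⟨hT.1.1.to_le inf_le_left, ?_⟩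
    intro s hs
    apply mem_normalizer_of_conj
    intro x hx
    exact mem_inf.mpr ⟨conj_mem_of_mem_normalizer (hT.1.2 hs) hx.1,
      mul_mem (mul_mem (hSd hs) hx.2) (inv_mem (hSd hs))⟩
  have hRO := F.invCore _ hCd hSd _ inf_le_right (odd_of_isPGroup hp.out hp2 hR.1) hR.2
  obtain ⟨P, hP, hPi, hRP, hPO⟩ := F.exists_syl (odd_oc _) (hSd.trans (le_normalizer_oc _)) hR hRO
  obtain ⟨Z, hZ, hPZ⟩ := exists_maxInv hPi
  have hne1 : Z ⊓ T ≠ ⊥ := by
    intro h
    apply hdT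
    rw [eq_bot_iff, ← h]
    exact le_inf (hRP.trans hPZ) inf_le_left
  obtain ⟨c, hc, hcZ⟩ := F.exists_conj hp2 hZ hT hne1
  have hcS := centralizer_le_normalizer' S hc
  -- `P1 = P^c ≤ T`
  have hP1T : P.map (MulAut.conj c).toMonoidHom ≤ T := by
    rw [← hcZ]; exact map_mono hPZ
  have hP1c : P.map (MulAut.conj c).toMonoidHom ≤ centralizer ({d} : Set G) := by
    intro x hx
    rw [mem_map_conj_iff] at hx
    have h1 := oc_le _ (hPO hx)
    rw [mem_centralizer_singleton_iff] at h1 ⊢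
    have h2 := mem_centralizer_iff.mp hc d (F.AS hd)
    have e1 : c * d = d * c := h2.symm
    have e2 : c⁻¹ * d = d * c⁻¹ := by
      calc c⁻¹ * d = c⁻¹ * (d * c) * c⁻¹ := by group
        _ = c⁻¹ * (c * d) * c⁻¹ := by rw [e1]
        _ = d * c⁻¹ := by group
    calc x * d = c * (c⁻¹ * x * c) * (c⁻¹ * d) := by group
      _ = c * ((c⁻¹ * x * c) * d) * c⁻¹ := by rw [e2]; group
      _ = c * (d * (c⁻¹ * x * c)) * c⁻¹ := by rw [h1]
      _ = (c * d) * (c⁻¹ * x) := by group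
      _ = d * x := by rw [e1]; group
  -- transport to `a`
  obtain ⟨k, hk⟩ := F.exists_pow_conj hd hd1 ha ha1
  have hkS := F.g0_pow_normalizer k
  set P1 := P.map (MulAut.conj c).toMonoidHom with hP1
  set P2 := P1.map (MulAut.conj (g0 ^ k)).toMonoidHom with hP2
  have hP1i : Inv S p P1 := hPi.conj hcS
  have hP2i : Inv S p P2 := hP1i.conj hkS
  have hP2c : P2 ≤ centralizer ({a} : Set G) := by
    intro x hx
    rw [hP2, mem_map_conj_iff] at hx
    have h1 := hP1c hx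
    rw [mem_centralizer_singleton_iff] at h1 ⊢
    rw [← hk]
    calc x * (g0 ^ k * d * (g0 ^ k)⁻¹) = g0 ^ k * (((g0 ^ k)⁻¹ * x * g0 ^ k) * d) * (g0 ^ k)⁻¹ := by group
      _ = g0 ^ k * (d * ((g0 ^ k)⁻¹ * x * g0 ^ k)) * (g0 ^ k)⁻¹ := by rw [h1]
      _ = g0 ^ k * d * (g0 ^ k)⁻¹ * x := by group
  have hP2ne : P2 ≠ ⊥ := by
    intro h
    apply hdT
    have h3 : P1 = ⊥ := by
      rw [hP2] at h
      exact (map_eq_bot_iff_of_injective _ (MulAut.conj (g0 ^ k)).injective).mp h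
    have h4 : P = ⊥ := (map_eq_bot_iff_of_injective _ (MulAut.conj c).injective).mp h3
    rw [eq_bot_iff, ← h4]
    exact hRP
  -- `P2 Q` is a `p`-group
  have hPQ : Inv S p (P2 ⊔ Q) := by
    refine ⟨hP2i.1.to_sup_of_normal_right' hQS.1 (hP2c.trans hCa), ?_⟩
    intro s hs
    exact normalizer_inf_normalizer_le_normalizer_sup P2 Q ⟨hP2i.2 hs, hQS.2 hs⟩
  obtain ⟨Y, hY, hPQY⟩ := exists_maxInv hPQ
  have hne2 : T ⊓ Y ≠ ⊥ := by
    intro h
    apply hQne
    rw [eq_bot_iff, ← h]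
    exact le_inf hQT (le_sup_right.trans hPQY)
  obtain ⟨c2, hc2, hc2Y⟩ := F.exists_conj hp2 hT hY hne2
  have hTk := hT.conj hkS
  have hne3 : Y ⊓ T.map (MulAut.conj (g0 ^ k)).toMonoidHom ≠ ⊥ := by
    intro h
    apply hP2ne
    rw [eq_bot_iff, ← h]
    exact le_inf (le_sup_left.trans hPQY) (map_mono hP1T)
  obtain ⟨c3, hc3, hc3Y⟩ := F.exists_conj hp2 hY hTk hne3
  refine F.typeF_normalizer (k := k) (c := c3 * c2) (mul_mem hc3 hc2) ?_ ?_
  · rw [← map_conj_conj, hc2Y, hc3Y]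
  · exact ⟨d, hd, by rw [hk]; exact hda.symm⟩

end Frame

end frame

end Cfsg.Agent.TwoFusion.GoldM1
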