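import Mathlib
import Cfsg.Agent.TwoFusion.GoldM1Tr

/-!
# Case [M1] of Goldschmidt's theorem, type B: the family `w ↦ M_w` of maximal subgroups, first part

The `S`-invariant version of `Classification/TypeB/Core.lean`.
`M` attaches to each involution `w` of `A = Z(S)` a maximal subgroup `M w ≥ C_G(w)`, equivariantly; `q` is an odd prime
with `E_w = [O_q(M_w), w] ≠ 1`, `Y_w = O_{q'}(O(M_w)) ≠ 1` and `N_G(E_w) ≤ M_w`.

* `Fam.no_invariant` : for `r ≠ q` with `O_r(M_t) ≠ 1` no `S`-invariant `r`-group `X ≠ 1` centralises `E_t` and `E_u`;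
* `Fam.no_overgroup` : no proper subgroup contains `S`, `E_t`, `E_u` and `Y_t`;
* `Fam.yc_le_centralizer` : `t` centralises `Y_t`.
-/

set_option autoImplicit false
set_option linter.unusedSectionVars false
set_option linter.style.haveILetI false

namespace Cfsg.Agent.TwoFusion.GoldM1B

open Subgroup Cfsg
open Cfsg.Agent.TwoFusion.GoldM1
open Cfsg.Agent.Classification.TypeB.Basic Cfsg.Agent.Classification.TypeB.LemG
open Cfsg.Agent.Classification.TypeB.Core (oc oc_def oc_le odd_oc normalizer_le_oc le_normalizer_oc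
  le_oc odd_of_isPGroup yc yc_def yc_le odd_yc le_normalizer_yc coprime_yc ec ec_def
  le_of_normalizer_le)
open Cfsg.Agent.OddOrderLocal.PiCoreOf
open Cfsg.Agent.OddOrderLocal
open Cfsg.Agent.OddOrderLocal.FitCores (le_core_of_isPGroup le_core_of_coprime
  core_le_centralizer_of_coprime core_le_centralizer_core isPGroup_piCoreOf coprime_piCoreOf
  exists_pgroup_le_of_solvable fittingOf_le_iff le_centralizer_of_centralizes_fitting)

variable {G : Type*} [Group G]

/-- `w` is an involution of `A`. -/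
def AInv (A : Subgroup G) (w : G) : Prop := w ∈ A ∧ w ≠ 1

/-- The family of maximal subgroups (type B). -/
structure Fam {G : Type*} [Group G] (S A : Subgroup G) (g0 : G) (M : G → Subgroup G) (q : ℕ) :
    Prop where
  frame : Frame S A g0
  prime : q.Prime
  odd : q ≠ 2
  cent : ∀ w, AInv A w → centralizer ({w} : Set G) ≤ M w
  coatom : ∀ w, AInv A w → IsCoatom (M w)
  conj : ∀ g w, AInv A w → M (g * w * g⁻¹) = (M w).map (MulAut.conj g).toMonoidHom
  ne : ∀ t u, AInv A t → AInv A u → t ≠ u → M t ≠ M u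
  norm : ∀ w, AInv A w → normalizer (ec q (M w) w : Set G) ≤ M w
  ne_bot : ∀ w, AInv A w → yc q (M w) ≠ ⊥

section fam

variable [Finite G] {S A : Subgroup G} {g0 : G} {M : G → Subgroup G} {q : ℕ}

/-- **(S')** in a form without the family: `N` contains `C(w)`, `H` a proper overgroup of `S`. -/
theorem bal_of_frame (F : Frame S A g0) {w : G} (hw : AInv A w) {N : Subgroup G}
    (hN : centralizer ({w} : Set G) ≤ N) {r : ℕ} (hr : r.Prime) (hr2 : r ≠ 2)
    {H : Subgroup G} (hH : H ≠ ⊤) (hSH : S ≤ H) :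
    ⁅piCoreOf {r} N ⊓ H, zpowers w⁆ ≤ piCoreOf {r} H := by
  have hwS : w ∈ S := F.AS hw.1
  have hwI : IsInv w := F.isInv hw.1 hw.2
  have hSN : S ≤ N := (F.S_le_centralizer hw.1).trans hN
  set P : Subgroup G := piCoreOf {r} N ⊓ H with hP
  have hPr : IsPGroup r P := (isPGroup_piCoreOf hr N).to_le inf_le_left
  have hPo : Odd (Nat.card P) := odd_of_isPGroup hr hr2 hPr
  have hnP : ∀ x ∈ N, x ∈ H → x ∈ normalizer (P : Set G) := by
    intro x hxN hxH
    apply mem_normalizer_of_conj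
    rintro y ⟨hy1, hy2⟩
    exact mem_inf.mpr ⟨conj_mem_of_mem_normalizer (le_normalizer_piCoreOf _ _ hxN) hy1,
      H.mul_mem (H.mul_mem hxH hy2) (H.inv_mem hxH)⟩
  have hSP : S ≤ normalizer (P : Set G) := fun s hs => hnP s (hSN hs) (hSH hs)
  have hPO : P ≤ oc H := F.invCore H hH hSH P inf_le_right hPo hSP
  have h1 : ⁅P, zpowers w⁆ ≤ piCoreOf {r} (oc H) := by
    refine commutator_le_core hr (odd_oc H) (F.solv _ (odd_oc H)) hwI
      (le_normalizer_oc H (hSH hwS)) hPO hPr (hSP hwS) ?_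
    rintro x ⟨hxO, hxw⟩
    exact hnP x (hN hxw) (oc_le H hxO)
  refine h1.trans (le_core_of_isPGroup hr ((piCoreOf_le _ _).trans (oc_le _)) ?_
    (isPGroup_piCoreOf hr _))
  exact (le_normalizer_oc _).trans (normalizer_le_normalizer_piCoreOf _ _)

namespace Fam

theorem isInv (h : Fam S A g0 M q) {w : G} (hw : AInv A w) : IsInv w := h.frame.isInv hw.1 hw.2

theorem comm (h : Fam S A g0 M q) {t u : G} (ht : AInv A t) (hu : AInv A u) : t * u = u * t :=
  h.frame.comm_A ht.1 hu.1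

theorem mul (h : Fam S A g0 M q) {t u : G} (ht : AInv A t) (hu : AInv A u) (hne : t ≠ u) :
    AInv A (t * u) :=
  ⟨mul_mem ht.1 hu.1, ((h.isInv ht).mul (h.isInv hu) (h.comm ht hu) hne).2⟩

theorem ne_top (h : Fam S A g0 M q) {w : G} (hw : AInv A w) : M w ≠ ⊤ := (h.coatom w hw).1

theorem mem (h : Fam S A g0 M q) {w : G} (hw : AInv A w) : w ∈ M w :=
  h.cent w hw (mem_centralizer_iff'.mpr rfl)

/-- An element commuting with `w` lies in `M w`. -/
theorem mem_of_comm (h : Fam S A g0 M q) {w x : G} (hw : AInv A w) (hx : w * x = x * w) :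
    x ∈ M w :=
  h.cent w hw (mem_centralizer_iff'.mpr hx.symm)

theorem S_le (h : Fam S A g0 M q) {w : G} (hw : AInv A w) : S ≤ M w :=
  (h.frame.S_le_centralizer hw.1).trans (h.cent w hw)

theorem memS (h : Fam S A g0 M q) {w : G} (hw : AInv A w) : w ∈ S := h.frame.AS hw.1

theorem comm_S (h : Fam S A g0 M q) {w s : G} (hw : AInv A w) (hs : s ∈ S) : w * s = s * w :=
  h.frame.cen w hw.1 s hs

theorem bal (h : Fam S A g0 M q) {r : ℕ} (hr : r.Prime) (hr2 : r ≠ 2) {w : G} (hw : AInv A w)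
    {H : Subgroup G} (hH : H ≠ ⊤) (hSH : S ≤ H) :
    ⁅piCoreOf {r} (M w) ⊓ H, zpowers w⁆ ≤ piCoreOf {r} H :=
  bal_of_frame h.frame hw (h.cent w hw) hr hr2 hH hSH

/-- the normaliser of a nontrivial subgroup of odd order is proper. -/
theorem normalizer_ne_top (h : Fam S A g0 M q) {X : Subgroup G} (hX : X ≠ ⊥)
    (ho : Odd (Nat.card X)) : normalizer (X : Set G) ≠ ⊤ :=
  h.frame.normalizer_ne_top_of_odd ho hX

theorem normalizer_eq (h : Fam S A g0 M q) {t : G} (ht : AInv A t) {X : Subgroup G} (hX : X ≠ ⊥)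
    (ho : Odd (Nat.card X)) (hM : M t ≤ normalizer (X : Set G)) :
    normalizer (X : Set G) = M t := by
  rcases (h.coatom t ht).le_iff.mp hM with h1 | h1
  · exact absurd h1 (h.normalizer_ne_top hX ho)
  · exact h1

theorem isPGroup_core (h : Fam S A g0 M q) (w : G) : IsPGroup q (piCoreOf {q} (M w)) :=
  isPGroup_piCoreOf h.prime _

theorem ec_le (h : Fam S A g0 M q) {w : G} (hw : AInv A w) :
    ec q (M w) w ≤ piCoreOf {q} (M w) :=
  comm_le (le_normalizer_piCoreOf _ _ (h.mem hw))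

theorem isPGroup_ec (h : Fam S A g0 M q) {w : G} (hw : AInv A w) : IsPGroup q (ec q (M w) w) :=
  (h.isPGroup_core w).to_le (h.ec_le hw)

theorem odd_ec (h : Fam S A g0 M q) {w : G} (hw : AInv A w) : Odd (Nat.card (ec q (M w) w)) :=
  odd_of_isPGroup h.prime h.odd (h.isPGroup_ec hw)

theorem comm_ec (h : Fam S A g0 M q) {w : G} (hw : AInv A w) :
    ⁅ec q (M w) w, zpowers w⁆ = ec q (M w) w :=
  comm_comm (odd_of_isPGroup h.prime h.odd (h.isPGroup_core w)) (h.isInv hw)
    (le_normalizer_piCoreOf _ _ (h.mem hw))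

/-- an element `x` commuting with `w` and normalising `C` normalises `[C, w]`. -/
theorem mem_normalizer_comm {C : Subgroup G} {w x : G} (hx : w * x = x * w)
    (hxC : x ∈ normalizer (C : Set G)) : x ∈ normalizer ((⁅C, zpowers w⁆ : Subgroup G) : Set G) := by
  apply mem_normalizer_of_conj
  intro y hy
  have h1 : ⁅C, zpowers w⁆ ≤ (⁅C, zpowers w⁆).comap (MulAut.conj x).toMonoidHom := by
    rw [commutator_le]
    intro a ha b hb
    rw [mem_comap, map_commutatorElement]
    refine commutator_mem_commutator (conj_mem_of_mem_normalizer hxC ha) ?_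
    obtain ⟨n, rfl⟩ := hb
    have h2 : Commute x w := hx.symm
    have h3 : x * w ^ n * x⁻¹ = w ^ n := by
      rw [(h2.zpow_right n).eq]; group
    change x * w ^ n * x⁻¹ ∈ _
    rw [h3]
    exact ⟨n, rfl⟩
  exact h1 hy

theorem mem_normalizer_ec (h : Fam S A g0 M q) {w x : G} (hw : AInv A w) (hx : w * x = x * w) :
    x ∈ normalizer (ec q (M w) w : Set G) := by
  rw [ec_def]
  exact mem_normalizer_comm hx (le_normalizer_piCoreOf _ _ (h.mem_of_comm hw hx))

theorem S_le_normalizer_ec (h : Fam S A g0 M q) {w : G} (hw : AInv A w) :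
    S ≤ normalizer (ec q (M w) w : Set G) := fun _ hs => h.mem_normalizer_ec hw (h.comm_S hw hs)

/-- `O_q(M_w)` centralises `Y_w`. -/
theorem core_le_centralizer_yc (h : Fam S A g0 M q) (w : G) :
    piCoreOf {q} (M w) ≤ centralizer (yc q (M w) : Set G) :=
  core_le_centralizer_of_coprime h.prime ((yc_le _ _).trans (oc_le _)) (le_normalizer_yc _ _)
    (coprime_yc _ _)

/-- `O_r(M_w) ≤ Y_w` for `r ≠ q` odd. -/
theorem core_le_yc (h : Fam S A g0 M q) {w : G} {r : ℕ} (hr : r.Prime) (h2 : r ≠ 2)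
    (hrq : r ≠ q) : piCoreOf {r} (M w) ≤ yc q (M w) := by
  have h1 : piCoreOf {r} (M w) ≤ oc (M w) :=
    le_oc (piCoreOf_le _ _) (le_normalizer_piCoreOf _ _)
      (odd_of_isPGroup hr h2 (isPGroup_piCoreOf hr _))
  refine le_core_of_coprime h1 ((oc_le _).trans (le_normalizer_piCoreOf _ _)) ?_
  exact FitCores.coprime_of_isPGroup hr
    (fun h3 => hrq ((Nat.prime_dvd_prime_iff_eq hr h.prime).mp h3)) (isPGroup_piCoreOf hr _)

/-- (1a) -/
theorem ec_le_core (h : Fam S A g0 M q) {w : G} (hw : AInv A w) {H : Subgroup G} (hH : H ≠ ⊤)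
    (hSH : S ≤ H) (hE : ec q (M w) w ≤ H) : ec q (M w) w ≤ piCoreOf {q} H := by
  rw [← h.comm_ec hw]
  exact (commutator_mono (le_inf (h.ec_le hw) hE) le_rfl).trans
    (h.bal h.prime h.odd hw hH hSH)

/-- (1b) -/
theorem yc_inf_le (h : Fam S A g0 M q) {w : G} (hw : AInv A w) {H : Subgroup G} (hH : H ≠ ⊤)
    (hSH : S ≤ H) (hE : ec q (M w) w ≤ H) :
    yc q (M w) ⊓ H ≤ centralizer (piCoreOf {q} H : Set G) := by
  haveI := Fact.mk h.prime
  set B : Subgroup G := piCoreOf {q} H with hB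
  have hEB := h.ec_le_core hw hH hSH hE
  have hcop : (Nat.card ↥(yc q (M w) ⊓ H)).Coprime q :=
    Nat.Coprime.coprime_dvd_left (card_dvd_of_le inf_le_left) (coprime_yc _ _)
  have hBpg : IsPGroup q B := isPGroup_piCoreOf h.prime H
  refine Lib.ThompsonPQ.thompson_p_times_q q (ec q (M w) w) (yc q (M w) ⊓ H) B
    (h.isPGroup_ec hw) hcop hBpg ?_ ?_ ?_ ?_
  · exact ((h.ec_le hw).trans (h.core_le_centralizer_yc w)).trans (centralizer_le inf_le_left)
  · exact hE.trans (le_normalizer_piCoreOf _ _)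
  · exact inf_le_right.trans (le_normalizer_piCoreOf _ _)
  · rintro x ⟨hxA, hxC⟩
    rw [mem_centralizer_iff]
    rintro y ⟨hyY, hyH⟩
    have hxM : x ∈ M w := h.norm w hw (centralizer_le_normalizer _ hxC)
    have h1 : x * y * x⁻¹ * y⁻¹ ∈ B ⊓ yc q (M w) := by
      refine mem_inf.mpr ⟨?_, ?_⟩
      · have h2 : x * y * x⁻¹ * y⁻¹ = x * (y * x⁻¹ * y⁻¹) := by group
        rw [h2]
        exact B.mul_mem hxA (conj_mem_of_mem_normalizer (le_normalizer_piCoreOf _ _ hyH)
          (B.inv_mem hxA))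
      · exact mul_mem (conj_mem_of_mem_normalizer (le_normalizer_yc _ _ hxM) hyY) (inv_mem hyY)
    have h2 : B ⊓ yc q (M w) = ⊥ := by
      apply (disjoint_of_coprime_natCard _).eq_bot
      obtain ⟨n, hn⟩ := IsPGroup.iff_card.mp hBpg
      rw [hn]
      exact (Nat.Coprime.pow_right n (coprime_yc q (M w))).symm
    rw [h2, mem_bot] at h1
    have h3 : x * y = (x * y * x⁻¹ * y⁻¹) * (y * x) := by group
    rw [h1, one_mul] at h3
    exact h3.symm

/-- (1c) -/
theorem centralizer_core_le (h : Fam S A g0 M q) {w : G} (hw : AInv A w) {H : Subgroup G}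
    (hH : H ≠ ⊤) (hSH : S ≤ H) (hE : ec q (M w) w ≤ H) :
    centralizer (piCoreOf {q} H : Set G) ≤ M w :=
  (centralizer_le (h.ec_le_core hw hH hSH hE)).trans
    ((centralizer_le_normalizer _).trans (h.norm w hw))

/-- (2), one half: a maximal `X` contains `O_r(M_w)`. -/
theorem core_le_of_maximal (h : Fam S A g0 M q) {w : G} (hw : AInv A w) {r : ℕ} (hr : r.Prime)
    (hr2 : r ≠ 2) (hrq : r ≠ q) {X : Subgroup G} (hX : IsPGroup r X) (hX1 : X ≠ ⊥)
    (hSX : S ≤ normalizer (X : Set G)) (hXE : X ≤ centralizer (ec q (M w) w : Set G))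
    (hmax : piCoreOf {r} (normalizer (X : Set G)) ≤ X) : piCoreOf {r} (M w) ≤ X := by
  haveI := Fact.mk hr
  set H : Subgroup G := normalizer (X : Set G) with hHdef
  have hXo : Odd (Nat.card X) := odd_of_isPGroup hr hr2 hX
  have hH : H ≠ ⊤ := h.normalizer_ne_top hX1 hXo
  have hEH : ec q (M w) w ≤ H := by
    rw [le_centralizer_iff] at hXE
    exact hXE.trans (centralizer_le_normalizer _)
  have hXM : X ≤ M w := hXE.trans ((centralizer_le_normalizer _).trans (h.norm w hw))
  refine le_of_normalizer_le hr (isPGroup_piCoreOf hr _) hX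
    (hXM.trans (le_normalizer_piCoreOf _ _)) ?_
  refine le_trans ?_ hmax
  -- `C₁ = C_H(O_q(H))`
  set C₁ : Subgroup G := H ⊓ centralizer (piCoreOf {q} H : Set G) with hC₁
  have hC₁M : C₁ ≤ M w := inf_le_right.trans (h.centralizer_core_le hw hH hSX hEH)
  have h1 : piCoreOf {r} (M w) ⊓ H ≤ C₁ :=
    le_inf inf_le_right ((inf_le_inf_right H (h.core_le_yc hr hr2 hrq)).trans
      (h.yc_inf_le hw hH hSX hEH))
  have hC₁n : H ≤ normalizer (C₁ : Set G) := by
    intro x hx
    apply mem_normalizer_of_conj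
    rintro y ⟨hyH, hyC⟩
    refine mem_inf.mpr ⟨H.mul_mem (H.mul_mem hx hyH) (H.inv_mem hx), ?_⟩
    rw [mem_centralizer_iff]
    intro a ha
    have h3 : x⁻¹ * a * x ∈ piCoreOf {q} H := by
      have := conj_mem_of_mem_normalizer (le_normalizer_piCoreOf {q} H (H.inv_mem hx)) ha
      simpa using this
    have h4 := mem_centralizer_iff.mp hyC _ h3
    have h5 : a * (x * y * x⁻¹) = x * ((x⁻¹ * a * x) * y) * x⁻¹ := by group
    rw [h5, h4]; group
  have h2 : piCoreOf {r} (M w) ⊓ H ≤ piCoreOf {r} C₁ := by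
    refine le_core_of_isPGroup hr h1 ?_ ((isPGroup_piCoreOf hr _).to_le inf_le_left)
    intro x hx
    apply mem_normalizer_of_conj
    rintro y ⟨hyP, hyH⟩
    refine mem_inf.mpr ⟨conj_mem_of_mem_normalizer (le_normalizer_piCoreOf _ _ (hC₁M hx)) hyP, ?_⟩
    exact H.mul_mem (H.mul_mem (inf_le_left (a := H) hx) hyH) (H.inv_mem (inf_le_left (a := H) hx))
  refine h2.trans (le_core_of_isPGroup hr ((piCoreOf_le _ _).trans inf_le_left) ?_
    (isPGroup_piCoreOf hr _))
  exact hC₁n.trans (normalizer_le_normalizer_piCoreOf _ _)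

theorem core_conj (h : Fam S A g0 M q) {w : G} (hw : AInv A w) (π : Set ℕ) (g : G) :
    piCoreOf π (M (g * w * g⁻¹)) = (piCoreOf π (M w)).map (MulAut.conj g).toMonoidHom := by
  rw [h.conj g w hw, Equivariance.piCoreOf_map]

theorem yc_conj (h : Fam S A g0 M q) {w : G} (hw : AInv A w) (g : G) :
    yc q (M (g * w * g⁻¹)) = (yc q (M w)).map (MulAut.conj g).toMonoidHom := by
  rw [yc_def, yc_def, oc_def, oc_def, h.core_conj hw, Equivariance.piCoreOf_map]

theorem core_ne_bot (h : Fam S A g0 M q) {t u : G} (ht : AInv A t) (hu : AInv A u) {r : ℕ}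
    (h1 : piCoreOf {r} (M t) ≠ ⊥) : piCoreOf {r} (M u) ≠ ⊥ := by
  obtain ⟨k, rfl⟩ := h.frame.exists_pow_conj ht.1 ht.2 hu.1 hu.2
  rw [h.core_conj ht]
  rwa [Ne, Subgroup.map_eq_bot_iff_of_injective _ (MulAut.conj (g0 ^ k)).injective]

/-- One half of the end of (2): `E_u ≤ M_t` and `E_t ≤ M_u` give `Y_t ≤ Y_u`. -/
theorem yc_le_yc (h : Fam S A g0 M q) {t u : G} (ht : AInv A t) (hu : AInv A u)
    (h1 : ec q (M u) u ≤ M t) (h2 : ec q (M t) t ≤ M u) : yc q (M t) ≤ yc q (M u) := by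
  haveI := Fact.mk h.prime
  -- `E_u ≤ O_q(M_t)`, `E_t ≤ O_q(M_u)`
  have hEu : ec q (M u) u ≤ piCoreOf {q} (M t) := h.ec_le_core hu (h.ne_top ht) (h.S_le ht) h1
  have hEt : ec q (M t) t ≤ piCoreOf {q} (M u) := h.ec_le_core ht (h.ne_top hu) (h.S_le hu) h2
  have hYu : yc q (M t) ≤ M u := by
    have h3 : yc q (M t) ≤ centralizer (ec q (M u) u : Set G) := by
      rw [le_centralizer_iff]
      exact hEu.trans (h.core_le_centralizer_yc t)
    exact h3.trans ((centralizer_le_normalizer _).trans (h.norm u hu))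
  have hYR : yc q (M t) ≤ oc (M u) :=
    h.frame.invCore (M u) (h.ne_top hu) (h.S_le hu) _ hYu (odd_yc _ _)
      ((h.S_le ht).trans (le_normalizer_yc _ _))
  have hER : ec q (M t) t ≤ oc (M u) :=
    h.frame.invCore (M u) (h.ne_top hu) (h.S_le hu) _ h2 (h.odd_ec ht) (h.S_le_normalizer_ec ht)
  have hYE : yc q (M t) ≤ centralizer (ec q (M t) t : Set G) := by
    rw [le_centralizer_iff]
    exact (h.ec_le ht).trans (h.core_le_centralizer_yc t)
  -- inside the solvable group `R_u`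
  set R : Subgroup G := oc (M u) with hR
  have key : (yc q (M t)).subgroupOf R ≤ pPrimeCore q R := by
    refine SignalizersComponents.CoreOfCentralizer.le_pPrimeCore_of_centralizer_normalizes
      (h.frame.solv R (odd_oc _)) ((ec q (M t) t).subgroupOf R) ?_ ((yc q (M t)).subgroupOf R) ?_ ?_ ?_
    · exact (h.isPGroup_ec ht).of_equiv (subgroupOfEquivOfLe hER).symm
    · rw [Nat.card_congr (subgroupOfEquivOfLe hYR).toEquiv]; exact coprime_yc _ _
    · intro x hx
      rw [mem_centralizer_iff]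
      intro y hy
      exact Subtype.ext (mem_centralizer_iff.mp (hYE hx) y hy)
    · intro x hx
      have hxC : (x : G) ∈ centralizer (ec q (M t) t : Set G) := by
        rw [mem_centralizer_iff]
        intro y hy
        exact congrArg Subtype.val (mem_centralizer_iff.mp hx ⟨y, hER hy⟩ hy)
      have hxM : (x : G) ∈ M t := h.norm t ht (centralizer_le_normalizer _ hxC)
      rw [mem_normalizer_iff]
      intro y
      exact mem_normalizer_iff.mp (le_normalizer_yc q (M t) hxM) y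
  have h3 := map_mono (f := R.subtype) key
  rw [map_subgroupOf_eq_of_le hYR] at h3
  have h4 : R ≤ normalizer (((pPrimeCore q R).map R.subtype : Subgroup G) : Set G) := by
    intro x hx
    apply mem_normalizer_of_conj
    rintro _ ⟨y, hy, rfl⟩
    haveI := Lib.Cores.pPrimeCore_normal (G := R) q
    exact ⟨⟨x, hx⟩ * y * ⟨x, hx⟩⁻¹, Normal.conj_mem inferInstance y hy _, rfl⟩
  refine h3.trans (le_core_of_coprime (map_subtype_le _) h4 ?_)
  rw [Nat.card_congr ((pPrimeCore q R).equivMapOfInjective R.subtype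
    R.subtype_injective).symm.toEquiv]
  exact Lib.Cores.pPrimeCore_coprime q

/-- (2): for `r ≠ q` odd with `O_r(M_t) ≠ 1` no `S`-invariant `r`-group `X ≠ 1` centralises both `E_t` and `E_u`. -/
theorem no_invariant (h : Fam S A g0 M q) {t u : G} (ht : AInv A t) (hu : AInv A u)
    (hne : t ≠ u) {r : ℕ} (hr : r.Prime) (hr2 : r ≠ 2) (hrq : r ≠ q)
    (hPt : piCoreOf {r} (M t) ≠ ⊥) {X : Subgroup G} (hX : IsPGroup r X) (hX1 : X ≠ ⊥)
    (hSX : S ≤ normalizer (X : Set G))
    (hXt : X ≤ centralizer (ec q (M t) t : Set G)) (hXu : X ≤ centralizer (ec q (M u) u : Set G)) :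
    False := by
  set T : Set (Subgroup G) := {X' | IsPGroup r X' ∧ S ≤ normalizer (X' : Set G) ∧
    X' ≤ centralizer (ec q (M t) t : Set G) ∧
    X' ≤ centralizer (ec q (M u) u : Set G)} with hT
  obtain ⟨X', hXX', ⟨hX'p, hSX', hX't, hX'u⟩, hmax⟩ :=
    (Set.toFinite T).exists_le_maximal (show X ∈ T from ⟨hX, hSX, hXt, hXu⟩)
  have hX'1 : X' ≠ ⊥ := fun h1 => hX1 (le_bot_iff.mp (h1 ▸ hXX'))
  have hX'o : Odd (Nat.card X') := odd_of_isPGroup hr hr2 hX'p
  set H : Subgroup G := normalizer (X' : Set G) with hHdef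
  have hH : H ≠ ⊤ := h.normalizer_ne_top hX'1 hX'o
  have hcent : ∀ w : G, AInv A w → X' ≤ centralizer (ec q (M w) w : Set G) →
      piCoreOf {r} H ≤ centralizer (ec q (M w) w : Set G) := by
    intro w hw hXw
    have hEH : ec q (M w) w ≤ H := by
      rw [le_centralizer_iff] at hXw
      exact hXw.trans (centralizer_le_normalizer _)
    exact (core_le_centralizer_core hr h.prime hrq H).trans
      (centralizer_le (h.ec_le_core hw hH hSX' hEH))
  have hcore : piCoreOf {r} H ≤ X' := by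
    refine hmax ⟨isPGroup_piCoreOf hr H, hSX'.trans (le_normalizer_piCoreOf _ _),
      hcent t ht hX't, hcent u hu hX'u⟩ ?_
    exact le_core_of_isPGroup hr le_normalizer le_rfl hX'p
  have hPtX := h.core_le_of_maximal ht hr hr2 hrq hX'p hX'1 hSX' hX't hcore
  have hPuX := h.core_le_of_maximal hu hr hr2 hrq hX'p hX'1 hSX' hX'u hcore
  have hEM : ∀ w : G, AInv A w → piCoreOf {r} (M w) ≤ X' → ∀ E : Subgroup G,
      X' ≤ centralizer (E : Set G) → E ≤ M w := by
    intro w hw hPX E hE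
    have hP1 : piCoreOf {r} (M w) ≠ ⊥ := h.core_ne_bot ht hw hPt
    rw [← h.normalizer_eq hw hP1 (odd_of_isPGroup hr hr2 (isPGroup_piCoreOf hr _))
      (le_normalizer_piCoreOf _ _)]
    rw [le_centralizer_iff] at hE
    exact (hE.trans (centralizer_le hPX)).trans (centralizer_le_normalizer _)
  have h1 : ec q (M u) u ≤ M t := hEM t ht hPtX _ hX'u
  have h2 : ec q (M t) t ≤ M u := hEM u hu hPuX _ hX't
  have h3 : yc q (M t) = yc q (M u) :=
    le_antisymm (h.yc_le_yc ht hu h1 h2) (h.yc_le_yc hu ht h2 h1)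
  apply h.ne t u ht hu hne
  rw [← h.normalizer_eq ht (h.ne_bot t ht) (odd_yc _ _) (le_normalizer_yc _ _),
    ← h.normalizer_eq hu (h.ne_bot u hu) (odd_yc _ _) (le_normalizer_yc _ _), h3]

/-- (3): no proper subgroup contains `S`, `E_t`, `E_u` and `Y_t`. -/
theorem no_overgroup (h : Fam S A g0 M q) {t u : G} (ht : AInv A t) (hu : AInv A u)
    (hne : t ≠ u) {H : Subgroup G} (hH : H ≠ ⊤) (hSH : S ≤ H)
    (hEt : ec q (M t) t ≤ H) (hEu : ec q (M u) u ≤ H) (hY : yc q (M t) ≤ H) : False := by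
  have h1 : yc q (M t) ≤ centralizer (piCoreOf {q} H : Set G) := by
    have := h.yc_inf_le ht hH hSH hEt
    rwa [inf_eq_left.mpr hY] at this
  obtain ⟨r, hr, V, hVY, hV1, hVr, hVn⟩ :=
    exists_pgroup_le_of_solvable (h.frame.solv _ (odd_yc q (M t))) (h.ne_bot t ht)
  haveI := Fact.mk hr
  have hVo : Odd (Nat.card V) := odd_of_le hVY (odd_yc _ _)
  have hdvd : r ∣ Nat.card V := by
    haveI : Nontrivial V := (nontrivial_iff_ne_bot V).mpr hV1
    obtain ⟨n, hn, hc⟩ := hVr.nontrivial_iff_card.mp inferInstance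
    rw [hc]; exact dvd_pow_self r hn.ne'
  have hr2 : r ≠ 2 := by
    rintro rfl
    exact not_two_dvd hVo hdvd
  have hrq : r ≠ q := by
    rintro rfl
    have h2 := Nat.dvd_gcd (hdvd.trans (card_dvd_of_le hVY)) (dvd_refl r)
    rw [(coprime_yc r (M t)).gcd_eq_one] at h2
    exact hr.one_lt.ne' (Nat.dvd_one.mp h2)
  have hMV : M t ≤ normalizer (V : Set G) := (le_normalizer_yc _ _).trans hVn
  have hVM : V ≤ M t := hVY.trans ((yc_le _ _).trans (oc_le _))
  have hVP : V ≤ piCoreOf {r} (M t) := le_core_of_isPGroup hr hVM hMV hVr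
  refine h.no_invariant ht hu hne hr hr2 hrq (fun h2 => hV1 (le_bot_iff.mp (h2 ▸ hVP))) hVr hV1
    ((h.S_le ht).trans hMV) ?_ ?_
  · exact hVY.trans (h1.trans (centralizer_le (h.ec_le_core ht hH hSH hEt)))
  · exact hVY.trans (h1.trans (centralizer_le (h.ec_le_core hu hH hSH hEu)))

/-- `t` centralises `O_r(M_t)` for `r ≠ q` odd. -/
theorem core_le_centralizer (h : Fam S A g0 M q) {t u : G} (ht : AInv A t) (hu : AInv A u)
    (hne : t ≠ u) {r : ℕ} (hr : r.Prime) (hr2 : r ≠ 2) (hrq : r ≠ q) :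
    piCoreOf {r} (M t) ≤ centralizer ({t} : Set G) := by
  haveI := Fact.mk hr
  set P : Subgroup G := piCoreOf {r} (M t) with hP
  have hPr : IsPGroup r P := isPGroup_piCoreOf hr _
  have hPo : Odd (Nat.card P) := odd_of_isPGroup hr hr2 hPr
  have hnP : ∀ x : G, t * x = x * t → x ∈ normalizer (P : Set G) := fun x hx =>
    le_normalizer_piCoreOf _ _ (h.mem_of_comm ht hx)
  -- the pair `(t, w)`
  have key : ∀ w : G, AInv A w → t ≠ w →
      P ⊓ centralizer ({w} : Set G) ≤ centralizer ({t} : Set G) := by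
    intro w hw htw'
    by_contra hcon
    set C : Subgroup G := P ⊓ centralizer ({w} : Set G) with hC
    have hSC : S ≤ normalizer (C : Set G) := by
      intro x hx
      apply mem_normalizer_of_conj
      rintro y ⟨hyP, hyw⟩
      refine mem_inf.mpr ⟨conj_mem_of_mem_normalizer (hnP x (h.comm_S ht hx)) hyP, ?_⟩
      have h2 : x ∈ centralizer ({w} : Set G) := mem_centralizer_iff'.mpr (h.comm_S hw hx).symm
      exact mul_mem (mul_mem h2 hyw) (inv_mem h2)
    have htC : t ∈ normalizer (C : Set G) := hSC (h.memS ht)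
    have hX1 : ⁅C, zpowers t⁆ ≠ ⊥ := fun h1 => hcon (comm_eq_bot_iff.mp h1)
    have hXC : ⁅C, zpowers t⁆ ≤ C := comm_le htC
    have hXP : ⁅C, zpowers t⁆ ≤ P := hXC.trans inf_le_left
    have hCM : C ≤ P ⊓ M w := le_inf inf_le_left (inf_le_right.trans (h.cent w hw))
    have hXPw : ⁅C, zpowers t⁆ ≤ piCoreOf {r} (M w) :=
      (commutator_mono hCM le_rfl).trans (h.bal hr hr2 ht (h.ne_top hw) (h.S_le hw))
    refine h.no_invariant ht hw htw' hr hr2 hrq ?_ (hPr.to_le hXP) hX1 ?_ ?_ ?_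
    · intro h1
      apply hX1
      rw [eq_bot_iff, ← h1]
      exact hXP
    · intro s hs
      exact mem_normalizer_comm (h.comm_S ht hs) (hSC hs)
    · exact hXP.trans ((core_le_centralizer_core hr h.prime hrq _).trans
        (centralizer_le (h.ec_le ht)))
    · exact hXPw.trans ((core_le_centralizer_core hr h.prime hrq _).trans
        (centralizer_le (h.ec_le hw)))
  have hne' : t ≠ t * u := by
    intro h1
    exact hu.2 (mul_eq_left.mp h1.symm)
  refine le_of_four hPo (h.isInv ht) (h.isInv hu) (h.comm ht hu) (hnP t rfl)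
    (hnP u (h.comm ht hu)) inf_le_right (key u hu hne) (key (t * u) (h.mul ht hu hne) hne')

/-- `t` centralises `Y_t`. -/
theorem yc_le_centralizer (h : Fam S A g0 M q) {t u : G} (ht : AInv A t) (hu : AInv A u)
    (hne : t ≠ u) : yc q (M t) ≤ centralizer ({t} : Set G) := by
  rw [← zpowers_le_centralizer_iff]
  have htn : zpowers t ≤ normalizer (yc q (M t) : Set G) := by
    rw [zpowers_le]
    exact le_normalizer_yc _ _ (h.mem ht)
  refine le_centralizer_of_centralizes_fitting htn (h.frame.solv _ (odd_yc _ _))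
    (coprime_of_odd (odd_yc _ _) (h.isInv ht)) ?_
  rw [zpowers_le_centralizer_iff, fittingOf_le_iff]
  intro r hr
  haveI := Fact.mk hr
  by_cases h1 : piCoreOf {r} (yc q (M t)) = ⊥
  · rw [h1]; exact bot_le
  have hVr : IsPGroup r (piCoreOf {r} (yc q (M t))) := isPGroup_piCoreOf hr _
  have hVY : piCoreOf {r} (yc q (M t)) ≤ yc q (M t) := piCoreOf_le _ _
  have hVo : Odd (Nat.card ↥(piCoreOf {r} (yc q (M t)))) := odd_of_le hVY (odd_yc _ _)
  have hdvd : r ∣ Nat.card ↥(piCoreOf {r} (yc q (M t))) := by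
    haveI : Nontrivial ↥(piCoreOf {r} (yc q (M t))) := (nontrivial_iff_ne_bot _).mpr h1
    obtain ⟨n, hn, hc⟩ := hVr.nontrivial_iff_card.mp inferInstance
    rw [hc]; exact dvd_pow_self r hn.ne'
  have hr2 : r ≠ 2 := by
    rintro rfl
    exact not_two_dvd hVo hdvd
  have hrq : r ≠ q := by
    rintro rfl
    have h2 := Nat.dvd_gcd (hdvd.trans (card_dvd_of_le hVY)) (dvd_refl r)
    rw [(coprime_yc r (M t)).gcd_eq_one] at h2
    exact hr.one_lt.ne' (Nat.dvd_one.mp h2)
  have hVP : piCoreOf {r} (yc q (M t)) ≤ piCoreOf {r} (M t) := by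
    refine le_core_of_isPGroup hr (hVY.trans ((yc_le _ _).trans (oc_le _))) ?_ hVr
    exact (le_normalizer_yc q (M t)).trans (normalizer_le_normalizer_piCoreOf _ _)
  exact hVP.trans (h.core_le_centralizer ht hu hne hr hr2 hrq)

end Fam

end fam

end Cfsg.Agent.TwoFusion.GoldM1B
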