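import Mathlib
import Cfsg.Agent.TwoFusion.GoldM1B
import Cfsg.Agent.Classification.TypeB.Chain

/-!
# Case [M1] of Goldschmidt's theorem, type B: the final contradiction

`Fam.false_of_typeF`: the family `M` of `TwoFusion/GoldM1B.lean` does not exist if some proper subgroup of type F
contains `S` and `O_q(M_t)`.  The `S`-invariant version of `Classification/TypeB/Chain.lean`.
-/

set_option autoImplicit false
set_option linter.unusedSectionVars false
set_option linter.style.haveILetI false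

namespace Cfsg.Agent.TwoFusion.GoldM1BChain

open Subgroup Cfsg
open Cfsg.Agent.TwoFusion.GoldM1 Cfsg.Agent.TwoFusion.GoldM1B
open Cfsg.Agent.Classification.TypeB.Basic Cfsg.Agent.Classification.TypeB.LemG
open Cfsg.Agent.Classification.TypeB.Core (oc oc_def oc_le odd_oc normalizer_le_oc le_normalizer_oc
  le_oc odd_of_isPGroup yc yc_def yc_le odd_yc le_normalizer_yc coprime_yc ec ec_def
  le_of_normalizer_le)
open Cfsg.Agent.Classification.TypeB.Chain (CChain exists_chain mem_centralizer_mul comm_of_inverts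
  le_centralizer_of_no_inverted)
open Cfsg.Agent.OddOrderLocal.PiCoreOf
open Cfsg.Agent.OddOrderLocal
open Cfsg.Agent.OddOrderLocal.FitCores (isPGroup_piCoreOf le_core_of_le_fittingOf
  fittingOf_le_iff inf_centralizer_fittingOf_le le_core_of_isPGroup)

variable {G : Type*} [Group G] [Finite G]

variable {S A : Subgroup G} {g0 : G} {M : G → Subgroup G} {q : ℕ}

/-- `w` is good for `Z'` (inside `L ≥ S`). -/
structure Good (S A : Subgroup G) (M : G → Subgroup G) (q : ℕ) (L Z' : Subgroup G) (w : G) :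
    Prop where
  inv : AInv A w
  SL : S ≤ L
  le : piCoreOf {q} (M w) ≤ L
  disj : piCoreOf {q} (M w) ⊓ Z' = ⊥
  cent : yc q (M w) ≤ centralizer ({w} : Set G)

theorem Good.mem (h : Fam S A g0 M q) {L Z' : Subgroup G} {w : G} (hg : Good S A M q L Z' w) :
    w ∈ L := hg.SL (h.memS hg.inv)

/-- `Z' ∩ M_w` centralises `O_q(M_w)`. -/
theorem Good.le_centralizer_core {L Z' : Subgroup G} {w : G} (hg : Good S A M q L Z' w)
    (hLZ : L ≤ normalizer (Z' : Set G)) :
    Z' ⊓ M w ≤ centralizer (piCoreOf {q} (M w) : Set G) := by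
  intro x hx
  obtain ⟨hxZ, hxM⟩ := mem_inf.mp hx
  rw [mem_centralizer_iff]
  intro y hy
  have h1 : x * y * x⁻¹ * y⁻¹ ∈ piCoreOf {q} (M w) ⊓ Z' := by
    refine mem_inf.mpr ⟨mul_mem (conj_mem_of_mem_normalizer (le_normalizer_piCoreOf _ _ hxM) hy)
      (inv_mem hy), ?_⟩
    have h2 : x * y * x⁻¹ * y⁻¹ = x * (y * x⁻¹ * y⁻¹) := by group
    rw [h2]
    exact Z'.mul_mem hxZ (conj_mem_of_mem_normalizer (hLZ (hg.le hy)) (Z'.inv_mem hxZ))
  rw [hg.disj, mem_bot] at h1
  have h3 : x * y = (x * y * x⁻¹ * y⁻¹) * (y * x) := by group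
  rw [h1, one_mul] at h3
  exact h3.symm

/-- `Z' ∩ M_w` is centralised by `w`. -/
theorem Good.le_centralizer (h : Fam S A g0 M q) {L Z' B : Subgroup G} {w : G}
    (hg : Good S A M q L Z' w) (hB : IsPGroup q B) (hZB : Z' ≤ B)
    (hLZ : L ≤ normalizer (Z' : Set G)) :
    Z' ⊓ M w ≤ centralizer ({w} : Set G) := by
  haveI := Fact.mk h.prime
  have hw := hg.inv
  set D : Subgroup G := Z' ⊓ M w with hD
  have hDp : IsPGroup q D := (hB.to_le hZB).to_le inf_le_left
  have hDo : Odd (Nat.card D) := odd_of_isPGroup h.prime h.odd hDp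
  have hSD : S ≤ normalizer (D : Set G) := by
    intro s hs
    apply mem_normalizer_of_conj
    rintro y ⟨hy1, hy2⟩
    have hsM := h.S_le hw hs
    exact mem_inf.mpr ⟨conj_mem_of_mem_normalizer (hLZ (hg.SL hs)) hy1,
      (M w).mul_mem ((M w).mul_mem hsM hy2) ((M w).inv_mem hsM)⟩
  have hwD : w ∈ normalizer (D : Set G) := hSD (h.memS hw)
  have hDR : D ≤ oc (M w) := h.frame.invCore (M w) (h.ne_top hw) (h.S_le hw) D inf_le_right hDo hSD
  set X : Subgroup G := ⁅D, zpowers w⁆ with hX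
  have hXD : X ≤ D := comm_le hwD
  -- `X` centralises `Y_w`
  have hXY : X ≤ centralizer (yc q (M w) : Set G) := by
    rw [hX, commutator_le]
    intro d hd a ha
    have haC : a ∈ centralizer (yc q (M w) : Set G) :=
      (zpowers_le_centralizer_iff.mpr hg.cent) ha
    have hdN : d ∈ normalizer (yc q (M w) : Set G) := le_normalizer_yc _ _ (inf_le_right (a := Z') hd)
    rw [commutatorElement_def]
    refine mul_mem ?_ (inv_mem haC)
    rw [mem_centralizer_iff]
    intro y hy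
    have h1 : d⁻¹ * y * d ∈ yc q (M w) := by
      have := conj_mem_of_mem_normalizer (inv_mem hdN) hy
      simpa using this
    have h2 := mem_centralizer_iff.mp haC _ h1
    have h3 : y * (d * a * d⁻¹) = d * ((d⁻¹ * y * d) * a) * d⁻¹ := by group
    rw [h3, h2]; group
  have hXQ : X ≤ centralizer (piCoreOf {q} (M w) : Set G) :=
    hXD.trans (hg.le_centralizer_core hLZ)
  have hXF : X ≤ centralizer (fittingOf (oc (M w)) : Set G) := by
    rw [le_centralizer_iff, fittingOf_le_iff]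
    intro r hr
    haveI := Fact.mk hr
    have hPM : piCoreOf {r} (oc (M w)) ≤ piCoreOf {r} (M w) := by
      refine le_core_of_isPGroup hr ((piCoreOf_le _ _).trans (oc_le _)) ?_ (isPGroup_piCoreOf hr _)
      exact (le_normalizer_oc _).trans (normalizer_le_normalizer_piCoreOf _ _)
    by_cases hrq : r = q
    · subst hrq
      rw [le_centralizer_iff]
      exact hXQ.trans (centralizer_le hPM)
    · rw [le_centralizer_iff]
      refine hXY.trans (centralizer_le ?_)
      refine FitCores.le_core_of_coprime (piCoreOf_le _ _) (le_normalizer_piCoreOf _ _) ?_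
      exact FitCores.coprime_of_isPGroup hr
        (fun h3 => hrq ((Nat.prime_dvd_prime_iff_eq hr h.prime).mp h3)) (isPGroup_piCoreOf hr _)
  have h1 : X ≤ fittingOf (oc (M w)) :=
    (le_inf (hXD.trans hDR) hXF).trans (inf_centralizer_fittingOf_le (h.frame.solv _ (odd_oc _)))
  have h2 : X ≤ piCoreOf {q} (oc (M w)) := le_core_of_le_fittingOf h.prime h1 (hDp.to_le hXD)
  have h3 : X ≤ piCoreOf {q} (M w) := by
    refine h2.trans (le_core_of_isPGroup h.prime ((piCoreOf_le _ _).trans (oc_le _)) ?_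
      (isPGroup_piCoreOf h.prime _))
    exact (le_normalizer_oc _).trans (normalizer_le_normalizer_piCoreOf _ _)
  have h4 : X = ⊥ := by
    rw [eq_bot_iff, ← hg.disj]
    exact le_inf h3 (hXD.trans inf_le_left)
  exact comm_eq_bot_iff.mp h4


/-- (b), the core of the induction step. -/
theorem Good.eq_one (h : Fam S A g0 M q) {L Z' B : Subgroup G} (hL : L ≠ ⊤) {Z : ℕ → Subgroup G}
    (hZ : CChain L (piCoreOf {q} L) Z) {w₁ w₂ : G} (h1 : Good S A M q L Z' w₁)
    (h2 : Good S A M q L Z' w₂) {j : ℕ}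
    (hj1 : Z j ≤ centralizer ({w₁} : Set G)) (hj2 : Z j ≤ centralizer ({w₂} : Set G))
    (hB : IsPGroup q B) (hZB : Z' ≤ B) (hLZ : L ≤ normalizer (Z' : Set G))
    (hj : Z (j + 1) ≤ Z') {x : G} (hx : x ∈ Z (j + 1)) (hx2 : x * w₂ = w₂ * x)
    (hx1 : w₁ * x * w₁⁻¹ = x⁻¹) : x = 1 := by
  haveI := Fact.mk h.prime
  have ha1 := h1.inv
  have ha2 := h2.inv
  have hi1 := h.isInv h1.inv
  have hi2 := h.isInv h2.inv
  have hc : w₁ * w₂ = w₂ * w₁ := h.comm ha1 ha2
  have hZo : Odd (Nat.card Z') := odd_of_isPGroup h.prime h.odd (hB.to_le hZB)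
  have hxZ : x ∈ Z' := hj hx
  have hE1Q : ec q (M w₁) w₁ ≤ piCoreOf {q} (M w₁) := h.ec_le ha1
  have hE1A : ec q (M w₁) w₁ ≤ piCoreOf {q} L := h.ec_le_core ha1 hL h1.SL (hE1Q.trans h1.le)
  have hcomm : ∀ b ∈ ec q (M w₁) w₁, x * b * x⁻¹ * b⁻¹ ∈ Z j := fun b hb =>
    hZ.comm j x hx b (hE1A hb)
  have hc1 : ∀ b ∈ ec q (M w₁) w₁, b * w₁ = w₁ * b → b ∈ centralizer ({x} : Set G) := by
    intro b hb hbw
    rw [mem_centralizer_iff']
    exact (comm_of_inverts hZo hxZ hx1 hbw.symm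
      (mem_centralizer_iff'.mp (hj1 (hcomm b hb))).symm).symm
  have hE1 : ec q (M w₁) w₁ ≤ centralizer ({x} : Set G) := by
    refine le_of_four (h.odd_ec ha1) hi1 hi2 hc (h.mem_normalizer_ec ha1 rfl)
      (h.mem_normalizer_ec ha1 hc) ?_ ?_ ?_
    · rintro b ⟨hb, hbw⟩
      exact hc1 b hb (mem_centralizer_iff'.mp hbw)
    · -- the part centralised by `w₂`
      set K : Subgroup G := ec q (M w₁) w₁ ⊓ centralizer ({w₂} : Set G) with hK
      have hKn : w₁ ∈ normalizer (K : Set G) := by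
        apply mem_normalizer_of_conj
        rintro y ⟨hy1, hy2⟩
        refine mem_inf.mpr ⟨conj_mem_of_mem_normalizer (h.mem_normalizer_ec ha1 rfl) hy1, ?_⟩
        have h3 : w₁ ∈ centralizer ({w₂} : Set G) := mem_centralizer_iff'.mpr hc
        exact mul_mem (mul_mem h3 hy2) (inv_mem h3)
      refine le_of_split (odd_of_le inf_le_left (h.odd_ec ha1)) hi1 hKn ?_ ?_
      · have h3 : ⁅K, zpowers w₁⁆ ≤ piCoreOf {q} (M w₂) := by
          refine (commutator_mono (le_inf (inf_le_left.trans hE1Q)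
            (inf_le_right.trans (h.cent w₂ ha2))) le_rfl).trans
            (h.bal h.prime h.odd ha1 (h.ne_top ha2) (h.S_le ha2))
        refine h3.trans ?_
        have h4 : x ∈ Z' ⊓ M w₂ := mem_inf.mpr ⟨hxZ, h.mem_of_comm ha2 hx2.symm⟩
        intro y hy
        rw [mem_centralizer_iff']
        exact mem_centralizer_iff.mp (h2.le_centralizer_core hLZ h4) y hy
      · rintro b ⟨⟨hb, -⟩, hbw⟩
        exact hc1 b hb (mem_centralizer_iff'.mp hbw)
    · rintro b ⟨hb, hbw⟩
      rw [mem_centralizer_iff']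
      have h3 : w₁ * w₂ * x * (w₁ * w₂)⁻¹ = x⁻¹ := by
        have h4 : w₁ * w₂ * x * (w₁ * w₂)⁻¹ = w₁ * (w₂ * x * w₂⁻¹) * w₁⁻¹ := by group
        rw [h4, ← hx2, mul_inv_cancel_right, hx1]
      have h4 : x * b * x⁻¹ * b⁻¹ ∈ centralizer ({w₁ * w₂} : Set G) :=
        mem_centralizer_mul (hj1 (hcomm b hb)) (hj2 (hcomm b hb))
      exact (comm_of_inverts hZo hxZ h3 (mem_centralizer_iff'.mp hbw).symm
        (mem_centralizer_iff'.mp h4).symm).symm
  have hxM : x ∈ M w₁ := by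
    refine h.norm w₁ ha1 (centralizer_le_normalizer _ ?_)
    rw [mem_centralizer_iff]
    intro b hb
    exact mem_centralizer_iff'.mp (hE1 hb)
  have hxc : x ∈ centralizer ({w₁} : Set G) :=
    h1.le_centralizer h hB hZB hLZ (mem_inf.mpr ⟨hxZ, hxM⟩)
  have h3 : x = x⁻¹ := by
    rw [← hx1, ← mem_centralizer_iff'.mp hxc, mul_inv_cancel_right]
  apply eq_one_of_sq hZo hxZ
  nth_rewrite 2 [h3]
  exact mul_inv_cancel x

/-- `Good` for the product, as a package: the three involutions of `A`. -/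
structure Four (S A : Subgroup G) (M : G → Subgroup G) (q : ℕ) (L Z' : Subgroup G) (t u : G) :
    Prop where
  one : Good S A M q L Z' t
  two : Good S A M q L Z' u
  three : Good S A M q L Z' (t * u)
  ne : t ≠ u

/-- (b): `A` centralises `Z'`. -/
theorem Four.le_centralizer (h : Fam S A g0 M q) {L : Subgroup G} (hL : L ≠ ⊤) {Z : ℕ → Subgroup G}
    (hZ : CChain L (piCoreOf {q} L) Z) {t u : G} {k : ℕ} (hf : Four S A M q L (Z k) t u) :
    ∀ j ≤ k, Z j ≤ centralizer ({t} : Set G) ∧ Z j ≤ centralizer ({u} : Set G) := by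
  intro j
  induction j with
  | zero =>
    intro _
    rw [hZ.zero]
    exact ⟨bot_le, bot_le⟩
  | succ j ih =>
    intro hjk
    obtain ⟨hjt, hju⟩ := ih (by omega)
    have ht := h.isInv hf.one.inv
    have hu := h.isInv hf.two.inv
    have hcm := h.comm hf.one.inv hf.two.inv
    have hApg : IsPGroup q (piCoreOf {q} L) := isPGroup_piCoreOf h.prime L
    have hZo : ∀ i, Odd (Nat.card (Z i)) := fun i =>
      odd_of_isPGroup h.prime h.odd (hApg.to_le (hZ.le i))
    have hjtu : Z j ≤ centralizer ({t * u} : Set G) := by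
      intro x hx
      exact mem_centralizer_mul (hjt hx) (hju hx)
    have hnorm : ∀ {w₁ w₂ : G}, w₁ ∈ L → w₁ * w₂ = w₂ * w₁ →
        w₁ ∈ normalizer ((Z (j + 1) ⊓ centralizer ({w₂} : Set G) : Subgroup G) : Set G) := by
      intro w₁ w₂ hw hc
      apply mem_normalizer_of_conj
      rintro y ⟨hy1, hy2⟩
      refine mem_inf.mpr ⟨conj_mem_of_mem_normalizer (hZ.norm _ hw) hy1, ?_⟩
      have h3 : w₁ ∈ centralizer ({w₂} : Set G) := mem_centralizer_iff'.mpr hc
      exact mul_mem (mul_mem h3 hy2) (inv_mem h3)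
    have key : ∀ {w₁ w₂ : G}, Good S A M q L (Z k) w₁ → Good S A M q L (Z k) w₂ →
        Z j ≤ centralizer ({w₁} : Set G) →
        Z j ≤ centralizer ({w₂} : Set G) →
        Z (j + 1) ⊓ centralizer ({w₂} : Set G) ≤ centralizer ({w₁} : Set G) := by
      intro w₁ w₂ h1 h2 hj1 hj2
      refine le_centralizer_of_no_inverted (h.isInv h1.inv)
        (hnorm (h1.mem h) (h.comm h1.inv h2.inv)) ?_
      rintro x ⟨hx, hx2⟩ hx1
      exact Good.eq_one h hL hZ h1 h2 hj1 hj2 hApg (hZ.le k) (hZ.norm k) (hZ.mono hjk) hx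
        (mem_centralizer_iff'.mp hx2) hx1
    refine ⟨le_of_four (hZo _) ht hu hcm (hZ.norm _ (hf.one.mem h)) (hZ.norm _ (hf.two.mem h))
      inf_le_right (key hf.one hf.two hjt hju)
      (key hf.one hf.three hjt hjtu), ?_⟩
    exact le_of_four (hZo _) ht hu hcm (hZ.norm _ (hf.one.mem h)) (hZ.norm _ (hf.two.mem h))
      (key hf.two hf.one hju hjt) inf_le_right
      (key hf.two hf.three hju hjtu)

/-- (c1): `O_q(L) ∩ M_w` centralises `Q_w ∩ Z_{k+1}`. -/
theorem Good.inf_le_centralizer {L : Subgroup G} {Z : ℕ → Subgroup G}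
    (hZ : CChain L (piCoreOf {q} L) Z) {w : G} {k : ℕ} (hg : Good S A M q L (Z k) w) :
    piCoreOf {q} L ⊓ M w ≤
      centralizer ((piCoreOf {q} (M w) ⊓ Z (k + 1) : Subgroup G) : Set G) := by
  rintro a ⟨haA, haM⟩
  rw [mem_centralizer_iff]
  rintro x ⟨hxQ, hxZ⟩
  have h1 : x * a * x⁻¹ * a⁻¹ ∈ piCoreOf {q} (M w) ⊓ Z k := by
    refine mem_inf.mpr ⟨?_, hZ.comm k x hxZ a haA⟩
    have h2 : x * a * x⁻¹ * a⁻¹ = x * (a * x⁻¹ * a⁻¹) := by group
    rw [h2]
    exact mul_mem hxQ (conj_mem_of_mem_normalizer (le_normalizer_piCoreOf _ _ haM) (inv_mem hxQ))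
  rw [hg.disj, mem_bot] at h1
  have h3 : x * a = (x * a * x⁻¹ * a⁻¹) * (a * x) := by group
  rw [h1, one_mul] at h3
  exact h3

/-- `E_w ≤ O_q(L) ∩ M_w` -/
theorem Good.ec_le (h : Fam S A g0 M q) {L Z' : Subgroup G} (hL : L ≠ ⊤) {w : G}
    (hg : Good S A M q L Z' w) : ec q (M w) w ≤ piCoreOf {q} L ⊓ M w :=
  le_inf (h.ec_le_core hg.inv hL hg.SL ((h.ec_le hg.inv).trans hg.le))
    ((h.ec_le hg.inv).trans (piCoreOf_le _ _))

/-- `S` normalises `K = Q_t ∩ Z_i`. -/
theorem Good.S_le_normalizer (h : Fam S A g0 M q) {L Z' : Subgroup G} {Z : ℕ → Subgroup G}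
    (hZ : CChain L (piCoreOf {q} L) Z) {t : G} (hg : Good S A M q L Z' t) (i : ℕ) :
    S ≤ normalizer ((piCoreOf {q} (M t) ⊓ Z i : Subgroup G) : Set G) := by
  intro s hs
  apply mem_normalizer_of_conj
  rintro y ⟨hyP, hyZ⟩
  exact mem_inf.mpr ⟨conj_mem_of_mem_normalizer
    (le_normalizer_piCoreOf _ _ (h.S_le hg.inv hs)) hyP,
    conj_mem_of_mem_normalizer (hZ.norm _ (hg.SL hs)) hyZ⟩

/-- `S` normalises `K ∩ C(w)` for `w ∈ A`. -/
theorem S_le_normalizer_inf (h : Fam S A g0 M q) {K : Subgroup G} {w : G} (hw : AInv A w)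
    (hK : S ≤ normalizer (K : Set G)) :
    S ≤ normalizer ((K ⊓ centralizer ({w} : Set G) : Subgroup G) : Set G) := by
  intro s hs
  apply mem_normalizer_of_conj
  rintro y ⟨hyK, hyw⟩
  have h2 : s ∈ centralizer ({w} : Set G) := mem_centralizer_iff'.mpr (h.comm_S hw hs).symm
  exact mem_inf.mpr ⟨conj_mem_of_mem_normalizer (hK hs) hyK, mul_mem (mul_mem h2 hyw) (inv_mem h2)⟩

/-- (c2), a pair: `C_K(w) ≤ C(t)` for `K = Q_t ∩ Z_{k+1}`. -/
theorem Good.inf_centralizer_le (h : Fam S A g0 M q) {L : Subgroup G} (hL : L ≠ ⊤)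
    {Z : ℕ → Subgroup G}
    (hZ : CChain L (piCoreOf {q} L) Z) {t w : G} {k : ℕ} (hg : Good S A M q L (Z k) t)
    (hg2 : Good S A M q L (Z k) w) (hne : t ≠ w) :
    (piCoreOf {q} (M t) ⊓ Z (k + 1)) ⊓ centralizer ({w} : Set G) ≤
      centralizer ({t} : Set G) := by
  have ht := hg.inv
  have hw := hg2.inv
  set K : Subgroup G := piCoreOf {q} (M t) ⊓ Z (k + 1) with hK
  set C : Subgroup G := K ⊓ centralizer ({w} : Set G) with hC
  have hSC : S ≤ normalizer (C : Set G) := S_le_normalizer_inf h hw (hg.S_le_normalizer h hZ _)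
  have htC : t ∈ normalizer (C : Set G) := hSC (h.memS ht)
  by_contra hcon
  set X : Subgroup G := ⁅C, zpowers t⁆ with hX
  have hX1 : X ≠ ⊥ := fun h1 => hcon (comm_eq_bot_iff.mp h1)
  have hXC : X ≤ C := comm_le htC
  have hXK : X ≤ K := hXC.trans inf_le_left
  have hXQw : X ≤ piCoreOf {q} (M w) :=
    (commutator_mono (le_inf (inf_le_left.trans inf_le_left)
      (inf_le_right.trans (h.cent w hw))) le_rfl).trans
      (h.bal h.prime h.odd ht (h.ne_top hw) (h.S_le hw))
  have hXp : IsPGroup q X := (isPGroup_piCoreOf h.prime (M t)).to_le (hXK.trans inf_le_left)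
  have hle : ∀ Y : Subgroup G, Y ≤ centralizer (X : Set G) → Y ≤ normalizer (X : Set G) :=
    fun Y hY => hY.trans (centralizer_le_normalizer _)
  refine h.no_overgroup ht hw hne (h.normalizer_ne_top hX1
    (odd_of_isPGroup h.prime h.odd hXp)) ?_ (hle _ ?_) (hle _ ?_) (hle _ ?_)
  · intro s hs
    exact Fam.mem_normalizer_comm (h.comm_S ht hs) (hSC hs)
  · exact (hg.ec_le h hL).trans ((hg.inf_le_centralizer hZ).trans (centralizer_le hXK))
  · exact (hg2.ec_le h hL).trans ((hg2.inf_le_centralizer hZ).trans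
      (centralizer_le (le_inf hXQw (hXK.trans inf_le_right))))
  · have h1 := h.core_le_centralizer_yc t
    rw [le_centralizer_iff] at h1
    exact h1.trans (centralizer_le (hXK.trans inf_le_left))

/-- (c2): `t` centralises `K = Q_t ∩ Z_{k+1}`. -/
theorem Four.core_le_centralizer (h : Fam S A g0 M q) {L : Subgroup G} (hL : L ≠ ⊤)
    {Z : ℕ → Subgroup G} (hZ : CChain L (piCoreOf {q} L) Z) {t u : G} {k : ℕ}
    (hf : Four S A M q L (Z k) t u) :
    piCoreOf {q} (M t) ⊓ Z (k + 1) ≤ centralizer ({t} : Set G) := by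
  have ht := hf.one.inv
  have hu := hf.two.inv
  have hn := hf.one.S_le_normalizer h hZ (k + 1)
  have h5 : t ≠ t * u := fun h6 => hu.2 (mul_eq_left.mp h6.symm)
  exact le_of_four (odd_of_le inf_le_left (odd_of_isPGroup h.prime h.odd (h.isPGroup_core t)))
    (h.isInv ht) (h.isInv hu) (h.comm ht hu) (hn (h.memS ht)) (hn (h.memS hu)) inf_le_right
    (hf.one.inf_centralizer_le h hL hZ hf.two hf.ne)
    (hf.one.inf_centralizer_le h hL hZ hf.three h5)

/-- (d): the contradiction. -/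
theorem Four.core_eq_bot (h : Fam S A g0 M q) {L : Subgroup G} (hL : L ≠ ⊤)
    {Z : ℕ → Subgroup G} (hZ : CChain L (piCoreOf {q} L) Z) {t u : G} {k : ℕ}
    (hf : Four S A M q L (Z k) t u) : piCoreOf {q} (M t) ⊓ Z (k + 1) = ⊥ := by
  have hta := hf.one.inv
  have hua := hf.two.inv
  have ht := h.isInv hta
  have hu := h.isInv hua
  have hc := h.comm hta hua
  set K : Subgroup G := piCoreOf {q} (M t) ⊓ Z (k + 1) with hK
  have hKp : IsPGroup q K := (h.isPGroup_core t).to_le inf_le_left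
  have hKo : Odd (Nat.card K) := odd_of_isPGroup h.prime h.odd hKp
  have hKt : K ≤ centralizer ({t} : Set G) := hf.core_le_centralizer h hL hZ
  obtain ⟨hZt, hZu⟩ := hf.le_centralizer h hL hZ k le_rfl
  have hSK : S ≤ normalizer (K : Set G) := hf.one.S_le_normalizer h hZ (k + 1)
  have hEt : ec q (M t) t ≤ centralizer (K : Set G) :=
    (hf.one.ec_le h hL).trans (hf.one.inf_le_centralizer hZ)
  have hYt : yc q (M t) ≤ centralizer (K : Set G) := by
    have h1 := h.core_le_centralizer_yc t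
    rw [le_centralizer_iff] at h1
    exact h1.trans (centralizer_le inf_le_left)
  have hEuA : ec q (M u) u ≤ piCoreOf {q} L := (hf.two.ec_le h hL).trans inf_le_left
  have hle : ∀ {X : Subgroup G} {Y : Subgroup G}, Y ≤ centralizer (X : Set G) →
      Y ≤ normalizer (X : Set G) := fun hY => hY.trans (centralizer_le_normalizer _)
  -- (d1) `C_K(u) = 1`
  have hd1 : K ⊓ centralizer ({u} : Set G) = ⊥ := by
    by_contra hX1
    set X : Subgroup G := K ⊓ centralizer ({u} : Set G) with hX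
    have hXo : Odd (Nat.card X) := odd_of_le inf_le_left hKo
    have hXEu : ec q (M u) u ≤ centralizer (X : Set G) := by
      rw [← h.comm_ec hua, commutator_le]
      intro b hb a ha
      rw [mem_centralizer_iff]
      intro x hx
      have hxZ : x ∈ Z (k + 1) := (inf_le_right : K ≤ _) ((inf_le_left : X ≤ K) hx)
      have hxu : x * u = u * x := mem_centralizer_iff'.mp ((inf_le_right : X ≤ _) hx)
      have hxa : x * a = a * x := by
        obtain ⟨n, rfl⟩ := ha
        have h2 : Commute x u := hxu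
        exact (h2.zpow_right n).eq
      have hcZ : x * b⁻¹ * x⁻¹ * b⁻¹⁻¹ ∈ Z k := hZ.comm k x hxZ b⁻¹ (inv_mem (hEuA hb))
      set c : G := x * b⁻¹ * x⁻¹ * b⁻¹⁻¹ with hcdef
      have hca : c * a = a * c := by
        obtain ⟨n, rfl⟩ := ha
        have h2 : Commute c u := mem_centralizer_iff'.mp (hZu hcZ)
        exact (h2.zpow_right n).eq
      -- `x b⁻¹ x⁻¹ = c b⁻¹`
      have h3 : x * b⁻¹ * x⁻¹ = c * b⁻¹ := by rw [hcdef]; group
      have h4 : x * b * x⁻¹ = b * c⁻¹ := by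
        have h5 : x * b * x⁻¹ = (x * b⁻¹ * x⁻¹)⁻¹ := by group
        rw [h5, h3]; group
      rw [commutatorElement_def]
      have h5 : x * (b * a * b⁻¹ * a⁻¹) * x⁻¹ =
          (x * b * x⁻¹) * (x * a * x⁻¹) * (x * b⁻¹ * x⁻¹) * (x * a * x⁻¹)⁻¹ := by group
      have h6 : x * a * x⁻¹ = a := by rw [hxa, mul_inv_cancel_right]
      have h7 : x * (b * a * b⁻¹ * a⁻¹) * x⁻¹ = b * a * b⁻¹ * a⁻¹ := by
        rw [h5, h4, h6, h3]
        have h8 : b * c⁻¹ * a * (c * b⁻¹) * a⁻¹ = b * c⁻¹ * (a * c) * b⁻¹ * a⁻¹ := by group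
        rw [h8, ← hca]; group
      exact mul_inv_eq_iff_eq_mul.mp h7
    refine h.no_overgroup hta hua hf.ne (h.normalizer_ne_top hX1 hXo)
      (S_le_normalizer_inf h hua hSK) (hle ?_) (hle hXEu) (hle ?_)
    · exact hEt.trans (centralizer_le inf_le_left)
    · exact hYt.trans (centralizer_le inf_le_left)
  -- (d2)
  by_contra hK1
  have huK : u ∈ normalizer (K : Set G) := hSK (h.memS hua)
  have hinv : ∀ x ∈ K, u * x * u⁻¹ = x⁻¹ := fun x hx =>
    inverts_of_fixedPointFree hu huK hd1 hx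
  have hZtu : Z k ≤ centralizer ({u * t} : Set G) := by
    intro x hx
    exact mem_centralizer_mul (hZu hx) (hZt hx)
  have hEu : ec q (M u) u ≤ centralizer (K : Set G) := by
    have hcomm : ∀ x ∈ K, ∀ b ∈ ec q (M u) u, x * b * x⁻¹ * b⁻¹ ∈ Z k := fun x hx b hb =>
      hZ.comm k x ((inf_le_right : K ≤ _) hx) b (hEuA hb)
    have hcu : ∀ b ∈ ec q (M u) u, b * u = u * b → b ∈ centralizer (K : Set G) := by
      intro b hb hbu
      rw [mem_centralizer_iff]
      intro x hx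
      exact comm_of_inverts hKo hx (hinv x hx) hbu.symm
        (mem_centralizer_iff'.mp (hZu (hcomm x hx b hb))).symm
    refine le_of_four (h.odd_ec hua) hu ht hc.symm (h.mem_normalizer_ec hua rfl)
      (h.mem_normalizer_ec hua hc.symm) ?_ ?_ ?_
    · rintro b ⟨hb, hbu⟩
      exact hcu b hb (mem_centralizer_iff'.mp hbu)
    · set C : Subgroup G := ec q (M u) u ⊓ centralizer ({t} : Set G) with hC
      have hCn : u ∈ normalizer (C : Set G) := by
        apply mem_normalizer_of_conj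
        rintro y ⟨hy1, hy2⟩
        refine mem_inf.mpr ⟨conj_mem_of_mem_normalizer (h.mem_normalizer_ec hua rfl) hy1, ?_⟩
        have h3 : u ∈ centralizer ({t} : Set G) := mem_centralizer_iff'.mpr hc.symm
        exact mul_mem (mul_mem h3 hy2) (inv_mem h3)
      refine le_of_split (odd_of_le inf_le_left (h.odd_ec hua)) hu hCn ?_ ?_
      · have h3 : ⁅C, zpowers u⁆ ≤ M t := (comm_le hCn).trans (inf_le_right.trans (h.cent t hta))
        have h4 : ⁅C, zpowers u⁆ ≤ piCoreOf {q} L := (comm_le hCn).trans (inf_le_left.trans hEuA)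
        exact (le_inf h4 h3).trans (hf.one.inf_le_centralizer hZ)
      · rintro b ⟨⟨hb, -⟩, hbu⟩
        exact hcu b hb (mem_centralizer_iff'.mp hbu)
    · rintro b ⟨hb, hbu⟩
      rw [mem_centralizer_iff]
      intro x hx
      have h3 : u * t * x * (u * t)⁻¹ = x⁻¹ := by
        have h4 : u * t * x * (u * t)⁻¹ = u * (t * x * t⁻¹) * u⁻¹ := by group
        rw [h4, ← mem_centralizer_iff'.mp (hKt hx), mul_inv_cancel_right, hinv x hx]
      exact comm_of_inverts hKo hx h3 (mem_centralizer_iff'.mp hbu).symm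
        (mem_centralizer_iff'.mp (hZtu (hcomm x hx b hb))).symm
  exact h.no_overgroup hta hua hf.ne (h.normalizer_ne_top hK1 hKo) hSK (hle hEt) (hle hEu) (hle hYt)

/-- `E_w ≠ 1` -/
theorem ec_ne_bot (h : Fam S A g0 M q) {w : G} (hw : AInv A w) : ec q (M w) w ≠ ⊥ := by
  intro h1
  have h2 := h.norm w hw
  rw [h1] at h2
  apply h.ne_top hw
  rw [eq_top_iff]
  refine le_trans ?_ h2
  intro x _
  apply mem_normalizer_of_conj
  intro y hy
  rw [mem_bot] at hy ⊢
  rw [hy]; group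

/-- **Type B is impossible**, given a proper subgroup `L ≥ S` containing `O_q(M_t)` and an element `g` with
`t^g = u`, `u^g = t u`. -/
theorem false_of_fused (h : Fam S A g0 M q) {t u : G} (ht : AInv A t) (hu : AInv A u)
    (hne : t ≠ u) {L : Subgroup G} (hL : L ≠ ⊤) (hSL : S ≤ L)
    (hQ : piCoreOf {q} (M t) ≤ L) {g : G} (hg : g ∈ L) (h1 : g * t * g⁻¹ = u)
    (h2 : g * u * g⁻¹ = t * u) : False := by
  classical
  haveI := Fact.mk h.prime
  have hApg : IsPGroup q (piCoreOf {q} L) := isPGroup_piCoreOf h.prime L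
  obtain ⟨Z, hZ⟩ := exists_chain (L := L) (A := piCoreOf {q} L) hApg.isNilpotent
    (le_normalizer_piCoreOf _ _)
  have hEtA : ec q (M t) t ≤ piCoreOf {q} L := h.ec_le_core ht hL hSL ((h.ec_le ht).trans hQ)
  have hex : ∃ n, piCoreOf {q} (M t) ⊓ Z n ≠ ⊥ := by
    obtain ⟨n, hn⟩ := hZ.top
    refine ⟨n, fun h3 => ec_ne_bot h ht ?_⟩
    rw [eq_bot_iff, ← h3, hn]
    exact le_inf (h.ec_le ht) hEtA
  obtain ⟨k, hk, hk'⟩ : ∃ k, piCoreOf {q} (M t) ⊓ Z k = ⊥ ∧
      piCoreOf {q} (M t) ⊓ Z (k + 1) ≠ ⊥ := by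
    have h3 := Nat.find_spec hex
    have h4 : Nat.find hex ≠ 0 := by
      intro h5
      rw [h5, hZ.zero] at h3
      exact h3 (inf_bot_eq _)
    obtain ⟨k, hk⟩ := Nat.exists_eq_succ_of_ne_zero h4
    refine ⟨k, ?_, by rwa [hk] at h3⟩
    have h5 := Nat.find_min hex (m := k) (by omega)
    exact not_not.mp h5
  have hstep : ∀ w : G, AInv A w → piCoreOf {q} (M w) ≤ L → piCoreOf {q} (M w) ⊓ Z k = ⊥ →
      piCoreOf {q} (M (g * w * g⁻¹)) ≤ L ∧ piCoreOf {q} (M (g * w * g⁻¹)) ⊓ Z k = ⊥ := by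
    intro w hw hwL hwZ
    rw [h.core_conj hw]
    constructor
    · rintro _ ⟨x, hx, rfl⟩
      exact L.mul_mem (L.mul_mem hg (hwL hx)) (L.inv_mem hg)
    · rw [eq_bot_iff]
      rintro _ ⟨⟨x, hx, rfl⟩, hxZ⟩
      have h3 : g * x * g⁻¹ ∈ Z k := hxZ
      have h4 : x ∈ Z k := (mem_normalizer_iff.mp (hZ.norm k hg) x).mpr h3
      have h5 : x ∈ piCoreOf {q} (M w) ⊓ Z k := mem_inf.mpr ⟨hx, h4⟩
      rw [hwZ, mem_bot] at h5
      rw [h5, map_one]
      exact one_mem _
  have hsu := hstep t ht hQ hk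
  rw [h1] at hsu
  have hsv := hstep u hu hsu.1 hsu.2
  rw [h2] at hsv
  have h5 : t ≠ t * u := fun h6 => hu.2 (mul_eq_left.mp h6.symm)
  have hf : Four S A M q L (Z k) t u :=
    ⟨⟨ht, hSL, hQ, hk, h.yc_le_centralizer ht hu hne⟩,
      ⟨hu, hSL, hsu.1, hsu.2, h.yc_le_centralizer hu ht hne.symm⟩,
      ⟨h.mul ht hu hne, hSL, hsv.1, hsv.2,
        h.yc_le_centralizer (h.mul ht hu hne) ht h5.symm⟩, hne⟩
  exact hk' (hf.core_eq_bot h hL hZ)

/-- **Type B is impossible**, given a proper subgroup `L ≥ S` of type F containing `O_q(M_t)`. -/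
theorem false_of_typeF (h : Fam S A g0 M q) {t : G} (ht : AInv A t) {L : Subgroup G} (hL : L ≠ ⊤)
    (hSL : S ≤ L) (hQ : piCoreOf {q} (M t) ≤ L) (hF : TypeF S A g0 L) : False := by
  obtain ⟨g, hg, -, hact⟩ := hF
  have hu : AInv A (g0 * t * g0⁻¹) :=
    ⟨h.frame.g0A t ht.1, h.frame.g0_conj_ne_one ht.2⟩
  refine false_of_fused h ht hu (h.frame.g0_conj_ne ht.1 ht.2).symm hL hSL hQ hg (hact t ht.1) ?_
  rw [hact _ hu.1]
  exact h.frame.g0_sq_conj ht.1 ht.2

end Cfsg.Agent.TwoFusion.GoldM1BChain
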