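import Mathlib
import Cfsg.Agent.TwoFusion.GoldM1BChain
import Cfsg.Agent.Lib.GoldschmidtFusion
import Cfsg.Agent.S0118

/-!
# Case [M1] of Goldschmidt's theorem, type B: existence of the family

Main result `Frame.isCoatom_centralizer`: in a frame every `C(x)`, `x ∈ A`, `x ≠ 1`, is a maximal subgroup.
-/

set_option autoImplicit false
set_option linter.unusedSectionVars false
set_option linter.style.haveILetI false

namespace Cfsg.Agent.TwoFusion.GoldM1BExist

open Subgroup Cfsg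
open scoped commutatorElement
open Cfsg.Agent.TwoFusion.GoldM1 Cfsg.Agent.TwoFusion.GoldM1B
open Cfsg.Agent.Classification.TypeB.Basic Cfsg.Agent.Classification.TypeB.LemG
open Cfsg.Agent.Classification.TypeB.Core (oc oc_def oc_le odd_oc normalizer_le_oc le_normalizer_oc
  le_oc odd_of_isPGroup yc yc_def yc_le odd_yc le_normalizer_yc coprime_yc ec ec_def
  le_of_normalizer_le)
open Cfsg.Agent.OddOrderLocal.PiCoreOf
open Cfsg.Agent.OddOrderLocal
open Cfsg.Agent.OddOrderLocal.FitCores (isPGroup_piCoreOf le_core_of_le_fittingOf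
  fittingOf_le_iff inf_centralizer_fittingOf_le le_core_of_isPGroup le_core_of_coprime
  le_centralizer_of_centralizes_fitting core_le_centralizer_of_coprime)

variable {G : Type*} [Group G] [Finite G] {S A : Subgroup G} {g0 : G}

/-- if `H` is of type I and `x ∈ A` centralises `O(H)`, then `x` centralises `H`. -/
theorem le_centralizer_of_typeI (F : Frame S A g0) {H : Subgroup G} (hI : TypeI A H)
    {x : G} (hx : x ∈ A) (hc : oc H ≤ centralizer ({x} : Set G)) :
    H ≤ centralizer ({x} : Set G) := by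
  intro h hh
  have hr : h * x * h⁻¹ * x⁻¹ ∈ oc H := hI x hx h hh
  have hcx : (h * x * h⁻¹ * x⁻¹) * x = x * (h * x * h⁻¹ * x⁻¹) := mem_centralizer_iff'.mp (hc hr)
  have hx2 : x * x = 1 := F.sq x hx
  have e3 : (h * x * h⁻¹ * x⁻¹) * (h * x * h⁻¹ * x⁻¹) = 1 := by
    have e1 : (h * x * h⁻¹ * x⁻¹) * (h * x * h⁻¹ * x⁻¹) =
        (h * x * h⁻¹) * (x⁻¹ * (h * x * h⁻¹ * x⁻¹)) := by group
    have e2 : x⁻¹ * (h * x * h⁻¹ * x⁻¹) = (h * x * h⁻¹ * x⁻¹) * x⁻¹ := by
      rw [inv_mul_eq_iff_eq_mul, ← mul_assoc, ← hcx, mul_inv_cancel_right]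
    rw [e1, e2]
    have e4 : h * x * h⁻¹ * (h * x * h⁻¹ * x⁻¹ * x⁻¹) = h * (x * x) * h⁻¹ * (x * x)⁻¹ := by group
    rw [e4, hx2]; group
  have e4 := eq_one_of_sq (odd_oc H) hr e3
  rw [mem_centralizer_iff']
  calc h * x = (h * x * h⁻¹ * x⁻¹) * (x * h) := by group
    _ = x * h := by rw [e4, one_mul]

theorem typeI_of_le (F : Frame S A g0) {H : Subgroup G} (hH : H ≠ ⊤) {a : G} (ha : AInv A a)
    (hC : centralizer ({a} : Set G) ≤ H) : TypeI A H := by
  rcases F.type H hH ((F.S_le_centralizer ha.1).trans hC) with h | h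
  · exact h
  · exact absurd h (F.emb H hH a ha.1 ha.2 hC)

/-- `x ∈ A` centralising `F(O(H))` centralises `O(H)`. -/
theorem oc_le_centralizer (F : Frame S A g0) {H : Subgroup G} {x : G} (hx : AInv A x)
    (hxH : x ∈ H) (hc : fittingOf (oc H) ≤ centralizer ({x} : Set G)) :
    oc H ≤ centralizer ({x} : Set G) := by
  rw [← zpowers_le_centralizer_iff]
  refine le_centralizer_of_centralizes_fitting (by rw [zpowers_le]; exact le_normalizer_oc H hxH)
    (F.solv _ (odd_oc _)) (coprime_of_odd (odd_oc _) (F.isInv hx.1 hx.2)) ?_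
  rw [zpowers_le_centralizer_iff]
  exact hc

theorem core_oc_le {q : ℕ} (hq : q.Prime) (H : Subgroup G) :
    piCoreOf {q} (oc H) ≤ piCoreOf {q} H := by
  refine le_core_of_isPGroup hq ((piCoreOf_le _ _).trans (oc_le _)) ?_ (isPGroup_piCoreOf hq _)
  exact (le_normalizer_oc _).trans (normalizer_le_normalizer_piCoreOf _ _)

/-- a maximal subgroup `M > C(a)` has an odd prime `q` such that `a` does not centralise `O_q(M)`. -/
theorem exists_moved (F : Frame S A g0) {a : G} (ha : AInv A a) {M : Subgroup G} (hM : IsCoatom M)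
    (hCM : centralizer ({a} : Set G) ≤ M) (hne : M ≠ centralizer ({a} : Set G)) :
    ∃ q : ℕ, q.Prime ∧ q ≠ 2 ∧ ¬ piCoreOf {q} M ≤ centralizer ({a} : Set G) := by
  by_contra hcon
  push Not at hcon
  apply hne
  have hI := typeI_of_le F hM.1 ha hCM
  have haM : a ∈ M := hCM (mem_centralizer_iff'.mpr rfl)
  refine le_antisymm (le_centralizer_of_typeI F hI ha.1 (oc_le_centralizer F ha haM ?_)) hCM
  rw [fittingOf_le_iff]
  intro q hq
  by_cases h2 : q = 2
  · subst h2
    have h3 : piCoreOf {2} (oc M) = ⊥ := by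
      have h4 : IsPGroup 2 (piCoreOf {2} (oc M)) := isPGroup_piCoreOf hq _
      have h5 : Odd (Nat.card (piCoreOf {2} (oc M))) := odd_of_le (piCoreOf_le _ _) (odd_oc M)
      haveI := Fact.mk hq
      obtain ⟨n, hn⟩ := IsPGroup.iff_card.mp h4
      rcases Nat.eq_zero_or_pos n with rfl | hpos
      · exact Subgroup.eq_bot_of_card_eq _ (by rw [hn, pow_zero])
      · exfalso
        rw [hn] at h5
        exact (Nat.not_even_iff_odd.mpr h5) ((Nat.even_pow' hpos.ne').mpr even_two)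
    rw [h3]; exact bot_le
  · exact (core_oc_le hq M).trans (hcon q hq h2)

/-- centralisers of involutions of `A` have the same order. -/
theorem card_centralizer_eq (F : Frame S A g0) {a s : G} (ha : AInv A a) (hs : AInv A s) :
    Nat.card (centralizer ({a} : Set G)) = Nat.card (centralizer ({s} : Set G)) := by
  obtain ⟨k, hk⟩ := F.exists_pow_conj ha.1 ha.2 hs.1 hs.2
  have h1 : (centralizer ({a} : Set G)).map (MulAut.conj (g0 ^ k)).toMonoidHom =
      centralizer ({s} : Set G) := by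
    ext x
    rw [mem_map_conj_iff, mem_centralizer_iff', mem_centralizer_iff', ← hk]
    constructor
    · intro h
      calc x * (g0 ^ k * a * (g0 ^ k)⁻¹) = g0 ^ k * (((g0 ^ k)⁻¹ * x * g0 ^ k) * a) * (g0 ^ k)⁻¹ := by
            group
        _ = g0 ^ k * (a * ((g0 ^ k)⁻¹ * x * g0 ^ k)) * (g0 ^ k)⁻¹ := by rw [h]
        _ = g0 ^ k * a * (g0 ^ k)⁻¹ * x := by group
    · intro h
      calc (g0 ^ k)⁻¹ * x * g0 ^ k * a = (g0 ^ k)⁻¹ * (x * (g0 ^ k * a * (g0 ^ k)⁻¹)) * g0 ^ k := by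
            group
        _ = (g0 ^ k)⁻¹ * (g0 ^ k * a * (g0 ^ k)⁻¹ * x) * g0 ^ k := by rw [h]
        _ = a * ((g0 ^ k)⁻¹ * x * g0 ^ k) := by group
  rw [← h1]
  exact (Classification.TypeB.Core.Fam.card_map_conj _ _).symm

/-- the normaliser of a nontrivial odd normal subgroup of a maximal subgroup. -/
theorem normalizer_eq (F : Frame S A g0) {M : Subgroup G} (hM : IsCoatom M) {X : Subgroup G}
    (hX : X ≠ ⊥) (ho : Odd (Nat.card X)) (hMX : M ≤ normalizer (X : Set G)) :
    normalizer (X : Set G) = M := by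
  rcases hM.le_iff.mp hMX with h1 | h1
  · exact absurd h1 (F.normalizer_ne_top_of_odd ho hX)
  · exact h1

section local_analysis

variable (F : Frame S A g0) {a : G} (ha : AInv A a) {M : Subgroup G} (hM : IsCoatom M)
  (hCM : centralizer ({a} : Set G) ≤ M) {q : ℕ} (hq : q.Prime) (hq2 : q ≠ 2)
  (hmov : ¬ piCoreOf {q} M ≤ centralizer ({a} : Set G))

include F ha hM hCM hq hq2 hmov

theorem core_ne_bot : piCoreOf {q} M ≠ ⊥ := by
  intro h
  rw [h] at hmov
  exact hmov bot_le

theorem odd_core : Odd (Nat.card (piCoreOf {q} M)) :=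
  odd_of_isPGroup hq hq2 (isPGroup_piCoreOf hq _)

theorem normalizer_core_eq : normalizer (piCoreOf {q} M : Set G) = M :=
  normalizer_eq F hM (core_ne_bot F ha hM hCM hq hq2 hmov) (odd_core F ha hM hCM hq hq2 hmov)
    (le_normalizer_piCoreOf _ _)

/-- If `O_{q'}(O(M)) = 1` then `C_G(O_q(M)) ≤ O_q(M)`. -/
theorem centralizer_core_le (hY : yc q M = ⊥) :
    centralizer (piCoreOf {q} M : Set G) ≤ piCoreOf {q} M := by
  have hfit : fittingOf (oc M) ≤ piCoreOf {q} M := by
    rw [fittingOf_le_iff]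
    intro r hr
    by_cases hrq : r = q
    · subst hrq
      exact core_oc_le hr M
    · have h1 : piCoreOf {r} (oc M) ≤ yc q M := by
        refine le_core_of_coprime (piCoreOf_le _ _) (le_normalizer_piCoreOf _ _) ?_
        exact FitCores.coprime_of_isPGroup hr
          (fun h3 => hrq ((Nat.prime_dvd_prime_iff_eq hr hq).mp h3)) (isPGroup_piCoreOf hr _)
      rw [hY] at h1
      exact h1.trans bot_le
  have hCM' : centralizer (piCoreOf {q} M : Set G) ≤ M := by
    conv_rhs => rw [← normalizer_core_eq F ha hM hCM hq hq2 hmov]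
    exact centralizer_le_normalizer _
  have hMC : M ≤ normalizer (centralizer (piCoreOf {q} M : Set G) : Set G) := by
    intro x hx
    apply mem_normalizer_of_conj
    intro y hy
    rw [mem_centralizer_iff]
    intro z hz
    have h3 : x⁻¹ * z * x ∈ piCoreOf {q} M := by
      have := conj_mem_of_mem_normalizer (le_normalizer_piCoreOf {q} M (M.inv_mem hx)) hz
      simpa using this
    have h4 := mem_centralizer_iff.mp hy _ h3
    have h5 : z * (x * y * x⁻¹) = x * ((x⁻¹ * z * x) * y) * x⁻¹ := by group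
    rw [h5, h4]; group
  -- the centraliser has odd order
  have hodd : Odd (Nat.card (centralizer (piCoreOf {q} M : Set G))) := by
    by_contra hev
    rw [Nat.not_odd_iff_even, even_iff_two_dvd] at hev
    haveI : Fact (Nat.Prime 2) := ⟨Nat.prime_two⟩
    obtain ⟨z, hz⟩ := exists_prime_orderOf_dvd_card' 2 hev
    have hzG : orderOf (z : G) = 2 := by rw [← hz, Subgroup.orderOf_coe]
    have hzp : IsPGroup 2 (zpowers (z : G)) := by
      rw [IsPGroup.iff_card]
      exact ⟨1, by rw [Nat.card_zpowers, hzG, pow_one]⟩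
    have hSM : S ≤ M := (F.S_le_centralizer ha.1).trans hCM
    have hrel : ¬ 2 ∣ S.relIndex M := by
      intro h
      apply F.sylow
      rw [← relIndex_mul_index hSM]
      exact h.mul_right _
    obtain ⟨m, hm, hmS⟩ := Lib.GoldschmidtFusion.exists_conj_le_in F.isPGroup_S hrel
      (by rw [zpowers_le]; exact hCM' z.2) hzp
    set s : G := m * z * m⁻¹ with hs
    have hsS : s ∈ S := hmS ⟨z, mem_zpowers _, rfl⟩
    have hz2 : (z : G) * z = 1 := by
      have := pow_orderOf_eq_one (z : G)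
      rwa [hzG, pow_two] at this
    have hz1 : (z : G) ≠ 1 := by
      intro h
      rw [h, orderOf_one] at hzG
      omega
    have hs2 : s * s = 1 := by
      have : s * s = m * ((z : G) * z) * m⁻¹ := by rw [hs]; group
      rw [this, hz2]; group
    have hs1 : s ≠ 1 := by
      intro h
      apply hz1
      have : (z : G) = m⁻¹ * s * m := by rw [hs]; group
      rw [this, h]; group
    have hsA : AInv A s := ⟨F.inv s hsS hs2, hs1⟩
    have hsC : s ∈ centralizer (piCoreOf {q} M : Set G) :=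
      conj_mem_of_mem_normalizer (hMC hm) z.2
    have hQs : piCoreOf {q} M ≤ centralizer ({s} : Set G) := by
      intro x hx
      rw [mem_centralizer_iff']
      exact mem_centralizer_iff.mp hsC x hx
    have hI := typeI_of_le F hM.1 ha hCM
    have h1 : M ≤ centralizer ({s} : Set G) :=
      le_centralizer_of_typeI F hI hsA.1 (oc_le_centralizer F hsA (hSM hsS) (hfit.trans hQs))
    have h2 : M = centralizer ({s} : Set G) := by
      rcases hM.le_iff.mp h1 with h | h
      · exact absurd h (F.centralizer_ne_top hsA.1 hsA.2)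
      · exact h.symm
    have h3 : centralizer ({a} : Set G) = M := by
      apply Subgroup.eq_of_le_of_card_ge hCM
      rw [card_centralizer_eq F ha hsA, ← h2]
    apply hmov
    rw [h3]
    exact piCoreOf_le _ _
  have h1 : centralizer (piCoreOf {q} M : Set G) ≤ oc M := le_oc hCM' hMC hodd
  exact (le_inf h1 (centralizer_le hfit)).trans
    ((inf_centralizer_fittingOf_le (F.solv _ (odd_oc _))).trans hfit)

end local_analysis

/-- `H = C(A) O(H)` for `H` of type I. -/
theorem exists_mul_mem (F : Frame S A g0) {H : Subgroup G} (hI : TypeI A H) (hAH : A ≤ H) {h : G}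
    (hh : h ∈ H) : ∃ c ∈ centralizer (A : Set G), h⁻¹ * c ∈ oc H := by
  haveI : Fact (Nat.Prime 2) := ⟨Nat.prime_two⟩
  refine Lib.CoprimeCommutator.exists_fixed_in_coset 2 A (oc H) F.isPGroup_A
    (hAH.trans (le_normalizer_oc H)) (not_two_dvd (odd_oc H)) h ?_
  intro x hx
  have h1 := hI x hx h⁻¹ (H.inv_mem hh)
  have e : h⁻¹ * (x * h * x⁻¹) = h⁻¹ * x * h⁻¹⁻¹ * x⁻¹ := by group
  rw [e]
  exact h1

/-- `C(A) / O(C(A)) S` is commutative. -/
theorem comm_mem_of_centralizer (F : Frame S A g0) {c d : G}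
    (hc : c ∈ centralizer (A : Set G)) (hd : d ∈ centralizer (A : Set G)) :
    c * d * c⁻¹ * d⁻¹ ∈ oc (centralizer (A : Set G)) ⊔ S := by
  set C : Subgroup G := centralizer (A : Set G) with hC
  set U : Subgroup G := oc C ⊔ S with hU
  have hUC : U ≤ C := sup_le (oc_le _) F.S_le_centralizer_A
  haveI hn : (U.subgroupOf C).Normal := by
    rw [normal_subgroupOf_iff_le_normalizer hUC]
    exact F.normCA
  have hcard : Nat.card (C ⧸ U.subgroupOf C) = 1 ∨ Nat.card (C ⧸ U.subgroupOf C) = 5 := F.indexCA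
  have hcomm : ∀ x y : C ⧸ U.subgroupOf C, x * y = y * x := by
    intro x y
    rcases hcard with h1 | h1
    · haveI : Subsingleton (C ⧸ U.subgroupOf C) := (Nat.card_eq_one_iff_unique.mp h1).1
      exact Subsingleton.elim _ _
    · haveI : Fact (Nat.Prime 5) := ⟨by norm_num⟩
      haveI := isCyclic_of_prime_card h1
      exact (IsCyclic.isMulCommutative (α := C ⧸ U.subgroupOf C)).is_comm.comm x y
  have h1 := hcomm (QuotientGroup.mk' _ ⟨c, hc⟩) (QuotientGroup.mk' _ ⟨d, hd⟩)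
  rw [← map_mul, ← map_mul] at h1
  have h2 := QuotientGroup.eq.mp h1.symm
  -- `(d c)⁻¹ (c d) ∈ U`
  rw [mem_subgroupOf] at h2
  have h3 : ((d * c)⁻¹ * (c * d) : G) ∈ U := h2
  have h4 : c * d * c⁻¹ * d⁻¹ = (d * c) * ((d * c)⁻¹ * (c * d)) * (d * c)⁻¹ := by group
  rw [h4]
  exact conj_mem_of_mem_normalizer (F.normCA (mul_mem hd hc)) h3

section local_analysis2

variable (F : Frame S A g0) {a : G} (ha : AInv A a) {M : Subgroup G} (hM : IsCoatom M)
  (hCM : centralizer ({a} : Set G) ≤ M)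

include F ha hM hCM

theorem S_le_of : S ≤ M := (F.S_le_centralizer ha.1).trans hCM

theorem centralizer_A_le : centralizer (A : Set G) ≤ M := by
  refine le_trans ?_ hCM
  intro x hx
  rw [mem_centralizer_iff']
  exact (mem_centralizer_iff.mp hx a ha.1).symm

/-- `O(C(A)) ≤ O(M)` -/
theorem oc_centralizer_le : oc (centralizer (A : Set G)) ≤ oc M :=
  F.invCore M hM.1 (S_le_of F ha hM hCM) _ ((oc_le _).trans (centralizer_A_le F ha hM hCM))
    (odd_oc _) (F.S_le_centralizer_A.trans (le_normalizer_oc _))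

/-- `M` normalises `O(M) S`. -/
theorem le_normalizer_sup : M ≤ normalizer ((oc M ⊔ S : Subgroup G) : Set G) := by
  intro h hh
  obtain ⟨c, hc, hcr⟩ := exists_mul_mem F (typeI_of_le F hM.1 ha hCM)
    (F.AS.trans (S_le_of F ha hM hCM)) hh
  have hcM := centralizer_A_le F ha hM hCM hc
  have e : h = c * (h⁻¹ * c)⁻¹ := by group
  rw [e]
  refine mul_mem ?_ (inv_mem (le_normalizer (le_sup_left (a := oc M) hcr)))
  have h1 : (oc M ⊔ S : Subgroup G) = oc M ⊔ (oc (centralizer (A : Set G)) ⊔ S) := by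
    rw [← sup_assoc, sup_eq_left.mpr (oc_centralizer_le F ha hM hCM)]
  rw [h1]
  exact normalizer_inf_normalizer_le_normalizer_sup _ _ ⟨le_normalizer_oc M hcM, F.normCA hc⟩

/-- `M / O(M) S` is commutative. -/
theorem comm_mem {x y : G} (hx : x ∈ M) (hy : y ∈ M) : x * y * x⁻¹ * y⁻¹ ∈ oc M ⊔ S := by
  have hI := typeI_of_le F hM.1 ha hCM
  have hSM := S_le_of F ha hM hCM
  obtain ⟨c, hc, hcr⟩ := exists_mul_mem F hI (F.AS.trans hSM) hx
  obtain ⟨d, hd, hdr⟩ := exists_mul_mem F hI (F.AS.trans hSM) hy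
  have hcM := centralizer_A_le F ha hM hCM hc
  have hdM := centralizer_A_le F ha hM hCM hd
  set W : Subgroup G := oc M ⊔ S with hW
  have hWM : W ≤ M := sup_le (oc_le _) hSM
  haveI hn : (W.subgroupOf M).Normal := by
    rw [normal_subgroupOf_iff_le_normalizer hWM]
    exact le_normalizer_sup F ha hM hCM
  let f : M →* M ⧸ W.subgroupOf M := QuotientGroup.mk' _
  have hf : ∀ z : M, f z = 1 ↔ (z : G) ∈ W := fun z => by
    rw [← mem_subgroupOf]
    exact QuotientGroup.eq_one_iff z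
  have h1 : f ⟨x, hx⟩ = f ⟨c, hcM⟩ := by
    rw [← inv_mul_eq_one, ← map_inv, ← map_mul, hf]
    exact le_sup_left (a := oc M) hcr
  have h2 : f ⟨y, hy⟩ = f ⟨d, hdM⟩ := by
    rw [← inv_mul_eq_one, ← map_inv, ← map_mul, hf]
    exact le_sup_left (a := oc M) hdr
  have h3 : f (⟨c, hcM⟩ * ⟨d, hdM⟩ * ⟨c, hcM⟩⁻¹ * ⟨d, hdM⟩⁻¹) = 1 := by
    rw [hf]
    exact (sup_le_sup_right (oc_centralizer_le F ha hM hCM) S) (comm_mem_of_centralizer F hc hd)
  have h4 : f (⟨x, hx⟩ * ⟨y, hy⟩ * ⟨x, hx⟩⁻¹ * ⟨y, hy⟩⁻¹) = 1 := by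
    rw [← h3]
    simp only [map_mul, map_inv, h1, h2]
  exact (hf _).mp h4

/-- `x ^ 64 ∈ O(M)` for `x ∈ O(M) S`. -/
theorem pow_mem_oc {x : G} (hx : x ∈ oc M ⊔ S) : x ^ 64 ∈ oc M := by
  have hSM := S_le_of F ha hM hCM
  haveI hn : ((oc M).subgroupOf M).Normal := by
    rw [normal_subgroupOf_iff_le_normalizer (oc_le M)]
    exact le_normalizer_oc M
  let f : M →* M ⧸ (oc M).subgroupOf M := QuotientGroup.mk' _
  have hf : ∀ z : M, f z = 1 ↔ (z : G) ∈ oc M := fun z => by
    rw [← mem_subgroupOf]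
    exact QuotientGroup.eq_one_iff z
  have hx' : x ∈ ((oc M ⊔ S : Subgroup G) : Set G) := hx
  rw [coe_mul_of_right_le_normalizer_left (oc M) S (hSM.trans (le_normalizer_oc M))] at hx'
  obtain ⟨r, hr, s, hs, hrs⟩ := hx'
  have hrs' : r * s = x := hrs
  have hrM := oc_le M hr
  have hsM := hSM hs
  have hxM : x ∈ M := hrs' ▸ mul_mem hrM hsM
  have h1 : f ⟨x, hxM⟩ = f ⟨s, hsM⟩ := by
    have h2 : (⟨x, hxM⟩ : M) = ⟨r, hrM⟩ * ⟨s, hsM⟩ := Subtype.ext hrs'.symm
    have h3 : f ⟨r, hrM⟩ = 1 := (hf _).mpr hr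
    rw [h2, map_mul, h3, one_mul]
  have hs64 : s ^ 64 = 1 := by
    have := pow_card_eq_one' (x := (⟨s, hs⟩ : S))
    rw [F.cardS] at this
    exact congrArg Subtype.val this
  have h2 : f (⟨x, hxM⟩ ^ 64) = 1 := by
    rw [map_pow, h1, ← map_pow]
    have : (⟨s, hsM⟩ : M) ^ 64 = 1 := Subtype.ext hs64
    rw [this, map_one]
  exact (hf _).mp h2

/-- a `q`-subgroup of `O(M) S`, `q` odd, lies in `O(M)`. -/
theorem le_oc_of_isPGroup {q : ℕ} (hq : q.Prime) (hq2 : q ≠ 2) {P : Subgroup G}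
    (hP : IsPGroup q P) (hPW : P ≤ oc M ⊔ S) : P ≤ oc M := by
  intro x hx
  have h1 := pow_mem_oc F ha hM hCM (hPW hx)
  have hodd : Odd (orderOf x) := by
    have h2 : orderOf x ∣ Nat.card P := by
      have := orderOf_dvd_natCard (⟨x, hx⟩ : P)
      rwa [← Subgroup.orderOf_coe] at this
    exact (odd_of_isPGroup hq hq2 hP).of_dvd_nat h2
  have hcop : (orderOf x).Coprime 64 := by
    have : (orderOf x).Coprime (2 ^ 6) := Nat.Coprime.pow_right 6 (Nat.coprime_two_right.mpr hodd)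
    simpa using this
  obtain ⟨m, hm⟩ := exists_pow_eq_self_of_coprime hcop.symm
  rw [← hm]
  exact pow_mem h1 m

end local_analysis2

section local_analysis3

variable (F : Frame S A g0) {a : G} (ha : AInv A a) {M : Subgroup G} (hM : IsCoatom M)
  (hCM : centralizer ({a} : Set G) ≤ M) {q : ℕ} (hq : q.Prime) (hq2 : q ≠ 2)
  (hmov : ¬ piCoreOf {q} M ≤ centralizer ({a} : Set G))

theorem commutator_eq_top (F : Frame S A g0) {a : G} (ha : AInv A a) : commutator G = ⊤ := by
  rcases F.simple (commutator G) inferInstance with h | h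
  · exfalso
    apply ha.2
    apply F.g0_fpf a ha.1
    have h1 : ⁅g0, a⁆ ∈ commutator G := commutator_mem_commutator (mem_top _) (mem_top _)
    rw [h, mem_bot] at h1
    exact commutatorElement_eq_one_iff_mul_comm.mp h1
  · exact h

/-- `Z(J(P))` controls fusion. -/
theorem exists_zj (F : Frame S A g0) {q : ℕ} [Fact q.Prime] (hq2 : q ≠ 2) (P : Sylow q G)
    (hP1 : (P : Subgroup G) ≠ ⊥) : ∃ Z : Subgroup G, Z ≠ ⊥ ∧ Z ≤ (P : Subgroup G) ∧
      normalizer ((P : Subgroup G) : Set G) ≤ normalizer (Z : Set G) ∧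
      ∀ (X : Set G), X ⊆ (P : Set G) → ∀ g : G, (fun a => g⁻¹ * a * g) '' X ⊆ (P : Set G) →
        ∃ n ∈ normalizer (Z : Set G), ∀ a ∈ X, n⁻¹ * a * n = g⁻¹ * a * g :=
  ⟨centerThompsonOf q (P : Subgroup G),
    Cfsg.Agent.S0118.centerThompsonOf_ne_bot P.isPGroup' hP1,
    PLocal.ZJElem.centerThompsonOf_le q (P : Subgroup G),
    PLocal.ZJElem.normalizer_le_normalizer_centerThompsonOf q (P : Subgroup G),
    fun X hX g hg => Cfsg.Agent.S0118.result hq2 (F.sl q Fact.out hq2) P X hX g hg⟩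

include F ha hM hCM hq hq2 hmov

/-- **(F')** `O_{q'}(O(M)) ≠ 1`. -/
theorem yc_ne_bot : yc q M ≠ ⊥ := by
  intro hY
  haveI := Fact.mk hq
  have hSM := S_le_of F ha hM hCM
  have hCQ := centralizer_core_le F ha hM hCM hq hq2 hmov hY
  set Q : Subgroup G := piCoreOf {q} M with hQ
  have hQp : IsPGroup q Q := isPGroup_piCoreOf hq M
  have hNQ : normalizer (Q : Set G) = M := normalizer_core_eq F ha hM hCM hq hq2 hmov
  have hMQ : M ≤ normalizer (Q : Set G) := le_normalizer_piCoreOf _ _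
  have hQi : Inv S q Q := ⟨hQp, hSM.trans hMQ⟩
  have hQR : Q ≤ oc M := le_oc (piCoreOf_le _ _) hMQ (odd_core F ha hM hCM hq hq2 hmov)
  obtain ⟨T, hT, hTi, hQT, hTR⟩ := F.exists_syl (odd_oc M) (hSM.trans (le_normalizer_oc M)) hQi hQR
  obtain ⟨P, hTP⟩ := hTi.1.exists_le_sylow
  have hQP : Q ≤ (P : Subgroup G) := hQT.trans hTP
  have hQ1 : Q ≠ ⊥ := core_ne_bot F ha hM hCM hq hq2 hmov
  have hP1 : (P : Subgroup G) ≠ ⊥ := fun h => hQ1 (le_bot_iff.mp (h ▸ hQP))
  obtain ⟨ZJ, hZJ1, hZJP, hNP, hfus⟩ := exists_zj F hq2 P hP1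
  have hZJo : Odd (Nat.card ZJ) := odd_of_isPGroup hq hq2 (P.isPGroup'.to_le hZJP)
  have hPZ : (P : Subgroup G) ≤ normalizer (ZJ : Set G) := le_normalizer.trans hNP
  -- `M ≤ N(ZJ)`
  have hMZ : M ≤ normalizer (ZJ : Set G) := by
    intro g hg
    obtain ⟨n, hn, hact⟩ := hfus (Q : Set G) hQP g (by
      rintro _ ⟨x, hx, rfl⟩
      apply hQP
      have := conj_mem_of_mem_normalizer (inv_mem (hMQ hg)) hx
      simpa using this)
    have h1 : g * n⁻¹ ∈ centralizer (Q : Set G) := by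
      rw [mem_centralizer_iff]
      intro x hx
      have h2 := hact x hx
      have h3 : g * (n⁻¹ * x * n) = x * g := by rw [h2]; group
      calc x * (g * n⁻¹) = (x * g) * n⁻¹ := by group
        _ = g * (n⁻¹ * x * n) * n⁻¹ := by rw [h3]
        _ = g * n⁻¹ * x := by group
    have h2 : g * n⁻¹ ∈ normalizer (ZJ : Set G) := hPZ (hQP (hCQ h1))
    have h3 : g = g * n⁻¹ * n := by group
    rw [h3]
    exact mul_mem h2 hn
  have hNZ : normalizer (ZJ : Set G) = M := normalizer_eq F hM hZJ1 hZJo hMZ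
  have hPM : (P : Subgroup G) ≤ M := hNZ ▸ hPZ
  -- `P ≤ O(M) S`
  have hPW : (P : Subgroup G) ≤ oc M ⊔ S := by
    have h1 : (P : Subgroup G) = (P : Subgroup G).focalSubgroup := by
      rw [← commutator_inf_eq_focalSubgroup P, commutator_eq_top F ha, top_inf_eq]
    rw [h1, focalSubgroup_def, closure_le]
    rintro _ ⟨hgP, x, hxP, u, rfl⟩
    have h2 : u * x⁻¹ * u⁻¹ ∈ (P : Subgroup G) := by
      have h3 : u * x⁻¹ * u⁻¹ = x⁻¹ * ⁅x, u⁆ := by rw [commutatorElement_def]; group
      rw [h3]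
      exact mul_mem (inv_mem hxP) hgP
    obtain ⟨n, hn, hact⟩ := hfus ({x⁻¹} : Set G)
      (by rintro _ rfl; exact inv_mem hxP) u⁻¹ (by
        rintro _ ⟨y, rfl, rfl⟩
        have h3 : u⁻¹⁻¹ * x⁻¹ * u⁻¹ = u * x⁻¹ * u⁻¹ := by group
        change u⁻¹⁻¹ * x⁻¹ * u⁻¹ ∈ (P : Subgroup G)
        rw [h3]
        exact h2)
    have h4 := hact x⁻¹ rfl
    have hnM : n ∈ M := hNZ ▸ hn
    have h5 : ⁅x, u⁆ = x * n⁻¹ * x⁻¹ * n⁻¹⁻¹ := by
      rw [commutatorElement_def]
      calc x * u * x⁻¹ * u⁻¹ = x * (u⁻¹⁻¹ * x⁻¹ * u⁻¹) := by group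
        _ = x * (n⁻¹ * x⁻¹ * n) := by rw [h4]
        _ = x * n⁻¹ * x⁻¹ * n⁻¹⁻¹ := by group
    rw [SetLike.mem_coe, h5]
    exact comm_mem F ha hM hCM (hPM hxP) (inv_mem hnM)
  have hPR : (P : Subgroup G) ≤ oc M := le_oc_of_isPGroup F ha hM hCM hq hq2 P.isPGroup' hPW
  -- `T = P`
  have hTP' : T = P := by
    obtain ⟨T', hT'⟩ := hT
    have h1 : (T' : Subgroup (oc M)) ≤ (P : Subgroup G).subgroupOf (oc M) := by
      intro x hx
      rw [mem_subgroupOf]
      apply hTP
      rw [← hT']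
      exact ⟨x, hx, rfl⟩
    have h2 := T'.is_maximal' (P.isPGroup'.comap_subtype (K := oc M)) h1
    apply le_antisymm hTP
    intro x hx
    rw [← hT']
    have h3 : (⟨x, hPR hx⟩ : oc M) ∈ (P : Subgroup G).subgroupOf (oc M) := by
      rw [mem_subgroupOf]; exact hx
    exact ⟨⟨x, hPR hx⟩, h2 ▸ h3, rfl⟩
  have hmax : MaxInv S q T := by
    refine ⟨hTi, fun Z hZ hTZ => ?_⟩
    rw [hTP'] at hTZ ⊢
    exact (P.is_maximal' hZ.1 hTZ).le
  have hF := F.typeF_of_moved hq2 hmax hQT hQi ha.1 ha.2 (hCM.trans hMQ) hmov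
  obtain ⟨g, hg, hgS, hact⟩ := hF
  refine F.emb M hM.1 a ha.1 ha.2 hCM ⟨g, ?_, hgS, hact⟩
  rw [← hNZ]
  apply hNP
  rw [← hTP']
  exact hg

/-- `[O_q(M), a] ≠ 1` -/
theorem ec_ne_bot' : ec q M a ≠ ⊥ := fun h => hmov (comm_eq_bot_iff.mp h)

theorem mem_self : a ∈ M := hCM (mem_centralizer_iff'.mpr rfl)

theorem ec_le' : ec q M a ≤ piCoreOf {q} M :=
  comm_le (le_normalizer_piCoreOf _ _ (mem_self F ha hM hCM hq hq2 hmov))

theorem comm_ec' : ⁅ec q M a, zpowers a⁆ = ec q M a :=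
  comm_comm (odd_core F ha hM hCM hq hq2 hmov) (F.isInv ha.1 ha.2)
    (le_normalizer_piCoreOf _ _ (mem_self F ha hM hCM hq hq2 hmov))

/-- **(N)** -/
theorem normalizer_ec_le (hmax : ∀ X : Subgroup G, IsCoatom X → centralizer ({a} : Set G) ≤ X →
      ¬ piCoreOf {q} X ≤ centralizer ({a} : Set G) → Nat.card (yc q X) ≤ Nat.card (yc q M)) :
    normalizer (ec q M a : Set G) ≤ M := by
  haveI := Fact.mk hq
  have hSM := S_le_of F ha hM hCM
  have haM := mem_self F ha hM hCM hq hq2 hmov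
  have hMQ : M ≤ normalizer (piCoreOf {q} M : Set G) := le_normalizer_piCoreOf _ _
  have hQp : IsPGroup q (piCoreOf {q} M) := isPGroup_piCoreOf hq M
  have hQo := odd_core F ha hM hCM hq hq2 hmov
  have hNQ := normalizer_core_eq F ha hM hCM hq hq2 hmov
  have hE1 := ec_ne_bot' F ha hM hCM hq hq2 hmov
  have hEQ := ec_le' F ha hM hCM hq hq2 hmov
  have hEE := comm_ec' F ha hM hCM hq hq2 hmov
  have hEo : Odd (Nat.card (ec q M a)) := odd_of_le hEQ hQo
  have hCE : centralizer ({a} : Set G) ≤ normalizer (ec q M a : Set G) := by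
    intro x hx
    rw [ec_def]
    exact Fam.mem_normalizer_comm (mem_centralizer_iff'.mp hx).symm (hMQ (hCM hx))
  have hQE : piCoreOf {q} M ≤ normalizer (ec q M a : Set G) := by
    rw [ec_def]
    exact Lib.CoprimeCommutator.left_le_normalizer_commutator _ _
  obtain ⟨X, hX, hNX⟩ := (eq_top_or_exists_le_coatom (normalizer (ec q M a : Set G))).resolve_left
    (F.normalizer_ne_top_of_odd hEo hE1)
  have hCX := hCE.trans hNX
  have hSX := S_le_of F ha hX hCX
  have hQX := hQE.trans hNX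
  -- `E ≤ O_q(X)`
  have hEX : ec q M a ≤ piCoreOf {q} X := by
    rw [← hEE]
    exact (commutator_mono (le_inf hEQ (le_normalizer.trans hNX)) le_rfl).trans
      (bal_of_frame F ha hCM hq hq2 hX.1 hSX)
  have hmovX : ¬ piCoreOf {q} X ≤ centralizer ({a} : Set G) := by
    intro h
    apply hE1
    rw [← hEE]
    exact comm_eq_bot_iff.mpr (hEX.trans h)
  -- `Y ≤ O_{q'}(O(X))`
  have hQR : piCoreOf {q} M ≤ oc X := F.invCore X hX.1 hSX _ hQX hQo (hSM.trans hMQ)
  have hYQ : yc q M ≤ centralizer (piCoreOf {q} M : Set G) := by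
    rw [le_centralizer_iff]
    exact core_le_centralizer_of_coprime hq ((yc_le _ _).trans (oc_le _)) (le_normalizer_yc _ _)
      (coprime_yc _ _)
  have hYX : yc q M ≤ X :=
    (hYQ.trans ((centralizer_le hEQ).trans (centralizer_le_normalizer _))).trans hNX
  have hYR : yc q M ≤ oc X := F.invCore X hX.1 hSX _ hYX (odd_yc _ _)
    (hSM.trans (le_normalizer_yc _ _))
  have hle : yc q M ≤ yc q X := by
    set R : Subgroup G := oc X with hR
    have key : (yc q M).subgroupOf R ≤ pPrimeCore q R := by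
      refine SignalizersComponents.CoreOfCentralizer.le_pPrimeCore_of_centralizer_normalizes
        (F.solv R (odd_oc _)) ((piCoreOf {q} M).subgroupOf R) ?_ ((yc q M).subgroupOf R) ?_ ?_ ?_
      · exact hQp.of_equiv (subgroupOfEquivOfLe hQR).symm
      · rw [Nat.card_congr (subgroupOfEquivOfLe hYR).toEquiv]; exact coprime_yc _ _
      · intro x hx
        rw [mem_centralizer_iff]
        intro y hy
        exact Subtype.ext (mem_centralizer_iff.mp (hYQ hx) y hy)
      · intro x hx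
        have hxC : (x : G) ∈ centralizer (piCoreOf {q} M : Set G) := by
          rw [mem_centralizer_iff]
          intro y hy
          exact congrArg Subtype.val (mem_centralizer_iff.mp hx ⟨y, hQR hy⟩ hy)
        have hxM : (x : G) ∈ M := by
          rw [← hNQ]
          exact centralizer_le_normalizer _ hxC
        rw [mem_normalizer_iff]
        intro y
        exact mem_normalizer_iff.mp (le_normalizer_yc q M hxM) y
    have h3 := map_mono (f := R.subtype) key
    rw [map_subgroupOf_eq_of_le hYR] at h3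
    have h4 : R ≤ normalizer (((pPrimeCore q R).map R.subtype : Subgroup G) : Set G) := by
      intro x hx
      apply mem_normalizer_of_conj
      rintro _ ⟨y, hy, rfl⟩
      haveI := Lib.Cores.pPrimeCore_normal (G := R) q
      exact ⟨⟨x, hx⟩ * y * ⟨x, hx⟩⁻¹, Normal.conj_mem inferInstance y hy _, rfl⟩
    refine h3.trans (le_core_of_coprime (map_subtype_le _) h4 ?_)
    rw [Nat.card_congr ((pPrimeCore q R).equivMapOfInjective R.subtype
      R.subtype_injective).symm.toEquiv]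
    exact Lib.Cores.pPrimeCore_coprime q
  have heq : yc q M = yc q X := Subgroup.eq_of_le_of_card_ge hle (hmax X hX hCX hmovX)
  have hY1 := yc_ne_bot F ha hM hCM hq hq2 hmov
  have h1 := normalizer_eq F hM hY1 (odd_yc _ _) (le_normalizer_yc _ _)
  have h2 := normalizer_eq F hX (heq ▸ hY1) (odd_yc _ _) (le_normalizer_yc _ _)
  have h3 : M = X := by rw [← h1, ← h2, heq]
  rw [h3] at hNX ⊢
  exact hNX

end local_analysis3

/-! ### The family -/

/-- the family of conjugates of `M0` -/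
noncomputable def fam (a : G) (M0 : Subgroup G) (w : G) : Subgroup G :=
  open Classical in
  if h : ∃ g : G, g * a * g⁻¹ = w then M0.map (MulAut.conj h.choose).toMonoidHom else ⊥

theorem fam_conj {a : G} {M0 : Subgroup G} (hC : centralizer ({a} : Set G) ≤ M0) (g : G) :
    fam a M0 (g * a * g⁻¹) = M0.map (MulAut.conj g).toMonoidHom := by
  have h : ∃ x : G, x * a * x⁻¹ = g * a * g⁻¹ := ⟨g, rfl⟩
  have e : fam a M0 (g * a * g⁻¹) = M0.map (MulAut.conj h.choose).toMonoidHom := by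
    unfold fam
    rw [dif_pos h]
  rw [e]
  have hx := h.choose_spec
  set x := h.choose
  have h1 : g⁻¹ * x ∈ M0 := by
    apply hC
    rw [mem_centralizer_iff']
    calc g⁻¹ * x * a = g⁻¹ * (x * a * x⁻¹) * x := by group
      _ = g⁻¹ * (g * a * g⁻¹) * x := by rw [hx]
      _ = a * (g⁻¹ * x) := by group
  have h2 : x = g * (g⁻¹ * x) := by group
  rw [h2, ← map_conj_conj, map_conj_eq_iff_mem_normalizer.mpr (le_normalizer h1)]

theorem centralizer_conj (a g : G) :
    centralizer ({g * a * g⁻¹} : Set G) =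
      (centralizer ({a} : Set G)).map (MulAut.conj g).toMonoidHom := by
  ext x
  rw [mem_map_conj_iff, mem_centralizer_iff', mem_centralizer_iff']
  constructor
  · intro h
    calc g⁻¹ * x * g * a = g⁻¹ * (x * (g * a * g⁻¹)) * g := by group
      _ = g⁻¹ * (g * a * g⁻¹ * x) * g := by rw [h]
      _ = a * (g⁻¹ * x * g) := by group
  · intro h
    calc x * (g * a * g⁻¹) = g * ((g⁻¹ * x * g) * a) * g⁻¹ := by group
      _ = g * (a * (g⁻¹ * x * g)) * g⁻¹ := by rw [h]
      _ = g * a * g⁻¹ * x := by group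

theorem isCoatom_map_conj {M0 : Subgroup G} (hM : IsCoatom M0) (g : G) :
    IsCoatom (M0.map (MulAut.conj g).toMonoidHom) := by
  constructor
  · intro h
    apply hM.1
    have h1 : (M0.map (MulAut.conj g).toMonoidHom).map (MulAut.conj g⁻¹).toMonoidHom = ⊤ := by
      rw [h]
      exact Subgroup.map_top_of_surjective _ (MulAut.conj g⁻¹).surjective
    rwa [map_conj_conj, inv_mul_cancel, map_conj_one] at h1
  · intro K hK
    have h1 : M0 < K.map (MulAut.conj g⁻¹).toMonoidHom := by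
      have h2 : (M0.map (MulAut.conj g).toMonoidHom).map (MulAut.conj g⁻¹).toMonoidHom <
          K.map (MulAut.conj g⁻¹).toMonoidHom := by
        refine lt_of_le_of_ne (map_mono hK.le) ?_
        intro h
        exact hK.ne (map_injective (MulAut.conj g⁻¹).injective h)
      rwa [map_conj_conj, inv_mul_cancel, map_conj_one] at h2
    have h2 := hM.2 _ h1
    have h3 : (K.map (MulAut.conj g⁻¹).toMonoidHom).map (MulAut.conj g).toMonoidHom = ⊤ := by
      rw [h2]
      exact Subgroup.map_top_of_surjective _ (MulAut.conj g).surjective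
    rwa [map_conj_conj, mul_inv_cancel, map_conj_one] at h3

/-- the family exists. -/
theorem exists_fam (F : Frame S A g0) {a : G} (ha : AInv A a)
    (hcon : ¬ IsCoatom (centralizer ({a} : Set G))) :
    ∃ (M0 : Subgroup G) (q : ℕ), Fam S A g0 (fam a M0) q ∧ centralizer ({a} : Set G) ≤ M0 ∧
      q.Prime ∧ q ≠ 2 ∧ IsCoatom M0 ∧ ¬ piCoreOf {q} M0 ≤ centralizer ({a} : Set G) := by
  obtain ⟨M1, hM1, hCM1⟩ := (eq_top_or_exists_le_coatom (centralizer ({a} : Set G))).resolve_left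
    (F.centralizer_ne_top ha.1 ha.2)
  have hne : M1 ≠ centralizer ({a} : Set G) := fun h => hcon (h ▸ hM1)
  obtain ⟨q, hq, hq2, hmov1⟩ := exists_moved F ha hM1 hCM1 hne
  obtain ⟨M0, ⟨hM, hCM, hmov⟩, hmax⟩ := (Set.toFinite {X : Subgroup G | IsCoatom X ∧
    centralizer ({a} : Set G) ≤ X ∧ ¬ piCoreOf {q} X ≤ centralizer ({a} : Set G)}).exists_maximalFor
    (fun X => Nat.card (yc q X)) _ ⟨M1, hM1, hCM1, hmov1⟩
  have hmax' : ∀ X : Subgroup G, IsCoatom X → centralizer ({a} : Set G) ≤ X →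
      ¬ piCoreOf {q} X ≤ centralizer ({a} : Set G) → Nat.card (yc q X) ≤ Nat.card (yc q M0) := by
    intro X h1 h2 h3
    by_contra hlt
    push Not at hlt
    exact (not_le.mpr hlt) (hmax ⟨h1, h2, h3⟩ hlt.le)
  have hnorm := normalizer_ec_le F ha hM hCM hq hq2 hmov hmax'
  have hY1 := yc_ne_bot F ha hM hCM hq hq2 hmov
  refine ⟨M0, q, ?_, hCM, hq, hq2, hM, hmov⟩
  have hconj : ∀ w, AInv A w → ∃ g : G, g * a * g⁻¹ = w := by
    intro w hw
    obtain ⟨k, hk⟩ := F.exists_pow_conj ha.1 ha.2 hw.1 hw.2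
    exact ⟨g0 ^ k, hk⟩
  have hcent : ∀ w, AInv A w → centralizer ({w} : Set G) ≤ fam a M0 w := by
    intro w hw
    obtain ⟨g, rfl⟩ := hconj w hw
    rw [fam_conj hCM, centralizer_conj]
    exact map_mono hCM
  have hco : ∀ w, AInv A w → IsCoatom (fam a M0 w) := by
    intro w hw
    obtain ⟨g, rfl⟩ := hconj w hw
    rw [fam_conj hCM]
    exact isCoatom_map_conj hM g
  have hcj : ∀ g w, AInv A w →
      fam a M0 (g * w * g⁻¹) = (fam a M0 w).map (MulAut.conj g).toMonoidHom := by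
    intro g w hw
    obtain ⟨x, rfl⟩ := hconj w hw
    have e : g * (x * a * x⁻¹) * g⁻¹ = (g * x) * a * (g * x)⁻¹ := by group
    rw [e, fam_conj hCM, fam_conj hCM, map_conj_conj]
  refine ⟨F, hq, hq2, hcent, hco, hcj, ?_, ?_, ?_⟩
  · -- `M t ≠ M u`
    intro t u ht hu htu heq
    obtain ⟨k, hk⟩ := F.exists_pow_conj ht.1 ht.2 hu.1 hu.2
    have h1 := hcj (g0 ^ k) t ht
    rw [hk, ← heq] at h1
    have h2 : g0 ^ k ∈ normalizer (fam a M0 t : Set G) :=
      map_conj_eq_iff_mem_normalizer.mp h1.symm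
    have htM : t ∈ fam a M0 t := hcent t ht (mem_centralizer_iff'.mpr rfl)
    have h3 : normalizer (fam a M0 t : Set G) = fam a M0 t := by
      rcases (hco t ht).le_iff.mp le_normalizer with h | h
      · exfalso
        have hn : (fam a M0 t).Normal := normalizer_eq_top_iff.mp h
        rcases F.simple _ hn with h4 | h4
        · rw [h4, mem_bot] at htM
          exact ht.2 htM
        · exact (hco t ht).1 h4
      · exact h
    rw [h3] at h2
    have hT := F.typeF_of_pow h2 (F.g0_pow_normalizer k) k (fun _ _ => rfl)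
      ⟨t, ht.1, by rw [hk]; exact htu.symm⟩
    exact F.emb _ (hco t ht).1 t ht.1 ht.2 (hcent t ht) hT
  · intro w hw
    obtain ⟨g, rfl⟩ := hconj w hw
    rw [fam_conj hCM]
    have e : ec q (M0.map (MulAut.conj g).toMonoidHom) (g * a * g⁻¹) =
        (ec q M0 a).map (MulAut.conj g).toMonoidHom := by
      rw [ec_def, ec_def, Equivariance.piCoreOf_map, map_commutator, MonoidHom.map_zpowers]
      rfl
    rw [e, ← Lib.GoldschmidtFusion.map_conj_normalizer]
    exact map_mono hnorm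
  · intro w hw
    obtain ⟨g, rfl⟩ := hconj w hw
    rw [fam_conj hCM, yc_def, oc_def, Equivariance.piCoreOf_map, Equivariance.piCoreOf_map, Ne,
      Subgroup.map_eq_bot_iff_of_injective _ (MulAut.conj g).injective]
    exact hY1

/-- **Type B is impossible**: every `C(a)`, `a ∈ A`, `a ≠ 1`, is a maximal subgroup. -/
theorem isCoatom_centralizer (F : Frame S A g0) {a : G} (ha : a ∈ A) (ha1 : a ≠ 1) :
    IsCoatom (centralizer ({a} : Set G)) := by
  by_contra hcon
  obtain ⟨M0, q, hF, hCM, hq, hq2, hM, hmov⟩ := exists_fam F ⟨ha, ha1⟩ hcon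
  haveI := Fact.mk hq
  have e : fam a M0 a = M0 := by
    have := fam_conj hCM 1
    rwa [one_mul, inv_one, mul_one, map_conj_one] at this
  have hMQ : M0 ≤ normalizer (piCoreOf {q} M0 : Set G) := le_normalizer_piCoreOf _ _
  have hSM : S ≤ M0 := (F.S_le_centralizer ha).trans hCM
  have hQi : Inv S q (piCoreOf {q} M0) := ⟨isPGroup_piCoreOf hq M0, hSM.trans hMQ⟩
  obtain ⟨T, hT, hQT⟩ := exists_maxInv hQi
  have hT1 : T ≠ ⊥ := by
    intro h
    rw [h, le_bot_iff] at hQT
    rw [hQT] at hmov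
    exact hmov bot_le
  have hTF := F.typeF_of_moved hq2 hT hQT hQi ha ha1 (hCM.trans hMQ) hmov
  refine GoldM1BChain.false_of_typeF hF ⟨ha, ha1⟩ (F.normalizer_ne_top hq2 hT.1.1 hT1) hT.1.2 ?_ hTF
  rw [e]
  exact hQT.trans le_normalizer

end Cfsg.Agent.TwoFusion.GoldM1BExist
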