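import Mathlib
import Cfsg.Prelude.Def_Blocks
import Cfsg.Prelude.Def_Solvable
import Cfsg.Prelude.Def_Local
import Cfsg.Agent.Lib.Cores
import Cfsg.Agent.Lib.PSolvable
import Cfsg.Agent.Characters.Core
import Cfsg.Agent.Characters.ClassMul
import Cfsg.Agent.Blocks.Orthogonality
import Cfsg.Agent.Blocks.BlockKer
import Cfsg.Agent.Blocks.PPart
import Cfsg.Agent.Blocks.PrincipalSection
import Cfsg.Agent.Blocks.PrincipalInflate
import Cfsg.Agent.Blocks.PrincipalKernel
import Cfsg.Agent.Blocks.BrauerHomocyclic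
import Cfsg.Agent.Blocks.ExistsModular
import Cfsg.Agent.S0145
import Cfsg.Agent.S0915
import Cfsg.Agent.S0925
import Cfsg.Agent.S0941
import Cfsg.Agent.S0942

/-!
# Characters for Lyons' theorem, type Z

The character-theoretic end of the case "`C(a)` maximal" of the theorem on simple groups with a
Sylow 2-subgroup of type `U₃(4)` (helper16's proof, step (Z5)).
-/

set_option autoImplicit false

open Cfsg Cfsg.Agent.Blocks.Basic Cfsg.Agent.Blocks.Local
open scoped ComplexConjugate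

namespace Cfsg.Agent.TwoFusion.GoldM1Char

section Block

variable {H : Type*} [Group H] [Finite H] {p : ℕ} [hp : Fact p.Prime] {M : Ideal AlgInt}

/-- Inflation of irreducible characters. -/
noncomputable def infl (N : Subgroup H) [N.Normal] (χ : IrrCharacter (H ⧸ N)) : IrrCharacter H :=
  ⟨(χ : H ⧸ N → ℂ) ∘ QuotientGroup.mk,
    Characters.Core.isIrr_comp (QuotientGroup.mk' N) (QuotientGroup.mk'_surjective N) χ.2⟩

omit [Finite H] in
theorem infl_apply (N : Subgroup H) [N.Normal] (χ : IrrCharacter (H ⧸ N)) (h : H) :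
    (infl N χ : H → ℂ) h = (χ : H ⧸ N → ℂ) (QuotientGroup.mk h) := rfl

omit [Finite H] in
theorem infl_injective (N : Subgroup H) [N.Normal] : Function.Injective (infl N) := by
  intro χ ψ h
  apply Subtype.ext
  funext x
  obtain ⟨y, rfl⟩ := QuotientGroup.mk_surjective x
  exact congrFun (congrArg Subtype.val h) y

/-- In a `p`-solvable group the principal block consists of the characters with `O_{p'}(H)` in the
kernel. -/
theorem infl_mem_principalBlock (hM : IsPModular p M) (hs : IsPSolvable p H)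
    (N : Subgroup H) [N.Normal] (hN : N = pPrimeCore p H) (χ : IrrCharacter (H ⧸ N)) :
    infl N χ ∈ principalBlock M H := by
  have := isPrime_of_isPModular hM
  have h1 : IsPSolvable p (H ⧸ N) :=
    Lib.PSolvable.IsPSolvable_of_surjective p hs (QuotientGroup.mk' N)
      (QuotientGroup.mk'_surjective N)
  have h2 : pPrimeCore p (H ⧸ N) = ⊥ := by
    subst hN
    exact Lib.Cores.pPrimeCore_quotient_pPrimeCore p
  have h3 := S0915.result p M hM h1 h2 ⟨fun _ => 1, isIrrCharacter_one⟩ χ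
  exact S0941.sameBlock_inflate N h3

theorem principalBlock_eq_range (hM : IsPModular p M) (hs : IsPSolvable p H)
    (N : Subgroup H) [N.Normal] (hN : N = pPrimeCore p H) :
    principalBlock M H = Set.range (infl N) := by
  ext ξ
  constructor
  · intro h
    have hNp : ¬ p ∣ Nat.card N := by
      subst hN
      exact (Nat.Prime.coprime_iff_not_dvd hp.out).1 (Lib.Cores.pPrimeCore_coprime p).symm
    obtain ⟨χ', hχ'⟩ := Blocks.PrincipalInflate.exists_deflate hM hNp h
    exact ⟨χ', Subtype.ext hχ'.symm⟩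
  · rintro ⟨χ, rfl⟩
    exact infl_mem_principalBlock hM hs N hN χ

/-- Second orthogonality for the principal block of a `p`-solvable group. -/
theorem exists_conj_of_sum_ne_zero (hM : IsPModular p M) (hs : IsPSolvable p H) (t h : H)
    (hne : ∑ᶠ ξ ∈ principalBlock M H, (ξ : H → ℂ) t * conj ((ξ : H → ℂ) h) ≠ 0) :
    ∃ c : H, ∃ k ∈ pPrimeCore p H, h = c * (t * k) * c⁻¹ := by
  have hN : (pPrimeCore p H).Normal := Lib.Cores.pPrimeCore_normal p
  rw [principalBlock_eq_range hM hs (pPrimeCore p H) rfl,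
    finsum_mem_range (infl_injective _)] at hne
  have h1 : IsConj (QuotientGroup.mk t : H ⧸ pPrimeCore p H) (QuotientGroup.mk h) := by
    by_contra hcon
    exact hne ((S0145.result (QuotientGroup.mk t : H ⧸ pPrimeCore p H)
      (QuotientGroup.mk h)).2 hcon)
  obtain ⟨c, hc⟩ := isConj_iff.1 h1
  obtain ⟨c, rfl⟩ := QuotientGroup.mk_surjective c
  have h2 : (QuotientGroup.mk (c * t * c⁻¹) : H ⧸ pPrimeCore p H) = QuotientGroup.mk h := by
    rw [← hc]; rfl
  rw [QuotientGroup.eq] at h2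
  refine ⟨c, c⁻¹ * ((c * t * c⁻¹)⁻¹ * h) * c, ?_, ?_⟩
  · have := hN.conj_mem _ h2 c⁻¹
    simpa using this
  · group

end Block

section Section

variable {G : Type*} [Group G] [Finite G]

/-- The kernel of the principal 2-block on the section of `t` when `C(t)` has a normal
2-complement. -/
theorem sum_section_eq {q : ℕ} [Fact q.Prime] {M : Ideal AlgInt} (hM : IsPModular q M) {t : G}
    (ht : ∃ k : ℕ, orderOf t = q ^ k)
    (hnc : ∃ k : ℕ, (pPrimeCore q (Subgroup.centralizer ({t} : Set G))).index = q ^ k) {g z : G}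
    (hz : IsPPart q g z) (hc : IsConj t z) :
    ∑ᶠ ζ ∈ principalBlock M G, (ζ : G → ℂ) g * conj ((ζ : G → ℂ) t) =
      ((pPrimeCore q (Subgroup.centralizer ({t} : Set G))).index : ℂ) := by
  obtain ⟨c, hc⟩ := isConj_iff.1 hc
  obtain ⟨w, hw1, hw2, hw3, hw4⟩ := hz
  have hq : q.Prime := Fact.out
  set y : G := c⁻¹ * w * c with hy
  have h1 : c⁻¹ * g * c⁻¹⁻¹ = t * y := by
    rw [← hw1, ← hc, hy]; group
  have hyt : Commute t y := by
    have h3 : (c * t * c⁻¹) * w = w * (c * t * c⁻¹) := by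
      rw [hc]; exact hw2
    show t * (c⁻¹ * w * c) = c⁻¹ * w * c * t
    have h4 : c⁻¹ * ((c * t * c⁻¹) * w) * c = c⁻¹ * (w * (c * t * c⁻¹)) * c := by rw [h3]
    calc t * (c⁻¹ * w * c) = c⁻¹ * ((c * t * c⁻¹) * w) * c := by group
      _ = c⁻¹ * (w * (c * t * c⁻¹)) * c := h4
      _ = c⁻¹ * w * c * t := by group
  have hyo : ¬ q ∣ orderOf y := by
    have h3 : orderOf y = orderOf w := by
      have h4 : y = MulAut.conj c⁻¹ w := by simp [hy]
      rw [h4]
      exact orderOf_injective (MulAut.conj c⁻¹).toMonoidHom (MulAut.conj c⁻¹).injective w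
    rwa [h3]
  have h2 : ∀ ζ : IrrCharacter G, (ζ : G → ℂ) g = (ζ : G → ℂ) (t * y) := by
    intro ζ
    rw [← h1]
    exact (irr_conj ζ.2 g c⁻¹).symm
  have h5 := Blocks.PrincipalSection.sum_principalBlock_section hM t ht rfl
    (⟨y, Subgroup.mem_centralizer_singleton_iff.2 hyt.eq.symm⟩ :
      Subgroup.centralizer ({t} : Set G)) 1
    (by rw [← Subgroup.orderOf_coe]; exact hyo)
    (by rw [orderOf_one]; exact hq.not_dvd_one)
  have h6 := Blocks.PrincipalSection.sum_principalBlock_of_pComplement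
    (K := Subgroup.centralizer ({t} : Set G)) hM hnc
    (y := ⟨y, Subgroup.mem_centralizer_singleton_iff.2 hyt.eq.symm⟩) (y' := 1)
    (by rw [← Subgroup.orderOf_coe]; exact hyo)
    (by rw [orderOf_one]; exact hq.not_dvd_one)
  rw [h6, ← Blocks.PrincipalSection.index_pPrimeCore_eq hnc] at h5
  rw [← h5]
  refine finsum_mem_congr rfl fun ζ _ => ?_
  rw [h2 ζ, Subgroup.coe_one, mul_one]

/-- `q`-parts of products with a commuting `q`-regular element. -/
theorem isPPart_mul_left {q : ℕ} [hq : Fact q.Prime] {y x z : G} (hyx : Commute y x)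
    (hy : ¬ q ∣ orderOf y) (hz : IsPPart q x z) : IsPPart q (y * x) z := by
  obtain ⟨n, hn⟩ := Blocks.PPart.exists_pow_eq (G := G) q
  have hzn : x ^ n = z := hn x z hz
  obtain ⟨w, hw1, hw2, hw3, hw4⟩ := hz
  have hyz : Commute y z := hzn ▸ hyx.pow_right n
  have hw : w = z⁻¹ * x := by rw [← hw1]; group
  have hyw : Commute y w := hw ▸ (hyz.inv_right.mul_right hyx)
  refine ⟨y * w, ?_, hyz.symm.mul_right hw2, hw3, ?_⟩
  · rw [← hw1, ← mul_assoc, ← hyz.eq, mul_assoc]
  · intro h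
    have h1 := h.trans (hyw.orderOf_mul_dvd_mul_orderOf)
    rcases (Nat.Prime.dvd_mul hq.out).1 h1 with h2 | h2
    · exact hy h2
    · exact hw4 h2

theorem two_part_of_sum_ne_zero {p q : ℕ} [Fact p.Prime] [Fact q.Prime] (hpq : p ≠ q)
    {M : Ideal AlgInt} (hM : IsPModular p M) {t y : G} (ht : ∃ k : ℕ, orderOf t = q ^ k)
    (hy : ∃ k : ℕ, orderOf y = p ^ k) (hyt : Commute y t)
    (hs : IsPSolvable p (Subgroup.centralizer ({y} : Set G)))
    (hK : ∀ k ∈ centralizerPPrimeCore p y, ∃ z, IsPPart q (t * k) z ∧ IsConj t z) {g : G}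
    (hne : ∑ᶠ ζ ∈ principalBlock M G, (ζ : G → ℂ) (y * t) * conj ((ζ : G → ℂ) g) ≠ 0) :
    ∃ z, IsPPart q g z ∧ IsConj t z := by
  have hp : p.Prime := Fact.out
  have hq : q.Prime := Fact.out
  have hpt : ¬ p ∣ orderOf t := by
    obtain ⟨k, hk⟩ := ht
    rw [hk]
    intro h
    exact hpq ((Nat.prime_dvd_prime_iff_eq hp hq).1 (hp.dvd_of_dvd_pow h))
  have hqy : ¬ q ∣ orderOf y := by
    obtain ⟨k, hk⟩ := hy
    rw [hk]
    intro h
    exact hpq ((Nat.prime_dvd_prime_iff_eq hq hp).1 (hq.dvd_of_dvd_pow h)).symm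
  obtain ⟨x, hx⟩ := Blocks.PPart.exists_isPPart p g
  have h1 : IsConj y x := by
    by_contra hcon
    have h2 := (S0925.result p M hM).2 (y * t) g y x
      (Blocks.PPart.isPPart_mul hyt hy hpt) hx hcon _
      (Blocks.PrincipalSection.isPBlock_principalBlock (K := G))
    apply hne
    rw [← h2]
    refine finsum_mem_congr rfl fun ζ _ => ?_
    rw [Characters.Core.isCharacter_apply_inv (Characters.Core.isIrr_isCharacter ζ.2)]
  obtain ⟨c, hc⟩ := isConj_iff.1 h1
  obtain ⟨w, hw1, hw2, hw3, hw4⟩ := hx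
  set u : G := c⁻¹ * w * c with hu
  have h3 : c⁻¹ * g * c⁻¹⁻¹ = y * u := by
    rw [← hw1, ← hc, hu]; group
  have hyu : Commute y u := by
    have h4 : (c * y * c⁻¹) * w = w * (c * y * c⁻¹) := by
      rw [hc]; exact hw2
    show y * (c⁻¹ * w * c) = c⁻¹ * w * c * y
    have h5 : c⁻¹ * ((c * y * c⁻¹) * w) * c = c⁻¹ * (w * (c * y * c⁻¹)) * c := by rw [h4]
    calc y * (c⁻¹ * w * c) = c⁻¹ * ((c * y * c⁻¹) * w) * c := by group
      _ = c⁻¹ * (w * (c * y * c⁻¹)) * c := h5
      _ = c⁻¹ * w * c * y := by group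
  have huo : ¬ p ∣ orderOf u := by
    have h4 : orderOf u = orderOf w := by
      have h5 : u = MulAut.conj c⁻¹ w := by simp [hu]
      rw [h5]
      exact orderOf_injective (MulAut.conj c⁻¹).toMonoidHom (MulAut.conj c⁻¹).injective w
    rwa [h4]
  have h2 : ∀ ζ : IrrCharacter G, (ζ : G → ℂ) g = (ζ : G → ℂ) (y * u) := by
    intro ζ
    rw [← h3]
    exact (irr_conj ζ.2 g c⁻¹).symm
  have h4 := Blocks.PrincipalSection.sum_principalBlock_section hM y hy rfl
    (⟨t, Subgroup.mem_centralizer_singleton_iff.2 hyt.eq.symm⟩ :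
      Subgroup.centralizer ({y} : Set G))
    (⟨u, Subgroup.mem_centralizer_singleton_iff.2 hyu.eq.symm⟩ :
      Subgroup.centralizer ({y} : Set G))
    (by rw [← Subgroup.orderOf_coe]; exact hpt)
    (by rw [← Subgroup.orderOf_coe]; exact huo)
  have h5 : ∑ᶠ ζ ∈ principalBlock M G, (ζ : G → ℂ) (y * t) * conj ((ζ : G → ℂ) g) =
      ∑ᶠ ζ ∈ principalBlock M G, (ζ : G → ℂ) (y * t) * conj ((ζ : G → ℂ) (y * u)) :=
    finsum_mem_congr rfl fun ζ _ => by rw [h2 ζ]
  rw [h5, h4] at hne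
  obtain ⟨d, k, hk, hd⟩ := exists_conj_of_sum_ne_zero hM hs _ _ hne
  have hd' : u = (d : G) * (t * (k : G)) * (d : G)⁻¹ := by
    have := congrArg Subtype.val hd
    simpa using this
  have hkc : (k : G) ∈ centralizerPPrimeCore p y := ⟨k, hk, rfl⟩
  obtain ⟨z, hz1, hz2⟩ := hK (k : G) hkc
  have hyk : Commute y (k : G) := (Subgroup.mem_centralizer_singleton_iff.1 k.2).symm
  have hyd : Commute y (d : G) := (Subgroup.mem_centralizer_singleton_iff.1 d.2).symm
  have h6 : IsPPart q (y * (t * (k : G))) z := isPPart_mul_left (hyt.mul_right hyk) hqy hz1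
  have h7 : g = (c * (d : G)) * (y * (t * (k : G))) * (c * (d : G))⁻¹ := by
    have h8 : g = c * (y * u) * c⁻¹ := by rw [← h3]; group
    rw [h8, hd']
    have h9 : y * ((d : G) * (t * (k : G)) * (d : G)⁻¹) =
        (d : G) * (y * (t * (k : G))) * (d : G)⁻¹ := by
      calc y * ((d : G) * (t * (k : G)) * (d : G)⁻¹) =
          (y * (d : G)) * (t * (k : G)) * (d : G)⁻¹ := by group
        _ = ((d : G) * y) * (t * (k : G)) * (d : G)⁻¹ := by rw [hyd.eq]
        _ = _ := by group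
    rw [h9]; group
  refine ⟨(c * (d : G)) * z * (c * (d : G))⁻¹, ?_, ?_⟩
  · rw [h7]
    exact Blocks.PPart.isPPart_conj h6 _
  · exact hz2.trans (isConj_iff.2 ⟨_, rfl⟩)

open Classical in
/-- **All members of the principal `q`-block which do not vanish at `t` lie in the principal
`p`-block.** -/
theorem mem_principalBlock_of_ne_zero {p q : ℕ} [Fact p.Prime] [Fact q.Prime] (hpq : p ≠ q)
    {M M' : Ideal AlgInt} (hM : IsPModular p M) (hM' : IsPModular q M') {t y : G}
    (ht : ∃ k : ℕ, orderOf t = q ^ k)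
    (hy : ∃ k : ℕ, orderOf y = p ^ k) (hyt : Commute y t)
    (hnc : ∃ k : ℕ, (pPrimeCore q (Subgroup.centralizer ({t} : Set G))).index = q ^ k)
    (hs : IsPSolvable p (Subgroup.centralizer ({y} : Set G)))
    (hK : ∀ k ∈ centralizerPPrimeCore p y, ∃ z, IsPPart q (t * k) z ∧ IsConj t z)
    {χ : IrrCharacter G} (hχ : χ ∈ principalBlock M' G) (hχt : (χ : G → ℂ) t ≠ 0) :
    χ ∈ principalBlock M G := by
  have hfin : Finite (IrrCharacter G) := Characters.Core.finite_irr
  let _ : Fintype (IrrCharacter G) := Fintype.ofFinite _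
  let _ : Fintype G := Fintype.ofFinite G
  have hp : p.Prime := Fact.out
  have hq : q.Prime := Fact.out
  set n : ℕ := (pPrimeCore q (Subgroup.centralizer ({t} : Set G))).index with hn
  have hqy : ¬ q ∣ orderOf y := by
    obtain ⟨k, hk⟩ := hy
    rw [hk]
    intro h
    exact hpq ((Nat.prime_dvd_prime_iff_eq hq hp).1 (hq.dvd_of_dvd_pow h)).symm
  -- the kernel
  set κ : G → ℂ := fun g => ∑ᶠ ζ ∈ principalBlock M G, (ζ : G → ℂ) (y * t) * conj ((ζ : G → ℂ) g)
    with hκ
  set ψ : G → ℂ := fun g => ∑ᶠ ζ ∈ principalBlock M' G, (ζ : G → ℂ) g * conj ((ζ : G → ℂ) t)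
    with hψ
  have h1 : ∀ g, κ g * ψ g = κ g * n := by
    intro g
    by_cases h : κ g = 0
    · rw [h, zero_mul, zero_mul]
    · obtain ⟨z, hz1, hz2⟩ := two_part_of_sum_ne_zero hpq hM ht hy hyt hs hK h
      rw [hψ]
      simp only
      rw [sum_section_eq hM' ht hnc hz1 hz2]
  have h2 : ∑ g, κ g * ψ g = ∑ ζ : IrrCharacter G, (if ζ ∈ principalBlock M' G then
      conj ((ζ : G → ℂ) t) * (if ζ ∈ principalBlock M G then
        (Nat.card G : ℂ) * (ζ : G → ℂ) (y * t) else 0) else 0) := by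
    have h3 : ∀ g, κ g * ψ g = ∑ ζ : IrrCharacter G, (if ζ ∈ principalBlock M' G then
        conj ((ζ : G → ℂ) t) * (κ g * (ζ : G → ℂ) g) else 0) := by
      intro g
      rw [hψ]
      simp only
      rw [finsum_mem_eq_toFinset_sum, Finset.mul_sum, ← Finset.sum_filter]
      refine Finset.sum_congr ?_ fun ζ _ => by ring
      ext ζ
      simp
    rw [Finset.sum_congr rfl fun g _ => h3 g, Finset.sum_comm]
    refine Finset.sum_congr rfl fun ζ _ => ?_
    split_ifs with h4
    · rw [← Finset.mul_sum]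
      congr 1
      have h5 := Blocks.Orthogonality.sum_kernel_mul (principalBlock M G) ζ (y * t)
      rw [if_pos (by assumption)] at h5
      exact h5
    · rw [← Finset.mul_sum]
      congr 1
      have h5 := Blocks.Orthogonality.sum_kernel_mul (principalBlock M G) ζ (y * t)
      rw [if_neg (by assumption)] at h5
      exact h5
    · simp
  have h3 : ∑ g, κ g * (n : ℂ) = (Nat.card G : ℂ) * n := by
    have h4 := Blocks.Orthogonality.sum_kernel_mul (principalBlock M G)
      ⟨fun _ => 1, isIrrCharacter_one⟩ (y * t)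
    have hMp := isPrime_of_isPModular hM
    rw [if_pos Blocks.PrincipalSection.one_mem_principalBlock] at h4
    simp only [mul_one] at h4
    rw [← Finset.sum_mul]
    rw [← h4]
  have hG : (Nat.card G : ℂ) ≠ 0 := by exact_mod_cast Nat.card_pos.ne'
  -- values at `t`
  have hval : ∀ ζ : IrrCharacter G, ζ ∈ principalBlock M' G →
      (ζ : G → ℂ) (y * t) = (ζ : G → ℂ) t := by
    intro ζ hζ
    rw [hyt.eq]
    refine S0942.result q M' hM' t ht y ?_ ζ hζ
    exact ⟨⟨y, Subgroup.mem_centralizer_singleton_iff.2 hyt.eq.symm.symm⟩,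
      Blocks.PrincipalSection.mem_pPrimeCore_of_regular hnc
        (by rw [← Subgroup.orderOf_coe]; exact hqy), rfl⟩
  have h5 : ∑ ζ : IrrCharacter G, (if ζ ∈ principalBlock M' G ∧ ζ ∈ principalBlock M G then
      (ζ : G → ℂ) t * conj ((ζ : G → ℂ) t) else 0) = n := by
    have h6 : (Nat.card G : ℂ) * ∑ ζ : IrrCharacter G,
        (if ζ ∈ principalBlock M' G ∧ ζ ∈ principalBlock M G then
          (ζ : G → ℂ) t * conj ((ζ : G → ℂ) t) else 0) = (Nat.card G : ℂ) * n := by
      rw [← h3, ← Finset.sum_congr rfl fun g _ => h1 g, h2, Finset.mul_sum]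
      refine Finset.sum_congr rfl fun ζ _ => ?_
      by_cases hA : ζ ∈ principalBlock M' G <;> by_cases hB : ζ ∈ principalBlock M G
      · rw [if_pos ⟨hA, hB⟩, if_pos hA, if_pos hB, hval ζ hA]; ring
      · rw [if_neg (fun h => hB h.2), if_pos hA, if_neg hB]; ring
      · rw [if_neg (fun h => hA h.1), if_neg hA, mul_zero]
      · rw [if_neg (fun h => hA h.1), if_neg hA, mul_zero]
    exact mul_left_cancel₀ hG h6
  have h6 : ∑ ζ : IrrCharacter G, (if ζ ∈ principalBlock M' G then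
      (ζ : G → ℂ) t * conj ((ζ : G → ℂ) t) else 0) = n := by
    have h7 := sum_section_eq hM' ht hnc (Blocks.PPart.isPPart_of_isPGroup ht) (IsConj.refl t)
    rw [finsum_mem_eq_toFinset_sum] at h7
    rw [← h7, ← Finset.sum_filter]
    refine Finset.sum_congr ?_ fun ζ _ => rfl
    ext ζ
    simp
  by_contra hcon
  have h8 : (∑ ζ : IrrCharacter G, (if ζ ∈ principalBlock M' G then
      ‖(ζ : G → ℂ) t‖ ^ 2 else 0) : ℝ) = ∑ ζ : IrrCharacter G,
      (if ζ ∈ principalBlock M' G ∧ ζ ∈ principalBlock M G then ‖(ζ : G → ℂ) t‖ ^ 2 else 0) := by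
    have h9 : ((∑ ζ : IrrCharacter G, (if ζ ∈ principalBlock M' G then
        ‖(ζ : G → ℂ) t‖ ^ 2 else 0) : ℝ) : ℂ) = ((∑ ζ : IrrCharacter G,
        (if ζ ∈ principalBlock M' G ∧ ζ ∈ principalBlock M G then
          ‖(ζ : G → ℂ) t‖ ^ 2 else 0) : ℝ) : ℂ) := by
      rw [Complex.ofReal_sum, Complex.ofReal_sum]
      have h10 : ∀ ζ : IrrCharacter G, (((if ζ ∈ principalBlock M' G then
          ‖(ζ : G → ℂ) t‖ ^ 2 else 0 : ℝ)) : ℂ) = (if ζ ∈ principalBlock M' G then
          (ζ : G → ℂ) t * conj ((ζ : G → ℂ) t) else 0) := by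
        intro ζ
        split_ifs
        · rw [Complex.mul_conj, Complex.normSq_eq_norm_sq]
        · simp
      have h11 : ∀ ζ : IrrCharacter G, (((if ζ ∈ principalBlock M' G ∧ ζ ∈ principalBlock M G then
          ‖(ζ : G → ℂ) t‖ ^ 2 else 0 : ℝ)) : ℂ) =
          (if ζ ∈ principalBlock M' G ∧ ζ ∈ principalBlock M G then
          (ζ : G → ℂ) t * conj ((ζ : G → ℂ) t) else 0) := by
        intro ζ
        split_ifs
        · rw [Complex.mul_conj, Complex.normSq_eq_norm_sq]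
        · simp
      rw [Finset.sum_congr rfl fun ζ _ => h10 ζ, Finset.sum_congr rfl fun ζ _ => h11 ζ, h5, h6]
    exact_mod_cast h9
  have h12 : (∑ ζ : IrrCharacter G,
      (if ζ ∈ principalBlock M' G ∧ ζ ∈ principalBlock M G then ‖(ζ : G → ℂ) t‖ ^ 2 else 0) : ℝ) <
      ∑ ζ : IrrCharacter G, (if ζ ∈ principalBlock M' G then ‖(ζ : G → ℂ) t‖ ^ 2 else 0) := by
    refine Finset.sum_lt_sum (fun ζ _ => ?_) ⟨χ, Finset.mem_univ _, ?_⟩
    · by_cases hA : ζ ∈ principalBlock M' G <;> by_cases hB : ζ ∈ principalBlock M G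
      · rw [if_pos ⟨hA, hB⟩, if_pos hA]
      · rw [if_neg (fun h => hB h.2), if_pos hA]; positivity
      · rw [if_neg (fun h => hA h.1), if_neg hA]
      · rw [if_neg (fun h => hA h.1), if_neg hA]
    · rw [if_neg (fun h => hcon h.2), if_pos hχ]
      have : 0 < ‖(χ : G → ℂ) t‖ := norm_pos_iff.2 hχt
      positivity
  exact absurd h8.symm (ne_of_lt h12)

end Section

section Final

variable {G : Type*} [Group G] [Finite G]

/-- Block version of the vanishing of a class multiplication constant. -/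
theorem sum_block_eq_zero (M : Ideal AlgInt) {q : ℕ} [Fact q.Prime] (hM : IsPModular q M)
    (a t : G) (ha : a⁻¹ = a) (ht : ∃ k : ℕ, orderOf t = q ^ k)
    (hprod : ∀ i j z : G, IsConj a i → IsConj a j → IsPPart q (i * j) z → ¬ IsConj t z)
    (hfin : (principalBlock M G).Finite) :
    ∑ χ ∈ hfin.toFinset, (χ : G → ℂ) t * ((χ : G → ℂ) a ^ 2 / (χ : G → ℂ) 1) = 0 := by
  classical
  have hfin' : Finite (IrrCharacter G) := Characters.Core.finite_irr
  let _ : Fintype (IrrCharacter G) := Fintype.ofFinite _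
  let _ : Fintype G := Fintype.ofFinite G
  have hq : q.Prime := Fact.out
  set c : IrrCharacter G → ℂ := fun χ => (χ : G → ℂ) a ^ 2 / (χ : G → ℂ) 1 with hc
  set ϑ : G → ℂ := ∑ χ : IrrCharacter G, c χ • (χ : G → ℂ) with hϑ
  have hcf : IsClassFunction G ϑ := by
    intro g x
    simp only [hϑ, Finset.sum_apply, Pi.smul_apply]
    exact Finset.sum_congr rfl fun χ _ => by
      rw [Characters.Core.isIrr_isClassFunction χ.2 g x]
  have hB : IsPBlock M (principalBlock M G) := Blocks.PrincipalSection.isPBlock_principalBlock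
  have hvan : ∀ g z : G, IsPPart q g z → IsConj t z → ϑ g = 0 := by
    intro g z hgz huz
    have hno : IsEmpty {x : G × G // IsConj a x.1 ∧ IsConj a x.2 ∧ x.1 * x.2 = g} := by
      constructor
      rintro ⟨⟨x, y⟩, hx, hy, hxy⟩
      simp only at hx hy hxy
      exact hprod x y z hx hy (hxy ▸ hgz) huz
    have h1 := Cfsg.Agent.Characters.ClassMul.card_class_mul a a g
    rw [Nat.card_of_isEmpty, Nat.cast_zero] at h1
    have h2 : ∑ χ : IrrCharacter G,
        (χ : G → ℂ) a * (χ : G → ℂ) a * conj ((χ : G → ℂ) g) / (χ : G → ℂ) 1 = 0 := by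
      rcases mul_eq_zero.mp h1.symm with h | h
      · exfalso
        rw [div_eq_zero_iff, mul_self_eq_zero] at h
        rcases h with h | h
        · exact Subgroup.index_ne_zero_of_finite (H := Subgroup.centralizer ({a} : Set G))
            (by exact_mod_cast h)
        · exact Characters.Core.card_ne_zero_complex h
      · exact h
    have h3 : ϑ g = conj (∑ χ : IrrCharacter G,
        (χ : G → ℂ) a * (χ : G → ℂ) a * conj ((χ : G → ℂ) g) / (χ : G → ℂ) 1) := by
      simp only [hϑ, Finset.sum_apply, Pi.smul_apply, smul_eq_mul, map_sum]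
      refine Finset.sum_congr rfl fun χ _ => ?_
      have h4 : conj ((χ : G → ℂ) a) = (χ : G → ℂ) a := by
        rw [← Characters.Core.isCharacter_apply_inv (Characters.Core.isIrr_isCharacter χ.2), ha]
      have h5 : conj ((χ : G → ℂ) 1) = (χ : G → ℂ) 1 := by
        rw [← Characters.Core.isCharacter_apply_inv (Characters.Core.isIrr_isCharacter χ.2),
          inv_one]
      simp only [hc, map_div₀, map_mul, h4, h5, Complex.conj_conj]
      ring
    rw [h3, h2, map_zero]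
  have hu1 : ¬ q ∣ orderOf (1 : G) := by
    rw [orderOf_one]; exact hq.not_dvd_one
  have h6 := (Cfsg.Agent.S0925.result q M hM).1 ϑ hcf t ht hvan _ hB t t
    ⟨1, mul_one _, Commute.one_right _, ht, hu1⟩ (IsConj.refl t)
  have h7 : blockPart (principalBlock M G) ϑ t =
      ∑ᶠ χ ∈ principalBlock M G, classInner ϑ (χ : G → ℂ) * (χ : G → ℂ) t := rfl
  rw [h7, finsum_mem_eq_finite_toFinset_sum _ hfin] at h6
  rw [← h6]
  refine Finset.sum_congr rfl fun χ _ => ?_
  rw [hϑ, Characters.Core.classInner_sum_smul_irr]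
  simp only [hc]
  ring

/-- The sum of `|χ(a)|²` over the principal `q`-block is at most `|C(a) : O_{q'}(C(a))|`. -/
theorem sum_norm_sq_le (M : Ideal AlgInt) {q : ℕ} [Fact q.Prime] (hM : IsPModular q M)
    (a : G) (ha : ∃ k : ℕ, orderOf a = q ^ k) (hfin : (principalBlock M G).Finite) :
    ∑ χ ∈ hfin.toFinset, ‖(χ : G → ℂ) a‖ ^ 2 ≤
      ((pPrimeCore q (Subgroup.centralizer ({a} : Set G))).index : ℝ) := by
  classical
  have hq : q.Prime := Fact.out
  have h1 := Blocks.PrincipalSection.sum_principalBlock_section hM a ha rfl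
    (1 : Subgroup.centralizer ({a} : Set G)) 1
    (by rw [orderOf_one]; exact hq.not_dvd_one) (by rw [orderOf_one]; exact hq.not_dvd_one)
  set K := Subgroup.centralizer ({a} : Set G) with hK
  have : Finite (IrrCharacter K) := Characters.Core.finite_irr
  let _ : Fintype (IrrCharacter K) := Fintype.ofFinite _
  let _ : Fintype K := Fintype.ofFinite K
  have hN : (pPrimeCore q K).Normal := Lib.Cores.pPrimeCore_normal q
  have hNp : ¬ q ∣ Nat.card (pPrimeCore q K) :=
    (Nat.Prime.coprime_iff_not_dvd hq).1 (Lib.Cores.pPrimeCore_coprime q).symm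
  have h2 : ∑ᶠ ζ ∈ principalBlock M G, (ζ : G → ℂ) (a * ((1 : K) : G)) *
      conj ((ζ : G → ℂ) (a * ((1 : K) : G))) =
      ((∑ χ ∈ hfin.toFinset, ‖(χ : G → ℂ) a‖ ^ 2 : ℝ) : ℂ) := by
    rw [finsum_mem_eq_finite_toFinset_sum _ hfin, Complex.ofReal_sum]
    refine Finset.sum_congr rfl fun χ _ => ?_
    rw [Subgroup.coe_one, mul_one, Complex.mul_conj, Complex.normSq_eq_norm_sq]
  have h3 : ∑ᶠ ξ ∈ principalBlock M K, (ξ : K → ℂ) 1 * conj ((ξ : K → ℂ) 1) =
      ((∑ ξ : IrrCharacter K with ξ ∈ principalBlock M K, charDegree (ξ : K → ℂ) ^ 2 : ℕ) : ℂ) := by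
    rw [finsum_mem_eq_toFinset_sum]
    push_cast
    refine Finset.sum_congr ?_ fun ξ _ => ?_
    · ext ξ
      simp
    · rw [irr_one_eq_charDegree ξ.2, Complex.conj_natCast, sq]
  rw [h2, h3] at h1
  have h4 : (∑ χ ∈ hfin.toFinset, ‖(χ : G → ℂ) a‖ ^ 2 : ℝ) =
      ((∑ ξ : IrrCharacter K with ξ ∈ principalBlock M K, charDegree (ξ : K → ℂ) ^ 2 : ℕ) : ℝ) := by
    exact_mod_cast h1
  rw [h4]
  norm_cast
  have h5 := Blocks.PrincipalKernel.sum_sq_degrees (pPrimeCore q K)
  rw [← h5]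
  refine Finset.sum_le_sum_of_subset ?_
  intro ξ hξ
  rw [Finset.mem_filter] at hξ ⊢
  exact ⟨hξ.1, fun n hn => Blocks.PrincipalKernel.principalBlock_apply_eq hM hNp hξ.2 hn⟩

/-- In a nonabelian simple group `χ a ≠ χ 1` for `χ ≠ 1`, `a ≠ 1`. -/
theorem apply_ne_one [IsSimpleGroup G] {a : G} (ha : a ≠ 1) {χ : IrrCharacter G}
    (hχ : (χ : G → ℂ) ≠ fun _ => 1) : (χ : G → ℂ) a ≠ (χ : G → ℂ) 1 := by
  intro h
  obtain ⟨K, hK, hmem⟩ := Blocks.BlockKer.exists_kernel χ.2
  have h1 : a ∈ K := (hmem a).2 h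
  rcases hK.eq_bot_or_eq_top with h2 | h2
  · rw [h2, Subgroup.mem_bot] at h1
    exact ha h1
  · apply hχ
    have h3 : ∀ g, (χ : G → ℂ) g = (χ : G → ℂ) 1 := fun g => (hmem g).1 (h2 ▸ Subgroup.mem_top g)
    have hfin : Finite (IrrCharacter G) := Characters.Core.finite_irr
    let _ : Fintype G := Fintype.ofFinite G
    by_contra hne
    have hne' : (χ : G → ℂ) ≠ (1 : G → ℂ) := fun h => hne h
    have h4 := Characters.Core.classInner_irr_ne χ.2 Characters.Core.isIrr_one hne'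
    have h5 : classInner (χ : G → ℂ) (1 : G → ℂ) = (χ : G → ℂ) 1 := by
      unfold classInner
      rw [Finset.sum_congr rfl fun g _ => by
        rw [h3 g, Pi.one_apply, map_one, mul_one]]
      rw [Finset.sum_const, Finset.card_univ, nsmul_eq_mul, ← Nat.card_eq_fintype_card]
      have : (Nat.card G : ℂ) ≠ 0 := Characters.Core.card_ne_zero_complex
      field_simp
    rw [h5] at h4
    exact irr_one_ne_zero χ.2 h4

end Final

section Main

variable {G : Type*} [Group G] [Finite G]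

omit [Finite G] in
/-- An element `a` with `C(y) ≤ C(a)`, of order prime to `p`, lies in `O_{p'}(C(y))`. -/
theorem mem_centralizerPPrimeCore {p : ℕ} [Fact p.Prime] {a y : G} (hay : Commute y a)
    (hpa : (orderOf a).Coprime p)
    (hC : Subgroup.centralizer ({y} : Set G) ≤ Subgroup.centralizer ({a} : Set G)) :
    a ∈ centralizerPPrimeCore p y := by
  set K := Subgroup.centralizer ({y} : Set G) with hK
  have haK : a ∈ K := Subgroup.mem_centralizer_singleton_iff.2 hay.eq.symm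
  have hn : (Subgroup.zpowers (⟨a, haK⟩ : K)).Normal := by
    refine Subgroup.Normal.mk fun x hx g => ?_
    obtain ⟨n, rfl⟩ := hx
    have h1 : Commute g (⟨a, haK⟩ : K) := by
      apply Subtype.ext
      exact Subgroup.mem_centralizer_singleton_iff.1 (hC g.2)
    have h2 : g * (⟨a, haK⟩ : K) ^ n * g⁻¹ = (⟨a, haK⟩ : K) ^ n := by
      rw [(h1.zpow_right n).eq, mul_assoc, mul_inv_cancel, mul_one]
    exact ⟨n, h2.symm⟩
  have h3 : Subgroup.zpowers (⟨a, haK⟩ : K) ≤ pPrimeCore p K := by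
    apply Lib.Cores.le_pPrimeCore hn
    rw [Nat.card_zpowers, ← Subgroup.orderOf_coe]
    exact hpa
  exact ⟨⟨a, haK⟩, h3 (Subgroup.mem_zpowers _), rfl⟩

/-- Congruence of the degree. -/
theorem le_of_mem {p : ℕ} [Fact p.Prime] (hp2 : p ≠ 2) [IsSimpleGroup G]
    {M M' : Ideal AlgInt} (hM : IsPModular p M) (hM' : IsPModular 2 M') {a : G}
    (ha : orderOf a = 2) {D : Subgroup G} (hDp : IsPGroup p D) (hD81 : 81 ≤ Nat.card D)
    (hDa : D ≤ centralizerPPrimeCore 2 a)
    (hDC : ∀ y ∈ D, y ≠ 1 →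
      Subgroup.centralizer ({y} : Set G) ≤ Subgroup.centralizer ({a} : Set G))
    {χ : IrrCharacter G} (hmod : ∃ k : ℤ, (χ : G → ℂ) 1 - (χ : G → ℂ) a = 16 * k)
    (hχ : χ ∈ principalBlock M G) (hχ' : χ ∈ principalBlock M' G)
    (hχ1 : (χ : G → ℂ) ≠ fun _ => 1) :
    ∃ d : ℕ, (χ : G → ℂ) 1 = d ∧ ∃ u : ℤ, (χ : G → ℂ) a = u ∧ u + 1296 ≤ d := by
  classical
  have : Fact (Nat.Prime 2) := ⟨Nat.prime_two⟩
  have hp : p.Prime := Fact.out
  let _ : Fintype D := Fintype.ofFinite D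
  obtain ⟨d, hd0, hd⟩ := Characters.Core.isIrr_apply_one χ.2
  obtain ⟨k, hk⟩ := hmod
  have ha1 : a ≠ 1 := by
    rintro rfl
    simp at ha
  have hau : (χ : G → ℂ) a = ((d - 16 * k : ℤ) : ℂ) := by
    push_cast
    rw [← hd, ← hk]; ring
  refine ⟨d, hd, d - 16 * k, hau, ?_⟩
  -- values on `D`
  have hval : ∀ y ∈ D, y ≠ 1 → (χ : G → ℂ) y = (χ : G → ℂ) a := by
    intro y hy hy1
    have h1 : (χ : G → ℂ) (a * y) = (χ : G → ℂ) a :=
      S0942.result 2 M' hM' a ⟨1, by rw [ha, pow_one]⟩ y (hDa hy) χ hχ'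
    have hya : Commute y a := by
      obtain ⟨m, -, hm⟩ := hDa hy
      rw [← hm]
      exact Subgroup.mem_centralizer_singleton_iff.1 m.2
    have h2 : (χ : G → ℂ) (y * a) = (χ : G → ℂ) y := by
      refine S0942.result p M hM y ?_ a (mem_centralizerPPrimeCore hya ?_ (hDC y hy hy1)) χ hχ
      · obtain ⟨m, hm⟩ := (IsPGroup.iff_orderOf.1 hDp) ⟨y, hy⟩
        exact ⟨m, by rw [← hm, ← Subgroup.orderOf_coe]⟩
      · rw [ha]
        exact (Nat.coprime_primes Nat.prime_two hp).2 hp2.symm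
    rw [← h2, hya.eq, h1]
  -- the inner product with the trivial character of `D`
  obtain ⟨n, hn⟩ := Characters.Core.classInner_isNat
    (Characters.Core.isCharacter_comp D.subtype (Characters.Core.isIrr_isCharacter χ.2))
    (Characters.Core.isCharacter_one (G := D))
  have hDne : (Nat.card D : ℂ) ≠ 0 := Characters.Core.card_ne_zero_complex
  have h3 : ((χ : G → ℂ) 1 + ((Nat.card D : ℂ) - 1) * (χ : G → ℂ) a) = (Nat.card D : ℂ) * n := by
    rw [← hn]
    unfold classInner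
    rw [mul_inv_cancel_left₀ hDne]
    have h4 : ∀ x : D, ((χ : G → ℂ) ∘ D.subtype) x * conj ((1 : D → ℂ) x) =
        (if x = 1 then ((χ : G → ℂ) 1 - (χ : G → ℂ) a) else 0) + (χ : G → ℂ) a := by
      intro x
      rw [Pi.one_apply, map_one, mul_one, Function.comp_apply]
      split_ifs with hx
      · rw [hx]; simp
      · rw [zero_add]
        exact hval _ x.2 (fun h => hx (Subtype.ext h))
    rw [Finset.sum_congr rfl fun x _ => h4 x, Finset.sum_add_distrib, Finset.sum_ite_eq',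
      if_pos (Finset.mem_univ _), Finset.sum_const, Finset.card_univ, nsmul_eq_mul,
      ← Nat.card_eq_fintype_card]
    ring
  have h5 : (Nat.card D : ℤ) ∣ 16 * k := by
    have h6 : ((d : ℤ) + ((Nat.card D : ℤ) - 1) * (d - 16 * k)) = (Nat.card D : ℤ) * n := by
      rw [hd, hau] at h3
      exact_mod_cast h3
    refine ⟨n - d + 16 * k, ?_⟩
    linear_combination h6
  have hodd : IsCoprime (Nat.card D : ℤ) 16 := by
    obtain ⟨m, hm⟩ := IsPGroup.iff_card.1 hDp
    rw [hm]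
    have h7 : Nat.Coprime (p ^ m) (2 ^ 4) :=
      Nat.Coprime.pow _ _ ((Nat.coprime_primes hp Nat.prime_two).2 hp2)
    exact_mod_cast Nat.isCoprime_iff_coprime.2 h7
  have h6 : (Nat.card D : ℤ) ∣ k := hodd.dvd_of_dvd_mul_left h5
  have hk0 : k ≠ 0 := by
    rintro rfl
    apply apply_ne_one ha1 hχ1
    rw [hau, hd]; simp
  have hkpos : 0 ≤ k := by
    obtain ⟨m, ρ, hρ, hρ'⟩ := χ.2
    have h8 := Characters.Values.norm_character_le ρ a
    rw [hρ'] at h8
    have h9 : (Module.finrank ℂ (Fin m → ℂ) : ℂ) = d := by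
      rw [← hd, ← hρ', Representation.char_one]
    have h10 : (Module.finrank ℂ (Fin m → ℂ) : ℝ) = d := by exact_mod_cast h9
    rw [h10, hau, Complex.norm_intCast] at h8
    have h11 : |((d - 16 * k : ℤ) : ℝ)| ≤ d := h8
    have h12 := (abs_le.1 h11).2
    have h13 : (d - 16 * k : ℤ) ≤ d := by exact_mod_cast h12
    omega
  have h8 : (Nat.card D : ℤ) ≤ k := Int.le_of_dvd (by omega) h6
  have h9 : (81 : ℤ) ≤ Nat.card D := by exact_mod_cast hD81
  omega

open Classical in
/-- **The contradiction in type Z.** -/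
theorem z5 [IsSimpleGroup G] (p : ℕ) [Fact p.Prime] (hp2 : p ≠ 2) (a t : G)
    (ha : orderOf a = 2) (ht : ∃ k : ℕ, orderOf t = 2 ^ k)
    (hCt : (pPrimeCore 2 (Subgroup.centralizer ({t} : Set G))).index = 16)
    (hCa : (pPrimeCore 2 (Subgroup.centralizer ({a} : Set G))).index ≤ 320)
    (hmod : ∀ χ : IrrCharacter G, ∃ k : ℤ, (χ : G → ℂ) 1 - (χ : G → ℂ) a = 16 * k)
    (hprod : ∀ i j z : G, IsConj a i → IsConj a j → IsPPart 2 (i * j) z → ¬ IsConj t z)
    (D : Subgroup G) (hDp : IsPGroup p D) (hD81 : 81 ≤ Nat.card D)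
    (hDa : D ≤ centralizerPPrimeCore 2 a)
    (hDC : ∀ y ∈ D, y ≠ 1 →
      Subgroup.centralizer ({y} : Set G) ≤ Subgroup.centralizer ({a} : Set G))
    (y : G) (hyD : y ∈ D) (hyt : Commute y t)
    (hsol : IsPSolvable p (Subgroup.centralizer ({y} : Set G)))
    (hK : ∀ k ∈ centralizerPPrimeCore p y, ∃ z, IsPPart 2 (t * k) z ∧ IsConj t z) : False := by
  have : Fact (Nat.Prime 2) := ⟨Nat.prime_two⟩
  have hp : p.Prime := Fact.out
  have hfinI : Finite (IrrCharacter G) := Characters.Core.finite_irr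
  obtain ⟨M, hM⟩ := Blocks.ExistsModular.exists_isPModular hp
  obtain ⟨M', hM'⟩ := Blocks.ExistsModular.exists_isPModular Nat.prime_two
  have hMp' := isPrime_of_isPModular hM'
  have hfin : (principalBlock M' G).Finite := Set.toFinite _
  have hyp : ∃ k : ℕ, orderOf y = p ^ k := by
    obtain ⟨m, hm⟩ := (IsPGroup.iff_orderOf.1 hDp) ⟨y, hyD⟩
    exact ⟨m, by rw [← hm, ← Subgroup.orderOf_coe]⟩
  have hnc : ∃ k : ℕ, (pPrimeCore 2 (Subgroup.centralizer ({t} : Set G))).index = 2 ^ k :=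
    ⟨4, by rw [hCt]; norm_num⟩
  have ha2 : a⁻¹ = a := by
    have h := pow_orderOf_eq_one a
    rw [ha, sq] at h
    exact inv_eq_of_mul_eq_one_left h
  set one : IrrCharacter G := ⟨fun _ => 1, isIrrCharacter_one⟩ with hone
  have hone_mem : one ∈ hfin.toFinset := by
    rw [Set.Finite.mem_toFinset]
    exact Blocks.PrincipalSection.one_mem_principalBlock
  set B : Finset (IrrCharacter G) := hfin.toFinset.erase one with hB
  -- sums
  have hS1 := sum_block_eq_zero M' hM' a t ha2 ht hprod hfin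
  rw [← Finset.add_sum_erase _ _ hone_mem] at hS1
  have h1 : (one : G → ℂ) t * ((one : G → ℂ) a ^ 2 / (one : G → ℂ) 1) = 1 := by
    simp [hone]
  rw [h1] at hS1
  have hS2 : ∑ χ ∈ B, ‖(χ : G → ℂ) t‖ ^ 2 = 15 := by
    have h2 := sum_section_eq hM' ht hnc (Blocks.PPart.isPPart_of_isPGroup ht) (IsConj.refl t)
    rw [finsum_mem_eq_finite_toFinset_sum _ hfin, ← Finset.add_sum_erase _ _ hone_mem, hCt] at h2
    have h3 : (one : G → ℂ) t * conj ((one : G → ℂ) t) = 1 := by simp [hone]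
    rw [h3] at h2
    have h4 : ((∑ χ ∈ B, ‖(χ : G → ℂ) t‖ ^ 2 : ℝ) : ℂ) = 15 := by
      rw [Complex.ofReal_sum]
      have h5 : ∑ χ ∈ B, ((‖(χ : G → ℂ) t‖ ^ 2 : ℝ) : ℂ) =
          ∑ χ ∈ B, (χ : G → ℂ) t * conj ((χ : G → ℂ) t) := by
        refine Finset.sum_congr rfl fun χ _ => ?_
        rw [Complex.mul_conj, Complex.normSq_eq_norm_sq]
      rw [h5]
      linear_combination h2
    exact_mod_cast h4
  have hS3 : ∑ χ ∈ B, ‖(χ : G → ℂ) a‖ ^ 2 ≤ 319 := by
    have h2 := sum_norm_sq_le M' hM' a ⟨1, by rw [ha, pow_one]⟩ hfin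
    rw [← Finset.add_sum_erase _ _ hone_mem] at h2
    have h3 : ‖(one : G → ℂ) a‖ ^ 2 = 1 := by simp [hone]
    rw [h3] at h2
    have h4 : ((pPrimeCore 2 (Subgroup.centralizer ({a} : Set G))).index : ℝ) ≤ 320 := by
      exact_mod_cast hCa
    linarith
  -- the terms
  have hterm : ∀ χ ∈ B, ‖(χ : G → ℂ) t * ((χ : G → ℂ) a ^ 2 / (χ : G → ℂ) 1)‖ ≤
      (31 / 8 / 1278) * ‖(χ : G → ℂ) a‖ ^ 2 := by
    intro χ hχ
    have hχ1 : (χ : G → ℂ) ≠ fun _ => 1 := by
      intro h
      exact (Finset.mem_erase.1 hχ).1 (Subtype.ext h)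
    have hχB : χ ∈ principalBlock M' G := (Set.Finite.mem_toFinset _).1 (Finset.mem_erase.1 hχ).2
    by_cases h0 : (χ : G → ℂ) t = 0
    · rw [h0, zero_mul, norm_zero]
      positivity
    · have hχM := mem_principalBlock_of_ne_zero hp2 hM hM' ht hyp hyt hnc hsol hK hχB h0
      obtain ⟨d, hd, u, hu, hud⟩ := le_of_mem hp2 hM hM' ha hDp hD81 hDa hDC (hmod χ) hχM hχB hχ1
      have h2 : ‖(χ : G → ℂ) t‖ ^ 2 ≤ 15 := by
        rw [← hS2]
        exact Finset.single_le_sum (f := fun χ : IrrCharacter G => ‖(χ : G → ℂ) t‖ ^ 2)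
          (fun ψ _ => by positivity) hχ
      have h3 : ‖(χ : G → ℂ) a‖ ^ 2 ≤ 319 := by
        refine le_trans ?_ hS3
        exact Finset.single_le_sum (f := fun χ : IrrCharacter G => ‖(χ : G → ℂ) a‖ ^ 2)
          (fun ψ _ => by positivity) hχ
      have h4 : ‖(χ : G → ℂ) t‖ ≤ 31 / 8 := by
        nlinarith [norm_nonneg ((χ : G → ℂ) t)]
      have h5 : -18 ≤ u := by
        have h6 : ‖(χ : G → ℂ) a‖ = |(u : ℝ)| := by
          rw [hu, Complex.norm_intCast]
        rw [h6, sq_abs] at h3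
        have h7 : u ^ 2 ≤ 319 := by exact_mod_cast h3
        nlinarith
      have h6 : (1278 : ℝ) ≤ d := by
        have : (1278 : ℤ) ≤ d := by omega
        exact_mod_cast this
      rw [norm_mul, norm_div, norm_pow, hd, Complex.norm_natCast]
      have h7 : ‖(χ : G → ℂ) a‖ ^ 2 / (d : ℝ) ≤ ‖(χ : G → ℂ) a‖ ^ 2 / 1278 :=
        div_le_div_of_nonneg_left (by positivity) (by norm_num) h6
      calc ‖(χ : G → ℂ) t‖ * (‖(χ : G → ℂ) a‖ ^ 2 / (d : ℝ)) ≤
          (31 / 8) * (‖(χ : G → ℂ) a‖ ^ 2 / 1278) :=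
            mul_le_mul h4 h7 (by positivity) (by norm_num)
        _ = (31 / 8 / 1278) * ‖(χ : G → ℂ) a‖ ^ 2 := by ring
  have h8 : ∑ χ ∈ B, (χ : G → ℂ) t * ((χ : G → ℂ) a ^ 2 / (χ : G → ℂ) 1) = -1 := by
    linear_combination hS1
  have h9 : ‖∑ χ ∈ B, (χ : G → ℂ) t * ((χ : G → ℂ) a ^ 2 / (χ : G → ℂ) 1)‖ ≤
      (31 / 8 / 1278) * 319 := by
    refine (norm_sum_le _ _).trans ((Finset.sum_le_sum hterm).trans ?_)
    rw [← Finset.mul_sum]
    exact mul_le_mul_of_nonneg_left hS3 (by norm_num)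
  rw [h8, norm_neg, norm_one] at h9
  norm_num at h9

end Main

end Cfsg.Agent.TwoFusion.GoldM1Char
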