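import Mathlib
import Cfsg.Agent.TwoFusion.GoldM1Defs
import Cfsg.Agent.TwoFusion.GoldM1Tr
import Cfsg.Agent.TwoFusion.GoldM1Char
import Cfsg.Agent.Blocks.SylowColumns
import Cfsg.Agent.Characters.Linear
import Cfsg.Agent.Lib.LocalCore
import Cfsg.Agent.OddOrderLocal.TypeFData
import Cfsg.Agent.OddOrderLocal.FreeCyclic
import Cfsg.Agent.OddOrderLocal.TypeITrich

/-!
# Case [M1] of Goldschmidt's theorem: the input of the character argument

`Frame.z5_false`: in the local frame of [M1] there are no odd prime `p` and nontrivial `p`-subgroup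
`D` normalised by `C(a)`, inverted by some `b ∈ A`, with `C(y) ≤ C(a)` for all `y ∈ D`, `y ≠ 1`.
-/

set_option autoImplicit false
set_option linter.unusedSectionVars false

namespace Cfsg.Agent.TwoFusion.GoldM1

open Subgroup
open Cfsg.Agent.Classification.TypeB.Core (oc oc_le odd_oc normalizer_le_oc le_normalizer_oc le_oc
  odd_of_isPGroup)
open Cfsg.Agent.Classification.TypeB.Basic (IsInv mem_normalizer_of_conj le_of_four odd_of_le
  conj_mem_of_mem_normalizer)

section general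

variable {K : Type*} [Group K] [Finite K]

theorem exists_mul_of_mem_sup {A B : Subgroup K} (hAB : A ≤ normalizer (B : Set K)) {x : K}
    (hx : x ∈ B ⊔ A) : ∃ a ∈ A, ∃ b ∈ B, a * b = x := by
  rw [sup_comm] at hx
  have hx' : x ∈ ((A ⊔ B : Subgroup K) : Set K) := hx
  rw [Subgroup.coe_mul_of_left_le_normalizer_right A B hAB] at hx'
  obtain ⟨a, ha, b, hb, rfl⟩ := hx'
  exact ⟨a, ha, b, hb, rfl⟩

/-- The `p`-parts of the elements of `t N`, `N` a normal `p'`-subgroup, `t` a `p`-element, are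
conjugate to `t`. -/
theorem isConj_of_isPPart {p : ℕ} [hp : Fact p.Prime] {N : Subgroup K} [hN : N.Normal]
    (hNp : ¬ p ∣ Nat.card N) {t n z : K} (ht : ∃ k : ℕ, orderOf t = p ^ k) (hn : n ∈ N)
    (hz : IsPPart p (t * n) z) : IsConj t z := by
  classical
  obtain ⟨w, hw1, hw2, ⟨kz, hkz⟩, hw4⟩ := hz
  obtain ⟨kt, hkt⟩ := ht
  let π := QuotientGroup.mk' N
  have hπt : π (t * n) = π t := by
    rw [map_mul]
    have : π n = 1 := (QuotientGroup.eq_one_iff n).2 hn
    rw [this, mul_one]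
  -- `π z = π t`
  have hpp1 : IsPPart p (π (t * n)) (π z) := by
    refine ⟨π w, by rw [← map_mul, hw1], hw2.map π, ?_, ?_⟩
    · have h1 : orderOf (π z) ∣ p ^ kz := hkz ▸ orderOf_map_dvd π z
      obtain ⟨k, -, hk⟩ := (Nat.dvd_prime_pow hp.out).1 h1
      exact ⟨k, hk⟩
    · intro h
      exact hw4 (h.trans (orderOf_map_dvd π w))
  have hpp2 : IsPPart p (π (t * n)) (π t) := by
    rw [hπt]
    apply Blocks.PPart.isPPart_of_isPGroup
    have h1 : orderOf (π t) ∣ p ^ kt := hkt ▸ orderOf_map_dvd π t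
    obtain ⟨k, -, hk⟩ := (Nat.dvd_prime_pow hp.out).1 h1
    exact ⟨k, hk⟩
  have hzt : π z = π t := Blocks.PPart.isPPart_unique hpp1 hpp2
  -- the subgroup `H = <t> N`
  set H : Subgroup K := zpowers t ⊔ N with hH
  have htH : t ∈ H := (le_sup_left : zpowers t ≤ H) (mem_zpowers t)
  have hNH : N ≤ H := le_sup_right
  have hzH : z ∈ H := by
    have h1 : z = t * (t⁻¹ * z) := by group
    rw [h1]
    refine mul_mem htH (hNH ?_)
    rw [← QuotientGroup.eq]
    exact hzt.symm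
  have hcop : (Nat.card (zpowers t)).Coprime (Nat.card N) := by
    rw [Nat.card_zpowers, hkt]
    exact ((Nat.Prime.coprime_iff_not_dvd hp.out).2 hNp).pow_left kt
  have hcard := Lib.LocalCore.card_sup_of_coprime (zpowers t) N hcop
  have hrel : (zpowers t).relIndex H = Nat.card N := by
    have h1 := Subgroup.relIndex_mul_relIndex (⊥ : Subgroup K) (zpowers t) H bot_le le_sup_left
    rw [relIndex_bot_left, relIndex_bot_left, hcard] at h1
    exact Nat.eq_of_mul_eq_mul_left Nat.card_pos h1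
  obtain ⟨h, hhH, hh⟩ := OddOrderLocal.TypeFData.exists_conj_mem_of_not_dvd_relIndex
    (p := p) (M := H) (W := zpowers t) (by rw [hrel]; exact hNp) hzH
    (IsPGroup.of_card (n := kz) (by rw [Nat.card_zpowers, hkz]))
  -- `h z h⁻¹ = t`
  obtain ⟨m, hm⟩ := hh
  have hm : t ^ m = h * z * h⁻¹ := hm
  have hπH : ∀ x ∈ H, Commute (π x) (π t) := by
    intro x hx
    rw [← SetLike.mem_coe, hH, Subgroup.coe_mul_of_left_le_normalizer_right _ _
      (by rw [normalizer_eq_top]; exact le_top)] at hx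
    obtain ⟨y, ⟨i, hi⟩, n', hn', rfl⟩ := hx
    have hi : t ^ i = y := hi
    have h1 : π n' = 1 := (QuotientGroup.eq_one_iff n').2 hn'
    rw [map_mul, h1, mul_one, ← hi, map_zpow]
    exact (Commute.refl _).zpow_left i
  have h1 : π (t ^ m) = π t := by
    rw [hm, map_mul, map_mul, map_inv, hzt, (hπH h hhH).eq, mul_assoc, mul_inv_cancel, mul_one]
  have h2 : t ^ m * t⁻¹ ∈ N ⊓ zpowers t := by
    refine mem_inf.2 ⟨?_, mul_mem ⟨m, rfl⟩ (inv_mem (mem_zpowers t))⟩
    rw [← QuotientGroup.eq_one_iff]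
    have : (QuotientGroup.mk (t ^ m * t⁻¹) : K ⧸ N) = π (t ^ m) * (π t)⁻¹ := rfl
    rw [this, h1, mul_inv_cancel]
  rw [(disjoint_of_coprime_natCard hcop.symm).eq_bot, mem_bot] at h2
  have h3 : t ^ m = t := mul_inv_eq_one.1 h2
  refine isConj_iff.2 ⟨h⁻¹, ?_⟩
  rw [← h3, hm]; group

/-- `N` normalised by `K`: the relative index of `N` in `N K`. -/
theorem relIndex_sup_of_le_normalizer {N L : Subgroup K} (h : L ≤ normalizer (N : Set K)) :
    N.relIndex (N ⊔ L) = N.relIndex L := by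
  have hN : N ≤ normalizer (N : Set K) := le_normalizer
  have hsup : N ⊔ L ≤ normalizer (N : Set K) := sup_le hN h
  rw [← relIndex_subgroupOf (H := N) hsup, ← relIndex_subgroupOf (H := N) h,
    subgroupOf_sup hN h, relIndex_sup_left]

theorem le_normalizer_sup' {L X Y : Subgroup K} (hX : L ≤ normalizer (X : Set K))
    (hY : L ≤ normalizer (Y : Set K)) : L ≤ normalizer ((X ⊔ Y : Subgroup K) : Set K) :=
  (le_inf hX hY).trans (normalizer_inf_normalizer_le_normalizer_sup X Y)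

/-- extensions of solvable subgroups by groups of prime power order -/
theorem isSolvable_of_relIndex {N X : Subgroup K} (hNX : N ≤ X) (hn : X ≤ normalizer (N : Set K))
    (hs : Group.IsSolvable N) {p k : ℕ} (hp : p.Prime) (hk : N.relIndex X = p ^ k) :
    Group.IsSolvable X := by
  have : Fact p.Prime := ⟨hp⟩
  have h1 : (N.subgroupOf X).Normal := (normal_subgroupOf_iff_le_normalizer hNX).2 hn
  have h2 : IsPGroup p (X ⧸ N.subgroupOf X) := IsPGroup.of_card (n := k) hk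
  have h3 : Group.IsNilpotent (X ⧸ N.subgroupOf X) := h2.isNilpotent
  have h4 : Group.IsSolvable (X ⧸ N.subgroupOf X) := inferInstance
  have h5 : Group.IsSolvable (N.subgroupOf X) := by
    have e := subgroupOfEquivOfLe hNX
    exact Group.isSolvable_of_surjective (f := e.symm.toMonoidHom) e.symm.surjective
  exact Group.isSolvable_of_ker_le_range (N.subgroupOf X).subtype (QuotientGroup.mk' (N.subgroupOf X))
    (by rw [QuotientGroup.ker_mk', range_subtype])

end general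

section coe

variable {G : Type*} [Group G]

theorem mem_centralizer_coe {H : Subgroup G} {X : Subgroup H} {g : H}
    (h : ∀ x ∈ X, (g : G) * x = x * g) : g ∈ centralizer (X : Set H) := by
  rw [mem_centralizer_iff]
  intro x hx
  exact Subtype.ext (h x hx).symm

end coe

section frame

variable {G : Type*} [Group G] [Finite G] {S A : Subgroup G} {g0 : G}

namespace Frame

variable (F : Frame S A g0)
include F

theorem exists_ne_A {a : G} (ha : a ∈ A) (ha1 : a ≠ 1) : ∃ b ∈ A, b ≠ 1 ∧ b ≠ a ∧ a * b ≠ 1 ∧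
    ∀ x ∈ A, x = 1 ∨ x = a ∨ x = b ∨ x = a * b := by
  refine ⟨g0 * a * g0⁻¹, F.g0A a ha, F.g0_conj_ne_one ha1, F.g0_conj_ne ha ha1, ?_,
    fun x hx => F.mem_A_cases ha ha1 hx⟩
  intro h
  apply F.g0_conj_ne ha ha1
  have h1 : a⁻¹ = a := inv_eq_of_mul_eq_one_left (F.sq a ha)
  rw [← inv_eq_of_mul_eq_one_right h]
  exact h1

theorem inv_eq {x : G} (hx : x ∈ A) : x⁻¹ = x := inv_eq_of_mul_eq_one_left (F.sq x hx)

/-- the commutator map `u ↦ [s, u]` on `S`. -/
noncomputable def cm {s : G} (hs : s ∈ S) : S →* A where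
  toFun u := ⟨s * u * s⁻¹ * (u : G)⁻¹, F.comm s hs u u.2⟩
  map_one' := by
    apply Subtype.ext
    simp
  map_mul' u v := by
    apply Subtype.ext
    show s * ((u : G) * v) * s⁻¹ * ((u : G) * v)⁻¹ =
      (s * u * s⁻¹ * (u : G)⁻¹) * (s * v * s⁻¹ * (v : G)⁻¹)
    have h1 := F.cen _ (F.comm s hs v v.2) u u.2
    calc s * ((u : G) * v) * s⁻¹ * ((u : G) * v)⁻¹ =
        (s * u * s⁻¹) * ((s * v * s⁻¹ * (v : G)⁻¹) * (u : G)⁻¹) := by group
      _ = (s * u * s⁻¹ * (u : G)⁻¹) * ((u : G) * (s * v * s⁻¹ * (v : G)⁻¹)) * (u : G)⁻¹ := by group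
      _ = (s * u * s⁻¹ * (u : G)⁻¹) * ((s * v * s⁻¹ * (v : G)⁻¹) * (u : G)) * (u : G)⁻¹ := by rw [h1]
      _ = _ := by group

theorem cm_apply {s : G} (hs : s ∈ S) (u : S) : (F.cm hs u : G) = s * u * s⁻¹ * (u : G)⁻¹ := rfl

theorem cm_surj {s : G} (hs : s ∈ S) (hsA : s ∉ A) : Function.Surjective (F.cm hs) := by
  rintro ⟨x, hx⟩
  obtain ⟨u, hu, hu'⟩ := F.surj s hs hsA x hx
  exact ⟨⟨u, hu⟩, Subtype.ext hu'⟩

/-- `s * s ∈ A` for `s ∈ S`. -/
theorem sq_mem {s : G} (hs : s ∈ S) : s * s ∈ A := by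
  by_contra hcon
  obtain ⟨x, hx, hx1⟩ : ∃ x ∈ A, x ≠ 1 := by
    by_contra h
    push Not at h
    have : Nat.card A = 1 := by
      rw [Subgroup.card_eq_one, eq_bot_iff]
      intro x hx
      exact mem_bot.2 (h x hx)
    rw [F.cardA] at this
    norm_num at this
  obtain ⟨u, hu, hu'⟩ := F.surj (s * s) (mul_mem hs hs) hcon x hx
  apply hx1
  rw [← hu']
  have h1 := F.comm s hs u hu
  have h2 := F.sq _ h1
  have h3 := F.cen _ h1 s hs
  calc s * s * u * (s * s)⁻¹ * u⁻¹ = s * (s * u * s⁻¹ * u⁻¹) * (u * s⁻¹ * u⁻¹) := by group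
    _ = (s * u * s⁻¹ * u⁻¹) * s * (u * s⁻¹ * u⁻¹) := by rw [h3]
    _ = (s * u * s⁻¹ * u⁻¹) * (s * u * s⁻¹ * u⁻¹) := by group
    _ = 1 := h2

theorem sq_ne_one {s : G} (hs : s ∈ S) (hsA : s ∉ A) : s * s ≠ 1 := fun h => hsA (F.inv s hs h)

/-- an element of `S` with square `a`. -/
theorem exists_sq_eq {a : G} (ha : a ∈ A) (ha1 : a ≠ 1) : ∃ t ∈ S, t ∉ A ∧ t * t = a := by
  obtain ⟨s, hs, hsA⟩ : ∃ s ∈ S, s ∉ A := by
    by_contra h
    push Not at h
    have h1 : Nat.card S ≤ Nat.card A := Nat.card_le_card_of_injective _ (inclusion_injective h)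
    rw [F.cardS, F.cardA] at h1
    norm_num at h1
  obtain ⟨k, hk⟩ := F.exists_pow_conj (F.sq_mem hs) (F.sq_ne_one hs hsA) ha ha1
  have h1 : g0 ^ k * s * (g0 ^ k)⁻¹ ∈ S := conj_mem_of_mem_normalizer (F.g0_pow_normalizer k) hs
  have h2 : g0 ^ k * s * (g0 ^ k)⁻¹ * (g0 ^ k * s * (g0 ^ k)⁻¹) = a := by
    rw [← hk]; group
  refine ⟨_, h1, ?_, h2⟩
  intro h3
  exact ha1 (h2 ▸ F.sq _ h3)

/-- `t` is conjugate to `x * t` in `S` for `x ∈ A`. -/
theorem exists_conj_mul {t : G} (ht : t ∈ S) (htA : t ∉ A) {x : G} (hx : x ∈ A) :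
    ∃ u ∈ S, u * t * u⁻¹ = x * t := by
  obtain ⟨u, hu, hu'⟩ := F.surj t ht htA x hx
  refine ⟨u, hu, ?_⟩
  have h1 : u * t * u⁻¹ = (t * u * t⁻¹ * u⁻¹)⁻¹ * t := by group
  rw [h1, hu', F.inv_eq hx]

theorem card_ker_cm {s : G} (hs : s ∈ S) (hsA : s ∉ A) : Nat.card (F.cm hs).ker = 16 := by
  have h1 := (F.cm hs).ker.card_mul_index
  rw [Subgroup.index_ker, MonoidHom.range_eq_top.2 (F.cm_surj hs hsA), Subgroup.card_top, F.cardS,
    F.cardA] at h1
  omega

theorem mem_ker_cm {s : G} (hs : s ∈ S) {u : S} : u ∈ (F.cm hs).ker ↔ (u : G) * s = s * u := by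
  rw [MonoidHom.mem_ker, ← Subtype.coe_inj, cm_apply, OneMemClass.coe_one, mul_inv_eq_one,
    mul_inv_eq_iff_eq_mul]
  exact eq_comm

/-- `C_S(t)` -/
theorem card_centralizer {t : G} (ht : t ∈ S) (htA : t ∉ A) :
    Nat.card (S ⊓ centralizer ({t} : Set G) : Subgroup G) = 16 := by
  rw [← F.card_ker_cm ht htA]
  refine Nat.card_congr ⟨fun x => ⟨⟨x, x.2.1⟩, ?_⟩, fun x => ⟨x.1, x.1.2, ?_⟩, ?_, ?_⟩
  · rw [F.mem_ker_cm]
    exact mem_centralizer_singleton_iff.1 x.2.2
  · exact mem_centralizer_singleton_iff.2 ((F.mem_ker_cm ht).1 x.2)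
  · intro x; rfl
  · intro x; rfl

theorem orderOf_t {t a : G} (htt : t * t = a) (ha : a ∈ A) (ha1 : a ≠ 1) : orderOf t = 2 ^ 2 := by
  have h1 : t ^ 2 = a := by rw [pow_two, htt]
  apply orderOf_eq_prime_pow
  · rw [pow_one, h1]; exact ha1
  · rw [pow_succ 2 1, pow_one, pow_mul, h1, pow_two, F.sq a ha]

theorem centralizer_t_le {t a : G} (htt : t * t = a) :
    centralizer ({t} : Set G) ≤ centralizer ({a} : Set G) := by
  intro x hx
  rw [mem_centralizer_singleton_iff] at hx ⊢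
  rw [← htt, ← mul_assoc, hx, mul_assoc, hx, ← mul_assoc]

/-- `A ∪ A t` -/
def bt {t : G} (ht : t ∈ S) : Subgroup G where
  carrier := {x | x ∈ A ∨ x * t⁻¹ ∈ A}
  one_mem' := Or.inl (one_mem _)
  mul_mem' {x y} hx hy := by
    have hc : ∀ z ∈ A, t * z = z * t := fun z hz => (F.cen z hz t ht).symm
    rcases hx with hx | hx <;> rcases hy with hy | hy
    · exact Or.inl (mul_mem hx hy)
    · right
      show x * y * t⁻¹ ∈ A
      rw [mul_assoc]
      exact mul_mem hx hy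
    · right
      show x * y * t⁻¹ ∈ A
      have h1 : x * y * t⁻¹ = (x * t⁻¹) * (t * y * t⁻¹) := by group
      rw [h1, hc y hy, mul_assoc y, mul_inv_cancel, mul_one]
      exact mul_mem hx hy
    · left
      show x * y ∈ A
      have h1 : x * y = (x * t⁻¹) * (t * (y * t⁻¹)) * t := by group
      rw [h1, hc _ hy]
      have h2 : x * t⁻¹ * (y * t⁻¹ * t) * t = (x * t⁻¹) * (y * t⁻¹) * (t * t) := by group
      rw [h2]
      exact mul_mem (mul_mem hx hy) (F.sq_mem ht)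
  inv_mem' {x} hx := by
    have hc : ∀ z ∈ A, t * z = z * t := fun z hz => (F.cen z hz t ht).symm
    rcases hx with hx | hx
    · exact Or.inl (inv_mem hx)
    · right
      show x⁻¹ * t⁻¹ ∈ A
      have h1 : x⁻¹ * t⁻¹ = t⁻¹ * (x * t⁻¹)⁻¹ * t⁻¹ := by group
      have h2 : t⁻¹ * (x * t⁻¹)⁻¹ = (x * t⁻¹)⁻¹ * t⁻¹ := by
        have h3 := hc _ (inv_mem hx)
        calc t⁻¹ * (x * t⁻¹)⁻¹ = t⁻¹ * ((x * t⁻¹)⁻¹ * t) * t⁻¹ := by group
          _ = t⁻¹ * (t * (x * t⁻¹)⁻¹) * t⁻¹ := by rw [h3]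
          _ = (x * t⁻¹)⁻¹ * t⁻¹ := by group
      rw [h1, h2, mul_assoc, ← mul_inv_rev]
      exact mul_mem (inv_mem hx) (inv_mem (F.sq_mem ht))

theorem mem_bt {t : G} (ht : t ∈ S) {x : G} : x ∈ F.bt ht ↔ x ∈ A ∨ x * t⁻¹ ∈ A := Iff.rfl

theorem bt_le {t : G} (ht : t ∈ S) : F.bt ht ≤ S ⊓ centralizer ({t} : Set G) := by
  intro x hx
  have hA : ∀ z ∈ A, z ∈ S ⊓ centralizer ({t} : Set G) := fun z hz =>
    ⟨F.AS hz, mem_centralizer_singleton_iff.2 (F.cen z hz t ht)⟩
  rcases hx with hx | hx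
  · exact hA x hx
  · have h1 : x = (x * t⁻¹) * t := by group
    rw [h1]
    exact mul_mem (hA _ hx) ⟨ht, mem_centralizer_singleton_iff.2 rfl⟩

theorem relIndex_bt_le {t : G} (ht : t ∈ S) (htA : t ∉ A) :
    (F.bt ht).relIndex (S ⊓ centralizer ({t} : Set G)) ≤ 2 := by
  have h1 : A ≤ F.bt ht := fun x hx => Or.inl hx
  have h2 : Nat.card A ∣ Nat.card (F.bt ht) := card_dvd_of_le h1
  have h3 : Nat.card A ≠ Nat.card (F.bt ht) := by
    intro h
    have h4 : A = F.bt ht := eq_of_le_of_card_ge h1 h.ge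
    apply htA
    rw [h4]
    right
    rw [mul_inv_cancel]
    exact one_mem _
  have h5 := Subgroup.relIndex_mul_relIndex (⊥ : Subgroup G) (F.bt ht) _ bot_le (F.bt_le ht)
  rw [relIndex_bot_left, relIndex_bot_left, F.card_centralizer ht htA] at h5
  rw [F.cardA] at h2 h3
  obtain ⟨k, hk⟩ := h2
  have hk0 : Nat.card (F.bt ht) ≠ 0 := Nat.card_pos.ne'
  have hk2 : 2 ≤ k := by omega
  by_contra hcon
  push Not at hcon
  have : 3 * 8 ≤ 16 := by
    calc 3 * 8 ≤ (F.bt ht).relIndex (S ⊓ centralizer ({t} : Set G)) * Nat.card (F.bt ht) :=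
          Nat.mul_le_mul hcon (by omega)
      _ = 16 := by rw [mul_comm]; exact h5
  omega

/-- for `x, y ∈ C_S(t)` outside `A ∪ A t`: `x⁻¹ y ∈ A ∪ A t`. -/
theorem inv_mul_mem_bt {t : G} (ht : t ∈ S) (htA : t ∉ A) {x y : G}
    (hx : x ∈ S ⊓ centralizer ({t} : Set G)) (hy : y ∈ S ⊓ centralizer ({t} : Set G))
    (hxB : x ∉ F.bt ht) (hyB : y ∉ F.bt ht) : x⁻¹ * y ∈ F.bt ht := by
  have h1 := F.relIndex_bt_le ht htA
  have h0 : (F.bt ht).relIndex (S ⊓ centralizer ({t} : Set G)) ≠ 0 :=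
    Subgroup.index_ne_zero_of_finite
  have h2 : (F.bt ht).relIndex (S ⊓ centralizer ({t} : Set G)) = 1 ∨
      (F.bt ht).relIndex (S ⊓ centralizer ({t} : Set G)) = 2 := by omega
  rcases h2 with h2 | h2
  · exact absurd (relIndex_eq_one.1 h2 hx) hxB
  · have h3 : ((F.bt ht).subgroupOf (S ⊓ centralizer ({t} : Set G))).index = 2 := h2
    have h4 := (Subgroup.mul_mem_iff_of_index_two h3 (a := (⟨x, hx⟩ : ↥(S ⊓ centralizer ({t} : Set G)))⁻¹)
      (b := ⟨y, hy⟩)).2
    have h5 := h4 (by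
      constructor
      · intro h
        exact absurd (by simpa using (inv_mem h : _) : (⟨x, hx⟩ : ↥(S ⊓ centralizer ({t} : Set G))) ∈
          (F.bt ht).subgroupOf (S ⊓ centralizer ({t} : Set G))) hxB
      · intro h
        exact absurd h hyB)
    exact h5

/-- `C_S(t)` is abelian -/
theorem comm_T {t : G} (ht : t ∈ S) (htA : t ∉ A) {x y : G}
    (hx : x ∈ S ⊓ centralizer ({t} : Set G)) (hy : y ∈ S ⊓ centralizer ({t} : Set G)) :
    x * y = y * x := by
  have key : ∀ z ∈ F.bt ht, ∀ w ∈ S ⊓ centralizer ({t} : Set G), z * w = w * z := by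
    intro z hz w hw
    rcases hz with hz | hz
    · exact F.cen z hz w hw.1
    · have h1 := F.cen _ hz w hw.1
      have h2 := mem_centralizer_singleton_iff.1 hw.2
      calc z * w = (z * t⁻¹) * (t * w) := by group
        _ = (z * t⁻¹) * (w * t) := by rw [h2]
        _ = ((z * t⁻¹) * w) * t := by group
        _ = (w * (z * t⁻¹)) * t := by rw [h1]
        _ = w * z := by group
  by_cases hxB : x ∈ F.bt ht
  · exact key x hxB y hy
  by_cases hyB : y ∈ F.bt ht
  · exact (key y hyB x hx).symm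
  have h1 := key _ (F.inv_mul_mem_bt ht htA hx hy hxB hyB) x hx
  calc x * y = x * (x⁻¹ * y * x) * x⁻¹ * x := by rw [h1]; group
    _ = y * x := by group

/-- the fourth power of an element of `C(t)` which normalises `C_S(t)` centralises `C_S(t)` -/
theorem pow_four_comm {t : G} (ht : t ∈ S) (htA : t ∉ A) {g : G} (hgt : g * t = t * g)
    (hg : ∀ x ∈ S ⊓ centralizer ({t} : Set G), g * x * g⁻¹ ∈ S ⊓ centralizer ({t} : Set G)) :
    ∀ x ∈ S ⊓ centralizer ({t} : Set G), g ^ 4 * x = x * g ^ 4 := by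
  have haA : t * t ∈ A := F.sq_mem ht
  have ha1 : t * t ≠ 1 := F.sq_ne_one ht htA
  have hga : g * (t * t) * g⁻¹ = t * t := by
    have : g * (t * t) = (t * t) * g := by rw [← mul_assoc, hgt, mul_assoc, hgt, ← mul_assoc]
    rw [this]; group
  have hA : ∀ z ∈ A, z ∈ S ⊓ centralizer ({t} : Set G) := fun z hz =>
    ⟨F.AS hz, mem_centralizer_singleton_iff.2 (F.cen z hz t ht)⟩
  have hgA : ∀ z ∈ A, g * z * g⁻¹ ∈ A := by
    intro z hz
    apply F.inv _ (hg z (hA z hz)).1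
    calc g * z * g⁻¹ * (g * z * g⁻¹) = g * (z * z) * g⁻¹ := by group
      _ = 1 := by rw [F.sq z hz]; group
  -- `g ^ 2` centralises `A`
  have h2A : ∀ z ∈ A, g * (g * z * g⁻¹) * g⁻¹ = z := by
    intro z hz
    obtain ⟨b, hb, hb1, hba, hab, hcases⟩ := F.exists_ne_A haA ha1
    have hbb : g * (g * b * g⁻¹) * g⁻¹ = b := by
      rcases hcases _ (hgA b hb) with h | h | h | h
      · exfalso
        apply hb1
        calc b = g⁻¹ * (g * b * g⁻¹) * g := by group
          _ = 1 := by rw [h]; group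
      · exfalso
        apply hba
        calc b = g⁻¹ * (g * b * g⁻¹) * g := by group
          _ = g⁻¹ * (g * (t * t) * g⁻¹) * g := by rw [h, hga]
          _ = t * t := by group
      · rw [h, h]
      · rw [h]
        have h3 : g * (t * t * b) * g⁻¹ = (g * (t * t) * g⁻¹) * (g * b * g⁻¹) := by group
        rw [h3, hga, h, ← mul_assoc, F.sq _ haA, one_mul]
    rcases hcases z hz with h | h | h | h
    · rw [h]; group
    · rw [h, hga, hga]
    · rw [h, hbb]
    · rw [h]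
      have h3 : g * (g * (t * t * b) * g⁻¹) * g⁻¹ =
          (g * (g * (t * t) * g⁻¹) * g⁻¹) * (g * (g * b * g⁻¹) * g⁻¹) := by group
      rw [h3, hga, hga, hbb]
  -- `g` preserves `A ∪ A t`
  have hgB : ∀ z, z ∈ F.bt ht → g * z * g⁻¹ ∈ F.bt ht := by
    intro z hz
    rcases hz with hz | hz
    · exact Or.inl (hgA z hz)
    · right
      have h1 : g * z * g⁻¹ * t⁻¹ = g * (z * t⁻¹) * g⁻¹ := by
        have h3 : t * g⁻¹ = g⁻¹ * t := by
          calc t * g⁻¹ = g⁻¹ * (g * t) * g⁻¹ := by group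
            _ = g⁻¹ * t := by rw [hgt]; group
        have h4 : g⁻¹ * t⁻¹ = t⁻¹ * g⁻¹ := by
          rw [← mul_inv_rev, ← mul_inv_rev, hgt]
        calc g * z * g⁻¹ * t⁻¹ = g * z * (g⁻¹ * t⁻¹) := by group
          _ = g * z * (t⁻¹ * g⁻¹) := by rw [h4]
          _ = _ := by group
      show g * z * g⁻¹ * t⁻¹ ∈ A
      rw [h1]
      exact hgA _ hz
  have hgB' : ∀ z ∈ F.bt ht, z * (g * z * g⁻¹) ∈ A := by
    intro z hz
    rcases hz with hz | hz
    · exact mul_mem hz (hgA z hz)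
    · have h1 : g * z * g⁻¹ = (g * (z * t⁻¹) * g⁻¹) * t := by
        have h3 : g⁻¹ * t = t * g⁻¹ := by
          calc g⁻¹ * t = g⁻¹ * (t * g) * g⁻¹ := by group
            _ = g⁻¹ * (g * t) * g⁻¹ := by rw [hgt]
            _ = t * g⁻¹ := by group
        calc g * z * g⁻¹ = g * (z * t⁻¹) * (t * g⁻¹) := by group
          _ = g * (z * t⁻¹) * (g⁻¹ * t) := by rw [h3]
          _ = _ := by group
      have h2 : z * (g * z * g⁻¹) = (z * t⁻¹) * (g * (z * t⁻¹) * g⁻¹) * (t * t) := by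
        have h3 := F.cen _ (hgA _ hz) t ht
        rw [h1]
        calc z * (g * (z * t⁻¹) * g⁻¹ * t) = (z * t⁻¹) * (t * ((g * (z * t⁻¹) * g⁻¹))) * t := by group
          _ = (z * t⁻¹) * (((g * (z * t⁻¹) * g⁻¹)) * t) * t := by rw [h3]
          _ = _ := by group
      rw [h2]
      exact mul_mem (mul_mem hz (hgA _ hz)) haA
  -- `g ^ 2` is trivial modulo `A`
  have h2T : ∀ x ∈ S ⊓ centralizer ({t} : Set G), x⁻¹ * (g * (g * x * g⁻¹) * g⁻¹) ∈ A := by
    intro x hx
    by_cases hxB : x ∈ F.bt ht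
    · rcases hxB with hz | hz
      · rw [h2A x hz, inv_mul_cancel]; exact one_mem _
      · have h1 : g * (g * x * g⁻¹) * g⁻¹ = (g * (g * (x * t⁻¹) * g⁻¹) * g⁻¹) * t := by
          have h3 : g⁻¹ * t = t * g⁻¹ := by
            calc g⁻¹ * t = g⁻¹ * (t * g) * g⁻¹ := by group
              _ = g⁻¹ * (g * t) * g⁻¹ := by rw [hgt]
              _ = t * g⁻¹ := by group
          have h4 : g⁻¹ * g⁻¹ * t = t * (g⁻¹ * g⁻¹) := by
            rw [mul_assoc, h3, ← mul_assoc, h3, mul_assoc]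
          calc g * (g * x * g⁻¹) * g⁻¹ = g * (g * (x * t⁻¹)) * (t * (g⁻¹ * g⁻¹)) := by group
            _ = g * (g * (x * t⁻¹)) * (g⁻¹ * g⁻¹ * t) := by rw [h4]
            _ = _ := by group
        rw [h1, h2A _ hz]
        have : x⁻¹ * (x * t⁻¹ * t) = 1 := by group
        rw [this]
        exact one_mem _
    · have h1 : g * x * g⁻¹ ∉ F.bt ht := by
        intro h
        -- finite group: `g` permutes `A ∪ A t`
        have h3 : ∀ n : ℕ, g ^ n * (g * x * g⁻¹) * (g ^ n)⁻¹ ∈ F.bt ht := by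
          intro n
          induction n with
          | zero => simpa using h
          | succ n ih =>
            have := hgB _ ih
            have e : g ^ (n + 1) * (g * x * g⁻¹) * (g ^ (n + 1))⁻¹ =
                g * (g ^ n * (g * x * g⁻¹) * (g ^ n)⁻¹) * g⁻¹ := by
              rw [pow_succ', mul_inv_rev]; group
            rwa [e]
        apply hxB
        have h4 := h3 (orderOf g - 1)
        have h5 : g ^ (orderOf g - 1) = g⁻¹ := by
          rw [eq_inv_iff_mul_eq_one, ← pow_succ, Nat.sub_add_cancel (orderOf_pos g),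
            pow_orderOf_eq_one]
        rw [h5] at h4
        have e : g⁻¹ * (g * x * g⁻¹) * (g⁻¹)⁻¹ = x := by group
        rwa [e] at h4
      have h3 := F.inv_mul_mem_bt ht htA hx (hg x hx) hxB h1
      have h4 := hgB' _ h3
      have h5 : x⁻¹ * (g * x * g⁻¹) * (g * (x⁻¹ * (g * x * g⁻¹)) * g⁻¹) =
          x⁻¹ * (g * (g * x * g⁻¹) * g⁻¹) := by group
      rwa [h5] at h4
  intro x hx
  set y := x⁻¹ * (g * (g * x * g⁻¹) * g⁻¹) with hy
  have hyA : y ∈ A := h2T x hx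
  have h1 : g * (g * x * g⁻¹) * g⁻¹ = x * y := by rw [hy]; group
  have h2 : g ^ 4 * x * (g ^ 4)⁻¹ = x := by
    have e : g ^ 4 * x * (g ^ 4)⁻¹ = g * (g * (g * (g * x * g⁻¹) * g⁻¹) * g⁻¹) * g⁻¹ := by
      simp only [pow_succ, pow_zero, one_mul, mul_inv_rev]; group
    rw [e, h1]
    have e2 : g * (g * (x * y) * g⁻¹) * g⁻¹ =
        (g * (g * x * g⁻¹) * g⁻¹) * (g * (g * y * g⁻¹) * g⁻¹) := by group
    rw [e2, h1, h2A y hyA, mul_assoc, F.sq y hyA, mul_one]
  calc g ^ 4 * x = g ^ 4 * x * (g ^ 4)⁻¹ * g ^ 4 := by group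
    _ = x * g ^ 4 := by rw [h2]

/-- a 2-group in `C(t)` containing `t` has order at most 16 -/
theorem card_le_of_mem {t : G} (ht : t ∈ S) (htA : t ∉ A) {Q : Subgroup G} (hQ : IsPGroup 2 Q)
    (htQ : t ∈ Q) (hQt : Q ≤ centralizer ({t} : Set G)) : Nat.card Q ≤ 16 := by
  have : Fact (Nat.Prime 2) := ⟨Nat.prime_two⟩
  obtain ⟨g, hg⟩ := OddOrderLocal.TypeFData.exists_conj_le_of_not_dvd_index F.sylow hQ
  have h1 : g * t * g⁻¹ ∈ S := hg ⟨t, htQ, rfl⟩
  have h2 : g * t * g⁻¹ ∉ A := by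
    intro h
    apply htA
    apply F.inv t ht
    have h3 := F.sq _ h
    calc t * t = g⁻¹ * (g * t * g⁻¹ * (g * t * g⁻¹)) * g := by group
      _ = 1 := by rw [h3]; group
  have h3 : Q.map (MulAut.conj g).toMonoidHom ≤ S ⊓ centralizer ({g * t * g⁻¹} : Set G) := by
    refine le_inf hg ?_
    rintro _ ⟨x, hx, rfl⟩
    have h4 := mem_centralizer_singleton_iff.1 (hQt hx)
    rw [mem_centralizer_singleton_iff]
    show g * x * g⁻¹ * (g * t * g⁻¹) = g * t * g⁻¹ * (g * x * g⁻¹)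
    calc g * x * g⁻¹ * (g * t * g⁻¹) = g * (x * t) * g⁻¹ := by group
      _ = g * (t * x) * g⁻¹ := by rw [h4]
      _ = _ := by group
  have h4 : Nat.card (Q.map (MulAut.conj g).toMonoidHom) = Nat.card Q :=
    Nat.card_congr (Q.equivMapOfInjective _ (MulAut.conj g).injective).toEquiv.symm
  rw [← h4, ← F.card_centralizer h1 h2]
  exact Nat.card_le_card_of_injective _ (inclusion_injective h3)

/-- **(G)** `|C(t) : O(C(t))| = 16` -/
theorem index_core_t {t : G} (ht : t ∈ S) (htA : t ∉ A) :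
    (pPrimeCore 2 (centralizer ({t} : Set G))).index = 16 := by
  have h2f : Fact (Nat.Prime 2) := ⟨Nat.prime_two⟩
  set C := centralizer ({t} : Set G) with hC
  set T : Subgroup G := S ⊓ C with hT
  have htC : t ∈ C := mem_centralizer_singleton_iff.2 rfl
  have hTp : IsPGroup 2 (T.subgroupOf C) :=
    (F.isPGroup_S.to_le inf_le_left).of_equiv (subgroupOfEquivOfLe inf_le_right).symm
  obtain ⟨P, hP⟩ := hTp.exists_le_sylow
  have hcardT : Nat.card (T.subgroupOf C) = 16 := by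
    rw [← F.card_centralizer ht htA]
    exact Nat.card_congr (subgroupOfEquivOfLe (inf_le_right : T ≤ C)).toEquiv
  have hcardP : Nat.card P ≤ 16 := by
    have h1 : Nat.card ((P : Subgroup C).map C.subtype) = Nat.card P :=
      Nat.card_congr ((P : Subgroup C).equivMapOfInjective _ C.subtype_injective).toEquiv.symm
    rw [← h1]
    refine F.card_le_of_mem ht htA (P.isPGroup'.map _) ?_ (map_subtype_le _)
    exact ⟨⟨t, htC⟩, hP (mem_subgroupOf.2 ⟨ht, htC⟩), rfl⟩
  have hPT : T.subgroupOf C = (P : Subgroup C) :=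
    eq_of_le_of_card_ge hP (hcardP.trans hcardT.ge)
  have hcardP' : Nat.card P = 16 := by
    rw [← hcardT, hPT]
  have hN : normalizer ((P : Subgroup C) : Set C) ≤ centralizer ((P : Subgroup C) : Set C) := by
    intro g hg
    have hgt : (g : G) * t = t * g := mem_centralizer_singleton_iff.1 g.2
    have hgT : ∀ x ∈ T, (g : G) * x * (g : G)⁻¹ ∈ T := by
      intro x hx
      have h1 : (⟨x, hx.2⟩ : C) ∈ (P : Subgroup C) := by
        rw [← hPT]; exact mem_subgroupOf.2 hx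
      have h2 := (mem_normalizer_iff.1 hg _).1 h1
      rw [← hPT] at h2
      exact h2
    have h4 := F.pow_four_comm ht htA hgt hgT
    have h4' : g ^ 4 ∈ centralizer ((P : Subgroup C) : Set C) := by
      apply mem_centralizer_coe
      intro x hx
      rw [← hPT] at hx
      simpa using h4 x hx
    -- an odd power is in `P`
    set m : ℕ := ((P : Subgroup C).subgroupOf (normalizer ((P : Subgroup C) : Set C))).index with hm
    have hm2 : ¬ 2 ∣ m := by
      intro h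
      exact P.not_dvd_index (h.trans (relIndex_dvd_index_of_le le_normalizer))
    have hgm : g ^ m ∈ (P : Subgroup C) :=
      Subgroup.pow_index_mem ((P : Subgroup C).subgroupOf (normalizer ((P : Subgroup C) : Set C)))
        ⟨g, hg⟩
    have hgm' : g ^ m ∈ centralizer ((P : Subgroup C) : Set C) := by
      apply mem_centralizer_coe
      intro x hx
      rw [← hPT] at hx hgm
      exact F.comm_T ht htA (mem_subgroupOf.1 hgm) (mem_subgroupOf.1 hx)
    have hcop : IsCoprime (m : ℤ) (4 : ℤ) := by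
      have h5 : Nat.Coprime m (2 ^ 2) :=
        Nat.Coprime.pow_right 2 ((Nat.Prime.coprime_iff_not_dvd Nat.prime_two).2 hm2).symm
      exact_mod_cast Nat.isCoprime_iff_coprime.2 h5
    obtain ⟨x, y, hxy⟩ := hcop
    have h6 : g = (g ^ m) ^ x * (g ^ 4) ^ y := by
      rw [← zpow_natCast, ← zpow_natCast, ← zpow_mul, ← zpow_mul, ← zpow_add]
      have : (m : ℤ) * x + ((4 : ℕ) : ℤ) * y = 1 := by
        rw [mul_comm, mul_comm ((4 : ℕ) : ℤ)]; exact_mod_cast hxy
      rw [this, zpow_one]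
    rw [h6]
    exact mul_mem (zpow_mem hgm' x) (zpow_mem h4' y)
  have hidx := Blocks.SylowColumns.exists_index_pPrimeCore P hN
  rw [Blocks.PrincipalSection.index_pPrimeCore_eq hidx, ← P.card_eq_multiplicity, hcardP']

theorem CA_le {a : G} (ha : a ∈ A) : centralizer (A : Set G) ≤ centralizer ({a} : Set G) :=
  centralizer_le (by simpa using ha)

theorem A_le_CA : A ≤ centralizer (A : Set G) := by
  intro x hx
  rw [mem_centralizer_iff]
  intro y hy
  exact F.comm_A hy hx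

theorem CA_le_normalizer_oc {a : G} (ha : a ∈ A) :
    centralizer (A : Set G) ≤ normalizer (oc (centralizer ({a} : Set G)) : Set G) :=
  (F.CA_le ha).trans (le_normalizer_oc _)

theorem C_le_sup {a : G} (ha : a ∈ A) (ha1 : a ≠ 1) :
    oc (centralizer ({a} : Set G)) ⊔ centralizer (A : Set G) = centralizer ({a} : Set G) :=
  le_antisymm (sup_le (oc_le _) (F.CA_le ha)) (F.fact a ha ha1)

/-- `O(C(A)) ≤ O(C(a))` -/
theorem oc_CA_le {a : G} (ha : a ∈ A) (ha1 : a ≠ 1) :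
    oc (centralizer (A : Set G)) ≤ oc (centralizer ({a} : Set G)) := by
  set O := oc (centralizer ({a} : Set G)) with hO
  set V := oc (centralizer (A : Set G)) with hV
  have hVC : V ≤ centralizer ({a} : Set G) := (oc_le _).trans (F.CA_le ha)
  have hVO : V ≤ normalizer (O : Set G) := hVC.trans (le_normalizer_oc _)
  have h1 : O ⊔ V ≤ O := by
    refine le_oc (sup_le (oc_le _) hVC) ?_ ?_
    · rw [← F.C_le_sup ha ha1]
      refine sup_le ((le_sup_left : O ≤ O ⊔ V).trans le_normalizer) ?_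
      exact le_normalizer_sup' (F.CA_le_normalizer_oc ha) (le_normalizer_oc _)
    · have h2 := OddOrderLocal.FreeCyclic.card_sup_dvd_mul hVO
      rw [sup_comm]
      exact Odd.of_dvd_nat ((odd_oc _).mul (odd_oc _)) h2
  exact le_sup_right.trans h1

theorem CA_le_normalizer_OS {a : G} (ha : a ∈ A) (ha1 : a ≠ 1) : centralizer (A : Set G) ≤
    normalizer ((oc (centralizer ({a} : Set G)) ⊔ S : Subgroup G) : Set G) := by
  have h1 : oc (centralizer ({a} : Set G)) ⊔ S =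
      oc (centralizer ({a} : Set G)) ⊔ (oc (centralizer (A : Set G)) ⊔ S) := by
    rw [← sup_assoc, sup_eq_left.2 (F.oc_CA_le ha ha1)]
  rw [h1]
  exact le_normalizer_sup' (F.CA_le_normalizer_oc ha) F.normCA

theorem C_le_normalizer_OS {a : G} (ha : a ∈ A) (ha1 : a ≠ 1) : centralizer ({a} : Set G) ≤
    normalizer ((oc (centralizer ({a} : Set G)) ⊔ S : Subgroup G) : Set G) := by
  conv_lhs => rw [← F.C_le_sup ha ha1]
  exact sup_le ((le_sup_left : oc (centralizer ({a} : Set G)) ≤ _).trans le_normalizer)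
    (F.CA_le_normalizer_OS ha ha1)

theorem relIndex_O_OS {a : G} (ha : a ∈ A) :
    (oc (centralizer ({a} : Set G))).relIndex (oc (centralizer ({a} : Set G)) ⊔ S) ∣ 64 := by
  rw [relIndex_sup_of_le_normalizer ((F.S_le_centralizer ha).trans (le_normalizer_oc _)),
    ← F.cardS]
  exact relIndex_dvd_card _ _

theorem relIndex_OS_C {a : G} (ha : a ∈ A) (ha1 : a ≠ 1) :
    (oc (centralizer ({a} : Set G)) ⊔ S).relIndex (centralizer ({a} : Set G)) = 1 ∨
    (oc (centralizer ({a} : Set G)) ⊔ S).relIndex (centralizer ({a} : Set G)) = 5 := by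
  have h1 : (oc (centralizer ({a} : Set G)) ⊔ S) ⊔ centralizer (A : Set G) =
      centralizer ({a} : Set G) := by
    rw [sup_assoc, sup_eq_right.2 F.S_le_centralizer_A, F.C_le_sup ha ha1]
  have h2 := relIndex_sup_of_le_normalizer (F.CA_le_normalizer_OS ha ha1)
  rw [h1] at h2
  rw [h2]
  have h3 : (oc (centralizer ({a} : Set G)) ⊔ S).relIndex (centralizer (A : Set G)) ∣
      (oc (centralizer (A : Set G)) ⊔ S).relIndex (centralizer (A : Set G)) :=
    relIndex_dvd_of_le_left _ (sup_le_sup_right (F.oc_CA_le ha ha1) _)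
  rcases F.indexCA with h | h
  · rw [h] at h3
    exact Or.inl (Nat.dvd_one.1 h3)
  · rw [h] at h3
    exact (Nat.dvd_prime (by norm_num)).1 h3

theorem relIndex_O_C_le {a : G} (ha : a ∈ A) (ha1 : a ≠ 1) :
    (oc (centralizer ({a} : Set G))).relIndex (centralizer ({a} : Set G)) ≤ 320 := by
  have h1 := relIndex_mul_relIndex (oc (centralizer ({a} : Set G)))
    (oc (centralizer ({a} : Set G)) ⊔ S) (centralizer ({a} : Set G)) le_sup_left
    (sup_le (oc_le _) (F.S_le_centralizer ha))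
  rw [← h1]
  have h2 := Nat.le_of_dvd (by norm_num) (F.relIndex_O_OS ha)
  rcases F.relIndex_OS_C ha ha1 with h | h
  · rw [h]; omega
  · rw [h]; omega

/-- **hCa** -/
theorem index_core_a {a : G} (ha : a ∈ A) (ha1 : a ≠ 1) :
    (pPrimeCore 2 (centralizer ({a} : Set G))).index ≤ 320 := by
  refine le_trans ?_ (F.relIndex_O_C_le ha ha1)
  have h1 : (oc (centralizer ({a} : Set G))).subgroupOf (centralizer ({a} : Set G)) ≤
      pPrimeCore 2 (centralizer ({a} : Set G)) := by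
    apply Lib.Cores.le_pPrimeCore
    · exact (normal_subgroupOf_iff_le_normalizer (oc_le _)).2 (le_normalizer_oc _)
    · rw [Nat.card_congr (subgroupOfEquivOfLe (oc_le (centralizer ({a} : Set G)))).toEquiv]
      exact Nat.coprime_two_right.2 (odd_oc _)
  exact Nat.le_of_dvd (Nat.pos_of_ne_zero Subgroup.index_ne_zero_of_finite) (index_dvd_of_le h1)

theorem isSolvable_C {a : G} (ha : a ∈ A) (ha1 : a ≠ 1) :
    Group.IsSolvable (centralizer ({a} : Set G)) := by
  have h1 : Group.IsSolvable (oc (centralizer ({a} : Set G))) := F.solv _ (odd_oc _)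
  have h2 : Group.IsSolvable ↥(oc (centralizer ({a} : Set G)) ⊔ S) := by
    have h3 := F.relIndex_O_OS ha
    rw [show (64 : ℕ) = 2 ^ 6 by norm_num] at h3
    obtain ⟨k, -, hk⟩ := (Nat.dvd_prime_pow Nat.prime_two).1 h3
    refine isSolvable_of_relIndex le_sup_left (sup_le le_normalizer ?_) h1 Nat.prime_two hk
    exact (F.S_le_centralizer ha).trans (le_normalizer_oc _)
  rcases F.relIndex_OS_C ha ha1 with h | h
  · exact isSolvable_of_relIndex (sup_le (oc_le _) (F.S_le_centralizer ha))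
      (F.C_le_normalizer_OS ha ha1) h2 (p := 2) (k := 0) Nat.prime_two (by rw [h]; norm_num)
  · exact isSolvable_of_relIndex (sup_le (oc_le _) (F.S_le_centralizer ha))
      (F.C_le_normalizer_OS ha ha1) h2 (p := 5) (k := 1) (by norm_num) (by rw [h]; norm_num)

/-- the elements of `A` are central in `C(a)` modulo `O(C(a))` -/
theorem central_mod {a : G} (ha : a ∈ A) (ha1 : a ≠ 1) {x c : G} (hx : x ∈ A)
    (hc : c ∈ centralizer ({a} : Set G)) :
    x * c * x⁻¹ * c⁻¹ ∈ oc (centralizer ({a} : Set G)) := by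
  rw [← F.C_le_sup ha ha1] at hc
  obtain ⟨d, hd, o, ho, rfl⟩ := exists_mul_of_mem_sup (F.CA_le_normalizer_oc ha) hc
  have h1 : x * d = d * x := (mem_centralizer_iff.1 hd x hx)
  have h2 : x * (d * o) * x⁻¹ * (d * o)⁻¹ = d * ((x * o * x⁻¹) * o⁻¹) * d⁻¹ := by
    rw [← mul_assoc, h1]; group
  rw [h2]
  apply conj_mem_of_mem_normalizer (F.CA_le_normalizer_oc ha hd)
  refine mul_mem ?_ (inv_mem ho)
  exact conj_mem_of_mem_normalizer (F.CA_le_normalizer_oc ha (F.A_le_CA hx)) ho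

/-- involutions of `C(a)` are conjugate in `C(a)` to elements of `A` -/
theorem exists_conj_mem_A {a : G} (ha : a ∈ A) {i : G} (hi : i * i = 1)
    (hia : i ∈ centralizer ({a} : Set G)) :
    ∃ c ∈ centralizer ({a} : Set G), c * i * c⁻¹ ∈ A := by
  have : Fact (Nat.Prime 2) := ⟨Nat.prime_two⟩
  have h1 : ¬ 2 ∣ S.relIndex (centralizer ({a} : Set G)) := fun h =>
    F.sylow (h.trans (relIndex_dvd_index_of_le (F.S_le_centralizer ha)))
  have h2 : IsPGroup 2 (zpowers i) := by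
    intro x
    refine ⟨1, ?_⟩
    obtain ⟨x, n, rfl⟩ := x
    apply Subtype.ext
    show (i ^ n) ^ 2 ^ 1 = 1
    rw [← zpow_natCast, ← zpow_mul, mul_comm, zpow_mul]
    have : i ^ (((2 ^ 1 : ℕ) : ℤ)) = 1 := by
      rw [zpow_natCast, pow_one, pow_two, hi]
    rw [this, one_zpow]
  obtain ⟨c, hc, hc'⟩ := OddOrderLocal.TypeFData.exists_conj_mem_of_not_dvd_relIndex h1 hia h2
  refine ⟨c, hc, F.inv _ hc' ?_⟩
  calc c * i * c⁻¹ * (c * i * c⁻¹) = c * (i * i) * c⁻¹ := by group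
    _ = 1 := by rw [hi]; group

/-- **hprod** -/
theorem not_isConj_of_prod {a t : G} (ha : a ∈ A) (ha1 : a ≠ 1) (htt : t * t = a) :
    ∀ i j z : G, IsConj a i → IsConj a j → IsPPart 2 (i * j) z → ¬ IsConj t z := by
  intro i j z hi hj hz htz
  have : Fact (Nat.Prime 2) := ⟨Nat.prime_two⟩
  have hinv : ∀ k : G, IsConj a k → k * k = 1 := by
    intro k hk
    obtain ⟨g, rfl⟩ := isConj_iff.1 hk
    calc g * a * g⁻¹ * (g * a * g⁻¹) = g * (a * a) * g⁻¹ := by group
      _ = 1 := by rw [F.sq a ha]; group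
  have hii := hinv i hi
  have hjj := hinv j hj
  have hi' : i⁻¹ = i := inv_eq_of_mul_eq_one_left hii
  have hj' : j⁻¹ = j := inv_eq_of_mul_eq_one_left hjj
  obtain ⟨n, hn⟩ := Blocks.PPart.exists_pow_eq (G := G) 2
  have hzn := hn _ _ hz
  have h1 : i * (i * j) * i⁻¹ = (i * j)⁻¹ := by
    rw [mul_inv_rev, hi', hj', ← mul_assoc i i j, hii, one_mul]
  have h2 : i * z * i⁻¹ = z⁻¹ := by
    rw [← hzn, ← conj_pow, h1, inv_pow]
  obtain ⟨g, rfl⟩ := isConj_iff.1 htz
  set i' : G := g⁻¹ * i * g with hi'd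
  have h3 : i' * t * i'⁻¹ = t⁻¹ := by
    have e : i' * t * i'⁻¹ = g⁻¹ * (i * (g * t * g⁻¹) * i⁻¹) * g := by rw [hi'd]; group
    rw [e, h2]; group
  have h4 : i' * i' = 1 := by
    calc i' * i' = g⁻¹ * (i * i) * g := by rw [hi'd]; group
      _ = 1 := by rw [hii]; group
  have h5 : i' ∈ centralizer ({a} : Set G) := by
    rw [mem_centralizer_singleton_iff]
    have h6 : i' * a * i'⁻¹ = a := by
      have e : i' * a * i'⁻¹ = (i' * t * i'⁻¹) * (i' * t * i'⁻¹) := by rw [← htt]; group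
      rw [e, h3, ← mul_inv_rev, htt, F.inv_eq ha]
    calc i' * a = i' * a * i'⁻¹ * i' := by group
      _ = a * i' := by rw [h6]
  obtain ⟨c, hc, hcA⟩ := F.exists_conj_mem_A ha h4 h5
  have htC : t ∈ centralizer ({a} : Set G) := by
    rw [mem_centralizer_singleton_iff, ← htt, mul_assoc]
  have h6 := F.central_mod ha ha1 hcA (mul_mem (mul_mem hc (inv_mem htC)) (inv_mem hc))
  have hca : c * a * c⁻¹ = a := by
    rw [mem_centralizer_singleton_iff.1 hc]; group
  have h7 : c * i' * c⁻¹ * (c * t⁻¹ * c⁻¹) * (c * i' * c⁻¹)⁻¹ * (c * t⁻¹ * c⁻¹)⁻¹ = a := by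
    have e : c * i' * c⁻¹ * (c * t⁻¹ * c⁻¹) * (c * i' * c⁻¹)⁻¹ * (c * t⁻¹ * c⁻¹)⁻¹ =
        c * ((i' * t * i'⁻¹)⁻¹ * t) * c⁻¹ := by group
    rw [e, h3, inv_inv, htt, hca]
  rw [h7] at h6
  exact ha1 (Classification.TypeB.Basic.eq_one_of_sq (odd_oc _) h6 (F.sq a ha))

/-- **hmod** -/
theorem exists_int {a : G} (ha : a ∈ A) (ha1 : a ≠ 1) (χ : IrrCharacter G) :
    ∃ k : ℤ, (χ : G → ℂ) 1 - (χ : G → ℂ) a = 16 * k := by
  classical
  obtain ⟨t, ht, htA, htt⟩ := F.exists_sq_eq ha ha1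
  set T : Subgroup G := S ⊓ centralizer ({t} : Set G) with hT
  have hAT : ∀ x ∈ A, x ∈ T := fun x hx =>
    ⟨F.AS hx, mem_centralizer_singleton_iff.2 (F.cen x hx t ht)⟩
  let _ : CommGroup T :=
    { (inferInstance : Group T) with
      mul_comm := fun x y => Subtype.ext (F.comm_T ht htA x.2 y.2) }
  let _ : Fintype T := Fintype.ofFinite T
  set aT : T := ⟨a, hAT a ha⟩ with haT
  have haT1 : aT ≠ 1 := fun h => ha1 (congrArg Subtype.val h)
  obtain ⟨φ, hφ⟩ := CommGroup.exists_apply_ne_one_of_hasEnoughRootsOfUnity T ℂ haT1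
  have hφa : ((φ aT : ℂˣ) : ℂ) = -1 := by
    have h1 : φ aT * φ aT = 1 := by
      rw [← map_mul]
      have : aT * aT = 1 := Subtype.ext (F.sq a ha)
      rw [this, map_one]
    have h2 : ((φ aT : ℂˣ) : ℂ) * ((φ aT : ℂˣ) : ℂ) = 1 := by
      rw [← Units.val_mul, h1, Units.val_one]
    rcases mul_self_eq_one_iff.1 h2 with h3 | h3
    · exact absurd (Units.ext h3) hφ
    · exact h3
  obtain ⟨n, hn⟩ := Characters.Core.classInner_isNat
    (Characters.Core.isCharacter_comp T.subtype (Characters.Core.isIrr_isCharacter χ.2))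
    (Characters.Linear.isCharacter_hom φ)
  have hcardT : (Nat.card T : ℂ) = 16 := by rw [F.card_centralizer ht htA]; norm_num
  -- the modified function
  set Γ : T → ℂ := fun u => (if (u : G) ∈ A then (χ : G → ℂ) a else (χ : G → ℂ) u) *
    starRingEnd ℂ (φ u : ℂ) with hΓ
  have hΓ1 : ∀ u : T, Γ (aT * u) = - Γ u := by
    intro u
    have h1 : ((aT * u : T) : G) = a * u := rfl
    have h2 : (a * (u : G) ∈ A) ↔ (u : G) ∈ A := Subgroup.mul_mem_cancel_left _ ha
    simp only [hΓ, h1, map_mul, Units.val_mul, hφa, map_neg, map_one]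
    by_cases hu : (u : G) ∈ A
    · rw [if_pos (h2.2 hu), if_pos hu]; ring
    · rw [if_neg (fun h => hu (h2.1 h)), if_neg hu]
      obtain ⟨v, hv, hv'⟩ := F.exists_conj_mul u.2.1 hu ha
      have h3 : (χ : G → ℂ) (a * u) = (χ : G → ℂ) u := by
        rw [← hv']; exact Blocks.Basic.irr_conj χ.2 u v
      rw [h3]; ring
  have hΓ0 : ∑ u : T, Γ u = 0 := by
    have h1 : ∑ u : T, Γ u = ∑ u : T, Γ (aT * u) :=
      (Fintype.sum_equiv (Equiv.mulLeft aT) _ _ fun u => rfl).symm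
    rw [Finset.sum_congr rfl fun u _ => hΓ1 u, Finset.sum_neg_distrib] at h1
    exact self_eq_neg.1 h1
  have hval : ∀ x ∈ A, x ≠ 1 → (χ : G → ℂ) x = (χ : G → ℂ) a := by
    intro x hx hx1
    obtain ⟨k, hk⟩ := F.exists_pow_conj ha ha1 hx hx1
    rw [← hk]; exact Blocks.Basic.irr_conj χ.2 a _
  have hsum : ∑ u : T, ((χ : G → ℂ) ∘ T.subtype) u * starRingEnd ℂ (φ u : ℂ) =
      (χ : G → ℂ) 1 - (χ : G → ℂ) a := by
    have h1 : ∀ u : T, ((χ : G → ℂ) ∘ T.subtype) u * starRingEnd ℂ (φ u : ℂ) =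
        Γ u + (if u = 1 then (χ : G → ℂ) 1 - (χ : G → ℂ) a else 0) := by
      intro u
      by_cases hu1 : u = 1
      · rw [if_pos hu1, hu1]
        simp only [hΓ, Function.comp_apply, map_one, OneMemClass.coe_one, Units.val_one]
        rw [if_pos (one_mem _)]; ring
      · rw [if_neg hu1, add_zero]
        simp only [hΓ, Function.comp_apply]
        by_cases hu : (u : G) ∈ A
        · rw [if_pos hu]
          have : (χ : G → ℂ) (T.subtype u) = (χ : G → ℂ) a :=
            hval _ hu (fun h => hu1 (Subtype.ext h))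
          rw [this]
        · rw [if_neg hu]; rfl
    rw [Finset.sum_congr rfl fun u _ => h1 u, Finset.sum_add_distrib, hΓ0, zero_add,
      Finset.sum_ite_eq', if_pos (Finset.mem_univ _)]
  have h2 : (16 : ℂ)⁻¹ * ((χ : G → ℂ) 1 - (χ : G → ℂ) a) = n := by
    rw [← hn, ← hsum, ← hcardT]
    rfl
  refine ⟨n, ?_⟩
  push_cast
  rw [← h2]; ring

/-- `{u ∈ S | [s, u] ∈ ⟨a⟩}` -/
noncomputable def pa {a : G} (ha : a ∈ A) {s : G} (hs : s ∈ S) : Subgroup S :=
  (zpowers (⟨a, ha⟩ : A)).comap (F.cm hs)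

theorem mem_zpowers_aA {a : G} (ha : a ∈ A) {x : A} :
    x ∈ zpowers (⟨a, ha⟩ : A) ↔ (x : G) = 1 ∨ (x : G) = a := by
  constructor
  · rintro ⟨n, hn⟩
    have hn : (⟨a, ha⟩ : A) ^ n = x := hn
    have h2 : (⟨a, ha⟩ : A) ^ (2 : ℤ) = 1 := by
      rw [zpow_two]; exact Subtype.ext (F.sq a ha)
    rcases Int.even_or_odd' n with ⟨m, rfl | rfl⟩
    · left
      rw [zpow_mul, h2, one_zpow] at hn
      rw [← hn]; rfl
    · right
      rw [zpow_add, zpow_mul, h2, one_zpow, one_mul, zpow_one] at hn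
      rw [← hn]
  · rintro (h | h)
    · have : x = 1 := Subtype.ext h
      rw [this]; exact one_mem _
    · have : x = ⟨a, ha⟩ := Subtype.ext h
      rw [this]; exact mem_zpowers _

theorem index_zpowers_aA {a : G} (ha : a ∈ A) (ha1 : a ≠ 1) : (zpowers (⟨a, ha⟩ : A)).index = 2 := by
  have h1 := (zpowers (⟨a, ha⟩ : A)).card_mul_index
  have h2 : orderOf (⟨a, ha⟩ : A) = 2 := by
    apply orderOf_eq_prime
    · rw [pow_two]; exact Subtype.ext (F.sq a ha)
    · exact fun h => ha1 (congrArg Subtype.val h)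
  rw [Nat.card_zpowers, h2, F.cardA] at h1
  omega

theorem index_pa {a : G} (ha : a ∈ A) (ha1 : a ≠ 1) {s : G} (hs : s ∈ S) (hsA : s ∉ A) :
    (F.pa ha hs).index = 2 := by
  rw [pa, index_comap_of_surjective _ (F.cm_surj hs hsA), F.index_zpowers_aA ha ha1]

theorem mem_pa {a : G} (ha : a ∈ A) {s : G} (hs : s ∈ S) {u : S} : u ∈ F.pa ha hs ↔
    s * u * s⁻¹ * (u : G)⁻¹ = 1 ∨ s * u * s⁻¹ * (u : G)⁻¹ = a := by
  rw [pa, mem_comap, F.mem_zpowers_aA ha, cm_apply]

theorem cm_mul {s t : G} (hs : s ∈ S) (ht : t ∈ S) (u : S) :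
    F.cm (mul_mem hs ht) u = F.cm hs u * F.cm ht u := by
  apply Subtype.ext
  show s * t * u * (s * t)⁻¹ * (u : G)⁻¹ = (s * u * s⁻¹ * (u : G)⁻¹) * (t * u * t⁻¹ * (u : G)⁻¹)
  have h1 := F.cen _ (F.comm t ht u u.2) s hs
  have h2 := F.comm_A (F.comm t ht u u.2) (F.comm s hs u u.2)
  calc s * t * u * (s * t)⁻¹ * (u : G)⁻¹ = s * (t * u * t⁻¹ * (u : G)⁻¹) * (u * s⁻¹ * (u : G)⁻¹) := by
        group
    _ = (t * u * t⁻¹ * (u : G)⁻¹) * s * (u * s⁻¹ * (u : G)⁻¹) := by rw [h1]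
    _ = (t * u * t⁻¹ * (u : G)⁻¹) * (s * u * s⁻¹ * (u : G)⁻¹) := by group
    _ = _ := h2

/-- in `t^⊥` there are `i, j` with `[i, j] ∉ ⟨a⟩`. -/
theorem exists_pair {a t : G} (ha : a ∈ A) (ha1 : a ≠ 1) (ht : t ∈ S) (htA : t ∉ A) :
    ∃ i j : S, i ∈ F.pa ha ht ∧ j ∈ F.pa ha ht ∧ j ∉ F.pa ha i.2 := by
  by_contra hcon
  push Not at hcon
  -- choose `i`
  have hcard : Nat.card (F.pa ha ht) = 32 := by
    have h1 := (F.pa ha ht).card_mul_index
    rw [F.index_pa ha ha1 ht htA, F.cardS] at h1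
    omega
  obtain ⟨i, hi, hib⟩ : ∃ i ∈ F.pa ha ht, (i : G) ∉ F.bt ht := by
    by_contra h
    push Not at h
    have h1 : (F.pa ha ht).map S.subtype ≤ S ⊓ centralizer ({t} : Set G) := by
      rintro _ ⟨x, hx, rfl⟩
      exact F.bt_le ht (h x hx)
    have h2 := Nat.card_le_card_of_injective _ (inclusion_injective h1)
    rw [F.card_centralizer ht htA, Nat.card_congr ((F.pa ha ht).equivMapOfInjective _
      S.subtype_injective).toEquiv.symm, hcard] at h2
    omega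
  have hiA : (i : G) ∉ A := fun h => hib (Or.inl h)
  have hle : F.pa ha ht ≤ F.pa ha i.2 := fun j hj => hcon i j hi hj
  have heq : F.pa ha ht = F.pa ha i.2 := by
    apply eq_of_le_of_card_ge hle
    have h1 := (F.pa ha i.2).card_mul_index
    rw [F.index_pa ha ha1 i.2 hiA, F.cardS] at h1
    omega
  have hitA : (i : G) * t ∉ A := by
    intro h
    apply hib
    right
    have h1 : (i : G) * t⁻¹ = (i : G) * t * (t * t)⁻¹ := by group
    rw [h1]
    exact mul_mem h (inv_mem (F.sq_mem ht))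
  have h2 : F.pa ha (mul_mem i.2 ht) = ⊤ := by
    rw [eq_top_iff]
    intro v _
    show F.cm (mul_mem i.2 ht) v ∈ zpowers (⟨a, ha⟩ : A)
    rw [F.cm_mul i.2 ht v, Subgroup.mul_mem_iff_of_index_two (F.index_zpowers_aA ha ha1)]
    show v ∈ F.pa ha i.2 ↔ v ∈ F.pa ha ht
    rw [heq]
  have h3 := F.index_pa ha ha1 (mul_mem i.2 ht) hitA
  rw [h2, index_top] at h3
  omega

/-- the hypotheses on `D` (output of (Z1)-(Z4)) -/
structure DHyp (A : Subgroup G) (p : ℕ) (a b : G) (D : Subgroup G) : Prop where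
  p2 : p ≠ 2
  ha : a ∈ A
  ha1 : a ≠ 1
  hb : b ∈ A
  pgroup : IsPGroup p D
  ne : D ≠ ⊥
  norm : ∀ c ∈ centralizer ({a} : Set G), ∀ d ∈ D, c * d * c⁻¹ ∈ D
  inverts : ∀ d ∈ D, b * d * b⁻¹ = d⁻¹
  cent : ∀ y ∈ D, y ≠ 1 → centralizer ({y} : Set G) ≤ centralizer ({a} : Set G)

namespace DHyp

variable {p : ℕ} [hp : Fact p.Prime] {a b : G} {D : Subgroup G} (h : DHyp A p a b D)
include F h

theorem odd : Odd (Nat.card D) := odd_of_isPGroup hp.out h.p2 h.pgroup

theorem a_comm {d : G} (hd : d ∈ D) : a * d = d * a := by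
  by_cases h1 : d = 1
  · rw [h1, mul_one, one_mul]
  · exact (mem_centralizer_singleton_iff.1 (h.cent d hd h1 (mem_centralizer_singleton_iff.2 rfl))).symm

theorem comm {d e : G} (hd : d ∈ D) (he : e ∈ D) : d * e = e * d := by
  have h1 := h.inverts (d * e) (mul_mem hd he)
  have h2 : b * (d * e) * b⁻¹ = (b * d * b⁻¹) * (b * e * b⁻¹) := by group
  rw [h2, h.inverts d hd, h.inverts e he, mul_inv_rev] at h1
  have h3 : (d⁻¹ * e⁻¹)⁻¹ = (e⁻¹ * d⁻¹)⁻¹ := by rw [h1]
  simpa using h3.symm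

theorem eq_one_of_inv {d : G} (hd : d ∈ D) (h1 : d = d⁻¹) : d = 1 := by
  apply Classification.TypeB.Basic.eq_one_of_sq (h.odd F) hd
  nth_rewrite 2 [h1]
  exact mul_inv_cancel d

theorem exists_ne : ∃ d ∈ D, d ≠ 1 := by
  by_contra hcon
  push Not at hcon
  exact h.ne (eq_bot_iff.2 fun x hx => mem_bot.2 (hcon x hx))

theorem inverts_of_mem {x : G} (hx : x ∈ A) (hx1 : x ≠ 1) (hxa : x ≠ a) :
    ∀ d ∈ D, x * d * x⁻¹ = d⁻¹ := by
  intro d hd
  obtain ⟨e, he, he1⟩ := h.exists_ne F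
  have hb1 : b ≠ 1 := by
    rintro rfl
    have := h.inverts e he
    rw [one_mul, inv_one, mul_one] at this
    exact he1 (h.eq_one_of_inv F he this)
  have hba : b ≠ a := by
    rintro rfl
    have h1 := h.inverts e he
    rw [h.a_comm F he, mul_assoc, mul_inv_cancel, mul_one] at h1
    exact he1 (h.eq_one_of_inv F he h1)
  obtain ⟨c, hc, hc1, hca, hac, hcases⟩ := F.exists_ne_A h.ha h.ha1
  have hab : ∀ d ∈ D, (a * b) * d * (a * b)⁻¹ = d⁻¹ := by
    intro d hd
    have h1 : (a * b) * d * (a * b)⁻¹ = a * (b * d * b⁻¹) * a⁻¹ := by group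
    rw [h1, h.inverts d hd, h.a_comm F (inv_mem hd), mul_assoc, mul_inv_cancel, mul_one]
  -- `x = b` or `x = a b`
  have hx' : x = b ∨ x = a * b := by
    rcases hcases b h.hb with h1 | h1 | h1 | h1
    · exact absurd h1 hb1
    · exact absurd h1 hba
    · rcases hcases x hx with h2 | h2 | h2 | h2
      · exact absurd h2 hx1
      · exact absurd h2 hxa
      · left; rw [h1, h2]
      · right; rw [h1, h2]
    · rcases hcases x hx with h2 | h2 | h2 | h2
      · exact absurd h2 hx1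
      · exact absurd h2 hxa
      · right; rw [h1, h2, ← mul_assoc, F.sq a h.ha, one_mul]
      · left; rw [h1, h2]
  rcases hx' with rfl | rfl
  · exact h.inverts d hd
  · exact hab d hd

theorem S_norm {s : G} (hs : s ∈ S) {d : G} (hd : d ∈ D) : s * d * s⁻¹ ∈ D :=
  h.norm s (F.S_le_centralizer h.ha hs) d hd

/-- the fixed points of `t` -/
theorem fix_ne_one {t : G} (ht : t ∈ S) (htA : t ∉ A) (htt : t * t = a) :
    ∃ y ∈ D, y ≠ 1 ∧ y * t = t * y := by
  by_contra hcon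
  push Not at hcon
  have htt2 : ∀ d ∈ D, t * (t * d * t⁻¹) * t⁻¹ = d := by
    intro d hd
    have h1 : t * (t * d * t⁻¹) * t⁻¹ = (t * t) * d * (t * t)⁻¹ := by group
    rw [h1, htt, h.a_comm F hd, mul_assoc, mul_inv_cancel, mul_one]
  have hinv : ∀ d ∈ D, t * d * t⁻¹ = d⁻¹ := by
    intro d hd
    have h1 : d * (t * d * t⁻¹) ∈ D := mul_mem hd (h.S_norm F ht hd)
    have h2 : t * (d * (t * d * t⁻¹)) * t⁻¹ = d * (t * d * t⁻¹) := by
      have h3 : t * (d * (t * d * t⁻¹)) * t⁻¹ = (t * d * t⁻¹) * (t * (t * d * t⁻¹) * t⁻¹) := by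
        group
      rw [h3, htt2 d hd]
      exact h.comm F (h.S_norm F ht hd) hd
    have h4 : d * (t * d * t⁻¹) = 1 := by
      by_contra hne
      apply hcon _ h1 hne
      calc d * (t * d * t⁻¹) * t = t * (d * (t * d * t⁻¹)) * t⁻¹ * t := by rw [h2]
        _ = t * (d * (t * d * t⁻¹)) := by group
    exact (inv_eq_of_mul_eq_one_right h4).symm
  obtain ⟨x, hx, hx'⟩ := F.surj t ht htA b h.hb
  obtain ⟨e, he, he1⟩ := h.exists_ne F
  apply he1
  apply h.eq_one_of_inv F he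
  -- `x t x⁻¹ = b⁻¹ t`
  have h1 : t = b * (x * t * x⁻¹) := by rw [← hx']; group
  have h2 : ∀ d ∈ D, (x * t * x⁻¹) * d * (x * t * x⁻¹)⁻¹ = d⁻¹ := by
    intro d hd
    have h3 : x⁻¹ * d * x ∈ D := by
      have := h.S_norm F (inv_mem hx) hd
      rwa [inv_inv] at this
    have h4 : (x * t * x⁻¹) * d * (x * t * x⁻¹)⁻¹ = x * (t * (x⁻¹ * d * x) * t⁻¹) * x⁻¹ := by group
    rw [h4, hinv _ h3]; group
  have h3 := hinv e he
  rw [h1] at h3
  have h4 : b * (x * t * x⁻¹) * e * (b * (x * t * x⁻¹))⁻¹ =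
      b * ((x * t * x⁻¹) * e * (x * t * x⁻¹)⁻¹) * b⁻¹ := by group
  rw [h4, h2 e he, h.inverts _ (inv_mem he), inv_inv] at h3
  exact h3

/-- `|D| ≥ 81`. -/
theorem card_ge {t : G} (ht : t ∈ S) (htA : t ∉ A) (htt : t * t = a) : 81 ≤ Nat.card D := by
  set W : Subgroup G := D ⊓ centralizer ({t} : Set G) with hW
  have hWD : W ≤ D := inf_le_left
  have hWt : ∀ w ∈ W, t * w * t⁻¹ = w := by
    intro w hw
    have := mem_centralizer_singleton_iff.1 hw.2
    rw [← this]; group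
  have hWp : IsPGroup p W := h.pgroup.to_le hWD
  obtain ⟨y, hy, hy1, hyt⟩ := h.fix_ne_one F ht htA htt
  have hyW : y ∈ W := ⟨hy, mem_centralizer_singleton_iff.2 hyt⟩
  -- `|W| ≥ 9`
  have hW9 : 9 ≤ Nat.card W := by
    obtain ⟨k, hk⟩ := IsPGroup.iff_card.1 hWp
    have hp3 : 3 ≤ p := by
      have := hp.out.two_le
      have := h.p2
      omega
    rcases Nat.lt_or_ge k 2 with hk2 | hk2
    · exfalso
      have hk0 : k ≠ 0 := by
        rintro rfl
        rw [pow_zero, Subgroup.card_eq_one] at hk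
        rw [hk, mem_bot] at hyW
        exact hy1 hyW
      have hk1 : k = 1 := by omega
      rw [hk1, pow_one] at hk
      have hcyc : IsCyclic W := isCyclic_of_prime_card hk
      obtain ⟨i, j, hi, hj, hij⟩ := F.exists_pair h.ha h.ha1 ht htA
      have hact : ∀ u : S, u ∈ F.pa h.ha ht → ∃ m : ℤ, ∀ w ∈ W, (u : G) * w * (u : G)⁻¹ = w ^ m := by
        intro u hu
        have h1 := (F.mem_pa h.ha ht).1 hu
        have hmem : ∀ w ∈ W, (u : G) * w * (u : G)⁻¹ ∈ W := by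
          intro w hw
          refine mem_inf.2 ⟨h.S_norm F u.2 (hWD hw), ?_⟩
          rw [mem_centralizer_singleton_iff]
          -- `t u = z u t`, `z ∈ {1, a}`
          obtain ⟨z, hz, hzw⟩ : ∃ z : G, t * u = z * u * t ∧
              ∀ v ∈ D, z * v = v * z := by
            rcases h1 with h1 | h1
            · refine ⟨1, ?_, fun v _ => by rw [one_mul, mul_one]⟩
              calc t * u = (t * u * t⁻¹ * (u : G)⁻¹) * u * t := by group
                _ = 1 * u * t := by rw [h1]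
            · refine ⟨a, ?_, fun v hv => h.a_comm F hv⟩
              calc t * u = (t * u * t⁻¹ * (u : G)⁻¹) * u * t := by group
                _ = a * u * t := by rw [h1]
          have h2 := h.S_norm F u.2 (hWD hw)
          have h3 : t * ((u : G) * w * (u : G)⁻¹) = ((u : G) * w * (u : G)⁻¹) * t := by
            have h6 : (t * u) * w * (t * u)⁻¹ = (u : G) * w * (u : G)⁻¹ := by
              rw [hz]
              have h7 : z * u * t * w * (z * u * t)⁻¹ =
                  z * ((u : G) * (t * w * t⁻¹) * (u : G)⁻¹) * z⁻¹ := by group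
              rw [h7, hWt w hw, hzw _ h2]; group
            calc t * ((u : G) * w * (u : G)⁻¹) = (t * u) * w * (t * u)⁻¹ * t := by group
              _ = ((u : G) * w * (u : G)⁻¹) * t := by rw [h6]
          exact h3.symm
        let σ : W →* W :=
          { toFun := fun w => ⟨(u : G) * w * (u : G)⁻¹, hmem w w.2⟩
            map_one' := by apply Subtype.ext; simp
            map_mul' := fun v w => by
              apply Subtype.ext
              show (u : G) * ((v : G) * w) * (u : G)⁻¹ =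
                ((u : G) * v * (u : G)⁻¹) * ((u : G) * w * (u : G)⁻¹)
              group }
        obtain ⟨m, hm⟩ := MonoidHom.map_cyclic σ
        exact ⟨m, fun w hw => congrArg Subtype.val (hm ⟨w, hw⟩)⟩
      obtain ⟨m, hm⟩ := hact i hi
      obtain ⟨n, hn⟩ := hact j hj
      -- `[i, j]` inverts `D` but acts trivially on `W`
      have h1 : (i : G) * j * (i : G)⁻¹ * (j : G)⁻¹ ∈ A := F.comm i i.2 j j.2
      have h2 := (not_congr (F.mem_pa h.ha i.2)).1 hij
      push Not at h2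
      have h3 := h.inverts_of_mem F h1 h2.1 h2.2 y hy
      have h5 : (i : G) * j * (i : G)⁻¹ * (j : G)⁻¹ * y * ((i : G) * j * (i : G)⁻¹ * (j : G)⁻¹)⁻¹ =
          y := by
        -- apply the commutation to `(j i)⁻¹ y (j i)`
        have h7 : ∀ w ∈ W, (i : G) * ((j : G) * w * (j : G)⁻¹) * (i : G)⁻¹ =
            (j : G) * ((i : G) * w * (i : G)⁻¹) * (j : G)⁻¹ := by
          intro w hw
          rw [hn w hw, hm w hw, hm _ (zpow_mem hw n), hn _ (zpow_mem hw m), ← zpow_mul,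
            ← zpow_mul, mul_comm]
        have hinvm : ∀ u : S, u ∈ F.pa h.ha ht → ∀ w ∈ W, (u : G)⁻¹ * w * (u : G) ∈ W := by
          intro u hu w hw
          obtain ⟨m', hm'⟩ := hact u⁻¹ (inv_mem hu)
          have := hm' w hw
          rw [InvMemClass.coe_inv, inv_inv] at this
          rw [this]; exact zpow_mem hw m'
        have h8 := h7 _ (hinvm i hi _ (hinvm j hj y hyW))
        calc (i : G) * j * (i : G)⁻¹ * (j : G)⁻¹ * y * ((i : G) * j * (i : G)⁻¹ * (j : G)⁻¹)⁻¹ =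
            (i : G) * ((j : G) * ((i : G)⁻¹ * ((j : G)⁻¹ * y * j) * i) * (j : G)⁻¹) * (i : G)⁻¹ := by
              group
          _ = (j : G) * ((i : G) * ((i : G)⁻¹ * ((j : G)⁻¹ * y * j) * i) * (i : G)⁻¹) * (j : G)⁻¹ := h8
          _ = y := by group
      rw [h5] at h3
      exact hy1 (h.eq_one_of_inv F hy h3)
    · rw [hk]
      calc 9 = 3 ^ 2 := by norm_num
        _ ≤ p ^ 2 := Nat.pow_le_pow_left hp3 2
        _ ≤ p ^ k := Nat.pow_le_pow_right (by omega) hk2
  -- `|W|² ≤ |D|`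
  obtain ⟨x, hx, hx'⟩ := F.surj t ht htA b h.hb
  have hxt : x⁻¹ * t * x = b * t := by
    have h1 : t * x = b * (x * t) := by rw [← hx']; group
    have h2 := F.cen b h.hb x hx
    calc x⁻¹ * t * x = x⁻¹ * (t * x) := by group
      _ = x⁻¹ * (b * x) * t := by rw [h1]; group
      _ = x⁻¹ * (x * b) * t := by rw [h2]
      _ = b * t := by group
  have hinj : Function.Injective (fun w : W × W => (⟨(w.1 : G) * (x * w.2 * x⁻¹),
      mul_mem (hWD w.1.2) (h.S_norm F hx (hWD w.2.2))⟩ : D)) := by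
    rintro ⟨w1, w2⟩ ⟨v1, v2⟩ heq
    have heq : (w1 : G) * (x * w2 * x⁻¹) = (v1 : G) * (x * v2 * x⁻¹) := congrArg Subtype.val heq
    have h1 : (v1 : G)⁻¹ * w1 = x * ((v2 : G) * (w2 : G)⁻¹) * x⁻¹ := by
      calc (v1 : G)⁻¹ * w1 = (v1 : G)⁻¹ * ((w1 : G) * (x * w2 * x⁻¹)) * (x * w2 * x⁻¹)⁻¹ := by group
        _ = (v1 : G)⁻¹ * ((v1 : G) * (x * v2 * x⁻¹)) * (x * w2 * x⁻¹)⁻¹ := by rw [heq]
        _ = _ := by group
    have h2 : (v1 : G)⁻¹ * w1 ∈ W := mul_mem (inv_mem v1.2) w1.2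
    have h3 := hWt _ h2
    have h4 : (v2 : G) * (w2 : G)⁻¹ ∈ W := mul_mem v2.2 (inv_mem w2.2)
    have h5 : t * (x * ((v2 : G) * (w2 : G)⁻¹) * x⁻¹) * t⁻¹ =
        (x * ((v2 : G) * (w2 : G)⁻¹) * x⁻¹)⁻¹ := by
      have h6 : t * (x * ((v2 : G) * (w2 : G)⁻¹) * x⁻¹) * t⁻¹ =
          x * ((x⁻¹ * t * x) * ((v2 : G) * (w2 : G)⁻¹) * (x⁻¹ * t * x)⁻¹) * x⁻¹ := by group
      have h7 : (b * t) * ((v2 : G) * (w2 : G)⁻¹) * (b * t)⁻¹ =
          b * (t * ((v2 : G) * (w2 : G)⁻¹) * t⁻¹) * b⁻¹ := by group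
      rw [h6, hxt, h7, hWt _ h4, h.inverts _ (hWD h4)]; group
    rw [← h1, h3] at h5
    have h8 := h.eq_one_of_inv F (hWD h2) h5
    have h9 : (w1 : G) = v1 := (inv_mul_eq_one.1 h8).symm
    rw [h8] at h1
    have h10 : (v2 : G) * (w2 : G)⁻¹ = 1 := by
      calc (v2 : G) * (w2 : G)⁻¹ = x⁻¹ * (x * ((v2 : G) * (w2 : G)⁻¹) * x⁻¹) * x := by group
        _ = 1 := by rw [← h1]; group
    have h11 : (w2 : G) = v2 := (mul_inv_eq_one.1 h10).symm
    exact Prod.ext (Subtype.ext h9) (Subtype.ext h11)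
  have h1 := Nat.card_le_card_of_injective _ hinj
  rw [Nat.card_prod] at h1
  calc 81 = 9 * 9 := by norm_num
    _ ≤ Nat.card W * Nat.card W := Nat.mul_le_mul hW9 hW9
    _ ≤ Nat.card D := h1

theorem not_isConj {x : G} (hx : x ∈ A) (hxD : ∀ d ∈ D, x * d = d * x) : x = 1 ∨ x = a := by
  by_contra hcon
  push Not at hcon
  obtain ⟨e, he, he1⟩ := h.exists_ne F
  have h1 := h.inverts_of_mem F hx hcon.1 hcon.2 e he
  rw [hxD e he, mul_assoc, mul_inv_cancel, mul_one] at h1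
  exact he1 (h.eq_one_of_inv F he h1)

/-- elements of `S` which centralise `D` -/
theorem S_cent {s : G} (hs : s ∈ S) (hsD : ∀ d ∈ D, s * d = d * s) : s = 1 ∨ s = a := by
  by_cases hsA : s ∈ A
  · exact h.not_isConj F hsA hsD
  · exfalso
    obtain ⟨c, hc, hc1, hca, -, -⟩ := F.exists_ne_A h.ha h.ha1
    obtain ⟨u, hu, hu'⟩ := F.surj s hs hsA c hc
    have h1 : ∀ d ∈ D, c * d = d * c := by
      intro d hd
      have h2 : (u * s⁻¹ * u⁻¹) * d = d * (u * s⁻¹ * u⁻¹) := by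
        have h3 : u⁻¹ * d * u ∈ D := by
          have := h.S_norm F (inv_mem hu) hd
          rwa [inv_inv] at this
        have h4 := hsD _ h3
        calc (u * s⁻¹ * u⁻¹) * d = u * (s⁻¹ * ((u⁻¹ * d * u) * s) * s⁻¹) * u⁻¹ := by group
          _ = u * (s⁻¹ * (s * (u⁻¹ * d * u)) * s⁻¹) * u⁻¹ := by rw [h4]
          _ = d * (u * s⁻¹ * u⁻¹) := by group
      have h5 : c = s * (u * s⁻¹ * u⁻¹) := by rw [← hu']; group
      rw [h5, mul_assoc, h2, ← mul_assoc, hsD d hd, mul_assoc]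
    rcases h.not_isConj F hc h1 with h2 | h2
    · exact hc1 h2
    · exact hca h2

/-- `C(D) ∩ C(a) ≤ O(C(a)) ⟨a⟩` -/
theorem cent_le {x : G} (hx : x ∈ centralizer ({a} : Set G)) (hxD : ∀ d ∈ D, x * d = d * x) :
    x ∈ oc (centralizer ({a} : Set G)) ∨ a * x ∈ oc (centralizer ({a} : Set G)) := by
  have h2f : Fact (Nat.Prime 2) := ⟨Nat.prime_two⟩
  set C := centralizer ({a} : Set G) with hC
  set X : Subgroup G := centralizer (D : Set G) ⊓ C with hX
  have hXC : X ≤ C := inf_le_right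
  have hmemX : ∀ {g : G}, g ∈ X ↔ (∀ d ∈ D, g * d = d * g) ∧ g ∈ C := by
    intro g
    rw [hX, mem_inf, mem_centralizer_iff]
    constructor
    · rintro ⟨h1, h2⟩
      exact ⟨fun d hd => (h1 d hd).symm, h2⟩
    · rintro ⟨h1, h2⟩
      exact ⟨fun d hd => (h1 d hd).symm, h2⟩
  have hxX : x ∈ X := hmemX.2 ⟨hxD, hx⟩
  have haX : a ∈ X := hmemX.2 ⟨fun d hd => h.a_comm F hd, mem_centralizer_singleton_iff.2 rfl⟩
  have hCX : C ≤ normalizer (X : Set G) := by
    intro c hc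
    apply mem_normalizer_of_conj
    intro g hg
    obtain ⟨h1, h2⟩ := hmemX.1 hg
    refine hmemX.2 ⟨?_, mul_mem (mul_mem hc h2) (inv_mem hc)⟩
    intro d hd
    have h3 : c⁻¹ * d * c ∈ D := by
      have := h.norm c⁻¹ (inv_mem hc) d hd
      rwa [inv_inv] at this
    have h4 := h1 _ h3
    calc c * g * c⁻¹ * d = c * (g * (c⁻¹ * d * c)) * c⁻¹ := by group
      _ = c * ((c⁻¹ * d * c) * g) * c⁻¹ := by rw [h4]
      _ = d * (c * g * c⁻¹) := by group
  -- a Sylow 2-subgroup of `X` is contained in `⟨a⟩`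
  obtain ⟨P⟩ : Nonempty (Sylow 2 X) := inferInstance
  have hPa : ∀ q : X, q ∈ (P : Subgroup X) → (q : G) = 1 ∨ (q : G) = a := by
    intro q hq
    have h1 : ¬ 2 ∣ S.relIndex C := fun hd =>
      F.sylow (hd.trans (relIndex_dvd_index_of_le (F.S_le_centralizer h.ha)))
    have h2 : IsPGroup 2 ((P : Subgroup X).map X.subtype) := P.isPGroup'.map _
    obtain ⟨c, hc, hcS⟩ := OddOrderLocal.TypeITrich.exists_conj_le_of_not_dvd_relIndex h1
      ((map_subtype_le (P : Subgroup X)).trans hXC) h2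
    have h3 : c * q * c⁻¹ ∈ S := hcS ⟨q, ⟨q, hq, rfl⟩, rfl⟩
    have h4 : c * q * c⁻¹ ∈ X := conj_mem_of_mem_normalizer (hCX hc) q.2
    have hcac : c⁻¹ * a * c = a := by
      have := mem_centralizer_singleton_iff.1 (inv_mem hc)
      rw [this]; group
    rcases h.S_cent F h3 (hmemX.1 h4).1 with h5 | h5
    · left
      calc (q : G) = c⁻¹ * (c * q * c⁻¹) * c := by group
        _ = 1 := by rw [h5]; group
    · right
      calc (q : G) = c⁻¹ * (c * q * c⁻¹) * c := by group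
        _ = a := by rw [h5, hcac]
  have hN : normalizer ((P : Subgroup X) : Set X) ≤ centralizer ((P : Subgroup X) : Set X) := by
    intro g _
    apply mem_centralizer_coe
    intro q hq
    rcases hPa q hq with h1 | h1
    · rw [h1, mul_one, one_mul]
    · rw [h1]
      exact mem_centralizer_singleton_iff.1 (hXC g.2)
  have hidx := Blocks.SylowColumns.exists_index_pPrimeCore P hN
  have hidx2 := Blocks.PrincipalSection.index_pPrimeCore_eq hidx
  rw [← P.card_eq_multiplicity] at hidx2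
  have hcardP : Nat.card P ≤ 2 := by
    have h1 : (P : Subgroup X) ≤ zpowers (⟨a, haX⟩ : X) := by
      intro q hq
      rcases hPa q hq with h1 | h1
      · have : q = 1 := Subtype.ext h1
        rw [this]; exact one_mem _
      · have : q = ⟨a, haX⟩ := Subtype.ext h1
        rw [this]; exact mem_zpowers _
    have h2 := Nat.card_le_card_of_injective _ (inclusion_injective h1)
    have h3 : orderOf (⟨a, haX⟩ : X) ≤ 2 := by
      apply orderOf_le_of_pow_eq_one (by norm_num)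
      rw [pow_two]; exact Subtype.ext (F.sq a h.ha)
    rw [Nat.card_zpowers] at h2
    exact h2.trans h3
  -- the core of `X` lies in `O(C(a))`
  have hcore : ∀ q : X, q ∈ pPrimeCore 2 X → (q : G) ∈ oc C := by
    intro q hq
    have h1 : (pPrimeCore 2 X).map X.subtype ≤ oc X := by
      refine le_oc (map_subtype_le _) ?_ ?_
      · intro g hg
        apply mem_normalizer_of_conj
        rintro _ ⟨r, hr, rfl⟩
        exact ⟨⟨g, hg⟩ * r * ⟨g, hg⟩⁻¹, (Lib.Cores.pPrimeCore_normal 2).conj_mem _ hr _, rfl⟩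
      · rw [Nat.card_congr ((pPrimeCore 2 X).equivMapOfInjective _ X.subtype_injective).toEquiv.symm]
        exact Nat.coprime_two_right.1 (Lib.Cores.pPrimeCore_coprime 2)
    have h2 : oc X ≤ oc C := le_oc ((oc_le X).trans hXC) (hCX.trans (normalizer_le_oc X)) (odd_oc X)
    exact h2 (h1 ⟨q, hq, rfl⟩)
  have ha' : (⟨a, haX⟩ : X) ∉ pPrimeCore 2 X := fun hq =>
    h.ha1 (Classification.TypeB.Basic.eq_one_of_sq (odd_oc _) (hcore _ hq) (F.sq a h.ha))
  have hidx0 : (pPrimeCore 2 X).index ≠ 0 := Subgroup.index_ne_zero_of_finite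
  have hidx12 : (pPrimeCore 2 X).index = 1 ∨ (pPrimeCore 2 X).index = 2 := by omega
  rcases hidx12 with h1 | h1
  · exact absurd (by rw [index_eq_one.1 h1]; exact mem_top _) ha'
  · by_cases hxc : (⟨x, hxX⟩ : X) ∈ pPrimeCore 2 X
    · exact Or.inl (hcore _ hxc)
    · right
      have h2 := (Subgroup.mul_mem_iff_of_index_two h1 (a := (⟨a, haX⟩ : X)) (b := ⟨x, hxX⟩)).2
        (iff_of_false ha' hxc)
      exact hcore _ h2

/-- the 2-parts of the elements of `t O(C(a))` -/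
theorem exists_two_part {t o : G} (ht : t ∈ S) (ho : o ∈ oc (centralizer ({a} : Set G)))
    (h4 : ∃ k : ℕ, orderOf t = 2 ^ k) : ∃ z, IsPPart 2 (t * o) z ∧ IsConj t z := by
  have h2f : Fact (Nat.Prime 2) := ⟨Nat.prime_two⟩
  set C := centralizer ({a} : Set G) with hC
  have htC : t ∈ C := F.S_le_centralizer h.ha ht
  have hoC : o ∈ C := oc_le C ho
  obtain ⟨z, hz⟩ := Blocks.PPart.exists_isPPart 2 ((⟨t, htC⟩ : C) * ⟨o, hoC⟩)
  have hn : ((oc C).subgroupOf C).Normal :=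
    (normal_subgroupOf_iff_le_normalizer (oc_le C)).2 (le_normalizer_oc C)
  have hodd : ¬ 2 ∣ Nat.card ((oc C).subgroupOf C) := by
    rw [Nat.card_congr (subgroupOfEquivOfLe (oc_le C)).toEquiv]
    exact Classification.TypeB.Basic.not_two_dvd (odd_oc C)
  have h1 := isConj_of_isPPart hodd (t := (⟨t, htC⟩ : C)) (n := ⟨o, hoC⟩)
    (by rw [← Subgroup.orderOf_coe]; exact h4) (mem_subgroupOf.2 ho) hz
  refine ⟨z, Blocks.PPart.isPPart_coe hz, ?_⟩
  obtain ⟨c, hc⟩ := isConj_iff.1 h1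
  exact isConj_iff.2 ⟨c, congrArg Subtype.val hc⟩

theorem hK {t y : G} (ht : t ∈ S) (htA : t ∉ A) (htt : t * t = a) (hy : y ∈ D) (hy1 : y ≠ 1) :
    ∀ k ∈ centralizerPPrimeCore p y, ∃ z, IsPPart 2 (t * k) z ∧ IsConj t z := by
  intro k hk
  let Y := centralizer ({y} : Set G)
  obtain ⟨k', hk', rfl⟩ : ∃ k' : Y, k' ∈ pPrimeCore p Y ∧ (k' : G) = k := by
    obtain ⟨k', hk', h0⟩ := hk
    exact ⟨k', hk', h0⟩
  have hkC : (k' : G) ∈ centralizer ({a} : Set G) := h.cent y hy hy1 k'.2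
  have hkD : ∀ d ∈ D, (k' : G) * d = d * (k' : G) := by
    intro d hd
    have hdY : d ∈ Y := mem_centralizer_singleton_iff.2 (h.comm F hd hy)
    have h1 : k' * ⟨d, hdY⟩ * k'⁻¹ * (⟨d, hdY⟩ : Y)⁻¹ ∈ pPrimeCore p Y := by
      have h2 : k' * ⟨d, hdY⟩ * k'⁻¹ * (⟨d, hdY⟩ : Y)⁻¹ =
          k' * (⟨d, hdY⟩ * k'⁻¹ * (⟨d, hdY⟩ : Y)⁻¹) := by group
      rw [h2]
      exact mul_mem hk' ((Lib.Cores.pPrimeCore_normal p).conj_mem _ (inv_mem hk') _)
    have h2 : (k' : G) * d * (k' : G)⁻¹ * d⁻¹ ∈ D :=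
      mul_mem (h.norm _ hkC d hd) (inv_mem hd)
    have h3 : (k' : G) * d * (k' : G)⁻¹ * d⁻¹ ∈ (pPrimeCore p Y).map Y.subtype ⊓ D :=
      mem_inf.2 ⟨⟨_, h1, rfl⟩, h2⟩
    have h4 : (pPrimeCore p Y).map Y.subtype ⊓ D = ⊥ := by
      apply Disjoint.eq_bot
      apply disjoint_of_coprime_natCard
      rw [Nat.card_congr ((pPrimeCore p Y).equivMapOfInjective _ Y.subtype_injective).toEquiv.symm]
      obtain ⟨n, hn⟩ := IsPGroup.iff_card.1 h.pgroup
      rw [hn]
      exact (Lib.Cores.pPrimeCore_coprime p).pow_right n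
    rw [h4, mem_bot] at h3
    calc (k' : G) * d = ((k' : G) * d * (k' : G)⁻¹ * d⁻¹) * d * k' := by group
      _ = d * k' := by rw [h3, one_mul]
  have hord := F.orderOf_t htt h.ha h.ha1
  rcases h.cent_le F hkC hkD with h1 | h1
  · exact h.exists_two_part F ht h1 ⟨2, hord⟩
  · have hatS : a * t ∈ S := mul_mem (F.AS h.ha) ht
    have hatt : a * t * (a * t) = a := by
      have h2 := F.cen a h.ha t ht
      calc a * t * (a * t) = a * t * (t * a) := by rw [h2]
        _ = a * (t * t) * a := by group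
        _ = a := by rw [htt, F.sq a h.ha, one_mul]
    obtain ⟨z, hz1, hz2⟩ := h.exists_two_part F hatS h1 ⟨2, F.orderOf_t hatt h.ha h.ha1⟩
    have h3 : a * t * (a * (k' : G)) = t * (k' : G) := by
      have h2 := F.cen a h.ha t ht
      calc a * t * (a * (k' : G)) = t * (a * a) * (k' : G) := by rw [h2]; group
        _ = t * k' := by rw [F.sq a h.ha, mul_one]
    rw [h3] at hz1
    refine ⟨z, hz1, IsConj.trans ?_ hz2⟩
    obtain ⟨u, -, hu⟩ := F.exists_conj_mul ht htA h.ha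
    exact isConj_iff.2 ⟨u, hu⟩

theorem false : False := by
  have h2f : Fact (Nat.Prime 2) := ⟨Nat.prime_two⟩
  obtain ⟨t, ht, htA, htt⟩ := F.exists_sq_eq h.ha h.ha1
  obtain ⟨y, hy, hy1, hyt⟩ := h.fix_ne_one F ht htA htt
  have hnt : Nontrivial G := ⟨⟨a, 1, h.ha1⟩⟩
  have hsimple : IsSimpleGroup G := { eq_bot_or_eq_top_of_normal := fun H hH => F.simple H hH }
  have hord : orderOf a = 2 := by
    apply orderOf_eq_prime
    · rw [pow_two]; exact F.sq a h.ha
    · exact h.ha1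
  have hsolv : Group.IsSolvable (centralizer ({y} : Set G)) := by
    have := F.isSolvable_C h.ha h.ha1
    exact Group.isSolvable_of_isSolvable_injective (f := inclusion (h.cent y hy hy1))
      (inclusion_injective _)
  refine GoldM1Char.z5 p h.p2 a t hord ⟨2, F.orderOf_t htt h.ha h.ha1⟩
    (F.index_core_t ht htA) (F.index_core_a h.ha h.ha1) (F.exists_int h.ha h.ha1)
    (F.not_isConj_of_prod h.ha h.ha1 htt) D h.pgroup (h.card_ge F ht htA htt) ?_ h.cent y hy
    (show y * t = t * y from hyt) (Lib.PSolvable.IsPSolvable_of_solvable p)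
    (h.hK F ht htA htt hy hy1)
  -- `D ≤ O(C(a))`
  intro d hd
  have hDC : D ≤ centralizer ({a} : Set G) := fun e he =>
    mem_centralizer_singleton_iff.2 (h.a_comm F he).symm
  refine ⟨⟨d, hDC hd⟩, ?_, rfl⟩
  have h1 : D.subgroupOf (centralizer ({a} : Set G)) ≤ pPrimeCore 2 (centralizer ({a} : Set G)) := by
    apply Lib.Cores.le_pPrimeCore
    · refine ⟨fun x hx g => ?_⟩
      exact h.norm g g.2 x hx
    · rw [Nat.card_congr (subgroupOfEquivOfLe hDC).toEquiv]
      exact Nat.coprime_two_right.2 (h.odd F)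
  exact h1 (mem_subgroupOf.2 hd)

end DHyp

/-- **The contradiction of case Z** from the output of (Z1)-(Z4). -/
theorem z5_false {p : ℕ} [Fact p.Prime] (hp2 : p ≠ 2) {a b : G} (ha : a ∈ A) (ha1 : a ≠ 1)
    (hb : b ∈ A) (D : Subgroup G) (hDp : IsPGroup p D) (hD : D ≠ ⊥)
    (hDn : ∀ c ∈ centralizer ({a} : Set G), ∀ d ∈ D, c * d * c⁻¹ ∈ D)
    (hinv : ∀ d ∈ D, b * d * b⁻¹ = d⁻¹)
    (hDC : ∀ y ∈ D, y ≠ 1 → centralizer ({y} : Set G) ≤ centralizer ({a} : Set G)) : False :=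
  DHyp.false F ⟨hp2, ha, ha1, hb, hDp, hD, hDn, hinv, hDC⟩

end Frame

end frame

end Cfsg.Agent.TwoFusion.GoldM1
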