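import Mathlib

/-!
# Case [M1] of Goldschmidt's theorem: the 2-group of order 64

`Syl S A`: `S` is like a Sylow 2-subgroup of `PSU(3,4)` and `A = Z(S) = Ω₁(S)`.  Main results:
commuting is an equivalence relation on `S \ A` with classes `C_S(s) \ A`, `|C_S(s)| = 16`, and `S` contains no
quaternion group (`Syl.no_quat`).
-/

set_option autoImplicit false
set_option linter.style.haveILetI false

namespace Cfsg.Agent.TwoFusion.GoldM1

open Subgroup

variable {G : Type*} [Group G]

/-- `S` is like a Sylow 2-subgroup of `PSU(3,4)`, with centre `A`. -/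
structure Syl (S A : Subgroup G) : Prop where
  cardS : Nat.card S = 64
  AS : A ≤ S
  cardA : Nat.card A = 4
  cen : ∀ x ∈ A, ∀ s ∈ S, x * s = s * x
  sq : ∀ x ∈ A, x * x = 1
  inv : ∀ s ∈ S, s * s = 1 → s ∈ A
  comm : ∀ s ∈ S, ∀ u ∈ S, s * u * s⁻¹ * u⁻¹ ∈ A
  surj : ∀ s ∈ S, s ∉ A → ∀ x ∈ A, ∃ u ∈ S, s * u * s⁻¹ * u⁻¹ = x

/-- The commutator. -/
def k (x y : G) : G := x * y * x⁻¹ * y⁻¹

theorem k_eq_one_iff {x y : G} : k x y = 1 ↔ x * y = y * x := by
  unfold k
  constructor
  · intro h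
    calc x * y = x * y * x⁻¹ * y⁻¹ * (y * x) := by group
      _ = y * x := by rw [h, one_mul]
  · intro h
    rw [h]; group

namespace Syl

variable {S A : Subgroup G} (h : Syl S A)

include h

theorem finS : Finite S := Nat.finite_of_card_ne_zero (by rw [h.cardS]; norm_num)

theorem finA : Finite A := Nat.finite_of_card_ne_zero (by rw [h.cardA]; norm_num)

theorem mem_S {x : G} (hx : x ∈ A) : x ∈ S := h.AS hx

theorem k_mem {x y : G} (hx : x ∈ S) (hy : y ∈ S) : k x y ∈ A := h.comm x hx y hy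

theorem cenA {x y : G} (hx : x ∈ A) (hy : y ∈ A) : x * y = y * x := h.cen x hx y (h.AS hy)

theorem invA {x : G} (hx : x ∈ A) : x⁻¹ = x := inv_eq_of_mul_eq_one_left (h.sq x hx)

theorem k_mul_left {x y z : G} (hx : x ∈ S) (hy : y ∈ S) (hz : z ∈ S) : k (x * y) z = k x z * k y z := by
  have h1 := h.cen _ (h.k_mem hy hz) x hx
  have h2 := h.cen _ (h.k_mem hy hz) z hz
  unfold k at *
  calc x * y * z * (x * y)⁻¹ * z⁻¹ = x * (y * z * y⁻¹ * z⁻¹) * z * x⁻¹ * z⁻¹ := by group
    _ = (y * z * y⁻¹ * z⁻¹) * x * z * x⁻¹ * z⁻¹ := by rw [h1]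
    _ = (y * z * y⁻¹ * z⁻¹) * (x * z * x⁻¹ * z⁻¹) := by group
    _ = _ := h.cenA (h.k_mem hy hz) (h.k_mem hx hz)

theorem k_mul_right {x y z : G} (hx : x ∈ S) (hy : y ∈ S) (hz : z ∈ S) : k x (y * z) = k x y * k x z := by
  have h1 := h.cen _ (h.k_mem hx hz) y hy
  unfold k at *
  calc x * (y * z) * x⁻¹ * (y * z)⁻¹ = x * y * x⁻¹ * ((x * z * x⁻¹ * z⁻¹) * y⁻¹) := by group
    _ = x * y * x⁻¹ * (y⁻¹ * (x * z * x⁻¹ * z⁻¹)) := by
        have : (x * z * x⁻¹ * z⁻¹) * y⁻¹ = y⁻¹ * (x * z * x⁻¹ * z⁻¹) :=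
          h.cen _ (h.k_mem hx hz) _ (inv_mem hy)
        rw [this]
    _ = _ := by group

theorem k_symm {x y : G} (hx : x ∈ S) (hy : y ∈ S) : k y x = k x y := by
  have : k y x = (k x y)⁻¹ := by unfold k; group
  rw [this, h.invA (h.k_mem hx hy)]

omit h in
theorem k_self (x : G) : k x x = 1 := by unfold k; group

theorem k_A_left {x y : G} (hx : x ∈ A) (hy : y ∈ S) : k x y = 1 := k_eq_one_iff.2 (h.cen x hx y hy)

theorem k_A_right {x y : G} (hx : x ∈ S) (hy : y ∈ A) : k x y = 1 := k_eq_one_iff.2 (h.cen y hy x hx).symm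

/-- Squares lie in `A`. -/
theorem sq_mem {s : G} (hs : s ∈ S) : s * s ∈ A := by
  by_contra hn
  obtain ⟨x, hx, hx1⟩ : ∃ x ∈ A, x ≠ 1 := by
    by_contra hc
    push Not at hc
    have : A = ⊥ := (Subgroup.eq_bot_iff_forall A).2 hc
    have h4 := h.cardA
    rw [this] at h4
    simp at h4
  obtain ⟨u, hu, hux⟩ := h.surj (s * s) (mul_mem hs hs) hn x hx
  apply hx1
  have h1 : k (s * s) u = x := hux
  rw [← h1, h.k_mul_left hs hs hu, h.sq _ (h.k_mem hs hu)]

/-- The square of a product. -/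
theorem sq_mul {x y : G} (hx : x ∈ S) (hy : y ∈ S) : x * y * (x * y) = x * x * (y * y) * k x y := by
  have h1 := h.cen _ (h.k_mem hx hy)
  have e : x * y = k x y * (y * x) := by unfold k; group
  calc x * y * (x * y) = k x y * (y * x) * (x * y) := by rw [← e]
    _ = k x y * (y * (x * x) * y) := by group
    _ = k x y * ((x * x) * y * y) := by rw [(h.cen _ (h.sq_mem hx) y hy).symm]
    _ = (x * x) * (y * y) * k x y := by
        rw [mul_assoc (x * x) y y]
        exact h.cenA (h.k_mem hx hy) (mul_mem (h.sq_mem hx) (h.sq_mem hy))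

theorem sq_ne {s : G} (hs : s ∈ S) (hsA : s ∉ A) : s * s ≠ 1 := fun e => hsA (h.inv s hs e)

/-- The elements of `A`. -/
theorem mem_A {a b c : G} (ha : a ∈ A) (hb : b ∈ A) (ha1 : a ≠ 1) (hb1 : b ≠ 1) (hab : a ≠ b) (hc : c ∈ A) :
    c = 1 ∨ c = a ∨ c = b ∨ c = a * b := by
  haveI := h.finA
  by_contra hn
  push Not at hn
  obtain ⟨h1, h2, h3, h4⟩ := hn
  have hab1 : a * b ≠ 1 := by
    intro e
    apply hab
    rw [← h.invA hb]
    exact (inv_eq_of_mul_eq_one_left e).symm
  classical
  let f : Fin 5 → A := ![1, ⟨a, ha⟩, ⟨b, hb⟩, ⟨a * b, mul_mem ha hb⟩, ⟨c, hc⟩]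
  have hf : Function.Injective f := by
    intro i j hij
    have e := congrArg Subtype.val hij
    fin_cases i <;> fin_cases j <;> simp [f] at e ⊢
    all_goals first
      | exact ha1 e | exact ha1 e.symm | exact hb1 e | exact hb1 e.symm | exact hab e | exact hab e.symm
      | exact hab1 e | exact hab1 e.symm | exact h1 e | exact h1 e.symm | exact h2 e | exact h2 e.symm
      | exact h3 e | exact h3 e.symm | exact h4 e | exact h4 e.symm
  have := Nat.card_le_card_of_injective f hf
  rw [h.cardA] at this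
  simp at this

/-- `|C_S(s)| = 16` for `s ∈ S \ A`. -/
theorem card_cent {s : G} (hs : s ∈ S) (hsA : s ∉ A) : Nat.card (S ⊓ centralizer {s} : Subgroup G) = 16 := by
  haveI := h.finS
  haveI := h.finA
  let f : S →* A :=
    { toFun := fun u => ⟨k s u, h.k_mem hs u.2⟩
      map_one' := Subtype.ext (by simp [k])
      map_mul' := fun u v => Subtype.ext (h.k_mul_right hs u.2 v.2) }
  have hsurj : Function.Surjective f := by
    rintro ⟨x, hx⟩
    obtain ⟨u, hu, hux⟩ := h.surj s hs hsA x hx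
    exact ⟨⟨u, hu⟩, Subtype.ext hux⟩
  have h1 : Nat.card S = Nat.card f.ker * Nat.card f.range := by
    rw [← Subgroup.card_mul_index f.ker, Subgroup.index_ker]
  rw [MonoidHom.range_eq_top.2 hsurj, Subgroup.card_top, h.cardS, h.cardA] at h1
  have h2 : Nat.card (S ⊓ centralizer {s} : Subgroup G) = Nat.card f.ker := by
    have e : (S ⊓ centralizer {s} : Subgroup G) = f.ker.map S.subtype := by
      ext x
      simp only [mem_inf, mem_centralizer_singleton_iff, mem_map, MonoidHom.mem_ker, coe_subtype,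
        Subtype.exists, exists_and_right, exists_eq_right]
      constructor
      · rintro ⟨hx, hc⟩
        exact ⟨hx, Subtype.ext (k_eq_one_iff.2 hc.symm)⟩
      · rintro ⟨hx, hc⟩
        exact ⟨hx, (k_eq_one_iff.1 (congrArg Subtype.val hc)).symm⟩
    rw [e]
    exact (Nat.card_congr (f.ker.equivMapOfInjective S.subtype S.subtype_injective).toEquiv).symm
  rw [h2]
  omega

omit h in
theorem two_mul_card_le {P Q : Subgroup G} [Finite Q] (hPQ : P < Q) : 2 * Nat.card P ≤ Nat.card Q := by
  obtain ⟨c, hc⟩ := Subgroup.card_dvd_of_le hPQ.le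
  have hQ : 0 < Nat.card Q := Nat.card_pos
  have hP : 0 < Nat.card P := Nat.pos_of_ne_zero (by rintro e; rw [e] at hc; omega)
  have hc1 : c ≠ 1 := by
    rintro rfl
    exact absurd (Subgroup.eq_of_le_of_card_ge hPQ.le (by rw [hc, mul_one])) hPQ.ne
  have hc0 : c ≠ 0 := by rintro rfl; omega
  have : 2 ≤ c := by omega
  nlinarith

/-- `C_S(s) = C_S(t)` for commuting `s, t ∈ S \ A`. -/
theorem cent_eq {s t : G} (hs : s ∈ S) (hsA : s ∉ A) (ht : t ∈ S) (htA : t ∉ A) (hst : s * t = t * s) :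
    (S ⊓ centralizer {s} : Subgroup G) = S ⊓ centralizer {t} := by
  haveI := h.finS
  by_cases hA : s⁻¹ * t ∈ A
  · ext r
    simp only [mem_inf, mem_centralizer_singleton_iff]
    constructor
    · rintro ⟨hr, hc⟩
      refine ⟨hr, ?_⟩
      have h1 := h.cen _ hA r hr
      calc r * t = r * s * (s⁻¹ * t) := by group
        _ = s * r * (s⁻¹ * t) := by rw [hc]
        _ = s * (r * (s⁻¹ * t)) := by group
        _ = s * (s⁻¹ * t * r) := by rw [h1]
        _ = t * r := by group
    · rintro ⟨hr, hc⟩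
      refine ⟨hr, ?_⟩
      have h1 := h.cen _ (inv_mem hA) r hr
      calc r * s = r * t * (s⁻¹ * t)⁻¹ := by group
        _ = t * r * (s⁻¹ * t)⁻¹ := by rw [hc]
        _ = t * (r * (s⁻¹ * t)⁻¹) := by group
        _ = t * ((s⁻¹ * t)⁻¹ * r) := by rw [h1]
        _ = s * r := by group
  · set P : Subgroup G := A ⊔ zpowers s ⊔ zpowers t with hP
    have hAs : A ⊔ zpowers s ≤ S := sup_le h.AS (zpowers_le.2 hs)
    have hPS : P ≤ S := sup_le hAs (zpowers_le.2 ht)
    haveI : Finite P := Finite.of_injective _ (inclusion_injective hPS)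
    haveI : Finite (A ⊔ zpowers s : Subgroup G) := Finite.of_injective _ (inclusion_injective hAs)
    have hs' : s ∈ A ⊔ zpowers s := mem_sup_right (mem_zpowers s)
    have h1 : A < A ⊔ zpowers s := lt_of_le_of_ne le_sup_left (fun e => hsA (e ▸ hs'))
    have h2 : A ⊔ zpowers s < P := by
      refine lt_of_le_of_ne le_sup_left (fun e => ?_)
      have ht' : t ∈ A ⊔ zpowers s := e ▸ mem_sup_right (mem_zpowers t)
      -- every element of `A ⊔ zpowers s` lies in `A` or `sA`
      have key : ∀ x ∈ A ⊔ zpowers s, x ∈ A ∨ s⁻¹ * x ∈ A := by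
        intro x hx
        have : A ⊔ zpowers s ≤
            { carrier := {x | x ∈ A ∨ s⁻¹ * x ∈ A}
              one_mem' := Or.inl (one_mem _)
              mul_mem' := by
                rintro x y (hx | hx) (hy | hy)
                · exact Or.inl (mul_mem hx hy)
                · right
                  have : s⁻¹ * (x * y) = x * (s⁻¹ * y) := by
                    rw [← mul_assoc, ← mul_assoc, h.cen x hx _ (inv_mem hs)]
                  rw [this]; exact mul_mem hx hy
                · right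
                  have : s⁻¹ * (x * y) = (s⁻¹ * x) * y := by group
                  rw [this]; exact mul_mem hx hy
                · left
                  have e1 : x = s * (s⁻¹ * x) := by group
                  have e2 : x * y = (s⁻¹ * x) * (s * s) * (s⁻¹ * y) := by
                    calc x * y = s * (s⁻¹ * x) * s * (s⁻¹ * y) := by group
                      _ = (s⁻¹ * x) * s * s * (s⁻¹ * y) := by rw [h.cen _ hx s hs]
                      _ = _ := by group
                  rw [e2]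
                  exact mul_mem (mul_mem hx (h.sq_mem hs)) hy
              inv_mem' := by
                rintro x (hx | hx)
                · exact Or.inl (inv_mem hx)
                · right
                  have hss : (s * s)⁻¹ ∈ A := inv_mem (h.sq_mem hs)
                  have : s⁻¹ * x⁻¹ = (s⁻¹ * x)⁻¹ * (s * s)⁻¹ := by
                    have e := h.cen _ (inv_mem hx) s⁻¹ (inv_mem hs)
                    calc s⁻¹ * x⁻¹ = s⁻¹ * (s⁻¹ * x)⁻¹ * s⁻¹ := by group
                      _ = (s⁻¹ * x)⁻¹ * s⁻¹ * s⁻¹ := by rw [e]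
                      _ = _ := by group
                  rw [this]; exact mul_mem (inv_mem hx) hss } := by
          rw [sup_le_iff]
          refine ⟨fun x hx => Or.inl hx, ?_⟩
          rw [zpowers_le]
          right
          simp
        exact this hx
      rcases key t ht' with h' | h'
      · exact htA h'
      · exact hA h'
    have c1 := two_mul_card_le h1
    have c2 := two_mul_card_le h2
    rw [h.cardA] at c1
    have hcP : 16 ≤ Nat.card P := by omega
    have hPs : P ≤ S ⊓ centralizer {s} := by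
      refine le_inf hPS (sup_le (sup_le ?_ ?_) ?_)
      · intro x hx
        rw [mem_centralizer_singleton_iff]
        exact h.cen x hx s hs
      · rw [zpowers_le, mem_centralizer_singleton_iff]
      · rw [zpowers_le, mem_centralizer_singleton_iff]
        exact hst.symm
    have hPt : P ≤ S ⊓ centralizer {t} := by
      refine le_inf hPS (sup_le (sup_le ?_ ?_) ?_)
      · intro x hx
        rw [mem_centralizer_singleton_iff]
        exact h.cen x hx t ht
      · rw [zpowers_le, mem_centralizer_singleton_iff]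
        exact hst
      · rw [zpowers_le, mem_centralizer_singleton_iff]
    haveI : Finite (S ⊓ centralizer {s} : Subgroup G) := Finite.of_injective _ (inclusion_injective inf_le_left)
    haveI : Finite (S ⊓ centralizer {t} : Subgroup G) := Finite.of_injective _ (inclusion_injective inf_le_left)
    rw [← Subgroup.eq_of_le_of_card_ge hPs (by rw [h.card_cent hs hsA]; exact hcP),
      ← Subgroup.eq_of_le_of_card_ge hPt (by rw [h.card_cent ht htA]; exact hcP)]

/-- Commuting is transitive on `S \ A`. -/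
theorem trans {s t r : G} (hs : s ∈ S) (ht : t ∈ S) (htA : t ∉ A) (hr : r ∈ S)
    (hst : s * t = t * s) (htr : t * r = r * t) : s * r = r * s := by
  by_cases hsA : s ∈ A
  · exact h.cen s hsA r hr
  · have h1 : r ∈ (S ⊓ centralizer {t} : Subgroup G) := by
      rw [mem_inf, mem_centralizer_singleton_iff]
      exact ⟨hr, htr.symm⟩
    rw [← h.cent_eq hs hsA ht htA hst, mem_inf, mem_centralizer_singleton_iff] at h1
    exact h1.2.symm

/-- There is `u ∈ C_S(s)` outside `A ∪ sA`. -/
theorem exists_comm {s : G} (hs : s ∈ S) (hsA : s ∉ A) :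
    ∃ u ∈ S, s * u = u * s ∧ u ∉ A ∧ s * u ∉ A := by
  haveI := h.finS
  haveI := h.finA
  by_contra hn
  push Not at hn
  have key : ∀ x : (S ⊓ centralizer {s} : Subgroup G), (x : G) ∈ A ∨ s * (x : G) ∈ A := by
    rintro ⟨x, hx⟩
    rw [mem_inf, mem_centralizer_singleton_iff] at hx
    by_cases hxA : x ∈ A
    · exact Or.inl hxA
    · exact Or.inr (hn x hx.1 hx.2.symm hxA)
  classical
  let f : (S ⊓ centralizer {s} : Subgroup G) → A × Bool := fun x =>
    if hx : (x : G) ∈ A then (⟨x, hx⟩, true) else (⟨s * x, (key x).resolve_left hx⟩, false)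
  have hf : Function.Injective f := by
    intro x y hxy
    by_cases hx : (x : G) ∈ A <;> by_cases hy : (y : G) ∈ A <;> simp [f, hx, hy] at hxy
    · exact hxy
    · exact hxy
  have h1 := Nat.card_le_card_of_injective f hf
  rw [h.card_cent hs hsA, Nat.card_prod, h.cardA] at h1
  simp at h1

/-- The key computation. -/
theorem k_eq {p q u a b : G} (hp : p ∈ S) (hq : q ∈ S) (hu : u ∈ S) (ha1 : a ≠ 1) (hpp : p * p = a)
    (hpq : k p q = a) (huq : q * u = u * q) (huA : u ∉ A) (hquA : q * u ∉ A)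
    (hb : u * u = b) (hab : a ≠ b) : k u p = b := by
  have ha : a ∈ A := hpp ▸ h.sq_mem hp
  have hbA : b ∈ A := hb ▸ h.sq_mem hu
  have hb1 : b ≠ 1 := hb ▸ h.sq_ne hu huA
  have hpq' : ¬ p * q = q * p := fun e => ha1 (hpq ▸ k_eq_one_iff.2 e)
  rcases h.mem_A ha hbA ha1 hb1 hab (h.k_mem hu hp) with h1 | h1 | h1 | h1
  · -- `u` commutes with `p`
    exact absurd (h.trans hp hu huA hq (k_eq_one_iff.1 h1).symm huq.symm) hpq'
  · -- `q u` commutes with `p`
    exfalso
    have h2 : k (q * u) p = 1 := by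
      rw [h.k_mul_left hq hu hp, h1, h.k_symm hp hq, hpq, h.sq a ha]
    have h3 : q * u * q = q * (q * u) := by rw [mul_assoc, ← huq]
    exact hpq' (h.trans hp (mul_mem hq hu) hquA hq (k_eq_one_iff.1 h2).symm h3)
  · exact h1
  · exfalso
    have h2 : u * p * (u * p) = 1 := by
      rw [h.sq_mul hu hp, h1, hb, hpp, h.cenA hbA ha]
      exact h.sq _ (mul_mem ha hbA)
    have h3 := h.inv _ (mul_mem hu hp) h2
    -- `u p` is central, `u` commutes with `q`
    have h4 : k (u * p) q = 1 := h.k_A_left h3 hq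
    rw [h.k_mul_left hu hp hq, hpq, k_eq_one_iff.2 huq.symm, one_mul] at h4
    exact ha1 h4

/-- `S` contains no quaternion group. -/
theorem no_quat {v w a : G} (hv : v ∈ S) (hw : w ∈ S) (hvv : v * v = a) (hww : w * w = a)
    (hvw : v * w * (v * w) = a) : a = 1 := by
  by_contra ha1
  have ha : a ∈ A := hvv ▸ h.sq_mem hv
  have hvA : v ∉ A := fun hc => ha1 (hvv ▸ h.sq v hc)
  have hwA : w ∉ A := fun hc => ha1 (hww ▸ h.sq w hc)
  have haa := h.sq a ha
  have hk : k v w = a := by
    rw [h.sq_mul hv hw, hvv, hww, haa, one_mul] at hvw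
    exact hvw
  have hk' : k w v = a := by rw [h.k_symm hv hw, hk]
  obtain ⟨u, hu, hwu, huA, hwuA⟩ := h.exists_comm hw hwA
  obtain ⟨b, hb⟩ : ∃ b, u * u = b := ⟨_, rfl⟩
  have hbA : b ∈ A := hb ▸ h.sq_mem hu
  have hb1 : b ≠ 1 := hb ▸ h.sq_ne hu huA
  have hbb := h.sq b hbA
  have hab : a ≠ b := by
    rintro rfl
    apply h.sq_ne (mul_mem hw hu) hwuA
    rw [h.sq_mul hw hu, hww, hb, haa, one_mul]
    exact k_eq_one_iff.2 hwu
  have hab' : a * b ∈ A := mul_mem ha hbA
  have hba : b * a = a * b := h.cenA hbA ha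
  -- `u'` with `u' ∈ C_S(v)`, `u'² = b`
  obtain ⟨u', hu', hvu', hu'A, hvu'A, hb'⟩ : ∃ u' ∈ S, v * u' = u' * v ∧ u' ∉ A ∧ v * u' ∉ A ∧ u' * u' = b := by
    obtain ⟨x, hx, hvx, hxA, hvxA⟩ := h.exists_comm hv hvA
    have hk0 : k v x = 1 := k_eq_one_iff.2 hvx
    have hsq : v * x * (v * x) = a * (x * x) := by rw [h.sq_mul hv hx, hk0, mul_one, hvv]
    rcases h.mem_A ha hbA ha1 hb1 hab (h.sq_mem hx) with h1 | h1 | h1 | h1
    · exact absurd h1 (h.sq_ne hx hxA)
    · exact absurd (by rw [hsq, h1, haa]) (h.sq_ne (mul_mem hv hx) hvxA)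
    · exact ⟨x, hx, hvx, hxA, hvxA, h1⟩
    · refine ⟨v * x, mul_mem hv hx, by rw [mul_assoc, ← hvx], hvxA, ?_, ?_⟩
      · rw [← mul_assoc, hvv]
        intro hc
        apply hxA
        have := mul_mem ha hc
        rwa [← mul_assoc, haa, one_mul] at this
      · rw [hsq, h1, ← mul_assoc, haa, one_mul]
  have k1 : k u v = b := h.k_eq hv hw hu ha1 hvv hk hwu huA hwuA hb hab
  have k2 : k u' w = b := h.k_eq hw hv hu' ha1 hww hk' hvu' hu'A hvu'A hb' hab
  have k3 : k u w = 1 := k_eq_one_iff.2 hwu.symm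
  have k4 : k u' v = 1 := k_eq_one_iff.2 hvu'.symm
  have hne : a * b ≠ 1 := by
    intro e
    apply hab
    rw [← h.invA hbA]
    exact (inv_eq_of_mul_eq_one_left e).symm
  rcases h.mem_A ha hbA ha1 hb1 hab (h.k_mem hu hu') with h1 | h1 | h1 | h1
  · -- `c = 1`
    have : k u' w = 1 := k_eq_one_iff.2 (h.trans hu' hu huA hw (k_eq_one_iff.1 h1).symm hwu.symm)
    exact hb1 (k2.symm.trans this)
  · -- `c = a`
    have e1 : u * u' * (u * u') = a := by rw [h.sq_mul hu hu', hb, hb', hbb, one_mul, h1]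
    have e2 : k (v * w) (u * u') = 1 := by
      rw [h.k_mul_left hv hw (mul_mem hu hu'), h.k_mul_right hv hu hu', h.k_mul_right hw hu hu',
        h.k_symm hu hv, h.k_symm hu' hv, h.k_symm hu hw, h.k_symm hu' hw, k1, k2, k3, k4, mul_one,
        one_mul, hbb]
    have e3 : (v * w) * (u * u') * ((v * w) * (u * u')) = 1 := by
      rw [h.sq_mul (mul_mem hv hw) (mul_mem hu hu'), e2, hvw, e1, haa, one_mul]
    have e4 := h.inv _ (mul_mem (mul_mem hv hw) (mul_mem hu hu')) e3
    have e5 : k ((v * w) * (u * u')) v = 1 := h.k_A_left e4 hv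
    rw [h.k_mul_left (mul_mem hv hw) (mul_mem hu hu') hv, h.k_mul_left hv hw hv, h.k_mul_left hu hu' hv,
      k_self, k1, k4, hk', one_mul, mul_one] at e5
    exact hne e5
  · -- `c = b`
    have e1 : k u (v * u') = 1 := by rw [h.k_mul_right hu hv hu', k1, h1, hbb]
    have e2 : k (v * u') w = 1 :=
      k_eq_one_iff.2 (h.trans (mul_mem hv hu') hu huA hw (k_eq_one_iff.1 e1).symm hwu.symm)
    rw [h.k_mul_left hv hu' hw, hk, k2] at e2
    exact hne e2
  · -- `c = ab`
    have e1 : u * u' * (u * u') = a * b := by rw [h.sq_mul hu hu', hb, hb', hbb, one_mul, h1]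
    have e2 : k v (u * u') = b := by
      rw [h.k_mul_right hv hu hu', h.k_symm hu hv, h.k_symm hu' hv, k1, k4, mul_one]
    have e3 : v * (u * u') * (v * (u * u')) = 1 := by
      rw [h.sq_mul hv (mul_mem hu hu'), e2, hvv, e1, ← mul_assoc, haa, one_mul, hbb]
    have e4 := h.inv _ (mul_mem hv (mul_mem hu hu')) e3
    have e5 : k (v * (u * u')) w = 1 := h.k_A_left e4 hw
    rw [h.k_mul_left hv (mul_mem hu hu') hw, h.k_mul_left hu hu' hw, hk, k3, k2, one_mul] at e5
    exact hne e5

/-- The subgroup `A ∪ sA`. -/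
def two {s : G} (hs : s ∈ S) : Subgroup G where
  carrier := {x | x ∈ A ∨ s⁻¹ * x ∈ A}
  one_mem' := Or.inl (one_mem _)
  mul_mem' := by
    rintro x y (hx | hx) (hy | hy)
    · exact Or.inl (mul_mem hx hy)
    · right
      have : s⁻¹ * (x * y) = x * (s⁻¹ * y) := by
        rw [← mul_assoc, ← mul_assoc, h.cen x hx _ (inv_mem hs)]
      rw [this]; exact mul_mem hx hy
    · right
      have : s⁻¹ * (x * y) = (s⁻¹ * x) * y := by group
      rw [this]; exact mul_mem hx hy
    · left
      have e2 : x * y = (s⁻¹ * x) * (s * s) * (s⁻¹ * y) := by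
        calc x * y = s * (s⁻¹ * x) * s * (s⁻¹ * y) := by group
          _ = (s⁻¹ * x) * s * s * (s⁻¹ * y) := by rw [h.cen _ hx s hs]
          _ = _ := by group
      rw [e2]
      exact mul_mem (mul_mem hx (h.sq_mem hs)) hy
  inv_mem' := by
    rintro x (hx | hx)
    · exact Or.inl (inv_mem hx)
    · right
      have hss : (s * s)⁻¹ ∈ A := inv_mem (h.sq_mem hs)
      have : s⁻¹ * x⁻¹ = (s⁻¹ * x)⁻¹ * (s * s)⁻¹ := by
        have e := h.cen _ (inv_mem hx) s⁻¹ (inv_mem hs)
        calc s⁻¹ * x⁻¹ = s⁻¹ * (s⁻¹ * x)⁻¹ * s⁻¹ := by group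
          _ = (s⁻¹ * x)⁻¹ * s⁻¹ * s⁻¹ := by rw [e]
          _ = _ := by group
      rw [this]; exact mul_mem (inv_mem hx) hss

theorem mem_two {s x : G} (hs : s ∈ S) : x ∈ h.two hs ↔ x ∈ A ∨ s⁻¹ * x ∈ A := Iff.rfl

theorem two_le {s : G} (hs : s ∈ S) : h.two hs ≤ S ⊓ centralizer {s} := by
  rintro x (hx | hx)
  · rw [mem_inf, mem_centralizer_singleton_iff]
    exact ⟨h.AS hx, h.cen x hx s hs⟩
  · have e : x = s * (s⁻¹ * x) := by group
    rw [mem_inf, mem_centralizer_singleton_iff]
    refine ⟨by rw [e]; exact mul_mem hs (h.AS hx), ?_⟩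
    calc x * s = s * ((s⁻¹ * x) * s) := by group
      _ = s * (s * (s⁻¹ * x)) := by rw [h.cen _ hx s hs]
      _ = s * x := by group

/-- `C_S(s) / A` has order 4: the product of two elements of `C_S(s)` outside `A ∪ sA` lies in `A ∪ sA`. -/
theorem cent_four {s v w : G} (hs : s ∈ S) (hsA : s ∉ A) (hv : v ∈ S) (hsv : s * v = v * s) (hw : w ∈ S)
    (hsw : s * w = w * s) (hvA : v ∉ h.two hs) (hwA : w ∉ h.two hs) : v * w ∈ h.two hs := by
  haveI := h.finS
  haveI := h.finA
  set C : Subgroup G := S ⊓ centralizer {s} with hC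
  haveI : Finite C := Finite.of_injective _ (inclusion_injective inf_le_left)
  have hle : h.two hs ≤ C := h.two_le hs
  haveI : Finite (h.two hs) := Finite.of_injective _ (inclusion_injective hle)
  have h1 : A < h.two hs := by
    refine lt_of_le_of_ne (fun x hx => Or.inl hx) (fun e => hsA ?_)
    rw [e]
    right
    simp
  have h8 : 8 ≤ Nat.card (h.two hs) := by
    have := two_mul_card_le h1
    rw [h.cardA] at this
    omega
  have h16 : Nat.card C = 16 := h.card_cent hs hsA
  have hvC : v ∈ C := by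
    rw [hC, mem_inf, mem_centralizer_singleton_iff]
    exact ⟨hv, hsv.symm⟩
  have hwC : w ∈ C := by
    rw [hC, mem_inf, mem_centralizer_singleton_iff]
    exact ⟨hw, hsw.symm⟩
  have hlt : h.two hs < C := lt_of_le_of_ne hle (fun e => hvA (e ▸ hvC))
  have h2 : (h.two hs).relIndex C = 2 := by
    have e1 : Nat.card (h.two hs) * (h.two hs).relIndex C = 16 := by
      have := Subgroup.card_mul_index ((h.two hs).subgroupOf C)
      rwa [Nat.card_congr (subgroupOfEquivOfLe hle).toEquiv, h16] at this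
    have e2 := two_mul_card_le hlt
    rw [h16] at e2
    have h8' : Nat.card (h.two hs) = 8 := by omega
    rw [h8'] at e1
    omega
  have h3 := Subgroup.mul_mem_iff_of_index_two (H := (h.two hs).subgroupOf C) h2 (a := ⟨v, hvC⟩) (b := ⟨w, hwC⟩)
  rw [mem_subgroupOf, mem_subgroupOf, mem_subgroupOf] at h3
  exact h3.2 (by simp [hvA, hwA])

end Syl

end Cfsg.Agent.TwoFusion.GoldM1
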