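import Mathlib
import Cfsg.Agent.TwoFusion.GoldM1Tr

/-!
# Case [M1] of Goldschmidt's theorem, type Z, first part

`C(a)` is a maximal subgroup for `a ∈ A`, `a ≠ 1`, and `O(C(a))` is not centralised by `b ∈ A`.  There is an odd
prime `p` such that `b` does not centralise `D = O_p(O(C(a)))`.  We prove `C_D(b) = 1` (`ZData.inf_eq_bot`), so
that `b` inverts the abelian group `D`.
-/

set_option autoImplicit false
set_option linter.unusedSectionVars false
set_option linter.style.haveILetI false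

namespace Cfsg.Agent.TwoFusion.GoldM1Z

open Subgroup Cfsg
open Cfsg.Agent.OddOrderLocal.PiCoreOf
open Cfsg.Agent.OddOrderLocal
open Cfsg.Agent.OddOrderLocal.FitCores (le_core_of_isPGroup isPGroup_piCoreOf fittingOf_le_iff
  le_centralizer_of_centralizes_fitting)
open Cfsg.Agent.Classification.TypeB.Core (oc oc_le odd_oc normalizer_le_oc le_normalizer_oc le_oc
  odd_of_isPGroup)
open Cfsg.Agent.Classification.TypeB.Basic (IsInv mem_normalizer_of_conj le_of_four odd_of_le
  conj_mem_of_mem_normalizer inverts_of_fixedPointFree coprime_of_odd zpowers_le_centralizer_iff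
  centralizer_zpowers)
open Cfsg.Agent.TwoFusion.GoldM1

variable {G : Type*} [Group G] [Finite G]

/-! ### Generalities -/

theorem map_conj_le_centralizer {Y : Subgroup G} {x : G} (h : Y ≤ centralizer ({x} : Set G))
    (g : G) : Y.map (MulAut.conj g).toMonoidHom ≤ centralizer ({g * x * g⁻¹} : Set G) := by
  intro y hy
  rw [mem_map_conj_iff] at hy
  have h1 := h hy
  rw [mem_centralizer_singleton_iff] at h1 ⊢
  calc y * (g * x * g⁻¹) = g * ((g⁻¹ * y * g) * x) * g⁻¹ := by group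
    _ = g * (x * (g⁻¹ * y * g)) * g⁻¹ := by rw [h1]
    _ = g * x * g⁻¹ * y := by group

theorem conj_eq_of_mem_centralizer {S : Subgroup G} {c x : G} (hc : c ∈ centralizer (S : Set G))
    (hx : x ∈ S) : c * x * c⁻¹ = x := by
  have h1 := mem_centralizer_iff.mp hc x hx
  calc c * x * c⁻¹ = (c * x) * c⁻¹ := by group
    _ = (x * c) * c⁻¹ := by rw [h1]
    _ = x := by group

theorem sylIn_iff {p : ℕ} [Fact p.Prime] {T H : Subgroup G} :
    SylIn p T H ↔ T ≤ H ∧ Nat.card T = p ^ (Nat.card H).factorization p := by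
  constructor
  · rintro ⟨P, rfl⟩
    refine ⟨map_subtype_le _, ?_⟩
    rw [Nat.card_congr ((P : Subgroup H).equivMapOfInjective H.subtype
      H.subtype_injective).symm.toEquiv]
    exact P.card_eq_multiplicity
  · rintro ⟨h1, h2⟩
    have h3 : Nat.card (T.subgroupOf H) = p ^ (Nat.card H).factorization p := by
      rw [← h2]; exact Nat.card_congr (subgroupOfEquivOfLe h1).toEquiv
    refine ⟨Sylow.ofCard (T.subgroupOf H) h3, ?_⟩
    rw [Sylow.coe_ofCard]
    exact map_subgroupOf_eq_of_le h1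

theorem card_map_conj (K : Subgroup G) (g : G) :
    Nat.card (K.map (MulAut.conj g).toMonoidHom) = Nat.card K :=
  Nat.card_congr (K.equivMapOfInjective _ (MulAut.conj g).injective).symm.toEquiv

theorem sylIn_conj {p : ℕ} [Fact p.Prime] {T H : Subgroup G} (h : SylIn p T H) {g : G}
    (hg : g ∈ normalizer (H : Set G)) : SylIn p (T.map (MulAut.conj g).toMonoidHom) H := by
  rw [sylIn_iff] at h ⊢
  refine ⟨?_, by rw [card_map_conj]; exact h.2⟩
  have h1 := map_conj_eq_iff_mem_normalizer.mpr hg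
  rw [← h1]
  exact map_mono h.1

/-- the action of `N(S)` on `C_G(S)`-conjugates -/
theorem inv_inf {S : Subgroup G} {p : ℕ} {Y K : Subgroup G} (hY : Inv S p Y)
    (hK : S ≤ normalizer (K : Set G)) : Inv S p (Y ⊓ K) := by
  refine ⟨hY.1.to_le inf_le_left, ?_⟩
  intro s hs
  apply mem_normalizer_of_conj
  intro x hx
  exact mem_inf.mpr ⟨conj_mem_of_mem_normalizer (hY.2 hs) hx.1,
    conj_mem_of_mem_normalizer (hK hs) hx.2⟩

/-- The data of case Z: `C(a)` is maximal and `b` acts nontrivially on `O_p(O(C(a)))`. -/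
structure ZData {G : Type*} [Group G] (S A : Subgroup G) (g0 a b : G) (p : ℕ) : Prop where
  frame : Frame S A g0
  ha : a ∈ A
  ha1 : a ≠ 1
  hb : b ∈ A
  coatom : IsCoatom (centralizer ({a} : Set G))
  prime : p.Prime
  moved : ¬ piCoreOf {p} (oc (centralizer ({a} : Set G))) ≤ centralizer ({b} : Set G)

/-- if `b` acts nontrivially on `O(C(a))`, then on some `O_p(O(C(a)))`. -/
theorem exists_zdata {S A : Subgroup G} {g0 a b : G} (F : Frame S A g0) (ha : a ∈ A) (ha1 : a ≠ 1)
    (hb : b ∈ A) (hmax : IsCoatom (centralizer ({a} : Set G)))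
    (hne : ¬ oc (centralizer ({a} : Set G)) ≤ centralizer ({b} : Set G)) :
    ∃ p : ℕ, ZData S A g0 a b p := by
  by_contra hcon
  push Not at hcon
  apply hne
  have hb1 : b ≠ 1 := by
    rintro rfl
    apply hne
    intro x _
    rw [mem_centralizer_singleton_iff]
    simp
  have hbI : IsInv b := F.isInv hb hb1
  have h1 : fittingOf (oc (centralizer ({a} : Set G))) ≤ centralizer ({b} : Set G) := by
    rw [fittingOf_le_iff]
    intro q hq
    by_contra h2
    exact hcon q ⟨F, ha, ha1, hb, hmax, hq, h2⟩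
  rw [← zpowers_le_centralizer_iff] at h1 ⊢
  refine le_centralizer_of_centralizes_fitting ?_ (F.solv _ (odd_oc _))
    (coprime_of_odd (odd_oc _) hbI) h1
  rw [zpowers_le]
  exact le_normalizer_oc _ (F.S_le_centralizer ha (F.AS hb))

namespace ZData

variable {S A : Subgroup G} {g0 a b : G} {p : ℕ} (Z : ZData S A g0 a b p)
include Z

theorem aInv : IsInv a := Z.frame.isInv Z.ha Z.ha1

theorem hb1 : b ≠ 1 := by
  intro h
  apply Z.moved
  rw [h]
  intro x _
  rw [mem_centralizer_singleton_iff]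
  simp

theorem bInv : IsInv b := Z.frame.isInv Z.hb Z.hb1

theorem hba : b ≠ a := by
  intro h
  apply Z.moved
  rw [h]
  exact (piCoreOf_le _ _).trans (oc_le _)

theorem ab_comm : a * b = b * a := Z.frame.comm_A Z.ha Z.hb

theorem S_le : S ≤ centralizer ({a} : Set G) := Z.frame.S_le_centralizer Z.ha

theorem ne_bot : piCoreOf {p} (oc (centralizer ({a} : Set G))) ≠ ⊥ := by
  intro h
  apply Z.moved
  rw [h]
  exact bot_le

/-- a prime `q` with `O_q(O(C(a))) ≠ 1` is odd. -/
theorem ne_two {q : ℕ} (hq : q.Prime) (h : piCoreOf {q} (oc (centralizer ({a} : Set G))) ≠ ⊥) :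
    q ≠ 2 := by
  rintro rfl
  have h1 := FitCores.dvd_card_of_ne_bot hq (isPGroup_piCoreOf hq _) h
    (piCoreOf_le {2} (oc (centralizer ({a} : Set G))))
  exact (Nat.not_even_iff_odd.mpr (odd_oc (centralizer ({a} : Set G)))) (even_iff_two_dvd.mpr h1)

theorem p_ne_two : p ≠ 2 := Z.ne_two Z.prime Z.ne_bot

/-- `C(a)` normalises the characteristic subgroups of `O(C(a))`. -/
theorem cent_le_normalizer (π : Set ℕ) : centralizer ({a} : Set G) ≤
    normalizer (piCoreOf π (oc (centralizer ({a} : Set G))) : Set G) :=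
  (le_normalizer_oc _).trans (normalizer_le_normalizer_piCoreOf _ _)

theorem normalizer_eq {q : ℕ} (hq : q.Prime)
    (h : piCoreOf {q} (oc (centralizer ({a} : Set G))) ≠ ⊥) :
    normalizer (piCoreOf {q} (oc (centralizer ({a} : Set G))) : Set G) =
      centralizer ({a} : Set G) := by
  haveI := Fact.mk hq
  rcases (Z.coatom.le_iff).mp (Z.cent_le_normalizer {q}) with h1 | h1
  · exact absurd h1 (Z.frame.normalizer_ne_top (Z.ne_two hq h) (isPGroup_piCoreOf hq _) h)
  · exact h1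

/-- **(Z1), first part** `a` centralises every `a`-invariant `q`-group above `O_q(O(C(a))) ≠ 1`. -/
theorem cent_of_ge {q : ℕ} (hq : q.Prime)
    (h : piCoreOf {q} (oc (centralizer ({a} : Set G))) ≠ ⊥) {Y : Subgroup G} (hY : IsPGroup q Y)
    (haY : a ∈ normalizer (Y : Set G)) (hle : piCoreOf {q} (oc (centralizer ({a} : Set G))) ≤ Y) :
    Y ≤ centralizer ({a} : Set G) := by
  haveI := Fact.mk hq
  rw [← zpowers_le_centralizer_iff]
  refine Lib.ThompsonPQ.thompson_p_times_q q (piCoreOf {q} (oc (centralizer ({a} : Set G))))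
    (zpowers a) Y (isPGroup_piCoreOf hq _) ?_ hY ?_ (hle.trans le_normalizer) ?_ ?_
  · rw [Z.aInv.card_zpowers]
    exact ((Nat.coprime_primes Nat.prime_two hq).mpr (Z.ne_two hq h).symm)
  · rw [centralizer_zpowers]
    exact (piCoreOf_le _ _).trans (oc_le _)
  · rwa [zpowers_le]
  · rw [centralizer_zpowers]
    refine inf_le_right.trans ((centralizer_le_normalizer _).trans ?_)
    rw [Z.normalizer_eq hq h]

/-- `T` is an `S`-invariant Sylow `p`-subgroup of `O(C(a))` containing `D`, and it is a maximal `S`-invariant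
`p`-subgroup of `G`. -/
theorem exists_syl : ∃ T : Subgroup G, MaxInv S p T ∧ SylIn p T (oc (centralizer ({a} : Set G))) ∧
    piCoreOf {p} (oc (centralizer ({a} : Set G))) ≤ T ∧ T ≤ oc (centralizer ({a} : Set G)) := by
  haveI := Fact.mk Z.prime
  have F := Z.frame
  have hD : Inv S p (piCoreOf {p} (oc (centralizer ({a} : Set G)))) :=
    ⟨isPGroup_piCoreOf Z.prime _, Z.S_le.trans (Z.cent_le_normalizer _)⟩
  obtain ⟨T, hT, hTi, hDT, hTO⟩ := F.exists_syl (odd_oc (centralizer ({a} : Set G)))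
    (Z.S_le.trans (le_normalizer_oc _)) hD (piCoreOf_le _ _)
  refine ⟨T, ⟨hTi, ?_⟩, hT, hDT, hTO⟩
  intro Y hY hTY
  have h1 : Y ≤ centralizer ({a} : Set G) := Z.cent_of_ge Z.prime Z.ne_bot hY.1
    (hY.2 (F.AS Z.ha)) (hDT.trans hTY)
  have h2 : Y ≤ oc (centralizer ({a} : Set G)) := F.invCore _ (F.centralizer_ne_top Z.ha Z.ha1)
    Z.S_le Y h1 (odd_of_isPGroup Z.prime Z.p_ne_two hY.1) hY.2
  obtain ⟨P, hP⟩ := hT
  have h3 : IsPGroup p (Y.subgroupOf (oc (centralizer ({a} : Set G)))) :=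
    hY.1.of_equiv (subgroupOfEquivOfLe h2).symm
  have h4 : (P : Subgroup (oc (centralizer ({a} : Set G)))) ≤
      Y.subgroupOf (oc (centralizer ({a} : Set G))) := by
    intro x hx
    rw [mem_subgroupOf]
    apply hTY
    rw [← hP]
    exact ⟨x, hx, rfl⟩
  have h5 := P.is_maximal' h3 h4
  have h6 := congrArg (map (oc (centralizer ({a} : Set G))).subtype) h5
  rw [hP, map_subgroupOf_eq_of_le h2] at h6
  exact h6.le

/-- `C(a) ∩ C(b) ≤ C(A)` -/
theorem cent_inf_cent_le : centralizer ({a} : Set G) ⊓ centralizer ({b} : Set G) ≤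
    centralizer (A : Set G) := by
  have F := Z.frame
  rintro x ⟨hxa', hxb'⟩
  have hxa : x * a = a * x := mem_centralizer_singleton_iff.mp hxa'
  have hxb : x * b = b * x := mem_centralizer_singleton_iff.mp hxb'
  have hu : x * (g0 * a * g0⁻¹) = (g0 * a * g0⁻¹) * x := by
    rcases F.mem_A_cases Z.ha Z.ha1 Z.hb with h | h | h | h
    · exact absurd h Z.hb1
    · exact absurd h Z.hba
    · rw [← h]; exact hxb
    · have h1 : g0 * a * g0⁻¹ = a * b := by
        rw [h, ← mul_assoc, Z.aInv.1, one_mul]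
      rw [h1, ← mul_assoc, hxa, mul_assoc, hxb, ← mul_assoc]
  rw [mem_centralizer_iff]
  intro y hy
  rcases F.mem_A_cases Z.ha Z.ha1 hy with h | h | h | h
  · rw [h]; simp
  · rw [h]; exact hxa.symm
  · rw [h]; exact hu.symm
  · rw [h, mul_assoc, ← hu, ← mul_assoc, ← hxa, mul_assoc]

theorem centA_le : centralizer (A : Set G) ≤ centralizer ({a} : Set G) :=
  centralizer_le (Set.singleton_subset_iff.mpr Z.ha)

theorem centA_le_b : centralizer (A : Set G) ≤ centralizer ({b} : Set G) :=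
  centralizer_le (Set.singleton_subset_iff.mpr Z.hb)

theorem ocA_le : oc (centralizer (A : Set G)) ≤ oc (centralizer ({a} : Set G)) :=
  Z.frame.invCore _ (Z.frame.centralizer_ne_top Z.ha Z.ha1) Z.S_le _
    ((oc_le _).trans Z.centA_le) (odd_oc _) (Z.frame.S_le_centralizer_A.trans (le_normalizer_oc _))

/-- `C_T(b)` is a Sylow subgroup of `O(C(A))`. -/
theorem sylIn_inf {T : Subgroup G} (hT : Inv S p T)
    (hTs : SylIn p T (oc (centralizer ({a} : Set G))))
    (hTO : T ≤ oc (centralizer ({a} : Set G))) :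
    SylIn p (T ⊓ centralizer ({b} : Set G)) (oc (centralizer (A : Set G))) := by
  haveI := Fact.mk Z.prime
  have F := Z.frame
  have hSb : S ≤ centralizer ({b} : Set G) := F.S_le_centralizer Z.hb
  have hR : Inv S p (T ⊓ centralizer ({b} : Set G)) := inv_inf hT (hSb.trans le_normalizer)
  have hRA : T ⊓ centralizer ({b} : Set G) ≤ centralizer (A : Set G) :=
    (inf_le_inf_right _ (hTO.trans (oc_le _))).trans Z.cent_inf_cent_le
  have hAtop : centralizer (A : Set G) ≠ ⊤ := fun h =>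
    F.centralizer_ne_top Z.ha Z.ha1 (top_le_iff.mp (h ▸ Z.centA_le))
  have hRV : T ⊓ centralizer ({b} : Set G) ≤ oc (centralizer (A : Set G)) :=
    F.invCore _ hAtop F.S_le_centralizer_A _ hRA (odd_of_isPGroup Z.prime Z.p_ne_two hR.1) hR.2
  obtain ⟨Q, hQ, hQi, hRQ, hQV⟩ := F.exists_syl (odd_oc (centralizer (A : Set G)))
    (F.S_le_centralizer_A.trans (le_normalizer_oc _)) hR hRV
  obtain ⟨T', hT', hTi', hQT', -⟩ := F.exists_syl (odd_oc (centralizer ({a} : Set G)))
    (Z.S_le.trans (le_normalizer_oc _)) hQi (hQV.trans Z.ocA_le)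
  obtain ⟨c, hc, hcT⟩ := F.syl_conj (odd_oc (centralizer ({a} : Set G)))
    (Z.S_le.trans (le_normalizer_oc _)) hT' hTs hTi' hT
  have h1 : Q.map (MulAut.conj c).toMonoidHom ≤ T ⊓ centralizer ({b} : Set G) := by
    refine le_inf ?_ ?_
    · rw [← hcT]; exact map_mono hQT'
    · have h2 := map_conj_le_centralizer (hQV.trans ((oc_le _).trans Z.centA_le_b)) c
      rwa [conj_eq_of_mem_centralizer hc.2 (F.AS Z.hb)] at h2
  have h2 : Nat.card Q ≤ Nat.card ↥(T ⊓ centralizer ({b} : Set G)) := by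
    rw [← card_map_conj Q c]
    exact card_le_of_le h1
  have h3 : T ⊓ centralizer ({b} : Set G) = Q := eq_of_le_of_card_ge hRQ h2
  rw [h3]
  exact hQ

/-- **(Z2)** `C_T(b) = 1` for the `S`-invariant Sylow subgroup `T` of `O(C(a))`. -/
theorem syl_inf_eq_bot {T : Subgroup G} (hT : MaxInv S p T)
    (hTs : SylIn p T (oc (centralizer ({a} : Set G))))
    (hDT : piCoreOf {p} (oc (centralizer ({a} : Set G))) ≤ T)
    (hTO : T ≤ oc (centralizer ({a} : Set G))) :
    T ⊓ centralizer ({b} : Set G) = ⊥ := by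
  haveI := Fact.mk Z.prime
  have F := Z.frame
  have hp2 := Z.p_ne_two
  by_contra hR1
  set R : Subgroup G := T ⊓ centralizer ({b} : Set G) with hRdef
  have hSb : S ≤ centralizer ({b} : Set G) := F.S_le_centralizer Z.hb
  have hR : Inv S p R := inv_inf hT.1 (hSb.trans le_normalizer)
  have hRs : SylIn p R (oc (centralizer (A : Set G))) := Z.sylIn_inf hT.1 hTs hTO
  -- `N(R)` is of type F
  have hg0 : g0 ∈ normalizer (oc (centralizer (A : Set G)) : Set G) := by
    apply normalizer_le_oc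
    apply mem_normalizer_of_conj
    intro x hx
    rw [mem_centralizer_iff] at hx ⊢
    intro y hy
    -- `g0⁻¹ y g0 ∈ A`
    have h1 : g0 ∈ normalizer (A : Set G) := mem_normalizer_of_conj F.g0A
    have h2 : g0⁻¹ * y * g0 ∈ A := by
      have := conj_mem_of_mem_normalizer (inv_mem h1) hy
      simpa using this
    have h3 := hx _ h2
    calc y * (g0 * x * g0⁻¹) = g0 * ((g0⁻¹ * y * g0) * x) * g0⁻¹ := by group
      _ = g0 * (x * (g0⁻¹ * y * g0)) * g0⁻¹ := by rw [h3]
      _ = g0 * x * g0⁻¹ * y := by group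
  obtain ⟨c, hc, hcR⟩ := F.syl_conj (odd_oc (centralizer (A : Set G)))
    (F.S_le_centralizer_A.trans (le_normalizer_oc _)) hRs (sylIn_conj hRs hg0) hR (hR.conj F.g0S)
  have hF : TypeF S A g0 (normalizer (R : Set G)) := by
    refine F.typeF_normalizer (k := 1) hc.2 ?_ ⟨a, Z.ha, ?_⟩
    · rw [pow_one]; exact hcR.symm
    · rw [pow_one]; exact F.g0_conj_ne Z.ha Z.ha1
  obtain ⟨g, hgK, hgS, hgA⟩ := hF
  have hKtop := F.normalizer_ne_top hp2 hR.1 hR1
  -- `X = N_T(R)`
  have hlt : R < T := by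
    refine lt_of_le_of_ne inf_le_left ?_
    intro h
    apply Z.moved
    refine hDT.trans ?_
    rw [← h]
    exact inf_le_right
  have hltX := lt_inf_normalizer hT.1.1 hlt
  set X : Subgroup G := T ⊓ normalizer (R : Set G) with hXdef
  have hX : Inv S p X := inv_inf hT.1 (hR.2.trans le_normalizer)
  have hXO : X ≤ oc (normalizer (R : Set G)) :=
    F.invCore _ hKtop hR.2 X inf_le_right (odd_of_isPGroup Z.prime hp2 hX.1) hX.2
  obtain ⟨X1, hX1s, hX1, hXX1, -⟩ := F.exists_syl (odd_oc (normalizer (R : Set G)))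
    (hR.2.trans (le_normalizer_oc _)) hX hXO
  obtain ⟨Y, hY, hXY⟩ := exists_maxInv hX1
  have hne : T ⊓ Y ≠ ⊥ := by
    intro h
    apply hR1
    rw [eq_bot_iff, ← h]
    exact le_inf hlt.le (hltX.le.trans (hXX1.trans hXY))
  obtain ⟨c1, hc1, hc1Y⟩ := F.exists_conj hp2 hT hY hne
  have hX1a : X1 ≤ centralizer ({a} : Set G) := by
    have h2 := map_conj_le_centralizer (hTO.trans (oc_le _)) c1
    rw [conj_eq_of_mem_centralizer hc1 (F.AS Z.ha), hc1Y] at h2
    exact hXY.trans h2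
  -- transport by `g`
  obtain ⟨c2, hc2, hc2X⟩ := F.syl_conj (odd_oc (normalizer (R : Set G)))
    (hR.2.trans (le_normalizer_oc _)) hX1s (sylIn_conj hX1s (le_normalizer_oc _ hgK)) hX1
    (hX1.conj hgS)
  have hX1u : X1 ≤ centralizer ({g0 * a * g0⁻¹} : Set G) := by
    have h2 := map_conj_le_centralizer hX1a g
    rw [hgA a Z.ha, ← hc2X] at h2
    intro x hx
    have h3 := h2 (mem_map_of_mem _ hx)
    have h4 := conj_eq_of_mem_centralizer hc2.2 (F.AS (F.g0A a Z.ha))
    rw [mem_centralizer_singleton_iff] at h3 ⊢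
    have h5 : (c2 * x * c2⁻¹) * (g0 * a * g0⁻¹) = (g0 * a * g0⁻¹) * (c2 * x * c2⁻¹) := h3
    rw [← h4] at h5
    have h6 : c2 * (x * (g0 * a * g0⁻¹)) * c2⁻¹ = c2 * ((g0 * a * g0⁻¹) * x) * c2⁻¹ := by
      calc c2 * (x * (g0 * a * g0⁻¹)) * c2⁻¹ =
          (c2 * x * c2⁻¹) * (c2 * (g0 * a * g0⁻¹) * c2⁻¹) := by group
        _ = (c2 * (g0 * a * g0⁻¹) * c2⁻¹) * (c2 * x * c2⁻¹) := h5
        _ = c2 * ((g0 * a * g0⁻¹) * x) * c2⁻¹ := by group
    exact mul_left_cancel (mul_right_cancel h6)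
  have hX1b : X1 ≤ centralizer ({b} : Set G) := by
    intro x hx
    have h2 := hX1a hx
    have h3 := hX1u hx
    rw [mem_centralizer_singleton_iff] at h2 h3 ⊢
    rcases F.mem_A_cases Z.ha Z.ha1 Z.hb with h | h | h | h
    · rw [h]; simp
    · rw [h]; exact h2
    · rw [h]; exact h3
    · rw [h, ← mul_assoc, h2, mul_assoc, h3, ← mul_assoc]
  exact absurd (le_inf inf_le_left (hXX1.trans hX1b) : X ≤ R) (not_le_of_gt hltX)

/-- **(Z2)** `C_D(b) = 1` for `D = O_p(O(C(a)))`. -/
theorem inf_eq_bot : piCoreOf {p} (oc (centralizer ({a} : Set G))) ⊓ centralizer ({b} : Set G) =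
    ⊥ := by
  obtain ⟨T, hT, hTs, hDT, hTO⟩ := Z.exists_syl
  rw [eq_bot_iff, ← Z.syl_inf_eq_bot hT hTs hDT hTO]
  exact inf_le_inf_right _ hDT

theorem core_le_cent : piCoreOf {p} (oc (centralizer ({a} : Set G))) ≤
    centralizer ({a} : Set G) := (piCoreOf_le _ _).trans (oc_le _)

/-- `b` inverts `D`. -/
theorem inverts {x : G} (hx : x ∈ piCoreOf {p} (oc (centralizer ({a} : Set G)))) :
    b * x * b⁻¹ = x⁻¹ :=
  inverts_of_fixedPointFree Z.bInv (Z.cent_le_normalizer _ (Z.S_le (Z.frame.AS Z.hb)))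
    Z.inf_eq_bot hx

/-- `D` is abelian. -/
theorem core_comm {x y : G} (hx : x ∈ piCoreOf {p} (oc (centralizer ({a} : Set G))))
    (hy : y ∈ piCoreOf {p} (oc (centralizer ({a} : Set G)))) : x * y = y * x := by
  have h1 := Z.inverts (mul_mem hx hy)
  have h2 := Z.inverts hx
  have h3 := Z.inverts hy
  have h4 : b * (x * y) * b⁻¹ = (b * x * b⁻¹) * (b * y * b⁻¹) := by group
  rw [h4, h2, h3, mul_inv_rev] at h1
  have h5 : (x⁻¹ * y⁻¹)⁻¹ = (y⁻¹ * x⁻¹)⁻¹ := by rw [h1]
  rw [mul_inv_rev, mul_inv_rev, inv_inv, inv_inv] at h5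
  exact h5.symm

end ZData

end Cfsg.Agent.TwoFusion.GoldM1Z
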