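import Mathlib
import Cfsg.Agent.TwoFusion.GoldM1Z
import Cfsg.Agent.TwoFusion.GoldM1Form

/-!
# Case [M1] of Goldschmidt's theorem, type Z: the rank of `D`

An `S`-invariant subgroup `E ≠ 1` of `D = O_p(O(C(a)))` has order greater than `p ^ 2` (`ZData.sq_lt_card`), because
`S / ⟨a⟩` is extraspecial of order 32 and acts faithfully on `E`.
-/

set_option autoImplicit false
set_option linter.unusedSectionVars false
set_option linter.style.haveILetI false

namespace Cfsg.Agent.TwoFusion.GoldM1Z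

open Subgroup Cfsg
open Cfsg.Agent.OddOrderLocal.PiCoreOf
open Cfsg.Agent.OddOrderLocal
open Cfsg.Agent.Classification.TypeB.Core (oc oc_le odd_oc normalizer_le_oc le_normalizer_oc le_oc
  odd_of_isPGroup)
open Cfsg.Agent.Classification.TypeB.Basic (IsInv mem_normalizer_of_conj le_of_four odd_of_le
  conj_mem_of_mem_normalizer inverts_of_fixedPointFree coprime_of_odd zpowers_le_centralizer_iff
  centralizer_zpowers)
open Cfsg.Agent.TwoFusion.GoldM1

variable {G : Type*} [Group G] [Finite G]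

/-- The commutator of two elements normalising a cyclic group centralises it. -/
theorem cyclic_comm {C : Subgroup G} (hC : IsCyclic C) {u v : G} (hu : u ∈ normalizer (C : Set G))
    (hv : v ∈ normalizer (C : Set G)) : C ≤ centralizer ({u * v * u⁻¹ * v⁻¹} : Set G) := by
  obtain ⟨⟨c, hc⟩, hgen⟩ := hC
  have key : ∀ w ∈ normalizer (C : Set G), ∃ m : ℤ, ∀ x ∈ C, w * x * w⁻¹ = x ^ m := by
    intro w hw
    have h1 : w * c * w⁻¹ ∈ C := conj_mem_of_mem_normalizer hw hc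
    obtain ⟨m, hm⟩ := hgen ⟨_, h1⟩
    have hm' : c ^ m = w * c * w⁻¹ := congrArg Subtype.val hm
    refine ⟨m, fun x hx => ?_⟩
    obtain ⟨k, hk⟩ := hgen ⟨x, hx⟩
    have hk' : c ^ k = x := congrArg Subtype.val hk
    rw [← hk', ← conj_zpow, ← hm', ← zpow_mul, ← zpow_mul, mul_comm]
  obtain ⟨m, hm⟩ := key u hu
  obtain ⟨n, hn⟩ := key v hv
  intro x hx
  rw [mem_centralizer_singleton_iff]
  have h1 : u * (v * x * v⁻¹) * u⁻¹ = x ^ (n * m) := by
    rw [hn x hx, hm _ (zpow_mem hx n), ← zpow_mul]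
  have h2 : v * (u * x * u⁻¹) * v⁻¹ = x ^ (n * m) := by
    rw [hm x hx, hn _ (zpow_mem hx m), ← zpow_mul, mul_comm]
  have h3 : u * (v * x * v⁻¹) * u⁻¹ = v * (u * x * u⁻¹) * v⁻¹ := h1.trans h2.symm
  have hy : u⁻¹ * (v⁻¹ * x * v) * u ∈ C := by
    have h4 := conj_mem_of_mem_normalizer (inv_mem hv) hx
    have h5 := conj_mem_of_mem_normalizer (inv_mem hu) h4
    simpa using h5
  -- apply the equality to `y = u⁻¹ v⁻¹ x v u`
  have h4 : u * (v * (u⁻¹ * (v⁻¹ * x * v) * u) * v⁻¹) * u⁻¹ =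
      v * (u * (u⁻¹ * (v⁻¹ * x * v) * u) * u⁻¹) * v⁻¹ := by
    have e1 : u * (v * (u⁻¹ * (v⁻¹ * x * v) * u) * v⁻¹) * u⁻¹ =
        (u⁻¹ * (v⁻¹ * x * v) * u) ^ (n * m) := by
      rw [hn _ hy, hm _ (zpow_mem hy n), ← zpow_mul]
    have e2 : v * (u * (u⁻¹ * (v⁻¹ * x * v) * u) * u⁻¹) * v⁻¹ =
        (u⁻¹ * (v⁻¹ * x * v) * u) ^ (n * m) := by
      rw [hm _ hy, hn _ (zpow_mem hy m), ← zpow_mul, mul_comm]
    exact e1.trans e2.symm
  have h5 : v * (u * (u⁻¹ * (v⁻¹ * x * v) * u) * u⁻¹) * v⁻¹ = x := by group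
  rw [h5] at h4
  calc x * (u * v * u⁻¹ * v⁻¹) =
      (u * (v * (u⁻¹ * (v⁻¹ * x * v) * u) * v⁻¹) * u⁻¹) * (u * v * u⁻¹ * v⁻¹) := by rw [h4]
    _ = u * v * u⁻¹ * v⁻¹ * x := by group

namespace ZData

variable {S A : Subgroup G} {g0 a b : G} {p : ℕ} (Z : ZData S A g0 a b p)
include Z

theorem syl : Syl S A :=
  ⟨Z.frame.cardS, Z.frame.AS, Z.frame.cardA, Z.frame.cen, Z.frame.sq, Z.frame.inv, Z.frame.comm,
    Z.frame.surj⟩

/-- some `s ∈ S` has square `a`. -/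
theorem exists_sq : ∃ s ∈ S, s ∉ A ∧ s * s = a := by
  have F := Z.frame
  obtain ⟨s0, hs0, hs0A⟩ : ∃ s0 ∈ S, s0 ∉ A := by
    by_contra hcon
    push Not at hcon
    have h1 : Nat.card S ≤ Nat.card A := card_le_of_le hcon
    rw [F.cardS, F.cardA] at h1
    omega
  have h1 := Z.syl.sq_mem hs0
  have h2 := Z.syl.sq_ne hs0 hs0A
  obtain ⟨k, hk⟩ := F.exists_pow_conj h1 h2 Z.ha Z.ha1
  have h3 : g0 ^ k * s0 * (g0 ^ k)⁻¹ ∈ S := conj_mem_of_mem_normalizer (F.g0_pow_normalizer k) hs0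
  have h4 : g0 ^ k * s0 * (g0 ^ k)⁻¹ * (g0 ^ k * s0 * (g0 ^ k)⁻¹) = a := by
    rw [← hk]; group
  refine ⟨_, h3, ?_, h4⟩
  intro h5
  apply Z.ha1
  rw [← h4]
  exact F.sq _ h5

theorem mem_A {c : G} (hc : c ∈ A) : c = 1 ∨ c = a ∨ c = b ∨ c = a * b :=
  Z.syl.mem_A Z.ha Z.hb Z.ha1 Z.hb1 Z.hba.symm hc

/-- `C(a) ∩ C(x) ≤ C(b)` for `x ∈ A \ ⟨a⟩`. -/
theorem cent_le_b {x : G} (hx : x ∈ A) (hx1 : x ≠ 1) (hxa : x ≠ a) {y : G}
    (hya : y ∈ centralizer ({a} : Set G)) (hyx : y ∈ centralizer ({x} : Set G)) :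
    y ∈ centralizer ({b} : Set G) := by
  rcases Z.mem_A hx with h | h | h | h
  · exact absurd h hx1
  · exact absurd h hxa
  · rwa [h] at hyx
  · rw [h] at hyx
    rw [mem_centralizer_singleton_iff] at hya hyx ⊢
    have h1 : a * (y * b) = a * (b * y) := by
      calc a * (y * b) = (a * y) * b := by group
        _ = y * (a * b) := by rw [← hya]; group
        _ = a * (b * y) := by rw [hyx]; group
    exact mul_left_cancel h1

/-- no element of `S` centralises or inverts `E`. -/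
theorem not_central {E : Subgroup G} (hE : E ≤ piCoreOf {p} (oc (centralizer ({a} : Set G))))
    (hE1 : E ≠ ⊥) (hSE : S ≤ normalizer (E : Set G)) {s : G} (hs : s ∈ S) (hsA : s ∉ A)
    (h : (∀ e ∈ E, s * e * s⁻¹ = e) ∨ (∀ e ∈ E, s * e * s⁻¹ = e⁻¹)) : False := by
  obtain ⟨u, hu, hub⟩ := Z.frame.surj s hs hsA b Z.hb
  apply hE1
  rw [eq_bot_iff, ← Z.inf_eq_bot]
  intro e he
  refine mem_inf.mpr ⟨hE he, ?_⟩
  have he' : u⁻¹ * e * u ∈ E := by
    have := conj_mem_of_mem_normalizer (inv_mem (hSE hu)) he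
    simpa using this
  have h1 : b * e * b⁻¹ = e := by
    rcases h with h | h
    · have h2 := h _ he
      have h3 : s⁻¹ * e * s = e := by
        calc s⁻¹ * e * s = s⁻¹ * (s * e * s⁻¹) * s := by rw [h2]
          _ = e := by group
      have h4 := h _ he'
      rw [← hub]
      have h5 : s * u * s⁻¹ * u⁻¹ * e * (s * u * s⁻¹ * u⁻¹)⁻¹ =
          s * (u * (s⁻¹ * (u⁻¹ * e * u) * s) * u⁻¹) * s⁻¹ := by group
      have h6 : s⁻¹ * (u⁻¹ * e * u) * s = u⁻¹ * e * u := by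
        calc s⁻¹ * (u⁻¹ * e * u) * s = s⁻¹ * (s * (u⁻¹ * e * u) * s⁻¹) * s := by rw [h4]
          _ = u⁻¹ * e * u := by group
      rw [h5, h6]
      have h7 : u * (u⁻¹ * e * u) * u⁻¹ = e := by group
      rw [h7, h2]
    · have h4 := h _ he'
      rw [← hub]
      have h5 : s * u * s⁻¹ * u⁻¹ * e * (s * u * s⁻¹ * u⁻¹)⁻¹ =
          s * (u * (s⁻¹ * (u⁻¹ * e * u) * s) * u⁻¹) * s⁻¹ := by group
      have h6 : s⁻¹ * (u⁻¹ * e * u) * s = (u⁻¹ * e * u)⁻¹ := by
        have h8 : s⁻¹ * (s * (u⁻¹ * e * u) * s⁻¹)⁻¹ * s = (u⁻¹ * e * u)⁻¹ := by group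
        rw [h4, inv_inv] at h8
        exact h8
      rw [h5, h6]
      have h7 : u * (u⁻¹ * e * u)⁻¹ * u⁻¹ = e⁻¹ := by group
      rw [h7, h _ (inv_mem he), inv_inv]
  rw [mem_centralizer_singleton_iff]
  calc e * b = (b * e * b⁻¹) * b := by rw [h1]
    _ = b * e := by group

/-- **Rank** `|E| > p ^ 2` for an `S`-invariant subgroup `E ≠ 1` of `D`. -/
theorem sq_lt_card {E : Subgroup G} (hE : E ≤ piCoreOf {p} (oc (centralizer ({a} : Set G))))
    (hE1 : E ≠ ⊥) (hSE : S ≤ normalizer (E : Set G)) : p ^ 2 < Nat.card E := by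
  haveI := Fact.mk Z.prime
  by_contra hle
  push Not at hle
  obtain ⟨s, hs, hsA, hsa⟩ := Z.exists_sq
  have hEp : IsPGroup p E := (FitCores.isPGroup_piCoreOf Z.prime _).to_le hE
  have hEa : ∀ e ∈ E, e * a = a * e := fun e he =>
    mem_centralizer_singleton_iff.mp (Z.core_le_cent (hE he))
  set C : Subgroup G := E ⊓ centralizer ({s} : Set G) with hC
  -- `C ≠ 1`
  have hC1 : C ≠ ⊥ := by
    intro hbot
    refine Z.not_central hE hE1 hSE hs hsA (Or.inr fun e he => ?_)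
    have h1 : s * e * s⁻¹ ∈ E := conj_mem_of_mem_normalizer (hSE hs) he
    have h2 : s * (s * e * s⁻¹) * s⁻¹ = e := by
      calc s * (s * e * s⁻¹) * s⁻¹ = (s * s) * e * (s * s)⁻¹ := by group
        _ = (a * e) * a⁻¹ := by rw [hsa]
        _ = e := by rw [← hEa e he]; group
    have h3 : e * (s * e * s⁻¹) ∈ C := by
      refine mem_inf.mpr ⟨mul_mem he h1, ?_⟩
      rw [mem_centralizer_singleton_iff]
      have h4 : s * (e * (s * e * s⁻¹)) * s⁻¹ = e * (s * e * s⁻¹) := by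
        calc s * (e * (s * e * s⁻¹)) * s⁻¹ = (s * e * s⁻¹) * (s * (s * e * s⁻¹) * s⁻¹) := by group
          _ = (s * e * s⁻¹) * e := by rw [h2]
          _ = e * (s * e * s⁻¹) := Z.core_comm (hE h1) (hE he)
      calc e * (s * e * s⁻¹) * s = (s * (e * (s * e * s⁻¹)) * s⁻¹) * s := by rw [h4]
        _ = s * (e * (s * e * s⁻¹)) := by group
    rw [hbot, mem_bot] at h3
    exact (inv_eq_of_mul_eq_one_right h3).symm
  -- `C ≠ E`
  have hCE : C < E := by
    refine lt_of_le_of_ne inf_le_left ?_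
    intro heq
    refine Z.not_central hE hE1 hSE hs hsA (Or.inl fun e he => ?_)
    rw [← heq] at he
    have h1 := mem_centralizer_singleton_iff.mp (mem_inf.mp he).2
    rw [← h1]; group
  -- `|C| = p`
  have hCp : IsPGroup p C := hEp.to_le inf_le_left
  have hcard : Nat.card C = p := by
    obtain ⟨m, hm⟩ := IsPGroup.iff_card.mp hCp
    obtain ⟨n, hn⟩ := IsPGroup.iff_card.mp hEp
    have h1 := card_lt_of_lt hCE
    rw [hm, hn] at h1
    rw [hn] at hle
    have h2 : m < n := (Nat.pow_lt_pow_iff_right Z.prime.one_lt).mp h1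
    have h3 : n ≤ 2 := (Nat.pow_le_pow_iff_right Z.prime.one_lt).mp hle
    have h4 : m ≠ 0 := by
      rintro rfl
      apply hC1
      rw [← card_eq_one, hm, pow_zero]
    have h5 : m = 1 := by omega
    rw [hm, h5, pow_one]
  have hcyc : IsCyclic C := isCyclic_of_prime_card hcard
  -- `u` and `v`
  obtain ⟨u, hu, hsu, huA, hsuA⟩ := Z.syl.exists_comm hs hsA
  obtain ⟨v, hv, hva⟩ := Z.frame.surj s hs hsA a Z.ha
  have hkv : k s v = a := hva
  have huC : u ∈ normalizer (C : Set G) := by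
    apply mem_normalizer_of_conj
    rintro x hx
    have hxE := (mem_inf.mp hx).1
    have hxs := mem_centralizer_singleton_iff.mp (mem_inf.mp hx).2
    refine mem_inf.mpr ⟨conj_mem_of_mem_normalizer (hSE hu) hxE, ?_⟩
    rw [mem_centralizer_singleton_iff]
    have h1 : u⁻¹ * s = s * u⁻¹ := by
      calc u⁻¹ * s = u⁻¹ * (s * u) * u⁻¹ := by group
        _ = u⁻¹ * (u * s) * u⁻¹ := by rw [hsu]
        _ = s * u⁻¹ := by group
    calc u * x * u⁻¹ * s = u * x * (u⁻¹ * s) := by group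
      _ = u * (x * s) * u⁻¹ := by rw [h1]; group
      _ = (u * s) * x * u⁻¹ := by rw [hxs]; group
      _ = s * (u * x * u⁻¹) := by rw [← hsu]; group
  have hvC : v ∈ normalizer (C : Set G) := by
    apply mem_normalizer_of_conj
    rintro x hx
    have hxE := (mem_inf.mp hx).1
    have hxs := mem_centralizer_singleton_iff.mp (mem_inf.mp hx).2
    have hyE := conj_mem_of_mem_normalizer (hSE hv) hxE
    refine mem_inf.mpr ⟨hyE, ?_⟩
    rw [mem_centralizer_singleton_iff]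
    have hya := hEa _ hyE
    -- `v s v⁻¹ = a⁻¹ s`
    have h1 : v * s * v⁻¹ = a⁻¹ * s := by
      have h2 : a⁻¹ = v * s * v⁻¹ * s⁻¹ := by rw [← hva]; group
      rw [h2]; group
    have h2 : (v * x * v⁻¹) * (v * s * v⁻¹) = (v * s * v⁻¹) * (v * x * v⁻¹) := by
      calc (v * x * v⁻¹) * (v * s * v⁻¹) = v * (x * s) * v⁻¹ := by group
        _ = v * (s * x) * v⁻¹ := by rw [hxs]
        _ = (v * s * v⁻¹) * (v * x * v⁻¹) := by group
    rw [h1] at h2
    calc v * x * v⁻¹ * s = a * (v * x * v⁻¹) * (a⁻¹ * s) := by rw [← hya]; group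
      _ = a * ((v * x * v⁻¹) * (a⁻¹ * s)) := by group
      _ = a * (a⁻¹ * s * (v * x * v⁻¹)) := by rw [h2]
      _ = s * (v * x * v⁻¹) := by group
  have hw := cyclic_comm hcyc huC hvC
  have hwA : u * v * u⁻¹ * v⁻¹ ∈ A := Z.frame.comm u hu v hv
  have hnot : ¬ s * v = v * s := by
    intro h1
    exact Z.ha1 (hkv.symm.trans (k_eq_one_iff.mpr h1))
  have hw1 : u * v * u⁻¹ * v⁻¹ ≠ 1 := by
    intro h1
    exact hnot (Z.syl.trans hs hu huA hv hsu (k_eq_one_iff.mp h1))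
  have hwa : u * v * u⁻¹ * v⁻¹ ≠ a := by
    intro h1
    have h2 : k u v = a := h1
    have h3 : k (s * u) v = 1 := by
      rw [Z.syl.k_mul_left hs hu hv, hkv, h2, Z.aInv.1]
    refine hnot (Z.syl.trans hs (mul_mem hs hu) hsuA hv ?_ (k_eq_one_iff.mp h3))
    rw [mul_assoc, ← hsu]
  apply hC1
  rw [eq_bot_iff, ← Z.inf_eq_bot]
  intro x hx
  have hxE := (mem_inf.mp hx).1
  exact mem_inf.mpr ⟨hE hxE, Z.cent_le_b hwA hw1 hwa (Z.core_le_cent (hE hxE)) (hw hx)⟩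

end ZData

end Cfsg.Agent.TwoFusion.GoldM1Z
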