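import Mathlib
import Cfsg.Agent.TwoFusion.GoldM1ZRank
import Cfsg.Agent.S0215

/-!
# Case [M1] of Goldschmidt's theorem, type Z: centralisers of subgroups of `D`

For `1 ≠ D' ≤ D = O_p(O(C(a)))` the involution `a` is the only involution of `C(D')` commuting with `a`, so that
`[a, C(D')] ≤ O(C(D'))` by Glauberman's Z*-theorem (`ZData.zstar`).
`ZData.odd_le_core` : subgroups of odd order of `C(a) ∩ C(F(O(C(a))))` lie in `O(C(a))`.
-/

set_option autoImplicit false
set_option linter.unusedSectionVars false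
set_option linter.style.haveILetI false

namespace Cfsg.Agent.TwoFusion.GoldM1Z

open Subgroup Cfsg
open Cfsg.Agent.OddOrderLocal.PiCoreOf
open Cfsg.Agent.OddOrderLocal
open Cfsg.Agent.Classification.TypeB.Core (oc oc_le odd_oc normalizer_le_oc le_normalizer_oc le_oc
  odd_of_isPGroup)
open Cfsg.Agent.Classification.TypeB.Basic (IsInv mem_normalizer_of_conj le_of_four odd_of_le
  conj_mem_of_mem_normalizer inverts_of_fixedPointFree coprime_of_odd zpowers_le_centralizer_iff
  centralizer_zpowers)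
open Cfsg.Agent.TwoFusion.GoldM1

variable {G : Type*} [Group G] [Finite G]

/-- If `Y ⊴ X` has a central Sylow 2-subgroup `⟨a⟩`, then subgroups of odd order of `Y` lie in `O(X)`. -/
theorem le_oc_of_central {X Y : Subgroup G} (hYX : Y ≤ X) (hXY : X ≤ normalizer (Y : Set G)) {a : G}
    (hYa : Y ≤ centralizer ({a} : Set G)) (hT : ∀ T ≤ Y, IsPGroup 2 T → T ≤ zpowers a)
    {W : Subgroup G} (hWY : W ≤ Y) (hW : Odd (Nat.card W)) : W ≤ oc X := by
  haveI : Fact (Nat.Prime 2) := ⟨Nat.prime_two⟩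
  obtain ⟨P⟩ : Nonempty (Sylow 2 Y) := inferInstance
  have hPa : (P : Subgroup Y).map Y.subtype ≤ zpowers a :=
    hT _ (map_subtype_le _) (P.isPGroup'.map _)
  have hPc : normalizer (P : Set Y) ≤ centralizer (P : Set Y) := by
    intro y _
    rw [mem_centralizer_iff]
    intro x hx
    have h1 : (x : G) ∈ zpowers a := hPa ⟨x, hx, rfl⟩
    have h2 : (y : G) ∈ centralizer (zpowers a : Set G) := by
      rw [centralizer_zpowers]
      exact hYa y.2
    exact Subtype.ext (mem_centralizer_iff.mp h2 x h1)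
  set K : Subgroup Y := (MonoidHom.transferSylow P hPc).ker with hK
  have hKodd : Odd (Nat.card K) := by
    rw [← Nat.not_even_iff_odd, even_iff_two_dvd]
    exact MonoidHom.not_dvd_card_ker_transferSylow P hPc
  -- elements of odd order lie in `K`
  have hmem : ∀ y : Y, Odd (orderOf y) → y ∈ K := by
    intro y hy
    rw [hK, MonoidHom.mem_ker]
    have h1 : orderOf (MonoidHom.transferSylow P hPc y) ∣ orderOf y := orderOf_map_dvd _ _
    have h2 : Odd (orderOf (MonoidHom.transferSylow P hPc y)) := hy.of_dvd_nat h1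
    obtain ⟨n, hn⟩ := IsPGroup.iff_orderOf.mp P.isPGroup' (MonoidHom.transferSylow P hPc y)
    rcases Nat.eq_zero_or_pos n with h0 | h0
    · rw [h0, pow_zero] at hn
      exact orderOf_eq_one_iff.mp hn
    · exfalso
      rw [hn] at h2
      have h3 : Even (2 ^ n) := (even_two).pow_of_ne_zero h0.ne'
      exact (Nat.not_even_iff_odd.mpr h2) h3
  have hKX : K.map Y.subtype ≤ oc X := by
    refine le_oc ((map_subtype_le _).trans hYX) ?_ ?_
    · intro x hx
      apply mem_normalizer_of_conj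
      rintro _ ⟨y, hy, rfl⟩
      have h1 : x * (y : G) * x⁻¹ ∈ Y := conj_mem_of_mem_normalizer (hXY hx) y.2
      refine ⟨⟨_, h1⟩, hmem _ ?_, rfl⟩
      have h2 : Odd (orderOf (y : G)) := by
        have h3 : orderOf (⟨y, hy⟩ : K) ∣ Nat.card K := orderOf_dvd_natCard _
        rw [← Subgroup.orderOf_coe, ← Subgroup.orderOf_coe] at h3
        exact hKodd.of_dvd_nat h3
      rw [← Subgroup.orderOf_coe]
      have h3 : orderOf (x * (y : G) * x⁻¹) = orderOf (y : G) := by
        have := orderOf_injective (MulAut.conj x).toMonoidHom (MulAut.conj x).injective (y : G)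
        exact this
      change Odd (orderOf (x * (y : G) * x⁻¹))
      rwa [h3]
    · rw [Nat.card_congr (K.equivMapOfInjective Y.subtype Y.subtype_injective).symm.toEquiv]
      exact hKodd
  intro w hw
  apply hKX
  refine ⟨⟨w, hWY hw⟩, hmem _ ?_, rfl⟩
  rw [← Subgroup.orderOf_coe]
  have h3 : orderOf (⟨w, hw⟩ : W) ∣ Nat.card W := orderOf_dvd_natCard _
  rw [← Subgroup.orderOf_coe] at h3
  exact hW.of_dvd_nat h3

theorem normalizer_le_fittingOf (M : Subgroup G) :
    normalizer (M : Set G) ≤ normalizer (fittingOf M : Set G) := by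
  intro g hg
  rw [mem_normalizer_iff_conj] at hg ⊢
  rw [← Equivariance.fittingOf_map, hg]

namespace ZData

variable {S A : Subgroup G} {g0 a b : G} {p : ℕ} (Z : ZData S A g0 a b p)
include Z

/-- 2-subgroups of `C(a)` are conjugate in `C(a)` to subgroups of `S`. -/
theorem exists_conj_le {T : Subgroup G} (hT : IsPGroup 2 T)
    (hTC : T ≤ centralizer ({a} : Set G)) :
    ∃ k ∈ centralizer ({a} : Set G), ∀ t ∈ T, k * t * k⁻¹ ∈ S := by
  haveI : Fact (Nat.Prime 2) := ⟨Nat.prime_two⟩
  have F := Z.frame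
  have h1 : IsPGroup 2 (T.subgroupOf (centralizer ({a} : Set G))) :=
    hT.of_equiv (subgroupOfEquivOfLe hTC).symm
  have h2 : IsPGroup 2 (S.subgroupOf (centralizer ({a} : Set G))) :=
    F.isPGroup_S.of_equiv (subgroupOfEquivOfLe Z.S_le).symm
  have h3 : ¬ 2 ∣ (S.subgroupOf (centralizer ({a} : Set G))).index := by
    intro h
    apply F.sylow
    have h4 := relIndex_mul_index Z.S_le
    rw [← h4]
    exact dvd_mul_of_dvd_left h _
  obtain ⟨P, hP⟩ := h1.exists_le_sylow
  obtain ⟨k, hk⟩ := MulAction.exists_smul_eq (centralizer ({a} : Set G)) P (h2.toSylow h3)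
  refine ⟨k, k.2, fun t ht => ?_⟩
  have h5 : k * ⟨t, hTC ht⟩ * k⁻¹ ∈ ((k • P : Sylow 2 _) : Subgroup (centralizer ({a} : Set G))) := by
    rw [Sylow.coe_subgroup_smul, Subgroup.mem_pointwise_smul_iff_inv_smul_mem]
    have h6 : (⟨t, hTC ht⟩ : centralizer ({a} : Set G)) ∈ (P : Subgroup _) := hP ht
    simpa [MulAut.smul_def, mul_assoc] using h6
  rw [hk] at h5
  exact h5

/-- for `x ∈ A \ ⟨a⟩`, `C_D(x) = 1` -/
theorem eq_one_of_cent {x y : G} (hx : x ∈ A) (hx1 : x ≠ 1) (hxa : x ≠ a)
    (hy : y ∈ piCoreOf {p} (oc (centralizer ({a} : Set G))))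
    (hyx : y ∈ centralizer ({x} : Set G)) : y = 1 := by
  rw [← mem_bot, ← Z.inf_eq_bot]
  exact mem_inf.mpr ⟨hy, Z.cent_le_b hx hx1 hxa (Z.core_le_cent hy) hyx⟩

/-- `a` is the only involution of `C(D')` commuting with `a`. -/
theorem isolated {D' : Subgroup G} (hD : D' ≤ piCoreOf {p} (oc (centralizer ({a} : Set G))))
    (hD1 : D' ≠ ⊥) {x : G} (hx : IsInv x) (hxD : x ∈ centralizer (D' : Set G))
    (hxa : x * a = a * x) : x = a := by
  have F := Z.frame
  by_contra hne
  have hxC : x ∈ centralizer ({a} : Set G) := mem_centralizer_singleton_iff.mpr hxa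
  obtain ⟨k, hk, hkS⟩ := Z.exists_conj_le (T := zpowers x) hx.isPGroup (by rwa [zpowers_le])
  have h1 : k * x * k⁻¹ ∈ S := hkS x (mem_zpowers x)
  have h2 : k * x * k⁻¹ ∈ A := F.inv _ h1 (hx.conj k).1
  have h3 : k * x * k⁻¹ ≠ 1 := (hx.conj k).2
  have hka : k * a = a * k := mem_centralizer_singleton_iff.mp hk
  have h4 : k * x * k⁻¹ ≠ a := by
    intro h
    apply hne
    have h5 : x = k⁻¹ * (k * x * k⁻¹) * k := by group
    rw [h5, h]
    calc k⁻¹ * a * k = k⁻¹ * (a * k) := by group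
      _ = k⁻¹ * (k * a) := by rw [hka]
      _ = a := by group
  apply hD1
  rw [eq_bot_iff]
  intro d hd
  have h5 : k * d * k⁻¹ ∈ piCoreOf {p} (oc (centralizer ({a} : Set G))) :=
    conj_mem_of_mem_normalizer (Z.cent_le_normalizer _ hk) (hD hd)
  have h6 : k * d * k⁻¹ = 1 := by
    refine Z.eq_one_of_cent h2 h3 h4 h5 ?_
    rw [mem_centralizer_singleton_iff]
    have h7 := mem_centralizer_iff.mp hxD d hd
    calc k * d * k⁻¹ * (k * x * k⁻¹) = k * (d * x) * k⁻¹ := by group
      _ = k * (x * d) * k⁻¹ := by rw [h7]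
      _ = k * x * k⁻¹ * (k * d * k⁻¹) := by group
  rw [mem_bot]
  calc d = k⁻¹ * (k * d * k⁻¹) * k := by group
    _ = 1 := by rw [h6]; group

/-- `a ∈ C(D')` -/
theorem mem_cent {D' : Subgroup G} (hD : D' ≤ piCoreOf {p} (oc (centralizer ({a} : Set G)))) :
    a ∈ centralizer (D' : Set G) := by
  rw [mem_centralizer_iff]
  intro d hd
  exact mem_centralizer_singleton_iff.mp (Z.core_le_cent (hD hd))

/-- **(Z3)** `[a, C(D')] ≤ O(C(D'))`, by the Z*-theorem. -/
theorem zstar {D' : Subgroup G} (hD : D' ≤ piCoreOf {p} (oc (centralizer ({a} : Set G))))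
    (hD1 : D' ≠ ⊥) {g : G} (hg : g ∈ centralizer (D' : Set G)) :
    a * g * a⁻¹ * g⁻¹ ∈ oc (centralizer (D' : Set G)) := by
  haveI : Fact (Nat.Prime 2) := ⟨Nat.prime_two⟩
  set B : Subgroup G := centralizer (D' : Set G) with hB
  set α : B := ⟨a, Z.mem_cent hD⟩ with hα
  have hα2 : orderOf α = 2 := by
    rw [← Subgroup.orderOf_coe]
    exact Z.aInv.orderOf_eq
  have hαp : IsPGroup 2 (zpowers α) := by
    rw [IsPGroup.iff_card]
    exact ⟨1, by rw [Nat.card_zpowers, hα2, pow_one]⟩
  obtain ⟨P, hP⟩ := hαp.exists_le_sylow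
  have hαP : α ∈ P := hP (mem_zpowers α)
  -- involutions of `B` commuting with `α`
  have hiso : ∀ x : B, x * x = 1 → x ≠ 1 → x * α = α * x → x = α := by
    intro x hx2 hx1 hxa
    apply Subtype.ext
    refine Z.isolated hD hD1 ⟨congrArg Subtype.val hx2, fun h => hx1 (Subtype.ext h)⟩ x.2
      (congrArg Subtype.val hxa)
  -- `α` is central in `P`
  have hcen : ∀ x ∈ P, x * α = α * x := by
    have hnt : Nontrivial P := by
      refine ⟨⟨⟨α, hαP⟩, 1, ?_⟩⟩
      intro h
      have h1 : α = 1 := congrArg Subtype.val h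
      rw [h1, orderOf_one] at hα2
      norm_num at hα2
    have h1 : Nontrivial (center P) := P.isPGroup'.center_nontrivial
    obtain ⟨z, hz⟩ := exists_prime_orderOf_dvd_card' (G := center P) 2 (by
      obtain ⟨n, hn⟩ := IsPGroup.iff_card.mp (P.isPGroup'.to_subgroup (center P))
      have h2 : 1 < Nat.card (center P) := Finite.one_lt_card
      rw [hn] at h2 ⊢
      have h3 : n ≠ 0 := by
        rintro rfl
        rw [pow_zero] at h2
        exact lt_irrefl _ h2
      exact dvd_pow_self 2 h3)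
    have hz1 : ((z : P) : B) ≠ 1 := by
      intro h
      have h2 : z = 1 := Subtype.ext (Subtype.ext h)
      rw [h2, orderOf_one] at hz
      norm_num at hz
    have hzz : z * z = 1 := by
      have h2 := pow_orderOf_eq_one z
      rwa [hz, pow_two] at h2
    have hz2 : ((z : P) : B) * ((z : P) : B) = 1 := by
      have := congrArg (fun t : center P => ((t : P) : B)) hzz
      exact this
    have hzc : ∀ x : P, (x : B) * ((z : P) : B) = ((z : P) : B) * (x : B) := by
      intro x
      have h2 := (mem_center_iff.mp z.2) x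
      exact congrArg Subtype.val h2
    have h2 := hiso _ hz2 hz1 (hzc ⟨α, hαP⟩).symm
    intro x hx
    have h3 := hzc ⟨x, hx⟩
    rw [h2] at h3
    exact h3
  obtain ⟨N, hN, hNodd, hNc⟩ := Cfsg.Agent.S0215.result P α hα2 hαP (by
    intro x hx
    refine hiso _ ?_ ?_ (hcen _ hx)
    · have h1 : α * α = 1 := by rw [← pow_two, ← hα2, pow_orderOf_eq_one]
      calc x * α * x⁻¹ * (x * α * x⁻¹) = x * (α * α) * x⁻¹ := by group
        _ = 1 := by rw [h1]; group
    · intro h
      have h1 : α = 1 := by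
        calc α = x⁻¹ * (x * α * x⁻¹) * x := by group
          _ = 1 := by rw [h]; group
      rw [h1, orderOf_one] at hα2
      norm_num at hα2)
  have h1 : N.map B.subtype ≤ oc B := by
    refine le_oc (map_subtype_le _) ?_ ?_
    · intro x hx
      apply mem_normalizer_of_conj
      rintro _ ⟨y, hy, rfl⟩
      exact ⟨⟨x, hx⟩ * y * ⟨x, hx⟩⁻¹, hN.conj_mem y hy _, rfl⟩
    · rw [Nat.card_congr (N.equivMapOfInjective B.subtype B.subtype_injective).symm.toEquiv]
      exact hNodd
  exact h1 ⟨_, hNc ⟨g, hg⟩, rfl⟩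

/-- `D ≤ F(O(C(a)))` -/
theorem core_le_fitting : piCoreOf {p} (oc (centralizer ({a} : Set G))) ≤
    fittingOf (oc (centralizer ({a} : Set G))) :=
  FitCores.piCoreOf_singleton_le_fittingOf Z.prime _

/-- `D` is centralised by `F(O(C(a)))`. -/
theorem fitting_le_cent : fittingOf (oc (centralizer ({a} : Set G))) ≤
    centralizer (piCoreOf {p} (oc (centralizer ({a} : Set G))) : Set G) := by
  rw [FitCores.fittingOf_le_iff]
  intro q hq
  by_cases hqp : q = p
  · subst hqp
    intro x hx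
    rw [mem_centralizer_iff]
    intro y hy
    exact Z.core_comm hy hx
  · exact FitCores.core_le_centralizer_core hq Z.prime hqp _

/-- Subgroups of odd order of `C(a) ∩ C(F(O(C(a))))` lie in `O(C(a))`. -/
theorem odd_le_core {W : Subgroup G} (hW : Odd (Nat.card W))
    (hWa : W ≤ centralizer ({a} : Set G))
    (hWF : W ≤ centralizer (fittingOf (oc (centralizer ({a} : Set G))) : Set G)) :
    W ≤ oc (centralizer ({a} : Set G)) := by
  have F := Z.frame
  set Fi : Subgroup G := fittingOf (oc (centralizer ({a} : Set G))) with hFi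
  set Y : Subgroup G := centralizer ({a} : Set G) ⊓ centralizer (Fi : Set G) with hY
  have hCF : centralizer ({a} : Set G) ≤ normalizer (Fi : Set G) :=
    (le_normalizer_oc _).trans (normalizer_le_fittingOf _)
  have hCY : ∀ k ∈ centralizer ({a} : Set G), ∀ y ∈ Y, k * y * k⁻¹ ∈ Y := by
    intro k hk y hy
    refine mem_inf.mpr ⟨mul_mem (mul_mem hk (mem_inf.mp hy).1) (inv_mem hk), ?_⟩
    rw [mem_centralizer_iff]
    intro f hf
    have h1 : k⁻¹ * f * k ∈ Fi := by
      have := conj_mem_of_mem_normalizer (inv_mem (hCF hk)) hf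
      simpa using this
    have h2 := mem_centralizer_iff.mp (mem_inf.mp hy).2 _ h1
    calc f * (k * y * k⁻¹) = k * ((k⁻¹ * f * k) * y) * k⁻¹ := by group
      _ = k * (y * (k⁻¹ * f * k)) * k⁻¹ := by rw [h2]
      _ = k * y * k⁻¹ * f := by group
  -- `Y ∩ A ≤ ⟨a⟩`
  have hYA : ∀ x ∈ Y, x ∈ A → x = 1 ∨ x = a := by
    intro x hx hxA
    by_contra hcon
    push Not at hcon
    apply Z.ne_bot
    rw [eq_bot_iff]
    intro d hd
    rw [mem_bot]
    refine Z.eq_one_of_cent hxA hcon.1 hcon.2 hd ?_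
    rw [mem_centralizer_singleton_iff]
    exact mem_centralizer_iff.mp (mem_inf.mp hx).2 d (Z.core_le_fitting hd)
  refine le_oc_of_central (Y := Y) inf_le_left (fun k hk => mem_normalizer_of_conj (hCY k hk))
    (a := a) inf_le_left ?_ (le_inf hWa hWF) hW
  intro T hTY hT t ht
  obtain ⟨k, hk, hkS⟩ := Z.exists_conj_le hT (hTY.trans inf_le_left)
  have h1 : k * t * k⁻¹ ∈ Y := hCY k hk t (hTY ht)
  have h2 : k * t * k⁻¹ ∈ S := hkS t ht
  have h3 : k * t * k⁻¹ ∈ A := by
    by_contra h4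
    obtain ⟨u, hu, hub⟩ := F.surj _ h2 h4 b Z.hb
    have h5 : b ∈ Y := by
      rw [← hub]
      have h6 := hCY u (Z.S_le hu) _ (inv_mem h1)
      have h7 := mul_mem h1 h6
      have h8 : k * t * k⁻¹ * (u * (k * t * k⁻¹)⁻¹ * u⁻¹) =
        k * t * k⁻¹ * u * (k * t * k⁻¹)⁻¹ * u⁻¹ := by group
      rwa [h8] at h7
    rcases hYA b h5 Z.hb with h6 | h6
    · exact Z.hb1 h6
    · exact Z.hba h6
  have hka : k * a = a * k := mem_centralizer_singleton_iff.mp hk
  rcases hYA _ h1 h3 with h4 | h4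
  · have h5 : t = 1 := by
      calc t = k⁻¹ * (k * t * k⁻¹) * k := by group
        _ = 1 := by rw [h4]; group
    rw [h5]
    exact one_mem _
  · have h5 : t = a := by
      calc t = k⁻¹ * (k * t * k⁻¹) * k := by group
        _ = k⁻¹ * (a * k) := by rw [h4]; group
        _ = k⁻¹ * (k * a) := by rw [hka]
        _ = a := by group
    rw [h5]
    exact mem_zpowers a

end ZData

end Cfsg.Agent.TwoFusion.GoldM1Z
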