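import Mathlib
import Cfsg.Agent.TwoFusion.GoldM1ZStar

/-!
# Case [M1] of Goldschmidt's theorem, type Z: the subgroups `L_{D'}`

For `1 ≠ D' ≤ D = O_p(O(C(a)))` let `L_{D'}` be the largest normal subgroup of `O(C(D'))` of order prime to
`|F(O(C(a)))|`.  The involution `a` inverts `L_{D'}`, and `L_{D'} = 1` implies `C(D') ≤ C(a)`
(`ZData.cent_le_of_LL_eq_bot`).  If `D₁ ∩ D₂ ≠ 1` then `L_{D₁}` and `L_{D₂}` commute (`ZData.LL_comm`).
-/

set_option autoImplicit false
set_option linter.unusedSectionVars false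
set_option linter.style.haveILetI false

namespace Cfsg.Agent.TwoFusion.GoldM1Z

open Subgroup Cfsg
open Cfsg.Agent.OddOrderLocal.PiCoreOf
open Cfsg.Agent.OddOrderLocal
open Cfsg.Agent.Classification.TypeB.Core (oc oc_le odd_oc normalizer_le_oc le_normalizer_oc le_oc
  odd_of_isPGroup)
open Cfsg.Agent.Classification.TypeB.Basic (IsInv mem_normalizer_of_conj le_of_four odd_of_le
  conj_mem_of_mem_normalizer inverts_of_fixedPointFree coprime_of_odd zpowers_le_centralizer_iff
  centralizer_zpowers le_centralizer_of_normalize eq_one_of_sq)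
open Cfsg.Agent.TwoFusion.GoldM1

/-- `|F(O(C(a)))|` -/
noncomputable def nn {G : Type*} [Group G] (a : G) : ℕ :=
  Nat.card (fittingOf (oc (centralizer ({a} : Set G))))

/-- `L_{D'}` -/
def LL {G : Type*} [Group G] (a : G) (D' : Subgroup G) : Subgroup G :=
  piCoreOf (primesNotDvd (nn a)) (oc (centralizer (D' : Set G)))

variable {G : Type*} [Group G] [Finite G]

theorem LL_def (a : G) (D' : Subgroup G) :
    LL a D' = piCoreOf (primesNotDvd (nn a)) (oc (centralizer (D' : Set G))) := rfl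

theorem LL_le_oc (a : G) (D' : Subgroup G) : LL a D' ≤ oc (centralizer (D' : Set G)) :=
  piCoreOf_le _ _

theorem LL_le_cent (a : G) (D' : Subgroup G) : LL a D' ≤ centralizer (D' : Set G) :=
  (LL_le_oc a D').trans (oc_le _)

theorem odd_LL (a : G) (D' : Subgroup G) : Odd (Nat.card (LL a D')) :=
  odd_of_le (LL_le_oc a D') (odd_oc _)

theorem coprime_LL (a : G) (D' : Subgroup G) : (Nat.card (LL a D')).Coprime (nn a) :=
  FitCores.coprime_piCoreOf _ _

theorem cent_le_normalizer_LL (a : G) (D' : Subgroup G) :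
    centralizer (D' : Set G) ≤ normalizer (LL a D' : Set G) :=
  (le_normalizer_oc _).trans (normalizer_le_normalizer_piCoreOf _ _)

/-- an element of odd order lies in a subgroup which contains its square. -/
theorem mem_of_sq_mem {H : Subgroup G} {l : G} (hl : Odd (orderOf l)) (h : l * l ∈ H) : l ∈ H := by
  obtain ⟨k, hk⟩ := hl
  have h1 : l ^ (2 * k + 1) = 1 := by rw [← hk]; exact pow_orderOf_eq_one l
  have h2 : (l * l) ^ (k + 1) = l := by
    rw [← pow_two, ← pow_mul]
    have h3 : 2 * (k + 1) = (2 * k + 1) + 1 := by ring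
    rw [h3, pow_succ, h1, one_mul]
  rw [← h2]
  exact pow_mem h _

theorem odd_orderOf {K : Subgroup G} (hK : Odd (Nat.card K)) {l : G} (hl : l ∈ K) :
    Odd (orderOf l) := by
  have h1 : orderOf (⟨l, hl⟩ : K) ∣ Nat.card K := orderOf_dvd_natCard _
  rw [← Subgroup.orderOf_coe] at h1
  exact hK.of_dvd_nat h1

theorem LL_conj (a : G) (D' : Subgroup G) (c : G) :
    LL a (D'.map (MulAut.conj c).toMonoidHom) = (LL a D').map (MulAut.conj c).toMonoidHom := by
  rw [LL_def, LL_def, ← Equivariance.map_centralizer_subgroup, oc, oc, Equivariance.piCoreOf_map,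
    Equivariance.piCoreOf_map]

namespace ZData

variable {S A : Subgroup G} {g0 a b : G} {p : ℕ} (Z : ZData S A g0 a b p)
include Z

theorem fitting_le_cent_of_le {D' : Subgroup G}
    (hD : D' ≤ piCoreOf {p} (oc (centralizer ({a} : Set G)))) :
    fittingOf (oc (centralizer ({a} : Set G))) ≤ centralizer (D' : Set G) :=
  Z.fitting_le_cent.trans (centralizer_le hD)

/-- `C_{L_{D'}}(a) = 1` -/
theorem LL_inf {D' : Subgroup G} (hD : D' ≤ piCoreOf {p} (oc (centralizer ({a} : Set G)))) :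
    LL a D' ⊓ centralizer ({a} : Set G) = ⊥ := by
  have hFB := Z.fitting_le_cent_of_le hD
  set Fi : Subgroup G := fittingOf (oc (centralizer ({a} : Set G))) with hFi
  set W : Subgroup G := LL a D' ⊓ centralizer ({a} : Set G) with hW
  have hFa : Fi ≤ centralizer ({a} : Set G) := (FitAux.fittingOf_le _).trans (oc_le _)
  have hWF : W ⊓ Fi = ⊥ := by
    apply FitCores.disjoint_of_coprime
    exact Nat.Coprime.coprime_dvd_left (card_dvd_of_le inf_le_left) (coprime_LL a D')
  have hWodd : Odd (Nat.card W) := odd_of_le inf_le_left (odd_LL a D')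
  have h1 : W ≤ centralizer (Fi : Set G) := by
    refine le_centralizer_of_normalize ?_ ?_ hWF
    · exact inf_le_right.trans ((le_normalizer_oc _).trans (normalizer_le_fittingOf _))
    · intro f hf
      apply mem_normalizer_of_conj
      intro w hw
      refine mem_inf.mpr ⟨conj_mem_of_mem_normalizer (cent_le_normalizer_LL a D' (hFB hf))
        (mem_inf.mp hw).1, mul_mem (mul_mem (hFa hf) (mem_inf.mp hw).2) (inv_mem (hFa hf))⟩
  have h2 : W ≤ oc (centralizer ({a} : Set G)) := Z.odd_le_core hWodd inf_le_right h1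
  have h3 : W ≤ Fi := (le_inf h2 h1).trans
    (FitCores.inf_centralizer_fittingOf_le (Z.frame.solv _ (odd_oc _)))
  rw [eq_bot_iff, ← hWF]
  exact le_inf le_rfl h3

/-- `a` inverts `L_{D'}`. -/
theorem LL_inverts {D' : Subgroup G} (hD : D' ≤ piCoreOf {p} (oc (centralizer ({a} : Set G))))
    {l : G} (hl : l ∈ LL a D') : a * l * a⁻¹ = l⁻¹ :=
  inverts_of_fixedPointFree Z.aInv (cent_le_normalizer_LL a D' (Z.mem_cent hD)) (Z.LL_inf hD) hl

/-- `a` centralises `O_q(O(C(D')))` if `O_q(O(C(a))) ≠ 1`. -/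
theorem core_le_cent_of_dvd {D' : Subgroup G}
    (hD : D' ≤ piCoreOf {p} (oc (centralizer ({a} : Set G)))) {q : ℕ} (hq : q.Prime)
    (hqn : q ∣ nn a) : piCoreOf {q} (oc (centralizer (D' : Set G))) ≤
      centralizer ({a} : Set G) := by
  haveI := Fact.mk hq
  have h1 : piCoreOf {q} (oc (centralizer ({a} : Set G))) ≠ ⊥ := FitCores.core_ne_bot_of_dvd hq hqn
  have hFB : piCoreOf {q} (oc (centralizer ({a} : Set G))) ≤ centralizer (D' : Set G) :=
    (FitCores.piCoreOf_singleton_le_fittingOf hq _).trans (Z.fitting_le_cent_of_le hD)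
  have hBn : centralizer (D' : Set G) ≤
      normalizer (piCoreOf {q} (oc (centralizer (D' : Set G))) : Set G) :=
    (le_normalizer_oc _).trans (normalizer_le_normalizer_piCoreOf _ _)
  refine le_trans le_sup_right (Z.cent_of_ge (Y := piCoreOf {q} (oc (centralizer ({a} : Set G))) ⊔
    piCoreOf {q} (oc (centralizer (D' : Set G)))) hq h1 ?_ ?_ le_sup_left)
  · exact (FitCores.isPGroup_piCoreOf hq _).to_sup_of_normal_right'
      (FitCores.isPGroup_piCoreOf hq _) (hFB.trans hBn)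
  · exact normalizer_inf_normalizer_le_normalizer_sup _ _
      ⟨Z.cent_le_normalizer _ (mem_centralizer_singleton_iff.mpr rfl), hBn (Z.mem_cent hD)⟩

omit Z in
theorem core_le_LL {D' : Subgroup G} {q : ℕ} (hq : q.Prime) (hqn : ¬ q ∣ nn a) :
    piCoreOf {q} (oc (centralizer (D' : Set G))) ≤ LL a D' :=
  FitCores.le_core_of_coprime (piCoreOf_le _ _) (le_normalizer_piCoreOf _ _)
    (FitCores.coprime_of_isPGroup hq hqn (FitCores.isPGroup_piCoreOf hq _))

/-- `L_{D'} = 1` implies `C(D') ≤ C(a)`. -/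
theorem cent_le_of_LL_eq_bot {D' : Subgroup G}
    (hD : D' ≤ piCoreOf {p} (oc (centralizer ({a} : Set G)))) (hD1 : D' ≠ ⊥)
    (hL : LL a D' = ⊥) : centralizer (D' : Set G) ≤ centralizer ({a} : Set G) := by
  have h1 : fittingOf (oc (centralizer (D' : Set G))) ≤ centralizer ({a} : Set G) := by
    rw [FitCores.fittingOf_le_iff]
    intro q hq
    by_cases hqn : q ∣ nn a
    · exact Z.core_le_cent_of_dvd hD hq hqn
    · refine (core_le_LL hq hqn).trans ?_
      rw [hL]
      exact bot_le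
  have h2 : oc (centralizer (D' : Set G)) ≤ centralizer ({a} : Set G) := by
    rw [← zpowers_le_centralizer_iff] at h1 ⊢
    refine FitCores.le_centralizer_of_centralizes_fitting ?_ (Z.frame.solv _ (odd_oc _))
      (coprime_of_odd (odd_oc _) Z.aInv) h1
    rw [zpowers_le]
    exact le_normalizer_oc _ (Z.mem_cent hD)
  intro g hg
  have h3 := Z.zstar hD hD1 hg
  have h4 := mem_centralizer_singleton_iff.mp (h2 h3)
  have h5 : a * g * a⁻¹ * g⁻¹ * (a * g * a⁻¹ * g⁻¹) = 1 := by
    have h6 : a * a = 1 := Z.aInv.1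
    have h7 : a⁻¹ = a := Z.aInv.inv_eq
    calc a * g * a⁻¹ * g⁻¹ * (a * g * a⁻¹ * g⁻¹) =
        (a * g * a⁻¹ * g⁻¹ * a) * (g * a⁻¹ * g⁻¹) := by group
      _ = (a * (a * g * a⁻¹ * g⁻¹)) * (g * a⁻¹ * g⁻¹) := by rw [h4]
      _ = (a * a) * g * (a * a)⁻¹ * g⁻¹ := by group
      _ = 1 := by rw [h6]; group
  have h6 := eq_one_of_sq (odd_oc _) h3 h5
  rw [mem_centralizer_singleton_iff]
  calc g * a = (a * g * a⁻¹ * g⁻¹)⁻¹ * (a * g) := by group
    _ = a * g := by rw [h6]; group

/-- `L_{D₁} ≤ O(C(D₀))` for `D₀ ≤ D₁`. -/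
theorem LL_le_oc_of_le {D0 D1 : Subgroup G}
    (hD : D1 ≤ piCoreOf {p} (oc (centralizer ({a} : Set G)))) (h01 : D0 ≤ D1) (h0 : D0 ≠ ⊥) :
    LL a D1 ≤ oc (centralizer (D0 : Set G)) := by
  intro l hl
  have h1 := Z.LL_inverts hD hl
  have h2 : l ∈ centralizer (D0 : Set G) := centralizer_le h01 (LL_le_cent a D1 hl)
  have h3 := Z.zstar (h01.trans hD) h0 h2
  rw [h1] at h3
  refine mem_of_sq_mem (odd_orderOf (odd_LL a D1) hl) ?_
  have h4 := inv_mem h3
  have h5 : (l⁻¹ * l⁻¹)⁻¹ = l * l := by rw [mul_inv_rev, inv_inv]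
  rwa [h5] at h4

/-- `L_{D₁}` centralises `F(O(C(D₀)))` for `D₀ ≤ D₁`. -/
theorem fitting_le_cent_LL {D0 D1 : Subgroup G}
    (hD : D1 ≤ piCoreOf {p} (oc (centralizer ({a} : Set G)))) (h01 : D0 ≤ D1) :
    fittingOf (oc (centralizer (D0 : Set G))) ≤ centralizer (LL a D1 : Set G) := by
  rw [FitCores.fittingOf_le_iff]
  intro q hq k hk
  rw [mem_centralizer_iff]
  intro l hl
  have h1 := Z.LL_inverts hD hl
  have h2 : l ∈ centralizer (D0 : Set G) := centralizer_le h01 (LL_le_cent a D1 hl)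
  have hn : centralizer (D0 : Set G) ≤
      normalizer (piCoreOf {q} (oc (centralizer (D0 : Set G))) : Set G) :=
    (le_normalizer_oc _).trans (normalizer_le_normalizer_piCoreOf _ _)
  have h3 : l * k * l⁻¹ ∈ piCoreOf {q} (oc (centralizer (D0 : Set G))) :=
    conj_mem_of_mem_normalizer (hn h2) hk
  have h4 : a * (l * k * l⁻¹) * a⁻¹ = (a * l * a⁻¹) * (a * k * a⁻¹) * (a * l * a⁻¹)⁻¹ := by group
  rw [h1] at h4
  have hlk : l * l ∈ centralizer ({k} : Set G) := by
    rw [mem_centralizer_singleton_iff]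
    by_cases hqn : q ∣ nn a
    · have h5 := Z.core_le_cent_of_dvd (h01.trans hD) hq hqn
      have h6 := mem_centralizer_singleton_iff.mp (h5 hk)
      have h7 := mem_centralizer_singleton_iff.mp (h5 h3)
      have h8 : a * k * a⁻¹ = k := by rw [← h6]; group
      have h9 : a * (l * k * l⁻¹) * a⁻¹ = l * k * l⁻¹ := by rw [← h7]; group
      rw [h8, h9] at h4
      calc l * l * k = l * (l * k * l⁻¹) * l := by group
        _ = l * (l⁻¹ * k * l⁻¹⁻¹) * l := by rw [h4]
        _ = k * (l * l) := by group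
    · have h5 := core_le_LL (a := a) (D' := D0) hq hqn
      have h8 := Z.LL_inverts (h01.trans hD) (h5 hk)
      have h9 := Z.LL_inverts (h01.trans hD) (h5 h3)
      rw [h8, h9] at h4
      -- `l k⁻¹ l⁻¹ = l⁻¹ k⁻¹ l`
      have h10 : l * k * l⁻¹ = l⁻¹ * k * l := by
        calc l * k * l⁻¹ = ((l * k * l⁻¹)⁻¹)⁻¹ := by group
          _ = (l⁻¹ * k⁻¹ * l⁻¹⁻¹)⁻¹ := by rw [h4]
          _ = l⁻¹ * k * l := by group
      calc l * l * k = l * (l * k * l⁻¹) * l := by group
        _ = l * (l⁻¹ * k * l) * l := by rw [h10]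
        _ = k * (l * l) := by group
  have h5 := mem_of_sq_mem (odd_orderOf (odd_LL a D1) hl) hlk
  exact mem_centralizer_singleton_iff.mp h5

/-- `L_{D₁}` and `L_{D₂}` commute if `D₁ ∩ D₂ ≠ 1`. -/
theorem LL_comm {D1 D2 : Subgroup G} (h1 : D1 ≤ piCoreOf {p} (oc (centralizer ({a} : Set G))))
    (h2 : D2 ≤ piCoreOf {p} (oc (centralizer ({a} : Set G)))) (h : D1 ⊓ D2 ≠ ⊥) :
    LL a D1 ≤ centralizer (LL a D2 : Set G) := by
  have h3 : LL a D1 ≤ fittingOf (oc (centralizer ((D1 ⊓ D2 : Subgroup G) : Set G))) := by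
    refine le_trans (le_inf (Z.LL_le_oc_of_le h1 inf_le_left h) ?_)
      (FitCores.inf_centralizer_fittingOf_le (Z.frame.solv _ (odd_oc _)))
    rw [le_centralizer_iff]
    exact Z.fitting_le_cent_LL h1 inf_le_left
  exact h3.trans (Z.fitting_le_cent_LL h2 inf_le_right)

end ZData

end Cfsg.Agent.TwoFusion.GoldM1Z
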