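import Mathlib
import Cfsg.Agent.TwoFusion.GoldM1ZComm
import Cfsg.Agent.S0058

/-!
# Case [M1] of Goldschmidt's theorem, type Z: `C(y) ≤ C(a)` for `y ∈ D`, `y ≠ 1`

`exists_data`: if `C(a)` is maximal and `O(C(a))` is not centralised by `b ∈ A`, then for some odd prime `p` the
group `D = O_p(O(C(a))) ≠ 1` is inverted by `b` and `C_G(y) ≤ C(a)` for all `y ∈ D`, `y ≠ 1`.
-/

set_option autoImplicit false
set_option linter.unusedSectionVars false
set_option linter.style.haveILetI false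

namespace Cfsg.Agent.TwoFusion.GoldM1Z

open Subgroup Cfsg
open Cfsg.Agent.OddOrderLocal.PiCoreOf
open Cfsg.Agent.OddOrderLocal
open Cfsg.Agent.Classification.TypeB.Core (oc oc_le odd_oc normalizer_le_oc le_normalizer_oc le_oc
  odd_of_isPGroup)
open Cfsg.Agent.Classification.TypeB.Basic (IsInv mem_normalizer_of_conj le_of_four odd_of_le
  conj_mem_of_mem_normalizer inverts_of_fixedPointFree coprime_of_odd zpowers_le_centralizer_iff
  centralizer_zpowers le_centralizer_of_normalize eq_one_of_sq)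
open Cfsg.Agent.TwoFusion.GoldM1

variable {G : Type*} [Group G] [Finite G]

/-- In an abelian group `E` of exponent `p`: a subgroup of `E` maximal with respect to `X ∩ D' = 1` is a
complement. -/
theorem le_sup_of_maximal {p : ℕ} (hp : p.Prime) {E D' X : Subgroup G}
    (hcomm : ∀ x ∈ E, ∀ y ∈ E, x * y = y * x) (hexp : ∀ x ∈ E, x ^ p = 1)
    (hX : X ≤ E) (hXD : X ⊓ D' = ⊥)
    (hmax : ∀ Y : Subgroup G, Y ≤ E → Y ⊓ D' = ⊥ → X ≤ Y → Y ≤ X) : E ≤ X ⊔ D' := by
  intro e he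
  by_contra hne
  have heX : e ∉ X := fun h => hne (le_sup_left (a := X) h)
  have heN : zpowers e ≤ normalizer (X : Set G) := by
    rw [zpowers_le]
    apply mem_normalizer_of_conj
    intro x hx
    rw [hcomm e he x (hX hx), mul_inv_cancel_right]
    exact hx
  have hle : X ⊔ zpowers e ≤ E := sup_le hX (by rwa [zpowers_le])
  have h1 : (X ⊔ zpowers e) ⊓ D' ≠ ⊥ := by
    intro h
    exact heX (hmax _ hle h le_sup_left (le_sup_right (a := X) (mem_zpowers e)))
  obtain ⟨x, hx, hx1⟩ : ∃ x ∈ (X ⊔ zpowers e) ⊓ D', x ≠ 1 := by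
    by_contra hcon
    push Not at hcon
    exact h1 ((Subgroup.eq_bot_iff_forall _).mpr hcon)
  obtain ⟨hxs, hxD⟩ := mem_inf.mp hx
  have hxs' : (x : G) ∈ ((X ⊔ zpowers e : Subgroup G) : Set G) := hxs
  rw [sup_comm, coe_mul_of_left_le_normalizer_right _ _ heN] at hxs'
  obtain ⟨f, hf, y, hy, hfy⟩ := hxs'
  have hfy' : f * y = x := hfy
  have hfs : f ∈ X ⊔ D' := by
    have h2 : f = x * y⁻¹ := by rw [← hfy']; group
    rw [h2]
    exact mul_mem (le_sup_right (a := X) hxD) (le_sup_left (a := X) (inv_mem hy))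
  by_cases hf1 : f = 1
  · rw [hf1, one_mul] at hfy'
    apply hx1
    rw [← mem_bot, ← hXD]
    rw [← hfy']
    refine mem_inf.mpr ⟨hy, ?_⟩
    rw [hfy']
    exact hxD
  · -- `e ∈ ⟨f⟩`
    apply hne
    have hfo : orderOf f = p := by
      have h2 : f ∈ E := (zpowers_le.mpr he) hf
      exact orderOf_eq_prime (hp := ⟨hp⟩) (hexp f h2) hf1
    have heo : orderOf e ≤ p := Nat.le_of_dvd hp.pos (orderOf_dvd_of_pow_eq_one (hexp e he))
    have h3 : zpowers f = zpowers e := by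
      refine eq_of_le_of_card_ge (zpowers_le.mpr hf) ?_
      rw [Nat.card_zpowers, Nat.card_zpowers, hfo]
      exact heo
    have h4 : e ∈ zpowers f := by rw [h3]; exact mem_zpowers e
    exact (zpowers_le.mpr hfs) h4

theorem card_mul_le_of_inf {E X1 X2 : Subgroup G} (h1 : X1 ≤ E) (h2 : X2 ≤ E)
    (h : X1 ⊓ X2 = ⊥) : Nat.card X1 * Nat.card X2 ≤ Nat.card E := by
  rw [← Nat.card_prod]
  refine Nat.card_le_card_of_injective
    (fun g : X1 × X2 => (⟨g.1 * g.2, mul_mem (h1 g.1.2) (h2 g.2.2)⟩ : E)) ?_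
  intro g g' hg
  have h3 := congrArg Subtype.val hg
  exact mul_injective_of_disjoint (disjoint_iff.mpr h) h3

namespace ZData

variable {S A : Subgroup G} {g0 a b : G} {p : ℕ} (Z : ZData S A g0 a b p)
include Z

theorem dvd_nn : p ∣ nn a :=
  FitCores.dvd_card_of_ne_bot Z.prime (FitCores.isPGroup_piCoreOf Z.prime _) Z.ne_bot
    Z.core_le_fitting

/-- The subgroup `Ω₁(D)`. -/
theorem exists_omega : ∃ E : Subgroup G, ∀ x, x ∈ E ↔
    x ∈ piCoreOf {p} (oc (centralizer ({a} : Set G))) ∧ x ^ p = 1 := by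
  refine ⟨{ carrier := {x | x ∈ piCoreOf {p} (oc (centralizer ({a} : Set G))) ∧ x ^ p = 1}
            mul_mem' := ?_
            one_mem' := ⟨one_mem _, one_pow _⟩
            inv_mem' := ?_ }, fun x => Iff.rfl⟩
  · rintro x y ⟨hx, hxp⟩ ⟨hy, hyp⟩
    refine ⟨mul_mem hx hy, ?_⟩
    have h1 : Commute x y := Z.core_comm hx hy
    rw [h1.mul_pow, hxp, hyp, one_mul]
  · rintro x ⟨hx, hxp⟩
    exact ⟨inv_mem hx, by rw [inv_pow, hxp, inv_one]⟩

/-- A maximal subgroup `D' ≤ E` with `C(D') ≰ C(a)` has index at most `p` in `E`. -/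
theorem card_le_of_maximal {E D' : Subgroup G}
    (hE : E ≤ piCoreOf {p} (oc (centralizer ({a} : Set G)))) (hexp : ∀ x ∈ E, x ^ p = 1)
    (hD' : D' ≤ E) (hD1 : D' ≠ ⊥)
    (hC : ¬ centralizer (D' : Set G) ≤ centralizer ({a} : Set G))
    (hmax : ∀ X : Subgroup G, X ≤ E → X ≠ ⊥ →
      ¬ centralizer (X : Set G) ≤ centralizer ({a} : Set G) → D' ≤ X → X ≤ D') :
    Nat.card E ≤ p * Nat.card D' := by
  haveI := Fact.mk Z.prime
  have hcomm : ∀ x ∈ E, ∀ y ∈ E, x * y = y * x := fun x hx y hy => Z.core_comm (hE hx) (hE hy)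
  have hDD : D' ≤ piCoreOf {p} (oc (centralizer ({a} : Set G))) := hD'.trans hE
  obtain ⟨X, ⟨hXE, hXD⟩, hXmax⟩ :=
    (Set.toFinite {X : Subgroup G | X ≤ E ∧ X ⊓ D' = ⊥}).exists_maximal ⟨⊥, bot_le, bot_inf_eq _⟩
  have hsup : E ≤ X ⊔ D' := le_sup_of_maximal Z.prime hcomm hexp hXE hXD
    (fun Y hY hYD hXY => hXmax ⟨hY, hYD⟩ hXY)
  have hXN : X ≤ normalizer (D' : Set G) := by
    intro x hx
    apply mem_normalizer_of_conj
    intro d hd
    rw [hcomm x (hXE hx) d (hD' hd), mul_inv_cancel_right]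
    exact hd
  have hcard : Nat.card E ≤ Nat.card X * Nat.card D' := by
    have h1 : E = X ⊔ D' := le_antisymm hsup (sup_le hXE hD')
    have h2 := Nat.le_of_dvd (Nat.mul_pos Nat.card_pos Nat.card_pos)
      (card_sup_dvd_of_le_normalizer hXN)
    rwa [← h1] at h2
  -- `X` is cyclic
  have hcyc : IsCyclic X := by
    by_contra hnc
    haveI : IsMulCommutative X := ⟨⟨fun x y => Subtype.ext (hcomm x (hXE x.2) y (hXE y.2))⟩⟩
    have hXL : X ≤ normalizer (LL a D' : Set G) := by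
      refine le_trans ?_ (cent_le_normalizer_LL a D')
      intro x hx
      rw [mem_centralizer_iff]
      intro d hd
      exact hcomm d (hD' hd) x (hXE hx)
    have hcop : (Nat.card X).Coprime (Nat.card (LL a D')) := by
      have hXp : IsPGroup p X := (FitCores.isPGroup_piCoreOf Z.prime _).to_le (hXE.trans hE)
      obtain ⟨n, hn⟩ := IsPGroup.iff_card.mp hXp
      rw [hn]
      apply Nat.Coprime.pow_left
      exact (Nat.Coprime.coprime_dvd_right Z.dvd_nn (coprime_LL a D')).symm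
    have hgen := Cfsg.Agent.S0058.result X (LL a D') hnc hXL hcop
    have hLne : LL a D' ≠ ⊥ := fun h => hC (Z.cent_le_of_LL_eq_bot hDD hD1 h)
    apply hLne
    rw [eq_bot_iff, ← hgen]
    refine iSup₂_le ?_
    rintro d ⟨hdX, hd1⟩
    by_contra hne
    have hdE : d ∈ E := hXE hdX
    set D'' : Subgroup G := D' ⊔ zpowers d with hD''
    have h1 : D'' ≤ E := sup_le hD' (by rwa [zpowers_le])
    have h2 : D'' ≠ ⊥ := fun h => hD1 (eq_bot_iff.mpr (h ▸ le_sup_left))
    have h3 : LL a D' ⊓ centralizer ({d} : Set G) ≤ centralizer (D'' : Set G) := by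
      rw [le_centralizer_iff, hD'']
      refine sup_le ?_ ?_
      · rw [le_centralizer_iff]
        exact inf_le_left.trans (LL_le_cent a D')
      · rw [zpowers_le, mem_centralizer_iff]
        intro x hx
        exact mem_centralizer_singleton_iff.mp (mem_inf.mp hx).2
    have h4 : ¬ centralizer (D'' : Set G) ≤ centralizer ({a} : Set G) := by
      intro h
      apply hne
      rw [← Z.LL_inf hDD]
      exact le_inf inf_le_left (h3.trans h)
    have h5 := hmax D'' h1 h2 h4 le_sup_left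
    have h6 : d ∈ X ⊓ D' := mem_inf.mpr ⟨hdX, h5 (le_sup_right (a := D') (mem_zpowers d))⟩
    rw [hXD, mem_bot] at h6
    exact hd1 h6
  -- so `|X| ≤ p`
  have hXp : Nat.card X ≤ p := by
    obtain ⟨x, hx⟩ := hcyc.exists_generator
    have h1 : orderOf x = Nat.card X := orderOf_eq_card_of_forall_mem_zpowers hx
    rw [← h1]
    refine Nat.le_of_dvd Z.prime.pos (orderOf_dvd_of_pow_eq_one ?_)
    exact Subtype.ext (hexp x (hXE x.2))
  exact hcard.trans (Nat.mul_le_mul_right _ hXp)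

/-- **(Z4)** `C_G(y) ≤ C(a)` for `y ∈ D`, `y ≠ 1`. -/
theorem cent_le {y : G} (hy : y ∈ piCoreOf {p} (oc (centralizer ({a} : Set G)))) (hy1 : y ≠ 1) :
    centralizer ({y} : Set G) ≤ centralizer ({a} : Set G) := by
  haveI := Fact.mk Z.prime
  have F := Z.frame
  by_contra hcon
  obtain ⟨E, hE⟩ := Z.exists_omega
  have hED : E ≤ piCoreOf {p} (oc (centralizer ({a} : Set G))) := fun x hx => ((hE x).mp hx).1
  have hexp : ∀ x ∈ E, x ^ p = 1 := fun x hx => ((hE x).mp hx).2
  have hCE : centralizer ({a} : Set G) ≤ normalizer (E : Set G) := by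
    intro c hc
    apply mem_normalizer_of_conj
    intro x hx
    rw [hE] at hx ⊢
    refine ⟨conj_mem_of_mem_normalizer (Z.cent_le_normalizer _ hc) hx.1, ?_⟩
    rw [conj_pow, hx.2]; group
  -- an element of order `p`
  obtain ⟨z, hz, hz1, hzy⟩ : ∃ z ∈ E, z ≠ 1 ∧
      centralizer ({y} : Set G) ≤ centralizer ({z} : Set G) := by
    obtain ⟨n, hn⟩ := IsPGroup.iff_orderOf.mp (FitCores.isPGroup_piCoreOf Z.prime
      (oc (centralizer ({a} : Set G)))) ⟨y, hy⟩
    rw [← Subgroup.orderOf_coe] at hn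
    have hn' : orderOf y = p ^ n := hn
    have hn0 : n ≠ 0 := by
      rintro rfl
      rw [pow_zero] at hn'
      exact hy1 (orderOf_eq_one_iff.mp hn')
    obtain ⟨m, rfl⟩ := Nat.exists_eq_succ_of_ne_zero hn0
    refine ⟨y ^ (p ^ m), (hE _).mpr ⟨pow_mem hy _, ?_⟩, ?_, ?_⟩
    · rw [← pow_mul, ← pow_succ, ← hn', pow_orderOf_eq_one]
    · intro h
      have h1 := orderOf_dvd_of_pow_eq_one h
      rw [hn'] at h1
      have h2 := (Nat.pow_dvd_pow_iff_le_right Z.prime.one_lt).mp h1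
      omega
    · intro x hx
      rw [mem_centralizer_singleton_iff] at hx ⊢
      have h1 : Commute x y := hx
      exact (h1.pow_right _).eq
  have hE1 : E ≠ ⊥ := by
    rintro rfl
    exact hz1 (mem_bot.mp hz)
  have hbig : p ^ 2 < Nat.card E := Z.sq_lt_card hED hE1 (Z.S_le.trans hCE)
  -- the maximal subgroup
  obtain ⟨D', ⟨hD'E, hD'1, hD'C⟩, hD'max⟩ :=
    (Set.toFinite {X : Subgroup G | X ≤ E ∧ X ≠ ⊥ ∧
      ¬ centralizer (X : Set G) ≤ centralizer ({a} : Set G)}).exists_maximal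
      ⟨zpowers z, by rwa [zpowers_le], by rwa [Ne, zpowers_eq_bot], by
        rw [centralizer_zpowers]
        exact fun h => hcon (hzy.trans h)⟩
  have hD'card : Nat.card E ≤ p * Nat.card D' := Z.card_le_of_maximal hED hexp hD'E hD'1 hD'C
    (fun X h1 h2 h3 h4 => hD'max ⟨h1, h2, h3⟩ h4)
  have hLne : LL a D' ≠ ⊥ := fun h => hD'C (Z.cent_le_of_LL_eq_bot (hD'E.trans hED) hD'1 h)
  -- the join
  let ι := {X : Subgroup G // X ≤ E ∧ Nat.card E ≤ p * Nat.card X}
  set L : Subgroup G := ⨆ X : ι, LL a X.1 with hL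
  have hinf : ∀ X Y : ι, X.1 ⊓ Y.1 ≠ ⊥ := by
    intro X Y h
    have h1 := card_mul_le_of_inf X.2.1 Y.2.1 h
    have h2 : Nat.card E * Nat.card E ≤ p ^ 2 * Nat.card E := by
      calc Nat.card E * Nat.card E ≤ (p * Nat.card X.1) * (p * Nat.card Y.1) :=
            Nat.mul_le_mul X.2.2 Y.2.2
        _ = p ^ 2 * (Nat.card X.1 * Nat.card Y.1) := by ring
        _ ≤ p ^ 2 * Nat.card E := Nat.mul_le_mul_left _ h1
    have h3 : Nat.card E ≤ p ^ 2 := Nat.le_of_mul_le_mul_right h2 Nat.card_pos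
    omega
  have hLL : L ≤ centralizer (L : Set G) := by
    rw [hL]
    refine iSup_le fun X => ?_
    rw [le_centralizer_iff]
    refine iSup_le fun Y => ?_
    exact Z.LL_comm (Y.2.1.trans hED) (X.2.1.trans hED) (hinf Y X)
  have hle : LL a D' ≤ L := le_iSup (fun X : ι => LL a X.1) ⟨D', hD'E, hD'card⟩
  have hCL : centralizer ({a} : Set G) ≤ normalizer (L : Set G) := by
    apply conj_mem_normalizer_of_forall_map_le
    intro c hc
    rw [hL, Subgroup.map_iSup]
    refine iSup_le fun X => ?_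
    rw [← LL_conj]
    refine le_iSup (fun X : ι => LL a X.1) ⟨X.1.map (MulAut.conj c).toMonoidHom, ?_, ?_⟩
    · exact (map_mono X.2.1).trans (map_conj_eq_iff_mem_normalizer.mpr (hCE hc)).le
    · rw [card_map_conj]
      exact X.2.2
  rcases (Z.coatom.le_iff).mp hCL with h1 | h1
  · rcases F.simple L (normalizer_eq_top_iff.mp h1) with h2 | h2
    · apply hLne
      rw [eq_bot_iff, ← h2]
      exact hle
    · apply Z.coatom.1
      rw [eq_top_iff]
      intro x _
      have h3 : x ∈ L := by rw [h2]; exact mem_top x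
      have h4 : a ∈ L := by rw [h2]; exact mem_top a
      rw [mem_centralizer_singleton_iff]
      exact (mem_centralizer_iff.mp (hLL h3) a h4).symm
  · apply hLne
    rw [← Z.LL_inf (hD'E.trans hED)]
    apply le_antisymm
    · refine le_inf le_rfl (hle.trans ?_)
      rw [← h1]
      exact le_normalizer
    · exact inf_le_left

end ZData

/-- **(Z1)–(Z4)** -/
theorem exists_data {S A : Subgroup G} {g0 a b : G} (F : Frame S A g0) (ha : a ∈ A) (ha1 : a ≠ 1)
    (hb : b ∈ A) (hmax : IsCoatom (centralizer ({a} : Set G)))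
    (hne : ¬ oc (centralizer ({a} : Set G)) ≤ centralizer ({b} : Set G)) :
    ∃ p : ℕ, p.Prime ∧ p ≠ 2 ∧ ∃ D : Subgroup G, IsPGroup p D ∧ D ≠ ⊥ ∧
      (∀ c ∈ centralizer ({a} : Set G), ∀ d ∈ D, c * d * c⁻¹ ∈ D) ∧
      (∀ d ∈ D, b * d * b⁻¹ = d⁻¹) ∧
      (∀ y ∈ D, y ≠ 1 → centralizer ({y} : Set G) ≤ centralizer ({a} : Set G)) := by
  obtain ⟨p, Z⟩ := exists_zdata F ha ha1 hb hmax hne
  exact ⟨p, Z.prime, Z.p_ne_two, piCoreOf {p} (oc (centralizer ({a} : Set G))),
    FitCores.isPGroup_piCoreOf Z.prime _, Z.ne_bot,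
    fun c hc d hd => conj_mem_of_mem_normalizer (Z.cent_le_normalizer _ hc) hd,
    fun d hd => Z.inverts hd, fun y hy hy1 => Z.cent_le hy hy1⟩

end Cfsg.Agent.TwoFusion.GoldM1Z
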