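import Mathlib
import Cfsg.Agent.TwoFusion.GoldM1Tr
import Cfsg.Agent.TwoFusion.GoldM1BExist
import Cfsg.Agent.TwoFusion.GoldM1ZEnd
import Cfsg.Agent.TwoFusion.GoldM1In

/-!
# Case [M1] of Goldschmidt's theorem: the end

In a frame some `O(C(a))`, `a ∈ A#`, is not centralised by `A`; every `C(a)` is a maximal subgroup (type B is
impossible: `GoldM1BExist`), and this is impossible by `GoldM1ZEnd` and the characters of `GoldM1In`.
-/

set_option autoImplicit false

namespace Cfsg.Agent.TwoFusion.GoldM1Fin

open Subgroup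
open Cfsg.Agent.TwoFusion.GoldM1
open Cfsg.Agent.Classification.TypeB.Core (oc oc_le odd_oc normalizer_le_oc le_normalizer_oc le_oc)
open Cfsg.Agent.Classification.TypeB.Basic (mem_normalizer_of_conj)

variable {G : Type*} [Group G] [Finite G] {S A : Subgroup G} {g0 : G}

/-- some `O(C(a))` is moved by some `b ∈ A`. -/
theorem exists_moved (F : Frame S A g0) : ∃ a ∈ A, a ≠ 1 ∧ ∃ b ∈ A,
    ¬ oc (centralizer ({a} : Set G)) ≤ centralizer ({b} : Set G) := by
  by_contra hcon
  push Not at hcon
  -- an involution of `A`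
  obtain ⟨a, ha, ha1⟩ : ∃ a ∈ A, a ≠ 1 := by
    by_contra h
    push Not at h
    have h1 : A = ⊥ := by
      rw [eq_bot_iff]
      intro x hx
      rw [mem_bot]
      exact h x hx
    have h2 := F.cardA
    rw [h1, card_bot] at h2
    omega
  have hCA : oc (centralizer ({a} : Set G)) ≤ centralizer (A : Set G) := by
    intro x hx
    rw [mem_centralizer_iff]
    intro b hb
    exact (mem_centralizer_singleton_iff.mp (hcon a ha ha1 b hb hx)).symm
  have hCle : centralizer ({a} : Set G) ≤ centralizer (A : Set G) :=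
    (F.fact a ha ha1).trans (sup_le hCA le_rfl)
  have hg0 : g0 ∈ normalizer (A : Set G) := mem_normalizer_of_conj F.g0A
  have hN : normalizer (A : Set G) ≠ ⊤ := by
    intro h
    have hn : A.Normal := normalizer_eq_top_iff.mp h
    rcases F.simple A hn with h1 | h1
    · rw [h1, mem_bot] at ha
      exact ha1 ha
    · apply ha1
      apply F.g0_fpf a ha
      exact F.comm_A (by rw [h1]; exact mem_top _) ha
  exact F.emb _ hN a ha ha1 (hCle.trans (centralizer_le_normalizer _))
    ⟨g0, hg0, F.g0S, fun _ _ => rfl⟩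

/-- **There is no frame.** -/
theorem false_of_frame (F : Frame S A g0) : False := by
  obtain ⟨a, ha, ha1, b, hb, hne⟩ := exists_moved F
  obtain ⟨p, hp, hp2, D, hDp, hD, hDn, hinv, hDC⟩ :=
    GoldM1Z.exists_data F ha ha1 hb (GoldM1BExist.isCoatom_centralizer F ha ha1) hne
  haveI := Fact.mk hp
  exact F.z5_false hp2 ha ha1 hb D hDp hD hDn hinv hDC

end Cfsg.Agent.TwoFusion.GoldM1Fin
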