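import Mathlib
import Cfsg.Agent.TwoFusion.GoldM1Defs

/-!
# Case [M1] of Goldschmidt's theorem (S1169): the structure of `S`

`Loc S A`: `S` has order 64 and is of the type of a Sylow 2-subgroup of `PSU(3,4)`, `A = Z(S) = Ω₁(S)`.

* `Loc.noQ`: `S` has no elements `x, y` with `x² = y² = (xy)²`, `x, y, xy ∉ A`.
-/

set_option autoImplicit false

namespace Cfsg.Agent.TwoFusion.GoldM1Loc

open Subgroup

/-- The local structure: `S` is of the type of a Sylow 2-subgroup of `PSU(3,4)` with centre `A`. -/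
structure Loc {G : Type*} [Group G] (S A : Subgroup G) : Prop where
  AS : A ≤ S
  cardS : Nat.card S = 64
  cardA : Nat.card A = 4
  cen : ∀ x ∈ A, ∀ s ∈ S, x * s = s * x
  sq : ∀ x ∈ A, x * x = 1
  inv : ∀ s ∈ S, s * s = 1 → s ∈ A
  comm : ∀ s ∈ S, ∀ u ∈ S, s * u * s⁻¹ * u⁻¹ ∈ A
  surj : ∀ s ∈ S, s ∉ A → ∀ x ∈ A, ∃ u ∈ S, s * u * s⁻¹ * u⁻¹ = x

/-- Transport along a homomorphism which is injective on `S`. -/
theorem Loc.map {G H : Type*} [Group G] [Group H] {S A : Subgroup G} (h : Loc S A) (f : G →* H)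
    (hf : ∀ s ∈ S, f s = 1 → s = 1) : Loc (S.map f) (A.map f) := by
  have hinj : ∀ s ∈ S, ∀ t ∈ S, f s = f t → s = t := by
    intro s hs t ht e
    have h1 : f (s * t⁻¹) = 1 := by rw [map_mul, e, map_inv, mul_inv_cancel]
    exact mul_inv_eq_one.1 (hf _ (mul_mem hs (inv_mem ht)) h1)
  have hcard : ∀ K : Subgroup G, K ≤ S → Nat.card (K.map f) = Nat.card K := by
    intro K hK
    have : Function.Injective (fun k : K => (⟨f k, ⟨k, k.2, rfl⟩⟩ : K.map f)) := by
      intro k l e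
      exact Subtype.ext (hinj k (hK k.2) l (hK l.2) (congrArg Subtype.val e))
    refine (Nat.card_congr (Equiv.ofBijective _ ⟨this, ?_⟩)).symm
    rintro ⟨_, k, hk, rfl⟩
    exact ⟨⟨k, hk⟩, rfl⟩
  refine ⟨Subgroup.map_mono h.AS, ?_, ?_, ?_, ?_, ?_, ?_, ?_⟩
  · rw [hcard S le_rfl, h.cardS]
  · rw [hcard A h.AS, h.cardA]
  · rintro _ ⟨z, hz, rfl⟩ _ ⟨t, ht, rfl⟩
    rw [← map_mul, ← map_mul, h.cen z hz t ht]
  · rintro _ ⟨z, hz, rfl⟩
    rw [← map_mul, h.sq z hz, map_one]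
  · rintro _ ⟨t, ht, rfl⟩ h1
    rw [← map_mul] at h1
    exact ⟨t, h.inv t ht (hf _ (mul_mem ht ht) h1), rfl⟩
  · rintro _ ⟨t, ht, rfl⟩ _ ⟨u, hu, rfl⟩
    exact ⟨_, h.comm t ht u hu, by simp⟩
  · rintro _ ⟨t, ht, rfl⟩ h1 _ ⟨z, hz, rfl⟩
    obtain ⟨u, hu, hu'⟩ := h.surj t ht (fun h2 => h1 ⟨t, h2, rfl⟩) z hz
    exact ⟨f u, ⟨u, hu, rfl⟩, by rw [← hu']; simp⟩

/-- Restriction to a subgroup. -/
theorem Loc.subgroupOf {G : Type*} [Group G] {S A C : Subgroup G} (h : Loc S A) (hC : S ≤ C) :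
    Loc (S.subgroupOf C) (A.subgroupOf C) where
  AS := fun x hx => h.AS hx
  cardS := by rw [← h.cardS]; exact Nat.card_congr (subgroupOfEquivOfLe hC).toEquiv
  cardA := by rw [← h.cardA]; exact Nat.card_congr (subgroupOfEquivOfLe (h.AS.trans hC)).toEquiv
  cen := fun x hx s hs => Subtype.ext (h.cen x hx s hs)
  sq := fun x hx => Subtype.ext (h.sq x hx)
  inv := fun s hs e => h.inv s hs (congrArg Subtype.val e)
  comm := fun s hs u hu => h.comm s hs u hu
  surj := by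
    intro s hs hsA x hx
    obtain ⟨u, hu, e⟩ := h.surj s hs hsA x hx
    exact ⟨⟨u, hC hu⟩, hu, Subtype.ext e⟩

/-- The local structure from a frame. -/
theorem Loc.of_frame {G : Type*} [Group G] {S A : Subgroup G} {g0 : G} (h : GoldM1.Frame S A g0) : Loc S A :=
  ⟨h.AS, h.cardS, h.cardA, h.cen, h.sq, h.inv, h.comm, h.surj⟩

theorem five_le {α : Type*} [Finite α] (a b c d e : α) (h : [a, b, c, d, e].Nodup) : 5 ≤ Nat.card α := by
  classical
  have : Fintype α := Fintype.ofFinite α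
  have h1 := List.toFinset_card_of_nodup h
  have h2 := Finset.card_le_univ ([a, b, c, d, e].toFinset)
  rw [h1, ← Nat.card_eq_fintype_card] at h2
  exact h2

/-- A subgroup of `B × B` which contains `(1, b)` and `(a, 1)` has at least four elements. -/
theorem four_le {B : Type*} [Group B] [Finite B] (R : Subgroup (B × B)) {a b : B} (ha : a ≠ 1) (hb : b ≠ 1)
    (h1 : ((1 : B), b) ∈ R) (h2 : (a, (1 : B)) ∈ R) : 4 ≤ Nat.card R := by
  have hinj : Function.Injective (fun p : Bool × Bool => ((if p.1 then a else 1, if p.2 then b else 1) : B × B)) := by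
    rintro ⟨i, j⟩ ⟨k, l⟩ e
    have e1 := (Prod.ext_iff.1 e).1
    have e2 := (Prod.ext_iff.1 e).2
    cases i <;> cases j <;> cases k <;> cases l <;> simp_all [eq_comm]
  have hr : ∀ p : Bool × Bool, ((if p.1 then a else 1, if p.2 then b else 1) : B × B) ∈ R := by
    rintro ⟨i, j⟩
    have h3 : (a, b) ∈ R := by simpa using R.mul_mem h1 h2
    cases i
    · cases j
      · exact R.one_mem
      · exact h1
    · cases j
      · exact h2
      · exact h3
  have := Nat.card_le_card_of_injective (fun p : Bool × Bool => (⟨_, hr p⟩ : R))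
    (fun i j hij => hinj (congrArg Subtype.val hij))
  simpa using this

namespace Loc

variable {G : Type*} [Group G] {S A : Subgroup G} (h : Loc S A)

include h

theorem comm_mul_right {s u v : G} (hs : s ∈ S) (hu : u ∈ S) (hv : v ∈ S) :
    s * (u * v) * s⁻¹ * (u * v)⁻¹ = (s * u * s⁻¹ * u⁻¹) * (s * v * s⁻¹ * v⁻¹) := by
  have h1 := h.cen _ (h.comm s hs v hv) _ (inv_mem hu)
  calc s * (u * v) * s⁻¹ * (u * v)⁻¹ = s * u * s⁻¹ * ((s * v * s⁻¹ * v⁻¹) * u⁻¹) := by group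
    _ = s * u * s⁻¹ * (u⁻¹ * (s * v * s⁻¹ * v⁻¹)) := by rw [h1]
    _ = _ := by group

theorem comm_mul_left {s u v : G} (hs : s ∈ S) (hu : u ∈ S) (hv : v ∈ S) :
    (s * u) * v * (s * u)⁻¹ * v⁻¹ = (s * v * s⁻¹ * v⁻¹) * (u * v * u⁻¹ * v⁻¹) := by
  have h1 := h.cen _ (h.comm u hu v hv) _ hs
  have h2 := h.cen _ (h.comm u hu v hv) _ (h.AS (h.comm s hs v hv))
  calc (s * u) * v * (s * u)⁻¹ * v⁻¹ = (s * (u * v * u⁻¹ * v⁻¹)) * v * s⁻¹ * v⁻¹ := by group
    _ = ((u * v * u⁻¹ * v⁻¹) * s) * v * s⁻¹ * v⁻¹ := by rw [h1]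
    _ = (u * v * u⁻¹ * v⁻¹) * (s * v * s⁻¹ * v⁻¹) := by group
    _ = _ := h2

theorem inv_eq {x : G} (hx : x ∈ A) : x⁻¹ = x := inv_eq_of_mul_eq_one_left (h.sq x hx)

theorem comm_symm {s u : G} (hs : s ∈ S) (hu : u ∈ S) : u * s * u⁻¹ * s⁻¹ = s * u * s⁻¹ * u⁻¹ := by
  rw [← h.inv_eq (h.comm s hs u hu)]
  group

theorem sq_mul {s u : G} (hs : s ∈ S) (hu : u ∈ S) :
    (s * u) * (s * u) = (s * s) * (u * u) * (s * u * s⁻¹ * u⁻¹) := by
  rw [← h.comm_symm hs hu]
  have h1 := h.cen _ (h.comm u hu s hs) _ hs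
  have h2 := h.cen _ (h.comm u hu s hs) _ (mul_mem (mul_mem hs hs) (mul_mem hu hu))
  calc (s * u) * (s * u) = (s * (u * s * u⁻¹ * s⁻¹)) * s * u * u := by group
    _ = ((u * s * u⁻¹ * s⁻¹) * s) * s * u * u := by rw [h1]
    _ = (u * s * u⁻¹ * s⁻¹) * ((s * s) * (u * u)) := by group
    _ = _ := h2

/-- The squares lie in `A`. -/
theorem sq_mem {s : G} (hs : s ∈ S) : s * s ∈ A := by
  by_contra hn
  have h4 : 1 < Nat.card A := by rw [h.cardA]; norm_num
  obtain ⟨x, hx⟩ : ∃ x : A, x ≠ 1 := by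
    have hfA : Finite A := Nat.finite_of_card_ne_zero (by omega)
    have : Nontrivial A := Finite.one_lt_card_iff_nontrivial.1 h4
    exact exists_ne 1
  obtain ⟨u, hu, e⟩ := h.surj (s * s) (mul_mem hs hs) hn x x.2
  apply hx
  apply Subtype.ext
  rw [← e, h.comm_mul_left hs hs hu]
  exact h.sq _ (h.comm s hs u hu)

/-- The commutator map. -/
noncomputable def ch {s : G} (hs : s ∈ S) : S →* A :=
  MonoidHom.mk' (fun u => ⟨s * u * s⁻¹ * (u : G)⁻¹, h.comm s hs u u.2⟩) (by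
    intro u v
    apply Subtype.ext
    change s * ((u : G) * v) * s⁻¹ * ((u : G) * v)⁻¹ = _
    exact h.comm_mul_right hs u.2 v.2)

theorem ch_apply {s : G} (hs : s ∈ S) (u : S) : ((h.ch hs u : A) : G) = s * u * s⁻¹ * (u : G)⁻¹ := rfl

theorem ch_surjective {s : G} (hs : s ∈ S) (hA : s ∉ A) : Function.Surjective (h.ch hs) := by
  rintro ⟨x, hx⟩
  obtain ⟨u, hu, e⟩ := h.surj s hs hA x hx
  exact ⟨⟨u, hu⟩, Subtype.ext e⟩

theorem card_ker_ch {s : G} (hs : s ∈ S) (hA : s ∉ A) : Nat.card (h.ch hs).ker = 16 := by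
  have h1 := Subgroup.card_mul_index (h.ch hs).ker
  rw [Subgroup.index_ker, MonoidHom.range_eq_top.2 (h.ch_surjective hs hA), Subgroup.card_top, h.cardA, h.cardS]
    at h1
  omega

theorem mem_ker_ch {s : G} (hs : s ∈ S) {u : S} : u ∈ (h.ch hs).ker ↔ s * u = u * s := by
  rw [MonoidHom.mem_ker, Subtype.ext_iff, h.ch_apply]
  change s * u * s⁻¹ * (u : G)⁻¹ = 1 ↔ _
  rw [mul_inv_eq_one, mul_inv_eq_iff_eq_mul]

/-- If `x, y` are elements with `[x,y] = a ≠ 1`, then the common centralizer of `x, y` in `S` is `A`, provided that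
`x ∉ A`. -/
theorem mem_of_comm {x y s : G} (hx : x ∈ S) (hy : y ∈ S) (hxy : x * y ≠ y * x) (hs : s ∈ S)
    (hsx : s * x = x * s) (hsy : s * y = y * s) : s ∈ A := by
  have hfin : Finite S := Nat.finite_of_card_ne_zero (by rw [h.cardS]; norm_num)
  have hfA : Finite A := Nat.finite_of_card_ne_zero (by rw [h.cardA]; norm_num)
  by_contra hn
  -- the homomorphism `C_S(s) → A × A`
  set K := (h.ch hs).ker with hK
  let φ : K →* A × A := ((h.ch hx).comp K.subtype).prod ((h.ch hy).comp K.subtype)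
  have hxK : (⟨x, hx⟩ : S) ∈ K := (h.mem_ker_ch hs).2 hsx
  have hyK : (⟨y, hy⟩ : S) ∈ K := (h.mem_ker_ch hs).2 hsy
  have hsK : (⟨s, hs⟩ : S) ∈ K := (h.mem_ker_ch hs).2 rfl
  have e1 : h.ch hx ⟨x, hx⟩ = 1 := (h.mem_ker_ch hx).2 rfl
  have e2 : h.ch hy ⟨y, hy⟩ = 1 := (h.mem_ker_ch hy).2 rfl
  have e3 : h.ch hx ⟨y, hy⟩ ≠ 1 := fun e => hxy ((h.mem_ker_ch hx).1 e)
  have e4 : h.ch hy ⟨x, hx⟩ ≠ 1 := fun e => hxy ((h.mem_ker_ch hy).1 e).symm
  have hcard : Nat.card K = 16 := h.card_ker_ch hs hn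
  have h1 := Subgroup.card_mul_index φ.ker
  rw [Subgroup.index_ker, hcard] at h1
  have h4 : 4 ≤ Nat.card φ.range := by
    have f1 : φ ⟨_, hxK⟩ = (1, h.ch hy ⟨x, hx⟩) := Prod.ext e1 rfl
    have f2 : φ ⟨_, hyK⟩ = (h.ch hx ⟨y, hy⟩, 1) := Prod.ext rfl e2
    exact four_le φ.range e3 e4 ⟨_, f1⟩ ⟨_, f2⟩
  -- the kernel contains `A` and `s`
  have h5 : 5 ≤ Nat.card φ.ker := by
    have hA : ∀ z ∈ A, ∃ k : φ.ker, (((k : K) : S) : G) = z := by
      intro z hz
      refine ⟨⟨⟨⟨z, h.AS hz⟩, (h.mem_ker_ch hs).2 (h.cen z hz s hs).symm⟩, ?_⟩, rfl⟩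
      rw [MonoidHom.mem_ker]
      exact Prod.ext ((h.mem_ker_ch hx).2 (h.cen z hz x hx).symm) ((h.mem_ker_ch hy).2 (h.cen z hz y hy).symm)
    have hs' : ∃ k : φ.ker, (((k : K) : S) : G) = s := by
      refine ⟨⟨⟨_, hsK⟩, ?_⟩, rfl⟩
      rw [MonoidHom.mem_ker]
      exact Prod.ext ((h.mem_ker_ch hx).2 hsx.symm) ((h.mem_ker_ch hy).2 hsy.symm)
    obtain ⟨k0, hk0⟩ := hs'
    choose f hf using hA
    have hinj : Function.Injective (fun o : Option A => o.elim k0 (fun z => f z z.2)) := by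
      intro o o' e
      have e' : ∀ o : Option A, ((((fun o : Option A => o.elim k0 (fun z => f z z.2)) o : φ.ker) : K) : S) =
          (o.elim s (fun z => (z : G)) : G) := by
        intro o
        cases o with
        | none => exact hk0
        | some z => exact hf z z.2
      have e2 : (o.elim s (fun z => (z : G)) : G) = o'.elim s (fun z => (z : G)) := by
        rw [← e', ← e', e]
      cases o with
      | none =>
        cases o' with
        | none => rfl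
        | some z' => exact absurd (by rw [show s = (z' : G) from e2]; exact z'.2) hn
      | some z =>
        cases o' with
        | none => exact absurd (by rw [show s = (z : G) from e2.symm]; exact z.2) hn
        | some z' => rw [Subtype.ext (show (z : G) = z' from e2)]
    have h6 := Nat.card_le_card_of_injective _ hinj
    have h7 : Nat.card (Option A) = 5 := by
      rw [Finite.card_option, h.cardA]
    rwa [h7] at h6
  nlinarith


/-- `A` has exactly four elements. -/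
theorem mem_A_cases {a c z : G} (ha : a ∈ A) (hc : c ∈ A) (ha1 : a ≠ 1) (hc1 : c ≠ 1) (hca : c ≠ a) (hz : z ∈ A) :
    z = 1 ∨ z = a ∨ z = c ∨ z = a * c := by
  by_contra hn
  push Not at hn
  obtain ⟨h1, h2, h3, h4⟩ := hn
  have hfA : Finite A := Nat.finite_of_card_ne_zero (by rw [h.cardA]; norm_num)
  have haa := h.inv_eq ha
  have hac : a * c ≠ 1 := fun e => hca (by rw [← haa]; exact eq_inv_of_mul_eq_one_right e)
  have h5 := five_le (⟨1, one_mem _⟩ : A) ⟨a, ha⟩ ⟨c, hc⟩ ⟨a * c, mul_mem ha hc⟩ ⟨z, hz⟩ (by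
    simp only [List.nodup_cons, List.mem_cons, Subtype.mk.injEq, List.not_mem_nil, or_false, not_or, not_false_eq_true,
      List.nodup_nil, and_true]
    refine ⟨⟨ha1.symm, hc1.symm, hac.symm, h1.symm⟩, ⟨hca.symm, ?_, h2.symm⟩, ⟨?_, h3.symm⟩, h4.symm⟩
    · intro e
      exact hc1 (by simpa using e)
    · intro e
      exact ha1 (by simpa using e))
  rw [h.cardA] at h5
  omega

/-- There is a third element in `A`. -/
theorem exists_third {a : G} (ha : a ∈ A) : ∃ c ∈ A, c ≠ 1 ∧ c ≠ a := by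
  by_contra hn
  push Not at hn
  have hfA : Finite A := Nat.finite_of_card_ne_zero (by rw [h.cardA]; norm_num)
  have hs : Function.Surjective (fun b : Bool => (if b then ⟨1, one_mem _⟩ else ⟨a, ha⟩ : A)) := by
    rintro ⟨c, hc⟩
    by_cases h1 : c = 1
    · exact ⟨true, by subst h1; rfl⟩
    · exact ⟨false, by have := hn c hc h1; subst this; rfl⟩
  have := Nat.card_le_card_of_surjective _ hs
  rw [h.cardA] at this
  simp at this

/-- First step of `noQ`. -/
theorem noQ_aux {x y u a c : G} (hx : x ∈ S) (hy : y ∈ S) (hu : u ∈ S) (ha : a ∈ A) (hc : c ∈ A) (ha1 : a ≠ 1)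
    (hc1 : c ≠ 1) (hca : c ≠ a) (hxa : x * x = a) (hya : y * y = a) (hxy : x * y * x⁻¹ * y⁻¹ = a)
    (hxu : x * u * x⁻¹ * u⁻¹ = 1) (hyu : y * u * y⁻¹ * u⁻¹ = c) : u * u = c := by
  have haa := h.sq a ha
  have hxu' : x * u = u * x := by
    rw [mul_inv_eq_one, mul_inv_eq_iff_eq_mul] at hxu
    exact hxu
  have h1 := h.mem_A_cases ha hc ha1 hc1 hca (h.sq_mem hu)
  have huA : u ∉ A := by
    intro hu'
    apply hc1
    rw [← hyu, mul_inv_eq_one, mul_inv_eq_iff_eq_mul]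
    exact (h.cen u hu' y hy).symm
  rcases h1 with h1 | h1 | h1 | h1
  · exact absurd (h.inv u hu h1) huA
  · exfalso
    have h2 : (x * u) * (x * u) = 1 := by
      rw [h.sq_mul hx hu, hxu, hxa, h1, haa, mul_one]
    have h3 := h.inv _ (mul_mem hx hu) h2
    have h4 := h.cen _ h3 y hy
    -- `x u` commutes with `y`
    have h5 : (y * (x * u) * y⁻¹ * (x * u)⁻¹) = 1 := by
      rw [mul_inv_eq_one, mul_inv_eq_iff_eq_mul]
      exact h4.symm
    rw [h.comm_mul_right hy hx hu, h.comm_symm hx hy, hxy, hyu] at h5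
    apply hca
    rw [← h.inv_eq ha]
    exact (inv_eq_of_mul_eq_one_right h5).symm
  · exact h1
  · exfalso
    have h2 : (y * u) * (y * u) = 1 := by
      rw [h.sq_mul hy hu, hyu, hya, h1]
      calc a * (a * c) * c = (a * a) * (c * c) := by group
        _ = 1 := by rw [haa, h.sq c hc, mul_one]
    have h3 := h.inv _ (mul_mem hy hu) h2
    have h4 := h.cen _ h3 x hx
    have h5 : (x * (y * u) * x⁻¹ * (y * u)⁻¹) = 1 := by
      rw [mul_inv_eq_one, mul_inv_eq_iff_eq_mul]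
      exact h4.symm
    rw [h.comm_mul_right hx hy hu, hxy, hxu, mul_one] at h5
    exact ha1 h5

/-- `S` has no elements `x, y` with `x² = y² = (xy)²` outside `A`. -/
theorem noQ {x y : G} (hx : x ∈ S) (hy : y ∈ S) (hxA : x ∉ A) (h1 : y * y = x * x)
    (h2 : (x * y) * (x * y) = x * x) : False := by
  have hfin : Finite S := Nat.finite_of_card_ne_zero (by rw [h.cardS]; norm_num)
  have hfA : Finite A := Nat.finite_of_card_ne_zero (by rw [h.cardA]; norm_num)
  obtain ⟨a, hxa⟩ : ∃ a, x * x = a := ⟨_, rfl⟩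
  have ha : a ∈ A := hxa ▸ h.sq_mem hx
  have ha1 : a ≠ 1 := fun e => hxA (h.inv x hx (hxa.trans e))
  have haa := h.sq a ha
  have hya : y * y = a := h1.trans hxa
  have hxy : x * y * x⁻¹ * y⁻¹ = a := by
    rw [h.sq_mul hx hy, hxa, hya, haa, one_mul] at h2
    exact h2
  have hxy' : x * y ≠ y * x := by
    intro e
    rw [e, mul_inv_cancel_right, mul_inv_cancel] at hxy
    exact ha1 hxy.symm
  -- the homomorphism `S → A × A`
  let φ : S →* A × A := (h.ch hx).prod (h.ch hy)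
  have hker : ∀ s : S, φ s = 1 → (s : G) ∈ A := by
    intro s hs
    have e1 : s ∈ (h.ch hx).ker := congrArg Prod.fst hs
    have e2 : s ∈ (h.ch hy).ker := congrArg Prod.snd hs
    exact h.mem_of_comm hx hy hxy' s.2 ((h.mem_ker_ch hx).1 e1).symm ((h.mem_ker_ch hy).1 e2).symm
  have hsurj : Function.Surjective φ := by
    have hle : Nat.card φ.ker ≤ 4 := by
      rw [← h.cardA]
      refine Nat.card_le_card_of_injective (fun k : φ.ker => (⟨((k : S) : G), hker k k.2⟩ : A)) ?_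
      intro k l e
      have e' : ((k : S) : G) = ((l : S) : G) := congrArg (fun z : A => (z : G)) e
      exact Subtype.ext (Subtype.ext e')
    have h3 := Subgroup.card_mul_index φ.ker
    rw [Subgroup.index_ker, h.cardS] at h3
    have h4 : 16 ≤ Nat.card φ.range := by nlinarith
    rw [← MonoidHom.range_eq_top]
    apply Subgroup.eq_top_of_le_card
    rw [Nat.card_prod, h.cardA]
    exact h4
  obtain ⟨c, hc, hc1, hca⟩ := h.exists_third ha
  have hcc := h.sq c hc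
  obtain ⟨⟨u, hu⟩, hu'⟩ := hsurj (1, ⟨c, hc⟩)
  obtain ⟨⟨v, hv⟩, hv'⟩ := hsurj (⟨c, hc⟩, 1)
  have hxu : x * u * x⁻¹ * u⁻¹ = 1 := congrArg (fun p : A × A => (p.1 : G)) hu'
  have hyu : y * u * y⁻¹ * u⁻¹ = c := congrArg (fun p : A × A => (p.2 : G)) hu'
  have hxv : x * v * x⁻¹ * v⁻¹ = c := congrArg (fun p : A × A => (p.1 : G)) hv'
  have hyv : y * v * y⁻¹ * v⁻¹ = 1 := congrArg (fun p : A × A => (p.2 : G)) hv'
  have hyx : y * x * y⁻¹ * x⁻¹ = a := by rw [h.comm_symm hx hy, hxy]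
  have qu : u * u = c := h.noQ_aux hx hy hu ha hc ha1 hc1 hca hxa hya hxy hxu hyu
  have qv : v * v = c := h.noQ_aux hy hx hv ha hc ha1 hc1 hca hya hxa hyx hyv hxv
  have quv : (u * v) * (u * v) = c := by
    refine h.noQ_aux (mul_mem hx hy) hy (mul_mem hu hv) ha hc ha1 hc1 hca (h2.trans hxa) hya ?_ ?_ ?_
    · rw [h.comm_mul_left hx hy hy, hxy]
      group
    · rw [h.comm_mul_left hx hy (mul_mem hu hv), h.comm_mul_right hx hu hv, h.comm_mul_right hy hu hv,
        hxu, hxv, hyu, hyv, one_mul, mul_one, hcc]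
    · rw [h.comm_mul_right hy hu hv, hyu, hyv, mul_one]
  have huv : u * v * u⁻¹ * v⁻¹ = c := by
    rw [h.sq_mul hu hv, qu, qv, hcc, one_mul] at quv
    exact quv
  have huA : u ∉ A := fun e => hc1 (by rw [← qu]; exact h.sq u e)
  -- the elements `t` with `[u, t] ∈ {1, c}`
  let T : Subgroup S := (zpowers (⟨c, hc⟩ : A)).comap (h.ch hu)
  have hTc : ∀ t : S, (u * t * u⁻¹ * (t : G)⁻¹ = 1 ∨ u * t * u⁻¹ * (t : G)⁻¹ = c) → t ∈ T := by
    intro t ht
    rw [mem_comap]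
    rcases ht with ht | ht
    · have e : h.ch hu t = 1 := Subtype.ext ht
      rw [e]; exact one_mem _
    · have e : h.ch hu t = ⟨c, hc⟩ := Subtype.ext ht
      rw [e]; exact mem_zpowers _
  have hT : ∀ t : S, t ∈ T := by
    have r1 : ((1 : A), (⟨a, ha⟩ : A)) ∈ T.map φ := by
      refine ⟨⟨x, hx⟩, hTc _ (Or.inl ?_), Prod.ext ?_ ?_⟩
      · change u * x * u⁻¹ * x⁻¹ = 1
        rw [h.comm_symm hx hu, hxu]
      · exact (h.mem_ker_ch hx).2 rfl
      · exact Subtype.ext hyx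
    have r2 : ((⟨a, ha⟩ : A), (1 : A)) ∈ T.map φ := by
      refine ⟨⟨y, hy⟩, hTc _ (Or.inr ?_), Prod.ext ?_ ?_⟩
      · change u * y * u⁻¹ * y⁻¹ = c
        rw [h.comm_symm hy hu, hyu]
      · exact Subtype.ext hxy
      · exact (h.mem_ker_ch hy).2 rfl
    have r3 : ((1 : A), (⟨c, hc⟩ : A)) ∈ T.map φ := by
      refine ⟨⟨u, hu⟩, hTc _ (Or.inl ?_), hu'⟩
      change u * u * u⁻¹ * u⁻¹ = 1
      group
    have r4 : ((⟨c, hc⟩ : A), (1 : A)) ∈ T.map φ := ⟨⟨v, hv⟩, hTc _ (Or.inr huv), hv'⟩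
    have r5 : ∀ z : A, ((1 : A), z) ∈ T.map φ := by
      rintro ⟨z, hz⟩
      rcases h.mem_A_cases ha hc ha1 hc1 hca hz with rfl | rfl | rfl | rfl
      · exact one_mem _
      · exact r1
      · exact r3
      · simpa using mul_mem r1 r3
    have r6 : ∀ z : A, (z, (1 : A)) ∈ T.map φ := by
      rintro ⟨z, hz⟩
      rcases h.mem_A_cases ha hc ha1 hc1 hca hz with rfl | rfl | rfl | rfl
      · exact one_mem _
      · exact r2
      · exact r4
      · simpa using mul_mem r2 r4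
    intro t
    have r7 : φ t ∈ T.map φ := by
      have := mul_mem (r6 (φ t).1) (r5 (φ t).2)
      simpa using this
    obtain ⟨t', ht', e⟩ := r7
    have h3 : ((t'⁻¹ * t : S) : G) ∈ A := by
      apply hker
      rw [map_mul, map_inv, e, inv_mul_cancel]
    have h4 : t'⁻¹ * t ∈ T := by
      apply hTc
      left
      rw [mul_inv_eq_one, mul_inv_eq_iff_eq_mul]
      exact (h.cen _ h3 u hu).symm
    have h5 := mul_mem ht' h4
    rwa [mul_inv_cancel_left] at h5
  obtain ⟨t, ht, e⟩ := h.surj u hu huA a ha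
  have h3 := hT ⟨t, ht⟩
  rw [mem_comap] at h3
  have h4 : h.ch hu ⟨t, ht⟩ = ⟨a, ha⟩ := Subtype.ext e
  rw [h4] at h3
  obtain ⟨n, hn⟩ := mem_zpowers_iff.1 h3
  have hn' : c ^ n = a := congrArg Subtype.val hn
  have hc2 : c ^ (2 : ℤ) = 1 := by rw [zpow_ofNat, pow_two, hcc]
  rcases Int.even_or_odd' n with ⟨k, rfl | rfl⟩
  · rw [zpow_mul, hc2, one_zpow] at hn'
    exact ha1 hn'.symm
  · rw [zpow_add, zpow_mul, hc2, one_zpow, one_mul, zpow_one] at hn'
    exact hca hn'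

end Loc

end Cfsg.Agent.TwoFusion.GoldM1Loc
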