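import Mathlib
import Cfsg.Agent.TwoFusion.GoldM1Loc
import Cfsg.Agent.TwoFusion.GoldNorm
import Cfsg.Agent.Lib.GenFitting
import Cfsg.Agent.SignalizersComponents.QsBasic
import Cfsg.Agent.SignalizersComponents.PConstrained
import Cfsg.Agent.OddOrderLocal.UniqZL
import Cfsg.Agent.OddOrderCharacters.NilpotentIndex

/-!
# Case [M1] of Goldschmidt's theorem (S1169): the centralizer of `A`

* `no_component`, `normal_S`, `index_S`: a group `X` without odd core with a Sylow 2-subgroup `S` of the type of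
  `PSU(3,4)` whose centre `A` is central in `X` (and the induction statement `TProp` for the components) has no
  components, `S` is normal in `X`, `C_X(S) ≤ S` and `|X : S|` is 1 or 5;
* `norm_and_index`: the fields `normCA` and `indexCA` of the frame `GoldM1.Frame`.
-/

set_option autoImplicit false

namespace Cfsg.Agent.TwoFusion.GoldM1CA

open Subgroup
open Cfsg.Agent.TwoFusion.GoldM1Loc
open Cfsg.Agent.TwoFusion.Gold

/-- In a perfect group central elements of a Sylow subgroup lie in the kernel of every homomorphism of the Sylow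
subgroup to an abelian group. -/
theorem hom_eq_one_of_center {K : Type*} [Group K] [Finite K] (hK : commutator K = ⊤) {p : ℕ} [Fact p.Prime]
    (T : Sylow p K) {B : Type*} [CommGroup B] (ϕ : (T : Subgroup K) →* B) (z : K) (hz : z ∈ center K)
    (hzT : z ∈ (T : Subgroup K)) : ϕ ⟨z, hzT⟩ = 1 := by
  have h1 : MonoidHom.transfer ϕ z = ϕ ⟨z ^ (T : Subgroup K).index, _⟩ :=
    MonoidHom.transfer_eq_pow ϕ z (by
      intro k g _
      have h2 : z ^ k ∈ center K := pow_mem hz k
      rw [mem_center_iff] at h2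
      rw [mul_assoc, ← h2 g, inv_mul_cancel_left])
  have h3 : MonoidHom.transfer ϕ z = 1 := by
    have h4 : z ∈ commutator K := by rw [hK]; exact mem_top z
    exact Abelianization.commutator_subset_ker _ h4
  have h5 : (ϕ ⟨z, hzT⟩) ^ (T : Subgroup K).index = 1 := by
    rw [← map_pow, ← h3, h1]
    rfl
  obtain ⟨k, hk⟩ := T.isPGroup' ⟨z, hzT⟩
  have h6 : (ϕ ⟨z, hzT⟩) ^ p ^ k = 1 := by rw [← map_pow, hk, map_one]
  have h7 := orderOf_dvd_of_pow_eq_one h5
  have h8 := orderOf_dvd_of_pow_eq_one h6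
  have h9 : (p ^ k).Coprime (T : Subgroup K).index :=
    Nat.Coprime.pow_left k ((Nat.Prime.coprime_iff_not_dvd Fact.out).2 T.not_dvd_index)
  exact orderOf_eq_one_iff.1 (Nat.eq_one_of_dvd_coprimes h9 h8 h7)

theorem dvd_sixteen {d : ℕ} (h : d ∣ 16) (h1 : d ≠ 1) (h2 : d ≠ 16) : d = 2 ∨ d = 4 ∨ d = 8 := by
  have hle : d ≤ 16 := Nat.le_of_dvd (by norm_num) h
  interval_cases d <;> omega

theorem dvd_fifteen {d : ℕ} (h : d ∣ 15) (h1 : ¬ 3 ∣ d) : d = 1 ∨ d = 5 := by
  have hle : d ≤ 15 := Nat.le_of_dvd (by norm_num) h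
  interval_cases d <;> omega

section NoComponent

variable {X : Type*} [Group X] [Finite X] {S A : Subgroup X}

/-- No components. -/
theorem no_component (h : Loc S A) (hS : ¬ 2 ∣ S.index) (hA : ∀ a ∈ A, ∀ x : X, a * x = x * a)
    (hO : Cfsg.oddCore X = ⊥) {K : Subgroup X} (hK : Cfsg.IsComponent K) (hT : TProp (↥K ⧸ center ↥K)) : False := by
  have : Fact (Nat.Prime 2) := ⟨Nat.prime_two⟩
  have hSp : IsPGroup 2 S := IsPGroup.of_card (n := 6) (by rw [h.cardS]; norm_num)
  let P : Sylow 2 X := hSp.toSylow hS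
  have hP : (P : Subgroup X) = S := rfl
  obtain ⟨T, hT'⟩ := exists_sylow_subgroupOf P hK.1
  have hperf : commutator K = ⊤ := hK.2.1.commutator_eq_top
  have hmemT : ∀ t : K, t ∈ (T : Subgroup K) ↔ (t : X) ∈ S := by
    intro t
    rw [hT', mem_subgroupOf, hP]
  have hsimp : IsSimpleGroup (K ⧸ center K) := hK.2.2
  -- elements of `A` in `K` are central in `K`
  have hAc : ∀ t : K, (t : X) ∈ A → t ∈ center K := by
    intro t ht
    rw [mem_center_iff]
    intro g
    exact Subtype.ext (hA t ht g).symm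
  -- central elements of `T` lie in `A`
  have hcA : ∀ t : K, t ∈ center K → (t : X) ∈ S → (t : X) ∈ A := by
    intro z hz hzS
    have hzT := (hmemT z).2 hzS
    have h1 := hom_eq_one_of_center hperf T Abelianization.of z hz hzT
    have h2 : (⟨z, hzT⟩ : (T : Subgroup K)) ∈ commutator (T : Subgroup K) := by
      rw [← Abelianization.ker_of]
      exact h1
    have h3 : commutator (T : Subgroup K) ≤ (A.subgroupOf K).subgroupOf (T : Subgroup K) := by
      rw [commutator_def, commutator_le]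
      intro a _ b _
      rw [mem_subgroupOf, mem_subgroupOf]
      exact h.comm _ ((hmemT a).1 a.2) _ ((hmemT b).1 b.2)
    have h4 := h3 h2
    rwa [mem_subgroupOf, mem_subgroupOf] at h4
  -- the quotient
  let f : K →* K ⧸ center K := QuotientGroup.mk' (center K)
  have hf : Function.Surjective f := QuotientGroup.mk'_surjective _
  have hf1 : ∀ t : K, f t = 1 ↔ t ∈ center K := fun t => QuotientGroup.eq_one_iff t
  let Q : Sylow 2 (K ⧸ center K) := T.mapSurjective hf
  have hQ : ∀ q ∈ (Q : Subgroup (K ⧸ center K)), ∃ t : K, (t : X) ∈ S ∧ f t = q := by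
    rintro q ⟨t, ht, rfl⟩
    exact ⟨t, (hmemT t).1 ht, rfl⟩
  have hQ2 : ∀ q ∈ (Q : Subgroup (K ⧸ center K)), q * q = 1 := by
    intro q hq
    obtain ⟨t, ht, rfl⟩ := hQ q hq
    rw [← map_mul, hf1]
    exact hAc _ (h.sq_mem ht)
  -- the family of all involutions
  have hfam : IsElemFam {q : K ⧸ center K | q * q = 1} := by
    refine ⟨⟨?_, ?_, ?_, ?_⟩, fun q hq => hq⟩
    · exact mul_one 1
    · intro q hq g
      change g * q * g⁻¹ * (g * q * g⁻¹) = 1
      have hq' : q * q = 1 := hq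
      calc g * q * g⁻¹ * (g * q * g⁻¹) = g * (q * q) * g⁻¹ := by group
        _ = 1 := by rw [hq', mul_one, mul_inv_cancel]
    · intro q hq
      exact ⟨1, by rw [pow_one, pow_two]; exact hq⟩
    · intro R hR x hx y hy _ _
      obtain ⟨R', hR'⟩ := hR.exists_le_sylow
      obtain ⟨c, hc⟩ := MulAction.exists_smul_eq (K ⧸ center K) R' Q
      have h1 : c * (x * y) * c⁻¹ ∈ (Q : Subgroup (K ⧸ center K)) := by
        rw [← hc]
        exact ⟨x * y, hR' (mul_mem hx hy), rfl⟩
      have h2 := hQ2 _ h1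
      have h3 : x * y * (x * y) = c⁻¹ * (c * (x * y) * c⁻¹ * (c * (x * y) * c⁻¹)) * c := by group
      change x * y * (x * y) = 1
      rw [h3, h2]; group
  have heven : Even (Nat.card (K ⧸ center K)) := by
    rw [even_iff_two_dvd, ← Subgroup.index_eq_card]
    exact two_dvd_index_center hO hK
  have hperf' : Group.IsPerfect (K ⧸ center K) := by
    have := hK.2.1
    infer_instance
  have hncyc := Cfsg.Agent.SignalizersComponents.QsBasic.not_isCyclic_sylow heven Q
  -- two independent elements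
  have hne : ∃ q ∈ (Q : Subgroup (K ⧸ center K)), q ≠ 1 := by
    by_contra hn
    push Not at hn
    apply hncyc
    have : Subsingleton Q := ⟨fun a b => Subtype.ext ((hn a a.2).trans (hn b b.2).symm)⟩
    infer_instance
  obtain ⟨q, hq, hq1⟩ := hne
  have hne2 : ∃ r ∈ (Q : Subgroup (K ⧸ center K)), r ≠ 1 ∧ r ≠ q := by
    by_contra hn
    push Not at hn
    apply hncyc
    refine ⟨⟨q, hq⟩, ?_⟩
    rintro ⟨r, hr⟩
    by_cases h1 : r = 1
    · subst h1; exact (zpowers (⟨q, hq⟩ : Q)).one_mem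
    · have := hn r hr h1
      subst this
      exact mem_zpowers _
  obtain ⟨r, hr, hr1, hrq⟩ := hne2
  have hcon := hT _ hfam ⟨q, hQ2 q hq, hq1⟩
  obtain ⟨x, hx, rfl⟩ := hQ q hq
  obtain ⟨y, hy, rfl⟩ := hQ r hr
  have hxy1 : f (x * y) ≠ 1 := by
    intro e
    apply hrq
    rw [map_mul] at e
    have h2 := hQ2 _ hq
    exact mul_left_cancel (e.trans h2.symm)
  have hord : ∀ t : K, (t : X) ∈ S → f t ≠ 1 → orderOf (f t) = 2 := by
    intro t ht h1
    refine orderOf_eq_prime ?_ h1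
    rw [pow_two, ← map_mul, hf1]
    exact hAc _ (h.sq_mem ht)
  -- conjugate elements have the same square
  have hsq : ∀ s t : K, (s : X) ∈ S → (t : X) ∈ S → f s ≠ 1 → f t ≠ 1 → (s : X) * s = (t : X) * t := by
    intro s t hs ht hs1 ht1
    obtain ⟨g', hg'⟩ := hcon.conj (f s) (f t) (hord s hs hs1) (hord t ht ht1)
    obtain ⟨g, rfl⟩ := hf g'
    obtain ⟨z, hz⟩ : ∃ z : K, z = t⁻¹ * (g * s * g⁻¹) := ⟨_, rfl⟩
    have hzc : z ∈ center K := by
      rw [← hf1, hz]
      simp only [map_mul, map_inv]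
      rw [hg', inv_mul_cancel]
    have hgs : g * s * g⁻¹ = t * z := by rw [hz]; group
    have hzt : z * t = t * z := (mem_center_iff.1 hzc t).symm
    have hss : (g * s * g⁻¹) * (g * s * g⁻¹) = s * s := by
      have h1 := mem_center_iff.1 (hAc (s * s) (h.sq_mem hs)) g
      calc (g * s * g⁻¹) * (g * s * g⁻¹) = (g * (s * s)) * g⁻¹ := by group
        _ = _ := by rw [h1]; group
    have h1 : s * s = (t * t) * (z * z) := by
      rw [← hss, hgs]
      calc t * z * (t * z) = t * (z * t) * z := by group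
        _ = t * (t * z) * z := by rw [hzt]
        _ = _ := by group
    have hzz : z * z = (t * t)⁻¹ * (s * s) := by rw [h1]; group
    have hzzA : ((z * z : K) : X) ∈ A := by
      rw [hzz]
      exact mul_mem (inv_mem (h.sq_mem ht)) (h.sq_mem hs)
    have hz4 : z ^ 4 = 1 := by
      have h2 := h.sq _ hzzA
      have h3 : (z * z) * (z * z) = 1 := Subtype.ext h2
      calc z ^ 4 = (z * z) * (z * z) := by rw [pow_succ, pow_succ, pow_two]; group
        _ = 1 := h3
    have hzS : (z : X) ∈ S := by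
      rw [← hmemT]
      have h2 : IsPGroup 2 (zpowers z) := by
        refine IsPGroup.of_card_dvd_pow (n := 2) ?_
        rw [Nat.card_zpowers]
        exact orderOf_dvd_of_pow_eq_one hz4
      have h3 : zpowers z ≤ normalizer (T : Set K) := by
        refine le_trans ?_ (Subgroup.center_le_normalizer _)
        rw [zpowers_le]; exact hzc
      have h4 := h2.inf_normalizer_sylow T
      rw [inf_eq_left.2 h3] at h4
      have h5 : zpowers z ≤ (T : Subgroup K) := inf_eq_left.1 h4.symm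
      exact h5 (mem_zpowers z)
    have hz1 : (z : X) * z = 1 := h.sq _ (hcA z hzc hzS)
    have h6 : s * s = t * t := by
      rw [h1, show z * z = 1 from Subtype.ext hz1, mul_one]
    exact congrArg Subtype.val h6
  refine h.noQ hx hy ?_ (hsq y x hy hx hr1 hq1) (hsq (x * y) x (mul_mem hx hy) hx hxy1 hq1)
  intro hxA
  exact hq1 ((hf1 x).2 (hAc x hxA))

omit [Finite X] in
theorem normal_A (hA : ∀ a ∈ A, ∀ x : X, a * x = x * a) : A.Normal :=
  ⟨fun a ha g => by rw [← hA a ha g, mul_inv_cancel_right]; exact ha⟩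

omit [Finite X] in
/-- The square of an element which centralizes `u` modulo `A` centralizes `u`. -/
theorem sq_comm (h : Loc S A) (hA : ∀ a ∈ A, ∀ x : X, a * x = x * a) {g u : X}
    (hgu : g * u * g⁻¹ * u⁻¹ ∈ A) : (g * g) * u = u * (g * g) := by
  have h1 := hA _ hgu g
  have h2 := h.sq _ hgu
  have e : (g * g) * u * (g * g)⁻¹ * u⁻¹ = 1 := by
    calc (g * g) * u * (g * g)⁻¹ * u⁻¹ = (g * (g * u * g⁻¹ * u⁻¹)) * u * g⁻¹ * u⁻¹ := by group
      _ = ((g * u * g⁻¹ * u⁻¹) * g) * u * g⁻¹ * u⁻¹ := by rw [h1]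
      _ = (g * u * g⁻¹ * u⁻¹) * (g * u * g⁻¹ * u⁻¹) := by group
      _ = 1 := h2
  rwa [mul_inv_eq_one, mul_inv_eq_iff_eq_mul] at e

omit [Finite X] in
/-- Commuting modulo `A`. -/
theorem mem_A_iff_commute [hAn : A.Normal] {g u : X} :
    g * u * g⁻¹ * u⁻¹ ∈ A ↔ Commute (QuotientGroup.mk' A g) (QuotientGroup.mk' A u) := by
  rw [commute_iff_eq, ← QuotientGroup.eq_one_iff, ← QuotientGroup.mk'_apply]
  simp only [map_mul, map_inv]
  rw [mul_inv_eq_one, mul_inv_eq_iff_eq_mul]

/-- Without components `S` is normal and contains its centralizer. -/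
theorem normal_S (h : Loc S A) (hS : ¬ 2 ∣ S.index) (hA : ∀ a ∈ A, ∀ x : X, a * x = x * a)
    (hO : Cfsg.oddCore X = ⊥) (hT : ∀ K : Subgroup X, Cfsg.IsComponent K → TProp (↥K ⧸ center ↥K)) :
    S.Normal ∧ centralizer (S : Set X) ≤ S := by
  have : Fact (Nat.Prime 2) := ⟨Nat.prime_two⟩
  have hSp : IsPGroup 2 S := IsPGroup.of_card (n := 6) (by rw [h.cardS]; norm_num)
  let P : Sylow 2 X := hSp.toSylow hS
  have hl : Cfsg.layer X = ⊥ := Cfsg.Agent.SignalizersComponents.ComponentExists.layer_eq_bot_iff.2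
    (fun K hK => no_component h hS hA hO hK (hT K hK))
  have hc := (Cfsg.Agent.SignalizersComponents.PConstrained.centralizer_pCore_le_iff_layer_eq_bot 2 hO).2 hl
  have hle : Cfsg.pCore 2 X ≤ S := Cfsg.Agent.Lib.Cores.pCore_le_sylow P
  have hAn := normal_A hA
  have hpn : (Cfsg.pCore 2 X).Normal := Cfsg.Agent.Lib.Cores.pCore_normal 2
  let f := QuotientGroup.mk' A
  have hfs : Function.Surjective f := QuotientGroup.mk'_surjective _
  have hmn : ((Cfsg.pCore 2 X).map f).Normal := hpn.map f hfs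
  let N : Subgroup X := (centralizer ((Cfsg.pCore 2 X).map f : Set (X ⧸ A))).comap f
  have hNn : N.Normal := inferInstance
  have hN : ∀ g, g ∈ N ↔ ∀ u ∈ Cfsg.pCore 2 X, g * u * g⁻¹ * u⁻¹ ∈ A := by
    intro g
    rw [mem_comap, mem_centralizer_iff]
    constructor
    · intro h1 u hu
      rw [mem_A_iff_commute]
      exact (h1 (f u) ⟨u, hu, rfl⟩).symm
    · rintro h1 _ ⟨u, hu, rfl⟩
      exact (mem_A_iff_commute.1 (h1 u hu)).symm
  have hN2 : IsPGroup 2 N := by
    rintro ⟨g, hg⟩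
    rw [hN] at hg
    have h1 : g * g ∈ Cfsg.pCore 2 X := by
      apply hc
      rw [mem_centralizer_iff]
      intro u hu
      exact (sq_comm h hA (hg u hu)).symm
    obtain ⟨k, hk⟩ := Cfsg.Agent.Lib.Cores.pCore_isPGroup (G := X) 2 ⟨_, h1⟩
    refine ⟨k + 1, Subtype.ext ?_⟩
    have hk' : (g * g) ^ 2 ^ k = 1 := congrArg Subtype.val hk
    change g ^ 2 ^ (k + 1) = 1
    rw [pow_succ', pow_mul, pow_two]
    exact hk'
  have h3 : S ≤ Cfsg.pCore 2 X := by
    refine le_trans ?_ (Cfsg.Agent.Lib.Cores.le_pCore hNn hN2)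
    intro s hs
    rw [hN]
    intro u hu
    exact h.comm s hs u (hle hu)
  have h4 : S = Cfsg.pCore 2 X := le_antisymm h3 hle
  rw [h4]
  exact ⟨hpn, hc⟩

omit [Finite X] in
/-- An element of odd order which centralizes `S/A` is trivial. -/
theorem eq_one_of_odd (h : Loc S A) (hc : centralizer (S : Set X) ≤ S) (hA : ∀ a ∈ A, ∀ x : X, a * x = x * a)
    {g : X} (hg : Odd (orderOf g)) (hgs : ∀ s ∈ S, g * s * g⁻¹ * s⁻¹ ∈ A) : g = 1 := by
  have h1 : g * g ∈ S := by
    apply hc
    rw [mem_centralizer_iff]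
    intro s hs
    exact (sq_comm h hA (hgs s hs)).symm
  have h2 : (g * g) ^ 64 = 1 := by
    have := pow_card_eq_one' (x := (⟨_, h1⟩ : S))
    rw [h.cardS] at this
    exact congrArg Subtype.val this
  have h3 : g ^ 128 = 1 := by
    rw [← pow_two, ← pow_mul] at h2
    exact h2
  have h4 := orderOf_dvd_of_pow_eq_one h3
  have h5 : (orderOf g).Coprime 128 := by
    have : (128 : ℕ) = 2 ^ 7 := by norm_num
    rw [this]
    exact Nat.Coprime.pow_right 7 (Nat.coprime_two_right.2 hg)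
  exact orderOf_eq_one_iff.1 (Nat.Coprime.eq_one_of_dvd h5 h4)

omit [Finite X] in
/-- Squares of elements of `S` are invariant under conjugation. -/
theorem sq_conj (h : Loc S A) (hA : ∀ a ∈ A, ∀ x : X, a * x = x * a) {s : X} (hs : s ∈ S) (g : X) :
    (g * s * g⁻¹) * (g * s * g⁻¹) = s * s := by
  have h1 := hA _ (h.sq_mem hs) g
  calc (g * s * g⁻¹) * (g * s * g⁻¹) = (g * (s * s)) * g⁻¹ := by group
    _ = ((s * s) * g) * g⁻¹ := by rw [h1]
    _ = s * s := by group

omit [Finite X] in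
/-- An element `g` with `g³ = 1` centralizes `S/A`. -/
theorem three (h : Loc S A) (hn : S.Normal) (hA : ∀ a ∈ A, ∀ x : X, a * x = x * a) {g : X}
    (hg : g ^ 3 = 1) : ∀ s ∈ S, g * s * g⁻¹ * s⁻¹ ∈ A := by
  intro s hs
  by_contra hns
  have hgc : ∀ k : X, ∀ t ∈ S, k * t * k⁻¹ ∈ S := fun k t ht => hn.conj_mem t ht k
  obtain ⟨w, hw⟩ : ∃ w, w = s⁻¹ * (g * s * g⁻¹) := ⟨_, rfl⟩
  have hwS : w ∈ S := by rw [hw]; exact mul_mem (inv_mem hs) (hgc g s hs)
  have hwA : w ∉ A := by
    intro hwA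
    apply hns
    have h1 := hA w hwA s⁻¹
    have e : g * s * g⁻¹ * s⁻¹ = s * (w * s⁻¹) := by rw [hw]; group
    rw [e, h1, mul_inv_cancel_left]
    exact hwA
  have hgg : g * g * g = 1 := by rw [← hg]; simp [pow_succ]
  have h3 : w * (g * w * g⁻¹) * ((g * g) * w * (g * g)⁻¹) = 1 := by
    rw [hw]
    calc s⁻¹ * (g * s * g⁻¹) * (g * (s⁻¹ * (g * s * g⁻¹)) * g⁻¹) *
          (g * g * (s⁻¹ * (g * s * g⁻¹)) * (g * g)⁻¹) = s⁻¹ * (g * g * g) * s * (g * g * g)⁻¹ := by group
      _ = 1 := by rw [hgg]; group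
  have h4 : w * (g * w * g⁻¹) = ((g * g) * w * (g * g)⁻¹)⁻¹ := eq_inv_of_mul_eq_one_left h3
  refine h.noQ hwS (hgc g w hwS) hwA (sq_conj h hA hwS g) ?_
  rw [h4, ← mul_inv_rev, sq_conj h hA hwS]
  exact h.inv_eq (h.sq_mem hwS)

omit [Finite X] in
/-- An element `g` with `g⁷ = 1` centralizes `S/A`. -/
theorem seven (h : Loc S A) (hn : S.Normal) (hA : ∀ a ∈ A, ∀ x : X, a * x = x * a) {g : X}
    (hg : g ^ 7 = 1) : ∀ s ∈ S, g * s * g⁻¹ * s⁻¹ ∈ A := by
  intro s hs
  by_contra hns
  have hAn := normal_A hA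
  have hgc : ∀ k : X, ∀ t ∈ S, k * t * k⁻¹ ∈ S := fun k t ht => hn.conj_mem t ht k
  have hsA : s ∉ A := by
    intro hsA
    apply hns
    have h1 := hA s hsA g
    have e : g * s * g⁻¹ * s⁻¹ = 1 := by rw [← h1]; group
    rw [e]; exact one_mem _
  have h8 : g ^ 8 = g := by rw [pow_succ, hg, one_mul]
  -- powers of `g` do not centralize `s` modulo `A`
  have hpow : ∀ k l : ℕ, (g ^ k) ^ l = g → g ^ k * s * (g ^ k)⁻¹ * s⁻¹ ∉ A := by
    intro k l hkl hk
    apply hns
    rw [mem_A_iff_commute] at hk ⊢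
    have h1 := hk.pow_left l
    rwa [← map_pow, hkl] at h1
  let v : ℕ → X := fun k => g ^ k * s * (g ^ k)⁻¹
  have hv : ∀ k, v k = g ^ k * s * (g ^ k)⁻¹ := fun k => rfl
  have hvS : ∀ k, v k ∈ S := fun k => hgc _ s hs
  have hvv : ∀ k, v k * v k = s * s := fun k => sq_conj h hA hs _
  have hnot : ∀ k l : ℕ, (g ^ k) ^ l = g → s * v k ∉ A := by
    intro k l hkl hk
    apply hpow k l hkl
    -- `v s⁻¹ = (s v)⁻¹ ...`
    have h1 : v k * s⁻¹ = s⁻¹ * (s * v k) * s⁻¹ := by group
    have h2 : g ^ k * s * (g ^ k)⁻¹ * s⁻¹ = v k * s⁻¹ := rfl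
    rw [h2, h1, ← hA _ hk, mul_assoc]
    refine mul_mem hk ?_
    rw [← mul_inv_rev]
    exact inv_mem (h.sq_mem hs)
  -- the function `F`
  have hF1 : ∀ k, (s * v k) * (s * v k) ≠ s * s := fun k e => h.noQ hs (hvS k) hsA (hvv k) e
  have hF2 : ∀ k, s * v k ∉ A → (s * v (2 * k)) * (s * v (2 * k)) ≠ (s * v k) * (s * v k) := by
    intro k hk e
    have hsq := sq_conj h hA (mul_mem hs (hvS k)) (g ^ k)
    have e1 : (s * v k) * (g ^ k * (s * v k) * (g ^ k)⁻¹) = (s * s) * (s * v (2 * k)) := by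
      have h1 : g ^ k * (s * v k) * (g ^ k)⁻¹ = v k * v (2 * k) := by
        simp only [hv, two_mul, pow_add]
        group
      rw [h1]
      calc (s * v k) * (v k * v (2 * k)) = s * (v k * v k) * v (2 * k) := by group
        _ = (s * s) * (s * v (2 * k)) := by rw [hvv]; group
    refine h.noQ (mul_mem hs (hvS k)) (hgc (g ^ k) _ (mul_mem hs (hvS k))) hk hsq ?_
    rw [e1, ← e]
    have h2 := hA _ (h.sq_mem hs) (s * v (2 * k))
    calc (s * s) * (s * v (2 * k)) * ((s * s) * (s * v (2 * k)))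
        = (s * s) * ((s * v (2 * k)) * (s * s)) * (s * v (2 * k)) := by group
      _ = (s * s) * ((s * s) * (s * v (2 * k))) * (s * v (2 * k)) := by rw [h2]
      _ = ((s * s) * (s * s)) * ((s * v (2 * k)) * (s * v (2 * k))) := by group
      _ = _ := by rw [h.sq _ (h.sq_mem hs), one_mul]
  have n1 : s * v 1 ∉ A := hnot 1 1 (by simp)
  have n2 : s * v 2 ∉ A := hnot 2 4 (by rw [← pow_mul, h8])
  have n4 : s * v 4 ∉ A := hnot 4 2 (by rw [← pow_mul, h8])
  have f1 := hF2 1 n1
  have f2 := hF2 2 n2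
  have f4 := hF2 4 n4
  have v8 : v (2 * 4) = v 1 := by simp only [hv, h8, pow_one]
  rw [v8] at f4
  have hfA : Finite A := Nat.finite_of_card_ne_zero (by rw [h.cardA]; norm_num)
  have hone : ∀ k, s * v k ∉ A → (s * v k) * (s * v k) ≠ 1 := fun k hk e =>
    hk (h.inv _ (mul_mem hs (hvS k)) e)
  have hss : s * s ≠ 1 := fun e => hsA (h.inv s hs e)
  have h5 := five_le (⟨1, one_mem _⟩ : A) ⟨s * s, h.sq_mem hs⟩ ⟨_, h.sq_mem (mul_mem hs (hvS 1))⟩
    ⟨_, h.sq_mem (mul_mem hs (hvS 2))⟩ ⟨_, h.sq_mem (mul_mem hs (hvS 4))⟩ (by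
    simp only [List.nodup_cons, List.mem_cons, Subtype.mk.injEq, List.not_mem_nil, or_false, not_or, not_false_eq_true,
      List.nodup_nil, and_true]
    exact ⟨⟨hss.symm, (hone 1 n1).symm, (hone 2 n2).symm, (hone 4 n4).symm⟩,
      ⟨(hF1 1).symm, (hF1 2).symm, (hF1 4).symm⟩, ⟨f1.symm, f4⟩, f2.symm⟩)
  rw [h.cardA] at h5
  omega

/-- An element of odd prime order has no fixed points on `S/A`. -/
theorem no_fixed (h : Loc S A) (hn : S.Normal) (hc : centralizer (S : Set X) ≤ S)
    (hA : ∀ a ∈ A, ∀ x : X, a * x = x * a) {g : X} {p : ℕ} (hp : p.Prime) (hp2 : p ≠ 2) (hg : orderOf g = p)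
    {v : X} (hv : v ∈ S) (hvA : v ∉ A) (hgv : g * v * g⁻¹ * v⁻¹ ∈ A) : False := by
  have hpf : Fact p.Prime := ⟨hp⟩
  have hodd : Odd (orderOf g) := hg ▸ hp.odd_of_ne_two hp2
  have hg1 : g ≠ 1 := by
    rintro rfl
    rw [orderOf_one] at hg
    exact hp.one_lt.ne hg
  have hAn := normal_A hA
  let f := QuotientGroup.mk' A
  have hfs : Function.Surjective f := QuotientGroup.mk'_surjective _
  let W := S.map f
  have hWn : W.Normal := hn.map f hfs
  -- the order of `W`
  have hcW : Nat.card W = 16 := by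
    let φ : S →* X ⧸ A := f.comp S.subtype
    have h1 : φ.range = W := by
      rw [MonoidHom.range_comp, range_subtype]
    have h2 : φ.ker = A.subgroupOf S := by
      ext s
      rw [MonoidHom.mem_ker, mem_subgroupOf]
      exact QuotientGroup.eq_one_iff (s : X)
    have h3 : Nat.card (A.subgroupOf S) = 4 := by
      rw [← h.cardA]
      exact Nat.card_congr (subgroupOfEquivOfLe h.AS).toEquiv
    have h4 := Subgroup.card_mul_index φ.ker
    rw [Subgroup.index_ker, h1, h2, h3, h.cardS] at h4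
    omega
  -- the action of `g`
  let ψ : zpowers (f g) →* MulAut W := (MulAut.conjNormal (H := W)).comp (zpowers (f g)).subtype
  let act : MulAction (zpowers (f g)) W := MulAction.compHom W ψ
  have hact : ∀ (z : zpowers (f g)) (w : W), ((z • w : W) : X ⧸ A) = z * w * (z : X ⧸ A)⁻¹ := fun z w => rfl
  have hpg : IsPGroup p (zpowers (f g)) := by
    refine IsPGroup.of_card_dvd_pow (n := 1) ?_
    rw [Nat.card_zpowers, pow_one, ← hg]
    exact orderOf_map_dvd f g
  have hmod := hpg.card_modEq_card_fixedPoints W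
  rw [hcW] at hmod
  -- the fixed points
  let D : Subgroup W := (centralizer ({f g} : Set (X ⧸ A))).subgroupOf W
  have hD : ∀ w : W, w ∈ D ↔ (f g) * w = w * (f g) := by
    intro w
    rw [mem_subgroupOf, mem_centralizer_singleton_iff]
    exact eq_comm
  have hfix : MulAction.fixedPoints (zpowers (f g)) W = (D : Set W) := by
    ext w
    rw [MulAction.mem_fixedPoints, SetLike.mem_coe, hD]
    constructor
    · intro h1
      have h2 := congrArg Subtype.val (h1 ⟨f g, mem_zpowers _⟩)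
      rw [hact, mul_inv_eq_iff_eq_mul] at h2
      exact h2
    · rintro h1 ⟨z, hz⟩
      apply Subtype.ext
      rw [hact, mul_inv_eq_iff_eq_mul]
      obtain ⟨n, rfl⟩ := mem_zpowers_iff.1 hz
      exact (Commute.zpow_left h1 n)
  rw [hfix] at hmod
  have hDdvd : Nat.card D ∣ 16 := hcW ▸ card_subgroup_dvd_card D
  -- `D ≠ 1`
  have hfv : f v ∈ W := ⟨v, hv, rfl⟩
  have hD1 : Nat.card D ≠ 1 := by
    intro e
    have h1 : D = ⊥ := Subgroup.card_eq_one.1 e
    have h2 : (⟨f v, hfv⟩ : W) ∈ D := by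
      rw [hD]
      exact (mem_A_iff_commute.1 hgv)
    rw [h1, mem_bot] at h2
    exact hvA ((QuotientGroup.eq_one_iff v).1 (congrArg Subtype.val h2))
  -- `D ≠ W`
  have hnc : ¬ ∀ s ∈ S, g * s * g⁻¹ * s⁻¹ ∈ A := fun e => hg1 (eq_one_of_odd h hc hA hodd e)
  have hD16 : Nat.card D ≠ 16 := by
    intro e
    apply hnc
    have h1 : D = ⊤ := by
      apply Subgroup.eq_top_of_card_eq
      rw [e, hcW]
    intro s hs
    rw [mem_A_iff_commute]
    have h2 : (⟨f s, ⟨s, hs, rfl⟩⟩ : W) ∈ D := by rw [h1]; exact mem_top _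
    exact (hD _).1 h2
  have hg3 : p ≠ 3 := by
    intro e
    apply hnc
    apply three h hn hA
    rw [← e, ← hg, pow_orderOf_eq_one]
  have hg7 : p ≠ 7 := by
    intro e
    apply hnc
    apply seven h hn hA
    rw [← e, ← hg, pow_orderOf_eq_one]
  have hcD : Nat.card (D : Set W) = Nat.card D := rfl
  rw [hcD] at hmod
  obtain ⟨d, hd⟩ : ∃ d, d = Nat.card D := ⟨_, rfl⟩
  rw [← hd] at hmod hDdvd hD1 hD16
  have hle : d ≤ 16 := Nat.le_of_dvd (by norm_num) hDdvd
  have hcases : d = 2 ∨ d = 4 ∨ d = 8 := dvd_sixteen hDdvd hD1 hD16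
  have hdvd := (Nat.modEq_iff_dvd' hle).1 hmod.symm
  have hp5 : ∀ q n : ℕ, q.Prime → p ∣ q ^ n → p = q := by
    intro q n hq hpq
    exact (Nat.prime_dvd_prime_iff_eq hp hq).1 (hp.dvd_of_dvd_pow hpq)
  rcases hcases with rfl | rfl | rfl
  · have h1 : p ∣ 2 * 7 := by norm_num; exact hdvd
    rcases (Nat.Prime.dvd_mul hp).1 h1 with h2 | h2
    · exact hp2 ((Nat.prime_dvd_prime_iff_eq hp Nat.prime_two).1 h2)
    · exact hg7 ((Nat.prime_dvd_prime_iff_eq hp (by norm_num)).1 h2)
  · have h1 : p ∣ 2 ^ 2 * 3 := by norm_num; exact hdvd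
    rcases (Nat.Prime.dvd_mul hp).1 h1 with h2 | h2
    · exact hp2 (hp5 2 2 Nat.prime_two h2)
    · exact hg3 ((Nat.prime_dvd_prime_iff_eq hp Nat.prime_three).1 h2)
  · have h1 : p ∣ 2 ^ 3 := by norm_num; exact hdvd
    exact hp2 (hp5 2 3 Nat.prime_two h1)

/-- The index of `S` is 1 or 5. -/
theorem index_S (h : Loc S A) (hS : ¬ 2 ∣ S.index) (hn : S.Normal) (hc : centralizer (S : Set X) ≤ S)
    (hA : ∀ a ∈ A, ∀ x : X, a * x = x * a) : S.index = 1 ∨ S.index = 5 := by
  have : Fact (Nat.Prime 2) := ⟨Nat.prime_two⟩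
  have hSp : IsPGroup 2 S := IsPGroup.of_card (n := 6) (by rw [h.cardS]; norm_num)
  let P : Sylow 2 X := hSp.toSylow hS
  have hAn := normal_A hA
  have hdvd : S.index ∣ A.relIndex S - 1 := by
    refine Cfsg.Agent.OddOrderCharacters.NilpotentIndex.index_dvd_relIndex_sub_one ?_ le_rfl ?_
    · rw [commutator_le]
      intro a ha b hb
      exact h.comm a ha b hb
    · intro k hk hkA x hxk
      -- the subgroup of the elements which centralize `k` modulo `A`
      let D : Subgroup X := (centralizer ({QuotientGroup.mk' A k} : Set (X ⧸ A))).comap (QuotientGroup.mk' A)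
      have hD : ∀ y, y ∈ D ↔ y * k * y⁻¹ * k⁻¹ ∈ A := by
        intro y
        rw [mem_comap, mem_centralizer_singleton_iff, mem_A_iff_commute]
        exact Iff.rfl
      have hSD : S ≤ D := fun s hs => (hD s).2 (h.comm s hs k hk)
      have h2 : IsPGroup 2 D := by
        rw [IsPGroup.iff_card]
        refine ⟨_, Nat.eq_prime_pow_of_unique_prime_dvd Nat.card_pos.ne' ?_⟩
        intro q hq hqD
        by_contra hq2
        have hqf : Fact q.Prime := ⟨hq⟩
        obtain ⟨g, hg⟩ := exists_prime_orderOf_dvd_card' (G := D) q hqD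
        have h3 := (hD g).1 g.2
        refine no_fixed h hn hc hA hq hq2 ?_ hk hkA h3
        rw [← hg]
        exact orderOf_submonoid g
      have h3 : D = S := P.is_maximal' h2 hSD
      rw [← h3, hD]
      exact hxk
  have h15 : A.relIndex S = 16 := by
    have h1 : Nat.card (A.subgroupOf S) = 4 := by
      rw [← h.cardA]
      exact Nat.card_congr (subgroupOfEquivOfLe h.AS).toEquiv
    have h2 := Subgroup.card_mul_index (A.subgroupOf S)
    rw [h1, h.cardS] at h2
    change (A.subgroupOf S).index = 16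
    omega
  rw [h15] at hdvd
  have h3 : ¬ 3 ∣ S.index := by
    intro h3
    have h4 : 3 ∣ Nat.card X := h3.trans S.index_dvd_card
    have : Fact (Nat.Prime 3) := ⟨Nat.prime_three⟩
    obtain ⟨g, hg⟩ := exists_prime_orderOf_dvd_card' (G := X) 3 h4
    have h5 : g = 1 := eq_one_of_odd h hc hA (by rw [hg]; decide)
      (three h hn hA (by rw [← hg, pow_orderOf_eq_one]))
    rw [h5, orderOf_one] at hg
    omega
  exact dvd_fifteen hdvd h3

end NoComponent

open Cfsg.Agent.Classification.TypeB.Core (oc oc_def)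

/-- `[M1-CA]`: the fields `normCA` and `indexCA` of the frame. -/
theorem norm_and_index {G : Type*} [Group G] [Finite G] {S A : Subgroup G} (h : Loc S A) (hS : ¬ 2 ∣ S.index)
    (hT : ∀ K : Subgroup (↥(centralizer (A : Set G)) ⧸ Cfsg.oddCore ↥(centralizer (A : Set G))),
      Cfsg.IsComponent K → TProp (↥K ⧸ center ↥K)) :
    centralizer (A : Set G) ≤ normalizer ((oc (centralizer (A : Set G)) ⊔ S : Subgroup G) : Set G) ∧
    ((oc (centralizer (A : Set G)) ⊔ S).relIndex (centralizer (A : Set G)) = 1 ∨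
      (oc (centralizer (A : Set G)) ⊔ S).relIndex (centralizer (A : Set G)) = 5) := by
  have : Fact (Nat.Prime 2) := ⟨Nat.prime_two⟩
  obtain ⟨C, hC⟩ : ∃ C, C = centralizer (A : Set G) := ⟨_, rfl⟩
  rw [← hC] at hT ⊢
  have hAC : ∀ a ∈ A, ∀ x ∈ C, a * x = x * a := by
    intro a ha x hx
    rw [hC, mem_centralizer_iff] at hx
    exact hx a ha
  have hSC : S ≤ C := by
    intro s hs
    rw [hC, mem_centralizer_iff]
    intro a ha
    exact h.cen a ha s hs
  let f := QuotientGroup.mk' (Cfsg.oddCore C)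
  have hf : Function.Surjective f := QuotientGroup.mk'_surjective _
  have hloc : Loc (S.subgroupOf C) (A.subgroupOf C) := h.subgroupOf hSC
  have hSp : IsPGroup 2 (S.subgroupOf C) := IsPGroup.of_card (n := 6) (by rw [hloc.cardS]; norm_num)
  have hinj : ∀ s ∈ S.subgroupOf C, f s = 1 → s = 1 := by
    intro s hs h1
    have h2 : s ∈ Cfsg.oddCore C := (QuotientGroup.eq_one_iff s).1 h1
    have h3 : (Nat.card (Cfsg.oddCore C)).Coprime 2 := Cfsg.Agent.Lib.Cores.pPrimeCore_coprime 2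
    have h4 : Disjoint (S.subgroupOf C) (Cfsg.oddCore C) := by
      apply Subgroup.disjoint_of_coprime_natCard
      rw [hloc.cardS]
      have e : (64 : ℕ) = 2 ^ 6 := by norm_num
      rw [e]
      exact Nat.Coprime.pow_left 6 h3.symm
    exact (Subgroup.disjoint_def.1 h4) hs h2
  have hlocX := hloc.map f hinj
  have hSX : ¬ 2 ∣ ((S.subgroupOf C).map f).index := by
    intro h1
    have h2 : ((S.subgroupOf C).map f).index ∣ (S.subgroupOf C).index := Subgroup.index_map_dvd _ hf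
    have h3 : (S.subgroupOf C).index ∣ S.index := Subgroup.relIndex_dvd_index_of_le hSC
    exact hS ((h1.trans h2).trans h3)
  have hAX : ∀ a ∈ (A.subgroupOf C).map f, ∀ x, a * x = x * a := by
    rintro _ ⟨a, ha, rfl⟩ x
    obtain ⟨y, rfl⟩ := hf x
    rw [← map_mul, ← map_mul]
    congr 1
    exact Subtype.ext (hAC a ha y y.2)
  have hO : Cfsg.oddCore (C ⧸ Cfsg.oddCore C) = ⊥ := Cfsg.Agent.Lib.Cores.pPrimeCore_quotient_pPrimeCore 2
  obtain ⟨hn, hc⟩ := normal_S hlocX hSX hAX hO hT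
  have hidx := index_S hlocX hSX hn hc hAX
  have hoc : oc C = (Cfsg.oddCore C).map C.subtype := by
    rw [oc_def]
    exact (Cfsg.Agent.OddOrderLocal.UniqZL.map_pPrimeCore_eq 2 C).symm
  obtain ⟨M, hM⟩ : ∃ M, M = ((S.subgroupOf C).map f).comap f := ⟨_, rfl⟩
  have hM1 : M = S.subgroupOf C ⊔ Cfsg.oddCore C := by
    rw [hM, Subgroup.comap_map_eq, QuotientGroup.ker_mk']
  have hM2 : oc C ⊔ S = M.map C.subtype := by
    rw [hM1, Subgroup.map_sup, hoc, subgroupOf_map_subtype, inf_eq_left.2 hSC, sup_comm]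
  have hMn : M.Normal := by rw [hM]; exact hn.comap f
  rw [hM2]
  constructor
  · rw [← Subgroup.normal_subgroupOf_iff_le_normalizer (map_subtype_le M), subgroupOf,
      comap_map_eq_self_of_injective C.subtype_injective]
    exact hMn
  · have e : (M.map C.subtype).relIndex C = M.index := by
      change ((M.map C.subtype).subgroupOf C).index = _
      rw [subgroupOf, comap_map_eq_self_of_injective C.subtype_injective]
    rw [e, hM, Subgroup.index_comap_of_surjective _ hf]
    exact hidx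

end Cfsg.Agent.TwoFusion.GoldM1CA
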