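import Cfsg.Agent.TwoFusion.GoldM1Form
import Cfsg.Agent.TwoFusion.GoldSolid
import Cfsg.Agent.TwoFusion.GoldTrans
import Cfsg.Agent.TwoFusion.GoldAS
import Cfsg.Agent.TwoFusion.GoldNZero
import Cfsg.Agent.TwoFusion.GoldM1Loc

/-!
# Case [M1] of Goldschmidt's theorem: the local structure

`X` is a finite group without odd core, `P` a Sylow 2-subgroup like the one of `PSU(3,4)` with centre `A`.

* `le_of_component`: every component contains `A`;
* `not_le_centralizer`, `eq_one_of_central`, `center_eq_bot`: the components are simple and meet `C(L)` trivially;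
* `big`: if there is a component `L` then `P ≤ L`, `L` is normal, simple, `C(L) = 1` and `BenPack L`;
* `inv_eq_bot`: (INV), `P`-invariant subgroups of odd order are trivial;
* `eq_pCore`, `index_eq`: if `A` is central then `P` is normal of index 1 or 5.
-/

set_option autoImplicit false
set_option linter.style.haveILetI false

namespace Cfsg.Agent.TwoFusion.GoldM1Inv

open Subgroup
open Cfsg.Agent.TwoFusion.ClosedFam Cfsg.Agent.TwoFusion.Gold Cfsg.Agent.TwoFusion.GoldM1
open scoped commutatorElement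

variable {X : Type*} [Group X] [Finite X]

/-- The focal subgroup argument in a component. -/
theorem focal (P : Sylow 2 X) {L : Subgroup X} (hL : Cfsg.IsComponent L) {D : Subgroup X}
    (hD : ∀ x ∈ (P : Subgroup X), x ∈ L → ∀ u ∈ L, u * x⁻¹ * u⁻¹ ∈ (P : Subgroup X) →
      x * (u * x⁻¹ * u⁻¹) ∈ D) {x : X} (hx : x ∈ (P : Subgroup X)) (hxL : x ∈ L) : x ∈ D := by
  haveI : Fact (Nat.Prime 2) := ⟨Nat.prime_two⟩
  obtain ⟨T, hT⟩ := exists_sylow_subgroupOf P hL.1
  have hperf : commutator L = ⊤ := hL.2.1.commutator_eq_top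
  have hfoc : (T : Subgroup L) = (T : Subgroup L).focalSubgroup := by
    have h1 := Subgroup.commutator_inf_eq_focalSubgroup T
    rw [hperf, top_inf_eq] at h1
    exact h1
  have h1 : (T : Subgroup L) ≤ D.comap L.subtype := by
    rw [hfoc, Subgroup.focalSubgroup_def, closure_le]
    rintro g ⟨hg, y, hy, u, rfl⟩
    change ((⁅y, u⁆ : L) : X) ∈ D
    have hyP : (y : X) ∈ (P : Subgroup X) := by
      rw [hT] at hy
      exact hy
    have hgP : ((⁅y, u⁆ : L) : X) ∈ (P : Subgroup X) := by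
      rw [hT] at hg
      exact hg
    have e1 : ((⁅y, u⁆ : L) : X) = (y : X) * ((u : X) * (y : X)⁻¹ * (u : X)⁻¹) := by
      rw [commutatorElement_def]
      push_cast
      group
    rw [e1] at hgP ⊢
    refine hD _ hyP y.2 _ u.2 ?_
    have := mul_mem (inv_mem hyP) hgP
    rwa [inv_mul_cancel_left] at this
  have h2 : (⟨x, hxL⟩ : L) ∈ (T : Subgroup L) := by
    rw [hT]
    exact hx
  exact h1 h2

theorem not_central (hO : Cfsg.oddCore X = ⊥) (P : Sylow 2 X) {L : Subgroup X} (hL : Cfsg.IsComponent L) :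
    ¬ ∀ x ∈ (P : Subgroup X), x ∈ L → ∀ y ∈ L, x * y = y * x := by
  intro hc
  haveI : Fact (Nat.Prime 2) := ⟨Nat.prime_two⟩
  obtain ⟨T, hT⟩ := exists_sylow_subgroupOf P hL.1
  have hdvd : 2 ∣ Nat.card L := by
    have h1 := Cfsg.Agent.S1270.component_not_coprime hO hL
    rw [Nat.coprime_comm, Nat.Prime.coprime_iff_not_dvd Nat.prime_two, not_not] at h1
    exact h1
  refine Cfsg.Agent.SignalizersComponents.CompBasic.sylow_not_le_center_of_perfect hL.2.1 2 hdvd T ?_
  intro x hx
  rw [hT] at hx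
  rw [mem_center_iff]
  intro y
  exact Subtype.ext (hc x hx x.2 y y.2).symm

section SylForm

variable {P : Sylow 2 X} {A : Subgroup X} (hs : Syl (P : Subgroup X) A)

include hs

/-- Every component contains `A`. -/
theorem le_of_component (hO : Cfsg.oddCore X = ⊥) {L : Subgroup X} (hL : Cfsg.IsComponent L) : A ≤ L := by
  by_contra hAL
  haveI := hs.finA
  -- two nontrivial elements of `A ∩ L` are equal
  have huniq : ∀ a ∈ A, a ∈ L → a ≠ 1 → ∀ b ∈ A, b ∈ L → b ≠ 1 → a = b := by
    intro a ha haL ha1 b hb hbL hb1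
    by_contra hab
    apply hAL
    intro c hc
    rcases hs.mem_A ha hb ha1 hb1 hab hc with rfl | rfl | rfl | rfl
    · exact one_mem _
    · exact haL
    · exact hbL
    · exact mul_mem haL hbL
  have key : ∀ v ∈ (P : Subgroup X), v ∈ L → v ∉ A → ∀ w ∈ (P : Subgroup X), w ∈ L → w ∉ A → v * w ∈ A := by
    intro v hv hvL hvA w hw hwL hwA
    by_contra hvw
    have h1 := huniq _ (hs.sq_mem hv) (mul_mem hvL hvL) (hs.sq_ne hv hvA) _ (hs.sq_mem hw) (mul_mem hwL hwL)
      (hs.sq_ne hw hwA)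
    have h2 := huniq _ (hs.sq_mem hv) (mul_mem hvL hvL) (hs.sq_ne hv hvA) _ (hs.sq_mem (mul_mem hv hw))
      (mul_mem (mul_mem hvL hwL) (mul_mem hvL hwL)) (hs.sq_ne (mul_mem hv hw) hvw)
    exact hs.sq_ne hv hvA (hs.no_quat hv hw rfl h1.symm h2.symm)
  -- conjugates of elements of `A`
  have hconjA : ∀ x ∈ (P : Subgroup X), ∀ u : X, u * x⁻¹ * u⁻¹ ∈ (P : Subgroup X) → x ∈ A →
      u * x⁻¹ * u⁻¹ ∈ A := by
    intro x _ u hu hxA
    refine hs.inv _ hu ?_
    have e : u * x⁻¹ * u⁻¹ * (u * x⁻¹ * u⁻¹) = u * (x * x)⁻¹ * u⁻¹ := by group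
    rw [e, hs.sq x hxA]; group
  have hconjA' : ∀ x ∈ (P : Subgroup X), ∀ u : X, u * x⁻¹ * u⁻¹ ∈ (P : Subgroup X) → u * x⁻¹ * u⁻¹ ∈ A →
      x ∈ A := by
    intro x hx u _ hxA
    refine hs.inv _ hx ?_
    have e : x * x = u⁻¹ * (u * x⁻¹ * u⁻¹ * (u * x⁻¹ * u⁻¹))⁻¹ * u := by simp [mul_assoc]
    rw [e, hs.sq _ hxA]; group
  have h1 : ∀ x ∈ (P : Subgroup X), x ∈ L → x ∈ A := by
    intro x hx hxL
    refine focal P hL (D := A) ?_ hx hxL
    intro x hx hxL u hu hux
    by_cases hxA : x ∈ A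
    · exact mul_mem hxA (hconjA x hx u hux hxA)
    · exact key x hx hxL hxA _ hux (mul_mem (mul_mem hu (inv_mem hxL)) (inv_mem hu))
        (fun hc => hxA (hconjA' x hx u hux hc))
  have h2 : ∀ x ∈ (P : Subgroup X), x ∈ L → x ∈ (⊥ : Subgroup X) := by
    intro x hx hxL
    refine focal P hL (D := ⊥) ?_ hx hxL
    intro x hx hxL u hu hux
    have hxA := h1 x hx hxL
    rw [mem_bot]
    by_cases hx1 : x = 1
    · rw [hx1]; group
    · have h3 := huniq x hxA hxL hx1 (u * x⁻¹ * u⁻¹) (hconjA x hx u hux hxA)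
        (mul_mem (mul_mem hu (inv_mem hxL)) (inv_mem hu)) (by
          intro e
          apply hx1
          have e' : x = u⁻¹ * (u * x⁻¹ * u⁻¹)⁻¹ * u := by group
          rw [e', e]; group)
      rw [← h3]
      exact hs.sq x hxA
  refine not_central hO P hL ?_
  intro x hx hxL y _
  have := h2 x hx hxL
  rw [mem_bot] at this
  rw [this, one_mul, mul_one]

omit hs in
/-- Two elements of `P ∩ L` which generate a four-group modulo the centre of `L` (if squares are central). -/
theorem exists_pair (hO : Cfsg.oddCore X = ⊥) {L : Subgroup X} (hL : Cfsg.IsComponent L) :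
    ∃ v ∈ (P : Subgroup X), v ∈ L ∧ ∃ w ∈ (P : Subgroup X), w ∈ L ∧ v ∉ centralizer (L : Set X) ∧
      w ∉ centralizer (L : Set X) ∧ v * w ∉ centralizer (L : Set X) := by
  by_contra hn
  push Not at hn
  have h1 : ∀ x ∈ (P : Subgroup X), x ∈ L → x ∈ centralizer (L : Set X) := by
    intro x hx hxL
    refine focal P hL (D := centralizer (L : Set X)) ?_ hx hxL
    intro x hx hxL u hu hux
    have h2 : ∀ y : X, y ∈ centralizer (L : Set X) → u * y * u⁻¹ ∈ centralizer (L : Set X) := by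
      intro y hy
      have e : u * y * u⁻¹ = y := by
        rw [mem_centralizer_iff] at hy
        rw [hy u hu]; group
      rw [e]; exact hy
    by_cases hxC : x ∈ centralizer (L : Set X)
    · exact mul_mem hxC (h2 _ (inv_mem hxC))
    · refine hn x hx hxL _ hux (mul_mem (mul_mem hu (inv_mem hxL)) (inv_mem hu)) hxC ?_
      intro hc
      apply hxC
      rw [mem_centralizer_iff] at hc
      have e1 : u * x⁻¹ = u * x⁻¹ * u⁻¹ * u := by group
      have e2 := hc u hu
      have e3 : u * x⁻¹ * u⁻¹ = x⁻¹ := by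
        have : u * (u * x⁻¹ * u⁻¹) = u * x⁻¹ := by rw [e2]; group
        exact mul_left_cancel this
      rw [e3] at hc
      have h4 : x⁻¹ ∈ centralizer (L : Set X) := hc
      exact inv_mem_iff.1 h4
  refine not_central hO P hL ?_
  intro x hx hxL y hy
  have := mem_centralizer_iff.1 (h1 x hx hxL) y hy
  exact this.symm

end SylForm

/-- A 2-subgroup is conjugate into a given Sylow subgroup. -/
theorem exists_conj_le {L : Type*} [Group L] [Finite L] (T : Sylow 2 L) {Q : Subgroup L} (hQ : IsPGroup 2 Q) :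
    ∃ g : L, ∀ q ∈ Q, g * q * g⁻¹ ∈ (T : Subgroup L) := by
  haveI : Fact (Nat.Prime 2) := ⟨Nat.prime_two⟩
  obtain ⟨R, hR⟩ := hQ.exists_le_sylow
  obtain ⟨g, hg⟩ := MulAction.exists_smul_eq L R T
  refine ⟨g, fun t ht => ?_⟩
  have h1 : g * t * g⁻¹ ∈ ((g • R : Sylow 2 L) : Subgroup L) := by
    rw [Sylow.coe_subgroup_smul, Subgroup.mem_pointwise_smul_iff_inv_smul_mem]
    simpa [MulAut.smul_def, mul_assoc] using hR ht
  rw [hg] at h1
  exact h1

omit [Finite X] in
theorem isPGroup_zpowers_of_pow {x : X} {k : ℕ} (hx : x ^ 2 ^ k = 1) : IsPGroup 2 (zpowers x) := by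
  rintro ⟨y, hy⟩
  refine ⟨k, ?_⟩
  obtain ⟨n, rfl⟩ := mem_zpowers_iff.1 hy
  apply Subtype.ext
  simp only [SubmonoidClass.mk_pow, OneMemClass.coe_one]
  rw [← zpow_natCast, ← zpow_mul, mul_comm, zpow_mul, zpow_natCast, hx, one_zpow]

/-- Central 2-elements of a component lie in `P`. -/
theorem mem_of_central (P : Sylow 2 X) {L : Subgroup X} (hL : Cfsg.IsComponent L) {z : X} (hzL : z ∈ L)
    (hzC : z ∈ centralizer (L : Set X)) {k : ℕ} (hz : z ^ 2 ^ k = 1) : z ∈ (P : Subgroup X) := by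
  haveI : Fact (Nat.Prime 2) := ⟨Nat.prime_two⟩
  obtain ⟨T, hT⟩ := exists_sylow_subgroupOf P hL.1
  have h1 : (⟨z, hzL⟩ : L) ^ 2 ^ k = 1 := Subtype.ext hz
  obtain ⟨g, hg⟩ := exists_conj_le T (isPGroup_zpowers_of_pow h1)
  have h2 := hg _ (mem_zpowers _)
  rw [hT, mem_subgroupOf] at h2
  have e : ((g * ⟨z, hzL⟩ * g⁻¹ : L) : X) = z := by
    push_cast
    rw [mem_centralizer_iff.1 hzC g g.2]; group
  rwa [e] at h2

section Comp

universe u

variable {X : Type u} [Group X] [Finite X] {𝒜 : Set X} {P : Sylow 2 X} {A : Subgroup X}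
  (hs : Syl (P : Subgroup X) A) (hc : Ctx 𝒜)

include hs hc

/-- `A` is not contained in the centre of a component. -/
theorem not_le_centralizer {L : Subgroup X} (hL : Cfsg.IsComponent L) : ¬ A ≤ centralizer (L : Set X) := by
  classical
  intro hAC
  haveI : Fact (Nat.Prime 2) := ⟨Nat.prime_two⟩
  obtain ⟨v, hv, hvL, w, hw, hwL, hvC, hwC, hvwC⟩ := exists_pair (P := P) hc.core hL
  obtain ⟨T, hT⟩ := exists_sylow_subgroupOf P hL.1
  set f := QuotientGroup.mk' (center ↥L) with hf
  have hfs : Function.Surjective f := QuotientGroup.mk'_surjective _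
  have hker : ∀ l : L, f l = 1 ↔ (l : X) ∈ centralizer (L : Set X) := by
    intro l
    rw [hf, ← MonoidHom.mem_ker, QuotientGroup.ker_mk', mem_center_iff, mem_centralizer_iff]
    constructor
    · intro h m hm
      exact congrArg Subtype.val (h ⟨m, hm⟩)
    · intro h m
      exact Subtype.ext (h m m.2)
  set ℬ : Set (↥L ⧸ center ↥L) := {x | x * x = 1} with hB
  have hBe : IsElemFam ℬ :=
    { one_mem := mul_one 1
      conj_mem := by
        intro x hx g
        change g * x * g⁻¹ * (g * x * g⁻¹) = 1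
        have e : g * x * g⁻¹ * (g * x * g⁻¹) = g * (x * x) * g⁻¹ := by group
        rw [e, show x * x = 1 from hx]; group
      two := by
        intro x hx
        exact ⟨1, by rw [pow_one, pow_two]; exact hx⟩
      mul_mem := by
        intro Q hQ x hx y hy hxx hyy
        obtain ⟨Q0, hQ0, hmap, -⟩ := exists_lift hfs Q hQ
        rw [← hmap] at hx hy
        obtain ⟨x0, hx0, rfl⟩ := hx
        obtain ⟨y0, hy0, rfl⟩ := hy
        obtain ⟨g, hg⟩ := exists_conj_le T hQ0
        have h1 := hg _ hx0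
        have h2 := hg _ hy0
        rw [hT, mem_subgroupOf] at h1 h2
        have h3 : f ((g * x0 * g⁻¹) * (g * y0 * g⁻¹) * (g * x0 * g⁻¹)⁻¹ * (g * y0 * g⁻¹)⁻¹) = 1 :=
          (hker _).2 (hAC (hs.comm _ h1 _ h2))
        have h4 : f x0 * f y0 = f y0 * f x0 := by
          have e : f ((g * x0 * g⁻¹) * (g * y0 * g⁻¹) * (g * x0 * g⁻¹)⁻¹ * (g * y0 * g⁻¹)⁻¹) =
              f g * (f x0 * f y0 * (f x0)⁻¹ * (f y0)⁻¹) * (f g)⁻¹ := by
            simp only [map_mul, map_inv]; group
          rw [e, mul_inv_eq_one, mul_eq_left] at h3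
          calc f x0 * f y0 = f x0 * f y0 * (f x0)⁻¹ * (f y0)⁻¹ * (f y0 * f x0) := by group
            _ = f y0 * f x0 := by rw [h3, one_mul]
        change f x0 * f y0 * (f x0 * f y0) = 1
        calc f x0 * f y0 * (f x0 * f y0) = f x0 * (f y0 * f x0) * f y0 := by group
          _ = f x0 * (f x0 * f y0) * f y0 := by rw [h4]
          _ = (f x0 * f x0) * (f y0 * f y0) := by group
          _ = 1 := by
            rw [show f x0 * f x0 = 1 from hxx, show f y0 * f y0 = 1 from hyy, one_mul]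
      sq := fun x hx => hx }
  -- the elements of `P ∩ L` have images of order at most 2
  have hsq : ∀ x ∈ (P : Subgroup X), ∀ hxL : x ∈ L, f ⟨x, hxL⟩ * f ⟨x, hxL⟩ = 1 := by
    intro x hx hxL
    rw [← map_mul]
    exact (hker _).2 (hAC (hs.sq_mem hx))
  have hord : ∀ x ∈ (P : Subgroup X), ∀ hxL : x ∈ L, x ∉ centralizer (L : Set X) → orderOf (f ⟨x, hxL⟩) = 2 := by
    intro x hx hxL hxC
    exact orderOf_eq_prime (by rw [pow_two]; exact hsq x hx hxL) (fun e => hxC ((hker _).1 e))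
  have hTC : TCon (↥L ⧸ center ↥L) :=
    hc.T L hL ℬ hBe ⟨f ⟨v, hvL⟩, hsq v hv hvL, fun e => hvC ((hker _).1 e)⟩
  have key : ∀ v ∈ (P : Subgroup X), v ∈ L → v ∉ centralizer (L : Set X) → ∀ w ∈ (P : Subgroup X), w ∈ L →
      w ∉ centralizer (L : Set X) → ∀ r ∈ (P : Subgroup X), r ∈ L → r ∉ centralizer (L : Set X) →
      w * r ∉ centralizer (L : Set X) → v * v = w * w := by
    intro v hv hvL hvC w hw hwL hwC r hr hrL hrC hwr
    obtain ⟨g', hg'⟩ := hTC.conj _ _ (hord v hv hvL hvC) (hord w hw hwL hwC)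
    obtain ⟨g, rfl⟩ := hfs g'
    obtain ⟨z, hz⟩ : ∃ z : L, z = (⟨w, hwL⟩ : L)⁻¹ * (g * ⟨v, hvL⟩ * g⁻¹) := ⟨_, rfl⟩
    have hzC : (z : X) ∈ centralizer (L : Set X) := by
      rw [← hker, hz]
      simp only [map_mul, map_inv]
      rw [hg', inv_mul_cancel]
    have hzc := mem_centralizer_iff.1 hzC
    have hgv : (g : X) * v * (g : X)⁻¹ = w * z := by
      rw [hz]; push_cast; group
    have hv4 : v * v * (v * v) = 1 := hs.sq _ (hs.sq_mem hv)
    have hw4 : w * w * (w * w) = 1 := hs.sq _ (hs.sq_mem hw)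
    have hwz : (z : X) * w = w * z := (hzc w hwL).symm
    have h1 : w * z * (w * z) = w * w * (z * z) := by
      calc w * z * (w * z) = w * (z * w) * z := by group
        _ = w * (w * z) * z := by rw [hwz]
        _ = _ := by group
    have h2 : (g : X) * (v * v) * (g : X)⁻¹ = w * w * (z * z) := by
      rw [← h1, ← hgv]; group
    have hvvC := mem_centralizer_iff.1 (hAC (hs.sq_mem hv))
    have h3 : (g : X) * (v * v) * (g : X)⁻¹ = v * v := by
      rw [hvvC g g.2]; group
    rw [h3] at h2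
    have hz4 : (z : X) ^ 2 ^ 2 = 1 := by
      have e1 : (z : X) * z = (w * w)⁻¹ * (v * v) := by rw [h2]; group
      have e2 : (z : X) * z ∈ A := by
        rw [e1]; exact mul_mem (inv_mem (hs.sq_mem hw)) (hs.sq_mem hv)
      have e3 := hs.sq _ e2
      have e4 : (z : X) ^ 2 ^ 2 = ((z : X) ^ 2) ^ 2 := pow_mul (z : X) 2 2
      rw [e4, pow_two, pow_two]
      exact e3
    have hzP : (z : X) ∈ (P : Subgroup X) := mem_of_central P hL z.2 hzC hz4
    by_cases hzA : (z : X) ∈ A
    · rw [h2, hs.sq _ hzA, mul_one]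
    · exfalso
      have htwo : ∀ x ∈ hs.two hzP, x ∈ centralizer (L : Set X) := by
        intro x hx
        rcases (hs.mem_two hzP).1 hx with h4 | h4
        · exact hAC h4
        · have e : x = z * ((z : X)⁻¹ * x) := by group
          rw [e]
          exact mul_mem hzC (hAC h4)
      refine hwr (htwo _ (hs.cent_four hzP hzA hw hwz hr (hzc r hrL).symm (fun h => hwC (htwo _ h))
        (fun h => hrC (htwo _ h))))
  have hwvC : w * v ∉ centralizer (L : Set X) := by
    intro h
    apply hvwC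
    have e : v * w = v * (w * v) * v⁻¹ := by group
    rw [e, mem_centralizer_iff.1 h v hvL, mul_inv_cancel_right]
    exact h
  have e1 : v * v = w * w := key v hv hvL hvC w hw hwL hwC v hv hvL hvC hwvC
  have e2 : v * v = v * w * (v * w) := by
    refine key v hv hvL hvC (v * w) (mul_mem hv hw) (mul_mem hvL hwL) hvwC w hw hwL hwC ?_
    intro h
    apply hvC
    have e : v = v * w * w * (w * w)⁻¹ := by group
    rw [e]
    exact mul_mem h (inv_mem (hAC (hs.sq_mem hw)))
  have h5 := hs.no_quat hv hw rfl e1.symm e2.symm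
  exact hvC (hAC (hs.inv v hv h5))

variable (hA : ∀ x ∈ A, x ∈ 𝒜)

include hA

/-- `A ∩ Z(L) = 1` for the components `L`. -/
theorem eq_one_of_central {L : Subgroup X} (hL : Cfsg.IsComponent L) {z : X} (hz : z ∈ A)
    (hzC : z ∈ centralizer (L : Set X)) : z = 1 := by
  classical
  by_contra hz1
  haveI : Fact (Nat.Prime 2) := ⟨Nat.prime_two⟩
  haveI := hs.finA
  have hAL := le_of_component hs hc.core hL
  obtain ⟨b, hb, hbC⟩ := SetLike.not_le_iff_exists.1 (not_le_centralizer hs hc hL)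
  obtain ⟨T, hT⟩ := exists_sylow_subgroupOf P hL.1
  have hr : IsElemFam {l : L | (l : X) ∈ 𝒜} := hc.fam.restrict L
  have h4 : Nat.card (fam {l : L | (l : X) ∈ 𝒜} (T : Subgroup L)) ≤ 4 := by
    have h1 : (fam {l : L | (l : X) ∈ 𝒜} (T : Subgroup L)).map L.subtype ≤ A := by
      rintro _ ⟨l, hl, rfl⟩
      have h2 := (hr.toIsClosedFam.mem_fam_iff T.2).1 hl
      have h3 : (l : X) ∈ (P : Subgroup X) := by
        have := h2.2
        rw [hT] at this
        exact this
      exact hs.inv _ h3 (hc.fam.sq _ h2.1)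
    have e1 : Nat.card (fam {l : L | (l : X) ∈ 𝒜} (T : Subgroup L)) =
        Nat.card ((fam {l : L | (l : X) ∈ 𝒜} (T : Subgroup L)).map L.subtype) :=
      Nat.card_congr ((fam {l : L | (l : X) ∈ 𝒜} (T : Subgroup L)).equivMapOfInjective _
        L.subtype_injective).toEquiv
    rw [e1, ← hs.cardA]
    exact Subgroup.card_le_of_le h1
  have hzc := mem_centralizer_iff.1 hzC
  refine GoldSolid.not_act_of_card_le hr T h4 (w := ⟨z, hAL hz⟩) (hA z hz)
    (fun e => hz1 (congrArg Subtype.val e)) (fun x => Subtype.ext (hzc x x.2).symm) ⊤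
    ⟨Subgroup.IsSubnormal.top, Cfsg.Agent.SignalizersComponents.Components.isQuasisimple_of_mulEquiv
      topEquiv.symm hL.2⟩ ?_
  rw [mem_centralizer_iff] at hbC
  push Not at hbC
  obtain ⟨y, hy, hyb⟩ := hbC
  exact ⟨⟨b, hAL hb⟩, hA b hb, mem_top _, ⟨y, hy⟩, mem_top _, fun e => hyb (congrArg Subtype.val e).symm⟩

/-- The components are simple. -/
theorem center_eq_bot {L : Subgroup X} (hL : Cfsg.IsComponent L) : center L = ⊥ := by
  haveI : Fact (Nat.Prime 2) := ⟨Nat.prime_two⟩
  have hcop : (Nat.card (center L)).Coprime 2 := by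
    rw [Nat.coprime_comm, Nat.Prime.coprime_iff_not_dvd Nat.prime_two]
    intro hd
    obtain ⟨z, hz⟩ := exists_prime_orderOf_dvd_card' 2 hd
    have hz2 : (z : L) * z = 1 := by
      have : z ^ 2 = 1 := by rw [← hz]; exact pow_orderOf_eq_one z
      rw [pow_two] at this
      exact congrArg Subtype.val this
    have hzC : ((z : L) : X) ∈ centralizer (L : Set X) := by
      rw [mem_centralizer_iff]
      intro m hm
      exact congrArg Subtype.val (mem_center_iff.1 z.2 ⟨m, hm⟩)
    have hz2' : ((z : L) : X) * ((z : L) : X) = 1 := congrArg Subtype.val hz2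
    have hzP : ((z : L) : X) ∈ (P : Subgroup X) :=
      mem_of_central P hL (z : L).2 hzC (k := 1) (by rw [pow_one, pow_two]; exact hz2')
    have hz1 := eq_one_of_central hs hc hA hL (hs.inv _ hzP hz2') hzC
    have hz1' : z = 1 := Subtype.ext (Subtype.ext hz1)
    rw [hz1', orderOf_one] at hz
    omega
  have h1 : center L ≤ Cfsg.pPrimeCore 2 L := Cfsg.Agent.Lib.Cores.le_pPrimeCore inferInstance hcop
  have h2 := Cfsg.Agent.SignalizersComponents.CompBasic.map_subtype_pPrimeCore_of_subnormal 2 hL.1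
  rw [eq_bot_iff]
  intro z hz
  have h3 : (z : X) ∈ (Cfsg.pPrimeCore 2 L).map L.subtype := ⟨z, h1 hz, rfl⟩
  rw [h2] at h3
  have h4 : (z : X) ∈ Cfsg.oddCore X := h3.2
  rw [hc.core, mem_bot] at h4
  rw [mem_bot]
  exact Subtype.ext h4

omit hA in
/-- There is only one component. -/
theorem component_unique {L L' : Subgroup X} (hL : Cfsg.IsComponent L) (hL' : Cfsg.IsComponent L') : L = L' := by
  by_contra hne
  refine not_le_centralizer hs hc hL ?_
  intro a ha
  have h1 := Cfsg.Agent.S1270.component_comm_of_ne hL hL' hne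
  rw [commutator_eq_bot_iff_le_centralizer] at h1
  rw [mem_centralizer_iff]
  intro l hl
  have h2 := mem_centralizer_iff.1 (h1 hl) a (le_of_component hs hc.core hL' ha)
  exact h2.symm

omit hA in
theorem component_normal {L : Subgroup X} (hL : Cfsg.IsComponent L) : L.Normal := by
  refine ⟨fun l hl g => ?_⟩
  have h1 := component_unique hs hc hL (Cfsg.Agent.S1270.component_conj hL g)
  have h2 : g * l * g⁻¹ ∈ L.map (MulAut.conj g).toMonoidHom := ⟨l, hl, rfl⟩
  rw [← h1] at h2
  exact h2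

theorem tCon {L : Subgroup X} (hL : Cfsg.IsComponent L) : TCon L := by
  have hbot := center_eq_bot hs hc hA hL
  have hAL := le_of_component hs hc.core hL
  obtain ⟨b, hb, hb1⟩ : ∃ b ∈ A, b ≠ 1 := by
    by_contra hn
    push Not at hn
    have h1 : A = ⊥ := (Subgroup.eq_bot_iff_forall A).2 hn
    have h4 := hs.cardA
    rw [h1, Subgroup.card_bot] at h4
    omega
  have h1 : TCon (↥L ⧸ center ↥L) := by
    refine hc.T L hL ((QuotientGroup.mk' (center ↥L)) '' {l : L | (l : X) ∈ 𝒜})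
      ((hc.fam.restrict L).image (QuotientGroup.mk'_surjective _))
      ⟨_, ⟨⟨b, hAL hb⟩, hA b hb, rfl⟩, ?_⟩
    intro e
    have h2 : (⟨b, hAL hb⟩ : L) ∈ center L := by
      rw [← QuotientGroup.ker_mk' (center L)]; exact e
    rw [hbot, mem_bot] at h2
    exact hb1 (congrArg Subtype.val h2)
  exact GoldTrans.tCon_congr ((QuotientGroup.quotientMulEquivOfEq hbot).trans QuotientGroup.quotientBot) h1

omit hc hA in
/-- Every involution is conjugate into `A`. -/
theorem exists_conj_mem_A {z : X} (hz : z * z = 1) : ∃ g : X, g * z * g⁻¹ ∈ A := by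
  have h1 : z ^ 2 ^ 1 = 1 := by rw [pow_one, pow_two]; exact hz
  obtain ⟨g, hg⟩ := exists_conj_le P (isPGroup_zpowers_of_pow h1)
  refine ⟨g, hs.inv _ (hg z (mem_zpowers z)) ?_⟩
  have e : g * z * g⁻¹ * (g * z * g⁻¹) = g * (z * z) * g⁻¹ := by group
  rw [e, hz]; group

theorem centralizer_eq_bot {L : Subgroup X} (hL : Cfsg.IsComponent L) : centralizer (L : Set X) = ⊥ := by
  haveI : Fact (Nat.Prime 2) := ⟨Nat.prime_two⟩
  have hLn : L.Normal := component_normal hs hc hL
  have hcop : (Nat.card (centralizer (L : Set X))).Coprime 2 := by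
    rw [Nat.coprime_comm, Nat.Prime.coprime_iff_not_dvd Nat.prime_two]
    intro hd
    obtain ⟨z, hz⟩ := exists_prime_orderOf_dvd_card' 2 hd
    have hz2 : (z : X) * z = 1 := by
      have : z ^ 2 = 1 := by rw [← hz]; exact pow_orderOf_eq_one z
      rw [pow_two] at this
      exact congrArg Subtype.val this
    obtain ⟨g, hg⟩ := exists_conj_mem_A hs hz2
    have h1 : g * z * g⁻¹ ∈ centralizer (L : Set X) := (inferInstance : (centralizer (L : Set X)).Normal).conj_mem _ z.2 g
    have h2 := eq_one_of_central hs hc hA hL hg h1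
    rw [mul_inv_eq_one, mul_eq_left] at h2
    have h3 : z = 1 := Subtype.ext h2
    rw [h3, orderOf_one] at hz
    omega
  have h1 := Cfsg.Agent.Lib.Cores.le_pPrimeCore (G := X) (N := centralizer (L : Set X)) inferInstance hcop
  have h2 : Cfsg.pPrimeCore 2 X = ⊥ := hc.core
  rw [h2] at h1
  exact le_bot_iff.1 h1

end Comp

section Norm

variable {P : Sylow 2 X} {A : Subgroup X} (hs : Syl (P : Subgroup X) A)

/-- Burnside's argument inside a normal subgroup. -/
theorem exists_normalizing {L : Subgroup X} (hLn : L.Normal) (hAP : ∀ x ∈ A, ∀ s ∈ (P : Subgroup X), x * s = s * x)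
    (hAL : A ≤ L) {a b g : X} (ha : a ∈ A) (hb : b ∈ A) (hg : g ∈ L) (hab : g * a * g⁻¹ = b) :
    ∃ l ∈ L, l ∈ normalizer ((P : Subgroup X) : Set X) ∧ l * a * l⁻¹ = b := by
  haveI : Fact (Nat.Prime 2) := ⟨Nat.prime_two⟩
  have hLK : L ≤ L ⊔ (P : Subgroup X) := le_sup_left
  have hPK : (P : Subgroup X) ≤ L ⊔ (P : Subgroup X) := le_sup_right
  obtain ⟨n, hn, hn2⟩ := (P.subtype hPK).conj_eq_normalizer_conj_of_mem_centralizer ⟨a, hLK (hAL ha)⟩
    ⟨g⁻¹, hLK (inv_mem hg)⟩ (by
      rw [mem_centralizer_iff]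
      intro s hs
      exact Subtype.ext (hAP a ha s hs).symm) (by
      rw [mem_centralizer_iff]
      intro s hs
      have h1 := hAP b hb s hs
      apply Subtype.ext
      have e : (((⟨g⁻¹, hLK (inv_mem hg)⟩ : ↥(L ⊔ (P : Subgroup X)))⁻¹ * ⟨a, hLK (hAL ha)⟩ *
        ⟨g⁻¹, hLK (inv_mem hg)⟩ : ↥(L ⊔ (P : Subgroup X))) : X) = b := by
        rw [← hab]; simp
      change (s : X) * _ = _ * (s : X)
      rw [e]
      exact h1.symm)
  have hn3 : (n : X)⁻¹ * a * n = b := by
    have := congrArg Subtype.val hn2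
    rw [← hab]
    simpa using this.symm
  have hnP : (n : X) ∈ normalizer ((P : Subgroup X) : Set X) := by
    rw [mem_normalizer_iff]
    intro x
    constructor
    · intro hx
      exact (mem_normalizer_iff.1 hn ⟨x, hPK hx⟩).1 hx
    · intro hx
      have hxK : x ∈ L ⊔ (P : Subgroup X) := by
        have e : x = (n : X)⁻¹ * (n * x * (n : X)⁻¹) * n := by group
        rw [e]
        exact mul_mem (mul_mem (inv_mem n.2) (hPK hx)) n.2
      exact (mem_normalizer_iff.1 hn ⟨x, hxK⟩).2 hx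
  obtain ⟨l, hl, s, hs, hls⟩ := Subgroup.mem_sup_of_normal_left.1 (inv_mem n.2)
  refine ⟨l, hl, ?_, ?_⟩
  · have e : l = (n : X)⁻¹ * s⁻¹ := by rw [← hls]; group
    rw [e]
    exact mul_mem (inv_mem hnP) (le_normalizer (inv_mem hs))
  · rw [← hn3]
    have e : (n : X) = (l * s)⁻¹ := by rw [hls]; group
    rw [e]
    have h1 := hAP a ha s hs
    calc l * a * l⁻¹ = l * (a * s) * s⁻¹ * l⁻¹ := by group
      _ = l * (s * a) * s⁻¹ * l⁻¹ := by rw [h1]
      _ = _ := by group

include hs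

/-- An element of `N(P)` which moves a nontrivial element of `A` acts without fixed points on `A`. -/
theorem fpf {l a : X} (hl : l ∈ normalizer ((P : Subgroup X) : Set X)) (ha : a ∈ A) (hla : l * a * l⁻¹ ≠ a)
    {x : X} (hx : x ∈ A) (hlx : l * x = x * l) : x = 1 := by
  haveI : Fact (Nat.Prime 2) := ⟨Nat.prime_two⟩
  by_contra hx1
  have hnA : ∀ y ∈ A, l * y * l⁻¹ ∈ A := by
    intro y hy
    refine hs.inv _ ((mem_normalizer_iff.1 hl y).1 (hs.AS hy)) ?_
    have e : l * y * l⁻¹ * (l * y * l⁻¹) = l * (y * y) * l⁻¹ := by group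
    rw [e, hs.sq y hy]; group
  have ha1 : a ≠ 1 := by
    rintro rfl
    apply hla; group
  set b : X := l * a * l⁻¹ with hb
  have hbA : b ∈ A := hnA a ha
  have hb1 : b ≠ 1 := by
    intro e
    rw [hb, mul_inv_eq_one, mul_eq_left] at e
    exact ha1 e
  -- the action on the three involutions
  have h2 : l * b * l⁻¹ = a := by
    have hlx' : l * x * l⁻¹ = x := by rw [hlx]; group
    have hxa : x ≠ a := by
      rintro rfl
      exact hla hlx'
    have hxb : x ≠ b := by
      rintro e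
      apply hla
      have : l * b * l⁻¹ = l * a * l⁻¹ := by rw [← e, hlx', e]
      have h3 := mul_left_cancel (mul_right_cancel this)
      exact h3
    rcases hs.mem_A ha hx ha1 hx1 (Ne.symm hxa) (hnA b hbA) with h | h | h | h
    · exfalso
      rw [mul_inv_eq_one, mul_eq_left] at h
      exact hb1 h
    · exact h
    · exfalso
      rw [← hlx'] at h
      have h3 := mul_left_cancel (mul_right_cancel h)
      exact hxb h3.symm
    · -- `b = a x`, so `l b l⁻¹ = b x`
      exfalso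
      rcases hs.mem_A ha hx ha1 hx1 (Ne.symm hxa) hbA with h3 | h3 | h3 | h3
      · exact hb1 h3
      · exact hla h3
      · exact hxb h3.symm
      · have h4 : l * b * l⁻¹ = b * x := by
          calc l * b * l⁻¹ = l * (a * x) * l⁻¹ := by rw [← h3]
            _ = l * a * l⁻¹ * (l * x * l⁻¹) := by group
            _ = b * x := by rw [hlx']
        rw [h, h3, mul_assoc, hs.sq x hx, mul_one, mul_eq_left] at h4
        exact hx1 h4
  -- the 2'-part
  obtain ⟨k, m, hm, hkm⟩ := Nat.exists_eq_two_pow_mul_odd (n := orderOf l) (orderOf_pos l).ne'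
  have hlm : l ^ m ∈ (P : Subgroup X) := by
    have h3 : (l ^ m) ^ 2 ^ k = 1 := by
      rw [← pow_mul, mul_comm, ← hkm, pow_orderOf_eq_one]
    have h4 := (isPGroup_zpowers_of_pow h3).inf_normalizer_sylow P
    have h5 : l ^ m ∈ zpowers (l ^ m) ⊓ normalizer ((P : Subgroup X) : Set X) :=
      mem_inf.2 ⟨mem_zpowers _, pow_mem hl m⟩
    exact (h4.le h5).2
  obtain ⟨j, hj⟩ := hm
  have h3 : ∀ i : ℕ, l ^ (2 * i) * a = a * l ^ (2 * i) := by
    intro i
    induction i with
    | zero => simp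
    | succ i ih =>
      have e1 : l * l * a = a * (l * l) := by
        calc l * l * a = l * (l * a * l⁻¹) * l⁻¹ * (l * l) := by group
          _ = a * (l * l) := by rw [← hb, h2]
      calc l ^ (2 * (i + 1)) * a = l ^ (2 * i) * (l * l * a) := by rw [mul_add, pow_add]; simp [pow_two, mul_assoc]
        _ = l ^ (2 * i) * a * (l * l) := by rw [e1, mul_assoc]
        _ = a * l ^ (2 * i) * (l * l) := by rw [ih]
        _ = a * l ^ (2 * (i + 1)) := by rw [mul_add, pow_add]; simp [pow_two, mul_assoc]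
  have h4 := hs.cen a ha _ hlm
  rw [hj, pow_succ] at h4
  apply hla
  rw [hb]
  have h5 := h3 j
  have h6 : l ^ (2 * j) * (a * l) = l ^ (2 * j) * (l * a) := by
    calc l ^ (2 * j) * (a * l) = l ^ (2 * j) * a * l := by group
      _ = a * l ^ (2 * j) * l := by rw [h5]
      _ = a * (l ^ (2 * j) * l) := by group
      _ = l ^ (2 * j) * l * a := h4
      _ = _ := by group
  have h7 := mul_left_cancel h6
  rw [← h7]; group

end Norm

/-- The situation if there is a component. -/
structure Big {X : Type*} [Group X] (P : Sylow 2 X) (L : Subgroup X) : Prop where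
  ne : ∃ x ∈ (P : Subgroup X), x ≠ 1
  normal : L.Normal
  le : (P : Subgroup X) ≤ L
  simple : IsSimpleGroup L
  ben : BenPack L
  cent : centralizer (L : Set X) = ⊥

section LayerCase

universe u

variable {X : Type u} [Group X] [Finite X] {𝒜 : Set X} {P : Sylow 2 X} {A : Subgroup X}
  (hs : Syl (P : Subgroup X) A) (hc : Ctx 𝒜) (hA : ∀ x ∈ A, x ∈ 𝒜)

omit [Finite X] in
include hs in
theorem exists_two : ∃ a ∈ A, a ≠ 1 ∧ ∃ b ∈ A, b ≠ 1 ∧ a ≠ b := by
  haveI := hs.finA
  by_contra hn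
  push Not at hn
  have h1 : Nat.card A ≤ 2 := by
    by_cases h : ∃ a ∈ A, a ≠ 1
    · obtain ⟨a, ha, ha1⟩ := h
      have h2 : ∀ x ∈ A, x = 1 ∨ x = a := by
        intro x hx
        by_cases hx1 : x = 1
        · exact Or.inl hx1
        · exact Or.inr (hn a ha ha1 x hx hx1).symm
      have h3 : (A : Set X) ⊆ {1, a} := by
        intro x hx
        rcases h2 x hx with h | h
        · rw [h]; simp
        · rw [h]; simp
      have h4 : (A : Set X).ncard ≤ ({1, a} : Set X).ncard := Set.ncard_le_ncard h3 (Set.toFinite _)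
      have h5 : ({1, a} : Set X).ncard ≤ 2 := Set.ncard_insert_le _ _ |>.trans (by rw [Set.ncard_singleton])
      exact h4.trans h5
    · push Not at h
      have h2 : A = ⊥ := (Subgroup.eq_bot_iff_forall A).2 h
      rw [h2, Subgroup.card_bot]; omega
  rw [hs.cardA] at h1
  omega

include hs hc hA

theorem le_component {L : Subgroup X} (hL : Cfsg.IsComponent L) : (P : Subgroup X) ≤ L := by
  haveI := hs.finS
  have hAL := le_of_component hs hc.core hL
  have hLn := component_normal hs hc hL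
  obtain ⟨a, ha, ha1, b, hb, hb1, hab⟩ := exists_two hs
  have hord : ∀ x : X, ∀ hx : x ∈ A, x ≠ 1 → orderOf (⟨x, hAL hx⟩ : L) = 2 := by
    intro x hx hx1
    refine orderOf_eq_prime ?_ (fun e => hx1 (congrArg Subtype.val e))
    rw [pow_two]
    exact Subtype.ext (hs.sq x hx)
  obtain ⟨g, hg⟩ := (tCon hs hc hA hL).conj _ _ (hord a ha ha1) (hord b hb hb1)
  have hg' : (g : X) * a * (g : X)⁻¹ = b := congrArg Subtype.val hg
  obtain ⟨l, hl, hlP, hlab⟩ := exists_normalizing (P := P) hLn hs.cen hAL ha hb g.2 hg'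
  have hfix : ∀ x ∈ A, l * x = x * l → x = 1 := fun x hx hlx =>
    fpf hs hlP ha (by rw [hlab]; exact Ne.symm hab) hx hlx
  have hfixP : ∀ s ∈ (P : Subgroup X), l * s = s * l → s = 1 := by
    intro s hsP hls
    have h1 : s * s = 1 := by
      refine hfix _ (hs.sq_mem hsP) ?_
      calc l * (s * s) = l * s * s := by group
        _ = s * (l * s) := by rw [← mul_assoc s l s, ← hls]
        _ = s * s * l := by rw [hls]; group
    exact hfix s (hs.inv s hsP h1) hls
  let φ : ↥(P : Subgroup X) → ↥(P : Subgroup X) := fun s =>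
    ⟨s * (l * (s : X)⁻¹ * l⁻¹), mul_mem s.2 ((mem_normalizer_iff.1 hlP _).1 (inv_mem s.2))⟩
  have hinj : Function.Injective φ := by
    intro s t hst
    have h1 : (s : X) * (l * (s : X)⁻¹ * l⁻¹) = t * (l * (t : X)⁻¹ * l⁻¹) := congrArg Subtype.val hst
    have h2 : l * ((t : X)⁻¹ * s) = ((t : X)⁻¹ * s) * l := by
      have h3 : (t : X)⁻¹ * (s * (l * (s : X)⁻¹ * l⁻¹)) = l * (t : X)⁻¹ * l⁻¹ := by
        rw [h1]; group
      calc l * ((t : X)⁻¹ * s) = (l * (t : X)⁻¹ * l⁻¹) * (l * s) := by group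
        _ = (t : X)⁻¹ * (s * (l * (s : X)⁻¹ * l⁻¹)) * (l * s) := by rw [h3]
        _ = ((t : X)⁻¹ * s) * l := by group
    have h3 := hfixP _ (mul_mem (inv_mem t.2) s.2) h2
    exact Subtype.ext (inv_mul_eq_one.1 h3).symm
  have hsurj : Function.Surjective φ := Finite.surjective_of_injective hinj
  intro p hp
  obtain ⟨s, hsp⟩ := hsurj ⟨p, hp⟩
  have h1 : (s : X) * (l * (s : X)⁻¹ * l⁻¹) = p := congrArg Subtype.val hsp
  have e : (s : X) * (l * (s : X)⁻¹ * l⁻¹) = (s * l * (s : X)⁻¹) * l⁻¹ := by group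
  rw [← h1, e]
  exact mul_mem (hLn.conj_mem l hl s) (inv_mem hl)

theorem big {L : Subgroup X} (hL : Cfsg.IsComponent L) : Big P L where
  ne := by
    obtain ⟨a, ha, ha1, -⟩ := exists_two hs
    exact ⟨a, hs.AS ha, ha1⟩
  normal := component_normal hs hc hL
  le := le_component hs hc hA hL
  simple := by
    have hbot := center_eq_bot hs hc hA hL
    haveI : IsSimpleGroup (L ⧸ center L) := hL.2.2
    have e : L ≃* L ⧸ center L :=
      ((QuotientGroup.quotientMulEquivOfEq hbot).trans QuotientGroup.quotientBot).symm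
    haveI : Nontrivial L := e.toEquiv.nontrivial
    exact IsSimpleGroup.isSimpleGroup_of_surjective e.symm.toMonoidHom e.symm.surjective
  ben := by
    haveI := hs.finA
    have hle := le_component hs hc hA hL
    rcases (tCon hs hc hA hL).alt with h | h
    · exfalso
      have h1 : (P : Subgroup X) ≤ A := by
        intro s hsP
        exact hs.inv s hsP (congrArg Subtype.val (h (P.subtype hle) ⟨s, hle hsP⟩ hsP))
      have h2 := Subgroup.card_le_of_le h1
      rw [hs.cardS, hs.cardA] at h2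
      omega
    · exact h
  cent := centralizer_eq_bot hs hc hA hL

end LayerCase

namespace Big

variable {P : Sylow 2 X} {L : Subgroup X} (h : Big P L)

include h

theorem all_le (R : Sylow 2 X) : (R : Subgroup X) ≤ L := by
  haveI := h.normal
  haveI : Fact (Nat.Prime 2) := ⟨Nat.prime_two⟩
  obtain ⟨g, hg⟩ := MulAction.exists_smul_eq X P R
  rw [← hg]
  rintro _ ⟨s, hs, rfl⟩
  exact h.normal.conj_mem s (h.le hs) g

theorem ti {R R' : Sylow 2 X} (hne : R ≠ R') {x : X} (hx : x ∈ (R : Subgroup X)) (hx' : x ∈ (R' : Subgroup X)) :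
    x = 1 := by
  have h1 := h.ben.ti (R.subtype (h.all_le R)) (R'.subtype (h.all_le R')) (fun e => hne (Sylow.subtype_injective e))
  have h2 : (⟨x, h.all_le R hx⟩ : L) ∈
      ((R.subtype (h.all_le R) : Sylow 2 L) : Subgroup L) ⊓ (R'.subtype (h.all_le R') : Sylow 2 L) :=
    mem_inf.2 ⟨hx, hx'⟩
  rw [h1, mem_bot] at h2
  exact congrArg Subtype.val h2

theorem card : Nat.card (Sylow 2 X) = 1 + Nat.card (P : Subgroup X) := by
  haveI : Fact (Nat.Prime 2) := ⟨Nat.prime_two⟩
  let f : Sylow 2 X → Sylow 2 L := fun R => R.subtype (h.all_le R)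
  have hinj : Function.Injective f := fun R R' e => Sylow.subtype_injective e
  have hsurj : Function.Surjective f := by
    intro T
    obtain ⟨l, hl⟩ := MulAction.exists_smul_eq L (P.subtype h.le) T
    refine ⟨l • P, ?_⟩
    rw [← hl, Sylow.smul_subtype]
  have h1 : Nat.card (Sylow 2 X) = Nat.card (Sylow 2 L) := Nat.card_congr (Equiv.ofBijective f ⟨hinj, hsurj⟩)
  rw [h1, h.ben.card (P.subtype h.le)]
  congr 1
  exact Nat.card_congr (subgroupOfEquivOfLe h.le).toEquiv

omit h [Finite X] in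
/-- a 2-element which normalizes a Sylow subgroup lies in it -/
theorem mem_of_smul_eq {R : Sylow 2 X} {x : X} {k : ℕ} (hx : x ^ 2 ^ k = 1) (hxR : x • R = R) :
    x ∈ (R : Subgroup X) := by
  haveI : Fact (Nat.Prime 2) := ⟨Nat.prime_two⟩
  rw [Sylow.smul_eq_iff_mem_normalizer] at hxR
  have h4 := (isPGroup_zpowers_of_pow hx).inf_normalizer_sylow R
  exact (h4.le (mem_inf.2 ⟨mem_zpowers _, hxR⟩)).2

theorem eq_of_smul_eq {R : Sylow 2 X} {x : X} (hx : x ∈ (P : Subgroup X)) (hx1 : x ≠ 1) (hxR : x • R = R) :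
    R = P := by
  by_contra hne
  obtain ⟨k, hk⟩ := P.2 ⟨x, hx⟩
  have hk' : x ^ 2 ^ k = 1 := congrArg Subtype.val hk
  exact hx1 (h.ti hne (mem_of_smul_eq hk' hxR) hx)

omit h [Finite X] in
theorem smul_self {x : X} (hx : x ∈ (P : Subgroup X)) : x • P = P :=
  Sylow.smul_eq_iff_mem_normalizer.2 (le_normalizer hx)

/-- `P` is transitive on the other Sylow subgroups. -/
theorem exists_smul {R R' : Sylow 2 X} (hR : R ≠ P) (hR' : R' ≠ P) :
    ∃ s ∈ (P : Subgroup X), s • R = R' := by
  haveI : Fact (Nat.Prime 2) := ⟨Nat.prime_two⟩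
  let f : ↥(P : Subgroup X) → {Q : Sylow 2 X // Q ≠ P} := fun s => ⟨(s : X) • R, fun e => hR (by
    have h1 : (s : X)⁻¹ • ((s : X) • R) = (s : X)⁻¹ • P := by rw [e]
    rw [inv_smul_smul, smul_self (inv_mem s.2)] at h1
    exact h1)⟩
  have hinj : Function.Injective f := by
    intro s t hst
    have h1 : (s : X) • R = (t : X) • R := congrArg Subtype.val hst
    by_contra hne
    refine hR (h.eq_of_smul_eq (x := (t : X)⁻¹ * s) (mul_mem (inv_mem t.2) s.2) ?_ ?_)
    · intro e
      exact hne (Subtype.ext (inv_mul_eq_one.1 e).symm)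
    · rw [mul_smul, h1, inv_smul_smul]
  have hcard : Nat.card {Q : Sylow 2 X // Q ≠ P} = Nat.card (P : Subgroup X) := by
    have h1 := h.card
    have h2 : Nat.card {Q : Sylow 2 X // Q ≠ P} + 1 = Nat.card (Sylow 2 X) := by
      haveI : Fintype (Sylow 2 X) := Fintype.ofFinite _
      classical
      rw [Nat.card_eq_fintype_card, Nat.card_eq_fintype_card, Fintype.card_subtype_compl,
        Fintype.card_subtype_eq]
      exact Nat.sub_add_cancel (Fintype.card_pos_iff.2 ⟨P⟩)
    omega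
  have hbij : Function.Bijective f := (Nat.bijective_iff_injective_and_card f).2 ⟨hinj, hcard.symm⟩
  obtain ⟨s, hs⟩ := hbij.2 ⟨R', hR'⟩
  exact ⟨s, s.2, congrArg Subtype.val hs⟩

/-- An element which fixes all Sylow subgroups is trivial. -/
theorem eq_one_of_fixes {y : X} (hy : ∀ R : Sylow 2 X, y • R = R) : y = 1 := by
  haveI : Fact (Nat.Prime 2) := ⟨Nat.prime_two⟩
  haveI := h.normal
  haveI := h.simple
  set K : Subgroup X := (MulAction.toPermHom X (Sylow 2 X)).ker with hK
  have hmem : ∀ x : X, x ∈ K ↔ ∀ R : Sylow 2 X, x • R = R := by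
    intro x
    rw [hK, MonoidHom.mem_ker, Equiv.Perm.ext_iff]
    rfl
  have hKn : K.Normal := MonoidHom.normal_ker _
  rcases GoldAS.inf_eq_bot_or_le h.simple hKn with h1 | h1
  · have h2 : y ∈ centralizer (L : Set X) := by
      rw [mem_centralizer_iff]
      intro m hm
      have h3 : m * y * m⁻¹ * y⁻¹ ∈ K ⊓ L := by
        refine mem_inf.2 ⟨mul_mem (hKn.conj_mem y ((hmem y).2 hy) m) (inv_mem ((hmem y).2 hy)), ?_⟩
        have e : m * y * m⁻¹ * y⁻¹ = m * (y * m⁻¹ * y⁻¹) := by group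
        rw [e]
        exact mul_mem hm (h.normal.conj_mem _ (inv_mem hm) y)
      rw [h1, mem_bot] at h3
      calc m * y = (m * y * m⁻¹ * y⁻¹) * (y * m) := by group
        _ = y * m := by rw [h3, one_mul]
    rw [h.cent, mem_bot] at h2
    exact h2
  · exfalso
    -- there is another Sylow subgroup
    have h2 := h.card
    have h3 : 0 < Nat.card (P : Subgroup X) := Nat.card_pos
    haveI : Finite (Sylow 2 X) := inferInstance
    have h4 : 1 < Nat.card (Sylow 2 X) := by omega
    haveI : Nontrivial (Sylow 2 X) := (Finite.one_lt_card_iff_nontrivial).1 h4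
    obtain ⟨R, hR⟩ := exists_ne P
    obtain ⟨x, hx, hx1⟩ := h.ne
    exact hR (h.eq_of_smul_eq hx hx1 ((hmem x).1 (h1 (h.le hx)) R))

/-- Elements of odd order which centralize `P` are trivial. -/
theorem eq_one_of_commutes {y : X} (hy : ∀ s ∈ (P : Subgroup X), y * s = s * y) (hodd : Odd (orderOf y)) :
    y = 1 := by
  haveI : Fact (Nat.Prime 2) := ⟨Nat.prime_two⟩
  have hyP : y • P = P := by
    rw [Sylow.smul_eq_iff_mem_normalizer]
    change y ∈ normalizer ((P : Subgroup X) : Set X)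
    rw [mem_normalizer_iff]
    intro x
    constructor
    · intro hx
      rw [hy x hx, mul_inv_cancel_right]
      exact hx
    · intro hx
      have h1 := hy _ hx
      have e : x = y * x * y⁻¹ := by
        have h2 : y * (y * x * y⁻¹) = y * x := by rw [h1]; group
        exact (mul_left_cancel h2).symm
      rw [e]; exact hx
  apply h.eq_one_of_fixes
  intro R
  by_cases hR : R = P
  · rw [hR, hyP]
  have hyR : y • R ≠ P := by
    intro e
    apply hR
    have h1 : y⁻¹ • (y • R) = y⁻¹ • P := by rw [e]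
    rw [inv_smul_smul] at h1
    rw [h1, inv_smul_eq_iff, hyP]
  obtain ⟨s, hs, hsR⟩ := h.exists_smul hR hyR
  have hpow : ∀ n : ℕ, y ^ n • R = s ^ n • R := by
    intro n
    induction n with
    | zero => simp
    | succ n ih =>
      have e1 : y * s ^ n = s ^ n * y := (Commute.pow_right (show Commute y s from hy s hs) n).eq
      calc y ^ (n + 1) • R = y • (y ^ n • R) := by rw [pow_succ', mul_smul]
        _ = (y * s ^ n) • R := by rw [ih, mul_smul]
        _ = s ^ n • (y • R) := by rw [e1, mul_smul]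
        _ = s ^ (n + 1) • R := by rw [← hsR, pow_succ, mul_smul]
  have h1 := hpow (orderOf y)
  rw [pow_orderOf_eq_one, one_smul] at h1
  by_cases hs1 : s ^ orderOf y = 1
  · obtain ⟨k, hk⟩ := P.2 ⟨s, hs⟩
    have hk' : s ^ 2 ^ k = 1 := congrArg Subtype.val hk
    have h2 : orderOf s ∣ 2 ^ k := orderOf_dvd_of_pow_eq_one hk'
    have h3 : orderOf s ∣ orderOf y := orderOf_dvd_of_pow_eq_one hs1
    have h4 : Nat.Coprime (2 ^ k) (orderOf y) := Nat.Coprime.pow_left k (Nat.coprime_two_left.2 hodd)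
    have h5 := Nat.eq_one_of_dvd_coprimes h4 h2 h3
    rw [orderOf_eq_one_iff] at h5
    rw [← hsR, h5, one_smul]
  · exact absurd (h.eq_of_smul_eq (pow_mem hs _) hs1 h1.symm) hR

omit h [Finite X] in
theorem odd_orderOf {Y : Subgroup X} (hY : Odd (Nat.card Y)) {y : X} (hy : y ∈ Y) : Odd (orderOf y) := by
  have h1 := orderOf_dvd_natCard (⟨y, hy⟩ : Y)
  rw [← orderOf_coe] at h1
  exact Odd.of_dvd_nat hY h1

/-- `P`-invariant subgroups of odd order are trivial. -/
theorem inv_eq_bot {A : Subgroup X} (hs : Syl (P : Subgroup X) A) {Y : Subgroup X} (hY : Odd (Nat.card Y))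
    (hPY : (P : Subgroup X) ≤ normalizer (Y : Set X)) : Y = ⊥ := by
  haveI : Fact (Nat.Prime 2) := ⟨Nat.prime_two⟩
  have hdisj : ∀ x ∈ Y, x ∈ (P : Subgroup X) → x = 1 := by
    intro x hx hxP
    obtain ⟨k, hk⟩ := P.2 ⟨x, hxP⟩
    have hk' : x ^ 2 ^ k = 1 := congrArg Subtype.val hk
    have h4 : Nat.Coprime (2 ^ k) (orderOf x) := Nat.Coprime.pow_left k (Nat.coprime_two_left.2 (odd_orderOf hY hx))
    exact orderOf_eq_one_iff.1 (Nat.eq_one_of_dvd_coprimes h4 (orderOf_dvd_of_pow_eq_one hk') dvd_rfl)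
  -- `N_Y(P) = 1`
  have hNY : ∀ y ∈ Y, y • P = P → y = 1 := by
    intro y hy hyP
    rw [Sylow.smul_eq_iff_mem_normalizer] at hyP
    refine h.eq_one_of_commutes ?_ (odd_orderOf hY hy)
    intro s hsP
    have h1 : y * s * y⁻¹ * s⁻¹ ∈ (P : Subgroup X) :=
      mul_mem ((mem_normalizer_iff.1 hyP s).1 hsP) (inv_mem hsP)
    have h2 : y * s * y⁻¹ * s⁻¹ ∈ Y := by
      have e : y * s * y⁻¹ * s⁻¹ = y * (s * y⁻¹ * s⁻¹) := by group
      rw [e]
      exact mul_mem hy ((mem_normalizer_iff.1 (hPY hsP) _).1 (inv_mem hy))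
    have h3 := hdisj _ h2 h1
    calc y * s = (y * s * y⁻¹ * s⁻¹) * (s * y) := by group
      _ = s * y := by rw [h3, one_mul]
  -- involutions of `A` invert `Y`
  have hfix : ∀ a ∈ A, a ≠ 1 → ∀ y ∈ Y, a * y = y * a → y = 1 := by
    intro a ha ha1 y hy hay
    apply hNY y hy
    refine h.eq_of_smul_eq (hs.AS ha) ha1 ?_
    rw [← mul_smul, hay, mul_smul, smul_self (hs.AS ha)]
  have hinv : ∀ a ∈ A, a ≠ 1 → ∀ y ∈ Y, a * y * a⁻¹ = y⁻¹ := by
    intro a ha ha1 y hy
    haveI : Finite Y := inferInstance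
    have haY := hPY (hs.AS ha)
    let φ : Y → Y := fun x => ⟨(x : X)⁻¹ * (a * x * a⁻¹), mul_mem (inv_mem x.2) ((mem_normalizer_iff.1 haY _).1 x.2)⟩
    have hinj : Function.Injective φ := by
      intro u v huv
      have h1 : (u : X)⁻¹ * (a * u * a⁻¹) = (v : X)⁻¹ * (a * v * a⁻¹) := congrArg Subtype.val huv
      have h2 : a * (u * (v : X)⁻¹) = (u * (v : X)⁻¹) * a := by
        have h3 : a * u * a⁻¹ = u * ((v : X)⁻¹ * (a * v * a⁻¹)) := by rw [← h1]; group
        calc a * (u * (v : X)⁻¹) = (a * u * a⁻¹) * (a * (v : X)⁻¹) := by group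
          _ = u * ((v : X)⁻¹ * (a * v * a⁻¹)) * (a * (v : X)⁻¹) := by rw [h3]
          _ = (u * (v : X)⁻¹) * a := by group
      have h3 := hfix a ha ha1 _ (mul_mem u.2 (inv_mem v.2)) h2
      exact Subtype.ext (mul_inv_eq_one.1 h3)
    obtain ⟨x, hx⟩ := Finite.surjective_of_injective hinj ⟨y, hy⟩
    have h1 : (x : X)⁻¹ * (a * x * a⁻¹) = y := congrArg Subtype.val hx
    have haa : a * a = 1 := hs.sq a ha
    have hai : a⁻¹ = a := inv_eq_of_mul_eq_one_left haa
    rw [← h1, hai]
    calc a * ((x : X)⁻¹ * (a * x * a)) * a = a * (x : X)⁻¹ * a * x * (a * a) := by group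
      _ = a * (x : X)⁻¹ * a * x := by rw [haa, mul_one]
      _ = ((x : X)⁻¹ * (a⁻¹ * x * a⁻¹))⁻¹ := by group
      _ = ((x : X)⁻¹ * (a * x * a))⁻¹ := by rw [hai]
  obtain ⟨a, ha, ha1, b, hb, hb1, hab⟩ := exists_two hs
  have hab1 : a * b ≠ 1 := by
    intro e
    apply hab
    have h1 : a = b⁻¹ := eq_inv_of_mul_eq_one_left e
    rw [h1, inv_eq_of_mul_eq_one_left (hs.sq b hb)]
  rw [Subgroup.eq_bot_iff_forall]
  intro y hy
  refine hfix (a * b) (mul_mem ha hb) hab1 y hy ?_
  have h1 := hinv b hb hb1 y hy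
  have h2 := hinv a ha ha1 y⁻¹ (inv_mem hy)
  rw [inv_inv] at h2
  calc a * b * y = a * (b * y * b⁻¹) * a⁻¹ * (a * b) := by group
    _ = y * (a * b) := by rw [h1, h2]

end Big

omit [Finite X] in
/-- Elements of odd order: if `h` moves `u` by a 2-element which commutes with `h`, then `h` commutes with `u`. -/
theorem comm_of_odd {h u d : X} (hd : h * d = d * h) (hu : h * u * h⁻¹ = u * d) (hodd : Odd (orderOf h)) {k : ℕ}
    (hk : d ^ 2 ^ k = 1) : h * u = u * h := by
  have hu' : h * u = u * d * h := by rw [← hu]; group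
  have key : ∀ n : ℕ, h ^ n * u = u * d ^ n * h ^ n := by
    intro n
    induction n with
    | zero => simp
    | succ n ih =>
      have e1 : h * d ^ n = d ^ n * h := (Commute.pow_right (show Commute h d from hd) n).eq
      calc h ^ (n + 1) * u = h * (h ^ n * u) := by rw [pow_succ', mul_assoc]
        _ = h * u * d ^ n * h ^ n := by rw [ih]; group
        _ = u * d * (h * d ^ n) * h ^ n := by rw [hu']; group
        _ = u * (d * d ^ n) * (h * h ^ n) := by rw [e1]; group
        _ = u * d ^ (n + 1) * h ^ (n + 1) := by rw [pow_succ' d, pow_succ' h]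
  have h1 := key (orderOf h)
  rw [pow_orderOf_eq_one, one_mul, mul_one] at h1
  have h2 : d ^ orderOf h = 1 := by
    have : u * 1 = u * d ^ orderOf h := by rw [mul_one]; exact h1
    exact (mul_left_cancel this).symm
  have h3 : orderOf d ∣ orderOf h := orderOf_dvd_of_pow_eq_one h2
  have h4 : orderOf d ∣ 2 ^ k := orderOf_dvd_of_pow_eq_one hk
  have h5 : Nat.Coprime (2 ^ k) (orderOf h) := Nat.Coprime.pow_left k (Nat.coprime_two_left.2 hodd)
  have h6 := Nat.eq_one_of_dvd_coprimes h5 h4 h3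
  rw [orderOf_eq_one_iff] at h6
  rw [hu', h6, mul_one]

/-- A finite group acting freely on a finite set has order dividing the size of the set. -/
theorem card_dvd_of_free {E Y : Type*} [Group E] [Finite E] [MulAction E Y] [Finite Y]
    (h : ∀ (z : E) (x : Y), z • x = x → z = 1) : Nat.card E ∣ Nat.card Y := by
  classical
  haveI : Fintype (Quotient (MulAction.orbitRel E Y)) := Fintype.ofFinite _
  have e := Nat.card_congr (MulAction.selfEquivSigmaOrbitsQuotientStabilizer E Y)
  rw [Nat.card_sigma] at e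
  rw [e]
  refine Finset.dvd_sum fun ω _ => ?_
  have hs : MulAction.stabilizer E ω.out = ⊥ := by
    rw [Subgroup.eq_bot_iff_forall]
    intro p hp
    exact h _ _ hp
  have h1 : Nat.card (E ⧸ MulAction.stabilizer E ω.out) = Nat.card E := by
    rw [hs]
    exact Nat.card_congr (QuotientGroup.quotientBot (G := E)).toEquiv
  rw [h1]

section Final

universe u

variable {X : Type u} [Group X] [Finite X] {𝒜 : Set X} {P : Sylow 2 X} {A : Subgroup X}
  (hs : Syl (P : Subgroup X) A) (hc : Ctx 𝒜) (hA : ∀ x ∈ A, x ∈ 𝒜)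

include hs hc hA

/-- (INV), local form. -/
theorem inv_eq_bot {Y : Subgroup X} (hY : Odd (Nat.card Y)) (hPY : (P : Subgroup X) ≤ normalizer (Y : Set X)) :
    Y = ⊥ := by
  haveI : Fact (Nat.Prime 2) := ⟨Nat.prime_two⟩
  by_cases hL : ∃ L : Subgroup X, Cfsg.IsComponent L
  · obtain ⟨L, hL⟩ := hL
    exact (big hs hc hA hL).inv_eq_bot hs hY hPY
  · refine Cfsg.Agent.SignalizersComponents.OddFixed.eq_bot_of_centralizes hc.core ?_ ?_
      (fun L hL' => absurd ⟨L, hL'⟩ hL)
    · exact Nat.coprime_two_right.2 hY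
    · intro y hy u hu
      have huP : u ∈ (P : Subgroup X) := Cfsg.Agent.Lib.Cores.pCore_le_sylow P hu
      have hn : (Cfsg.pCore 2 X).Normal := Cfsg.Agent.Lib.Cores.pCore_normal 2
      have h1 : y * u * y⁻¹ * u⁻¹ ∈ Cfsg.pCore 2 X := mul_mem (hn.conj_mem u hu y) (inv_mem hu)
      have h2 : y * u * y⁻¹ * u⁻¹ ∈ Y := by
        have e : y * u * y⁻¹ * u⁻¹ = y * (u * y⁻¹ * u⁻¹) := by group
        rw [e]
        exact mul_mem hy ((mem_normalizer_iff.1 (hPY huP) _).1 (inv_mem hy))
      have h3 : y * u * y⁻¹ * u⁻¹ = 1 := by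
        obtain ⟨k, hk⟩ := P.2 ⟨_, Cfsg.Agent.Lib.Cores.pCore_le_sylow P h1⟩
        have hk' : (y * u * y⁻¹ * u⁻¹) ^ 2 ^ k = 1 := congrArg Subtype.val hk
        have h4 : Nat.Coprime (2 ^ k) (orderOf (y * u * y⁻¹ * u⁻¹)) :=
          Nat.Coprime.pow_left k (Nat.coprime_two_left.2 (Big.odd_orderOf hY h2))
        exact orderOf_eq_one_iff.1 (Nat.eq_one_of_dvd_coprimes h4 (orderOf_dvd_of_pow_eq_one hk') dvd_rfl)
      change y * u = u * y
      calc y * u = (y * u * y⁻¹ * u⁻¹) * (u * y) := by group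
        _ = u * y := by rw [h3, one_mul]

/-- If `A` is central there is no component. -/
theorem no_component (hcen : ∀ a ∈ A, ∀ x : X, a * x = x * a) {L : Subgroup X} (hL : Cfsg.IsComponent L) :
    False := by
  obtain ⟨a, ha, ha1, -⟩ := exists_two hs
  refine ha1 (eq_one_of_central hs hc hA hL ha ?_)
  rw [mem_centralizer_iff]
  intro x _
  exact (hcen a ha x).symm

/-- If `A` is central then `P = O₂(X)`. -/
theorem eq_pCore (hcen : ∀ a ∈ A, ∀ x : X, a * x = x * a) : (P : Subgroup X) = Cfsg.pCore 2 X := by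
  haveI : Fact (Nat.Prime 2) := ⟨Nat.prime_two⟩
  have hn : (Cfsg.pCore 2 X).Normal := Cfsg.Agent.Lib.Cores.pCore_normal 2
  have hQP := Cfsg.Agent.Lib.Cores.pCore_le_sylow P
  let D : Subgroup X :=
    { carrier := {x | ∀ q ∈ Cfsg.pCore 2 X, x * q * x⁻¹ * q⁻¹ ∈ A}
      one_mem' := by
        intro q _
        simp
      mul_mem' := by
        intro x y hx hy q hq
        have e : x * y * q * (x * y)⁻¹ * q⁻¹ = x * (y * q * y⁻¹ * q⁻¹) * x⁻¹ * (x * q * x⁻¹ * q⁻¹) := by group
        rw [e, ← hcen _ (hy q hq) x, mul_inv_cancel_right]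
        exact mul_mem (hy q hq) (hx q hq)
      inv_mem' := by
        intro x hx q hq
        have e : x⁻¹ * q * x⁻¹⁻¹ * q⁻¹ = x⁻¹ * (x * q * x⁻¹ * q⁻¹)⁻¹ * x := by group
        rw [e, ← hcen _ (inv_mem (hx q hq)) x⁻¹, mul_assoc, inv_mul_cancel, mul_one]
        exact inv_mem (hx q hq) }
  have hD : ∀ x, x ∈ D ↔ ∀ q ∈ Cfsg.pCore 2 X, x * q * x⁻¹ * q⁻¹ ∈ A := fun x => Iff.rfl
  have hDn : D.Normal := by
    refine ⟨fun x hx g => ?_⟩
    rw [hD] at hx ⊢
    intro q hq
    have h1 : g⁻¹ * q * g ∈ Cfsg.pCore 2 X := by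
      have := hn.conj_mem q hq g⁻¹
      rwa [inv_inv] at this
    have h2 := hx _ h1
    have e : g * x * g⁻¹ * q * (g * x * g⁻¹)⁻¹ * q⁻¹ =
        g * (x * (g⁻¹ * q * g) * x⁻¹ * (g⁻¹ * q * g)⁻¹) * g⁻¹ := by group
    rw [e, ← hcen _ h2 g, mul_inv_cancel_right]
    exact h2
  have hPD : (P : Subgroup X) ≤ D := fun x hx q hq => hs.comm x hx q (hQP hq)
  have hD2 : IsPGroup 2 D := by
    rw [IsPGroup.iff_orderOf]
    intro d
    obtain ⟨k, m, hm, hkm⟩ := Nat.exists_eq_two_pow_mul_odd (n := orderOf d) (orderOf_pos d).ne'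
    have h1 : orderOf (d ^ 2 ^ k) = m := by
      rw [orderOf_pow_of_dvd (by positivity) (by rw [hkm]; exact Dvd.intro _ rfl), hkm,
        Nat.mul_div_cancel_left _ (by positivity)]
    set x : X := ((d ^ 2 ^ k : D) : X) with hx
    have hxo : Odd (orderOf x) := by
      rw [hx, orderOf_coe, h1]; exact hm
    have hxD := (hD x).1 (d ^ 2 ^ k).2
    have hxQ : x ∈ Cfsg.pCore 2 X := by
      refine GoldNZero.mem_pCore_of_centralizes hc.core ?_ (fun L hL => (no_component hs hc hA hcen hL).elim)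
      intro q hq
      have h2 := hxD q hq
      have h3 : x * q * x⁻¹ = q * (x * q * x⁻¹ * q⁻¹) := by
        rw [← hcen _ h2 q]; group
      have h4 := hs.sq _ h2
      exact (comm_of_odd (k := 1) (hcen _ h2 x).symm h3 hxo (by rw [pow_one, pow_two]; exact h4)).symm
    have h2 : x = 1 := by
      obtain ⟨j, hj⟩ := P.2 ⟨x, hQP hxQ⟩
      have hj' : x ^ 2 ^ j = 1 := congrArg Subtype.val hj
      have h4 : Nat.Coprime (2 ^ j) (orderOf x) := Nat.Coprime.pow_left j (Nat.coprime_two_left.2 hxo)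
      exact orderOf_eq_one_iff.1 (Nat.eq_one_of_dvd_coprimes h4 (orderOf_dvd_of_pow_eq_one hj') dvd_rfl)
    have h3 : m = 1 := by
      rw [← h1]
      rw [orderOf_eq_one_iff]
      exact Subtype.ext h2
    exact ⟨k, by rw [hkm, h3, mul_one]⟩
  exact le_antisymm (hPD.trans (Cfsg.Agent.Lib.Cores.le_pCore hDn hD2)) hQP

/-- If `A` is central, elements of odd order which commute with an element of `P ∖ A` are trivial. -/
theorem eq_one_of_comm (hcen : ∀ a ∈ A, ∀ x : X, a * x = x * a) {h v : X} (hodd : Odd (orderOf h))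
    (hv : v ∈ (P : Subgroup X)) (hvA : v ∉ A) (hhv : h * v = v * h) : h = 1 := by
  haveI : Fact (Nat.Prime 2) := ⟨Nat.prime_two⟩
  have hPc := eq_pCore hs hc hA hcen
  have hPn : (P : Subgroup X).Normal := by rw [hPc]; exact Cfsg.Agent.Lib.Cores.pCore_normal 2
  have h2el : ∀ x ∈ (P : Subgroup X), x ^ 2 ^ 2 = 1 := by
    intro x hx
    have e4 : x ^ 2 ^ 2 = (x ^ 2) ^ 2 := pow_mul x 2 2
    rw [e4, pow_two, pow_two]
    exact hs.sq _ (hs.sq_mem hx)
  -- `h` centralizes `C_P(v)`
  have h1 : ∀ c ∈ (P : Subgroup X), c * v = v * c → h * c = c * h := by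
    intro c hcP hcv
    have hA' : ∀ x ∈ hs.two hv, h * x = x * h := by
      intro x hx
      rcases (hs.mem_two hv).1 hx with h3 | h3
      · exact (hcen x h3 h).symm
      · have e : x = v * (v⁻¹ * x) := by group
        rw [e, ← mul_assoc, hhv, mul_assoc, ← hcen _ h3 h]; group
    by_cases hc2 : c ∈ hs.two hv
    · exact hA' c hc2
    have hc'P : h * c * h⁻¹ ∈ (P : Subgroup X) := hPn.conj_mem c hcP h
    have hc'v : h * c * h⁻¹ * v = v * (h * c * h⁻¹) := by
      calc h * c * h⁻¹ * v = h * c * (h⁻¹ * (v * h)) * h⁻¹ := by group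
        _ = h * (c * v) * h⁻¹ := by rw [← hhv]; group
        _ = h * v * c * h⁻¹ := by rw [hcv]; group
        _ = v * (h * c * h⁻¹) := by rw [hhv]; group
    have hc'2 : h * c * h⁻¹ ∉ hs.two hv := by
      intro h3
      apply hc2
      have h4 := hA' _ h3
      have e : c = h * c * h⁻¹ := by
        have h5 : h * (h * c * h⁻¹) = h * c := by rw [h4]; group
        exact (mul_left_cancel h5).symm
      rw [e]; exact h3
    have h3 := hs.cent_four hv hvA (inv_mem hcP) (by
      have : v * c⁻¹ = c⁻¹ * v := by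
        calc v * c⁻¹ = c⁻¹ * (c * v) * c⁻¹ := by group
          _ = c⁻¹ * v := by rw [hcv]; group
      exact this) hc'P hc'v.symm (fun h4 => hc2 (inv_mem_iff.1 h4)) hc'2
    refine comm_of_odd (d := c⁻¹ * (h * c * h⁻¹)) (k := 2) (hA' _ h3) (by group) hodd ?_
    exact h2el _ (mul_mem (inv_mem hcP) hc'P)
  -- `h` centralizes `P`
  have h2 : ∀ u ∈ (P : Subgroup X), h * u = u * h := by
    intro u hu
    have hu'P : h * u * h⁻¹ ∈ (P : Subgroup X) := hPn.conj_mem u hu h
    have hd : (u⁻¹ * (h * u * h⁻¹)) * v = v * (u⁻¹ * (h * u * h⁻¹)) := by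
      have e1 : k v (h * u * h⁻¹) = k v u := by
        have e2 : k v (h * u * h⁻¹) = h * k v u * h⁻¹ := by
          have e3 : v = h * v * h⁻¹ := by rw [hhv]; group
          calc k v (h * u * h⁻¹) = k (h * v * h⁻¹) (h * u * h⁻¹) := by rw [← e3]
            _ = h * k v u * h⁻¹ := by unfold k; group
        rw [e2, ← hcen _ (hs.k_mem hv hu) h, mul_inv_cancel_right]
      have e4 : k v (u⁻¹ * (h * u * h⁻¹)) = 1 := by
        rw [hs.k_mul_right hv (inv_mem hu) hu'P, e1, ← hs.k_mul_right hv (inv_mem hu) hu, inv_mul_cancel]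
        simp [k]
      exact (k_eq_one_iff.1 e4).symm
    refine comm_of_odd (d := u⁻¹ * (h * u * h⁻¹)) (k := 2) (h1 _ (mul_mem (inv_mem hu) hu'P) hd) (by group)
      hodd (h2el _ (mul_mem (inv_mem hu) hu'P))
  have hxQ : h ∈ Cfsg.pCore 2 X := by
    refine GoldNZero.mem_pCore_of_centralizes hc.core ?_ (fun L hL => (no_component hs hc hA hcen hL).elim)
    intro q hq
    rw [← hPc] at hq
    exact (h2 q hq).symm
  rw [← hPc] at hxQ
  have h4 : Nat.Coprime (2 ^ 2) (orderOf h) := Nat.Coprime.pow_left 2 (Nat.coprime_two_left.2 hodd)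
  exact orderOf_eq_one_iff.1 (Nat.eq_one_of_dvd_coprimes h4 (orderOf_dvd_of_pow_eq_one (h2el h hxQ)) dvd_rfl)

/-- If `A` is central then `|X : P|` is 1 or 5. -/
theorem index_eq (hcen : ∀ a ∈ A, ∀ x : X, a * x = x * a) :
    (P : Subgroup X).index = 1 ∨ (P : Subgroup X).index = 5 := by
  classical
  haveI : Fact (Nat.Prime 2) := ⟨Nat.prime_two⟩
  have hPc := eq_pCore hs hc hA hcen
  have hPn : (P : Subgroup X).Normal := by rw [hPc]; exact Cfsg.Agent.Lib.Cores.pCore_normal 2
  have hcop : Nat.Coprime (Nat.card (P : Subgroup X)) (P : Subgroup X).index := by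
    rw [hs.cardS, show (64 : ℕ) = 2 ^ 6 by norm_num]
    exact Nat.Coprime.pow_left 6 ((Nat.Prime.coprime_iff_not_dvd Nat.prime_two).2 P.not_dvd_index)
  obtain ⟨H, hH⟩ := Subgroup.exists_right_complement'_of_coprime hcop
  have hHc : (P : Subgroup X).index = Nat.card H := hH.symm.index_eq_card
  rw [hHc]
  have hodd : Odd (Nat.card H) := by
    rw [← hHc, ← Nat.not_even_iff_odd, even_iff_two_dvd]
    exact P.not_dvd_index
  have hnA : ∀ g : X, ∀ x, g * x * g⁻¹ ∈ A ↔ x ∈ A := by
    intro g x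
    constructor
    · intro h1
      have e : x = g⁻¹ * (g * x * g⁻¹) * g := by group
      rw [e, ← hcen _ h1 g⁻¹, mul_assoc, inv_mul_cancel, mul_one]
      exact h1
    · intro h1
      rw [← hcen _ h1 g, mul_inv_cancel_right]
      exact h1
  -- the free action
  let Ω := {s : X // s ∈ (P : Subgroup X) ∧ s ∉ A}
  letI : MulAction H Ω :=
    { smul := fun g s => ⟨(g : X) * s * (g : X)⁻¹, hPn.conj_mem _ s.2.1 _, fun h1 => s.2.2 ((hnA _ _).1 h1)⟩
      one_smul := fun s => Subtype.ext (by change ((1 : H) : X) * s * ((1 : H) : X)⁻¹ = s; simp)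
      mul_smul := fun g g' s => Subtype.ext (by
        change ((g * g' : H) : X) * s * ((g * g' : H) : X)⁻¹ = g * (g' * s * (g' : X)⁻¹) * (g : X)⁻¹
        push_cast
        group) }
  have hfree : ∀ (g : H) (s : Ω), g • s = s → g = 1 := by
    intro g s h1
    have h2 : (g : X) * s * (g : X)⁻¹ = s := congrArg Subtype.val h1
    have h3 : (g : X) * s = s * g := by
      calc (g : X) * s = (g : X) * s * (g : X)⁻¹ * g := by group
        _ = s * g := by rw [h2]
    exact Subtype.ext (eq_one_of_comm hs hc hA hcen (Big.odd_orderOf hodd g.2) s.2.1 s.2.2 h3)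
  have h60 : Nat.card Ω = 60 := by
    have e1 : Nat.card Ω = (((P : Subgroup X) : Set X) \ (A : Set X)).ncard := rfl
    have e2 : ((P : Subgroup X) : Set X).ncard = 64 := hs.cardS
    have e3 : (A : Set X).ncard = 4 := hs.cardA
    rw [e1, Set.ncard_sdiff (fun x hx => hs.AS hx) (Set.toFinite _), e2, e3]
  have hdvd : Nat.card H ∣ 60 := h60 ▸ card_dvd_of_free hfree
  have h15 : Nat.card H ∣ 15 := by
    have h1 : Nat.Coprime (Nat.card H) 4 := by
      rw [show (4 : ℕ) = 2 ^ 2 by norm_num]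
      exact Nat.Coprime.pow_right 2 (Nat.coprime_two_right.2 hodd)
    exact h1.dvd_of_dvd_mul_left (by simpa using hdvd)
  have h3 : ¬ 3 ∣ Nat.card H := by
    intro hd
    haveI : Fact (Nat.Prime 3) := ⟨Nat.prime_three⟩
    obtain ⟨g, hg⟩ := exists_prime_orderOf_dvd_card' 3 hd
    have hgo : orderOf (g : X) = 3 := by rw [orderOf_coe]; exact hg
    have hg3 : (g : X) * g * g = 1 := by
      have : (g : X) ^ 3 = 1 := by rw [← hgo]; exact pow_orderOf_eq_one _
      rw [← this, pow_succ, pow_two]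
    obtain ⟨v, hv, hvA⟩ : ∃ v ∈ (P : Subgroup X), v ∉ A := by
      by_contra hn
      push Not at hn
      have h1 := Subgroup.card_le_of_le (show (P : Subgroup X) ≤ A from hn)
      rw [hs.cardS, hs.cardA] at h1
      omega
    set w : X := g * v * (g : X)⁻¹ with hw
    set r : X := g * w * (g : X)⁻¹ with hr
    have hgr : g * r * (g : X)⁻¹ = v := by
      rw [hr, hw]
      calc (g : X) * (g * (g * v * (g : X)⁻¹) * (g : X)⁻¹) * (g : X)⁻¹
          = (g * g * g) * v * ((g : X) * g * g)⁻¹ := by group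
        _ = v := by rw [hg3]; group
    have hwP : w ∈ (P : Subgroup X) := hPn.conj_mem v hv g
    have hrP : r ∈ (P : Subgroup X) := hPn.conj_mem w hwP g
    have hww : w * w = v * v := by
      rw [hw]
      calc g * v * (g : X)⁻¹ * (g * v * (g : X)⁻¹) = g * (v * v) * (g : X)⁻¹ := by group
        _ = v * v := by rw [← hcen _ (hs.sq_mem hv) g, mul_inv_cancel_right]
    have hrr : r * r = v * v := by
      rw [hr]
      calc g * w * (g : X)⁻¹ * (g * w * (g : X)⁻¹) = g * (w * w) * (g : X)⁻¹ := by group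
        _ = v * v := by rw [hww, ← hcen _ (hs.sq_mem hv) g, mul_inv_cancel_right]
    have hgo' : Odd (orderOf (g : X)) := by rw [hgo]; decide
    have ht : v * w * r ∈ A := by
      by_contra htA
      have htP : v * w * r ∈ (P : Subgroup X) := mul_mem (mul_mem hv hwP) hrP
      have h1 : (g : X) * (v * w * r) * (g : X)⁻¹ = v * w * r * ((v * w * r)⁻¹ * (v⁻¹ * (v * w * r) * v)) := by
        have e1 : (g : X) * (v * w * r) * (g : X)⁻¹ = w * r * v := by
          calc (g : X) * (v * w * r) * (g : X)⁻¹ = (g * v * (g : X)⁻¹) * (g * w * (g : X)⁻¹) * (g * r * (g : X)⁻¹) := by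
                group
            _ = w * r * v := by rw [hgr]
        rw [e1]; group
      have h2 : (v * w * r)⁻¹ * (v⁻¹ * (v * w * r) * v) ∈ A := by
        have := hs.comm _ (inv_mem htP) _ (inv_mem hv)
        have e : (v * w * r)⁻¹ * (v⁻¹ * (v * w * r) * v) = (v * w * r)⁻¹ * v⁻¹ * (v * w * r)⁻¹⁻¹ * v⁻¹⁻¹ := by group
        rw [e]; exact this
      have h3 := comm_of_odd (k := 1) (hcen _ h2 g).symm h1 hgo' (by rw [pow_one, pow_two]; exact hs.sq _ h2)
      have h4 := eq_one_of_comm hs hc hA hcen hgo' htP htA h3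
      rw [h4, orderOf_one] at hgo
      omega
    have hvw : v * w * (v * w) = v * v := by
      have e1 : v * w = (v * w * r) * r⁻¹ := by group
      have e2 : v * w * (v * w) = (v * w * r) * (v * w * r) * (r⁻¹ * r⁻¹) := by
        calc v * w * (v * w) = (v * w * r) * (r⁻¹ * (v * w * r)) * r⁻¹ := by group
          _ = (v * w * r) * ((v * w * r) * r⁻¹) * r⁻¹ := by rw [hcen _ ht r⁻¹]
          _ = _ := by group
      rw [e2, hs.sq _ ht, one_mul]
      calc r⁻¹ * r⁻¹ = (r * r)⁻¹ := by group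
        _ = v * v := by rw [hrr, hs.invA (hs.sq_mem hv)]
    have h1 := hs.no_quat hv hwP rfl hww hvw
    exact hvA (hs.inv v hv h1)
  have hpos : 0 < Nat.card H := Nat.card_pos
  have hle : Nat.card H ≤ 15 := Nat.le_of_dvd (by norm_num) h15
  interval_cases Nat.card H <;> simp_all

end Final

section Export

universe u

variable {X : Type u} [Group X] [Finite X]

/-- The family of all elements with square 1 is an elementary closed family. -/
theorem isElemFam_sq {P : Sylow 2 X} {A : Subgroup X} (hs : Syl (P : Subgroup X) A) :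
    IsElemFam {x : X | x * x = 1} where
  one_mem := mul_one 1
  conj_mem := by
    intro x hx g
    change g * x * g⁻¹ * (g * x * g⁻¹) = 1
    have e : g * x * g⁻¹ * (g * x * g⁻¹) = g * (x * x) * g⁻¹ := by group
    rw [e, show x * x = 1 from hx]; group
  two := by
    intro x hx
    exact ⟨1, by rw [pow_one, pow_two]; exact hx⟩
  mul_mem := by
    intro Q hQ x hx y hy hxx hyy
    obtain ⟨g, hg⟩ := exists_conj_le P hQ
    have hA : ∀ z ∈ Q, z * z = 1 → g * z * g⁻¹ ∈ A := by
      intro z hz hzz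
      refine hs.inv _ (hg z hz) ?_
      have e : g * z * g⁻¹ * (g * z * g⁻¹) = g * (z * z) * g⁻¹ := by group
      rw [e, hzz]; group
    have h1 := hs.sq _ (mul_mem (hA x hx hxx) (hA y hy hyy))
    change x * y * (x * y) = 1
    have e : x * y * (x * y) = g⁻¹ * (g * x * g⁻¹ * (g * y * g⁻¹) * (g * x * g⁻¹ * (g * y * g⁻¹))) * g := by group
    rw [e, h1]; group
  sq := fun x hx => hx

/-- **(INV)**, local form: if `T` is a Sylow 2-subgroup like the one of `PSU(3,4)` in a group without odd core,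
then the `T`-invariant subgroups of odd order are trivial. -/
theorem inv (hO : Cfsg.oddCore X = ⊥) {T A : Subgroup X} (h : GoldM1Loc.Loc T A) (hT : ¬ 2 ∣ T.index)
    (hTP : ∀ K : Subgroup X, Cfsg.IsComponent K → TProp (↥K ⧸ center ↥K)) {Y : Subgroup X}
    (hY : Odd (Nat.card Y)) (hTY : T ≤ normalizer (Y : Set X)) : Y = ⊥ := by
  haveI : Fact (Nat.Prime 2) := ⟨Nat.prime_two⟩
  have hT2 : IsPGroup 2 T := IsPGroup.of_card (n := 6) (by rw [h.cardS]; norm_num)
  obtain ⟨P, hP⟩ : ∃ P : Sylow 2 X, (P : Subgroup X) = T := ⟨hT2.toSylow hT, rfl⟩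
  have hs : Syl (P : Subgroup X) A := by
    rw [hP]
    exact ⟨h.cardS, h.AS, h.cardA, h.cen, h.sq, h.inv, h.comm, h.surj⟩
  have hc : Ctx {x : X | x * x = 1} := ⟨isElemFam_sq hs, hO, hTP⟩
  exact inv_eq_bot hs hc (fun x hx => hs.sq x hx) hY (by rw [hP]; exact hTY)

end Export

end Cfsg.Agent.TwoFusion.GoldM1Inv
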