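import Cfsg.Agent.TwoFusion.QuatThree

/-!
# Case [M1] of Goldschmidt's theorem: `G` has no section `SL(2,p)`, `p` odd

The field `sl` of `GoldM1.Frame` from the fields `cardS, sylow, AS, cardA, cen, sq, inv, comm, fact, indexCA`.
-/

set_option autoImplicit false

namespace Cfsg.Agent.TwoFusion.GoldM1SL

open Subgroup
open Cfsg.Agent.Classification.TypeB.Core
open Cfsg.Agent.TwoFusion.QuatThree

variable {G : Type*} [Group G] [Finite G] {S A : Subgroup G}

omit [Finite G] in
theorem isPGroup_S (cardS : Nat.card S = 64) : IsPGroup 2 S :=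
  IsPGroup.of_card (n := 6) (by rw [cardS]; norm_num)

theorem exists_conj_le (cardS : Nat.card S = 64) (sylow : ¬ 2 ∣ S.index) {T : Subgroup G}
    (hT : IsPGroup 2 T) : ∃ g : G, ∀ t ∈ T, g * t * g⁻¹ ∈ S := by
  obtain ⟨P, hP⟩ := hT.exists_le_sylow
  obtain ⟨g, hg⟩ := MulAction.exists_smul_eq G P ((isPGroup_S cardS).toSylow sylow)
  refine ⟨g, fun t ht => ?_⟩
  have h1 : g * t * g⁻¹ ∈ ((g • P : Sylow 2 G) : Subgroup G) := by
    rw [Sylow.coe_subgroup_smul, Subgroup.mem_pointwise_smul_iff_inv_smul_mem]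
    simpa [MulAut.smul_def, mul_assoc] using hP ht
  rw [hg] at h1
  exact h1

theorem two (cardS : Nat.card S = 64) (sylow : ¬ 2 ∣ S.index) (cardA : Nat.card A = 4)
    (inv : ∀ s ∈ S, s * s = 1 → s ∈ A) (comm : ∀ s ∈ S, ∀ u ∈ S, s * u * s⁻¹ * u⁻¹ ∈ A)
    (T : Subgroup G) (hT : IsPGroup 2 T) :
    ∃ A' : Subgroup G, Nat.card A' = 4 ∧
      (∀ s ∈ T, s * s = 1 → s ∈ A') ∧ (∀ s ∈ T, ∀ u ∈ T, s * u * s⁻¹ * u⁻¹ ∈ A') := by
  obtain ⟨g, hg⟩ := exists_conj_le cardS sylow hT
  refine ⟨A.comap (MulAut.conj g).toMonoidHom, ?_, ?_, ?_⟩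
  · rw [← cardA]
    exact Nat.card_congr ((A.comap (MulAut.conj g).toMonoidHom).equivMapOfInjective _
      (MulAut.conj g).injective |>.toEquiv.trans (Equiv.setCongr (by
        rw [map_comap_eq_self_of_surjective (MulAut.conj g).surjective])))
  · intro s hs hss
    change g * s * g⁻¹ ∈ A
    refine inv _ (hg s hs) ?_
    rw [show g * s * g⁻¹ * (g * s * g⁻¹) = g * (s * s) * g⁻¹ by group, hss]; group
  · intro s hs u hu
    change g * (s * u * s⁻¹ * u⁻¹) * g⁻¹ ∈ A
    have := comm _ (hg s hs) _ (hg u hu)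
    rwa [show g * s * g⁻¹ * (g * u * g⁻¹) * (g * s * g⁻¹)⁻¹ * (g * u * g⁻¹)⁻¹ =
      g * (s * u * s⁻¹ * u⁻¹) * g⁻¹ by group] at this

omit [Finite G] in
theorem relIndex_sup {K N : Subgroup G} (h : K ≤ normalizer (N : Set G)) :
    N.relIndex (K ⊔ N) = N.relIndex K := by
  have := Subgroup.normal_subgroupOf_of_le_normalizer h
  have := Subgroup.normal_subgroupOf_sup_of_le_normalizer h
  exact (Nat.card_congr (QuotientGroup.quotientInfEquivProdNormalizerQuotient K N h).toEquiv).symm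

omit [Finite G] in
theorem pow_relIndex_mem {H K : Subgroup G} (h : K ≤ normalizer (H : Set G)) {a : G} (ha : a ∈ K) :
    a ^ H.relIndex K ∈ H := by
  have := Subgroup.normal_subgroupOf_of_le_normalizer h
  have h1 : (⟨a, ha⟩ : K) ^ (H.subgroupOf K).index ∈ H.subgroupOf K := pow_index_mem _ _
  rw [mem_subgroupOf] at h1
  exact h1

/-- `O(C(A)) ≤ O(C(x))` -/
theorem oc_le_oc (fact : ∀ x ∈ A, x ≠ 1 →
      centralizer ({x} : Set G) ≤ oc (centralizer ({x} : Set G)) ⊔ centralizer (A : Set G))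
    {x : G} (hx : x ∈ A) (hx1 : x ≠ 1) :
    oc (centralizer (A : Set G)) ≤ oc (centralizer ({x} : Set G)) := by
  have hCC : centralizer (A : Set G) ≤ centralizer ({x} : Set G) :=
    centralizer_le (Set.singleton_subset_iff.mpr hx)
  have hD : oc (centralizer (A : Set G)) ≤ normalizer (oc (centralizer ({x} : Set G)) : Set G) :=
    (oc_le _).trans (hCC.trans (le_normalizer_oc _))
  refine le_trans le_sup_right (le_oc (Y := oc (centralizer ({x} : Set G)) ⊔ oc (centralizer (A : Set G)))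
    (sup_le (oc_le _) ((oc_le _).trans hCC)) ?_ ?_)
  · refine (fact x hx hx1).trans (sup_le (le_sup_left.trans le_normalizer) ?_)
    exact (le_inf (hCC.trans (le_normalizer_oc _)) (le_normalizer_oc _)).trans
      (normalizer_inf_normalizer_le_normalizer_sup _ _)
  · have h1 : Nat.card (oc (centralizer (A : Set G)) ⊔ oc (centralizer ({x} : Set G)) : Subgroup G) =
        Nat.card (oc (centralizer ({x} : Set G))) *
          (oc (centralizer ({x} : Set G))).relIndex (oc (centralizer (A : Set G))) := by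
      rw [← relIndex_sup hD]
      have h2 := relIndex_mul_relIndex ⊥ (oc (centralizer ({x} : Set G)))
        (oc (centralizer (A : Set G)) ⊔ oc (centralizer ({x} : Set G))) bot_le le_sup_right
      rw [relIndex_bot_left, relIndex_bot_left] at h2
      exact h2.symm
    rw [sup_comm, h1]
    exact (odd_oc _).mul ((odd_oc _).of_dvd_nat (relIndex_dvd_card _ _))

/-- elements of 3-power order of `C(x)`, `x ∈ A`, lie in `O(C(x))` -/
theorem three_aux (cardS : Nat.card S = 64) (cen : ∀ x ∈ A, ∀ s ∈ S, x * s = s * x)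
    (fact : ∀ x ∈ A, x ≠ 1 →
      centralizer ({x} : Set G) ≤ oc (centralizer ({x} : Set G)) ⊔ centralizer (A : Set G))
    (normCA : centralizer (A : Set G) ≤
      normalizer ((oc (centralizer (A : Set G)) ⊔ S : Subgroup G) : Set G))
    (indexCA : (oc (centralizer (A : Set G)) ⊔ S).relIndex (centralizer (A : Set G)) = 1 ∨
      (oc (centralizer (A : Set G)) ⊔ S).relIndex (centralizer (A : Set G)) = 5)
    {x : G} (hx : x ∈ A) (hx1 : x ≠ 1) {h : G} (hh : h * x = x * h) (h3 : ∃ k, h ^ 3 ^ k = 1) :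
    h ∈ oc (centralizer ({x} : Set G)) := by
  have hSC : S ≤ centralizer (A : Set G) := by
    intro s hs
    rw [mem_centralizer_iff]
    intro a ha
    exact cen a ha s hs
  have hCC : centralizer (A : Set G) ≤ centralizer ({x} : Set G) :=
    centralizer_le (Set.singleton_subset_iff.mpr hx)
  have hCn : centralizer (A : Set G) ≤ normalizer (oc (centralizer ({x} : Set G)) : Set G) :=
    hCC.trans (le_normalizer_oc _)
  have hSD : S ≤ normalizer (oc (centralizer (A : Set G)) : Set G) := hSC.trans (le_normalizer_oc _)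
  -- a power of every element of `C(A)` is in `O(C(x))`
  have hpow : ∀ c ∈ centralizer (A : Set G), c ^ 320 ∈ oc (centralizer ({x} : Set G)) := by
    intro c hc
    have h1 : c ^ 5 ∈ oc (centralizer (A : Set G)) ⊔ S := by
      have := pow_relIndex_mem normCA hc
      rcases indexCA with h | h
      · rw [h, pow_one] at this
        exact pow_mem this 5
      · rwa [h] at this
    have h2 : (oc (centralizer (A : Set G))).relIndex (S ⊔ oc (centralizer (A : Set G))) ∣ 64 := by
      rw [relIndex_sup hSD, ← cardS]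
      exact relIndex_dvd_card _ _
    have h4 : (c ^ 5) ^ (oc (centralizer (A : Set G))).relIndex (S ⊔ oc (centralizer (A : Set G))) ∈
        oc (centralizer (A : Set G)) := by
      refine pow_relIndex_mem (sup_le hSD le_normalizer) ?_
      rw [sup_comm]; exact h1
    obtain ⟨m, hm⟩ := h2
    refine oc_le_oc fact hx hx1 ?_
    rw [show (320 : ℕ) = 5 * 64 by norm_num, hm, pow_mul, pow_mul]
    exact pow_mem h4 m
  have hhC : h ∈ centralizer ({x} : Set G) := mem_centralizer_singleton_iff.mpr hh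
  -- so a power of `h` is in `O(C(x))`
  have hh320 : h ^ 320 ∈ oc (centralizer ({x} : Set G)) := by
    have h1 := fact x hx hx1 hhC
    rw [sup_comm, ← SetLike.mem_coe, coe_mul_of_left_le_normalizer_right _ _ hCn, Set.mem_mul] at h1
    obtain ⟨c, hc, o, ho, rfl⟩ := h1
    have hn := Subgroup.normal_subgroupOf_of_le_normalizer (le_normalizer_oc (centralizer ({x} : Set G)))
    have hcx := hCC hc
    have hox := oc_le _ ho
    have hq : (QuotientGroup.mk' ((oc (centralizer ({x} : Set G))).subgroupOf (centralizer ({x} : Set G))))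
        (⟨c * o, mul_mem hcx hox⟩ ^ 320) = 1 := by
      rw [map_pow, show (⟨c * o, mul_mem hcx hox⟩ : centralizer ({x} : Set G)) = ⟨c, hcx⟩ * ⟨o, hox⟩ from rfl,
        map_mul]
      have e1 : (QuotientGroup.mk' ((oc (centralizer ({x} : Set G))).subgroupOf (centralizer ({x} : Set G))))
          (⟨o, hox⟩ : centralizer ({x} : Set G)) = 1 := (QuotientGroup.eq_one_iff _).mpr ho
      rw [e1, mul_one, ← map_pow]
      exact (QuotientGroup.eq_one_iff _).mpr (hpow c hc)
    have := (QuotientGroup.eq_one_iff _).mp hq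
    rw [mem_subgroupOf] at this
    simpa using this
  obtain ⟨k, hk⟩ := h3
  -- `h` is a power of `h ^ 320`
  have hcop : Nat.Coprime (orderOf h) 320 := by
    have h1 : orderOf h ∣ 3 ^ k := orderOf_dvd_of_pow_eq_one hk
    exact Nat.Coprime.coprime_dvd_left h1 (Nat.Coprime.pow_left k (by norm_num))
  obtain ⟨m, hm⟩ := exists_pow_eq_self_of_coprime hcop.symm
  rw [← hm]
  exact pow_mem hh320 m

theorem three (cardS : Nat.card S = 64) (sylow : ¬ 2 ∣ S.index) (cen : ∀ x ∈ A, ∀ s ∈ S, x * s = s * x)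
    (inv : ∀ s ∈ S, s * s = 1 → s ∈ A)
    (fact : ∀ x ∈ A, x ≠ 1 →
      centralizer ({x} : Set G) ≤ oc (centralizer ({x} : Set G)) ⊔ centralizer (A : Set G))
    (normCA : centralizer (A : Set G) ≤
      normalizer ((oc (centralizer (A : Set G)) ⊔ S : Subgroup G) : Set G))
    (indexCA : (oc (centralizer (A : Set G)) ⊔ S).relIndex (centralizer (A : Set G)) = 1 ∨
      (oc (centralizer (A : Set G)) ⊔ S).relIndex (centralizer (A : Set G)) = 5)
    (x : G) (hxx : x * x = 1) (hx1 : x ≠ 1) (h : G) (hh : h * x = x * h) (h3 : ∃ k, h ^ 3 ^ k = 1) :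
    h ∈ oc (centralizer ({x} : Set G)) := by
  have hP : IsPGroup 2 (zpowers x) := by
    rintro ⟨_, n, rfl⟩
    refine ⟨1, Subtype.ext ?_⟩
    change (x ^ n) ^ 2 ^ 1 = 1
    rw [pow_one, sq, ← _root_.zpow_add, ← two_mul, _root_.zpow_mul, zpow_ofNat, sq, hxx, _root_.one_zpow]
  obtain ⟨g, hg⟩ := exists_conj_le cardS sylow hP
  have hy : g * x * g⁻¹ ∈ A := by
    refine inv _ (hg x (mem_zpowers x)) ?_
    rw [show g * x * g⁻¹ * (g * x * g⁻¹) = g * (x * x) * g⁻¹ by group, hxx]; group
  have hy1 : g * x * g⁻¹ ≠ 1 := fun h => hx1 (conj_eq_one_iff.mp h)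
  have h5 := three_aux cardS cen fact normCA indexCA hy hy1 (h := g * h * g⁻¹)
    (by rw [show g * h * g⁻¹ * (g * x * g⁻¹) = g * (h * x) * g⁻¹ by group, hh]; group)
    (by
      obtain ⟨k, hk⟩ := h3
      exact ⟨k, by rw [conj_pow, hk]; group⟩)
  have h6 : centralizer ({g * x * g⁻¹} : Set G) =
      (centralizer ({x} : Set G)).map (MulAut.conj g).toMonoidHom := by
    ext y
    rw [mem_centralizer_singleton_iff]
    constructor
    · intro hyx
      refine ⟨g⁻¹ * y * g, ?_, by change g * (g⁻¹ * y * g) * g⁻¹ = y; group⟩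
      rw [SetLike.mem_coe, mem_centralizer_singleton_iff]
      calc g⁻¹ * y * g * x = g⁻¹ * (y * (g * x * g⁻¹)) * g := by group
        _ = g⁻¹ * ((g * x * g⁻¹) * y) * g := by rw [hyx]
        _ = x * (g⁻¹ * y * g) := by group
    · rintro ⟨z, hz, rfl⟩
      rw [SetLike.mem_coe, mem_centralizer_singleton_iff] at hz
      change g * z * g⁻¹ * (g * x * g⁻¹) = g * x * g⁻¹ * (g * z * g⁻¹)
      rw [show g * z * g⁻¹ * (g * x * g⁻¹) = g * (z * x) * g⁻¹ by group, hz]; group
  rw [h6, oc_def, Cfsg.Agent.OddOrderLocal.Equivariance.piCoreOf_map] at h5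
  obtain ⟨z, hz, hzh⟩ := h5
  have : z = h := (MulAut.conj g).injective hzh
  rw [← this]
  exact hz

/-- the field `sl` of `GoldM1.Frame` -/
theorem sl (cardS : Nat.card S = 64) (sylow : ¬ 2 ∣ S.index) (cardA : Nat.card A = 4)
    (cen : ∀ x ∈ A, ∀ s ∈ S, x * s = s * x)
    (inv : ∀ s ∈ S, s * s = 1 → s ∈ A) (comm : ∀ s ∈ S, ∀ u ∈ S, s * u * s⁻¹ * u⁻¹ ∈ A)
    (fact : ∀ x ∈ A, x ≠ 1 →
      centralizer ({x} : Set G) ≤ oc (centralizer ({x} : Set G)) ⊔ centralizer (A : Set G))
    (normCA : centralizer (A : Set G) ≤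
      normalizer ((oc (centralizer (A : Set G)) ⊔ S : Subgroup G) : Set G))
    (indexCA : (oc (centralizer (A : Set G)) ⊔ S).relIndex (centralizer (A : Set G)) = 1 ∨
      (oc (centralizer (A : Set G)) ⊔ S).relIndex (centralizer (A : Set G)) = 5) :
    ∀ p : ℕ, p.Prime → p ≠ 2 → ¬ ∃ (H K : Subgroup G) (_ : (K.subgroupOf H).Normal),
      Nonempty ((H ⧸ K.subgroupOf H) ≃* Matrix.SpecialLinearGroup (Fin 2) (ZMod p)) := by
  rintro p hp hp2 ⟨H, K, hK, ⟨e⟩⟩
  have := Fact.mk hp
  have h2 : (2 : ZMod p) ≠ 0 := by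
    intro h
    have h1 : ((2 : ℕ) : ZMod p) = 0 := by exact_mod_cast h
    rw [ZMod.natCast_eq_zero_iff] at h1
    exact hp2 ((Nat.prime_dvd_prime_iff_eq hp Nat.prime_two).mp h1)
  exact not_section (X := H) h2 (two cardS sylow cardA inv comm)
    (three cardS sylow cen inv fact normCA indexCA) H.subtype H.subtype_injective
    (e.toMonoidHom.comp (QuotientGroup.mk' (K.subgroupOf H)))
    (e.surjective.comp (QuotientGroup.mk'_surjective _))

end Cfsg.Agent.TwoFusion.GoldM1SL
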