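import Cfsg.Agent.TwoFusion.GoldM1Base
import Cfsg.Agent.TwoFusion.GoldM1CA
import Cfsg.Agent.TwoFusion.GoldM1SL
import Cfsg.Agent.TwoFusion.GoldM1Loc
import Cfsg.Agent.TwoFusion.GoldM1Inv
import Cfsg.Agent.TwoFusion.ClosedFour

/-!
# Case [M1] of Goldschmidt's theorem (S1169): the frame holds in the minimal counterexample

`exists_frame`: the frame holds.
-/

set_option autoImplicit false

namespace Cfsg.Agent.TwoFusion.GoldM1Glue

open Subgroup
open Cfsg.Agent.TwoFusion.ClosedFam Cfsg.Agent.TwoFusion.Gold Cfsg.Agent.TwoFusion.GoldSetup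
open Cfsg.Agent.TwoFusion.GoldM1Loc
open Cfsg.Agent.Classification.TypeB.Core (oc oc_def)

universe u

/-- Field `invCore` of the frame. -/
theorem inv_core {G : Type u} [Group G] [Finite G] {𝒜 : Set G} (h : Setup 𝒜) (S : Sylow 2 G)
    (hloc : Loc (S : Subgroup G) (fam 𝒜 (S : Subgroup G))) {H : Subgroup G} (hH : H ≠ ⊤)
    (hSH : (S : Subgroup G) ≤ H) {Y : Subgroup G} (hYH : Y ≤ H) (hY : Odd (Nat.card Y))
    (hSY : (S : Subgroup G) ≤ normalizer (Y : Set G)) : Y ≤ oc H := by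
  have : Fact (Nat.Prime 2) := ⟨Nat.prime_two⟩
  let f := QuotientGroup.mk' (Cfsg.oddCore H)
  have hf : Function.Surjective f := QuotientGroup.mk'_surjective _
  have hlocH := hloc.subgroupOf hSH
  have hSp : IsPGroup 2 ((S : Subgroup G).subgroupOf H) := IsPGroup.of_card (n := 6) (by rw [hlocH.cardS]; norm_num)
  have hinj : ∀ s ∈ (S : Subgroup G).subgroupOf H, f s = 1 → s = 1 := by
    intro s hs h1
    have h2 : s ∈ Cfsg.oddCore H := (QuotientGroup.eq_one_iff s).1 h1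
    have h3 : (Nat.card (Cfsg.oddCore H)).Coprime 2 := Cfsg.Agent.Lib.Cores.pPrimeCore_coprime 2
    have h4 : Disjoint ((S : Subgroup G).subgroupOf H) (Cfsg.oddCore H) := by
      apply Subgroup.disjoint_of_coprime_natCard
      rw [hlocH.cardS]
      have e : (64 : ℕ) = 2 ^ 6 := by norm_num
      rw [e]
      exact Nat.Coprime.pow_left 6 h3.symm
    exact (Subgroup.disjoint_def.1 h4) hs h2
  have hlocX := hlocH.map f hinj
  have hSX : ¬ 2 ∣ (((S : Subgroup G).subgroupOf H).map f).index := by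
    intro h1
    have h2 : (((S : Subgroup G).subgroupOf H).map f).index ∣ ((S : Subgroup G).subgroupOf H).index :=
      Subgroup.index_map_dvd _ hf
    have h3 : ((S : Subgroup G).subgroupOf H).index ∣ (S : Subgroup G).index :=
      Subgroup.relIndex_dvd_index_of_le hSH
    exact S.not_dvd_index ((h1.trans h2).trans h3)
  have hc := h.ctxAll H hH
  have key := GoldM1Inv.inv hc.core hlocX hSX hc.T (Y := (Y.subgroupOf H).map f) (by
      refine Odd.of_dvd_nat hY ((Subgroup.card_map_dvd _ _).trans ?_)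
      rw [Nat.card_congr (subgroupOfEquivOfLe hYH).toEquiv]) (by
      apply ClosedFour.le_normalizer_of_conj
      rintro _ ⟨s, hs, rfl⟩ _ ⟨y, hy, rfl⟩
      refine ⟨s * y * s⁻¹, ?_, by simp only [map_mul, map_inv]⟩
      exact (mem_normalizer_iff.1 (hSY hs) _).1 hy)
  have hoc : oc H = (Cfsg.oddCore H).map H.subtype := by
    rw [oc_def]
    exact (Cfsg.Agent.OddOrderLocal.UniqZL.map_pPrimeCore_eq 2 H).symm
  rw [hoc]
  intro y hy
  have h1 : f ⟨y, hYH hy⟩ ∈ (Y.subgroupOf H).map f := ⟨_, hy, rfl⟩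
  rw [key, mem_bot] at h1
  exact ⟨⟨y, hYH hy⟩, (QuotientGroup.eq_one_iff _).1 h1, rfl⟩

/-- The frame. -/
theorem exists_frame {G : Type u} [Group G] [Finite G] {𝒜 : Set G} (h : Setup 𝒜)
    (S : Sylow 2 G) (h4 : Nat.card (fam 𝒜 (S : Subgroup G)) = 4)
    (hO : ∀ x ∈ (S : Subgroup G), x * x = 1 → x ∈ fam 𝒜 (S : Subgroup G))
    (hna : ∃ x ∈ (S : Subgroup G), ∃ y ∈ (S : Subgroup G), x * y ≠ y * x)
    (hsolv : ∀ X : Subgroup G, Odd (Nat.card X) → Group.IsSolvable X) :
    ∃ g0 : G, GoldM1.Frame (S : Subgroup G) (fam 𝒜 (S : Subgroup G)) g0 := by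
  obtain ⟨g0, hp⟩ := GoldM1Base.exists_pre h S h4 hO hna
  have hloc : Loc (S : Subgroup G) (fam 𝒜 (S : Subgroup G)) :=
    ⟨hp.AS, hp.cardS, hp.cardA, hp.cen, hp.sq, hp.inv, hp.comm, hp.surj⟩
  have hCA : centralizer (fam 𝒜 (S : Subgroup G) : Set G) ≠ ⊤ := by
    intro ht
    obtain ⟨a, ha⟩ := Subgroup.ne_bot_iff_exists_ne_one.1 (h.fam_ne_bot S)
    have hc : (a : G) ∈ center G := by
      rw [mem_center_iff]
      intro g
      have hg : g ∈ centralizer (fam 𝒜 (S : Subgroup G) : Set G) := by rw [ht]; exact mem_top g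
      exact ((mem_centralizer_iff.1 hg) a a.2).symm
    rcases h.simple.eq_bot_or_eq_top_of_normal (center G) inferInstance with hb | hb
    · rw [hb, mem_bot] at hc
      exact ha (Subtype.ext hc)
    · obtain ⟨x, y, hxy⟩ := h.nonab
      have : y ∈ center G := by rw [hb]; exact mem_top y
      exact hxy (mem_center_iff.1 this x)
  obtain ⟨hn, hi⟩ := GoldM1CA.norm_and_index hloc hp.sylow (h.ctxAll _ hCA).T
  exact ⟨g0, hp.frame hsolv hn hi (fun H hH hSH Y hYH hY hSY => inv_core h S hloc hH hSH hYH hY hSY)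
    (GoldM1SL.sl hp.cardS hp.sylow hp.cardA hp.cen hp.inv hp.comm hp.fact hn hi)⟩

end Cfsg.Agent.TwoFusion.GoldM1Glue
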