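import Cfsg.Agent.TwoFusion.GoldEnd
import Cfsg.Agent.TwoFusion.GoldGlue
import Cfsg.Agent.TwoFusion.GoldBalance
import Cfsg.Agent.TwoFusion.GoldCentreGlue
import Cfsg.Agent.TwoFusion.GoldJEnd
import Cfsg.Agent.TwoFusion.GoldM1Glue
import Cfsg.Agent.TwoFusion.GoldM1Fin
import Cfsg.Agent.TwoFusion.GoldFourRed
import Cfsg.Agent.TwoFusion.GoldCenBal
import Cfsg.Agent.TwoFusion.GoldBadEx
import Cfsg.Agent.TwoFusion.GoldP
import Cfsg.Agent.TwoFusion.ClosedCommutator
import Cfsg.Agent.SignalizersComponents.SFTwo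
import Cfsg.Agent.StrongEmb.Main
import Cfsg.Agent.S0205
import Cfsg.Agent.S0222
import Mathlib

/-!
# Goldschmidt's theorem: the final assembly

`hCase`: a minimal counterexample to Goldschmidt's theorem on strongly closed abelian 2-subgroups satisfies the
conclusion, given S1174 for `G`.  `tprop`: the induction statement (T) for all nonabelian simple groups, given S1174
for all finite simple groups.
-/

set_option autoImplicit false
set_option linter.style.haveILetI false

namespace Cfsg.Agent.TwoFusion.GoldFinal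

open Subgroup
open Cfsg.Agent.TwoFusion.ClosedFam Cfsg.Agent.TwoFusion.Gold Cfsg.Agent.TwoFusion.GoldSetup
open Cfsg.Agent.TwoFusion.GoldPairDefs Cfsg.Agent.TwoFusion.GoldPairs Cfsg.Agent.TwoFusion.GoldGlue

universe u

/-- The Odd Order Theorem. -/
theorem odd_solvable (H : Type u) [Group H] [Finite H] (hH : Odd (Nat.card H)) : Group.IsSolvable H :=
  Cfsg.Agent.S0205.result hH

/-- Bender's theorem (S0222). -/
theorem ben (L : Type u) [Group L] [Finite L] [IsSimpleGroup L] (hna : ∃ a b : L, a * b ≠ b * a) :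
    GoldJIso.Ben L := fun H hH => Cfsg.Agent.S0222.result hna H hH

variable {G : Type u} [Group G] [Finite G] {𝒜 : Set G}

/-- The commutator part of the product theorem, for a minimal counterexample. -/
theorem c1 (h : Setup 𝒜) : GoldP.C1 G :=
  GoldP.c1_of h.simple h.nonab fun _ _ hp => ClosedCommutator.fam_commutator_le hp

/-- Signalizer functors on `A`, `|A| ≥ 8`. -/
theorem functor (h : Setup 𝒜) (S : Sylow 2 G) (h8 : 8 ≤ Nat.card (fam 𝒜 (S : Subgroup G)))
    (θ : G → Subgroup G) (hθ : Cfsg.IsSignalizerFunctor 2 (fam 𝒜 (S : Subgroup G)) θ)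
    (hs : ∀ a ∈ fam 𝒜 (S : Subgroup G), a ≠ 1 → Group.IsSolvable (θ a)) :
    ¬ 2 ∣ Nat.card ↥(⨆ a : {a : G // a ∈ fam 𝒜 (S : Subgroup G) ∧ a ≠ 1}, θ a) :=
  (Cfsg.Agent.SignalizersComponents.SFTwo.result (fam 𝒜 (S : Subgroup G)) (h.comm S)
    (fun a ha => by rw [pow_two]; exact h.sq S a ha) (by norm_num; exact h8) θ hθ.1 hθ.2.1 hθ.2.2.1 hs hθ.2.2.2).1

/-- The case `|A| ≥ 8`. -/
theorem tcon_of_eight (h : Setup 𝒜) (S : Sylow 2 G) (h8 : 8 ≤ Nat.card (fam 𝒜 (S : Subgroup G)))
    (hSE : SE1174 G) : TCon G := by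
  have hB := GoldBalance.balance_of_setup h S
  refine GoldGlue.tcon h S h8 (fun H _ _ hH => odd_solvable H hH) (functor h S h8)
    ClosedCommutator.complete hSE hB ?_ ?_
  · intro hne hV
    exact ⟨_, GoldCentreGlue.glue_of_small h S hB (GoldConjPair.conjPair h S) hne hV⟩
  · intro K hJ
    exact GoldJEnd.tcon_of_jData h hJ (c1 h) fun L _ _ _ hna => ben L hna

/-- The case `|A| = 4`, `Ω₁(S) = A`, `S` nonabelian. -/
theorem false_of_nonabelian (h : Setup 𝒜) (S : Sylow 2 G) (h4 : Nat.card (fam 𝒜 (S : Subgroup G)) = 4)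
    (hO : ∀ x ∈ (S : Subgroup G), x * x = 1 → x ∈ fam 𝒜 (S : Subgroup G))
    (hna : ∃ x ∈ (S : Subgroup G), ∃ y ∈ (S : Subgroup G), x * y ≠ y * x) : False := by
  haveI := h.simple
  obtain ⟨g0, F⟩ := GoldM1Glue.exists_frame h S h4 hO hna fun X hX => odd_solvable X hX
  exact GoldM1Fin.false_of_frame F

/-- The case `|A| = 4` with an involution in `S - A`. -/
theorem false_of_involution (h : Setup 𝒜) (S : Sylow 2 G) (h4 : Nat.card (fam 𝒜 (S : Subgroup G)) = 4)
    (hSE : SE1174 G) {t : G} (ht : t ∈ (S : Subgroup G)) (htt : t * t = 1)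
    (htA : t ∉ fam 𝒜 (S : Subgroup G)) : False := by
  have h4' : ∀ T : Sylow 2 G, Nat.card (fam 𝒜 (T : Subgroup G)) = 4 := fun T => by
    rw [card_fam_sylow h.fam.toIsClosedFam T S, h4]
  refine GoldFourRed.false_of_involution h (c1 h) ?_ ?_ S h4 ht htt htA
  · intro T s hs hss hsA
    exact GoldBadEx.exists_bad h (fun X hX => odd_solvable X hX) hSE
      (fun K _ _ => Cfsg.Agent.StrongEmb.Main.bender K) T (h4' T) hs hss hsA
  · intro T hT e f he hAe hff hf1 hf hAf
    exact GoldCenBal.bal h T hT he hAe hff hf1 hf hAf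

/-- A minimal counterexample satisfies the conclusion. -/
theorem hCase (h : Setup 𝒜) (hSE : SE1174 G) : TCon G := by
  obtain ⟨S⟩ := (inferInstance : Nonempty (Sylow 2 G))
  exact GoldEnd.tcon h S (fun h4 hO hna => false_of_nonabelian h S h4 hO hna)
    (fun h4 t ht htt htA => false_of_involution h S h4 hSE ht htt htA)
    (fun h8 => tcon_of_eight h S h8 hSE)

/-- The induction statement for all nonabelian simple groups, given S1174. -/
theorem tprop (hSE : ∀ (K : Type u) [Group K] [Finite K], IsSimpleGroup K → SE1174 K)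
    (G : Type u) [Group G] [Finite G] (hsimple : IsSimpleGroup G) (hnonab : ∃ a b : G, a * b ≠ b * a) :
    TProp G :=
  GoldMain.tprop
    (fun K _ _ hK hna hse => GoldBen.tcon_of_bender (Cfsg.Agent.StrongEmb.Main.bender K) hK hna hse)
    (fun K _ _ _ h => hCase h (hSE K h.simple)) G hsimple hnonab

end Cfsg.Agent.TwoFusion.GoldFinal
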