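import Mathlib
import Cfsg.Prelude.Def_Involutions
import Cfsg.Agent.TwoFusion.StronglyEmbeddedBasic
import Cfsg.Agent.SignalizersComponents.BenderCount
import Cfsg.Agent.SignalizersComponents.BenderPerfect
import Cfsg.Agent.Blocks.SylowIn
import Cfsg.Agent.Lib.PGroupCoprimeAction
import Cfsg.Agent.Lib.KleinGen
import Cfsg.Agent.S1287
import Cfsg.Agent.TwoFusion.IsolatedSylow

/-!
# Bender: strongly embedded subgroups of 2-rank at least two give doubly transitive groups

Let `H` be strongly embedded in the finite group `G`, `Ω = G ⧸ H`.  Suppose that there is an odd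
prime `p` such that for all `x ≠ y` in `Ω` no involution of `G_x` normalizes a Sylow `p`-subgroup of
`G_x ∩ G_y` (such a prime exists by the common prime theorem if `G` has 2-rank at least two).
Then `G` is 2-transitive on `Ω`.
-/

set_option autoImplicit false

namespace Cfsg.Agent.TwoFusion.BenderTwoTrans

open Cfsg Cfsg.Agent.TwoFusion.StronglyEmbeddedBasic
open Cfsg.Agent.SignalizersComponents.BenderCount
open Cfsg.Agent.SignalizersComponents.BenderPerfect
open Cfsg.Agent.Blocks.SylowIn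

/-- the number of elements of `U` inverted by `v` -/
noncomputable def kap {G : Type*} [Group G] (U : Subgroup G) (v : G) : ℕ :=
  Nat.card {x : G // x ∈ U ∧ v * x * v⁻¹ = x⁻¹}

section Card

variable {G : Type*} [Group G]

theorem relIndex_mul_card {K D : Subgroup G} (h : K ≤ D) :
    K.relIndex D * Nat.card K = Nat.card D := by
  have h1 := Subgroup.card_mul_index (K.subgroupOf D)
  rw [Nat.card_congr (Subgroup.subgroupOfEquivOfLe h).toEquiv] at h1
  rw [mul_comm]; exact h1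

end Card

section Kap

variable {G : Type*} [Group G] [Finite G]

theorem kap_mono {U V : Subgroup G} (h : U ≤ V) (v : G) : kap U v ≤ kap V v := by
  unfold kap
  refine Nat.card_le_card_of_injective
    (fun x : {x : G // x ∈ U ∧ v * x * v⁻¹ = x⁻¹} =>
      (⟨x.1, h x.2.1, x.2.2⟩ : {x : G // x ∈ V ∧ v * x * v⁻¹ = x⁻¹})) ?_
  intro a b hab
  exact Subtype.ext (Subtype.mk.inj hab)

/-- if `U ≤ V` have the same number of elements inverted by `v`, they have the same elements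
inverted by `v` -/
theorem mem_of_kap_le {U V : Subgroup G} (h : U ≤ V) {v : G} (hk : kap V v ≤ kap U v) {x : G}
    (hx : x ∈ V) (hvx : v * x * v⁻¹ = x⁻¹) : x ∈ U := by
  classical
  let A : Set G := {x : G | x ∈ U ∧ v * x * v⁻¹ = x⁻¹}
  let B : Set G := {x : G | x ∈ V ∧ v * x * v⁻¹ = x⁻¹}
  have hAB : A ⊆ B := fun y hy => ⟨h hy.1, hy.2⟩
  have hcard : B.ncard ≤ A.ncard := by
    rw [← Nat.card_coe_set_eq, ← Nat.card_coe_set_eq]
    exact hk
  have hEq : A = B := Set.eq_of_subset_of_ncard_le hAB hcard (Set.toFinite _)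
  have hxB : x ∈ B := ⟨hx, hvx⟩
  rw [← hEq] at hxB
  exact hxB.1

theorem mem_normalizer_of_forall {U : Subgroup G} {v : G} (h : ∀ u ∈ U, v * u * v⁻¹ ∈ U) :
    v ∈ Subgroup.normalizer (U : Set G) := by
  have h1 : Subgroup.zpowers v ≤ Subgroup.normalizer (U : Set G) := by
    refine Cfsg.Agent.S1287.le_normalizer_of_forall ?_
    intro b hb u hu
    obtain ⟨n, rfl⟩ : b ∈ Submonoid.powers v := by
      rwa [mem_powers_iff_mem_zpowers]
    clear hb
    induction n with
    | zero => simpa using hu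
    | succ n ih =>
      have e : v ^ (n + 1) * u * (v ^ (n + 1))⁻¹ = v * (v ^ n * u * (v ^ n)⁻¹) * v⁻¹ := by
        rw [pow_succ']; group
      simp only at ih ⊢
      rw [e]
      exact h _ ih
  exact h1 (Subgroup.mem_zpowers v)

omit [Finite G] in
theorem forall_of_mem_normalizer {U : Subgroup G} {v : G}
    (h : v ∈ Subgroup.normalizer (U : Set G)) : ∀ u ∈ U, v * u * v⁻¹ ∈ U := fun u hu =>
  (Subgroup.mem_normalizer_iff.mp h u).mp hu

theorem kap_mul {U : Subgroup G} (hU : Odd (Nat.card U)) {v : G} (hv : orderOf v = 2)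
    (hvU : ∀ u ∈ U, v * u * v⁻¹ ∈ U) :
    kap U v * Nat.card ↥(U ⊓ Subgroup.centralizer ({v} : Set G)) = Nat.card U := by
  have h1 := IsolatedSylow.relIndex_centralizer_eq_card_inverted (mul_self_of_orderOf hv) U hU
    (mem_normalizer_of_forall hvU)
  have h2 : (U ⊓ Subgroup.centralizer ({v} : Set G)).relIndex U = kap U v := h1
  rw [← h2]
  exact relIndex_mul_card inf_le_left

/-- `kap` is invariant under conjugation -/
theorem kap_conj {U : Subgroup G} {g v : G} (hg : g ∈ Subgroup.normalizer (U : Set G)) :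
    kap U v ≤ kap U (g * v * g⁻¹) := by
  unfold kap
  refine Nat.card_le_card_of_injective
    (fun x : {x : G // x ∈ U ∧ v * x * v⁻¹ = x⁻¹} =>
      (⟨g * x.1 * g⁻¹, forall_of_mem_normalizer hg _ x.2.1, ?_⟩ :
        {x : G // x ∈ U ∧ (g * v * g⁻¹) * x * (g * v * g⁻¹)⁻¹ = x⁻¹})) ?_
  · have e : (g * v * g⁻¹) * (g * x.1 * g⁻¹) * (g * v * g⁻¹)⁻¹ = g * (v * x.1 * v⁻¹) * g⁻¹ := by
      group
    rw [e, x.2.2]; group
  · intro a b hab
    have h1 := congrArg Subtype.val hab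
    simp only at h1
    exact Subtype.ext (mul_left_cancel (mul_right_cancel h1))

end Kap

section Count

variable {G : Type*} [Group G] [Finite G] {H : Subgroup G}

theorem odd_stab2 (hH : IsStronglyEmbedded H) {x y : G ⧸ H} (hxy : x ≠ y) :
    Odd (Nat.card (stab2 x y)) :=
  odd_of_fixes_two hH hxy _ (fun _ hd => mem_stab2.mp hd)

omit [Finite G] in
theorem stab2_comm (x y : G ⧸ H) : stab2 x y = stab2 y x := by
  unfold stab2; exact inf_comm _ _

omit [Finite G] in
theorem swap_normalizes {x y : G ⧸ H} {v : G} (hv : v ∈ invs x y) :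
    ∀ u ∈ stab2 x y, v * u * v⁻¹ ∈ stab2 x y := by
  intro u hu
  rw [mem_stab2] at hu ⊢
  have h1 : v⁻¹ • x = y := by rw [inv_smul_eq_iff, smul_of_mem_invs hv]
  have h2 : v⁻¹ • y = x := by rw [inv_smul_eq_iff, hv.2]
  constructor
  · rw [mul_smul, mul_smul, h1, hu.2, smul_of_mem_invs hv]
  · rw [mul_smul, mul_smul, h2, hu.1, hv.2]

/-- the number of involutions fixing a point -/
noncomputable def mm (H : Subgroup G) : ℕ := (invs ((1 : G) : G ⧸ H) ((1 : G) : G ⧸ H)).ncard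

theorem ncard_invs (hH : IsStronglyEmbedded H) (x y : G ⧸ H) : (invs x y).ncard = mm H := by
  rw [ncard_invs_eq hH x y, ncard_invs_self_eq x _]
  rfl

theorem mm_pos (hH : IsStronglyEmbedded H) : 0 < mm H := by
  rw [← ncard_invs hH ((1 : G) : G ⧸ H) ((1 : G) : G ⧸ H), Set.ncard_pos]
  exact exists_mem_invs_self hH _

theorem kap_stab2 (hH : IsStronglyEmbedded H) {x y : G ⧸ H} (hxy : x ≠ y) {v : G}
    (hv : v ∈ invs x y) : kap (stab2 x y) v = mm H := by
  rw [← ncard_invs hH x y, ← Nat.card_coe_set_eq]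
  unfold kap
  have hvi := inv_eq_self_of_orderOf hv.1
  have hvv := mul_self_of_orderOf hv.1
  refine Nat.card_congr ⟨fun d => ⟨v * d.1, ?_, ?_⟩, fun w => ⟨v * w.1, ?_, ?_⟩, ?_, ?_⟩
  · apply orderOf_eq_two_of_mul_self
    · have h1 := d.2.2
      calc v * d.1 * (v * d.1) = (v * d.1 * v⁻¹) * (v * v) * d.1 := by group
        _ = 1 := by rw [h1, hvv]; group
    · intro h
      have h1 : (v * d.1) • x = y := by rw [mul_smul, (mem_stab2.mp d.2.1).1, hv.2]
      rw [h, one_smul] at h1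
      exact hxy h1
  · rw [mul_smul, (mem_stab2.mp d.2.1).1, hv.2]
  · rw [mem_stab2]
    constructor
    · rw [mul_smul, w.2.2, smul_of_mem_invs hv]
    · rw [mul_smul, smul_of_mem_invs w.2, hv.2]
  · have hwi := inv_eq_self_of_orderOf w.2.1
    rw [mul_inv_rev, hwi, ← mul_assoc, hvv, one_mul]
  · intro d
    apply Subtype.ext
    simp only
    rw [← mul_assoc, hvv, one_mul]
  · intro w
    apply Subtype.ext
    simp only
    rw [← mul_assoc, hvv, one_mul]

theorem card_stab2_swap (hH : IsStronglyEmbedded H) {x y : G ⧸ H} (hxy : x ≠ y) {v : G}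
    (hv : v ∈ invs x y) :
    mm H * Nat.card ↥(stab2 x y ⊓ Subgroup.centralizer ({v} : Set G)) = Nat.card (stab2 x y) := by
  rw [← kap_stab2 hH hxy hv]
  exact kap_mul (odd_stab2 hH hxy) hv.1 (swap_normalizes hv)

theorem card_stab2_fix (hH : IsStronglyEmbedded H) {x z : G ⧸ H} (hxz : x ≠ z) {v : G}
    (hv : v ∈ invs z z) :
    mm H * Nat.card ↥(stab2 x z ⊓ Subgroup.centralizer ({v} : Set G)) = Nat.card (stab2 x z) := by
  let D : Subgroup G := stab2 x z
  let act : MulAction D G := MulAction.compHom G ((MulAut.conj : G →* MulAut G).comp D.subtype)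
  have hact : ∀ (d : D) (g : G), d • g = (d : G) * g * (d : G)⁻¹ := fun d g => rfl
  have h1 : MulAction.orbit D v = invs z z := by
    ext w
    rw [MulAction.mem_orbit_iff]
    constructor
    · rintro ⟨d, rfl⟩
      rw [hact, mem_invs, orderOf_conj]
      refine ⟨hv.1, ?_⟩
      have hd := mem_stab2.mp d.2
      have hd' : (d : G)⁻¹ • z = z := by rw [inv_smul_eq_iff, hd.2]
      rw [mul_smul, mul_smul, hd', hv.2, hd.2]
    · intro hw
      obtain ⟨d, hd1, hd2, hd⟩ := exists_conj_of_fixes hH hxz.symm hv hw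
      exact ⟨⟨d, mem_stab2.mpr ⟨hd2, hd1⟩⟩, hd⟩
  have h2 : MulAction.stabilizer D v = (D ⊓ Subgroup.centralizer ({v} : Set G)).subgroupOf D := by
    ext d
    rw [MulAction.mem_stabilizer_iff, hact, Subgroup.mem_subgroupOf, Subgroup.mem_inf,
      Subgroup.mem_centralizer_singleton_iff, mul_inv_eq_iff_eq_mul]
    exact ⟨fun h => ⟨d.2, h⟩, fun h => h.2⟩
  have h3 := MulAction.index_stabilizer D v
  rw [h1, h2, ncard_invs hH] at h3
  rw [← h3]
  exact relIndex_mul_card inf_le_left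

/-- If the involution `v` fixes `z ≠ x`, then `G_x ∩ G_{vx}` and `G_x ∩ G_z` have the same order. -/
theorem card_stab2_eq (hH : IsStronglyEmbedded H) {x z : G ⧸ H} (hxz : x ≠ z) {v : G}
    (hv : v ∈ invs z z) : Nat.card (stab2 x (v • x)) = Nat.card (stab2 x z) := by
  have hvx : x ≠ v • x := fun h => hxz (eq_of_smul_eq hH hv.1 h.symm hv.2)
  have h1 := card_stab2_swap hH hvx (v := v) ⟨hv.1, rfl⟩
  have h2 := card_stab2_fix hH hxz hv
  rw [← h1, ← h2]
  congr 2
  have : stab2 x (v • x) ⊓ Subgroup.centralizer ({v} : Set G)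
      = stab2 x z ⊓ Subgroup.centralizer ({v} : Set G) := by
    ext g
    rw [Subgroup.mem_inf, Subgroup.mem_inf, mem_stab2, mem_stab2,
      Subgroup.mem_centralizer_singleton_iff]
    constructor
    · rintro ⟨⟨h3, -⟩, h4⟩
      refine ⟨⟨h3, ?_⟩, h4⟩
      refine eq_of_smul_eq hH hv.1 ?_ hv.2
      rw [← mul_smul, ← h4, mul_smul, hv.2]
    · rintro ⟨⟨h3, -⟩, h4⟩
      refine ⟨⟨h3, ?_⟩, h4⟩
      rw [← mul_smul, h4, mul_smul, h3]
  rw [this]

end Count

section Sylow

variable {G : Type*} [Group G] [Finite G] {H : Subgroup G}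

/-- `P` is a Sylow `p`-subgroup of the subgroup `K` -/
def SylIn (p : ℕ) (K P : Subgroup G) : Prop := ∃ S : Sylow p K, (S : Subgroup K).map K.subtype = P

omit [Finite G] in
theorem isPGroup_two_zpowers {v : G} (hv : orderOf v = 2) : IsPGroup 2 (Subgroup.zpowers v) := by
  apply IsPGroup.of_card (n := 1)
  rw [Nat.card_zpowers, hv, pow_one]

theorem zpowers_forall {U : Subgroup G} {v : G} (h : ∀ u ∈ U, v * u * v⁻¹ ∈ U) :
    ∀ b ∈ Subgroup.zpowers v, ∀ u ∈ U, b * u * b⁻¹ ∈ U := by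
  intro b hb
  have h1 : Subgroup.zpowers v ≤ Subgroup.normalizer (U : Set G) := by
    rw [Subgroup.zpowers_le]; exact mem_normalizer_of_forall h
  exact forall_of_mem_normalizer (h1 hb)

omit [Finite G] in
theorem not_two_dvd {U : Subgroup G} (h : Odd (Nat.card U)) : ¬ 2 ∣ Nat.card U := by
  rw [← even_iff_two_dvd, Nat.not_even_iff_odd]; exact h

theorem odd_of_pGroup {p : ℕ} [hp : Fact p.Prime] (hp2 : p ≠ 2) {U : Subgroup G}
    (hU : IsPGroup p U) : Odd (Nat.card U) := by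
  obtain ⟨n, hn⟩ := IsPGroup.iff_card.mp hU
  rw [hn]
  exact (hp.out.odd_of_ne_two hp2).pow

/-- some involution swapping `x` and `y` normalizes a given Sylow subgroup of `G_x ∩ G_y` -/
theorem exists_swap_normalizing (hH : IsStronglyEmbedded H) {p : ℕ} [Fact p.Prime] {x y : G ⧸ H}
    (hxy : x ≠ y) {P : Subgroup G} (hP : SylIn p (stab2 x y) P) :
    ∃ v ∈ invs x y, ∀ u ∈ P, v * u * v⁻¹ ∈ P := by
  obtain ⟨v₀, hv₀⟩ := exists_mem_invs hH x y
  have : Fact (Nat.Prime 2) := ⟨Nat.prime_two⟩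
  obtain ⟨S, hS, hSv⟩ := Lib.PGroupCoprimeAction.exists_invariant_sylow (A := Subgroup.zpowers v₀)
    (H := stab2 x y) (isPGroup_two_zpowers hv₀.1) (not_two_dvd (odd_stab2 hH hxy))
    (zpowers_forall (swap_normalizes hv₀)) p
  obtain ⟨k, hk, rfl⟩ := exists_conj_of_sylow_map_eq hS hP
  have hk' := mem_stab2.mp hk
  refine ⟨k * v₀ * k⁻¹, ⟨?_, ?_⟩, ?_⟩
  · rw [orderOf_conj, hv₀.1]
  · have : k⁻¹ • x = x := by rw [inv_smul_eq_iff, hk'.1]
    rw [mul_smul, mul_smul, this, hv₀.2, hk'.2]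
  · rintro _ ⟨s, hs, rfl⟩
    have h1 := hSv v₀ (Subgroup.mem_zpowers v₀) s hs
    refine ⟨_, h1, ?_⟩
    simp only [MulEquiv.coe_toMonoidHom, MulAut.conj_apply]
    group

theorem fact_stab2 (hH : IsStronglyEmbedded H) {x y : G ⧸ H} (hxy : x ≠ y) {v : G}
    (hv : v ∈ invs x y) (p : ℕ) :
    (Nat.card (stab2 x y)).factorization p = (mm H).factorization p +
      (Nat.card ↥(stab2 x y ⊓ Subgroup.centralizer ({v} : Set G))).factorization p := by
  rw [← card_stab2_swap hH hxy hv, Nat.factorization_mul (mm_pos hH).ne' Nat.card_pos.ne']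
  rfl

/-- the number of elements inverted by `v` in a `v`-invariant Sylow subgroup of `G_x ∩ G_y`,
`v` swapping `x` and `y`. -/
theorem kap_sylow (hH : IsStronglyEmbedded H) {p : ℕ} [hp : Fact p.Prime] (hp2 : p ≠ 2)
    {x y : G ⧸ H} (hxy : x ≠ y) {P : Subgroup G} (hP : SylIn p (stab2 x y) P) {v : G}
    (hv : v ∈ invs x y) (hvP : ∀ u ∈ P, v * u * v⁻¹ ∈ P) :
    kap P v = p ^ (mm H).factorization p := by
  have : Fact (Nat.Prime 2) := ⟨Nat.prime_two⟩
  have hPp : IsPGroup p P := (exists_sylow_map_eq_iff.mp hP).2.1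
  have h1 := kap_mul (odd_of_pGroup hp2 hPp) hv.1 hvP
  have h2 := S1287.card_fixed_sylow (B := Subgroup.zpowers v) (isPGroup_two_zpowers hv.1)
    (not_two_dvd (odd_stab2 hH hxy)) (zpowers_forall (swap_normalizes hv)) hP (zpowers_forall hvP)
  rw [S1287.centralizer_zpowers] at h2
  rw [h2, card_of_sylow_map_eq hP, fact_stab2 hH hxy hv p, pow_add] at h1
  exact Nat.eq_of_mul_eq_mul_right (pow_pos hp.out.pos _) h1

omit [Finite G] in
theorem le_stab2 {R : Subgroup G} {c : G ⧸ H} (hc : c ∈ fixp H R) {v : G}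
    (hvR : v ∈ Subgroup.normalizer (R : Set G)) : v • c ∈ fixp H R := by
  refine smul_mem_fixp (fun d hd => ?_) hc
  have := forall_of_mem_normalizer (inv_mem hvR) d hd
  rwa [inv_inv] at this

theorem kap_le (hH : IsStronglyEmbedded H) {p : ℕ} [hp : Fact p.Prime] (hp2 : p ≠ 2)
    {R : Subgroup G} (hR : IsPGroup p R) {v : G} (hv : orderOf v = 2)
    (hvR : ∀ u ∈ R, v * u * v⁻¹ ∈ R) {c : G ⧸ H} (hc : c ∈ fixp H R) (hvc : v • c ≠ c) :
    kap R v ≤ p ^ (mm H).factorization p := by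
  have : Fact (Nat.Prime 2) := ⟨Nat.prime_two⟩
  have hvc' : v • c ∈ fixp H R := le_stab2 hc (mem_normalizer_of_forall hvR)
  have hRD : R ≤ stab2 c (v • c) := fun r hr => mem_stab2.mpr ⟨hc r hr, hvc' r hr⟩
  have hvi : v ∈ invs c (v • c) := ⟨hv, rfl⟩
  obtain ⟨S, hS, hSv, hRS⟩ := Lib.PGroupCoprimeAction.exists_invariant_sylow_ge
    (A := Subgroup.zpowers v) (H := stab2 c (v • c)) (isPGroup_two_zpowers hv)
    (not_two_dvd (odd_stab2 hH hvc.symm)) (zpowers_forall (swap_normalizes hvi)) hRD hR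
    (zpowers_forall hvR)
  rw [← kap_sylow hH hp2 hvc.symm hS hvi (hSv v (Subgroup.mem_zpowers v))]
  exact kap_mono hRS v

end Sylow

section Main

variable {G : Type*} [Group G] [Finite G] {H : Subgroup G}

/-- no involution fixing `x` normalizes a Sylow `p`-subgroup of `G_x ∩ G_y`, for all `x ≠ y` -/
def Star (H : Subgroup G) (p : ℕ) : Prop :=
  ∀ x y : G ⧸ H, x ≠ y → ∀ P : Subgroup G, SylIn p (stab2 x y) P → ∀ t : G, orderOf t = 2 →
    t • x = x → ¬ ∀ u ∈ P, t * u * t⁻¹ ∈ P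

theorem fix_not_mem (hH : IsStronglyEmbedded H) {p : ℕ} [hp : Fact p.Prime] (hs : Star H p)
    {x y : G ⧸ H} (hxy : x ≠ y) {P : Subgroup G} (hP : SylIn p (stab2 x y) P) {v : G}
    (hv : v ∈ invs x y) (hvP : ∀ u ∈ P, v * u * v⁻¹ ∈ P) {z : G ⧸ H} (hz : v • z = z) :
    z ∉ fixp H P := by
  intro hzP
  have hxz : x ≠ z := by
    rintro rfl
    rw [hv.2] at hz
    exact hxy hz.symm
  have hle : P ≤ stab2 x z := fun d hd =>
    mem_stab2.mpr ⟨(mem_stab2.mp ((exists_sylow_map_eq_iff.mp hP).1 hd)).1, hzP d hd⟩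
  have hcard : Nat.card P = p ^ (Nat.card (stab2 x z)).factorization p := by
    rw [card_of_sylow_map_eq hP, ← card_stab2_eq hH hxz ⟨hv.1, hz⟩, hv.2]
  have hP' : SylIn p (stab2 z x) P := by
    rw [stab2_comm]; exact exists_sylow_map_eq_of_card hle hcard
  exact hs z x hxz.symm P hP' v hv.1 hz hvP

theorem no_inv_fix (hH : IsStronglyEmbedded H) {U : Subgroup G} {w a : G} (hw : orderOf w = 2)
    (hwU : ∀ u ∈ U, w * u * w⁻¹ ∈ U) (hwfix : ∀ z : G ⧸ H, w • z = z → z ∉ fixp H U)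
    (ha : orderOf a = 2) (haU : ∀ u ∈ U, a * u * a⁻¹ ∈ U) {δ : G ⧸ H} (hδ : a • δ = δ) :
    δ ∉ fixp H U := by
  intro hδU
  obtain ⟨z, hz⟩ := exists_smul_eq hH hw
  have hδz : δ ≠ z := by
    rintro rfl
    exact hwfix _ hz hδU
  obtain ⟨j, hj, -, hja, -⟩ := exists_swap a w ha hw (odd_orderOf_mul_of_smul hH ha hw hδz hδ hz)
  have hcl : Subgroup.closure ({a, w} : Set G) ≤ Subgroup.normalizer (U : Set G) := by
    rw [Subgroup.closure_le]
    rintro g (rfl | hg)
    · exact mem_normalizer_of_forall haU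
    · rw [Set.mem_singleton_iff] at hg
      rw [hg]; exact mem_normalizer_of_forall hwU
  have h1 : j • δ ∈ fixp H U := le_stab2 hδU (hcl hj)
  refine hwfix (j • δ) ?_ h1
  rw [← hja, mul_smul, mul_smul, inv_smul_smul, hδ]

theorem no_comm (hH : IsStronglyEmbedded H) {U : Subgroup G} (hU : Odd (Nat.card U)) {w : G}
    (hw : orderOf w = 2) (hwU : ∀ u ∈ U, w * u * w⁻¹ ∈ U)
    (hwfix : ∀ z : G ⧸ H, w • z = z → z ∉ fixp H U) {a b : G} (ha : orderOf a = 2)
    (haU : ∀ u ∈ U, a * u * a⁻¹ ∈ U) (hb : orderOf b = 2) (hbU : ∀ u ∈ U, b * u * b⁻¹ ∈ U)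
    (hab : Commute a b) : a = b := by
  by_contra hne
  obtain ⟨δ, hδ⟩ := exists_smul_eq hH ha
  have hbδ : b • δ = δ := by
    refine eq_of_smul_eq hH ha ?_ hδ
    rw [← mul_smul, hab.eq, mul_smul, hδ]
  have hab2 : orderOf (a * b) = 2 := by
    apply orderOf_eq_two_of_mul_self
    · calc (a * b) * (a * b) = a * (b * a) * b := by group
        _ = a * (a * b) * b := by rw [hab.eq]
        _ = (a * a) * (b * b) := by group
        _ = 1 := by rw [mul_self_of_orderOf ha, mul_self_of_orderOf hb, one_mul]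
    · intro h
      apply hne
      have := eq_inv_of_mul_eq_one_left h
      rw [this, inv_eq_self_of_orderOf hb]
  have key : ∀ c : G, orderOf c = 2 → c • δ = δ →
      U ⊓ Subgroup.centralizer {c} ≤ MulAction.stabilizer G δ := by
    intro c hc hcδ g hg
    rw [MulAction.mem_stabilizer_iff]
    have h1 := Subgroup.mem_centralizer_singleton_iff.mp hg.2
    refine eq_of_smul_eq hH hc ?_ hcδ
    rw [← mul_smul, ← h1, mul_smul, hcδ]
  have hle := Lib.KleinGen.le_of_klein U (MulAction.stabilizer G δ) hU a b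
    (mul_self_of_orderOf ha) (mul_self_of_orderOf hb) hab.eq haU hbU (key a ha hδ) (key b hb hbδ)
    (key (a * b) hab2 (by rw [mul_smul, hbδ, hδ]))
  exact no_inv_fix hH hw hwU hwfix ha haU hδ (fun d hd => hle hd)

/-- the structure of a group whose involutions are central modulo a normal subgroup of odd order -/
structure Core (N O : Subgroup G) : Prop where
  le : O ≤ N
  odd : Odd (Nat.card O)
  conj : ∀ g ∈ N, ∀ o ∈ O, g * o * g⁻¹ ∈ O
  comm : ∀ v ∈ N, orderOf v = 2 → ∀ g ∈ N, v * g * v⁻¹ * g⁻¹ ∈ O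
  prod : ∀ v ∈ N, ∀ w ∈ N, orderOf v = 2 → orderOf w = 2 → v * w ∈ O

/-- three points are not pairwise swapped by involutions of `N` -/
theorem triangle {N O : Subgroup G} (hO : Core N O) {x y z : G ⧸ H}
    (hno : ∀ v ∈ N, orderOf v = 2 → v • x ≠ x) {a b c : G} (ha : a ∈ N) (hb : b ∈ N) (hc : c ∈ N)
    (ha2 : orderOf a = 2) (hb2 : orderOf b = 2) (hc2 : orderOf c = 2) (hax : a • x = y)
    (hby : b • y = z) (hcz : c • z = x) : False := by
  have hcb : c * b ∈ O := hO.prod c hc b hb hc2 hb2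
  set g := c * b * a with hg
  have hgN : g ∈ N := mul_mem (mul_mem hc hb) ha
  have hgx : g • x = x := by rw [hg, mul_smul, mul_smul, hax, hby, hcz]
  have hgg : g * g ∈ O := by
    have e : g * g = (c * b) * (a * (c * b) * a⁻¹) * (a * a) := by rw [hg]; group
    rw [e, mul_self_of_orderOf ha2, mul_one]
    exact mul_mem hcb (hO.conj a ha _ hcb)
  have haO : a ∉ O := fun h => not_odd_of_mem O a h ha2 hO.odd
  have hgO : g ∉ O := by
    intro h
    apply haO
    have e : a = (c * b)⁻¹ * g := by rw [hg]; group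
    rw [e]
    exact mul_mem (inv_mem hcb) h
  have hev : ¬ Odd (orderOf g) := by
    rintro ⟨k, hk⟩
    apply hgO
    have e : g = (g * g) ^ (k + 1) := by
      rw [← pow_two, ← pow_mul]
      have h2 : 2 * (k + 1) = (2 * k + 1) + 1 := by ring
      rw [h2, pow_succ, ← hk, pow_orderOf_eq_one, one_mul]
    rw [e]
    exact pow_mem hgg _
  rw [Nat.not_odd_iff_even] at hev
  obtain ⟨k, hk⟩ := hev
  have hpos : 0 < orderOf g := orderOf_pos g
  have h2 : orderOf (g ^ k) = 2 := by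
    apply orderOf_eq_two_of_mul_self
    · rw [← pow_add, ← hk, pow_orderOf_eq_one]
    · intro h
      have := orderOf_dvd_of_pow_eq_one h
      have := Nat.le_of_dvd (by omega) this
      omega
  refine hno (g ^ k) (pow_mem hgN k) h2 ?_
  have : ∀ n : ℕ, g ^ n • x = x := by
    intro n
    induction n with
    | zero => rw [pow_zero, one_smul]
    | succ n ih => rw [pow_succ, mul_smul, hgx, ih]
  exact this k

/-- hypothesis: subgroups of 2-rank one have a normal subgroup of odd order modulo which the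
involutions are central (a consequence of the Brauer-Suzuki theorem) -/
def CoreHyp (G : Type*) [Group G] : Prop :=
  ∀ N : Subgroup G, (∃ v ∈ N, orderOf v = 2) →
    (∀ a ∈ N, ∀ b ∈ N, orderOf a = 2 → orderOf b = 2 → Commute a b → a = b) → ∃ O, Core N O

/-- an involution of `N` normalizes a conjugate of each Sylow subgroup of `N` of odd order -/
def InvHyp (G : Type*) [Group G] (p : ℕ) : Prop :=
  ∀ N O : Subgroup G, Core N O → ∀ v ∈ N, orderOf v = 2 → ∀ T : Subgroup G, IsPGroup p T → T ≤ N →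
    ∃ g ∈ N, ∃ R : Subgroup G, IsPGroup p R ∧ T ≤ R ∧ R ≤ N ∧
      ∀ r ∈ R, (g * v * g⁻¹) * r * (g * v * g⁻¹)⁻¹ ∈ R

omit [Finite G] in
theorem fixp_anti {U V : Subgroup G} (h : U ≤ V) {c : G ⧸ H} (hc : c ∈ fixp H V) :
    c ∈ fixp H U := fun d hd => hc d (h hd)

omit [Finite G] in
theorem exists_sylIn_ge {p : ℕ} [Fact p.Prime] {D Q : Subgroup G} (hQD : Q ≤ D)
    (hQ : IsPGroup p Q) : ∃ P, SylIn p D P ∧ Q ≤ P := by
  have h1 : IsPGroup p (Q.subgroupOf D) :=
    hQ.of_equiv (Subgroup.subgroupOfEquivOfLe hQD).symm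
  obtain ⟨S, hS⟩ := h1.exists_le_sylow
  refine ⟨_, ⟨S, rfl⟩, ?_⟩
  intro q hq
  exact ⟨⟨q, hQD hq⟩, hS (Subgroup.mem_subgroupOf.mpr hq), rfl⟩

/-- The key claim: a `p`-subgroup `Y` normalized by an involution `w` without fixed points in
`Fix(Y)` inverting sufficiently many elements of `Y` has at most two fixed points. -/
theorem fixp_pair_of_kap (hH : IsStronglyEmbedded H) {p : ℕ} [hp : Fact p.Prime] (hp2 : p ≠ 2)
    (hcore : CoreHyp G) (hinv : InvHyp G p)
    (hfix : ∀ Y : Subgroup G, IsPGroup p Y → ∃ c : G ⧸ H, c ∈ fixp H Y) :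
    ∀ n : ℕ, ∀ Y : Subgroup G, Nat.card G - Nat.card Y < n → IsPGroup p Y → ∀ w : G,
      orderOf w = 2 → (∀ u ∈ Y, w * u * w⁻¹ ∈ Y) → p ^ (mm H).factorization p ≤ kap Y w →
      (∀ z : G ⧸ H, w • z = z → z ∉ fixp H Y) →
      ∀ c ∈ fixp H Y, ∀ d ∈ fixp H Y, d = c ∨ d = w • c := by
  intro n
  induction n with
  | zero => intro Y h; omega
  | succ n IH =>
  intro Y hn hY w hw hwY hkap hwfix c hc d hd
  set N := Subgroup.normalizer (Y : Set G) with hN
  have hwN : w ∈ N := mem_normalizer_of_forall hwY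
  have hYodd := odd_of_pGroup hp2 hY
  have hno : ∀ a ∈ N, ∀ b ∈ N, orderOf a = 2 → orderOf b = 2 → Commute a b → a = b :=
    fun a ha b hb ha2 hb2 hab => no_comm hH hYodd hw hwY hwfix ha2 (forall_of_mem_normalizer ha)
      hb2 (forall_of_mem_normalizer hb) hab
  obtain ⟨O, hO⟩ := hcore N ⟨w, hwN, hw⟩ hno
  -- all pairs are swapped
  have hswap : ∀ e ∈ fixp H Y, ∀ f ∈ fixp H Y, e ≠ f → ∃ v ∈ N, orderOf v = 2 ∧ v • e = f := by
    intro e he f hf hef
    have hYD : Y ≤ stab2 e f := fun r hr => mem_stab2.mpr ⟨he r hr, hf r hr⟩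
    obtain ⟨Y1, hY1, hYY1⟩ := exists_sylIn_ge hYD hY
    by_cases hEq : Y1 = Y
    · subst hEq
      obtain ⟨v, hv, hvY⟩ := exists_swap_normalizing hH hef hY1
      exact ⟨v, mem_normalizer_of_forall hvY, hv.1, hv.2⟩
    · have hY1' := exists_sylow_map_eq_iff.mp hY1
      set T := N ⊓ Y1 with hT
      have hTY1 : T ≤ Y1 := inf_le_right
      have hTN : T ≤ N := inf_le_left
      have hTp : IsPGroup p T := hY1'.2.1.to_le hTY1
      have hYT : Y ≤ T := le_inf Subgroup.le_normalizer hYY1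
      have hlt : Y < T := by
        refine lt_of_le_of_ne hYT (fun h => hEq ?_)
        exact eq_of_normalizer_inf_le hY1'.2.1 hYY1 (by rw [← hN, ← hT, ← h])
      obtain ⟨g, hg, R, hRp, hTR, hRN, hRv⟩ := hinv N O hO w hwN hw T hTp hTN
      set w' := g * w * g⁻¹ with hw'
      have hw'2 : orderOf w' = 2 := by rw [hw', orderOf_conj, hw]
      have hw'N : w' ∈ N := mul_mem (mul_mem hg hwN) (inv_mem hg)
      have hw'Y := forall_of_mem_normalizer hw'N
      have hkap' : p ^ (mm H).factorization p ≤ kap Y w' := hkap.trans (kap_conj hg)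
      have hw'fix : ∀ z : G ⧸ H, w' • z = z → z ∉ fixp H Y := fun z hz =>
        no_inv_fix hH hw hwY hwfix hw'2 hw'Y hz
      have hYR : Y ≤ R := hYT.trans hTR
      obtain ⟨c', hc'⟩ := hfix R hRp
      have hc'ne : w' • c' ≠ c' := fun h => hw'fix c' h (fixp_anti hYR hc')
      have h1 := kap_le hH hp2 hRp hw'2 hRv hc' hc'ne
      have hw'w' := mul_self_of_orderOf hw'2
      have hw'i := inv_eq_self_of_orderOf hw'2
      have hTw : ∀ t ∈ T, w' * t * w'⁻¹ ∈ T := by
        intro t ht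
        have hqR : t⁻¹ * (w' * t * w'⁻¹) ∈ R := mul_mem (inv_mem (hTR ht)) (hRv t (hTR ht))
        have hqinv : w' * (t⁻¹ * (w' * t * w'⁻¹)) * w'⁻¹ = (t⁻¹ * (w' * t * w'⁻¹))⁻¹ := by
          calc w' * (t⁻¹ * (w' * t * w'⁻¹)) * w'⁻¹
              = w' * t⁻¹ * w' * t * (w' * w')⁻¹ := by group
            _ = w' * t⁻¹ * w'⁻¹ * t := by rw [hw'w', hw'i]; group
            _ = (t⁻¹ * (w' * t * w'⁻¹))⁻¹ := by group
        have hqY := mem_of_kap_le hYR (h1.trans hkap') hqR hqinv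
        have e1 : w' * t * w'⁻¹ = t * (t⁻¹ * (w' * t * w'⁻¹)) := by group
        rw [e1]
        exact mul_mem ht (hYT hqY)
      have hTkap : p ^ (mm H).factorization p ≤ kap T w' := hkap'.trans (kap_mono hYT w')
      have hTfix : ∀ z : G ⧸ H, w' • z = z → z ∉ fixp H T := fun z hz hzT =>
        hw'fix z hz (fixp_anti hYT hzT)
      have hcard : Nat.card Y < Nat.card T := Set.ncard_lt_ncard (s := (Y : Set G))
        (t := (T : Set G)) hlt (Set.toFinite _)
      have hcardG : Nat.card T ≤ Nat.card G := Subgroup.card_le_card_group T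
      have hmem : ∀ r ∈ T, r • e = e ∧ r • f = f := fun r hr => mem_stab2.mp (hY1'.1 (hTY1 hr))
      have h2 := IH T (by omega) hTp w' hw'2 hTw hTkap hTfix e (fun r hr => (hmem r hr).1) f
        (fun r hr => (hmem r hr).2)
      rcases h2 with h2 | h2
      · exact absurd h2.symm hef
      · exact ⟨w', hw'N, hw'2, h2.symm⟩
  by_contra hcon
  push Not at hcon
  obtain ⟨hdc, hdw⟩ := hcon
  have hwc : w • c ∈ fixp H Y := le_stab2 hc hwN
  obtain ⟨b, hb, hb2, hbd⟩ := hswap (w • c) hwc d hd (fun h => hdw h.symm)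
  obtain ⟨a, ha, ha2, had⟩ := hswap d hd c hc hdc
  exact triangle hO (x := c) (y := w • c) (z := d)
    (fun v hv hv2 hvc => no_inv_fix hH hw hwY hwfix hv2 (forall_of_mem_normalizer hv) hvc hc)
    hwN hb ha hw hb2 ha2 rfl hbd had

/-- For a pair with `|G_x ∩ G_y|_p` maximal, a Sylow subgroup of `G_x ∩ G_y` fixes only `x`, `y`. -/
theorem exists_max (hH : IsStronglyEmbedded H) {p : ℕ} [hp : Fact p.Prime] (hp2 : p ≠ 2)
    (hs : Star H p) (hcore : CoreHyp G) :
    ∃ x y : G ⧸ H, x ≠ y ∧ ∃ P, SylIn p (stab2 x y) P ∧ ∀ z ∈ fixp H P, z = x ∨ z = y := by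
  classical
  obtain ⟨y0, hy0⟩ := exists_isMaxPair hH ((1 : G) : G ⧸ H)
  obtain ⟨⟨x, y⟩, hxy, hmax⟩ := Set.exists_max_image {q : (G ⧸ H) × (G ⧸ H) | q.1 ≠ q.2}
    (fun q => (Nat.card (stab2 q.1 q.2)).factorization p) (Set.toFinite _) ⟨(_, y0), hy0.1⟩
  have hxy' : x ≠ y := hxy
  obtain ⟨P, hP, -⟩ := exists_sylIn_ge (p := p) (D := stab2 x y) (Q := ⊥) bot_le IsPGroup.of_bot
  refine ⟨x, y, hxy', P, hP, ?_⟩
  have hP' := exists_sylow_map_eq_iff.mp hP
  obtain ⟨w, hw, hwP⟩ := exists_swap_normalizing hH hxy' hP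
  have hwfix : ∀ z : G ⧸ H, w • z = z → z ∉ fixp H P := fun z hz =>
    fix_not_mem hH hs hxy' hP hw hwP hz
  set N := Subgroup.normalizer (P : Set G) with hN
  have hwN : w ∈ N := mem_normalizer_of_forall hwP
  have hno : ∀ a ∈ N, ∀ b ∈ N, orderOf a = 2 → orderOf b = 2 → Commute a b → a = b :=
    fun a ha b hb ha2 hb2 hab => no_comm hH (odd_of_pGroup hp2 hP'.2.1) hw.1 hwP hwfix ha2
      (forall_of_mem_normalizer ha) hb2 (forall_of_mem_normalizer hb) hab
  obtain ⟨O, hO⟩ := hcore N ⟨w, hwN, hw.1⟩ hno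
  have hx : x ∈ fixp H P := fun d hd => (mem_stab2.mp (hP'.1 hd)).1
  have hy : y ∈ fixp H P := fun d hd => (mem_stab2.mp (hP'.1 hd)).2
  have hswap : ∀ e ∈ fixp H P, ∀ f ∈ fixp H P, e ≠ f → ∃ v ∈ N, orderOf v = 2 ∧ v • e = f := by
    intro e he f hf hef
    have hle : P ≤ stab2 e f := fun r hr => mem_stab2.mpr ⟨he r hr, hf r hr⟩
    have h1 : (Nat.card (stab2 e f)).factorization p ≤ (Nat.card (stab2 x y)).factorization p :=
      hmax (e, f) hef
    have h2 : (Nat.card (stab2 x y)).factorization p ≤ (Nat.card (stab2 e f)).factorization p := by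
      rw [← hp.out.pow_dvd_iff_le_factorization Nat.card_pos.ne', ← card_of_sylow_map_eq hP]
      exact Subgroup.card_dvd_of_le hle
    have hPe : SylIn p (stab2 e f) P :=
      exists_sylow_map_eq_of_card hle (by rw [card_of_sylow_map_eq hP, le_antisymm h1 h2])
    obtain ⟨v, hv, hvP⟩ := exists_swap_normalizing hH hef hPe
    exact ⟨v, mem_normalizer_of_forall hvP, hv.1, hv.2⟩
  intro z hz
  by_contra hcon
  push Not at hcon
  obtain ⟨hzx, hzy⟩ := hcon
  obtain ⟨b, hb, hb2, hbd⟩ := hswap y hy z hz hzy.symm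
  obtain ⟨a, ha, ha2, had⟩ := hswap z hz x hx hzx
  exact triangle hO (x := x) (y := y) (z := z)
    (fun v hv hv2 hvc => no_inv_fix hH hw.1 hwP hwfix hv2 (forall_of_mem_normalizer hv) hvc hx)
    hwN hb ha hw.1 hb2 ha2 hw.2 hbd had

omit [Finite G] in
/-- A Sylow `p`-subgroup `P` of `G_x ∩ G_y` with `Fix(P) = {x, y}` is a maximal `p`-subgroup. -/
theorem sylow_of_fixp_pair [Finite G] {p : ℕ} [hp : Fact p.Prime] (hp2 : p ≠ 2) {x y : G ⧸ H}
    {P : Subgroup G} (hP : SylIn p (stab2 x y) P)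
    (hpair : ∀ z ∈ fixp H P, z = x ∨ z = y) {R : Subgroup G} (hR : IsPGroup p R) (hPR : P ≤ R) :
    R = P := by
  have hP' := exists_sylow_map_eq_iff.mp hP
  have hx : x ∈ fixp H P := fun d hd => (mem_stab2.mp (hP'.1 hd)).1
  have hy : y ∈ fixp H P := fun d hd => (mem_stab2.mp (hP'.1 hd)).2
  apply eq_of_normalizer_inf_le hR hPR
  set T := Subgroup.normalizer (P : Set G) ⊓ R with hT
  have hTp : IsPGroup p T := hR.to_le inf_le_right
  have hPT : P ≤ T := le_inf Subgroup.le_normalizer hPR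
  have hTD : T ≤ stab2 x y := by
    intro g hg
    have hodd : Odd (orderOf g) := by
      have h1 := Subgroup.orderOf_dvd_natCard T hg
      exact Odd.of_dvd_nat (odd_of_pGroup hp2 hTp) h1
    obtain ⟨k, hk⟩ := hodd
    have hgx := hpair _ (le_stab2 hx hg.1)
    have hgy := hpair _ (le_stab2 hy hg.1)
    have hpow : ∀ u : G ⧸ H, (g * g) • u = u → g • u = u := by
      intro u hu
      have e : g = (g * g) ^ (k + 1) := by
        rw [← pow_two, ← pow_mul]
        have h2 : 2 * (k + 1) = (2 * k + 1) + 1 := by ring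
        rw [h2, pow_succ, ← hk, pow_orderOf_eq_one, one_mul]
      rw [e]
      have : ∀ n : ℕ, (g * g) ^ n • u = u := by
        intro n
        induction n with
        | zero => rw [pow_zero, one_smul]
        | succ n ih => rw [pow_succ, mul_smul, hu, ih]
      exact this _
    rw [mem_stab2]
    rcases hgx with h1 | h1
    · refine ⟨h1, ?_⟩
      rcases hgy with h2 | h2
      · have : x = y := smul_left_cancel g (h1.trans h2.symm)
        rw [← this]; exact h1
      · exact h2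
    · rcases hgy with h2 | h2
      · have hx2 : (g * g) • x = x := by rw [mul_smul, h1, h2]
        have hy2 : (g * g) • y = y := by rw [mul_smul, h2, h1]
        exact ⟨hpow x hx2, hpow y hy2⟩
      · have : x = y := smul_left_cancel g (h1.trans h2.symm)
        refine ⟨?_, h2⟩
        rw [this]; exact h2
  rw [← hP'.2.2 T hTD hTp hPT]

/-- every `p`-subgroup has a fixed point -/
theorem exists_fix_of_star (hH : IsStronglyEmbedded H) {p : ℕ} [hp : Fact p.Prime] (hp2 : p ≠ 2)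
    (hs : Star H p) (hcore : CoreHyp G) {Y : Subgroup G} (hY : IsPGroup p Y) :
    ∃ c : G ⧸ H, c ∈ fixp H Y := by
  obtain ⟨x0, y0, -, P0, hP0, hpair0⟩ := exists_max hH hp2 hs hcore
  have hP0' := exists_sylow_map_eq_iff.mp hP0
  have hx : x0 ∈ fixp H P0 := fun d hd => (mem_stab2.mp (hP0'.1 hd)).1
  let S0 : Sylow p G := ⟨P0, hP0'.2.1, fun {Q} hQ hle =>
    sylow_of_fixp_pair hp2 hP0 hpair0 hQ hle⟩
  obtain ⟨S, hS⟩ := hY.exists_le_sylow
  obtain ⟨g, hg⟩ := MulAction.exists_smul_eq G S0 S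
  refine ⟨g • x0, fun u hu => ?_⟩
  have h1 : u ∈ (g • S0 : Sylow p G) := by rw [hg]; exact hS hu
  obtain ⟨s, hsm, rfl⟩ : u ∈ ((g • S0 : Sylow p G) : Subgroup G) := h1
  have h2 : s • x0 = x0 := hx s hsm
  change (g * s * g⁻¹) • g • x0 = g • x0
  rw [mul_smul, inv_smul_smul, mul_smul, h2]

/-- If `Star H p` holds, then a Sylow `p`-subgroup of `G_a ∩ G_b`, `a ≠ b`, has exactly the two
fixed points `a` and `b`. -/
theorem fixp_eq_pair_of_star (hH : IsStronglyEmbedded H) {p : ℕ} [hp : Fact p.Prime] (hp2 : p ≠ 2)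
    (hs : Star H p) (hcore : CoreHyp G) (hinv : InvHyp G p) {a b : G ⧸ H} (hab : a ≠ b)
    {P : Subgroup G} (hP : SylIn p (stab2 a b) P) {c : G ⧸ H} (hc : c ∈ fixp H P) :
    c = a ∨ c = b := by
  have hP' := exists_sylow_map_eq_iff.mp hP
  obtain ⟨w, hw, hwP⟩ := exists_swap_normalizing hH hab hP
  have hwfix : ∀ z : G ⧸ H, w • z = z → z ∉ fixp H P := fun z hz =>
    fix_not_mem hH hs hab hP hw hwP hz
  have h1 := fixp_pair_of_kap hH hp2 hcore hinv
    (fun Y hY => exists_fix_of_star hH hp2 hs hcore hY) (Nat.card G + 1) P (by omega) hP'.2.1 w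
    hw.1 hwP (kap_sylow hH hp2 hab hP hw hwP).ge hwfix a
    (fun d hd => (mem_stab2.mp (hP'.1 hd)).1) c hc
  rwa [hw.2] at h1

/-- If `Star H p` holds, then a Sylow `p`-subgroup of `G_a ∩ G_b`, `a ≠ b`, is a maximal
`p`-subgroup of `G`. -/
theorem eq_of_star (hH : IsStronglyEmbedded H) {p : ℕ} [hp : Fact p.Prime] (hp2 : p ≠ 2)
    (hs : Star H p) (hcore : CoreHyp G) (hinv : InvHyp G p) {a b : G ⧸ H} (hab : a ≠ b)
    {P : Subgroup G} (hP : SylIn p (stab2 a b) P) {R : Subgroup G} (hR : IsPGroup p R)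
    (hPR : P ≤ R) : R = P :=
  sylow_of_fixp_pair hp2 hP (fun _ hc => fixp_eq_pair_of_star hH hp2 hs hcore hinv hab hP hc) hR hPR

/-- **Bender**: double transitivity. -/
theorem two_transitive (hH : IsStronglyEmbedded H) {p : ℕ} [hp : Fact p.Prime] (hp2 : p ≠ 2)
    (hs : Star H p) (hcore : CoreHyp G) (hinv : InvHyp G p) {x y z : G ⧸ H} (hxy : x ≠ y)
    (hxz : x ≠ z) : ∃ g : G, g • x = x ∧ g • y = z := by
  have hsyl : ∀ b : G ⧸ H, x ≠ b → ∀ P, SylIn p (stab2 x b) P →
      SylIn p (MulAction.stabilizer G x) P := by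
    intro b hb P hP
    have hP' := exists_sylow_map_eq_iff.mp hP
    rw [SylIn, exists_sylow_map_eq_iff]
    refine ⟨fun g hg => (mem_stab2.mp (hP'.1 hg)).1, hP'.2.1, fun Q _ hQ hPQ => ?_⟩
    exact eq_of_star hH hp2 hs hcore hinv hb hP hQ hPQ
  obtain ⟨P, hP, -⟩ := exists_sylIn_ge (p := p) (D := stab2 x y) (Q := ⊥) bot_le IsPGroup.of_bot
  obtain ⟨Q, hQ, -⟩ := exists_sylIn_ge (p := p) (D := stab2 x z) (Q := ⊥) bot_le IsPGroup.of_bot
  obtain ⟨k, hk, hkPQ⟩ := exists_conj_of_sylow_map_eq (hsyl y hxy P hP) (hsyl z hxz Q hQ)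
  have hkx : k • x = x := hk
  refine ⟨k, hkx, ?_⟩
  have hP' := exists_sylow_map_eq_iff.mp hP
  have hky : k • y ∈ fixp H Q := by
    intro q hq
    rw [← hkPQ] at hq
    obtain ⟨s, hsm, rfl⟩ := hq
    have h2 : s • y = y := (mem_stab2.mp (hP'.1 hsm)).2
    change (k * s * k⁻¹) • k • y = k • y
    rw [mul_smul, inv_smul_smul, mul_smul, h2]
  rcases fixp_eq_pair_of_star hH hp2 hs hcore hinv hxz hQ hky with h | h
  · exfalso
    apply hxy
    apply smul_left_cancel k
    rw [hkx, h]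
  · exact h

end Main

end Cfsg.Agent.TwoFusion.BenderTwoTrans
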