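import Mathlib
import Cfsg.Agent.Lib.Cores

/-!
# Central extensions of degree two with quaternion Sylow 2-subgroups are determined by the quotient

* `exists_hom`: homomorphisms out of `QuaternionGroup n`.
* `lift_quaternion`: an embedding of `Q / Z(Q)` into `L / ⟨z⟩` (`Q` generalized quaternion, `z` the unique
  involution of `L`) lifts to `Q → L`.
* `mulEquiv_of_quotient`: if `L₁` has generalized quaternion Sylow 2-subgroups and a central involution `z₁`,
  `L₂` has a unique involution `z₂` (central), and `L₁ / ⟨z₁⟩ ≃ L₂ / ⟨z₂⟩`, then `L₁ ≃ L₂`.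
-/

set_option autoImplicit false

open Subgroup QuaternionGroup

namespace Cfsg.Agent.TwoFusion.QuatCover

theorem pow_val_add {G : Type*} [Group G] {k : ℕ} [NeZero k] {x : G} (hx : x ^ k = 1)
    (i j : ZMod k) : x ^ (i + j).val = x ^ i.val * x ^ j.val := by
  rw [ZMod.val_add, ← pow_add]
  exact (pow_eq_pow_mod _ hx).symm

theorem pow_val_neg {G : Type*} [Group G] {k : ℕ} [NeZero k] {x : G} (hx : x ^ k = 1)
    (i : ZMod k) : x ^ (-i).val = (x ^ i.val)⁻¹ := by
  rw [eq_inv_iff_mul_eq_one, ← pow_val_add hx]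
  simp

theorem pow_val_natCast {G : Type*} [Group G] {k : ℕ} {x : G} (hx : x ^ k = 1)
    (n : ℕ) : x ^ (n : ZMod k).val = x ^ n := by
  rw [ZMod.val_natCast]
  exact (pow_eq_pow_mod _ hx).symm

/-- Homomorphisms out of the generalized quaternion group. -/
theorem exists_hom {G : Type*} [Group G] (n : ℕ) [NeZero n] (x y : G) (hx : x ^ (2 * n) = 1)
    (hy : y ^ 2 = x ^ n) (hxy : y * x * y⁻¹ = x⁻¹) :
    ∃ ψ : QuaternionGroup n →* G, (∀ i, ψ (a i) = x ^ i.val) ∧ (∀ i, ψ (xa i) = y * x ^ i.val) := by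
  have hcomm : ∀ i : ZMod (2 * n), x ^ i.val * y = y * x ^ (-i).val := by
    intro i
    rw [pow_val_neg hx]
    have h1 : y * x ^ i.val * y⁻¹ = (x ^ i.val)⁻¹ := by
      rw [← conj_pow, hxy, inv_pow]
    have h2 : y * (x ^ i.val)⁻¹ * y⁻¹ = x ^ i.val := by
      calc y * (x ^ i.val)⁻¹ * y⁻¹ = (y * x ^ i.val * y⁻¹)⁻¹ := by group
        _ = x ^ i.val := by rw [h1, inv_inv]
    calc x ^ i.val * y = (y * (x ^ i.val)⁻¹ * y⁻¹) * y := by rw [h2]
      _ = y * (x ^ i.val)⁻¹ := by group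
  let F : QuaternionGroup n → G := fun g => match g with
    | a i => x ^ i.val
    | xa i => y * x ^ i.val
  refine ⟨⟨⟨F, ?_⟩, ?_⟩, fun i => rfl, fun i => rfl⟩
  · change x ^ (0 : ZMod (2 * n)).val = 1
    simp
  · rintro (i | i) (j | j)
    · rw [a_mul_a]
      exact pow_val_add hx i j
    · rw [a_mul_xa]
      change y * x ^ (j - i).val = x ^ i.val * (y * x ^ j.val)
      rw [← mul_assoc, hcomm, mul_assoc, ← pow_val_add hx, neg_add_eq_sub]
    · rw [xa_mul_a]
      change y * x ^ (i + j).val = y * x ^ i.val * x ^ j.val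
      rw [mul_assoc, ← pow_val_add hx]
    · rw [xa_mul_xa]
      change x ^ ((n : ZMod (2 * n)) + j - i).val = y * x ^ i.val * (y * x ^ j.val)
      have h3 : y * x ^ i.val * (y * x ^ j.val) = y * (x ^ i.val * y) * x ^ j.val := by group
      rw [h3, hcomm, ← mul_assoc, ← sq, hy, ← pow_val_natCast hx n, ← pow_val_add hx, ← pow_val_add hx]
      congr 2
      ring

theorem mem_zpowers_of_orderOf_two {L : Type*} [Group L] {z x : L} (hz2 : orderOf z = 2)
    (hx : x ∈ Subgroup.zpowers z) : x = 1 ∨ x = z := by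
  obtain ⟨k, rfl⟩ := hx
  have h1 : z ^ (2 : ℤ) = 1 := by
    have := pow_orderOf_eq_one z
    rw [hz2] at this
    exact_mod_cast this
  rcases Int.even_or_odd k with ⟨j, hj⟩ | ⟨j, hj⟩
  · left
    simp only
    rw [hj, ← two_mul, zpow_mul, h1, one_zpow]
  · right
    simp only
    rw [hj, zpow_add, zpow_mul, h1, one_zpow, one_mul, zpow_one]

/-- Lifting lemma: an embedding of `Q / Z(Q)`, `Q` generalized quaternion, into `L / ⟨z⟩`, where `z` is the
unique involution of `L`, lifts to `Q`. -/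
theorem lift_quaternion {L : Type*} [Group L] (z : L) (hz2 : orderOf z = 2)
    (hu : ∀ x : L, orderOf x = 2 → x = z) [hN : (Subgroup.zpowers z).Normal] (n k : ℕ) (hk : 0 < k)
    (hn2 : n = 2 * k)
    (f : QuaternionGroup n →* L ⧸ Subgroup.zpowers z)
    (hf : ∀ x, f x = 1 → x = 1 ∨ x = a (n : ZMod (2 * n)))
    (hfz : f (a (n : ZMod (2 * n))) = 1) :
    ∃ ψ : QuaternionGroup n →* L, (∀ x, (QuotientGroup.mk (ψ x) : L ⧸ Subgroup.zpowers z) = f x) ∧
      ψ (a (n : ZMod (2 * n))) = z := by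
  have : NeZero n := ⟨by omega⟩
  -- squares
  have hsq : ∀ w : L, (QuotientGroup.mk w : L ⧸ Subgroup.zpowers z) ^ 2 = 1 →
      (QuotientGroup.mk w : L ⧸ Subgroup.zpowers z) ≠ 1 → w ^ 2 = z := by
    intro w h1 h2
    rw [← QuotientGroup.mk_pow, QuotientGroup.eq_one_iff] at h1
    rcases mem_zpowers_of_orderOf_two hz2 h1 with h | h
    · exfalso
      apply h2
      rw [QuotientGroup.eq_one_iff]
      by_cases hw : w = 1
      · rw [hw]; exact Subgroup.one_mem _
      · rw [hu w (orderOf_eq_prime h hw)]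
        exact Subgroup.mem_zpowers z
    · exact h
  obtain ⟨x, hx⟩ := QuotientGroup.mk_surjective (f (a 1))
  obtain ⟨y, hy⟩ := QuotientGroup.mk_surjective (f (xa 0))
  -- nontriviality of images
  have hxpow : ∀ j : ℕ, (QuotientGroup.mk (x ^ j) : L ⧸ Subgroup.zpowers z) = f (a (j : ZMod (2 * n))) := by
    intro j
    rw [QuotientGroup.mk_pow, hx, ← map_pow, a_one_pow]
  have hxn : x ^ n = z := by
    have h1 : (QuotientGroup.mk (x ^ k) : L ⧸ Subgroup.zpowers z) ≠ 1 := by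
      rw [hxpow]
      intro h
      have h3 : ∀ j : ℕ, j < 2 * n → ∀ l : ℕ, l < 2 * n → (j : ZMod (2 * n)) = l → j = l := by
        intro j hj l hl hjl
        have := (ZMod.natCast_eq_natCast_iff' j l (2 * n)).mp hjl
        rwa [Nat.mod_eq_of_lt hj, Nat.mod_eq_of_lt hl] at this
      rcases hf _ h with h | h
      · rw [one_def] at h
        have h4 : (k : ZMod (2 * n)) = ((0 : ℕ) : ZMod (2 * n)) := by
          simpa using (QuaternionGroup.a.inj h)
        have := h3 _ (by omega) _ (by omega) h4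
        omega
      · have h4 := QuaternionGroup.a.inj h
        have := h3 _ (by omega) _ (by omega) h4
        omega
    have h2 := hsq (x ^ k) (by
      rw [← QuotientGroup.mk_pow, ← pow_mul, mul_comm, ← hn2, hxpow]
      exact hfz) h1
    rwa [← pow_mul, mul_comm, ← hn2] at h2
  have hy2 : y ^ 2 = z := by
    apply hsq
    · rw [hy, ← map_pow, xa_sq]
      exact hfz
    · rw [hy]
      intro h
      rcases hf _ h with h | h
      · rw [one_def] at h; cases h
      · cases h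
  have hyx2 : (y * x) ^ 2 = z := by
    have h1 : (QuotientGroup.mk (y * x) : L ⧸ Subgroup.zpowers z) = f (xa 1) := by
      rw [QuotientGroup.mk_mul, hx, hy, ← map_mul, xa_mul_a, zero_add]
    apply hsq
    · rw [h1, ← map_pow, xa_sq]
      exact hfz
    · rw [h1]
      intro h
      rcases hf _ h with h | h
      · rw [one_def] at h; cases h
      · cases h
  have hrel : y * x * y⁻¹ = x⁻¹ := by
    -- y x y x = z = y^2
    have h1 : y * x * (y * x) = y * y := by rw [← sq, ← sq, hyx2, hy2]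
    have h2 : x * y * x = y := by
      have := congrArg (fun w => y⁻¹ * w) h1
      simpa [mul_assoc] using this
    have hyc : y * x = x⁻¹ * y := by
      rw [eq_inv_mul_iff_mul_eq, ← mul_assoc, h2]
    rw [hyc]; group
  obtain ⟨ψ, hψa, hψxa⟩ := exists_hom n x y (by
    rw [mul_comm, pow_mul, hxn, ← hz2, pow_orderOf_eq_one]) (by rw [hy2, hxn]) hrel
  refine ⟨ψ, ?_, ?_⟩
  · rintro (i | i)
    · rw [hψa, hxpow, ZMod.natCast_zmod_val]
    · rw [hψxa, QuotientGroup.mk_mul, hxpow, ZMod.natCast_zmod_val, hy, ← map_mul, xa_mul_a, zero_add]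
  · rw [hψa, pow_val_natCast, hxn]
    rw [mul_comm, pow_mul, hxn, ← hz2, pow_orderOf_eq_one]

/-- The transfer of a central element. -/
theorem transfer_of_mem_center {G A : Type*} [Group G] [CommGroup A] {H : Subgroup G}
    (χ : H →* A) [H.FiniteIndex] (c : G) (hc : c ∈ Subgroup.center G) (hcH : c ∈ H) :
    MonoidHom.transfer χ c = χ ⟨c, hcH⟩ ^ H.index := by
  have h := MonoidHom.transfer_eq_pow χ c (by
    intro k g _
    have h1 := Subgroup.mem_center_iff.mp (Subgroup.pow_mem _ hc k) g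
    calc g⁻¹ * c ^ k * g = g⁻¹ * (g * c ^ k) := by rw [mul_assoc, h1]
      _ = c ^ k := by group)
  rw [h]
  rw [← map_pow]
  rfl

theorem eq_a_of_sq_eq_one (n : ℕ) [NeZero n] (x : QuaternionGroup n) (hx : x ^ 2 = 1) (hx1 : x ≠ 1) :
    x = a (n : ZMod (2 * n)) := by
  rcases x with i | i
  · have h2 : (a i : QuaternionGroup n) ^ 2 = a (i + i) := by rw [sq, a_mul_a]
    rw [h2, one_def] at hx
    have h3 : i + i = 0 := QuaternionGroup.a.inj hx
    have h4 : i ≠ 0 := by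
      rintro rfl
      exact hx1 rfl
    have h5 : ((i.val + i.val : ℕ) : ZMod (2 * n)) = 0 := by
      push_cast
      rw [ZMod.natCast_zmod_val, h3]
    rw [ZMod.natCast_eq_zero_iff] at h5
    have h6 : i.val < 2 * n := ZMod.val_lt i
    have h7 : i.val ≠ 0 := by
      intro h
      exact h4 ((ZMod.val_eq_zero i).mp h)
    obtain ⟨c, hc⟩ := h5
    have h8 : c = 1 := by
      have h9 : c < 2 := by
        by_contra h
        have : 2 ≤ c := by omega
        nlinarith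
      have h10 : 0 < c := by
        rcases Nat.eq_zero_or_pos c with h | h
        · rw [h] at hc; omega
        · exact h
      omega
    have h9 : i.val = n := by rw [h8] at hc; omega
    have h10 : (n : ZMod (2 * n)) = i := by
      conv_rhs => rw [← ZMod.natCast_zmod_val i, h9]
    rw [h10]
  · rw [xa_sq, one_def] at hx
    have h3 : (n : ZMod (2 * n)) = 0 := QuaternionGroup.a.inj hx
    rw [ZMod.natCast_eq_zero_iff] at h3
    have := Nat.le_of_dvd (Nat.pos_of_ne_zero (NeZero.ne n)) h3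
    have := Nat.pos_of_ne_zero (NeZero.ne n)
    omega

open scoped IsMulCommutative in
/-- A central extension of degree two with generalized quaternion Sylow `2`-subgroups is determined by its
quotient, among the groups with a unique involution. -/
theorem mulEquiv_of_quotient {L₁ L₂ : Type*} [Group L₁] [Group L₂] [Finite L₁] [Finite L₂]
    (z₁ : L₁) (z₂ : L₂) (hz₁ : z₁ ∈ Subgroup.center L₁) (ho₁ : orderOf z₁ = 2)
    (hz₂ : z₂ ∈ Subgroup.center L₂) (ho₂ : orderOf z₂ = 2) (hu₂ : ∀ x : L₂, orderOf x = 2 → x = z₂)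
    [hn₁ : (Subgroup.zpowers z₁).Normal] [hn₂ : (Subgroup.zpowers z₂).Normal]
    (Q₁ : Sylow 2 L₁) (m : ℕ) (hm : 1 ≤ m) (e : (Q₁ : Subgroup L₁) ≃* QuaternionGroup (2 ^ m))
    (φ : L₁ ⧸ Subgroup.zpowers z₁ ≃* L₂ ⧸ Subgroup.zpowers z₂) : Nonempty (L₁ ≃* L₂) := by
  have hz₁1 : z₁ ≠ 1 := by
    rintro rfl
    simp at ho₁
  have hz₂1 : z₂ ≠ 1 := by
    rintro rfl
    simp at ho₂
  have hz₁sq : z₁ ^ 2 = 1 := by rw [← ho₁, pow_orderOf_eq_one]
  have hz₂sq : z₂ ^ 2 = 1 := by rw [← ho₂, pow_orderOf_eq_one]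
  have hz₂odd : ∀ k : ℕ, Odd k → z₂ ^ k = z₂ := by
    rintro k ⟨j, rfl⟩
    rw [pow_add, pow_mul, hz₂sq, one_pow, one_mul, pow_one]
  -- z₁ lies in Q₁
  have hz₁Q : z₁ ∈ (Q₁ : Subgroup L₁) := by
    have h1 : Subgroup.zpowers z₁ ≤ Cfsg.pCore 2 L₁ := by
      refine Cfsg.Agent.Lib.Cores.le_pCore hn₁ ?_
      exact IsPGroup.of_card (n := 1) (by rw [Nat.card_zpowers, ho₁]; rfl)
    exact Cfsg.Agent.Lib.Cores.pCore_le_sylow Q₁ (h1 (Subgroup.mem_zpowers z₁))
  have hne : NeZero (2 ^ m) := ⟨by positivity⟩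
  have hez : e ⟨z₁, hz₁Q⟩ = a ((2 ^ m : ℕ) : ZMod (2 * 2 ^ m)) := by
    apply eq_a_of_sq_eq_one
    · rw [← map_pow]
      have : (⟨z₁, hz₁Q⟩ : (Q₁ : Subgroup L₁)) ^ 2 = 1 := by
        ext
        simpa using hz₁sq
      rw [this, map_one]
    · intro h
      rw [map_eq_one_iff e e.injective] at h
      exact hz₁1 (congrArg Subtype.val h)
  -- the embedding of the quotient of the Sylow subgroup
  let f : QuaternionGroup (2 ^ m) →* L₂ ⧸ Subgroup.zpowers z₂ :=
    ((φ.toMonoidHom.comp (QuotientGroup.mk' (Subgroup.zpowers z₁))).comp (Q₁ : Subgroup L₁).subtype).comp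
      e.symm.toMonoidHom
  have hfapp : ∀ x, f x = φ (QuotientGroup.mk ((e.symm x : (Q₁ : Subgroup L₁)) : L₁)) := fun x => rfl
  have hf : ∀ x, f x = 1 → x = 1 ∨ x = a ((2 ^ m : ℕ) : ZMod (2 * 2 ^ m)) := by
    intro x hx
    rw [hfapp, map_eq_one_iff φ φ.injective, QuotientGroup.eq_one_iff] at hx
    rcases mem_zpowers_of_orderOf_two ho₁ hx with h | h
    · left
      have : e.symm x = 1 := Subtype.ext h
      rwa [map_eq_one_iff e.symm e.symm.injective] at this
    · right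
      rw [← hez]
      have : e.symm x = ⟨z₁, hz₁Q⟩ := Subtype.ext h
      rw [← this, MulEquiv.apply_symm_apply]
  have hfz : f (a ((2 ^ m : ℕ) : ZMod (2 * 2 ^ m))) = 1 := by
    rw [← hez, hfapp, MulEquiv.symm_apply_apply, map_eq_one_iff φ φ.injective, QuotientGroup.eq_one_iff]
    exact Subgroup.mem_zpowers z₁
  obtain ⟨ψ, hψ, hψz⟩ := lift_quaternion z₂ ho₂ hu₂ (2 ^ m) (2 ^ (m - 1)) (by positivity)
    (by rw [← pow_succ']; congr 1; omega) f hf hfz
  -- the fibre product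
  let f₁ : L₁ × L₂ →* L₂ ⧸ Subgroup.zpowers z₂ :=
    (φ.toMonoidHom.comp (QuotientGroup.mk' (Subgroup.zpowers z₁))).comp (MonoidHom.fst L₁ L₂)
  let f₂ : L₁ × L₂ →* L₂ ⧸ Subgroup.zpowers z₂ :=
    (QuotientGroup.mk' (Subgroup.zpowers z₂)).comp (MonoidHom.snd L₁ L₂)
  let E : Subgroup (L₁ × L₂) := f₁.eqLocus f₂
  have hE : ∀ p : L₁ × L₂, p ∈ E ↔ φ (QuotientGroup.mk p.1) = QuotientGroup.mk p.2 := fun p => Iff.rfl
  let pr : E →* L₁ := (MonoidHom.fst L₁ L₂).comp E.subtype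
  have hpr : Function.Surjective pr := by
    intro x
    obtain ⟨y, hy⟩ := QuotientGroup.mk_surjective (φ (QuotientGroup.mk x))
    exact ⟨⟨(x, y), hy.symm⟩, rfl⟩
  let P : Subgroup E := (Q₁ : Subgroup L₁).comap pr
  have hPidx : P.index = (Q₁ : Subgroup L₁).index := Subgroup.index_comap_of_surjective _ hpr
  have hPodd : Odd P.index := by
    rw [hPidx, ← Nat.not_even_iff_odd, even_iff_two_dvd]
    exact Q₁.not_dvd_index
  have hmemP : ∀ p : E, p ∈ P ↔ (p : L₁ × L₂).1 ∈ (Q₁ : Subgroup L₁) := fun p => Iff.rfl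
  have hcomm : ∀ (p : P), (ψ (e ⟨((p : E) : L₁ × L₂).1, p.2⟩))⁻¹ * ((p : E) : L₁ × L₂).2 ∈
      Subgroup.zpowers z₂ := by
    intro p
    rw [← QuotientGroup.eq, hψ, hfapp, MulEquiv.symm_apply_apply]
    exact (p : E).2
  let χ : P →* Subgroup.zpowers z₂ :=
    { toFun := fun p => ⟨(ψ (e ⟨((p : E) : L₁ × L₂).1, p.2⟩))⁻¹ * ((p : E) : L₁ × L₂).2, hcomm p⟩
      map_one' := by
        ext
        have : (⟨((1 : P) : E).1.1, (1 : P).2⟩ : (Q₁ : Subgroup L₁)) = 1 := rfl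
        simp only [this, map_one, inv_one, one_mul]
        rfl
      map_mul' := by
        intro p q
        apply Subtype.ext
        have h1 : (⟨((p * q : P) : E).1.1, (p * q).2⟩ : (Q₁ : Subgroup L₁)) =
          ⟨((p : E) : L₁ × L₂).1, p.2⟩ * ⟨((q : E) : L₁ × L₂).1, q.2⟩ := rfl
        have h2 : (((p * q : P) : E) : L₁ × L₂).2 = ((p : E) : L₁ × L₂).2 * ((q : E) : L₁ × L₂).2 := rfl
        have hc : (ψ (e ⟨((p : E) : L₁ × L₂).1, p.2⟩))⁻¹ * ((p : E) : L₁ × L₂).2 ∈ Subgroup.center L₂ :=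
          (Subgroup.zpowers_le.mpr hz₂) (hcomm p)
        change (ψ (e ⟨((p * q : P) : E).1.1, (p * q).2⟩))⁻¹ * (((p * q : P) : E) : L₁ × L₂).2 =
          ((ψ (e ⟨((p : E) : L₁ × L₂).1, p.2⟩))⁻¹ * ((p : E) : L₁ × L₂).2) *
          ((ψ (e ⟨((q : E) : L₁ × L₂).1, q.2⟩))⁻¹ * ((q : E) : L₁ × L₂).2)
        rw [h1, h2, map_mul, map_mul, mul_inv_rev]
        have h3 := Subgroup.mem_center_iff.mp hc (ψ (e ⟨((q : E) : L₁ × L₂).1, q.2⟩))⁻¹
        calc (ψ (e ⟨((q : E) : L₁ × L₂).1, q.2⟩))⁻¹ * (ψ (e ⟨((p : E) : L₁ × L₂).1, p.2⟩))⁻¹ *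
              (((p : E) : L₁ × L₂).2 * ((q : E) : L₁ × L₂).2)
            = ((ψ (e ⟨((q : E) : L₁ × L₂).1, q.2⟩))⁻¹ * ((ψ (e ⟨((p : E) : L₁ × L₂).1, p.2⟩))⁻¹ *
              ((p : E) : L₁ × L₂).2)) * ((q : E) : L₁ × L₂).2 := by group
          _ = _ := by rw [h3]; group }
  have hχ : ∀ p : P, ((χ p : Subgroup.zpowers z₂) : L₂) =
    (ψ (e ⟨((p : E) : L₁ × L₂).1, p.2⟩))⁻¹ * ((p : E) : L₁ × L₂).2 := fun p => rfl
  have hfin : P.FiniteIndex := inferInstance
  let τ : E →* Subgroup.zpowers z₂ := MonoidHom.transfer χ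
  -- the two central elements
  let c₁ : E := ⟨(z₁, 1), by
    rw [hE]
    have : (QuotientGroup.mk z₁ : L₁ ⧸ Subgroup.zpowers z₁) = 1 := by
      rw [QuotientGroup.eq_one_iff]; exact Subgroup.mem_zpowers z₁
    simp only [this, map_one, QuotientGroup.mk_one]⟩
  let c₂ : E := ⟨(1, z₂), by
    rw [hE]
    have : (QuotientGroup.mk z₂ : L₂ ⧸ Subgroup.zpowers z₂) = 1 := by
      rw [QuotientGroup.eq_one_iff]; exact Subgroup.mem_zpowers z₂
    simp only [this, map_one, QuotientGroup.mk_one]⟩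
  have hc₁ : c₁ ∈ Subgroup.center E := by
    rw [Subgroup.mem_center_iff]
    rintro ⟨⟨x, y⟩, h⟩
    apply Subtype.ext
    apply Prod.ext
    · exact Subgroup.mem_center_iff.mp hz₁ x
    · change y * 1 = 1 * y
      simp
  have hc₂ : c₂ ∈ Subgroup.center E := by
    rw [Subgroup.mem_center_iff]
    rintro ⟨⟨x, y⟩, h⟩
    apply Subtype.ext
    apply Prod.ext
    · change x * 1 = 1 * x
      simp
    · exact Subgroup.mem_center_iff.mp hz₂ y
  have hc₁P : c₁ ∈ P := hz₁Q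
  have hc₂P : c₂ ∈ P := (Q₁ : Subgroup L₁).one_mem
  have hτ₁ : ((τ c₁ : Subgroup.zpowers z₂) : L₂) = z₂ := by
    have h1 : τ c₁ = χ ⟨c₁, hc₁P⟩ ^ P.index := transfer_of_mem_center χ c₁ hc₁ hc₁P
    rw [h1, Subgroup.coe_pow, hχ]
    have h2 : (⟨((⟨c₁, hc₁P⟩ : P) : E).1.1, hc₁P⟩ : (Q₁ : Subgroup L₁)) = ⟨z₁, hz₁Q⟩ := rfl
    have h3 : (((⟨c₁, hc₁P⟩ : P) : E) : L₁ × L₂).2 = 1 := rfl
    rw [h2, h3, hez, hψz, mul_one]
    have h4 : z₂⁻¹ = z₂ := by
      rw [inv_eq_iff_mul_eq_one, ← sq, hz₂sq]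
    rw [h4, hz₂odd _ hPodd]
  have hτ₂ : ((τ c₂ : Subgroup.zpowers z₂) : L₂) = z₂ := by
    have h1 : τ c₂ = χ ⟨c₂, hc₂P⟩ ^ P.index := transfer_of_mem_center χ c₂ hc₂ hc₂P
    rw [h1, Subgroup.coe_pow, hχ]
    have h2 : (⟨((⟨c₂, hc₂P⟩ : P) : E).1.1, hc₂P⟩ : (Q₁ : Subgroup L₁)) = 1 := rfl
    have h3 : (((⟨c₂, hc₂P⟩ : P) : E) : L₁ × L₂).2 = z₂ := rfl
    rw [h2, h3, map_one, map_one, inv_one, one_mul, hz₂odd _ hPodd]
  have hτval : ∀ p : E, τ p = 1 ∨ ((τ p : Subgroup.zpowers z₂) : L₂) = z₂ := by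
    intro p
    rcases mem_zpowers_of_orderOf_two ho₂ (τ p).2 with h | h
    · left; exact Subtype.ext h
    · right; exact h
  let F : Subgroup E := τ.ker
  let g₁ : F →* L₁ := pr.comp F.subtype
  let g₂ : F →* L₂ := ((MonoidHom.snd L₁ L₂).comp E.subtype).comp F.subtype
  have hinj₁ : Function.Injective g₁ := by
    rw [injective_iff_map_eq_one]
    rintro ⟨⟨⟨x, y⟩, hxy⟩, hF⟩ h
    have hx : x = 1 := h
    subst hx
    rw [hE] at hxy
    have h1 : (QuotientGroup.mk y : L₂ ⧸ Subgroup.zpowers z₂) = 1 := by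
      rw [← hxy]; exact map_one φ
    rw [QuotientGroup.eq_one_iff] at h1
    rcases mem_zpowers_of_orderOf_two ho₂ h1 with h2 | h2
    · subst h2; rfl
    · exfalso
      subst h2
      have h3 : τ c₂ = 1 := hF
      rw [h3] at hτ₂
      exact hz₂1 hτ₂.symm
  have hsurj₁ : Function.Surjective g₁ := by
    intro x
    obtain ⟨p, hp⟩ := hpr x
    rcases hτval p with h | h
    · exact ⟨⟨p, h⟩, hp⟩
    · refine ⟨⟨p * c₂, ?_⟩, ?_⟩
      · change τ (p * c₂) = 1
        rw [map_mul]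
        apply Subtype.ext
        rw [Subgroup.coe_mul, h, hτ₂, ← sq, hz₂sq]
        rfl
      · change pr (p * c₂) = x
        rw [map_mul, hp]
        change x * 1 = x
        simp
  have hinj₂ : Function.Injective g₂ := by
    rw [injective_iff_map_eq_one]
    rintro ⟨⟨⟨x, y⟩, hxy⟩, hF⟩ h
    have hy : y = 1 := h
    subst hy
    rw [hE] at hxy
    have h1 : (QuotientGroup.mk x : L₁ ⧸ Subgroup.zpowers z₁) = 1 := by
      rw [← map_eq_one_iff φ φ.injective]; exact hxy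
    rw [QuotientGroup.eq_one_iff] at h1
    rcases mem_zpowers_of_orderOf_two ho₁ h1 with h2 | h2
    · subst h2; rfl
    · exfalso
      subst h2
      have h3 : τ c₁ = 1 := hF
      rw [h3] at hτ₁
      exact hz₂1 hτ₁.symm
  have hsurj₂ : Function.Surjective g₂ := by
    intro y
    obtain ⟨x', hx'⟩ := φ.surjective (QuotientGroup.mk y)
    obtain ⟨x, rfl⟩ := QuotientGroup.mk_surjective x'
    let p : E := ⟨(x, y), hx'⟩
    rcases hτval p with h | h
    · exact ⟨⟨p, h⟩, rfl⟩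
    · refine ⟨⟨p * c₁, ?_⟩, ?_⟩
      · change τ (p * c₁) = 1
        rw [map_mul]
        apply Subtype.ext
        rw [Subgroup.coe_mul, h, hτ₁, ← sq, hz₂sq]
        rfl
      · change y * 1 = y
        simp
  exact ⟨(MulEquiv.ofBijective g₁ ⟨hinj₁, hsurj₁⟩).symm.trans (MulEquiv.ofBijective g₂ ⟨hinj₂, hsurj₂⟩)⟩

end Cfsg.Agent.TwoFusion.QuatCover
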