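import Mathlib
import Cfsg.Prelude.Def_CaseTheorems

/-!
# Sectional rank

`ElemSection p X Y` : `Y ≤ X` are subgroups of `G`, `Y` contains the commutators and the `p`-th powers
of elements of `X` (so `X / Y` is an elementary abelian `p`-group).

* `sectionalPRankLE_iff` : sectional `p`-rank at most `k` iff `#X ≤ p ^ k * #Y` for all such pairs.
* `sectionalPRankLE_of_sylow` : reduction to a Sylow `p`-subgroup.
* `sectionalPRankLE_of_cyclic` : a cyclic subgroup of index `≤ p ^ k` gives sectional rank `≤ k + 1`.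
-/

set_option autoImplicit false

namespace Cfsg.Agent.TwoFusion.SectionalRank

open Subgroup

variable {G : Type*} [Group G]

/-- `X / Y` is an elementary abelian section: `Y ≤ X` contains all commutators and `p`-th powers of
elements of `X`. -/
structure ElemSection (p : ℕ) (X Y : Subgroup G) : Prop where
  le : Y ≤ X
  comm : ∀ a ∈ X, ∀ b ∈ X, a * b * a⁻¹ * b⁻¹ ∈ Y
  pow : ∀ a ∈ X, a ^ p ∈ Y

theorem ElemSection.conj_mem {p : ℕ} {X Y : Subgroup G} (h : ElemSection p X Y) {x y : G}
    (hx : x ∈ X) (hy : y ∈ Y) : x * y * x⁻¹ ∈ Y := by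
  have h1 := h.comm x hx y (h.le hy)
  have h2 := Y.mul_mem h1 hy
  simpa using h2

theorem ElemSection.normal {p : ℕ} {X Y : Subgroup G} (h : ElemSection p X Y) :
    (Y.subgroupOf X).Normal := by
  constructor
  intro y hy x
  rw [mem_subgroupOf] at hy ⊢
  exact h.conj_mem x.2 hy

/-- Intersecting a section with a subgroup. -/
theorem ElemSection.inf {p : ℕ} {X Y : Subgroup G} (h : ElemSection p X Y) (Z : Subgroup G) :
    ElemSection p (X ⊓ Z) (Y ⊓ Z) where
  le := inf_le_inf_right _ h.le
  comm a ha b hb := ⟨h.comm a ha.1 b hb.1,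
    Z.mul_mem (Z.mul_mem (Z.mul_mem ha.2 hb.2) (Z.inv_mem ha.2)) (Z.inv_mem hb.2)⟩
  pow a ha := ⟨h.pow a ha.1, Z.pow_mem ha.2 p⟩

/-- Restricting a section to a smaller subgroup. -/
theorem ElemSection.mono {p : ℕ} {X Y Z : Subgroup G} (h : ElemSection p X Y) (hZ : Z ≤ X) :
    ElemSection p Z (Y ⊓ Z) where
  le := inf_le_right
  comm a ha b hb := ⟨h.comm a (hZ ha) b (hZ hb),
    Z.mul_mem (Z.mul_mem (Z.mul_mem ha hb) (Z.inv_mem ha)) (Z.inv_mem hb)⟩
  pow a ha := ⟨h.pow a (hZ ha), Z.pow_mem ha p⟩

/-- Transport along a homomorphism (preimage restricted to a subgroup given by an injection). -/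
theorem ElemSection.comap {H : Type*} [Group H] {p : ℕ} {X Y : Subgroup G}
    (h : ElemSection p X Y) (f : H →* G) : ElemSection p (X.comap f) (Y.comap f) where
  le := Subgroup.comap_mono h.le
  comm a ha b hb := by
    rw [Subgroup.mem_comap] at ha hb ⊢
    rw [map_mul, map_mul, map_mul, map_inv, map_inv]
    exact h.comm _ ha _ hb
  pow a ha := by
    rw [Subgroup.mem_comap] at ha ⊢
    rw [map_pow]
    exact h.pow _ ha

theorem ElemSection.map {H : Type*} [Group H] {p : ℕ} {X Y : Subgroup G}
    (h : ElemSection p X Y) (f : G →* H) : ElemSection p (X.map f) (Y.map f) where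
  le := Subgroup.map_mono h.le
  comm := by
    rintro _ ⟨a, ha, rfl⟩ _ ⟨b, hb, rfl⟩
    rw [← map_mul, ← map_inv, ← map_mul, ← map_inv, ← map_mul]
    exact Subgroup.mem_map_of_mem f (h.comm a ha b hb)
  pow := by
    rintro _ ⟨a, ha, rfl⟩
    rw [← map_pow]
    exact Subgroup.mem_map_of_mem f (h.pow a ha)

theorem card_eq_relIndex_mul (X Y : Subgroup G) (h : Y ≤ X) :
    Nat.card X = Y.relIndex X * Nat.card Y := by
  have := Subgroup.relIndex_mul_relIndex (⊥ : Subgroup G) Y X bot_le h
  rw [Subgroup.relIndex_bot_left, Subgroup.relIndex_bot_left] at this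
  rw [← this, mul_comm]

theorem sectionalPRankLE_iff [Finite G] {p k : ℕ} :
    Cfsg.SectionalPRankLE p k G ↔
      ∀ X Y : Subgroup G, ElemSection p X Y → Nat.card X ≤ p ^ k * Nat.card Y := by
  constructor
  · intro h X Y hXY
    have hn := hXY.normal
    have h1 := h X (Y.subgroupOf X) ⊤ ⟨⟨fun a b => ?_⟩⟩ ?_
    · have h2 : Nat.card (⊤ : Subgroup (X ⧸ Y.subgroupOf X)) = Y.relIndex X := by
        rw [Subgroup.card_top]; rfl
      rw [h2] at h1
      rw [card_eq_relIndex_mul X Y hXY.le]
      exact Nat.mul_le_mul_right _ h1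
    · obtain ⟨a, ha⟩ := a
      obtain ⟨b, hb⟩ := b
      obtain ⟨x, rfl⟩ := QuotientGroup.mk_surjective a
      obtain ⟨y, rfl⟩ := QuotientGroup.mk_surjective b
      apply Subtype.ext
      change (QuotientGroup.mk x : X ⧸ Y.subgroupOf X) * QuotientGroup.mk y =
        QuotientGroup.mk y * QuotientGroup.mk x
      rw [← QuotientGroup.mk_mul, ← QuotientGroup.mk_mul, eq_comm, QuotientGroup.eq,
        mem_subgroupOf]
      have := hXY.comm _ (X.inv_mem x.2) _ (X.inv_mem y.2)
      simpa [mul_assoc] using this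
    · intro a _
      obtain ⟨x, rfl⟩ := QuotientGroup.mk_surjective a
      rw [← QuotientGroup.mk_pow, QuotientGroup.eq_one_iff, mem_subgroupOf]
      exact hXY.pow _ x.2
  · intro h H N hN A hA hAp
    set A' : Subgroup H := A.comap (QuotientGroup.mk' N) with hA'
    have hNA : N ≤ A' := by
      intro x hx
      rw [hA', Subgroup.mem_comap, QuotientGroup.mk'_apply, (QuotientGroup.eq_one_iff x).mpr hx]
      exact A.one_mem
    have hsec : ElemSection p A' N := by
      refine ⟨hNA, fun a ha b hb => ?_, fun a ha => ?_⟩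
      · rw [← QuotientGroup.eq_one_iff]
        have h1 := hA.is_comm.comm ⟨_, ha⟩ ⟨_, hb⟩
        have h2 := congrArg Subtype.val h1
        change (QuotientGroup.mk a : H ⧸ N) * QuotientGroup.mk b =
          QuotientGroup.mk b * QuotientGroup.mk a at h2
        rw [QuotientGroup.mk_mul, QuotientGroup.mk_mul, QuotientGroup.mk_mul,
          QuotientGroup.mk_inv, QuotientGroup.mk_inv, h2]
        group
      · rw [← QuotientGroup.eq_one_iff, QuotientGroup.mk_pow]
        exact hAp _ ha
    have h1 := h _ _ (hsec.map H.subtype)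
    rw [Subgroup.card_map_of_injective H.subtype_injective,
      Subgroup.card_map_of_injective H.subtype_injective] at h1
    have h2 : Nat.card A' = Nat.card A * Nat.card N := by
      rw [card_eq_relIndex_mul A' N hNA]
      congr 1
      have h3 : N.relIndex A' = (⊥ : Subgroup (H ⧸ N)).relIndex A := by
        have h4 : N = (⊥ : Subgroup (H ⧸ N)).comap (QuotientGroup.mk' N) := by
          rw [MonoidHom.comap_bot, QuotientGroup.ker_mk']
        conv_lhs => rw [h4]
        rw [Subgroup.relIndex_comap, hA', Subgroup.map_comap_eq_self_of_surjective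
          (QuotientGroup.mk'_surjective N)]
      rw [h3, Subgroup.relIndex_bot_left]
    rw [h2] at h1
    exact Nat.le_of_mul_le_mul_right h1 Nat.card_pos

theorem relIndex_eq_index_of_sup_eq_top [Finite G] (C : Subgroup G)
    [C.Normal] (M : Subgroup G) (h : M ⊔ C = ⊤) : C.relIndex M = C.index := by
  rw [← Subgroup.relIndex_sup_right M C, h, Subgroup.relIndex_top_right]

/-- In a section `X / Y`, the order of the quotient is read off from a Sylow subgroup. -/
theorem exists_sylow_section [Finite G] {p : ℕ} [hp : Fact p.Prime] (S : Sylow p G)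
    {X Y : Subgroup G} (h : ElemSection p X Y) :
    ∃ X' Y' : Subgroup G, X' ≤ (S : Subgroup G) ∧ ElemSection p X' Y' ∧
      Nat.card X * Nat.card Y' = Nat.card X' * Nat.card Y := by
  have hn := h.normal
  set Q : Subgroup X := Y.subgroupOf X with hQ
  obtain ⟨P⟩ : Nonempty (Sylow p X) := inferInstance
  -- `P Q = X`
  have hPQ : (P : Subgroup X) ⊔ Q = ⊤ := by
    rw [← Subgroup.index_eq_one]
    have h1 : ((P : Subgroup X) ⊔ Q).index ∣ (P : Subgroup X).index :=
      Subgroup.index_dvd_of_le le_sup_left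
    have h2 : ((P : Subgroup X) ⊔ Q).index ∣ Q.index := Subgroup.index_dvd_of_le le_sup_right
    have h3 : IsPGroup p (X ⧸ Q) := by
      intro a
      obtain ⟨x, rfl⟩ := QuotientGroup.mk_surjective a
      refine ⟨1, ?_⟩
      rw [pow_one, ← QuotientGroup.mk_pow, QuotientGroup.eq_one_iff, hQ, mem_subgroupOf]
      exact h.pow _ x.2
    obtain ⟨n, hn'⟩ := IsPGroup.iff_card.mp h3
    have h4 : Q.index = p ^ n := by rw [← hn']; rfl
    have h5 : ¬ p ∣ (P : Subgroup X).index := P.not_dvd_index
    rw [h4] at h2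
    obtain ⟨m, -, hm⟩ := (Nat.dvd_prime_pow hp.out).mp h2
    rcases Nat.eq_zero_or_pos m with rfl | hm0
    · simpa using hm
    · exfalso
      apply h5
      refine dvd_trans ?_ h1
      rw [hm]
      exact dvd_pow_self p hm0.ne'
  have hrel : Q.relIndex (P : Subgroup X) = Q.index := relIndex_eq_index_of_sup_eq_top Q _ hPQ
  -- the image of `P` in `G` is conjugate into `S`
  set P' : Subgroup G := (P : Subgroup X).map X.subtype with hP'
  have hP'p : IsPGroup p P' := P.isPGroup'.map _
  have hP'X : P' ≤ X := Subgroup.map_subtype_le _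
  obtain ⟨T, hT⟩ := hP'p.exists_le_sylow
  obtain ⟨g, hg⟩ := MulAction.exists_smul_eq G T S
  have hsec1 : ElemSection p P' (Y ⊓ P') := h.mono hP'X
  have hcard : Nat.card X * Nat.card (Y ⊓ P' : Subgroup G) = Nat.card P' * Nat.card Y := by
    have e1 : Nat.card X = Y.relIndex X * Nat.card Y := card_eq_relIndex_mul X Y h.le
    have e2 : Nat.card P' = (Y ⊓ P').relIndex P' * Nat.card (Y ⊓ P' : Subgroup G) :=
      card_eq_relIndex_mul P' (Y ⊓ P') inf_le_right
    have e3 : (Y ⊓ P').relIndex P' = Y.relIndex X := by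
      rw [Subgroup.inf_relIndex_right]
      change _ = Q.index
      rw [← hrel]
      have e4 : Q.relIndex (P : Subgroup X) =
          (Q.map X.subtype).relIndex ((P : Subgroup X).map X.subtype) :=
        (Subgroup.relIndex_map_map_of_injective Q (P : Subgroup X) X.subtype_injective).symm
      rw [e4, hQ, Subgroup.map_subgroupOf_eq_of_le h.le]
    rw [e1, e2, e3]
    ring
  refine ⟨P'.map (MulAut.conj g).toMonoidHom, (Y ⊓ P').map (MulAut.conj g).toMonoidHom, ?_,
    hsec1.map _, ?_⟩
  · have h6 : (T : Subgroup G).map (MulAut.conj g).toMonoidHom = (S : Subgroup G) := by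
      rw [← hg]
      rfl
    rw [← h6]
    exact Subgroup.map_mono hT
  · rw [Subgroup.card_map_of_injective (MulAut.conj g).injective,
      Subgroup.card_map_of_injective (MulAut.conj g).injective]
    exact hcard

/-- The sectional rank of a finite group is that of a Sylow subgroup. -/
theorem sectionalPRankLE_of_sylow [Finite G] {p k : ℕ} [hp : Fact p.Prime] (S : Sylow p G)
    (h : Cfsg.SectionalPRankLE p k (S : Subgroup G)) : Cfsg.SectionalPRankLE p k G := by
  rw [sectionalPRankLE_iff] at h ⊢
  intro X Y hXY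
  obtain ⟨X', Y', hX', hsec, hc⟩ := exists_sylow_section S hXY
  have h1 := h _ _ (hsec.comap (S : Subgroup G).subtype)
  have h2 : Nat.card (X'.comap (S : Subgroup G).subtype) = Nat.card X' := by
    have := Subgroup.card_map_of_injective (f := (S : Subgroup G).subtype)
      (K := X'.comap (S : Subgroup G).subtype) (S : Subgroup G).subtype_injective
    rw [← this]
    change Nat.card ((X'.subgroupOf (S : Subgroup G)).map (S : Subgroup G).subtype) = _
    rw [Subgroup.map_subgroupOf_eq_of_le hX']
  have h3 : Nat.card (Y'.comap (S : Subgroup G).subtype) = Nat.card Y' := by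
    have := Subgroup.card_map_of_injective (f := (S : Subgroup G).subtype)
      (K := Y'.comap (S : Subgroup G).subtype) (S : Subgroup G).subtype_injective
    rw [← this]
    change Nat.card ((Y'.subgroupOf (S : Subgroup G)).map (S : Subgroup G).subtype) = _
    rw [Subgroup.map_subgroupOf_eq_of_le (hsec.le.trans hX')]
  rw [h2, h3] at h1
  have h4 : Nat.card X * Nat.card Y' ≤ (p ^ k * Nat.card Y) * Nat.card Y' := by
    rw [hc]
    calc Nat.card X' * Nat.card Y ≤ (p ^ k * Nat.card Y') * Nat.card Y :=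
          Nat.mul_le_mul_right _ h1
      _ = (p ^ k * Nat.card Y) * Nat.card Y' := by ring
  exact Nat.le_of_mul_le_mul_right h4 Nat.card_pos

/-- A cyclic subgroup `C` of index at most `p ^ k` forces sectional `p`-rank at most `k + 1`. -/
theorem sectionalPRankLE_of_cyclic [Finite G] {p k : ℕ} (hp : 0 < p) (C : Subgroup G) [IsCyclic C]
    (hC : C.index ≤ p ^ k) : Cfsg.SectionalPRankLE p (k + 1) G := by
  rw [sectionalPRankLE_iff]
  intro X Y hXY
  have h1 : Nat.card X ≤ p ^ k * Nat.card (X ⊓ C : Subgroup G) := by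
    have := card_eq_relIndex_mul X (X ⊓ C) inf_le_left
    rw [Subgroup.inf_relIndex_left] at this
    rw [this]
    refine Nat.mul_le_mul_right _ (le_trans ?_ hC)
    have h2 : C.relIndex X ≤ C.relIndex ⊤ :=
      Subgroup.relIndex_le_of_le_right le_top (by
        rw [Subgroup.relIndex_top_right]; exact Subgroup.index_ne_zero_of_finite)
    rwa [Subgroup.relIndex_top_right] at h2
  have h2 : Nat.card (X ⊓ C : Subgroup G) ≤ p * Nat.card (Y ⊓ C : Subgroup G) := by
    set Z : Subgroup G := X ⊓ C with hZ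
    have hZc : IsCyclic Z := by
      have := Subgroup.isCyclic (Z.subgroupOf C)
      exact isCyclic_of_surjective (Subgroup.subgroupOfEquivOfLe (inf_le_right : Z ≤ C)).toMonoidHom
        (Subgroup.subgroupOfEquivOfLe (inf_le_right : Z ≤ C)).surjective
    obtain ⟨g, hg⟩ := IsCyclic.exists_generator (α := Z)
    have hgp : ((g : G)) ^ p ∈ Y ⊓ C := ⟨hXY.pow _ g.2.1, C.pow_mem g.2.2 p⟩
    have h3 : Nat.card Z = orderOf g := (orderOf_eq_card_of_forall_mem_zpowers hg).symm
    have h4 : Nat.card (Subgroup.zpowers ((g : G) ^ p)) ≤ Nat.card (Y ⊓ C : Subgroup G) :=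
      Subgroup.card_le_of_le ((Subgroup.zpowers_le).mpr hgp)
    rw [Nat.card_zpowers] at h4
    have h5 : orderOf (g : G) ≤ p * orderOf ((g : G) ^ p) := by
      apply orderOf_le_of_pow_eq_one
      · exact Nat.mul_pos hp (orderOf_pos _)
      · rw [pow_mul, pow_orderOf_eq_one]
    rw [h3, ← Subgroup.orderOf_coe]
    exact h5.trans (Nat.mul_le_mul_left _ h4)
  have h3 : Nat.card (Y ⊓ C : Subgroup G) ≤ Nat.card Y := Subgroup.card_le_of_le inf_le_left
  calc Nat.card X ≤ p ^ k * (p * Nat.card Y) :=
        h1.trans (Nat.mul_le_mul_left _ (h2.trans (Nat.mul_le_mul_left _ h3)))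
    _ = p ^ (k + 1) * Nat.card Y := by ring

/-- A group of order at most `p ^ k` has sectional rank at most `k`. -/
theorem sectionalPRankLE_of_card_le [Finite G] {p k : ℕ} (h : Nat.card G ≤ p ^ k) :
    Cfsg.SectionalPRankLE p k G := by
  rw [sectionalPRankLE_iff]
  intro X Y _
  calc Nat.card X ≤ Nat.card G := Subgroup.card_le_card_group X
    _ ≤ p ^ k := h
    _ ≤ p ^ k * Nat.card Y := Nat.le_mul_of_pos_right _ Nat.card_pos

end Cfsg.Agent.TwoFusion.SectionalRank
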