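import Mathlib

/-!
# The perfect core of a subgroup

`perf H` is the largest perfect subgroup of `H`.  In a finite group it is the last term of the derived series
of `H`, and it is compatible with homomorphisms.
-/

set_option autoImplicit false

namespace Cfsg.Agent.TwoFusion.PerfCore

open Subgroup
open scoped commutatorElement

variable {G : Type*} [Group G] {K : Type*} [Group K]

/-- The perfect core of a subgroup: the largest perfect subgroup contained in it. -/
def perf (H : Subgroup G) : Subgroup G := sSup {P | P ≤ H ∧ ⁅P, P⁆ = P}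

theorem perf_le (H : Subgroup G) : perf H ≤ H := sSup_le fun _ hP => hP.1

theorem le_perf {P H : Subgroup G} (hPH : P ≤ H) (hP : ⁅P, P⁆ = P) : P ≤ perf H :=
  le_sSup ⟨hPH, hP⟩

theorem perf_perfect (H : Subgroup G) : ⁅perf H, perf H⁆ = perf H := by
  apply le_antisymm (commutator_le_self _)
  refine sSup_le fun P hP => ?_
  rw [← hP.2]
  exact commutator_mono (le_sSup hP) (le_sSup hP)

theorem perf_mono {H L : Subgroup G} (h : H ≤ L) : perf H ≤ perf L :=
  le_perf ((perf_le H).trans h) (perf_perfect H)

theorem perf_eq_self {H : Subgroup G} (h : ⁅H, H⁆ = H) : perf H = H :=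
  le_antisymm (perf_le H) (le_perf le_rfl h)

theorem perf_perf (H : Subgroup G) : perf (perf H) = perf H := perf_eq_self (perf_perfect H)

/-- The image of a perfect subgroup is perfect. -/
theorem map_perfect {P : Subgroup G} (hP : ⁅P, P⁆ = P) (f : G →* K) : ⁅P.map f, P.map f⁆ = P.map f := by
  rw [← map_commutator, hP]

/-! ### The derived series inside `G` -/

/-- the derived series of a subgroup, inside the ambient group -/
def D (H : Subgroup G) : ℕ → Subgroup G
  | 0 => H
  | n + 1 => ⁅D H n, D H n⁆

theorem D_succ (H : Subgroup G) (n : ℕ) : D H (n + 1) = ⁅D H n, D H n⁆ := rfl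

theorem map_derivedSeries (H : Subgroup G) (n : ℕ) : (derivedSeries ↥H n).map H.subtype = D H n := by
  induction n with
  | zero => rw [derivedSeries_zero, ← MonoidHom.range_eq_map, Subgroup.range_subtype]; rfl
  | succ n ih => rw [derivedSeries_succ, map_commutator, ih, D_succ]

theorem map_D (H : Subgroup G) (f : G →* K) (n : ℕ) : (D H n).map f = D (H.map f) n := by
  induction n with
  | zero => rfl
  | succ n ih => rw [D_succ, D_succ, map_commutator, ih]

theorem D_antitone (H : Subgroup G) : Antitone (D H) :=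
  antitone_nat_of_succ_le fun n => commutator_le_self (D H n)

theorem perf_le_D (H : Subgroup G) (n : ℕ) : perf H ≤ D H n := by
  induction n with
  | zero => exact perf_le H
  | succ n ih =>
    rw [← perf_perfect H]
    exact commutator_mono ih ih

theorem exists_D_eq [Finite G] (H : Subgroup G) : ∃ n, D H n = perf H ∧ ∀ m, n ≤ m → D H m = perf H := by
  have key : ∃ n, D H (n + 1) = D H n := by
    by_contra hc
    push Not at hc
    have hlt : ∀ n, D H (n + 1) < D H n := fun n =>
      lt_of_le_of_ne (commutator_le_self (D H n)) (hc n)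
    have hanti : StrictAnti (D H) := strictAnti_nat_of_succ_lt hlt
    exact not_injective_infinite_finite (D H) hanti.injective
  obtain ⟨n, hn⟩ := key
  have h1 : D H n = perf H :=
    le_antisymm (le_perf (D_antitone H (Nat.zero_le n)) hn) (perf_le_D H n)
  refine ⟨n, h1, fun m hm => ?_⟩
  exact le_antisymm ((D_antitone H hm).trans h1.le) (perf_le_D H m)

/-- In a finite group the perfect core is the intersection of the derived series. -/
theorem perf_eq_iInf [Finite G] (H : Subgroup G) :
    perf H = (⨅ n : ℕ, derivedSeries ↥H n).map H.subtype := by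
  obtain ⟨n, hn, hm⟩ := exists_D_eq H
  apply le_antisymm
  · intro x hx
    have hxH : x ∈ H := perf_le H hx
    refine ⟨⟨x, hxH⟩, ?_, rfl⟩
    rw [SetLike.mem_coe, mem_iInf]
    intro m
    have h1 : x ∈ (derivedSeries ↥H m).map H.subtype := by
      rw [map_derivedSeries]; exact perf_le_D H m hx
    obtain ⟨y, hy, hyx⟩ := h1
    have : y = ⟨x, hxH⟩ := Subtype.ext hyx
    rwa [← this]
  · rw [← hn, ← map_derivedSeries]
    exact map_mono (iInf_le _ n)

/-- In a finite group the perfect core is compatible with homomorphisms. -/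
theorem map_perf [Finite G] (f : G →* K) (H : Subgroup G) : (perf H).map f = perf (H.map f) := by
  apply le_antisymm
  · exact le_perf (map_mono (perf_le H)) (map_perfect (perf_perfect H) f)
  · obtain ⟨n, hn, -⟩ := exists_D_eq H
    rw [← hn, map_D]
    exact perf_le_D _ n

theorem perf_eq_bot_of_solvable {H : Subgroup G} (h : Group.IsSolvable ↥H) : perf H = ⊥ := by
  obtain ⟨n, hn⟩ := (Group.isSolvable_def _).1 h
  rw [eq_bot_iff]
  refine (perf_le_D H n).trans ?_
  rw [← map_derivedSeries, hn, Subgroup.map_bot]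

theorem solvable_of_perf_eq_bot [Finite G] {H : Subgroup G} (h : perf H = ⊥) : Group.IsSolvable ↥H := by
  obtain ⟨n, hn, -⟩ := exists_D_eq H
  rw [Group.isSolvable_def]
  refine ⟨n, ?_⟩
  have h1 : (derivedSeries ↥H n).map H.subtype = ⊥ := by rw [map_derivedSeries, hn, h]
  exact (Subgroup.map_eq_bot_iff_of_injective _ H.subtype_injective).1 h1

/-- A perfect solvable subgroup is trivial. -/
theorem eq_bot_of_perfect_of_solvable {P : Subgroup G} (hP : ⁅P, P⁆ = P) (h : Group.IsSolvable ↥P) : P = ⊥ := by
  rw [← perf_eq_self hP]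
  exact perf_eq_bot_of_solvable h

/-- A perfect subgroup lies in the kernel of each homomorphism to a solvable group. -/
theorem le_ker_of_perfect {P : Subgroup G} (hP : ⁅P, P⁆ = P) (f : G →* K) (h : Group.IsSolvable ↥(P.map f)) :
    P ≤ f.ker := by
  have h1 := eq_bot_of_perfect_of_solvable (map_perfect hP f) h
  exact (Subgroup.map_eq_bot_iff _).1 h1

theorem conj_mem_perf {H : Subgroup G} {g : G} (hg : g ∈ normalizer (H : Set G)) {x : G} (hx : x ∈ perf H) :
    g * x * g⁻¹ ∈ perf H := by
  have h1 : (perf H).map (MulAut.conj g).toMonoidHom ≤ perf H := by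
    refine le_perf ?_ (map_perfect (perf_perfect H) _)
    rintro _ ⟨y, hy, rfl⟩
    exact (mem_normalizer_iff.1 hg y).1 (perf_le H hy)
  exact h1 ⟨x, hx, rfl⟩

theorem normalizer_le_normalizer_perf (H : Subgroup G) :
    normalizer (H : Set G) ≤ normalizer (perf H : Set G) := by
  intro g hg
  rw [mem_normalizer_iff]
  intro x
  refine ⟨fun hx => conj_mem_perf hg hx, fun hx => ?_⟩
  have h2 : g⁻¹ ∈ normalizer (H : Set G) := (normalizer (H : Set G)).inv_mem hg
  have h3 := conj_mem_perf h2 hx
  have e : g⁻¹ * (g * x * g⁻¹) * g⁻¹⁻¹ = x := by group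
  rwa [e] at h3

theorem perf_normal {H : Subgroup G} (hH : H.Normal) : (perf H).Normal := by
  refine ⟨fun x hx g => conj_mem_perf ?_ hx⟩
  rw [Subgroup.normalizer_eq_top]
  exact mem_top g

/-- Three subgroups: if `P` is perfect and `⁅⁅P, X⁆, P⁆ = 1` then `⁅P, X⁆ = 1`. -/
theorem commutator_eq_bot_of_perfect {P X : Subgroup G} (hP : ⁅P, P⁆ = P) (h : ⁅⁅P, X⁆, P⁆ = ⊥) :
    ⁅P, X⁆ = ⊥ := by
  have h1 : ⁅⁅X, P⁆, P⁆ = ⊥ := by rw [commutator_comm X P]; exact h
  have h2 := commutator_commutator_eq_bot_of_rotate (H₁ := P) (H₂ := P) (H₃ := X) h h1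
  rwa [hP] at h2

/-- elementwise version -/
theorem commute_of_perfect {P X : Subgroup G} (hP : ⁅P, P⁆ = P)
    (h : ∀ p ∈ P, ∀ x ∈ X, ∀ q ∈ P, (p * x * p⁻¹ * x⁻¹) * q = q * (p * x * p⁻¹ * x⁻¹)) :
    ∀ p ∈ P, ∀ x ∈ X, p * x = x * p := by
  have h1 : ⁅⁅P, X⁆, P⁆ = ⊥ := by
    rw [commutator_eq_bot_iff_le_centralizer, commutator_le]
    intro p hp x hx
    rw [mem_centralizer_iff]
    intro q hq
    rw [commutatorElement_def]
    exact (h p hp x hx q hq).symm
  have h2 := commutator_eq_bot_of_perfect hP h1
  rw [commutator_eq_bot_iff_le_centralizer] at h2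
  intro p hp x hx
  exact ((mem_centralizer_iff.1 (h2 hp)) x hx).symm

end Cfsg.Agent.TwoFusion.PerfCore
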