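import Mathlib
import Cfsg.Agent.TwoFusion.QDBasic
import Cfsg.Agent.Lib.DihedralRecog

/-!
The generalized quaternion maximal subgroup `⟨x², x y⟩` of a quasi-dihedral 2-group, in the coordinates of
`QDBasic`: it consists of the `u (2 * a)` and the `u (2 * a + 1) * y`.
-/

set_option autoImplicit false

namespace Cfsg.Agent.TwoFusion.QDQuatMax

open Cfsg.Agent.TwoFusion.QDBasic

variable {S : Type*} [Group S] {n : ℕ} {u : ZMod (2 ^ n) → S} {y : S}

/-- The generalized quaternion maximal subgroup of a quasi-dihedral group. -/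
def quatMax (h : IsQDCoord n u y) : Subgroup S where
  carrier := {s | (∃ a, s = u (2 * a)) ∨ ∃ a, s = u (2 * a + 1) * y}
  one_mem' := Or.inl ⟨0, by rw [mul_zero, h.u_zero]⟩
  mul_mem' := by
    obtain ⟨m, hm⟩ : ∃ m, n = m + 2 := ⟨n - 2, by have := h.three_le; omega⟩
    have hhalf : (2 : ZMod (2 ^ n)) ^ (n - 1) = 2 * 2 ^ (n - 2) := by
      rw [← pow_succ']; congr 1; omega
    rintro s t (⟨a, rfl⟩ | ⟨a, rfl⟩) (⟨b, rfl⟩ | ⟨b, rfl⟩)
    · left; exact ⟨a + b, by rw [h.u_mul]; congr 1; ring⟩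
    · right; exact ⟨a + b, by rw [h.u_mul_uy]; congr 2; ring⟩
    · right
      refine ⟨a + (2 ^ (n - 1) - 1) * b, ?_⟩
      rw [h.uy_mul_u]; congr 2; ring
    · left
      refine ⟨a + (2 ^ (n - 1) - 1) * b + 2 ^ (n - 2), ?_⟩
      rw [h.uy_mul_uy, hhalf]; congr 1; ring
  inv_mem' := by
    rintro s (⟨a, rfl⟩ | ⟨a, rfl⟩)
    · left; exact ⟨-a, by rw [h.u_inv]; congr 1; ring⟩
    · right
      have hhalf : (2 : ZMod (2 ^ n)) ^ (n - 1) = 2 * 2 ^ (n - 2) := by
        rw [← pow_succ']; congr 1; have := h.three_le; omega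
      refine ⟨(1 - 2 ^ (n - 1)) * a - 2 ^ (n - 2), ?_⟩
      rw [h.uy_inv, hhalf]; congr 2; ring

theorem mem_quatMax (h : IsQDCoord n u y) (s : S) :
    s ∈ quatMax h ↔ (∃ a, s = u (2 * a)) ∨ ∃ a, s = u (2 * a + 1) * y := Iff.rfl

theorem u_mem_iff (h : IsQDCoord n u y) (a : ZMod (2 ^ n)) :
    u a ∈ quatMax h ↔ ∃ b, a = 2 * b := by
  rw [mem_quatMax]
  constructor
  · rintro (⟨b, hb⟩ | ⟨b, hb⟩)
    · exact ⟨b, h.u_inj _ _ hb⟩
    · exact absurd hb (h.u_ne _ _)
  · rintro ⟨b, rfl⟩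
    exact Or.inl ⟨b, rfl⟩

theorem uy_mem_iff (h : IsQDCoord n u y) (a : ZMod (2 ^ n)) :
    u a * y ∈ quatMax h ↔ ∃ b, a = 2 * b + 1 := by
  rw [mem_quatMax]
  constructor
  · rintro (⟨b, hb⟩ | ⟨b, hb⟩)
    · exact absurd hb.symm (h.u_ne _ _)
    · exact ⟨b, h.u_inj _ _ (mul_right_cancel hb)⟩
  · rintro ⟨b, rfl⟩
    exact Or.inr ⟨b, rfl⟩

/-- Elements outside the generalized quaternion maximal subgroup. -/
theorem not_mem_iff (h : IsQDCoord n u y) (s : S) :
    s ∉ quatMax h ↔ (∃ a, s = u (2 * a + 1)) ∨ ∃ a, s = u (2 * a) * y := by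
  constructor
  · intro hs
    rcases h.cases s with ⟨a, rfl⟩ | ⟨a, rfl⟩
    · rcases even_or_odd' n a with hb | ⟨b, rfl⟩
      · exact absurd ((u_mem_iff h a).2 hb) hs
      · exact Or.inl ⟨b, rfl⟩
    · rcases even_or_odd' n a with ⟨b, rfl⟩ | hb
      · exact Or.inr ⟨b, rfl⟩
      · exact absurd ((uy_mem_iff h a).2 hb) hs
  · rintro (⟨a, rfl⟩ | ⟨a, rfl⟩) hs
    · obtain ⟨b, hb⟩ := (u_mem_iff h _).1 hs
      exact two_mul_ne_two_mul_add_one n h.one_le b a hb.symm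
    · obtain ⟨b, hb⟩ := (uy_mem_iff h _).1 hs
      exact two_mul_ne_two_mul_add_one n h.one_le a b hb

/-- The index is two: the product of two elements outside lies inside. -/
theorem mul_mem_of_not_mem (h : IsQDCoord n u y) {s t : S} (hs : s ∉ quatMax h)
    (ht : t ∉ quatMax h) : s * t ∈ quatMax h := by
  have hhalf : (2 : ZMod (2 ^ n)) ^ (n - 1) = 2 * 2 ^ (n - 2) := by
    rw [← pow_succ']; congr 1; have := h.three_le; omega
  rw [not_mem_iff] at hs ht
  rcases hs with ⟨a, rfl⟩ | ⟨a, rfl⟩ <;> rcases ht with ⟨b, rfl⟩ | ⟨b, rfl⟩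
  · rw [h.u_mul, u_mem_iff]; exact ⟨a + b + 1, by ring⟩
  · rw [h.u_mul_uy, uy_mem_iff]; exact ⟨a + b, by ring⟩
  · rw [h.uy_mul_u, uy_mem_iff]
    refine ⟨a + (2 ^ (n - 1) - 1) * b + 2 ^ (n - 2) - 1, ?_⟩
    rw [hhalf]; ring
  · rw [h.uy_mul_uy, u_mem_iff]; exact ⟨a + (2 ^ (n - 1) - 1) * b, by ring⟩

theorem y_not_mem (h : IsQDCoord n u y) : y ∉ quatMax h := by
  rw [not_mem_iff]; right; exact ⟨0, by rw [mul_zero, h.u_zero, one_mul]⟩

theorem index_quatMax (h : IsQDCoord n u y) : (quatMax h).index = 2 := by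
  rw [Subgroup.index_eq_two_iff]
  refine ⟨y, fun b => ?_⟩
  by_cases hb : b ∈ quatMax h
  · refine Or.inr ⟨hb, fun hby => y_not_mem h ?_⟩
    exact (Subgroup.mul_mem_cancel_left _ hb).1 hby
  · exact Or.inl ⟨mul_mem_of_not_mem h hb (y_not_mem h), hb⟩

theorem card_quatMax (h : IsQDCoord n u y) : Nat.card (quatMax h) = 2 ^ n := by
  have h1 := (quatMax h).index_mul_card
  rw [index_quatMax h, h.card, pow_succ'] at h1
  exact Nat.eq_of_mul_eq_mul_left (by norm_num) h1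

theorem quatMax_normal (h : IsQDCoord n u y) : (quatMax h).Normal :=
  Subgroup.normal_of_index_eq_two (index_quatMax h)

theorem orderOf_u_one (h : IsQDCoord n u y) : orderOf (u 1) = 2 ^ n := by
  haveI := h.finite
  rw [orderOf_eq_iff (by positivity)]
  refine ⟨?_, fun m hm hm0 hh => ?_⟩
  · rw [h.u_one_pow, h.u_eq_one_iff]
    push_cast
    exact two_pow_eq_zero n
  · rw [h.u_one_pow, h.u_eq_one_iff, natCast_eq_zero_iff] at hh
    exact absurd (Nat.le_of_dvd hm0 hh) (not_le.2 hm)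

theorem orderOf_u_two (h : IsQDCoord n u y) : orderOf (u 2) = 2 ^ (n - 1) := by
  have h1 : u 2 = u 1 ^ 2 := by rw [h.u_one_pow]; push_cast; rfl
  rw [h1, orderOf_pow_of_dvd (by norm_num) (by rw [orderOf_u_one h]; exact dvd_pow_self _ (by have := h.three_le; omega)),
    orderOf_u_one h]
  obtain ⟨m, hm⟩ : ∃ m, n = m + 1 := ⟨n - 1, by have := h.three_le; omega⟩
  rw [hm, pow_succ, Nat.mul_div_cancel _ (by norm_num), Nat.add_sub_cancel]

/-- The maximal subgroup `quatMax` is generalized quaternion of order `2 ^ n`. -/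
theorem quatMax_equiv (h : IsQDCoord n u y) :
    Nonempty (quatMax h ≃* QuaternionGroup (2 ^ (n - 2))) := by
  have h3 := h.three_le
  have hhalf : (2 : ZMod (2 ^ n)) ^ (n - 1) = 2 * 2 ^ (n - 2) := by
    rw [← pow_succ']; congr 1; omega
  have e1 : 2 * 2 ^ (n - 2) = 2 ^ (n - 1) := by rw [← pow_succ']; congr 1; omega
  have e2 : 4 * 2 ^ (n - 2) = 2 ^ n := by
    calc 4 * 2 ^ (n - 2) = 2 ^ (n - 2 + 2) := by rw [pow_add]; ring
      _ = 2 ^ n := by congr 1; omega
  refine Lib.DihedralRecog.subgroup_quaternion_of_generators (by positivity) (quatMax h) (u 2) (u 1 * y)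
    ?_ ?_ ?_ ?_ ?_ ?_ ?_
  · rw [u_mem_iff]; exact ⟨1, by ring⟩
  · rw [uy_mem_iff]; exact ⟨0, by ring⟩
  · rw [orderOf_u_two h, e1]
  · rw [h.uy_mul_uy, h.u_pow]
    congr 1
    push_cast
    rw [hhalf]; ring
  · rw [h.uy_conj_u, h.u_inv]
    congr 1
    have := two_mul_half n h.one_le
    linear_combination this
  · rintro ⟨k, hk⟩
    simp only at hk
    obtain ⟨m, hm⟩ : ∃ m : ℕ, u 2 ^ k = u 2 ^ m := by
      haveI := h.finite
      have hp : 0 < orderOf (u 2) := orderOf_pos _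
      refine ⟨(k % (orderOf (u 2) : ℤ)).toNat, ?_⟩
      rw [← zpow_natCast, Int.toNat_of_nonneg (Int.emod_nonneg _ (by positivity)), zpow_mod_orderOf]
    rw [hm, h.u_pow] at hk
    exact h.u_ne _ _ hk
  · rw [card_quatMax h, e2]

/-- The central involution is the only involution in `quatMax`. -/
theorem eq_of_mem_quatMax_of_sq (h : IsQDCoord n u y) {s : S} (hs : s ∈ quatMax h)
    (h2 : s * s = 1) (h1 : s ≠ 1) : s = u (2 ^ (n - 1)) := by
  rcases hs with ⟨a, rfl⟩ | ⟨a, rfl⟩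
  · rw [h.u_mul, h.u_eq_one_iff] at h2
    have h3 : 2 * (2 * a) = 0 := by linear_combination h2
    rcases (two_mul_eq_zero_iff n h.one_le _).1 h3 with h4 | h4
    · exact absurd (by rw [h4, h.u_zero]) h1
    · rw [h4]
  · exfalso
    rw [h.uy_mul_uy, h.u_eq_one_iff] at h2
    have h3 : (2 : ZMod (2 ^ n)) ^ (n - 1) * (2 * a + 1) = 0 := by linear_combination h2
    rw [half_mul_odd n h.one_le] at h3
    exact half_ne_zero n h.one_le h3

/-- An element outside `quatMax` is an involution or has order `2 ^ n`. -/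
theorem orderOf_of_not_mem (h : IsQDCoord n u y) {s : S} (hs : s ∉ quatMax h) :
    orderOf s = 2 ∨ orderOf s = 2 ^ n := by
  rw [not_mem_iff] at hs
  rcases hs with ⟨a, rfl⟩ | ⟨a, rfl⟩
  · right
    have hu := isUnit_odd n a
    rw [orderOf_eq_iff (by positivity)]
    refine ⟨?_, fun m hm hm0 hh => ?_⟩
    · rw [h.u_pow, h.u_eq_one_iff]
      push_cast
      rw [two_pow_eq_zero n, zero_mul]
    · rw [h.u_pow, h.u_eq_one_iff, hu.mul_left_eq_zero, natCast_eq_zero_iff] at hh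
      exact absurd (Nat.le_of_dvd hm0 hh) (not_le.2 hm)
  · left
    refine orderOf_eq_prime ?_ ?_
    · rw [h.uy_sq, h.u_eq_one_iff]
      have := two_mul_half n h.one_le
      linear_combination a * this
    · intro he
      exact h.u_ne 0 (2 * a) (by rw [h.u_zero, he])

/-- The order of an element of `quatMax` divides `2 ^ (n - 1)`. -/
theorem pow_of_mem (h : IsQDCoord n u y) {s : S} (hs : s ∈ quatMax h) : s ^ 2 ^ (n - 1) = 1 := by
  have h3 := h.three_le
  rcases hs with ⟨a, rfl⟩ | ⟨a, rfl⟩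
  · rw [h.u_pow, h.u_eq_one_iff]
    push_cast
    have := two_mul_half n h.one_le
    linear_combination a * this
  · have e : 2 ^ (n - 1) = 2 * 2 ^ (n - 2) := by rw [← pow_succ']; congr 1; omega
    rw [e, pow_mul, h.uy_sq, h.u_pow, h.u_eq_one_iff]
    push_cast
    have e' : (2 : ZMod (2 ^ n)) ^ (n - 2) = 2 * 2 ^ (n - 3) := by
      rw [← pow_succ']; congr 1; omega
    rw [e']
    have := two_mul_half n h.one_le
    linear_combination (2 ^ (n - 3) * (2 * a + 1)) * this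

end Cfsg.Agent.TwoFusion.QDQuatMax
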