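import Mathlib
import Cfsg.Prelude.Def_CaseTheorems
import Cfsg.Agent.TwoFusion.QDBasic
import Cfsg.Agent.TwoFusion.QDFusCoord
import Cfsg.Agent.Lib.DihedralRecog

/-!
# The dihedral maximal subgroup of a quasi-dihedral group
-/

set_option autoImplicit false

namespace Cfsg.Agent.TwoFusion.QDDihMax

open Cfsg.Agent.TwoFusion.QDBasic Cfsg.Agent.TwoFusion.QDFusCoord

variable {S : Type*} [Group S] {n : ℕ} {u : ZMod (2 ^ n) → S} {y : S}

/-- The dihedral maximal subgroup: the elements `u (2 * b)` and `u (2 * b) * y`. -/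
def dihMax (h : IsQDCoord n u y) : Subgroup S where
  carrier := {s | (∃ b, s = u (2 * b)) ∨ (∃ b, s = u (2 * b) * y)}
  one_mem' := Or.inl ⟨0, by rw [mul_zero, h.u_zero]⟩
  mul_mem' := by
    rintro _ _ (⟨a, rfl⟩ | ⟨a, rfl⟩) (⟨b, rfl⟩ | ⟨b, rfl⟩)
    · left; exact ⟨a + b, by rw [h.u_mul]; congr 1; ring⟩
    · right; exact ⟨a + b, by rw [h.u_mul_uy]; congr 2; ring⟩
    · right; exact ⟨a + (2 ^ (n - 1) - 1) * b, by rw [h.uy_mul_u]; congr 2; ring⟩
    · left; exact ⟨a + (2 ^ (n - 1) - 1) * b, by rw [h.uy_mul_uy]; congr 1; ring⟩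
  inv_mem' := by
    rintro _ (⟨a, rfl⟩ | ⟨a, rfl⟩)
    · left; exact ⟨-a, by rw [h.u_inv]; congr 1; ring⟩
    · right; exact ⟨(1 - 2 ^ (n - 1)) * a, by rw [h.uy_inv]; congr 2; ring⟩

theorem mem_dihMax (h : IsQDCoord n u y) (s : S) :
    s ∈ dihMax h ↔ (∃ b, s = u (2 * b)) ∨ (∃ b, s = u (2 * b) * y) := Iff.rfl

theorem not_mem_dihMax (h : IsQDCoord n u y) (s : S) :
    s ∉ dihMax h ↔ (∃ b, s = u (2 * b + 1)) ∨ (∃ b, s = u (2 * b + 1) * y) := by
  rw [mem_dihMax]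
  constructor
  · intro hs
    push Not at hs
    rcases h.cases s with ⟨a, rfl⟩ | ⟨a, rfl⟩
    · rcases even_or_odd' n a with ⟨b, rfl⟩ | ⟨b, rfl⟩
      · exact absurd rfl (hs.1 b)
      · left; exact ⟨b, rfl⟩
    · rcases even_or_odd' n a with ⟨b, rfl⟩ | ⟨b, rfl⟩
      · exact absurd rfl (hs.2 b)
      · right; exact ⟨b, rfl⟩
  · rintro (⟨b, rfl⟩ | ⟨b, rfl⟩) (⟨a, ha⟩ | ⟨a, ha⟩)
    · exact two_mul_ne_two_mul_add_one n h.one_le a b (h.u_inj _ _ ha).symm
    · exact h.u_ne _ _ ha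
    · exact h.u_ne _ _ ha.symm
    · exact two_mul_ne_two_mul_add_one n h.one_le a b (h.u_inj _ _ (mul_right_cancel ha)).symm

theorem index_dihMax (h : IsQDCoord n u y) : (dihMax h).index = 2 := by
  rw [Subgroup.index_eq_two_iff]
  refine ⟨u 1, fun s => ?_⟩
  by_cases hs : s ∈ dihMax h
  · right
    refine ⟨hs, ?_⟩
    rw [not_mem_dihMax]
    rcases (mem_dihMax h s).1 hs with ⟨b, rfl⟩ | ⟨b, rfl⟩
    · left; exact ⟨b, by rw [h.u_mul]⟩
    · right
      refine ⟨b + (2 ^ (n - 2) - 1), ?_⟩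
      rw [h.uy_mul_u]
      congr 2
      have h1 := two_mul_q h
      linear_combination -h1
  · left
    refine ⟨?_, hs⟩
    rw [mem_dihMax]
    rcases (not_mem_dihMax h s).1 hs with ⟨b, rfl⟩ | ⟨b, rfl⟩
    · left; exact ⟨b + 1, by rw [h.u_mul]; congr 1; ring⟩
    · right
      refine ⟨b + 2 ^ (n - 2), ?_⟩
      rw [h.uy_mul_u]
      congr 2
      have h1 := two_mul_q h
      linear_combination -h1

theorem card_dihMax (h : IsQDCoord n u y) : Nat.card (dihMax h) = 2 ^ n := by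
  have h1 := (dihMax h).card_mul_index
  rw [index_dihMax h, h.card, pow_succ] at h1
  exact Nat.eq_of_mul_eq_mul_right (by norm_num) h1

theorem orderOf_u_two (h : IsQDCoord n u y) : orderOf (u 2) = 2 ^ (n - 1) := by
  have h3 := h.three_le
  have h4 : n - 1 = (n - 2) + 1 := by omega
  rw [h4]
  apply orderOf_eq_prime_pow
  · rw [h.u_pow, h.u_eq_one_iff]
    have h1 := two_mul_q h
    have h2 := c_ne h
    push_cast
    rw [mul_comm, h1]
    exact h2
  · rw [← h4, h.u_pow, h.u_eq_one_iff]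
    push_cast
    rw [mul_comm]
    exact two_c h

theorem dihMax_equiv (h : IsQDCoord n u y) :
    Nonempty (dihMax h ≃* DihedralGroup (2 ^ (n - 1))) := by
  have h3 := h.three_le
  refine Cfsg.Agent.Lib.DihedralRecog.subgroup_dihedral_of_generators (by positivity) (dihMax h)
    (u 2) y ?_ ?_ (orderOf_u_two h) h.y_y ?_ ?_ ?_
  · left; exact ⟨1, by rw [mul_one]⟩
  · right; exact ⟨0, by rw [mul_zero, h.u_zero, one_mul]⟩
  · rw [h.y_conj, h.u_inv]
    congr 1
    have h2 := two_c h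
    linear_combination h2
  · rintro ⟨k, hk⟩
    simp only at hk
    have h5 : ∃ c, u 2 ^ k = u c := by
      rcases Int.eq_nat_or_neg k with ⟨m, rfl | rfl⟩
      · exact ⟨m * 2, by rw [zpow_natCast, h.u_pow]⟩
      · exact ⟨-(m * 2), by rw [zpow_neg, zpow_natCast, h.u_pow, h.u_inv]⟩
    obtain ⟨c, hc⟩ := h5
    apply h.u_ne c 0
    rw [h.u_zero, one_mul, ← hc, hk]
  · rw [card_dihMax h]
    have : n = (n - 1) + 1 := by omega
    conv_lhs => rw [this]
    rw [pow_succ']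

end Cfsg.Agent.TwoFusion.QDDihMax
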