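import Mathlib

/-!
General tool: when a finite group `N` acts through a group of order dividing six, with the kernel
of the action a 2-group modulo `C`, and a Sylow 2-subgroup of `N` meets `C` in index two, then
`|N : C|` is `2` or `6`.
-/

set_option autoImplicit false

namespace Cfsg.Agent.TwoFusion.IndexTwoOrSix

/-- The automorphism group of a group of order four has order dividing six. -/
theorem card_mulAut_dvd_six {H : Type*} [Group H] (hH : Nat.card H = 4) :
    Nat.card (MulAut H) ∣ 6 := by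
  classical
  have hfin : Finite H := Nat.finite_of_card_ne_zero (by omega)
  let X := {x : H // x ≠ 1}
  let f : MulAut H →* Equiv.Perm X :=
    { toFun := fun e =>
        { toFun := fun x => ⟨e x.1, by simpa using x.2⟩
          invFun := fun x => ⟨e.symm x.1, by simpa using x.2⟩
          left_inv := fun x => Subtype.ext (e.symm_apply_apply x.1)
          right_inv := fun x => Subtype.ext (e.apply_symm_apply x.1) }
      map_one' := rfl
      map_mul' := fun a b => rfl }
  have hf : Function.Injective f := by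
    intro a b hab
    ext x
    by_cases hx : x = 1
    · simp [hx]
    · exact congrArg Subtype.val (DFunLike.congr_fun hab ⟨x, hx⟩)
  have h1 : Nat.card (MulAut H) ∣ Nat.card (Equiv.Perm X) := Subgroup.card_dvd_of_injective f hf
  have h2 : Nat.card X = 3 := by
    have : Fintype H := Fintype.ofFinite H
    rw [Nat.card_eq_fintype_card, Fintype.card_subtype_compl, ← Nat.card_eq_fintype_card (α := H),
      hH]
    simp
  rw [Nat.card_perm, h2] at h1
  exact h1

theorem index_dvd {N H : Type*} [Group N] [Finite N] [Group H] (hH : Nat.card H ∣ 6)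
    (f : N →* H) (C : Subgroup N) [C.Normal]
    (hC : ∀ g : N, f g = 1 → ∃ k : ℕ, g ^ 2 ^ k ∈ C) : ∃ k, C.index ∣ 6 * 2 ^ k := by
  have : Fact (Nat.Prime 2) := ⟨Nat.prime_two⟩
  have hp : IsPGroup 2 (f.ker ⧸ C.subgroupOf f.ker) := by
    intro g
    obtain ⟨g, rfl⟩ := QuotientGroup.mk_surjective g
    obtain ⟨k, hk⟩ := hC g.1 g.2
    refine ⟨k, ?_⟩
    rw [← QuotientGroup.mk_pow, QuotientGroup.eq_one_iff]
    exact hk
  obtain ⟨k, hk⟩ := IsPGroup.iff_card.1 hp
  refine ⟨k, ?_⟩
  have h1 : C.relIndex f.ker = 2 ^ k := hk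
  have h2 : C.index ∣ (C ⊓ f.ker).index := Subgroup.index_dvd_of_le inf_le_left
  have h3 : (C ⊓ f.ker).relIndex f.ker * f.ker.index = (C ⊓ f.ker).index :=
    Subgroup.relIndex_mul_index inf_le_right
  rw [Subgroup.inf_relIndex_right, h1] at h3
  have h4 : f.ker.index ∣ 6 := by
    rw [Subgroup.index_ker]
    refine dvd_trans ?_ hH
    exact Subgroup.card_subgroup_dvd_card _
  rw [← h3] at h2
  refine dvd_trans h2 ?_
  rw [mul_comm]
  exact Nat.mul_dvd_mul_right h4 _

theorem index_eq_of_sylow {N : Type*} [Group N] [Finite N] (P : Sylow 2 N) (C : Subgroup N)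
    [C.Normal] (hP : C.relIndex (P : Subgroup N) = 2) : ∃ m, Odd m ∧ C.index = 2 * m := by
  have : Fact (Nat.Prime 2) := ⟨Nat.prime_two⟩
  refine ⟨((P : Subgroup N) ⊔ C).index, ?_, ?_⟩
  · rw [← Nat.not_even_iff_odd, even_iff_two_dvd]
    intro h
    exact P.not_dvd_index (dvd_trans h (Subgroup.index_dvd_of_le le_sup_left))
  · rw [← Subgroup.relIndex_mul_index (le_sup_right : C ≤ (P : Subgroup N) ⊔ C),
      Subgroup.relIndex_sup_right, hP]

theorem index_eq_two_or_six {N H : Type*} [Group N] [Finite N] [Group H] (hH : Nat.card H ∣ 6)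
    (f : N →* H) (C : Subgroup N) [C.Normal]
    (hC : ∀ g : N, f g = 1 → ∃ k : ℕ, g ^ 2 ^ k ∈ C) (P : Sylow 2 N)
    (hP : C.relIndex (P : Subgroup N) = 2) : C.index = 2 ∨ C.index = 6 := by
  obtain ⟨k, hk⟩ := index_dvd hH f C hC
  obtain ⟨m, hm, hCm⟩ := index_eq_of_sylow P C hP
  rw [hCm] at hk ⊢
  have h1 : m ∣ 3 * 2 ^ k := by
    have h2 : 2 * m ∣ 2 * (3 * 2 ^ k) := by
      rw [← mul_assoc]; exact hk
    exact Nat.dvd_of_mul_dvd_mul_left two_pos h2
  have h2 : m ∣ 3 := by
    refine Nat.Coprime.dvd_of_dvd_mul_right ?_ h1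
    exact (Nat.coprime_two_right.2 hm).pow_right k
  rcases (Nat.dvd_prime Nat.prime_three).1 h2 with h | h
  · left; rw [h]
  · right; rw [h]

end Cfsg.Agent.TwoFusion.IndexTwoOrSix
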