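import Mathlib
import Cfsg.Prelude.Def_CaseTheorems
import Cfsg.Agent.TwoFusion.WreathedBasic

/-!
Local facts on wreathed 2-groups: centralisers of nonabelian subgroups, the subgroup `Q Z(S)` for
`Q` quaternion of order eight, its normaliser, uniqueness of the abelian maximal subgroup.
-/

set_option autoImplicit false

namespace Cfsg.Agent.TwoFusion.WreathedLocal

open Cfsg.Agent.TwoFusion.QDBasic Cfsg.Agent.TwoFusion.WreathedBasic

section

variable {S : Type*} [Group S] {n : ℕ} {u : ZMod (2 ^ n) → ZMod (2 ^ n) → S} {z : S}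

theorem comm_u_uz (h : IsWCoord n u z) (a b c d : ZMod (2 ^ n))
    (e : u a b * (u c d * z) = (u c d * z) * u a b) : a = b := by
  rw [h.u_mul_uz, h.uz_mul_u] at e
  obtain ⟨h1, h2⟩ := h.u_inj _ _ _ _ (mul_right_cancel e)
  linear_combination h1

/-- In a wreathed group the centraliser of a nonabelian subgroup is contained in the centre. -/
theorem centralizer_le_center (h : IsWCoord n u z) (X : Subgroup S) (x y : S) (hx : x ∈ X)
    (hy : y ∈ X) (hxy : x * y ≠ y * x) :
    Subgroup.centralizer (X : Set S) ≤ Subgroup.center S := by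
  intro s hs
  rw [Subgroup.mem_centralizer_iff] at hs
  have hsx : x * s = s * x := hs x hx
  have hsy : y * s = s * y := hs y hy
  rcases h.cases s with ⟨a, b, rfl⟩ | ⟨a, b, rfl⟩
  · rw [h.u_mem_center_iff]
    rcases h.cases x with ⟨c, d, rfl⟩ | ⟨c, d, rfl⟩
    · rcases h.cases y with ⟨e, f, rfl⟩ | ⟨e, f, rfl⟩
      · exact absurd (h.u_comm _ _ _ _) hxy
      · exact comm_u_uz h _ _ _ _ hsy.symm
    · exact comm_u_uz h _ _ _ _ hsx.symm
  · exfalso
    -- the centralizer of `u a b * z` is abelian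
    have key : ∀ w : S, w * (u a b * z) = (u a b * z) * w →
        (w ∈ Subgroup.center S ∨ ∃ c ∈ Subgroup.center S, w = c * (u a b * z)) := by
      intro w hw
      rcases h.cases w with ⟨c, d, rfl⟩ | ⟨c, d, rfl⟩
      · left
        rw [h.u_mem_center_iff]
        exact comm_u_uz h _ _ _ _ hw
      · right
        refine ⟨u (c - a) (d - b), ?_, ?_⟩
        · rw [h.u_mem_center_iff]
          rw [h.uz_mul_uz, h.uz_mul_uz] at hw
          obtain ⟨h1, h2⟩ := h.u_inj _ _ _ _ hw
          linear_combination h1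
        · rw [h.u_mul_uz, sub_add_cancel, sub_add_cancel]
    apply hxy
    have hc : ∀ c ∈ Subgroup.center S, ∀ g : S, c * g = g * c := fun c hc g =>
      (Subgroup.mem_center_iff.1 hc g).symm
    rcases key x hsx with h1 | ⟨c, hc1, rfl⟩
    · exact hc x h1 y
    · rcases key y hsy with h2 | ⟨d, hd1, rfl⟩
      · exact (hc y h2 _).symm
      · have h3 : Commute c (d * (u a b * z)) := hc c hc1 _
        have h4 : Commute (u a b * z) (d * (u a b * z)) :=
          Commute.mul_right (hc d hd1 _).symm (Commute.refl _)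
        exact (h3.mul_left h4).eq

theorem card_center (h : IsWCoord n u z) : Nat.card (Subgroup.center S) = 2 ^ n := by
  have e : ZMod (2 ^ n) ≃ Subgroup.center S :=
    Equiv.ofBijective (fun a => ⟨u a a, (h.u_mem_center_iff a a).2 rfl⟩) (by
      constructor
      · intro a b hab
        exact (h.u_inj _ _ _ _ (congrArg Subtype.val hab)).1
      · rintro ⟨s, hs⟩
        obtain ⟨a, rfl⟩ := (h.mem_center_iff s).1 hs
        exact ⟨a, rfl⟩)
  rw [← Nat.card_congr e, Nat.card_zmod]

theorem isCyclic_center (h : IsWCoord n u z) : IsCyclic (Subgroup.center S) := by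
  refine ⟨⟨⟨u 1 1, (h.u_mem_center_iff 1 1).2 rfl⟩, ?_⟩⟩
  rintro ⟨s, hs⟩
  obtain ⟨a, rfl⟩ := (h.mem_center_iff s).1 hs
  refine ⟨(a.val : ℤ), ?_⟩
  apply Subtype.ext
  show (u 1 1) ^ ((a.val : ℕ) : ℤ) = u a a
  rw [zpow_natCast, h.u_pow, mul_one, ZMod.natCast_zmod_val]

/-- The abelian maximal subgroup of a wreathed group is unique. -/
theorem abelian_eq_base (h : IsWCoord n u z) (U : Subgroup S) (hU : IsMulCommutative U)
    (hc : Nat.card U = 2 ^ (2 * n)) : U = h.base := by
  have hfin := h.finite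
  have hle : U ≤ h.base := by
    intro s hs
    by_contra hsb
    obtain ⟨a, b, rfl⟩ := (h.not_mem_base s).1 hsb
    have h1 : U ⊓ h.base ≤ Subgroup.center S := by
      rintro w ⟨hw1, c, d, rfl⟩
      rw [h.u_mem_center_iff]
      refine comm_u_uz h c d a b ?_
      exact congrArg Subtype.val (hU.is_comm.comm ⟨_, hw1⟩ ⟨_, hs⟩)
    have h2 : h.base.relIndex U ∣ 2 := by
      have := h.base_normal
      rw [← h.index_base]
      exact Subgroup.relIndex_dvd_index_of_normal _ _
    have h3 : Nat.card (U ⊓ h.base : Subgroup S) * h.base.relIndex U = Nat.card U := by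
      have := Subgroup.card_mul_index (h.base.subgroupOf U)
      rw [← this]
      congr 1
      rw [inf_comm]
      exact (Nat.card_congr (Subgroup.subgroupOfEquivOfLe inf_le_right).toEquiv).symm.trans
        (by rw [Subgroup.inf_subgroupOf_right])
    have h4 : Nat.card (U ⊓ h.base : Subgroup S) ≤ 2 ^ n := by
      rw [← card_center h]
      exact Nat.le_of_dvd Nat.card_pos (Subgroup.card_dvd_of_le h1)
    have h5 := Nat.le_of_dvd two_pos h2
    have h6 : Nat.card U ≤ 2 ^ n * 2 := by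
      rw [← h3]; exact Nat.mul_le_mul h4 h5
    rw [hc, ← pow_succ] at h6
    have h7 := (Nat.pow_le_pow_iff_right (by norm_num : 1 < 2)).1 h6
    have := h.two_le
    omega
  exact Subgroup.eq_of_le_of_card_ge hle (by rw [hc, h.card_base])

theorem q8_prop : ∀ x y : QuaternionGroup 2, x * y = y * x ∨
    (y * x = x⁻¹ * y ∧ x ^ 2 = y ^ 2 ∧ x ^ 4 = 1 ∧ x ^ 2 ≠ 1) := by
  decide

theorem q8_noncomm : ∃ x y : QuaternionGroup 2, x * y ≠ y * x := by
  decide

theorem q8_prop_of_equiv {Q : Type*} [Group Q] (e : Q ≃* QuaternionGroup 2) (x y : Q) :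
    x * y = y * x ∨ (y * x = x⁻¹ * y ∧ x ^ 2 = y ^ 2 ∧ x ^ 4 = 1 ∧ x ^ 2 ≠ 1) := by
  rcases q8_prop (e x) (e y) with h | ⟨h1, h2, h3, h4⟩
  · left
    apply e.injective
    simpa using h
  · right
    refine ⟨e.injective (by simpa using h1), e.injective (by simpa using h2),
      e.injective (by simpa using h3), fun h => h4 ?_⟩
    rw [← map_pow, h, map_one]

theorem q8_noncomm_of_equiv {Q : Type*} [Group Q] (e : Q ≃* QuaternionGroup 2) :
    ∃ x y : Q, x * y ≠ y * x := by
  obtain ⟨x, y, h⟩ := q8_noncomm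
  refine ⟨e.symm x, e.symm y, fun h' => h ?_⟩
  have := congrArg e h'
  simpa using this

theorem quaternion_u_mem (h : IsWCoord n u z) (Q : Subgroup S) (e : Q ≃* QuaternionGroup 2)
    (a b c d : ZMod (2 ^ n)) (h1 : u a b ∈ Q) (h2 : u c d * z ∈ Q) : 2 * (a - b) = 0 := by
  rcases q8_prop_of_equiv e ⟨_, h1⟩ ⟨_, h2⟩ with h3 | ⟨-, h4, -, -⟩
  · have := comm_u_uz h a b c d (congrArg Subtype.val h3)
    rw [this, sub_self, mul_zero]
  · have h5 : (u a b) ^ 2 = (u c d * z) ^ 2 := congrArg Subtype.val h4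
    rw [h.u_sq, h.uz_sq] at h5
    obtain ⟨h6, h7⟩ := h.u_inj _ _ _ _ h5
    linear_combination h6 - h7

theorem quaternion_exists (h : IsWCoord n u z) (Q : Subgroup S) (e : Q ≃* QuaternionGroup 2) :
    ∃ a b c d : ZMod (2 ^ n), u a b ∈ Q ∧ a ≠ b ∧ u c d * z ∈ Q := by
  obtain ⟨⟨x, hx⟩, ⟨y, hy⟩, hxy⟩ := q8_noncomm_of_equiv e
  have hxy' : x * y ≠ y * x := fun h => hxy (Subtype.ext h)
  have hcen : ∀ a : ZMod (2 ^ n), ∀ g : S, u a a * g = g * u a a := fun a g =>
    (Subgroup.mem_center_iff.1 ((h.u_mem_center_iff a a).2 rfl) g).symm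
  rcases h.cases x with ⟨a, b, rfl⟩ | ⟨a, b, rfl⟩
  · rcases h.cases y with ⟨c, d, rfl⟩ | ⟨c, d, rfl⟩
    · exact absurd (h.u_comm _ _ _ _) hxy'
    · refine ⟨a, b, c, d, hx, ?_, hy⟩
      rintro rfl
      exact hxy' (hcen a _)
  · rcases h.cases y with ⟨c, d, rfl⟩ | ⟨c, d, rfl⟩
    · refine ⟨c, d, a, b, hy, ?_, hx⟩
      rintro rfl
      exact hxy' (hcen c _).symm
    · refine ⟨a - c, b - d, c, d, ?_, ?_, hy⟩
      · have h1 := Q.mul_mem hx (Q.inv_mem hy)
        rw [h.uz_inv, h.uz_mul_uz] at h1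
        convert h1 using 2 <;> ring
      · intro h1
        apply hxy'
        have h2 : u a b * z = u (a - c) (b - d) * (u c d * z) := by
          rw [h.u_mul_uz, sub_add_cancel, sub_add_cancel]
        rw [h2, h1]
        have h3 : Commute (u (b - d) (b - d)) (u c d * z) := hcen (b - d) _
        exact (h3.mul_left (Commute.refl _)).eq

/-- The coordinates of `Q Z(S)`. -/
theorem quaternion_sup_center (h : IsWCoord n u z) (Q : Subgroup S)
    (e : Q ≃* QuaternionGroup 2) :
    ∃ r : ZMod (2 ^ n), (∀ a b, u a b ∈ Q ⊔ Subgroup.center S ↔ 2 * (a - b) = 0) ∧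
      (∀ a b, u a b * z ∈ Q ⊔ Subgroup.center S ↔ 2 * (a - b) = 2 * r) := by
  obtain ⟨a, b, c, d, h1, hab, h2⟩ := quaternion_exists h Q e
  have h3 := quaternion_u_mem h Q e a b c d h1 h2
  have h4 : a - b = 2 ^ (n - 1) := by
    rcases (two_mul_eq_zero_iff n h.one_le _).1 h3 with h5 | h5
    · exact absurd (sub_eq_zero.1 h5) hab
    · exact h5
  have key : ∀ a b, u a b ∈ Q ⊔ Subgroup.center S ↔ 2 * (a - b) = 0 := by
    intro e' f'
    constructor
    · intro h5
      obtain ⟨q, hq, s, hs, hqs⟩ := Subgroup.mem_sup_of_normal_right.1 h5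
      obtain ⟨t, rfl⟩ := (h.mem_center_iff s).1 hs
      have h6 : q = u (e' - t) (f' - t) := by
        rw [← mul_inv_eq_iff_eq_mul.2 hqs.symm, h.u_inv, h.u_mul, sub_eq_add_neg, sub_eq_add_neg]
      rw [h6] at hq
      have h7 := quaternion_u_mem h Q e _ _ _ _ hq h2
      linear_combination h7
    · intro h5
      have hcen : ∀ t, u t t ∈ Q ⊔ Subgroup.center S := fun t =>
        (le_sup_right : Subgroup.center S ≤ _) ((h.u_mem_center_iff t t).2 rfl)
      rcases (two_mul_eq_zero_iff n h.one_le _).1 h5 with h6 | h6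
      · rw [sub_eq_zero.1 h6]; exact hcen _
      · have h7 : u e' f' = u a b * u (e' - a) (e' - a) := by
          rw [h.u_mul]
          congr 1
          · ring
          · linear_combination h4 - h6
        rw [h7]
        exact Subgroup.mul_mem _ ((le_sup_left : Q ≤ _) h1) (hcen _)
  refine ⟨c - d, key, ?_⟩
  intro e' f'
  have h5 : u e' f' * z = u (e' - c) (f' - d) * (u c d * z) := by
    rw [h.u_mul_uz, sub_add_cancel, sub_add_cancel]
  have h6 : u c d * z ∈ Q ⊔ Subgroup.center S := (le_sup_left : Q ≤ _) h2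
  rw [h5, Subgroup.mul_mem_cancel_right _ h6, key]
  constructor
  · intro h7; linear_combination h7
  · intro h7; linear_combination h7

theorem quarter (n : ℕ) (hn : 2 ≤ n) : (2 : ZMod (2 ^ n)) * 2 ^ (n - 2) = 2 ^ (n - 1) := by
  rw [← pow_succ']
  congr 1
  omega

/-- The normaliser of `Q Z(S)` in `S`. -/
theorem relIndex_normalizer_of_coord (h : IsWCoord n u z) (V : Subgroup S) (r : ZMod (2 ^ n))
    (hV1 : ∀ a b, u a b ∈ V ↔ 2 * (a - b) = 0) (hV2 : ∀ a b, u a b * z ∈ V ↔ 2 * (a - b) = 2 * r) :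
    V.relIndex (Subgroup.normalizer (V : Set S)) = 2 := by
  have hN : ∀ e f, u e f ∈ Subgroup.normalizer (V : Set S) ↔ 2 * (2 * (e - f)) = 0 := by
    intro e f
    rw [Subgroup.mem_normalizer_iff]
    constructor
    · intro h1
      have h2 := (h1 (u r 0 * z)).1 ((hV2 r 0).2 (by ring))
      rw [h.u_conj_uz] at h2
      have h3 := (hV2 _ _).1 h2
      linear_combination h3
    · intro h1 g
      rcases h.cases g with ⟨a, b, rfl⟩ | ⟨a, b, rfl⟩
      · rw [h.u_conj_u]
      · rw [h.u_conj_uz, hV2, hV2]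
        constructor
        · intro h2; linear_combination h2 + h1
        · intro h2; linear_combination h2 - h1
  have hq := quarter n h.two_le
  have hh := two_mul_half n h.one_le
  have hh0 := half_ne_zero n h.one_le
  rw [Subgroup.relIndex_eq_two_iff]
  refine ⟨u (2 ^ (n - 2)) 0, (hN _ _).2 (by rw [sub_zero, hq, hh]), ?_⟩
  intro g hg
  rcases h.cases g with ⟨e, f, rfl⟩ | ⟨e, f, rfl⟩
  · rw [hN] at hg
    rw [h.u_mul, hV1, hV1]
    rcases (two_mul_eq_zero_iff n h.one_le _).1 hg with h1 | h1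
    · right
      refine ⟨h1, fun h2 => hh0 ?_⟩
      rw [← hq]; linear_combination h2 - h1
    · left
      refine ⟨?_, fun h2 => hh0 (by rw [← h1, h2])⟩
      linear_combination h1 + hq + hh
  · have h0 : u r 0 * z ∈ Subgroup.normalizer (V : Set S) :=
      Subgroup.le_normalizer ((hV2 r 0).2 (by ring))
    have h1 := Subgroup.mul_mem _ hg h0
    rw [h.uz_mul_uz, hN] at h1
    rw [h.uz_mul_u, hV2, hV2]
    rcases (two_mul_eq_zero_iff n h.one_le _).1 h1 with h2 | h2
    · right
      refine ⟨by linear_combination h2, fun h3 => hh0 ?_⟩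
      rw [← hq]; linear_combination h2 - h3
    · left
      refine ⟨by linear_combination h2 - hq, fun h3 => hh0 ?_⟩
      rw [← h2]; linear_combination h3

theorem relIndex_normalizer (h : IsWCoord n u z) (Q : Subgroup S)
    (e : Q ≃* QuaternionGroup 2) :
    (Q ⊔ Subgroup.center S).relIndex
      (Subgroup.normalizer ((Q ⊔ Subgroup.center S : Subgroup S) : Set S)) = 2 := by
  obtain ⟨r, h1, h2⟩ := quaternion_sup_center h Q e
  exact relIndex_normalizer_of_coord h _ r h1 h2

/-- The index of the centre in `Q Z(S)`. -/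
theorem center_relIndex_of_coord (h : IsWCoord n u z) (V : Subgroup S) (r : ZMod (2 ^ n))
    (hV1 : ∀ a b, u a b ∈ V ↔ 2 * (a - b) = 0) (hV2 : ∀ a b, u a b * z ∈ V ↔ 2 * (a - b) = 2 * r) :
    (Subgroup.center S).relIndex V = 4 := by
  have hh := two_mul_half n h.one_le
  have hh0 := half_ne_zero n h.one_le
  have h1 : (Subgroup.center S).relIndex (h.base ⊓ V) = 2 := by
    rw [Subgroup.relIndex_eq_two_iff]
    refine ⟨u (2 ^ (n - 1)) 0, ⟨h.u_mem_base _ _, (hV1 _ _).2 (by rw [sub_zero, hh])⟩, ?_⟩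
    rintro g ⟨⟨e, f, rfl⟩, hg⟩
    replace hg := (hV1 e f).1 hg
    rw [h.u_mul, h.u_mem_center_iff, h.u_mem_center_iff]
    rcases (two_mul_eq_zero_iff n h.one_le _).1 hg with h2 | h2
    · right
      refine ⟨sub_eq_zero.1 h2, fun h3 => hh0 ?_⟩
      linear_combination h3 - h2
    · left
      refine ⟨by linear_combination h2 + hh, fun h3 => hh0 ?_⟩
      rw [← h2, h3, sub_self]
  have h2 : (h.base ⊓ V).relIndex V = 2 := by
    rw [Subgroup.inf_relIndex_right, Subgroup.relIndex_eq_two_iff]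
    refine ⟨u r 0 * z, (hV2 r 0).2 (by ring), ?_⟩
    intro g hg
    rcases h.cases g with ⟨e, f, rfl⟩ | ⟨e, f, rfl⟩
    · right
      refine ⟨h.u_mem_base _ _, ?_⟩
      rw [h.u_mul_uz]
      exact h.uz_not_mem_base _ _
    · left
      refine ⟨?_, h.uz_not_mem_base _ _⟩
      rw [h.uz_mul_uz]
      exact h.u_mem_base _ _
  have h3 : Subgroup.center S ≤ h.base ⊓ V := by
    intro s hs
    obtain ⟨a, rfl⟩ := (h.mem_center_iff s).1 hs
    exact ⟨h.u_mem_base _ _, (hV1 _ _).2 (by ring)⟩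
  rw [← Subgroup.relIndex_mul_relIndex _ _ _ h3 inf_le_right, h1, h2]

theorem center_relIndex_quaternion (h : IsWCoord n u z) (Q : Subgroup S)
    (e : Q ≃* QuaternionGroup 2) : (Subgroup.center S).relIndex (Q ⊔ Subgroup.center S) = 4 := by
  obtain ⟨r, h1, h2⟩ := quaternion_sup_center h Q e
  exact center_relIndex_of_coord h _ r h1 h2

/-- The elements of order dividing two of the base: there are four of them. -/
theorem card_two_torsion_base (h : IsWCoord n u z) :
    Nat.card {s : S // s ∈ h.base ∧ s ^ 2 = 1} = 4 := by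
  have hh := two_mul_half n h.one_le
  have hh0 := half_ne_zero n h.one_le
  let w : Bool → ZMod (2 ^ n) := fun i => if i then 2 ^ (n - 1) else 0
  have hw : ∀ i, 2 * w i = 0 := by
    intro i
    cases i
    · simp [w]
    · simpa [w] using hh
  have hwi : Function.Injective w := by
    intro i j hij
    cases i <;> cases j <;> simp [w] at hij ⊢
    · exact hh0 hij.symm
    · exact hh0 hij
  have e : Bool × Bool ≃ {s : S // s ∈ h.base ∧ s ^ 2 = 1} :=
    Equiv.ofBijective (fun p => ⟨u (w p.1) (w p.2), h.u_mem_base _ _, by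
      rw [h.u_sq, hw, hw, h.u_zero]⟩) (by
      constructor
      · intro p q hpq
        obtain ⟨h1, h2⟩ := h.u_inj _ _ _ _ (congrArg Subtype.val hpq)
        exact Prod.ext (hwi h1) (hwi h2)
      · rintro ⟨s, ⟨a, b, rfl⟩, hs⟩
        rw [h.u_sq, h.u_eq_one_iff, two_mul_eq_zero_iff n h.one_le,
          two_mul_eq_zero_iff n h.one_le] at hs
        have hs' : ∀ c : ZMod (2 ^ n), (c = 0 ∨ c = 2 ^ (n - 1)) → ∃ i, w i = c := by
          rintro c (rfl | rfl)
          · exact ⟨false, by simp [w]⟩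
          · exact ⟨true, by simp [w]⟩
        obtain ⟨i, rfl⟩ := hs' a hs.1
        obtain ⟨j, rfl⟩ := hs' b hs.2
        exact ⟨(i, j), rfl⟩)
  rw [← Nat.card_congr e, Nat.card_prod, Nat.card_eq_fintype_card]
  rfl

theorem centralizer_base (h : IsWCoord n u z) :
    Subgroup.centralizer (h.base : Set S) = h.base := by
  apply le_antisymm
  · intro s hs
    by_contra hsb
    obtain ⟨a, b, rfl⟩ := (h.not_mem_base s).1 hsb
    have h1 := comm_u_uz h 1 0 a b (Subgroup.mem_centralizer_iff.1 hs _ (h.u_mem_base 1 0))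
    have h2 : ((1 : ℕ) : ZMod (2 ^ n)) = 0 := by simpa using h1
    rw [natCast_eq_zero_iff] at h2
    have h6 := Nat.le_of_dvd one_pos h2
    have h7 : 2 ^ 1 ≤ 2 ^ n := Nat.pow_le_pow_right (by norm_num) h.one_le
    omega
  · rintro _ ⟨a, b, rfl⟩
    rw [Subgroup.mem_centralizer_iff]
    rintro _ ⟨c, d, rfl⟩
    exact h.u_comm _ _ _ _

end

end Cfsg.Agent.TwoFusion.WreathedLocal
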