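import Mathlib
import Cfsg.Agent.TwoFusion.PResidual
import Cfsg.Agent.TwoFusion.WreathedGCoord

/-!
The homomorphism `S → ZMod (2 ^ n)`, `v a b ↦ a + b`, `v a b * w ↦ a + b + 2 ^ (n - 1)` ("determinant")
on a wreathed 2-group, and its fusion invariance when `|N(U) : C(U)| = 2`, `|N(V) : V C(V)| = 6`.
-/

set_option autoImplicit false

namespace Cfsg.Agent.TwoFusion.WreathedDet

open Cfsg.Agent.TwoFusion.QDBasic Cfsg.Agent.TwoFusion.WreathedGCoord

variable {G : Type*} [Group G] {S : Subgroup G} {n : ℕ} {v : ZMod (2 ^ n) → ZMod (2 ^ n) → G}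
  {w : G}

open Classical in
/-- the "determinant" of an element of `S`. -/
noncomputable def det (_ : GW S n v w) (s : G) : ZMod (2 ^ n) :=
  if hs : ∃ p : ZMod (2 ^ n) × ZMod (2 ^ n), s = v p.1 p.2 then hs.choose.1 + hs.choose.2
  else if hs : ∃ p : ZMod (2 ^ n) × ZMod (2 ^ n), s = v p.1 p.2 * w then
    hs.choose.1 + hs.choose.2 + 2 ^ (n - 1)
  else 0

theorem det_v (h : GW S n v w) (a b : ZMod (2 ^ n)) : det h (v a b) = a + b := by
  have hs : ∃ p : ZMod (2 ^ n) × ZMod (2 ^ n), v a b = v p.1 p.2 := ⟨(a, b), rfl⟩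
  unfold det
  rw [dif_pos hs]
  obtain ⟨e1, e2⟩ := h.v_inj _ _ _ _ hs.choose_spec
  rw [← e1, ← e2]

theorem det_vw (h : GW S n v w) (a b : ZMod (2 ^ n)) :
    det h (v a b * w) = a + b + 2 ^ (n - 1) := by
  have hs' : ¬ ∃ p : ZMod (2 ^ n) × ZMod (2 ^ n), v a b * w = v p.1 p.2 := by
    rintro ⟨p, hp⟩
    exact h.v_ne _ _ _ _ hp.symm
  have hs : ∃ p : ZMod (2 ^ n) × ZMod (2 ^ n), v a b * w = v p.1 p.2 * w := ⟨(a, b), rfl⟩
  unfold det
  rw [dif_neg hs', dif_pos hs]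
  obtain ⟨e1, e2⟩ := h.vw_inj _ _ _ _ hs.choose_spec
  rw [← e1, ← e2]

theorem det_mul (h : GW S n v w) (s t : G) (hs : s ∈ S) (ht : t ∈ S) :
    det h (s * t) = det h s + det h t := by
  rcases h.cases s hs with ⟨a, b, rfl⟩ | ⟨a, b, rfl⟩ <;>
    rcases h.cases t ht with ⟨c, d, rfl⟩ | ⟨c, d, rfl⟩
  · rw [h.v_mul, det_v, det_v, det_v]; ring
  · rw [h.v_mul_vw, det_v, det_vw, det_vw]; ring
  · rw [h.vw_mul_v, det_v, det_vw, det_vw]; ring
  · rw [h.vw_mul_vw, det_v, det_vw, det_vw]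
    linear_combination -h.half_add_half

/-- the "determinant" as a homomorphism. -/
noncomputable def detHom (h : GW S n v w) : S →* Multiplicative (ZMod (2 ^ n)) where
  toFun s := Multiplicative.ofAdd (det h s)
  map_one' := by
    show Multiplicative.ofAdd (det h 1) = 1
    rw [← h.v_zero, det_v, add_zero]; rfl
  map_mul' s t := by
    show Multiplicative.ofAdd (det h (s * t)) = _
    rw [det_mul h s t s.2 t.2]; rfl

theorem detHom_apply (h : GW S n v w) (s : S) :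
    detHom h s = Multiplicative.ofAdd (det h (s : G)) := rfl

/-- every element of `Z(S)` is isolated in `S`. -/
theorem zen_isolated [Finite G] {S : Sylow 2 G} (h : GW (S : Subgroup G) n v w) (U : Subgroup G)
    (hU : ∀ g, g ∈ U ↔ ∃ a b, g = v a b)
    (h1 : (Subgroup.centralizer (U : Set G)).relIndex (Subgroup.normalizer (U : Set G)) = 2)
    (V : Subgroup G) (hV : ∀ g, g ∈ V ↔ ∃ a b, 2 * (a - b) = 0 ∧ (g = v a b ∨ g = v a b * w))
    (h2 : 3 ∣ (V ⊔ Subgroup.centralizer (V : Set G)).relIndex (Subgroup.normalizer (V : Set G)))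
    (g : G) (i : ZMod (2 ^ n)) (hg : g * v i i * g⁻¹ ∈ (S : Subgroup G)) :
    g * v i i * g⁻¹ = v i i := by
  rcases h.cases _ hg with ⟨a, b, e⟩ | ⟨a, b, e⟩
  · rcases h.base_two U hU h1 g _ _ _ _ e with ⟨rfl, rfl⟩ | ⟨rfl, rfl⟩ <;> exact e
  · exfalso
    have e2 : g * v (2 * i) (2 * i) * g⁻¹ = v (a + b) (a + b) := by
      rw [← h.v_sq, ← conj_pow, e, h.vw_sq]
    have e3 : a + b = 2 * i := by
      rcases h.base_two U hU h1 g _ _ _ _ e2 with ⟨e3, -⟩ | ⟨e3, -⟩ <;> exact e3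
    obtain ⟨k, hk1, hk2⟩ := h.exists_conj_of_six V hV h2 (a - i)
    have e4 : v a b * w = v i i * (v (a - i) (-(a - i)) * w) := by
      rw [h.v_mul_vw]
      congr 2
      · ring
      · linear_combination e3
    have e5 : (k * g) * v i i * (k * g)⁻¹ = v (i + 2 ^ (n - 1)) i := by
      calc (k * g) * v i i * (k * g)⁻¹ = k * (g * v i i * g⁻¹) * k⁻¹ := by group
        _ = (k * v i i * k⁻¹) * (k * (v (a - i) (-(a - i)) * w) * k⁻¹) := by
            rw [e, e4]; group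
        _ = v (i + 2 ^ (n - 1)) i := by rw [hk1, hk2, h.v_mul, add_zero]
    rcases h.base_two U hU h1 _ _ _ _ _ e5 with ⟨e6, -⟩ | ⟨e6, -⟩ <;>
      exact h.half_ne (by linear_combination e6)

/-- the "determinant" is invariant under fusion. -/
theorem det_fusion [Finite G] {S : Sylow 2 G} (h : GW (S : Subgroup G) n v w) (U : Subgroup G)
    (hU : ∀ g, g ∈ U ↔ ∃ a b, g = v a b)
    (h1 : (Subgroup.centralizer (U : Set G)).relIndex (Subgroup.normalizer (U : Set G)) = 2)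
    (V : Subgroup G) (hV : ∀ g, g ∈ V ↔ ∃ a b, 2 * (a - b) = 0 ∧ (g = v a b ∨ g = v a b * w))
    (h2 : 3 ∣ (V ⊔ Subgroup.centralizer (V : Set G)).relIndex (Subgroup.normalizer (V : Set G)))
    (g s : G) (hs : s ∈ (S : Subgroup G)) (hg : g * s * g⁻¹ ∈ (S : Subgroup G)) :
    det h (g * s * g⁻¹) = det h s := by
  -- the mixed case
  have key : ∀ (g : G) (a b c d : ZMod (2 ^ n)), g * v a b * g⁻¹ = v c d * w →
      a + b = c + d + 2 ^ (n - 1) := by
    intro g a b c d e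
    have e2 : g * v (2 * a) (2 * b) * g⁻¹ = v (c + d) (c + d) := by
      rw [← h.v_sq, ← conj_pow, e, h.vw_sq]
    have e3 : c + d = 2 * a := by
      rcases h.base_two U hU h1 g _ _ _ _ e2 with ⟨e3, -⟩ | ⟨-, e3⟩ <;> exact e3
    obtain ⟨k, hk1, hk2⟩ := h.exists_conj_of_six V hV h2 (c - a)
    have e4 : v c d * w = v a a * (v (c - a) (-(c - a)) * w) := by
      rw [h.v_mul_vw]
      congr 2
      · ring
      · linear_combination e3
    have e5 : (k * g) * v a b * (k * g)⁻¹ = v (a + 2 ^ (n - 1)) a := by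
      calc (k * g) * v a b * (k * g)⁻¹ = k * (g * v a b * g⁻¹) * k⁻¹ := by group
        _ = (k * v a a * k⁻¹) * (k * (v (c - a) (-(c - a)) * w) * k⁻¹) := by
            rw [e, e4]; group
        _ = v (a + 2 ^ (n - 1)) a := by rw [hk1, hk2, h.v_mul, add_zero]
    rcases h.base_two U hU h1 _ _ _ _ _ e5 with ⟨e6, e7⟩ | ⟨e6, e7⟩
    · linear_combination -e3 - e6 - e7
    · linear_combination -e3 - e6 - e7
  rcases h.cases s hs with ⟨a, b, rfl⟩ | ⟨a, b, rfl⟩ <;>
    rcases h.cases _ hg with ⟨c, d, e⟩ | ⟨c, d, e⟩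
  · rw [e, det_v, det_v]
    rcases h.base_two U hU h1 _ _ _ _ _ e with ⟨rfl, rfl⟩ | ⟨rfl, rfl⟩
    · rfl
    · rw [add_comm]
  · rw [e, det_vw, det_v, key g a b c d e]
  · have e' : g⁻¹ * v c d * g⁻¹⁻¹ = v a b * w := by rw [← e]; group
    rw [e, det_vw, det_v, key _ c d a b e']
  · rw [e, det_vw, det_vw]
    have e2 : g * v (a + b) (a + b) * g⁻¹ = v (c + d) (c + d) := by
      rw [← h.vw_sq, ← conj_pow, e, h.vw_sq]
    rcases h.base_two U hU h1 _ _ _ _ _ e2 with ⟨e3, -⟩ | ⟨e3, -⟩ <;> rw [e3]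

/-- the transfer of the "determinant". -/
theorem exists_transfer [Finite G] {S : Sylow 2 G} (h : GW (S : Subgroup G) n v w)
    (hf : ∀ (g s : G), s ∈ (S : Subgroup G) → g * s * g⁻¹ ∈ (S : Subgroup G) →
      det h (g * s * g⁻¹) = det h s) :
    ∃ τ : G →* Multiplicative (ZMod (2 ^ n)), Function.Surjective τ ∧
      ∀ s ∈ (S : Subgroup G), τ s = 1 ↔ det h s = 0 := by
  have hτ : ∀ s : (S : Subgroup G), MonoidHom.transfer (detHom h) (s : G) =
      detHom h s ^ (S : Subgroup G).index := by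
    intro s
    apply PResidual.transfer_eq_pow_index_of_fusion
    intro k g₀ hg₀
    rw [detHom_apply, detHom_apply]
    congr 1
    have h3 := hf g₀⁻¹ ((s : G) ^ k) (pow_mem s.2 k) (by rw [inv_inv]; exact hg₀)
    rw [inv_inv] at h3
    exact h3
  have hunit : IsUnit (((S : Subgroup G).index : ℕ) : ZMod (2 ^ n)) := by
    rw [ZMod.isUnit_iff_coprime]
    apply Nat.Coprime.pow_right
    exact ((Nat.Prime.coprime_iff_not_dvd Nat.prime_two).2 S.not_dvd_index).symm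
  have hτ' : ∀ s (hs : s ∈ (S : Subgroup G)), MonoidHom.transfer (detHom h) s =
      Multiplicative.ofAdd ((((S : Subgroup G).index : ℕ) : ZMod (2 ^ n)) * det h s) := by
    intro s hs
    rw [hτ ⟨s, hs⟩, detHom_apply, ← ofAdd_nsmul, nsmul_eq_mul]
  refine ⟨MonoidHom.transfer (detHom h), ?_, ?_⟩
  · intro y
    obtain ⟨r, hr⟩ := hunit
    refine ⟨v (↑r⁻¹ * y.toAdd) 0, ?_⟩
    rw [hτ' _ (h.v_mem _ _), det_v, add_zero, ← hr, ← mul_assoc, Units.mul_inv, one_mul]
    rfl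
  · intro s hs
    rw [hτ' s hs, ofAdd_eq_one, hunit.mul_right_eq_zero]

end Cfsg.Agent.TwoFusion.WreathedDet
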