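import Mathlib
import Cfsg.Agent.TwoFusion.WreathedBasic

/-!
Wreathed 2-groups: uniqueness of the abelian maximal subgroup, and coordinates adapted to
`V = Q Z(S)` for a quaternion subgroup `Q` of order 8.
-/

set_option autoImplicit false

namespace Cfsg.Agent.TwoFusion.WreathedAdapted

open Cfsg.Agent.TwoFusion.QDBasic Cfsg.Agent.TwoFusion.WreathedBasic

variable {S : Type*} [Group S] {n : ℕ} {u : ZMod (2 ^ n) → ZMod (2 ^ n) → S} {z : S}

/-- A commutative subgroup of order `2 ^ (2 * n)` is the base. -/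
theorem base_eq_of_comm (h : IsWCoord n u z) (A : Subgroup S) (hA : IsMulCommutative A)
    (hc : Nat.card A = 2 ^ (2 * n)) : A = h.base := by
  have hfin := h.finite
  have hcomm : ∀ x ∈ A, ∀ y ∈ A, x * y = y * x := by
    intro x hx y hy
    have := hA.is_comm.comm (⟨x, hx⟩ : A) ⟨y, hy⟩
    exact congrArg Subtype.val this
  by_cases hle : A ≤ h.base
  · refine le_antisymm hle ?_
    have h1 : A = h.base := Subgroup.eq_of_le_of_card_ge hle (by rw [hc, h.card_base])
    rw [h1]
  · exfalso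
    obtain ⟨s, hsA, hs⟩ := SetLike.not_le_iff_exists.1 hle
    obtain ⟨c, d, rfl⟩ := (h.not_mem_base s).1 hs
    -- A ∩ base lies in the diagonal
    have h1 : A ⊓ h.base ≤ Subgroup.center S := by
      rintro x ⟨hxA, hxb⟩
      obtain ⟨a, b, rfl⟩ := hxb
      rw [h.u_mem_center_iff]
      have h2 := hcomm _ hxA _ hsA
      rw [h.u_mul_uz, h.uz_mul_u] at h2
      have h3 := (h.u_inj _ _ _ _ (mul_right_cancel h2)).1
      linear_combination h3
    have h2 : Nat.card (Subgroup.center S) = 2 ^ n := by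
      have e : (ZMod (2 ^ n)) ≃ Subgroup.center S :=
        Equiv.ofBijective (fun a => (⟨u a a, (h.u_mem_center_iff a a).2 rfl⟩ : Subgroup.center S))
          (by
            constructor
            · intro a b hab
              exact (h.u_inj _ _ _ _ (congrArg Subtype.val hab)).1
            · rintro ⟨s, hs⟩
              obtain ⟨a, rfl⟩ := (h.mem_center_iff s).1 hs
              exact ⟨a, rfl⟩)
      rw [← Nat.card_congr e, Nat.card_zmod]
    have h3 : (A ⊓ h.base).index ≤ 4 := by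
      have h4 : A.index = 2 := by
        have h5 := A.card_mul_index
        rw [hc, h.card, pow_succ] at h5
        exact Nat.eq_of_mul_eq_mul_left (by positivity) h5
      calc (A ⊓ h.base).index ≤ A.index * h.base.index := Subgroup.index_inf_le
        _ = 4 := by rw [h4, h.index_base]
    have h4 := (A ⊓ h.base).card_mul_index
    have h5 : Nat.card (A ⊓ h.base : Subgroup S) ≤ 2 ^ n := by
      rw [← h2]
      exact Subgroup.card_le_of_le h1
    rw [h.card] at h4
    have h6 : 2 ^ (2 * n + 1) ≤ 2 ^ n * 4 := by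
      rw [← h4]
      exact Nat.mul_le_mul h5 h3
    have h7 : 2 ^ n * 4 = 2 ^ (n + 2) := by ring
    rw [h7] at h6
    have h8 := (Nat.pow_le_pow_iff_right (by norm_num : 1 < 2)).1 h6
    have := h.two_le
    omega

/-- Changing `z` to another involution outside of the base. -/
theorem change_z (h : IsWCoord n u z) (c : ZMod (2 ^ n)) : IsWCoord n u (u c (-c) * z) where
  two_le := h.two_le
  card := h.card
  u_zero := h.u_zero
  u_mul := h.u_mul
  u_inj := h.u_inj
  z_u := by
    intro a b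
    rw [h.uz_mul_u, ← mul_assoc, h.u_mul, add_comm c b, add_comm (-c) a]
  z_z := by
    rw [h.uz_mul_uz, ← h.u_zero]
    congr 1 <;> ring
  u_ne := by
    intro a b c' d' e
    rw [← mul_assoc, h.u_mul] at e
    exact h.u_ne _ _ _ _ e
  cases := by
    intro s
    rcases h.cases s with e | ⟨a, b, e⟩
    · exact Or.inl e
    · right
      refine ⟨a - c, b + c, ?_⟩
      rw [← mul_assoc, h.u_mul, e]
      congr 2 <;> ring

/-- Two elements generating a quaternion group of order 8, from an isomorphism. -/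
theorem exists_quaternion_gens (Q : Subgroup S) (eQ : Q ≃* QuaternionGroup 2) :
    ∃ i j : S, i ∈ Q ∧ j ∈ Q ∧ i ^ 4 = 1 ∧ i ^ 2 ≠ 1 ∧ j ^ 2 = i ^ 2 ∧ j * i * j⁻¹ = i⁻¹ ∧
      ∀ s ∈ Q, ∃ k : ℕ, s = i ^ k ∨ s = j * i ^ k := by
  refine ⟨eQ.symm (QuaternionGroup.a 1), eQ.symm (QuaternionGroup.xa 0), Subtype.property _,
    Subtype.property _, ?_, ?_, ?_, ?_, ?_⟩
  · rw [← Subgroup.coe_pow, ← map_pow]
    have : (QuaternionGroup.a 1 : QuaternionGroup 2) ^ 4 = 1 := by decide
    rw [this, map_one]; rfl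
  · rw [← Subgroup.coe_pow, ← map_pow]
    intro h1
    have h2 : eQ.symm ((QuaternionGroup.a 1 : QuaternionGroup 2) ^ 2) = 1 := Subtype.ext h1
    rw [EmbeddingLike.map_eq_one_iff] at h2
    revert h2
    decide
  · rw [← Subgroup.coe_pow, ← map_pow, ← Subgroup.coe_pow, ← map_pow]
    have : (QuaternionGroup.xa 0 : QuaternionGroup 2) ^ 2 = (QuaternionGroup.a 1) ^ 2 := by decide
    rw [this]
  · rw [← Subgroup.coe_inv, ← map_inv, ← Subgroup.coe_inv, ← map_inv, ← Subgroup.coe_mul,
      ← map_mul, ← Subgroup.coe_mul, ← map_mul]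
    have : (QuaternionGroup.xa 0 : QuaternionGroup 2) * QuaternionGroup.a 1 *
      (QuaternionGroup.xa 0)⁻¹ = (QuaternionGroup.a 1)⁻¹ := by decide
    rw [this]
  · intro s hs
    have key : ∀ q : QuaternionGroup 2, ∃ k : ℕ, q = (QuaternionGroup.a 1) ^ k ∨
        q = QuaternionGroup.xa 0 * (QuaternionGroup.a 1) ^ k := by
      intro q
      have : ∃ k : Fin 4, q = (QuaternionGroup.a 1) ^ (k : ℕ) ∨
        q = QuaternionGroup.xa 0 * (QuaternionGroup.a 1) ^ (k : ℕ) := by
        revert q; decide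
      obtain ⟨k, hk⟩ := this
      exact ⟨k, hk⟩
    obtain ⟨k, hk⟩ := key (eQ ⟨s, hs⟩)
    refine ⟨k, ?_⟩
    rcases hk with hk | hk
    · left
      have h2 : (⟨s, hs⟩ : Q) = eQ.symm ((QuaternionGroup.a 1) ^ k) := by
        rw [← hk, MulEquiv.symm_apply_apply]
      rw [map_pow] at h2
      simpa using congrArg Subtype.val h2
    · right
      have h2 : (⟨s, hs⟩ : Q) = eQ.symm (QuaternionGroup.xa 0 * (QuaternionGroup.a 1) ^ k) := by
        rw [← hk, MulEquiv.symm_apply_apply]
      rw [map_mul, map_pow] at h2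
      simpa using congrArg Subtype.val h2

/-- In a subgroup isomorphic to the quaternion group of order 8 not contained in a subgroup
`B` of index two, and with `B` commutative, generators can be chosen with the first one in `B`
and the second one outside `B`. -/
theorem exists_quaternion_gens' (B : Subgroup S) (hB : B.index = 2)
    (hBc : ∀ x ∈ B, ∀ y ∈ B, x * y = y * x) (Q : Subgroup S) (eQ : Q ≃* QuaternionGroup 2) :
    ∃ i j : S, i ∈ Q ∧ j ∈ Q ∧ i ∈ B ∧ j ∉ B ∧ i ^ 4 = 1 ∧ i ^ 2 ≠ 1 ∧ j ^ 2 = i ^ 2 ∧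
      j * i * j⁻¹ = i⁻¹ ∧ Q ≤ Subgroup.closure {i, j} := by
  obtain ⟨i, j, hiQ, hjQ, hi4, hi2, hji, hconj, hall⟩ := exists_quaternion_gens Q eQ
  have hcl : Q ≤ Subgroup.closure {i, j} := by
    intro s hs
    obtain ⟨k, rfl | rfl⟩ := hall s hs
    · exact Subgroup.pow_mem _ (Subgroup.subset_closure (by simp)) k
    · exact Subgroup.mul_mem _ (Subgroup.subset_closure (by simp))
        (Subgroup.pow_mem _ (Subgroup.subset_closure (by simp)) k)
  have hii : i * i = i ^ 2 := (pow_two i).symm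
  have hjj : j * j = i ^ 2 := by rw [← hji, pow_two]
  have hjij : j * i = i⁻¹ * j := by
    rw [← hconj]; group
  have hi3 : i⁻¹ = i ^ 2 * i := by
    rw [inv_eq_iff_mul_eq_one, ← hi4]; group
  by_cases hiB : i ∈ B
  · refine ⟨i, j, hiQ, hjQ, hiB, ?_, hi4, hi2, hji, hconj, hcl⟩
    intro hjB
    have h1 := hBc i hiB j hjB
    have h2 : j * i * j⁻¹ = i := by rw [← h1]; group
    rw [hconj] at h2
    apply hi2
    rw [pow_two]
    nth_rewrite 1 [← h2]
    exact inv_mul_cancel i
  · by_cases hjB : j ∈ B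
    · refine ⟨j, i, hjQ, hiQ, hjB, hiB, ?_, ?_, hji.symm, ?_, ?_⟩
      · have : j ^ 4 = (j ^ 2) ^ 2 := by rw [← pow_mul]
        rw [this, hji, ← pow_mul, hi4]
      · rw [hji]; exact hi2
      · -- i j i⁻¹ = j⁻¹
        have h1 : i * j * i⁻¹ * j = 1 := by
          have h2 : i⁻¹ * j = j * i := hjij.symm
          calc i * j * i⁻¹ * j = i * j * (i⁻¹ * j) := by group
            _ = i * (j * j) * i := by rw [h2]; group
            _ = i * i ^ 2 * i := by rw [hjj]
            _ = i ^ 4 := by group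
            _ = 1 := hi4
        exact eq_inv_of_mul_eq_one_left h1
      · rwa [Set.pair_comm]
    · have hij : i * j ∈ B := by
        rw [Subgroup.mul_mem_iff_of_index_two hB]
        exact ⟨fun h => absurd h hiB, fun h => absurd h hjB⟩
      have hsq : (i * j) ^ 2 = i ^ 2 := by
        rw [pow_two]
        calc i * j * (i * j) = i * (j * i) * j := by group
          _ = i * (i⁻¹ * j) * j := by rw [hjij]
          _ = j * j := by group
          _ = i ^ 2 := hjj
      refine ⟨i * j, i, Q.mul_mem hiQ hjQ, hiQ, hij, hiB, ?_, ?_, hsq.symm, ?_, ?_⟩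
      · have : (i * j) ^ 4 = ((i * j) ^ 2) ^ 2 := by rw [← pow_mul]
        rw [this, hsq, ← pow_mul, hi4]
      · rw [hsq]; exact hi2
      · have h1 : i * (i * j) * i⁻¹ * (i * j) = 1 := by
          calc i * (i * j) * i⁻¹ * (i * j) = i * i * (j * j) := by group
            _ = i ^ 4 := by rw [hjj]; group
            _ = 1 := hi4
        exact eq_inv_of_mul_eq_one_left h1
      · refine hcl.trans ?_
        rw [Subgroup.closure_le]
        have h1 : i ∈ Subgroup.closure {i * j, i} := Subgroup.subset_closure (by simp)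
        have h2 : i * j ∈ Subgroup.closure {i * j, i} := Subgroup.subset_closure (by simp)
        rintro s (rfl | rfl)
        · exact h1
        · have h3 := Subgroup.mul_mem _ (Subgroup.inv_mem _ h1) h2
          rwa [inv_mul_cancel_left] at h3

/-- The subgroup `{u a b, u a b z : 2 (a - b) = 0}`: a central product of a quaternion group of
order 8 with the centre. -/
def vSub (h : IsWCoord n u z) : Subgroup S where
  carrier := {s | ∃ a b, 2 * (a - b) = 0 ∧ (s = u a b ∨ s = u a b * z)}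
  one_mem' := ⟨0, 0, by simp, Or.inl h.u_zero.symm⟩
  mul_mem' := by
    rintro _ _ ⟨a, b, hab, rfl | rfl⟩ ⟨c, d, hcd, rfl | rfl⟩
    · exact ⟨a + c, b + d, by linear_combination hab + hcd, Or.inl (h.u_mul _ _ _ _)⟩
    · exact ⟨a + c, b + d, by linear_combination hab + hcd, Or.inr (h.u_mul_uz _ _ _ _)⟩
    · exact ⟨a + d, b + c, by linear_combination hab - hcd, Or.inr (h.uz_mul_u _ _ _ _)⟩
    · exact ⟨a + d, b + c, by linear_combination hab - hcd, Or.inl (h.uz_mul_uz _ _ _ _)⟩
  inv_mem' := by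
    rintro _ ⟨a, b, hab, rfl | rfl⟩
    · exact ⟨-a, -b, by linear_combination -hab, Or.inl (h.u_inv _ _)⟩
    · exact ⟨-b, -a, by linear_combination hab, Or.inr (h.uz_inv _ _)⟩

theorem mem_vSub (h : IsWCoord n u z) (s : S) :
    s ∈ vSub h ↔ ∃ a b, 2 * (a - b) = 0 ∧ (s = u a b ∨ s = u a b * z) := Iff.rfl

theorem u_mem_vSub (h : IsWCoord n u z) (a b : ZMod (2 ^ n)) :
    u a b ∈ vSub h ↔ 2 * (a - b) = 0 := by
  constructor
  · rintro ⟨c, d, hcd, e | e⟩
    · obtain ⟨rfl, rfl⟩ := h.u_inj _ _ _ _ e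
      exact hcd
    · exact absurd e (h.u_ne _ _ _ _)
  · intro e
    exact ⟨a, b, e, Or.inl rfl⟩

theorem uz_mem_vSub (h : IsWCoord n u z) (a b : ZMod (2 ^ n)) :
    u a b * z ∈ vSub h ↔ 2 * (a - b) = 0 := by
  constructor
  · rintro ⟨c, d, hcd, e | e⟩
    · exact absurd e.symm (h.u_ne _ _ _ _)
    · obtain ⟨rfl, rfl⟩ := h.u_inj _ _ _ _ (mul_right_cancel e)
      exact hcd
  · intro e
    exact ⟨a, b, e, Or.inr rfl⟩

/-- Coordinates adapted to `V = Q Z(S)`. -/
theorem exists_adapted (h : IsWCoord n u z) (Q : Subgroup S) (eQ : Q ≃* QuaternionGroup 2) :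
    ∃ (z' : S) (h' : IsWCoord n u z'), Q ⊔ Subgroup.center S = vSub h' := by
  have hBc : ∀ x ∈ h.base, ∀ y ∈ h.base, x * y = y * x := by
    rintro _ ⟨a, b, rfl⟩ _ ⟨c, d, rfl⟩
    exact h.u_comm _ _ _ _
  obtain ⟨i, j, hiQ, hjQ, hiB, hjB, hi4, hi2, hji, hconj, hcl⟩ :=
    exists_quaternion_gens' h.base h.index_base hBc Q eQ
  obtain ⟨a, b, rfl⟩ := hiB
  obtain ⟨c, d, rfl⟩ := (h.not_mem_base j).1 hjB
  rw [h.uz_conj_u, h.u_inv] at hconj
  obtain ⟨hba, -⟩ := h.u_inj _ _ _ _ hconj
  subst hba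
  rw [h.u_sq, ne_eq, h.u_eq_one_iff] at hi2
  rw [h.u_pow, h.u_eq_one_iff] at hi4
  rw [h.uz_sq, h.u_sq] at hji
  obtain ⟨hcd, -⟩ := h.u_inj _ _ _ _ hji
  have ha4 : (4 : ZMod (2 ^ n)) * a = 0 := by
    have := hi4.1
    push_cast at this
    exact this
  have ha2 : 2 * a = 2 ^ (n - 1) := by
    have h1 : 2 * (2 * a) = 0 := by linear_combination ha4
    rcases (two_mul_eq_zero_iff n h.one_le _).1 h1 with h2 | h2
    · exfalso
      apply hi2
      exact ⟨h2, by linear_combination -h2⟩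
    · exact h2
  have hcc : u (c + a) (d + a) * z = u (c + a) (-(c + a)) * z := by
    congr 2
    linear_combination hcd + ha4
  refine ⟨u (c + a) (-(c + a)) * z, change_z h (c + a), ?_⟩
  apply le_antisymm
  · rw [sup_le_iff]
    constructor
    · refine hcl.trans ?_
      rw [Subgroup.closure_le]
      rintro s (rfl | rfl)
      · exact (u_mem_vSub _ _ _).2 (by linear_combination ha4)
      · refine ⟨-a, -a, by ring, Or.inr ?_⟩
        rw [← hcc, ← mul_assoc, h.u_mul]
        congr 2 <;> ring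
    · intro s hs
      obtain ⟨e, rfl⟩ := (h.mem_center_iff s).1 hs
      exact (u_mem_vSub _ _ _).2 (by ring)
  · have hZ : ∀ e, u e e ∈ Q ⊔ Subgroup.center S := fun e =>
      Subgroup.mem_sup_right ((h.u_mem_center_iff e e).2 rfl)
    have hb0 : u (2 ^ (n - 1)) 0 ∈ Q ⊔ Subgroup.center S := by
      have h1 := Subgroup.mul_mem _ (Subgroup.mem_sup_left hiQ) (hZ a)
      rw [h.u_mul] at h1
      have h2 : u (a + a) (-a + a) = u (2 ^ (n - 1)) 0 := by
        rw [← ha2]; congr 1 <;> ring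
      rwa [h2] at h1
    have hW : ∀ x y, 2 * (x - y) = 0 → u x y ∈ Q ⊔ Subgroup.center S := by
      intro x y hxy
      rcases (two_mul_eq_zero_iff n h.one_le _).1 hxy with h2 | h2
      · have : x = y := by linear_combination h2
        rw [this]; exact hZ y
      · have h3 := Subgroup.mul_mem _ hb0 (hZ y)
        rw [h.u_mul, ← h2] at h3
        have h4 : u (x - y + y) (0 + y) = u x y := by congr 1 <;> ring
        rwa [h4] at h3
    have hz' : u (c + a) (-(c + a)) * z ∈ Q ⊔ Subgroup.center S := by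
      rw [← hcc]
      have h1 := Subgroup.mul_mem _ (Subgroup.mem_sup_left hjQ) (hZ a)
      rw [h.uz_mul_u] at h1
      exact h1
    rintro _ ⟨x, y, hxy, rfl | rfl⟩
    · exact hW x y hxy
    · exact Subgroup.mul_mem _ (hW x y hxy) hz'

/-- Coordinates adapted to `V = Q Z(S)`, from scratch. -/
theorem exists_adapted_coord [Finite S] (hS : Cfsg.IsWreathed S) (n : ℕ)
    (hn : Nat.card S = 2 ^ (2 * n + 1)) (Q : Subgroup S) (eQ : Q ≃* QuaternionGroup 2) :
    ∃ (u : ZMod (2 ^ n) → ZMod (2 ^ n) → S) (z : S) (h : IsWCoord n u z),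
      Q ⊔ Subgroup.center S = vSub h := by
  obtain ⟨u, z, h⟩ := exists_wcoord' hS n hn
  obtain ⟨z', h', e⟩ := exists_adapted h Q eQ
  exact ⟨u, z', h', e⟩

end Cfsg.Agent.TwoFusion.WreathedAdapted
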