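import Mathlib

/-!
Sylow conjugation inside a subgroup, in terms of elements of the big group.
-/

set_option autoImplicit false

namespace Cfsg.Agent.TwoFusion.SylowConj

/-- Two `p`-subgroups `A`, `V` of a subgroup `H`: some `p`-subgroup `P₀` of `H` contains `A` and an
`H`-conjugate of `V`. -/
theorem exists_pgroup_le {p : ℕ} [Fact p.Prime] {G : Type*} [Group G] [Finite G]
    (H A V : Subgroup G) (hA : IsPGroup p A) (hAH : A ≤ H) (hV : IsPGroup p V) (hVH : V ≤ H) :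
    ∃ P₀ : Subgroup G, P₀ ≤ H ∧ IsPGroup p P₀ ∧ A ≤ P₀ ∧
      ∃ c ∈ H, ∀ v ∈ V, c * v * c⁻¹ ∈ P₀ := by
  have hA' : IsPGroup p (A.subgroupOf H) := hA.comap_of_injective _ H.subtype_injective
  have hV' : IsPGroup p (V.subgroupOf H) := hV.comap_of_injective _ H.subtype_injective
  obtain ⟨P, hP⟩ := hA'.exists_le_sylow
  obtain ⟨R, hR⟩ := hV'.exists_le_sylow
  obtain ⟨c, hc⟩ := MulAction.exists_smul_eq H R P
  refine ⟨(P : Subgroup H).map H.subtype, Subgroup.map_subtype_le _, P.isPGroup'.map _, ?_,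
    c, c.2, ?_⟩
  · intro a ha
    exact ⟨⟨a, hAH ha⟩, hP (Subgroup.mem_subgroupOf.2 ha), rfl⟩
  · intro v hv
    refine ⟨c * ⟨v, hVH hv⟩ * c⁻¹, ?_, rfl⟩
    rw [← hc]
    have h1 : (⟨v, hVH hv⟩ : H) ∈ (R : Subgroup H) := hR (Subgroup.mem_subgroupOf.2 hv)
    exact (Subgroup.smul_mem_pointwise_smul _ (MulAut.conj c) _ h1)

/-- If `H` contains the Sylow `p`-subgroup `S` of `G` and the `p`-subgroup `V` of `G`, some
element of `H` conjugates `V` into `S`. -/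
theorem exists_conj_le_of_sylow_le {p : ℕ} [Fact p.Prime] {G : Type*} [Group G] [Finite G]
    (S : Sylow p G) (H V : Subgroup G) (hS : (S : Subgroup G) ≤ H) (hV : IsPGroup p V)
    (hVH : V ≤ H) : ∃ c ∈ H, ∀ v ∈ V, c * v * c⁻¹ ∈ (S : Subgroup G) := by
  obtain ⟨P₀, _, h2, h3, c, hc, h4⟩ := exists_pgroup_le H S V S.isPGroup' hS hV hVH
  have h5 : P₀ = S := S.is_maximal' h2 h3
  rw [h5] at h4
  exact ⟨c, hc, h4⟩

end Cfsg.Agent.TwoFusion.SylowConj
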