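import Mathlib
import Cfsg.Agent.TwoFusion.WreathedAdapted
import Cfsg.Agent.TwoFusion.SylowConj

/-!
Fusion of involutions in a finite group with wreathed Sylow 2-subgroup `S`: if
`|N(V) : V C(V)| = 2` for `V = Q Z(S)`, then no involution of `S` outside the abelian maximal
subgroup `U` is conjugate to the central involution.  Direct proof, without Alperin's theorem.
-/

set_option autoImplicit false

namespace Cfsg.Agent.TwoFusion.WreathedFusion

open Cfsg.Agent.TwoFusion.QDBasic Cfsg.Agent.TwoFusion.WreathedBasic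
  Cfsg.Agent.TwoFusion.WreathedAdapted Cfsg.Agent.TwoFusion.SylowConj

section InS

variable {S : Type*} [Group S] {n : ℕ} {u : ZMod (2 ^ n) → ZMod (2 ^ n) → S} {z : S}

theorem commute_u_uz_iff (h : IsWCoord n u z) (a b c d : ZMod (2 ^ n)) :
    Commute (u a b) (u c d * z) ↔ a = b := by
  constructor
  · intro e
    have e1 : u a b * (u c d * z) = (u c d * z) * u a b := e
    rw [h.u_mul_uz, h.uz_mul_u] at e1
    have e2 := (h.u_inj _ _ _ _ (mul_right_cancel e1)).1
    linear_combination e2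
  · rintro rfl
    show u a a * (u c d * z) = (u c d * z) * u a a
    rw [h.u_mul_uz, h.uz_mul_u, add_comm a c, add_comm a d]

theorem half_eq (n : ℕ) (hn : 2 ≤ n) :
    (2 : ZMod (2 ^ n)) * 2 ^ (n - 2) = 2 ^ (n - 1) := by
  rw [← pow_succ']
  congr 1
  omega

/-- The subgroup `⟨z⟩ × Z(S)`, the centralizer of `z`. -/
def bSub (h : IsWCoord n u z) : Subgroup S where
  carrier := {s | ∃ a, s = u a a ∨ s = u a a * z}
  one_mem' := ⟨0, Or.inl h.u_zero.symm⟩
  mul_mem' := by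
    rintro _ _ ⟨a, rfl | rfl⟩ ⟨c, rfl | rfl⟩
    · exact ⟨a + c, Or.inl (h.u_mul _ _ _ _)⟩
    · exact ⟨a + c, Or.inr (h.u_mul_uz _ _ _ _)⟩
    · exact ⟨a + c, Or.inr (h.uz_mul_u _ _ _ _)⟩
    · exact ⟨a + c, Or.inl (h.uz_mul_uz _ _ _ _)⟩
  inv_mem' := by
    rintro _ ⟨a, rfl | rfl⟩
    · exact ⟨-a, Or.inl (h.u_inv _ _)⟩
    · exact ⟨-a, Or.inr (h.uz_inv _ _)⟩

theorem u_mem_bSub (h : IsWCoord n u z) (a : ZMod (2 ^ n)) : u a a ∈ bSub h := ⟨a, Or.inl rfl⟩

theorem z_mem_bSub (h : IsWCoord n u z) : z ∈ bSub h :=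
  ⟨0, Or.inr (by rw [h.u_zero, one_mul])⟩

theorem commute_z_of_mem_bSub (h : IsWCoord n u z) (s : S) (hs : s ∈ bSub h) : Commute s z := by
  have h1 : ∀ a, Commute (u a a) z := fun a => by
    show u a a * z = z * u a a
    rw [h.z_u]
  rcases hs with ⟨a, rfl | rfl⟩
  · exact h1 a
  · exact (h1 a).mul_left (Commute.refl z)

/-- commutators of elements of `V` are central -/
theorem commutator_vSub (h : IsWCoord n u z) (s t : S) (hs : s ∈ vSub h) (ht : t ∈ vSub h) :
    ∃ e, s * t * s⁻¹ * t⁻¹ = u e e := by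
  rcases hs with ⟨a, b, hab, rfl | rfl⟩ <;> rcases ht with ⟨c, d, hcd, rfl | rfl⟩
  · refine ⟨0, ?_⟩
    rw [h.u_conj_u, mul_inv_cancel, h.u_zero]
  · refine ⟨a - b, ?_⟩
    rw [h.u_conj_uz, h.uz_inv, h.uz_mul_uz]
    congr 1
    · ring
    · linear_combination -hab
  · refine ⟨d - c, ?_⟩
    rw [h.uz_conj_u, h.u_inv, h.u_mul]
    congr 1
    · ring
    · linear_combination hcd
  · refine ⟨d - c + (a - b), ?_⟩
    rw [h.uz_conj_uz, h.uz_inv, h.uz_mul_uz]
    congr 1
    · ring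
    · linear_combination hcd - hab

end InS

section Key

variable {G : Type*} [Group G] {S : Subgroup G} {n : ℕ} {u : ZMod (2 ^ n) → ZMod (2 ^ n) → S}
  {z : S}

/-- In a finite group, `g V g⁻¹ ≤ V` suffices for `g` to normalize `V`. -/
theorem mem_normalizer_of_conj_mem [Finite G] (V : Subgroup G) (g : G)
    (hg : ∀ x ∈ V, g * x * g⁻¹ ∈ V) : g ∈ Subgroup.normalizer (V : Set G) := by
  have h3 : V.map (MulAut.conj g).toMonoidHom ≤ V := by
    rintro _ ⟨x, hx, rfl⟩
    exact hg x hx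
  have h4 : V.map (MulAut.conj g).toMonoidHom = V := by
    apply Subgroup.eq_of_le_of_card_ge h3
    exact (Nat.card_congr (V.equivMapOfInjective (MulAut.conj g).toMonoidHom
      (MulAut.conj g).injective).toEquiv).le
  rw [Subgroup.mem_normalizer_iff]
  intro x
  constructor
  · exact hg x
  · intro hx
    have h5 : g * x * g⁻¹ ∈ V.map (MulAut.conj g).toMonoidHom := by rw [h4]; exact hx
    obtain ⟨y, hy, hxy⟩ := h5
    have h6 : g * y * g⁻¹ = g * x * g⁻¹ := hxy
    have h7 : y = x := mul_left_cancel (mul_right_cancel h6)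
    rw [← h7]; exact hy

theorem coe_commute {s t : S} (e : Commute (s : G) (t : G)) : Commute s t :=
  Subtype.ext e

theorem commute_coe {s t : S} (e : Commute s t) : Commute (s : G) (t : G) :=
  congrArg Subtype.val e

/-- The final contradiction: if some `f` conjugates `V` into `S` and `⟨z⟩ × Z(S)` into the base,
then `|N(V) : V C(V)|` is not two. -/
theorem relIndex_ne_two [Finite G] (h : IsWCoord n u z) (f : G)
    (hV : ∀ v ∈ vSub h, f * (v : G) * f⁻¹ ∈ S)
    (hZf : ∀ a : ZMod (2 ^ n), ∃ c d, ((u c d : S) : G) = f * (u a a : S) * f⁻¹)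
    (hzf : ∃ c d, ((u c d : S) : G) = f * (z : S) * f⁻¹) :
    ((vSub h).map S.subtype ⊔
      Subgroup.centralizer (((vSub h).map S.subtype : Subgroup G) : Set G)).relIndex
      (Subgroup.normalizer (((vSub h).map S.subtype : Subgroup G) : Set G)) ≠ 2 := by
  intro h2
  have hn := h.two_le
  have hn1 := h.one_le
  have hη0 := half_ne_zero n hn1
  have h2η := two_mul_half n hn1
  have hδ := half_eq n hn
  set η : ZMod (2 ^ n) := 2 ^ (n - 1) with hη
  set δ : ZMod (2 ^ n) := 2 ^ (n - 2) with hδdef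
  have hbV : u η 0 ∈ vSub h := (u_mem_vSub h _ _).2 (by rw [sub_zero]; exact h2η)
  obtain ⟨s, hs⟩ : ∃ s : S, (s : G) = f * (u η 0 : S) * f⁻¹ := ⟨⟨_, hV _ hbV⟩, rfl⟩
  obtain ⟨e1, e2, hze⟩ := hzf
  -- `s` is outside of the base
  have hs' : ∃ c d, s = u c d * z := by
    rcases h.cases s with ⟨c, d, rfl⟩ | hcd
    · exfalso
      have c1 : Commute ((u c d : S) : G) ((u e1 e2 : S) : G) :=
        commute_coe (h.u_comm _ _ _ _)
      rw [hs, hze, Commute.conj_iff] at c1
      have c2 : Commute (u η 0) (u 0 0 * z) := by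
        rw [h.u_zero, one_mul]
        exact coe_commute c1
      rw [commute_u_uz_iff h] at c2
      exact hη0 c2
    · exact hcd
  obtain ⟨c, d, rfl⟩ := hs'
  -- `f` normalizes the centre
  have hZ : ∀ a, ∃ e, ((u e e : S) : G) = f * (u a a : S) * f⁻¹ := by
    intro a
    obtain ⟨e, e', hee⟩ := hZf a
    have c0 : Commute (u a a) (u η 0) := h.u_comm _ _ _ _
    have c1 : Commute (f * ((u a a : S) : G) * f⁻¹) (f * ((u η 0 : S) : G) * f⁻¹) := by
      rw [Commute.conj_iff]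
      exact commute_coe c0
    rw [← hs, ← hee] at c1
    have c2 := (commute_u_uz_iff h _ _ _ _).1 (coe_commute c1)
    subst c2
    exact ⟨e, hee⟩
  choose φ hφ using hZ
  have hφinj : Function.Injective φ := by
    intro a b hab
    have e1 := hφ a
    rw [hab, hφ b] at e1
    have e2 := mul_left_cancel (mul_right_cancel e1)
    exact (h.u_inj _ _ _ _ (Subtype.ext e2)).1.symm
  have hφsurj : Function.Surjective φ := Finite.surjective_of_injective hφinj
  have hZ' : ∀ e, ∃ a, f⁻¹ * ((u e e : S) : G) * f = (u a a : S) := by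
    intro e
    obtain ⟨a, rfl⟩ := hφsurj e
    refine ⟨a, ?_⟩
    rw [hφ a]; group
  -- the coordinates of `f z f⁻¹`
  have he12 : e1 ≠ e2 := by
    rintro rfl
    obtain ⟨a, ha⟩ := hZ' e1
    rw [hze] at ha
    have e3 : ((z : S) : G) = (u a a : S) := by rw [← ha]; group
    have e4 : u a a = u 0 0 * z := by rw [h.u_zero, one_mul]; exact (Subtype.ext e3).symm
    exact h.u_ne _ _ _ _ e4
  have he : 2 * e1 = 0 ∧ 2 * e2 = 0 := by
    have e3 : ((u e1 e2 * u e1 e2 : S) : G) = (1 : S) := by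
      rw [Subgroup.coe_mul, hze]
      have : f * (z : G) * f⁻¹ * (f * (z : G) * f⁻¹) = f * ((z : G) * (z : G)) * f⁻¹ := by group
      rw [this, ← Subgroup.coe_mul, h.z_z]; simp
    have e4 : u e1 e2 * u e1 e2 = 1 := Subtype.ext e3
    rw [h.u_mul, h.u_eq_one_iff] at e4
    rw [two_mul, two_mul]
    exact e4
  have hediff : e1 - e2 = η := by
    have e3 : 2 * (e1 - e2) = 0 := by linear_combination he.1 - he.2
    rcases (two_mul_eq_zero_iff n hn1 _).1 e3 with e4 | e4
    · exact absurd (sub_eq_zero.1 e4) he12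
    · exact e4
  -- `e₀ = [r₀, f b f⁻¹]` pulled back
  have he0 : ∃ a, f⁻¹ * ((u δ (-δ) : S) : G) * f = ((z * u a a : S) : G) := by
    obtain ⟨a, ha⟩ := hZ' (δ - e1)
    refine ⟨a, ?_⟩
    have e3 : u δ (-δ) = u e1 e2 * u (δ - e1) (δ - e1) := by
      rw [h.u_mul]
      congr 1
      · ring
      · linear_combination (-1 : ZMod (2 ^ n)) * hδ + hediff
    rw [e3, Subgroup.coe_mul, Subgroup.coe_mul, ← ha, hze]
    group
  obtain ⟨ζ, hζ⟩ := he0
  -- the two elements normalizing `V`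
  set r : G := f⁻¹ * ((u δ 0 : S) : G) * f with hr
  set V : Subgroup G := (vSub h).map S.subtype with hVdef
  have memV : ∀ s : S, (s : G) ∈ V ↔ s ∈ vSub h := by
    intro s
    rw [hVdef, Subgroup.mem_map]
    constructor
    · rintro ⟨t, ht, e⟩
      have : t = s := Subtype.ext e
      rwa [← this]
    · intro hs
      exact ⟨s, hs, rfl⟩
  have memV' : ∀ x ∈ V, ∃ s ∈ vSub h, (s : G) = x := by
    intro x hx
    rw [hVdef, Subgroup.mem_map] at hx
    exact hx
  -- conjugation by `r`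
  have r_Z : ∀ a, r * ((u a a : S) : G) * r⁻¹ = (u a a : S) := by
    intro a
    have e3 : ((u δ 0 : S) : G) * ((u (φ a) (φ a) : S) : G) * ((u δ 0 : S) : G)⁻¹ =
        ((u (φ a) (φ a) : S) : G) := by
      rw [← Subgroup.coe_mul, ← Subgroup.coe_inv, ← Subgroup.coe_mul, h.u_conj_u]
    rw [hφ a] at e3
    have e4 : r * ((u a a : S) : G) * r⁻¹ = f⁻¹ * (((u δ 0 : S) : G) *
        (f * ((u a a : S) : G) * f⁻¹) * ((u δ 0 : S) : G)⁻¹) * f := by
      rw [hr]; group
    rw [e4, e3]; group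
  have r_z : r * (z : G) * r⁻¹ = z := by
    have e3 : ((u δ 0 : S) : G) * ((u e1 e2 : S) : G) * ((u δ 0 : S) : G)⁻¹ =
        ((u e1 e2 : S) : G) := by
      rw [← Subgroup.coe_mul, ← Subgroup.coe_inv, ← Subgroup.coe_mul, h.u_conj_u]
    rw [hze] at e3
    have e4 : r * (z : G) * r⁻¹ = f⁻¹ * (((u δ 0 : S) : G) *
        (f * (z : G) * f⁻¹) * ((u δ 0 : S) : G)⁻¹) * f := by
      rw [hr]; group
    rw [e4, e3]; group
  have r_b : r * ((u η 0 : S) : G) * r⁻¹ = ((z * u ζ ζ : S) : G) * ((u η 0 : S) : G) := by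
    have e3 : ((u δ 0 : S) : G) * ((u c d * z : S) : G) * ((u δ 0 : S) : G)⁻¹ =
        ((u δ (-δ) : S) : G) * ((u c d * z : S) : G) := by
      rw [← Subgroup.coe_mul, ← Subgroup.coe_inv, ← Subgroup.coe_mul, h.u_conj_uz,
        ← Subgroup.coe_mul, h.u_mul_uz]
      congr 3 <;> ring
    rw [hs] at e3
    have e4 : r * ((u η 0 : S) : G) * r⁻¹ = f⁻¹ * (((u δ 0 : S) : G) *
        (f * ((u η 0 : S) : G) * f⁻¹) * ((u δ 0 : S) : G)⁻¹) * f := by
      rw [hr]; group
    rw [e4, e3, ← hζ]; group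
  -- generators of `V`
  have Vgen : ∀ K : Subgroup G, (∀ a, ((u a a : S) : G) ∈ K) → (z : G) ∈ K →
      ((u η 0 : S) : G) ∈ K → V ≤ K := by
    intro K hK1 hK2 hK3 x hx
    obtain ⟨s, ⟨a, b, hab, hs1⟩, rfl⟩ := memV' x hx
    have hu : ((u a b : S) : G) ∈ K := by
      rcases (two_mul_eq_zero_iff n hn1 _).1 hab with h3 | h3
      · have : a = b := by linear_combination h3
        rw [this]; exact hK1 b
      · have h4 := K.mul_mem hK3 (hK1 b)
        rw [← Subgroup.coe_mul, h.u_mul] at h4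
        have h5 : u (η + b) (0 + b) = u a b := by
          congr 1
          · rw [hη, ← h3]; ring
          · ring
        rwa [h5] at h4
    rcases hs1 with rfl | rfl
    · exact hu
    · rw [Subgroup.coe_mul]; exact K.mul_mem hu hK2
  have hzV : z ∈ vSub h := ⟨0, 0, by simp, Or.inr (by rw [h.u_zero, one_mul])⟩
  have haV : ∀ a, u a a ∈ vSub h := fun a => (u_mem_vSub h _ _).2 (by ring)
  have norm_of := mem_normalizer_of_conj_mem V
  have norm_of' : ∀ g : G, (∀ a, g * ((u a a : S) : G) * g⁻¹ ∈ V) → g * (z : G) * g⁻¹ ∈ V →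
      g * ((u η 0 : S) : G) * g⁻¹ ∈ V → g ∈ Subgroup.normalizer (V : Set G) := by
    intro g h3 h4 h5
    apply norm_of
    have := Vgen (V.comap (MulAut.conj g).toMonoidHom) h3 h4 h5
    intro x hx
    exact this hx
  have hrN : r ∈ Subgroup.normalizer (V : Set G) := by
    apply norm_of'
    · intro a
      rw [r_Z, memV]; exact haV a
    · rw [r_z, memV]; exact hzV
    · rw [r_b, ← Subgroup.coe_mul, memV]
      exact Subgroup.mul_mem _ (Subgroup.mul_mem _ hzV (haV ζ)) hbV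
  set t : G := ((u δ 0 : S) : G) with ht
  have t_u : ∀ a b, t * ((u a b : S) : G) * t⁻¹ = (u a b : S) := by
    intro a b
    rw [ht, ← Subgroup.coe_mul, ← Subgroup.coe_inv, ← Subgroup.coe_mul, h.u_conj_u]
  have t_z : t * (z : G) * t⁻¹ = ((u δ (-δ) * z : S) : G) := by
    rw [ht, ← Subgroup.coe_mul, ← Subgroup.coe_inv, ← Subgroup.coe_mul]
    have e3 : z = u 0 0 * z := by rw [h.u_zero, one_mul]
    conv_lhs => rw [e3]
    rw [h.u_conj_uz]
    congr 3 <;> ring
  have hδδ : 2 * (δ - -δ) = 0 := by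
    linear_combination (2 : ZMod (2 ^ n)) * hδ + h2η
  have htN : t ∈ Subgroup.normalizer (V : Set G) := by
    apply norm_of'
    · intro a
      rw [t_u, memV]; exact haV a
    · rw [t_z, memV]
      exact (uz_mem_vSub h _ _).2 hδδ
    · rw [t_u, memV]; exact hbV
  -- the subgroup acting trivially on `V / Z`
  let K : Subgroup G :=
    { carrier := {m | (∀ a, m * ((u a a : S) : G) = (u a a : S) * m) ∧
        ∀ v ∈ V, ∃ e, m * v * m⁻¹ * v⁻¹ = (u e e : S)}
      one_mem' := ⟨fun a => by rw [one_mul, mul_one], fun v _ => ⟨0, by rw [h.u_zero]; simp⟩⟩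
      mul_mem' := by
        rintro m m' ⟨hm1, hm2⟩ ⟨hm1', hm2'⟩
        refine ⟨fun a => by rw [mul_assoc, hm1', ← mul_assoc, hm1, mul_assoc], fun v hv => ?_⟩
        obtain ⟨e, he⟩ := hm2 v hv
        obtain ⟨e', he'⟩ := hm2' v hv
        refine ⟨e' + e, ?_⟩
        rw [← h.u_mul, Subgroup.coe_mul, ← he, ← he']
        have e3 : m * (m' * v * m'⁻¹ * v⁻¹) * m⁻¹ = (m' * v * m'⁻¹ * v⁻¹) := by
          rw [he', hm1, mul_assoc, mul_inv_cancel, mul_one]
        have e4 : m * m' * v * (m * m')⁻¹ * v⁻¹ =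
            (m * (m' * v * m'⁻¹ * v⁻¹) * m⁻¹) * (m * v * m⁻¹ * v⁻¹) := by group
        rw [e4, e3]
      inv_mem' := by
        rintro m ⟨hm1, hm2⟩
        have hm1' : ∀ a, m⁻¹ * ((u a a : S) : G) = (u a a : S) * m⁻¹ := by
          intro a
          rw [inv_mul_eq_iff_eq_mul, ← mul_assoc, hm1, mul_assoc, mul_inv_cancel, mul_one]
        refine ⟨hm1', fun v hv => ?_⟩
        obtain ⟨e, he⟩ := hm2 v hv
        refine ⟨-e, ?_⟩
        rw [← h.u_inv, Subgroup.coe_inv, ← he]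
        have e3 : m⁻¹ * (m * v * m⁻¹ * v⁻¹)⁻¹ * m = (m * v * m⁻¹ * v⁻¹)⁻¹ := by
          rw [he, ← Subgroup.coe_inv, h.u_inv, hm1', mul_assoc, inv_mul_cancel, mul_one]
        rw [← e3]; group }
  have hMK : V ⊔ Subgroup.centralizer (V : Set G) ≤ K := by
    rw [sup_le_iff]
    constructor
    · intro x hx
      obtain ⟨s, hs1, rfl⟩ := memV' x hx
      refine ⟨fun a => ?_, fun v hv => ?_⟩
      · rw [← Subgroup.coe_mul, ← Subgroup.coe_mul]
        have e3 := (h.mem_center_iff (u a a)).2 ⟨a, rfl⟩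
        rw [Subgroup.mem_center_iff] at e3
        rw [e3 s]
      · obtain ⟨s', hs1', rfl⟩ := memV' v hv
        obtain ⟨e, he⟩ := commutator_vSub h s s' hs1 hs1'
        exact ⟨e, by rw [← he]; simp⟩
    · intro x hx
      rw [Subgroup.mem_centralizer_iff] at hx
      refine ⟨fun a => (hx _ ((memV _).2 (haV a))).symm, fun v hv => ⟨0, ?_⟩⟩
      rw [← hx v hv, h.u_zero]
      simp
  have htK : t ∉ K := by
    rintro ⟨-, h3⟩
    obtain ⟨e, he⟩ := h3 (z : G) ((memV z).2 hzV)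
    rw [t_z, ← Subgroup.coe_inv, ← Subgroup.coe_mul, mul_assoc, mul_inv_cancel, mul_one] at he
    obtain ⟨h4, h5⟩ := h.u_inj _ _ _ _ (Subtype.ext he)
    apply hη0
    rw [← hδ]
    linear_combination h4 - h5
  have hzu : ∀ e, ((z * u ζ ζ : S) : G) ≠ (u e e : S) := by
    intro e he
    have h3 : z * u ζ ζ = u e e := Subtype.ext he
    rw [h.z_u] at h3
    exact h.u_ne _ _ _ _ h3.symm
  have hrK : r ∉ K := by
    rintro ⟨-, h3⟩
    obtain ⟨e, he⟩ := h3 _ ((memV _).2 hbV)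
    rw [r_b, mul_assoc, mul_inv_cancel, mul_one] at he
    exact hzu e he
  have hrtK : r * t ∉ K := by
    rintro ⟨-, h3⟩
    obtain ⟨e, he⟩ := h3 _ ((memV _).2 hbV)
    have e4 : r * t * ((u η 0 : S) : G) * (r * t)⁻¹ = r * (t * ((u η 0 : S) : G) * t⁻¹) * r⁻¹ := by
      group
    rw [e4, t_u, r_b, mul_assoc, mul_inv_cancel, mul_one] at he
    exact hzu e he
  -- conclusion
  have h5 : ((V ⊔ Subgroup.centralizer (V : Set G)).subgroupOf
      (Subgroup.normalizer (V : Set G))).index = 2 := h2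
  have h6 := Subgroup.mul_mem_iff_of_index_two h5 (a := ⟨r, hrN⟩) (b := ⟨t, htN⟩)
  have h7 : (⟨r, hrN⟩ : Subgroup.normalizer (V : Set G)) ∉
      (V ⊔ Subgroup.centralizer (V : Set G)).subgroupOf (Subgroup.normalizer (V : Set G)) := by
    intro h8
    exact hrK (hMK (Subgroup.mem_subgroupOf.1 h8))
  have h8 : (⟨t, htN⟩ : Subgroup.normalizer (V : Set G)) ∉
      (V ⊔ Subgroup.centralizer (V : Set G)).subgroupOf (Subgroup.normalizer (V : Set G)) := by
    intro h8
    exact htK (hMK (Subgroup.mem_subgroupOf.1 h8))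
  have h9 := h6.2 ⟨fun h => absurd h h7, fun h => absurd h h8⟩
  exact hrtK (hMK (Subgroup.mem_subgroupOf.1 h9))

/-- If `V ≤ S` is the subgroup `Q Z(S)` and `|N(V) : V C(V)| = 2` then the involution `z` outside
the base is not conjugate to the central involution. -/
theorem not_conj_central [Finite G] (P : Sylow 2 G) {u : ZMod (2 ^ n) → ZMod (2 ^ n) → P}
    {z : P} (h : IsWCoord n u z)
    (h2 : ((vSub h).map (P : Subgroup G).subtype ⊔
      Subgroup.centralizer (((vSub h).map (P : Subgroup G).subtype : Subgroup G) :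
        Set G)).relIndex
      (Subgroup.normalizer (((vSub h).map (P : Subgroup G).subtype : Subgroup G) : Set G)) = 2)
    (g₀ : G) : g₀ * (z : G) * g₀⁻¹ ≠ (u (2 ^ (n - 1)) (2 ^ (n - 1)) : P) := by
  intro hg₀
  have : Fact (Nat.Prime 2) := ⟨Nat.prime_two⟩
  have hn := h.two_le
  have hn1 := h.one_le
  have hη0 := half_ne_zero n hn1
  have h2η := two_mul_half n hn1
  have hδ := half_eq n hn
  set η : ZMod (2 ^ n) := 2 ^ (n - 1) with hη
  set δ : ZMod (2 ^ n) := 2 ^ (n - 2) with hδdef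
  have hPp : IsPGroup 2 (P : Subgroup G) := P.isPGroup'
  -- subgroups of G
  have pgroup_map : ∀ (A : Subgroup P) (x : G),
      IsPGroup 2 ((A.map (P : Subgroup G).subtype).map (MulAut.conj x).toMonoidHom) := by
    intro A x
    exact ((hPp.to_subgroup A).map _).map _
  set B : Subgroup G := (bSub h).map (P : Subgroup G).subtype with hB
  have memB : ∀ s ∈ bSub h, (s : G) ∈ B := fun s hs => ⟨s, hs, rfl⟩
  -- Step A
  obtain ⟨g, hg, hgB⟩ : ∃ g : G, g * (z : G) * g⁻¹ = (u η η : P) ∧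
      ∀ s ∈ bSub h, g * (s : G) * g⁻¹ ∈ (P : Subgroup G) := by
    have hS : (P : Subgroup G) ≤ Subgroup.centralizer {((u η η : P) : G)} := by
      intro s hs
      rw [Subgroup.mem_centralizer_singleton_iff]
      have h3 := (h.mem_center_iff (u η η)).2 ⟨η, rfl⟩
      rw [Subgroup.mem_center_iff] at h3
      exact congrArg Subtype.val (h3 ⟨s, hs⟩)
    have hVH : (B.map (MulAut.conj g₀).toMonoidHom) ≤
        Subgroup.centralizer {((u η η : P) : G)} := by
      rintro _ ⟨_, ⟨s, hs, rfl⟩, rfl⟩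
      rw [Subgroup.mem_centralizer_singleton_iff, ← hg₀]
      have h3 : Commute (g₀ * (s : G) * g₀⁻¹) (g₀ * (z : G) * g₀⁻¹) := by
        rw [Commute.conj_iff]
        exact commute_coe (commute_z_of_mem_bSub h s hs)
      exact h3
    obtain ⟨c, hc, hc'⟩ := exists_conj_le_of_sylow_le P _ _ hS (pgroup_map (bSub h) g₀) hVH
    refine ⟨c * g₀, ?_, ?_⟩
    · rw [Subgroup.mem_centralizer_singleton_iff] at hc
      have h3 : c * g₀ * (z : G) * (c * g₀)⁻¹ = c * (g₀ * (z : G) * g₀⁻¹) * c⁻¹ := by group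
      rw [h3, hg₀, hc, mul_assoc, mul_inv_cancel, mul_one]
    · intro s hs
      have h3 : c * g₀ * (s : G) * (c * g₀)⁻¹ = c * (g₀ * (s : G) * g₀⁻¹) * c⁻¹ := by group
      rw [h3]
      exact hc' _ ⟨_, memB s hs, rfl⟩
  -- Step B
  have hgU : ∀ s ∈ bSub h, ∃ c d, ((u c d : P) : G) = g * (s : G) * g⁻¹ := by
    obtain ⟨s1, hs1⟩ : ∃ s1 : P, (s1 : G) = g * ((u 1 1 : P) : G) * g⁻¹ :=
      ⟨⟨_, hgB _ (u_mem_bSub h 1)⟩, rfl⟩
    have hpow : ((s1 ^ (2 ^ (n - 1)) : P) : G) = g * ((u η η : P) : G) * g⁻¹ := by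
      rw [Subgroup.coe_pow, hs1, conj_pow, ← Subgroup.coe_pow, h.u_pow]
      congr 3
      rw [hη]
      push_cast
      rw [mul_one]
    have hne : ((u η η : P) : G) ≠ g * ((u η η : P) : G) * g⁻¹ := by
      intro e
      rw [← hg] at e
      have e1 := mul_left_cancel (mul_right_cancel e)
      rw [hg] at e1
      have e2 : u η η = u 0 0 * z := by
        rw [h.u_zero, one_mul]; exact (Subtype.ext e1).symm
      exact h.u_ne _ _ _ _ e2
    have hef : ∃ e f, e ≠ f ∧ s1 ^ (2 ^ (n - 1)) = u e f := by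
      have h3 : ∃ e f, s1 ^ (2 ^ (n - 1)) = u e f := by
        rcases h.cases s1 with ⟨c, d, rfl⟩ | ⟨c, d, rfl⟩
        · exact ⟨_, _, h.u_pow _ _ _⟩
        · have h4 : 2 ^ (n - 1) = 2 * 2 ^ (n - 2) := by
            rw [← pow_succ']
            congr 1
            omega
          rw [h4, pow_mul, h.uz_sq, h.u_pow]
          exact ⟨_, _, rfl⟩
      obtain ⟨e, f, hef⟩ := h3
      refine ⟨e, f, ?_, hef⟩
      rintro rfl
      rw [hef] at hpow
      have h5 : ((u e e * u e e : P) : G) = 1 := by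
        rw [Subgroup.coe_mul, hpow]
        have h6 : g * ((u η η : P) : G) * g⁻¹ * (g * ((u η η : P) : G) * g⁻¹) =
            g * (((u η η : P) : G) * ((u η η : P) : G)) * g⁻¹ := by group
        rw [h6, ← Subgroup.coe_mul, h.u_mul, ← two_mul, h2η, h.u_zero]
        simp
      have h6 : u e e * u e e = 1 := Subtype.ext h5
      rw [h.u_mul, h.u_eq_one_iff, ← two_mul] at h6
      rcases (two_mul_eq_zero_iff n hn1 _).1 h6.1 with h7 | h7
      · rw [h7, h.u_zero] at hpow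
        have h8 : ((u η η : P) : G) = 1 := by
          have h9 : ((u η η : P) : G) = g⁻¹ * (g * ((u η η : P) : G) * g⁻¹) * g := by group
          rw [h9, ← hpow]; simp
        have h9 : u η η = 1 := Subtype.ext h8
        rw [h.u_eq_one_iff] at h9
        exact hη0 h9.1
      · rw [h7] at hpow
        exact hne hpow
    obtain ⟨e, f, hne', hef⟩ := hef
    rw [hef] at hpow
    intro s hs
    obtain ⟨s', hs'⟩ : ∃ s' : P, (s' : G) = g * (s : G) * g⁻¹ := ⟨⟨_, hgB s hs⟩, rfl⟩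
    rw [← hs']
    rcases h.cases s' with ⟨c, d, rfl⟩ | ⟨c, d, rfl⟩
    · exact ⟨c, d, rfl⟩
    · exfalso
      have h3 : Commute (g * ((u η η : P) : G) * g⁻¹) (g * (s : G) * g⁻¹) := by
        rw [Commute.conj_iff]
        have h4 := (h.mem_center_iff (u η η)).2 ⟨η, rfl⟩
        rw [Subgroup.mem_center_iff] at h4
        exact (congrArg Subtype.val (h4 s)).symm
      rw [← hpow, ← hs'] at h3
      exact hne' ((commute_u_uz_iff h _ _ _ _).1 (coe_commute h3))
  -- Step C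
  set U : Subgroup G := h.base.map (P : Subgroup G).subtype with hU
  have memU : ∀ x ∈ U, ∃ c d, ((u c d : P) : G) = x := by
    rintro _ ⟨_, ⟨c, d, rfl⟩, rfl⟩
    exact ⟨c, d, rfl⟩
  have memU' : ∀ c d, ((u c d : P) : G) ∈ U := fun c d => ⟨_, h.u_mem_base c d, rfl⟩
  set V : Subgroup G := (vSub h).map (P : Subgroup G).subtype with hV
  set A : Subgroup G := U.map (MulAut.conj g⁻¹).toMonoidHom with hA
  have hAC : A ≤ Subgroup.centralizer (B : Set G) := by
    rintro _ ⟨x, hx, rfl⟩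
    obtain ⟨c, d, rfl⟩ := memU x hx
    rw [Subgroup.mem_centralizer_iff]
    rintro _ ⟨s, hs, rfl⟩
    obtain ⟨c', d', h3⟩ := hgU s hs
    have h4 : Commute (g * (s : G) * g⁻¹) ((u c d : P) : G) := by
      rw [← h3]; exact commute_coe (h.u_comm _ _ _ _)
    have h5 : Commute (g⁻¹ * (g * (s : G) * g⁻¹) * g⁻¹⁻¹) (g⁻¹ * ((u c d : P) : G) * g⁻¹⁻¹) := by
      rw [Commute.conj_iff]; exact h4
    have h6 : g⁻¹ * (g * (s : G) * g⁻¹) * g⁻¹⁻¹ = (s : G) := by group
    rw [h6] at h5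
    exact h5
  have hAN : A ≤ Subgroup.normalizer (B : Set G) := by
    intro x hx
    apply mem_normalizer_of_conj_mem
    intro y hy
    have h3 := (Subgroup.mem_centralizer_iff.1 (hAC hx)) y hy
    rw [← h3, mul_assoc, mul_inv_cancel, mul_one]
    exact hy
  have hVN : V ≤ Subgroup.normalizer (B : Set G) := by
    rintro _ ⟨v, hv, rfl⟩
    apply mem_normalizer_of_conj_mem
    rintro _ ⟨s, hs, rfl⟩
    have h3 : v * s * v⁻¹ ∈ bSub h := by
      rcases hv with ⟨a, b, hab, rfl | rfl⟩ <;> rcases hs with ⟨e, rfl | rfl⟩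
      · rw [h.u_conj_u]; exact ⟨e, Or.inl rfl⟩
      · rw [h.u_conj_uz]
        refine ⟨e + (a - b), Or.inr ?_⟩
        congr 2
        linear_combination -hab
      · rw [h.uz_conj_u]; exact ⟨e, Or.inl rfl⟩
      · rw [h.uz_conj_uz]
        refine ⟨e + (a - b), Or.inr ?_⟩
        congr 2
        linear_combination -hab
    exact memB _ h3
  have hAp : IsPGroup 2 A := pgroup_map h.base g⁻¹
  have hVp : IsPGroup 2 V := (hPp.to_subgroup (vSub h)).map _
  obtain ⟨P₀, hP₀H, hP₀p, hAP₀, c, hcH, hcV⟩ :=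
    exists_pgroup_le (Subgroup.normalizer (B : Set G)) A V hAp hAN hVp hVN
  have hcB : ∀ s ∈ bSub h, ∃ s' ∈ bSub h, (s' : G) = c * (s : G) * c⁻¹ := by
    intro s hs
    have h3 : c * (s : G) * c⁻¹ ∈ B := (Subgroup.mem_normalizer_iff.1 hcH _).1 (memB s hs)
    obtain ⟨s', hs', e⟩ := h3
    exact ⟨s', hs', e⟩
  have hbV : u η 0 ∈ vSub h := (u_mem_vSub h _ _).2 (by rw [sub_zero]; exact h2η)
  have hnle : ¬ P₀ ≤ A := by
    intro hle
    have h3 := hAC (hle (hcV _ ⟨_, hbV, rfl⟩))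
    obtain ⟨s', hs', e⟩ := hcB z (z_mem_bSub h)
    have h4 := (Subgroup.mem_centralizer_iff.1 h3) _ (memB s' hs')
    rw [e] at h4
    have h5 : Commute (c * (z : G) * c⁻¹) (c * ((u η 0 : P) : G) * c⁻¹) := h4
    rw [Commute.conj_iff] at h5
    have h6 : Commute (u η 0) (u 0 0 * z) := by
      rw [h.u_zero, one_mul]
      exact (coe_commute h5).symm
    rw [commute_u_uz_iff h] at h6
    exact hη0 h6
  have hcardA : Nat.card A = 2 ^ (2 * n) := by
    have h3 : Nat.card A = Nat.card U := (Nat.card_congr (U.equivMapOfInjective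
      (MulAut.conj g⁻¹).toMonoidHom (MulAut.conj g⁻¹).injective).toEquiv).symm
    have h4 : Nat.card U = Nat.card h.base := (Nat.card_congr (h.base.equivMapOfInjective
      (P : Subgroup G).subtype (P : Subgroup G).subtype_injective).toEquiv).symm
    rw [h3, h4, h.card_base]
  have hrel : A.relIndex P₀ = 2 := by
    obtain ⟨R, hR⟩ := hP₀p.exists_le_sylow
    have h3 : Nat.card (R : Subgroup G) = 2 ^ (2 * n + 1) := by
      rw [← h.card]
      exact Nat.card_congr (R.equiv P).toEquiv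
    have h4 : Nat.card P₀ ∣ 2 ^ (2 * n + 1) := by
      rw [← h3]; exact Subgroup.card_dvd_of_le hR
    have h5 : Nat.card A * A.relIndex P₀ = Nat.card P₀ := by
      have h6 := Subgroup.relIndex_mul_relIndex (⊥ : Subgroup G) A P₀ bot_le hAP₀
      rwa [Subgroup.relIndex_bot_left, Subgroup.relIndex_bot_left] at h6
    rw [← h5, hcardA, pow_succ] at h4
    have h6 : A.relIndex P₀ ∣ 2 := Nat.dvd_of_mul_dvd_mul_left (by positivity) h4
    rcases (Nat.dvd_prime Nat.prime_two).1 h6 with h7 | h7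
    · exact absurd (Subgroup.relIndex_eq_one.1 h7) hnle
    · exact h7
  have hnorm : ∀ x ∈ P₀, ∀ a ∈ A, x * a * x⁻¹ ∈ A := by
    have h3 : (A.subgroupOf P₀).Normal := Subgroup.normal_of_index_eq_two hrel
    intro x hx a ha
    have h4 := h3.conj_mem ⟨a, hAP₀ ha⟩ (Subgroup.mem_subgroupOf.2 ha) ⟨x, hx⟩
    exact Subgroup.mem_subgroupOf.1 h4
  -- Step D
  have hVU : V.map (MulAut.conj (g * c)).toMonoidHom ≤ Subgroup.normalizer (U : Set G) := by
    rintro _ ⟨v, hv, rfl⟩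
    apply mem_normalizer_of_conj_mem
    intro x hx
    have h3 : g⁻¹ * x * g⁻¹⁻¹ ∈ A := ⟨x, hx, rfl⟩
    obtain ⟨y, hy, hxy⟩ := hnorm _ (hcV v hv) _ h3
    have h4 : g⁻¹ * y * g⁻¹⁻¹ = c * v * c⁻¹ * (g⁻¹ * x * g⁻¹⁻¹) * (c * v * c⁻¹)⁻¹ := hxy
    have h5 : (g * c) * v * (g * c)⁻¹ * x * ((g * c) * v * (g * c)⁻¹)⁻¹ =
        g * (c * v * c⁻¹ * (g⁻¹ * x * g⁻¹⁻¹) * (c * v * c⁻¹)⁻¹) * g⁻¹ := by group
    have h6 : (g * c) * v * (g * c)⁻¹ * x * ((g * c) * v * (g * c)⁻¹)⁻¹ = y := by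
      rw [h5, ← h4]; group
    show (g * c) * v * (g * c)⁻¹ * x * ((g * c) * v * (g * c)⁻¹)⁻¹ ∈ U
    rw [h6]; exact hy
  have hPU : (P : Subgroup G) ≤ Subgroup.normalizer (U : Set G) := by
    intro s hs
    apply mem_normalizer_of_conj_mem
    rintro _ ⟨x, hx, rfl⟩
    have h3 := h.base_normal.conj_mem x hx ⟨s, hs⟩
    exact ⟨_, h3, rfl⟩
  obtain ⟨k, hk, hkV⟩ := exists_conj_le_of_sylow_le P (Subgroup.normalizer (U : Set G))
    (V.map (MulAut.conj (g * c)).toMonoidHom) hPU (hVp.map _) hVU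
  have hfB : ∀ s ∈ bSub h, ∃ c' d', ((u c' d' : P) : G) =
      (k * (g * c)) * (s : G) * (k * (g * c))⁻¹ := by
    intro s hs
    obtain ⟨s', hs', e⟩ := hcB s hs
    obtain ⟨c', d', e'⟩ := hgU s' hs'
    have h3 : k * ((u c' d' : P) : G) * k⁻¹ ∈ U :=
      (Subgroup.mem_normalizer_iff.1 hk _).1 (memU' c' d')
    obtain ⟨c'', d'', e''⟩ := memU _ h3
    refine ⟨c'', d'', ?_⟩
    rw [e'', e', e]
    group
  refine relIndex_ne_two h (k * (g * c)) ?_ (fun a => hfB _ (u_mem_bSub h a))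
    (hfB _ (z_mem_bSub h)) h2
  intro v hv
  have h3 := hkV ((g * c) * (v : G) * (g * c)⁻¹) ⟨v, ⟨v, hv, rfl⟩, rfl⟩
  have h4 : k * (g * c) * (v : G) * (k * (g * c))⁻¹ =
      k * ((g * c) * (v : G) * (g * c)⁻¹) * k⁻¹ := by group
  rw [h4]
  exact h3

end Key

end Cfsg.Agent.TwoFusion.WreathedFusion
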