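import Mathlib

/-!
Automorphisms of odd order of a subgroup `X` of a group `S`, seen as maps `S → S`, and the
elementary criterion forcing them to fix elements: if `A g = g * k`, `A k = k ^ j` and `k` has
2-power order then `k = 1`.
-/

set_option autoImplicit false

namespace Cfsg.Agent.TwoFusion.OddAut

/-- `A : S → S` restricts to an automorphism of odd order (possibly 1) of the subgroup `X`. -/
structure IsOddAut {S : Type*} [Group S] (X : Subgroup S) (A : S → S) : Prop where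
  mem : ∀ x ∈ X, A x ∈ X
  mul : ∀ x ∈ X, ∀ y ∈ X, A (x * y) = A x * A y
  odd : ∃ r : ℕ, Odd r ∧ ∀ x ∈ X, A^[r] x = x

variable {S : Type*} [Group S] {X : Subgroup S} {A : S → S}

theorem geom_odd (j : ℤ) {r : ℕ} (hr : Odd r) : Odd (∑ i ∈ Finset.range r, j ^ i) := by
  obtain ⟨k, rfl⟩ := hr
  induction k with
  | zero => simp
  | succ k ih =>
    have e : 2 * (k + 1) + 1 = (2 * k + 1) + 1 + 1 := by ring
    rw [e, Finset.sum_range_succ, Finset.sum_range_succ, add_assoc]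
    refine Odd.add_even ih ?_
    have : j ^ (2 * k + 1) + j ^ (2 * k + 1 + 1) = j ^ (2 * k + 1) * (1 + j) := by ring
    rw [this]
    rcases Int.even_or_odd j with h | h
    · exact (h.pow_of_ne_zero (by omega)).mul_right _
    · exact (Odd.add_odd odd_one h).mul_left _

namespace IsOddAut

theorem one (h : IsOddAut X A) : A 1 = 1 := by
  have := h.mul 1 X.one_mem 1 X.one_mem
  rw [mul_one] at this
  exact (left_eq_mul.1 this)

theorem inv (h : IsOddAut X A) {x : S} (hx : x ∈ X) : A x⁻¹ = (A x)⁻¹ := by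
  rw [eq_inv_iff_mul_eq_one, ← h.mul _ (X.inv_mem hx) _ hx, inv_mul_cancel, h.one]

theorem pow (h : IsOddAut X A) {x : S} (hx : x ∈ X) (k : ℕ) : A (x ^ k) = A x ^ k := by
  induction k with
  | zero => simp [h.one]
  | succ k ih => rw [pow_succ, pow_succ, h.mul _ (X.pow_mem hx k) _ hx, ih]

theorem zpow (h : IsOddAut X A) {x : S} (hx : x ∈ X) (k : ℤ) : A (x ^ k) = A x ^ k := by
  obtain ⟨n, rfl | rfl⟩ := k.eq_nat_or_neg
  · rw [zpow_natCast, zpow_natCast, h.pow hx]
  · rw [zpow_neg, zpow_neg, zpow_natCast, zpow_natCast, h.inv (X.pow_mem hx n), h.pow hx]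

theorem iterate_mem (h : IsOddAut X A) (k : ℕ) : ∀ x ∈ X, A^[k] x ∈ X := by
  induction k with
  | zero => intro x hx; exact hx
  | succ k ih =>
    intro x hx
    rw [Function.iterate_succ_apply]
    exact ih _ (h.mem x hx)

theorem exists_preimage (h : IsOddAut X A) {x : S} (hx : x ∈ X) : ∃ y ∈ X, A y = x := by
  obtain ⟨r, hr, hA⟩ := h.odd
  obtain ⟨k, rfl⟩ : ∃ k, r = k + 1 := by
    obtain ⟨k, hk⟩ := hr
    exact ⟨2 * k, by omega⟩
  refine ⟨A^[k] x, h.iterate_mem k x hx, ?_⟩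
  rw [← Function.iterate_succ_apply' A k x]
  exact hA x hx

theorem inj (h : IsOddAut X A) {x y : S} (hx : x ∈ X) (hy : y ∈ X) (e : A x = A y) : x = y := by
  obtain ⟨r, hr, hA⟩ := h.odd
  obtain ⟨k, rfl⟩ : ∃ k, r = k + 1 := by
    obtain ⟨k, hk⟩ := hr
    exact ⟨2 * k, by omega⟩
  rw [← hA x hx, ← hA y hy, Function.iterate_succ_apply, Function.iterate_succ_apply, e]

/-- The key criterion. -/
theorem eq_one_of_eq_mul (h : IsOddAut X A) {g k : S} (hg : g ∈ X) (hk : k ∈ X) {j : ℤ} {m : ℕ}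
    (e : A g = g * k) (e' : A k = k ^ j) (h2 : k ^ (2 ^ m) = 1) : k = 1 := by
  obtain ⟨r, hr, hA⟩ := h.odd
  have key : ∀ i : ℕ, A^[i] g = g * k ^ (∑ t ∈ Finset.range i, j ^ t) := by
    intro i
    induction i with
    | zero => simp
    | succ i ih =>
      rw [Function.iterate_succ_apply', ih, h.mul _ hg _ (X.zpow_mem hk _), e, h.zpow hk, e',
        mul_assoc, ← zpow_mul, ← zpow_one_add]
      congr 2
      rw [geom_sum_succ, add_comm]
  have h1 := key r
  rw [hA g hg] at h1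
  have h3 : k ^ (∑ t ∈ Finset.range r, j ^ t) = 1 := (left_eq_mul.1 h1)
  have h4 := geom_odd j hr
  have h5 : orderOf k ∣ 2 ^ m := orderOf_dvd_of_pow_eq_one h2
  have h6 : (orderOf k : ℤ) ∣ ∑ t ∈ Finset.range r, j ^ t := orderOf_dvd_iff_zpow_eq_one.2 h3
  obtain ⟨i, -, hi⟩ := (Nat.dvd_prime_pow Nat.prime_two).1 h5
  rw [← orderOf_eq_one_iff, hi]
  rcases Nat.eq_zero_or_pos i with h7 | h7
  · rw [h7, pow_zero]
  · exfalso
    rw [hi] at h6
    have h8 : (2 : ℤ) ∣ ((2 ^ i : ℕ) : ℤ) := by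
      obtain ⟨t, rfl⟩ : ∃ t, i = t + 1 := ⟨i - 1, by omega⟩
      exact ⟨2 ^ t, by push_cast; ring⟩
    have h9 := h8.trans h6
    rw [← even_iff_two_dvd] at h9
    exact (Int.not_even_iff_odd.2 h4) h9

/-- Variant: `A g = g ^ i * c`, with `A c = c`, `g` and `c` commuting. -/
theorem fix_of_eq_zpow_mul (h : IsOddAut X A) {g c : S} (hg : g ∈ X) (hc : c ∈ X) {j : ℤ} {m : ℕ}
    (e : A g = g ^ j * c) (hcc : A c = c) (hcomm : Commute g c)
    (h2 : ∀ x : S, x ^ (2 ^ m) = 1) : A g = g := by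
  have hk : g ^ (j - 1) * c ∈ X := X.mul_mem (X.zpow_mem hg _) hc
  have h1 : A g = g * (g ^ (j - 1) * c) := by
    rw [e, ← mul_assoc, ← zpow_one_add]
    congr 2
    ring
  have h3 : A (g ^ (j - 1) * c) = (g ^ (j - 1) * c) ^ j := by
    have hc1 : Commute (g ^ j) c := hcomm.zpow_left j
    have hc2 : Commute (g ^ (j - 1)) c := hcomm.zpow_left _
    rw [h.mul _ (X.zpow_mem hg _) _ hc, h.zpow hg, e, hcc, hc1.mul_zpow, hc2.mul_zpow, mul_assoc,
      ← zpow_add_one, ← zpow_mul, ← zpow_mul]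
    congr 2
    · ring
    · ring
  have h4 := h.eq_one_of_eq_mul hg hk h1 h3 (h2 _)
  rw [h1, h4, mul_one]

/-- Variant: `A g = g * k` with `A k = k`. -/
theorem fix_of_eq_mul (h : IsOddAut X A) {g k : S} (hg : g ∈ X) (hk : k ∈ X) {m : ℕ}
    (e : A g = g * k) (e' : A k = k) (h2 : k ^ (2 ^ m) = 1) : k = 1 :=
  h.eq_one_of_eq_mul hg hk (j := 1) e (by rw [zpow_one]; exact e') h2

end IsOddAut

/-- If `Aut X` is not a 2-group there is a nontrivial automorphism of odd order. -/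
theorem exists_isOddAut [Finite S] (X : Subgroup S) (hA : ¬ IsPGroup 2 (MulAut X)) :
    ∃ A : S → S, IsOddAut X A ∧ ∃ x ∈ X, A x ≠ x := by
  classical
  unfold IsPGroup at hA
  push Not at hA
  obtain ⟨α, hα⟩ := hA
  have : Finite (MulAut X) := inferInstance
  have hpos : 0 < orderOf α := orderOf_pos α
  obtain ⟨k, r, hr, hkr⟩ := Nat.exists_eq_two_pow_mul_odd hpos.ne'
  set β := α ^ (2 ^ k) with hβ
  have hβ1 : β ≠ 1 := hα k
  have hβr : β ^ r = 1 := by
    rw [hβ, ← pow_mul, ← hkr, pow_orderOf_eq_one]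
  let A : S → S := fun s => if hs : s ∈ X then (β ⟨s, hs⟩ : S) else s
  have hAval : ∀ x : X, A x = (β x : S) := by
    intro x
    simp only [A, x.2, dite_true]
  have hit : ∀ (i : ℕ) (x : X), A^[i] x = ((β ^ i) x : S) := by
    intro i
    induction i with
    | zero => intro x; simp
    | succ i ih =>
      intro x
      rw [Function.iterate_succ_apply, hAval, ih, pow_succ]
      rfl
  refine ⟨A, ⟨?_, ?_, r, hr, ?_⟩, ?_⟩
  · intro x hx
    rw [hAval ⟨x, hx⟩]
    exact (β ⟨x, hx⟩).2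
  · intro x hx y hy
    have h1 := hAval (⟨x, hx⟩ * ⟨y, hy⟩)
    rw [map_mul] at h1
    have h2 := hAval ⟨x, hx⟩
    have h3 := hAval ⟨y, hy⟩
    simp only [Subgroup.coe_mul] at h1 h2 h3
    rw [h1, h2, h3]
  · intro x hx
    have := hit r ⟨x, hx⟩
    rw [hβr] at this
    exact this
  · by_contra hcon
    push Not at hcon
    apply hβ1
    ext x
    have := hcon x x.2
    rw [hAval] at this
    exact this

end Cfsg.Agent.TwoFusion.OddAut
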