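import Mathlib
import Cfsg.Agent.TwoFusion.WreathedBasic

/-!
Subgroups of wreathed 2-groups: centralizers of elements outside the base, centres of
non-commutative subgroups.
-/

set_option autoImplicit false

namespace Cfsg.Agent.TwoFusion.WreathedSub

open Cfsg.Agent.TwoFusion.WreathedBasic

variable {S : Type*} [Group S] {n : ℕ} {u : ZMod (2^n) → ZMod (2^n) → S} {z : S}

theorem uz_mul_u (h : IsWCoord n u z) (a b c d : ZMod (2^n)) :
    u a b * z * u c d = u (a + d) (b + c) * z := by
  rw [mul_assoc, h.z_u, ← mul_assoc, h.u_mul]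

theorem u_mul_uz (h : IsWCoord n u z) (a b c d : ZMod (2^n)) :
    u a b * (u c d * z) = u (a + c) (b + d) * z := by
  rw [← mul_assoc, h.u_mul]

theorem uz_mul_uz (h : IsWCoord n u z) (a b c d : ZMod (2^n)) :
    u a b * z * (u c d * z) = u (a + d) (b + c) := by
  rw [← mul_assoc, uz_mul_u h, mul_assoc, h.z_z, mul_one]

theorem uz_inj (h : IsWCoord n u z) {a b c d : ZMod (2^n)} (e : u a b * z = u c d * z) :
    a = c ∧ b = d :=
  h.u_inj _ _ _ _ (mul_right_cancel e)

theorem u_inv (h : IsWCoord n u z) (a b : ZMod (2^n)) : (u a b)⁻¹ = u (-a) (-b) := by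
  rw [inv_eq_iff_mul_eq_one, h.u_mul]
  simp [h.u_zero]

theorem uz_inv (h : IsWCoord n u z) (a b : ZMod (2^n)) : (u a b * z)⁻¹ = u (-b) (-a) * z := by
  rw [inv_eq_iff_mul_eq_one, uz_mul_uz h]
  simp [h.u_zero]

/-- `u c d` commutes with `u a b * z` iff `c = d`. -/
theorem uz_comm_u_iff (h : IsWCoord n u z) (a b c d : ZMod (2^n)) :
    u a b * z * u c d = u c d * (u a b * z) ↔ c = d := by
  rw [uz_mul_u h, u_mul_uz h]
  constructor
  · intro e
    have := (uz_inj h e).1
    rw [add_comm] at this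
    exact (add_right_cancel this).symm
  · rintro rfl
    rw [add_comm a, add_comm b]

/-- `u c d * z` commutes with `u a b * z` iff `a - b = c - d`. -/
theorem uz_comm_uz_iff (h : IsWCoord n u z) (a b c d : ZMod (2^n)) :
    u a b * z * (u c d * z) = u c d * z * (u a b * z) ↔ a - b = c - d := by
  rw [uz_mul_uz h, uz_mul_uz h]
  constructor
  · intro e
    have := (h.u_inj _ _ _ _ e).1
    linear_combination this
  · intro e
    rw [show a + d = c + b by linear_combination e, show b + c = d + a by linear_combination -e]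

theorem u_comm_u (h : IsWCoord n u z) (a b c d : ZMod (2^n)) :
    u a b * u c d = u c d * u a b := by
  rw [h.u_mul, h.u_mul, add_comm a, add_comm b]

theorem u_mem_center (h : IsWCoord n u z) (a : ZMod (2^n)) : u a a ∈ Subgroup.center S := by
  rw [Subgroup.mem_center_iff]
  intro s
  rcases h.cases s with ⟨c, d, rfl⟩ | ⟨c, d, rfl⟩
  · exact u_comm_u h _ _ _ _
  · exact (uz_comm_u_iff h _ _ _ _).2 rfl

theorem mem_center_iff (h : IsWCoord n u z) (s : S) :
    s ∈ Subgroup.center S ↔ ∃ a, s = u a a := by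
  constructor
  · intro hs
    rw [Subgroup.mem_center_iff] at hs
    rcases h.cases s with ⟨c, d, rfl⟩ | ⟨c, d, rfl⟩
    · have := hs (u 0 0 * z)
      rw [uz_comm_u_iff h] at this
      exact ⟨c, by rw [this]⟩
    · have h1 := (hs (u 1 0)).symm
      rw [uz_comm_u_iff h] at h1
      exfalso
      have hn : 1 < 2 ^ n := Nat.one_lt_pow (by have := h.two_le; omega) (by norm_num)
      have : Fact (1 < 2 ^ n) := ⟨hn⟩
      exact one_ne_zero h1
  · rintro ⟨a, rfl⟩
    exact u_mem_center h a

/-- A non-commutative subgroup contains an element outside the base. -/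
theorem exists_uz_mem (h : IsWCoord n u z) (X : Subgroup S) (hX : ¬ IsMulCommutative X) :
    ∃ a b, u a b * z ∈ X := by
  by_contra hcon
  push Not at hcon
  apply hX
  refine ⟨⟨?_⟩⟩
  rintro ⟨x, hx⟩ ⟨y, hy⟩
  apply Subtype.ext
  change x * y = y * x
  rcases h.cases x with ⟨c, d, rfl⟩ | ⟨c, d, rfl⟩
  · rcases h.cases y with ⟨e, f, rfl⟩ | ⟨e, f, rfl⟩
    · exact u_comm_u h _ _ _ _
    · exact absurd hy (hcon e f)
  · exact absurd hx (hcon c d)

/-- Everything centralizing an element outside the base commutes pairwise. -/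
theorem comm_of_centralize (h : IsWCoord n u z) (a b : ZMod (2^n)) {x y : S}
    (hx : u a b * z * x = x * (u a b * z)) (hy : u a b * z * y = y * (u a b * z)) :
    x * y = y * x := by
  rcases h.cases x with ⟨c, d, rfl⟩ | ⟨c, d, rfl⟩
  · rw [uz_comm_u_iff h] at hx
    subst hx
    exact ((Subgroup.mem_center_iff.1 (u_mem_center h c)) y).symm
  · rw [uz_comm_uz_iff h] at hx
    rcases h.cases y with ⟨e, f, rfl⟩ | ⟨e, f, rfl⟩
    · rw [uz_comm_u_iff h] at hy
      subst hy
      exact ((Subgroup.mem_center_iff.1 (u_mem_center h e)) _)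
    · rw [uz_comm_uz_iff h] at hy
      rw [uz_comm_uz_iff h, ← hx, ← hy]

/-- The centre of a non-commutative subgroup is in the centre. -/
theorem center_le_of_not_comm (h : IsWCoord n u z) (X : Subgroup S) (hX : ¬ IsMulCommutative X)
    {x : S} (hx : x ∈ X) (hc : ∀ y ∈ X, y * x = x * y) : x ∈ Subgroup.center S := by
  obtain ⟨a, b, hab⟩ := exists_uz_mem h X hX
  have h1 := hc _ hab
  rcases h.cases x with ⟨c, d, rfl⟩ | ⟨c, d, rfl⟩
  · rw [uz_comm_u_iff h] at h1
    subst h1
    exact u_mem_center h c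
  · exfalso
    apply hX
    refine ⟨⟨?_⟩⟩
    rintro ⟨x, hx⟩ ⟨y, hy⟩
    apply Subtype.ext
    change x * y = y * x
    exact comm_of_centralize h c d (hc x hx).symm (hc y hy).symm

end Cfsg.Agent.TwoFusion.WreathedSub
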