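import Mathlib
import Cfsg.Prelude.Def_CaseTheorems
import Cfsg.Agent.Lib.AutSL2Out
import Cfsg.Agent.Lib.Cores

/-!
A finite group `H` with `O(H) = 1` and a normal subgroup `L ≅ SL(2,F)`, `F` of odd order: a criterion for
`H' = L`. Used for S1240.
-/

set_option autoImplicit false

namespace Cfsg.Agent.TwoFusion.NormalSL2

open Matrix Cfsg.Agent.Lib.SL2Mat
open scoped commutatorElement

section sl2

variable {F : Type*} [Field F]

/-- minus the identity -/
def neg1 (F : Type*) [Field F] : Matrix.SpecialLinearGroup (Fin 2) F := mk (-1) 0 0 (-1) (by ring)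

@[simp] theorem neg1_00 : ent (neg1 F) 0 0 = -1 := rfl
@[simp] theorem neg1_01 : ent (neg1 F) 0 1 = 0 := rfl
@[simp] theorem neg1_10 : ent (neg1 F) 1 0 = 0 := rfl
@[simp] theorem neg1_11 : ent (neg1 F) 1 1 = -1 := rfl

theorem neg1_mul_neg1 : neg1 F * neg1 F = 1 := by
  refine ext_ent ?_ ?_ ?_ ?_ <;> simp [ent_mul]

theorem neg1_comm (x : Matrix.SpecialLinearGroup (Fin 2) F) : neg1 F * x = x * neg1 F := by
  refine ext_ent ?_ ?_ ?_ ?_ <;> simp [ent_mul]

theorem neg1_ne_one (h2 : (2 : F) ≠ 0) : neg1 F ≠ 1 := by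
  intro h
  have := congrArg (fun x => ent x 0 0) h
  simp only [neg1_00, ent_one_00] at this
  apply h2
  linear_combination -this

/-- Two elements generating a nonabelian 2-subgroup of `SL(2,F)`. -/
theorem exists_two_subgroup [Finite F] (h2 : (2 : F) ≠ 0) :
    ∃ R : Subgroup (Matrix.SpecialLinearGroup (Fin 2) F), IsPGroup 2 R ∧ ∃ i ∈ R, ∃ j ∈ R, i * j ≠ j * i := by
  obtain ⟨a, b, hab⟩ : ∃ a b : F, a ^ 2 + b ^ 2 = -1 := by
    obtain ⟨p, hpc⟩ := CharP.exists F
    have : CharP F p := hpc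
    have hp : p.Prime := CharP.char_is_prime F p
    have : NeZero p := ⟨hp.ne_zero⟩
    obtain ⟨a, b, hab⟩ := CharP.sq_add_sq F p (-1)
    refine ⟨a, b, ?_⟩
    rw [hab]; push_cast; rfl
  let i : Matrix.SpecialLinearGroup (Fin 2) F := mk 0 1 (-1) 0 (by ring)
  let j : Matrix.SpecialLinearGroup (Fin 2) F := mk a b b (-a) (by linear_combination -hab)
  have hii : i * i = neg1 F := by
    refine ext_ent ?_ ?_ ?_ ?_ <;> simp [ent_mul, i]
  have hjj : j * j = neg1 F := by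
    refine ext_ent ?_ ?_ ?_ ?_ <;> simp [ent_mul, j]
    · linear_combination hab
    · ring
    · ring
    · linear_combination hab
  have hij : i * j = neg1 F * (j * i) := by
    refine ext_ent ?_ ?_ ?_ ?_ <;> simp [ent_mul, i, j]
  have h4 : ∀ x : Matrix.SpecialLinearGroup (Fin 2) F, x * x = neg1 F → IsPGroup 2 (Subgroup.zpowers x) := by
    intro x hx
    rintro ⟨_, ⟨n, rfl⟩⟩
    refine ⟨2, ?_⟩
    apply Subtype.ext
    change (x ^ n) ^ (2 ^ 2) = 1
    rw [← zpow_natCast, zpow_comm]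
    have : x ^ ((2 ^ 2 : ℕ) : ℤ) = 1 := by
      rw [zpow_natCast]
      calc x ^ 2 ^ 2 = (x * x) * (x * x) := by rw [show 2 ^ 2 = 2 + 2 from rfl, pow_add, sq]
        _ = 1 := by rw [hx, neg1_mul_neg1]
    rw [this, _root_.one_zpow]
  have hnorm : Subgroup.zpowers j ≤ Subgroup.normalizer (Subgroup.zpowers i : Set (Matrix.SpecialLinearGroup (Fin 2) F)) := by
    have hi3 : j * i * j⁻¹ = i⁻¹ := by
      have e1 : i⁻¹ = neg1 F * i := by
        refine inv_eq_of_mul_eq_one_right ?_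
        rw [← mul_assoc, ← neg1_comm, mul_assoc, hii, neg1_mul_neg1]
      have e2 : j * i = i⁻¹ * j := by
        rw [e1, mul_assoc, hij, ← mul_assoc, neg1_mul_neg1, one_mul]
      rw [e2, mul_inv_cancel_right]
    rw [Subgroup.zpowers_le, Subgroup.mem_normalizer_iff]
    intro h
    have e3 : ∀ y, j * y * j⁻¹ = MulAut.conj j y := fun y => rfl
    constructor
    · rintro ⟨n, rfl⟩
      refine ⟨-n, ?_⟩
      change i ^ (-n) = j * i ^ n * j⁻¹
      rw [e3, map_zpow, ← e3, hi3, _root_.inv_zpow, _root_.zpow_neg]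
    · rintro ⟨n, hn⟩
      refine ⟨-n, ?_⟩
      change i ^ (-n) = h
      change i ^ n = j * h * j⁻¹ at hn
      apply (MulAut.conj j).injective
      rw [← e3 h, ← hn, map_zpow, ← e3, hi3, _root_.inv_zpow, _root_.zpow_neg, inv_inv]
  refine ⟨Subgroup.zpowers i ⊔ Subgroup.zpowers j, (h4 i hii).to_sup_of_normal_left' (h4 j hjj) hnorm,
    i, Subgroup.mem_sup_left (Subgroup.mem_zpowers i), j, Subgroup.mem_sup_right (Subgroup.mem_zpowers j), ?_⟩
  intro h
  rw [h] at hij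
  have : neg1 F = 1 := by
    have := mul_right_cancel (a := neg1 F) (b := j * i) (c := 1) (by rw [← hij, one_mul])
    exact this
  exact neg1_ne_one h2 this

/-- In `SL(2,3)` an element of 2-power order has square `±1`. -/
theorem mul_self_cases (h2 : (2 : F) ≠ 0) (h3 : ∀ a : F, a ≠ 0 → a ^ 2 = 1)
    (x : Matrix.SpecialLinearGroup (Fin 2) F) (k : ℕ) (hx : x ^ 2 ^ k = 1) : x * x = 1 ∨ x * x = neg1 F := by
  have h30 : (3 : F) = 0 := by
    have := h3 2 h2
    linear_combination this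
  have hd := det_eq x
  have hcay : ∀ t, t = ent x 0 0 + ent x 1 1 → ent (x * x) 0 0 = t * ent x 0 0 - 1 ∧ ent (x * x) 0 1 = t * ent x 0 1 ∧
      ent (x * x) 1 0 = t * ent x 1 0 ∧ ent (x * x) 1 1 = t * ent x 1 1 - 1 := by
    rintro t rfl
    refine ⟨?_, ?_, ?_, ?_⟩ <;> rw [ent_mul]
    · linear_combination -hd
    · ring
    · ring
    · linear_combination -hd
  obtain ⟨t, ht⟩ : ∃ t, t = ent x 0 0 + ent x 1 1 := ⟨_, rfl⟩
  obtain ⟨c1, c2, c3, c4⟩ := hcay t ht
  by_cases ht0 : t = 0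
  · right
    refine ext_ent ?_ ?_ ?_ ?_
    · rw [c1, ht0, neg1_00]; ring
    · rw [c2, ht0, neg1_01]; ring
    · rw [c3, ht0, neg1_10]; ring
    · rw [c4, ht0, neg1_11]; ring
  · left
    have ht2 := h3 t ht0
    -- `x ^ 3 = -t`
    have e0 : ent (x * x * x) 0 0 = -t := by
      rw [ent_mul, c1, c2]
      linear_combination -t * hd - (ent x 0 0) * t * ht + (ent x 0 0) * ht2
    have e1 : ent (x * x * x) 0 1 = 0 := by
      rw [ent_mul, c1, c2]
      linear_combination - (ent x 0 1) * t * ht + (ent x 0 1) * ht2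
    have e2 : ent (x * x * x) 1 0 = 0 := by
      rw [ent_mul, c3, c4]
      linear_combination - (ent x 1 0) * t * ht + (ent x 1 0) * ht2
    have e3 : ent (x * x * x) 1 1 = -t := by
      rw [ent_mul, c3, c4]
      linear_combination -t * hd - (ent x 1 1) * t * ht + (ent x 1 1) * ht2
    have h6 : x ^ 6 = 1 := by
      have : x ^ 6 = (x * x * x) * (x * x * x) := by
        simp only [← mul_assoc, pow_succ, pow_zero, one_mul]
      rw [this]
      refine ext_ent ?_ ?_ ?_ ?_ <;> rw [ent_mul]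
      · rw [e0, e1, e2, ent_one_00]; linear_combination ht2
      · rw [e0, e1, e3, ent_one_01]; ring
      · rw [e0, e2, e3, ent_one_10]; ring
      · rw [e1, e2, e3, ent_one_11]; linear_combination ht2
    have hdvd : orderOf x ∣ 2 * 3 := orderOf_dvd_of_pow_eq_one h6
    have hcop : Nat.Coprime (orderOf x) 3 :=
      Nat.Coprime.coprime_dvd_left (orderOf_dvd_of_pow_eq_one hx) (Nat.Coprime.pow_left k (by norm_num))
    have := orderOf_dvd_iff_pow_eq_one.1 (hcop.dvd_of_dvd_mul_right hdvd)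
    rwa [sq] at this

theorem commutator_sq_eq_one {x y : Matrix.SpecialLinearGroup (Fin 2) F}
    (hx : x * x = 1 ∨ x * x = neg1 F) (hy : y * y = 1 ∨ y * y = neg1 F)
    (hxy : (x * y) * (x * y) = 1 ∨ (x * y) * (x * y) = neg1 F) : (x * y * x⁻¹ * y⁻¹) ^ 2 = 1 := by
  have hc : ∀ z : Matrix.SpecialLinearGroup (Fin 2) F, z = 1 ∨ z = neg1 F → (∀ w, z * w = w * z) ∧ z * z = 1 := by
    rintro z (rfl | rfl)
    · exact ⟨fun w => by rw [one_mul, mul_one], one_mul _⟩
    · exact ⟨neg1_comm, neg1_mul_neg1⟩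
  obtain ⟨a, ha⟩ : ∃ a, a = x * x := ⟨_, rfl⟩
  obtain ⟨b, hb⟩ : ∃ b, b = y * y := ⟨_, rfl⟩
  obtain ⟨c, hcc⟩ : ∃ c, c = (x * y) * (x * y) := ⟨_, rfl⟩
  rw [← ha] at hx
  rw [← hb] at hy
  rw [← hcc] at hxy
  obtain ⟨ha1, ha2⟩ := hc a hx
  obtain ⟨hb1, hb2⟩ := hc b hy
  obtain ⟨hc1, hc2⟩ := hc c hxy
  have e : x * y * x⁻¹ * y⁻¹ = c * a⁻¹ * b⁻¹ := by
    have e1 : x⁻¹ = x * a⁻¹ := by rw [ha]; group
    have e2 : y⁻¹ = y * b⁻¹ := by rw [hb]; group
    have e3 : a⁻¹ * y = y * a⁻¹ := by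
      have := ha1 y
      rw [inv_mul_eq_iff_eq_mul, ← mul_assoc, this, mul_inv_cancel_right]
    rw [hcc]
    calc x * y * x⁻¹ * y⁻¹ = x * y * (x * a⁻¹) * (y * b⁻¹) := by rw [← e1, ← e2]
      _ = x * y * x * (a⁻¹ * y) * b⁻¹ := by simp only [mul_assoc]
      _ = _ := by rw [e3]; simp only [mul_assoc]
  have ha3 : a⁻¹ = a := inv_eq_of_mul_eq_one_right ha2
  have hb3 : b⁻¹ = b := inv_eq_of_mul_eq_one_right hb2
  rw [e, ha3, hb3, sq]
  calc c * a * b * (c * a * b) = c * a * (b * (c * a * b)) := by simp only [mul_assoc]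
    _ = c * a * ((c * a * b) * b) := by rw [hb1]
    _ = c * (a * (c * a)) * (b * b) := by simp only [mul_assoc]
    _ = c * ((c * a) * a) * (b * b) := by rw [ha1]
    _ = (c * c) * (a * a) * (b * b) := by simp only [mul_assoc]
    _ = 1 := by rw [ha2, hb2, hc2, one_mul, one_mul]

end sl2

section groups

variable {H : Type*} [Group H]

/-- If `U` is an abelian subgroup of index at most 2 of `S`, an element of `S` commuting with two
noncommuting elements of `S` is central in `S`. -/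
theorem comm_of_comm {S U : Subgroup H} (hU : ∀ a ∈ U, ∀ b ∈ U, a * b = b * a)
    (hUi : ∀ s ∈ S, ∀ t ∈ S, s ∉ U → t ∉ U → s * t ∈ U) {x y : H} (hx : x ∈ S) (hy : y ∈ S)
    (hxy : x * y ≠ y * x) {c : H} (hc : c ∈ S) (hcx : c * x = x * c) (hcy : c * y = y * c) :
    ∀ s ∈ S, c * s = s * c := by
  obtain ⟨x', y', hx'U, hy'S, hy'U, hne, hcx', hcy'⟩ : ∃ x' y', x' ∈ U ∧ y' ∈ S ∧ y' ∉ U ∧ x' * y' ≠ y' * x' ∧
      c * x' = x' * c ∧ c * y' = y' * c := by
    by_cases hxU : x ∈ U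
    · exact ⟨x, y, hxU, hy, fun hyU => hxy (hU x hxU y hyU), hxy, hcx, hcy⟩
    · by_cases hyU : y ∈ U
      · exact ⟨y, x, hyU, hx, hxU, hxy.symm, hcy, hcx⟩
      · refine ⟨x * y, y, hUi x hx y hy hxU hyU, hy, hyU, ?_, ?_, hcy⟩
        · intro h
          rw [← mul_assoc] at h
          exact hxy (mul_right_cancel h)
        · rw [← mul_assoc, hcx, mul_assoc, hcy, mul_assoc]
  have hcU : c ∈ U := by
    by_contra hcU
    have h1 := hU _ (hUi c hc y' hy'S hcU hy'U) x' hx'U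
    rw [← mul_assoc, ← hcx', mul_assoc, mul_assoc] at h1
    exact hne (mul_left_cancel h1).symm
  intro s hs
  by_cases hsU : s ∈ U
  · exact hU c hcU s hsU
  · have h1 := hU c hcU _ (hUi s hs y' hy'S hsU hy'U)
    rw [mul_assoc, ← hcy', ← mul_assoc, ← mul_assoc] at h1
    exact mul_right_cancel h1

variable [Finite H]

theorem exists_noncomm_in_sylow (S : Sylow 2 H) (L : Subgroup H) [hL : L.Normal] {F : Type*} [Field F] [Finite F]
    (h2 : (2 : F) ≠ 0) (e : L ≃* Matrix.SpecialLinearGroup (Fin 2) F) :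
    ∃ x y : H, x ∈ S ∧ y ∈ S ∧ x ∈ L ∧ y ∈ L ∧ x * y ≠ y * x := by
  obtain ⟨R, hR, i, hi, j, hj, hij⟩ := exists_two_subgroup (F := F) h2
  obtain ⟨Q, hQ⟩ := ((hR.map e.symm.toMonoidHom).map L.subtype).exists_le_sylow
  obtain ⟨g, hg⟩ := MulAction.exists_smul_eq H Q S
  have key : ∀ r ∈ R, g * (e.symm r : H) * g⁻¹ ∈ S := by
    intro r hr
    rw [← hg, Cfsg.Agent.Lib.AutSL2.mem_smul_sylow]
    have : g⁻¹ * (g * (e.symm r : H) * g⁻¹) * g = (e.symm r : H) := by group
    rw [this]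
    exact hQ ⟨e.symm r, ⟨r, hr, rfl⟩, rfl⟩
  refine ⟨g * (e.symm i : H) * g⁻¹, g * (e.symm j : H) * g⁻¹, key i hi, key j hj,
    hL.conj_mem _ (e.symm i).2 g, hL.conj_mem _ (e.symm j).2 g, fun h => hij ?_⟩
  have h3 : (e.symm i : H) * (e.symm j : H) = (e.symm j : H) * (e.symm i : H) := by
    have h4 : g * ((e.symm i : H) * (e.symm j : H)) * g⁻¹ = g * ((e.symm j : H) * (e.symm i : H)) * g⁻¹ := by
      calc _ = g * (e.symm i : H) * g⁻¹ * (g * (e.symm j : H) * g⁻¹) := by group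
        _ = _ := by rw [h]; group
    exact mul_left_cancel (mul_right_cancel h4)
  have h5 : e.symm (i * j) = e.symm (j * i) := by
    apply Subtype.ext
    rw [map_mul, map_mul]
    exact h3
  exact e.symm.injective h5

theorem centralizer_le (S : Sylow 2 H) (hO : Cfsg.oddCore H = ⊥) (C : Subgroup H) [hCn : C.Normal]
    (hC : ∀ c ∈ C, c ∈ S → ∀ h : H, c * h = h * c) : C ≤ S := by
  obtain ⟨T⟩ : Nonempty (Sylow 2 C) := inferInstance
  have hTS : ∀ t : C, t ∈ T → (t : H) ∈ S ∧ ∀ h : H, (t : H) * h = h * t := by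
    intro t ht
    obtain ⟨Q, hQ⟩ := (T.2.map C.subtype).exists_le_sylow
    obtain ⟨g, hg⟩ := MulAction.exists_smul_eq H Q S
    have h1 : g * (t : H) * g⁻¹ ∈ S := by
      rw [← hg, Cfsg.Agent.Lib.AutSL2.mem_smul_sylow]
      have : g⁻¹ * (g * (t : H) * g⁻¹) * g = (t : H) := by group
      rw [this]
      exact hQ ⟨t, ht, rfl⟩
    have h2 := hC _ (hCn.conj_mem _ t.2 g) h1
    have h3 : g * (t : H) * g⁻¹ = t := by
      have := h2 g
      calc g * (t : H) * g⁻¹ = g⁻¹ * (g * (g * (t : H) * g⁻¹)) := by group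
        _ = g⁻¹ * ((g * (t : H) * g⁻¹) * g) := by rw [this]
        _ = t := by group
    rw [h3] at h1 h2
    exact ⟨h1, h2⟩
  have hTn : (T : Subgroup C).Normal := by
    refine ⟨fun t ht c => ?_⟩
    have : c * t * c⁻¹ = t := by
      apply Subtype.ext
      have := (hTS t ht).2 c
      change (c : H) * t * (c : H)⁻¹ = t
      rw [← this, mul_inv_cancel_right]
    rw [this]; exact ht
  obtain ⟨M, hM⟩ := Subgroup.exists_right_complement'_of_coprime (T.card_coprime_index)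
  have hMn : M.Normal := by
    refine ⟨fun m hm c => ?_⟩
    obtain ⟨⟨t, m'⟩, htm⟩ := hM.2 c
    change (t : C) * (m' : C) = c at htm
    have : c * m * c⁻¹ = (m' : C) * m * (m' : C)⁻¹ := by
      have h1 : (t : C) * ((m' : C) * m * (m' : C)⁻¹) = ((m' : C) * m * (m' : C)⁻¹) * (t : C) :=
        Subtype.ext ((hTS t t.2).2 _)
      calc c * m * c⁻¹ = (t : C) * ((m' : C) * m * (m' : C)⁻¹) * (t : C)⁻¹ := by rw [← htm]; group
        _ = _ := by rw [h1, mul_inv_cancel_right]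
    rw [this]
    exact mul_mem (mul_mem m'.2 hm) (inv_mem m'.2)
  have hMc : (Nat.card M).Coprime 2 := by
    have h1 : Nat.card M = (T : Subgroup C).index := hM.symm.index_eq_card.symm
    rw [h1, Nat.coprime_comm, Nat.Prime.coprime_iff_not_dvd Nat.prime_two]
    exact T.not_dvd_index
  have hM1 : M ≤ Cfsg.pPrimeCore 2 C := Cfsg.Agent.Lib.Cores.le_pPrimeCore hMn hMc
  have hM2 : Cfsg.pPrimeCore 2 C = ⊥ := by
    have h1 := Cfsg.Agent.Lib.Cores.map_subtype_pPrimeCore 2 hCn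
    have h3 : Cfsg.pPrimeCore 2 H = ⊥ := hO
    rw [h3, inf_bot_eq, Subgroup.map_eq_bot_iff_of_injective _ C.subtype_injective] at h1
    exact h1
  rw [hM2, le_bot_iff] at hM1
  intro c hc
  obtain ⟨⟨t, m'⟩, htm⟩ := hM.2 ⟨c, hc⟩
  change (t : C) * (m' : C) = ⟨c, hc⟩ at htm
  have hm1 : (m' : C) = 1 := by
    have h1 : ∀ m ∈ M, m = 1 := by
      rw [hM1]; exact fun m hm => Subgroup.mem_bot.1 hm
    exact h1 _ m'.2
  rw [hm1, mul_one] at htm
  have := (hTS t t.2).1
  rw [htm] at this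
  exact this

/-- conjugation action of `H` on a normal `L ≅ SL(2,F)`, transported to `SL(2,F)` -/
noncomputable def act (L : Subgroup H) [L.Normal] {F : Type*} [Field F]
    (e : L ≃* Matrix.SpecialLinearGroup (Fin 2) F) : H →* MulAut (Matrix.SpecialLinearGroup (Fin 2) F) :=
  (MulAut.congr e).toMonoidHom.comp MulAut.conjNormal

omit [Finite H] in
theorem act_apply (L : Subgroup H) [hL : L.Normal] {F : Type*} [Field F]
    (e : L ≃* Matrix.SpecialLinearGroup (Fin 2) F) (h : H) (x : L) :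
    ((e.symm (act L e h (e x)) : L) : H) = h * x * h⁻¹ := by
  change ((e.symm (e (MulAut.conjNormal h (e.symm (e x))))) : H) = h * x * h⁻¹
  rw [e.symm_apply_apply, e.symm_apply_apply, MulAut.conjNormal_apply]

omit [Finite H] in
/-- if `h` acts on `L` as an inner automorphism then `h ∈ L * C(L)` -/
theorem inv_mul_mem_centralizer (L : Subgroup H) [hL : L.Normal] {F : Type*} [Field F]
    (e : L ≃* Matrix.SpecialLinearGroup (Fin 2) F) (h : H) (s : Matrix.SpecialLinearGroup (Fin 2) F)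
    (hs : ∀ x, act L e h x = s * x * s⁻¹) :
    ((e.symm s : L) : H)⁻¹ * h ∈ Subgroup.centralizer (L : Set H) := by
  rw [Subgroup.mem_centralizer_iff]
  intro x hx
  have h1 := act_apply L e h ⟨x, hx⟩
  rw [hs, map_mul, map_mul, map_inv, e.symm_apply_apply] at h1
  change ((e.symm s : L) : H) * x * ((e.symm s : L) : H)⁻¹ = h * x * h⁻¹ at h1
  have h2 : x = ((e.symm s : L) : H)⁻¹ * (h * x * h⁻¹) * ((e.symm s : L) : H) := by rw [← h1]; group
  calc x * (((e.symm s : L) : H)⁻¹ * h) =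
      (((e.symm s : L) : H)⁻¹ * (h * x * h⁻¹) * ((e.symm s : L) : H)) * (((e.symm s : L) : H)⁻¹ * h) := by
        rw [← h2]
    _ = _ := by group

theorem map_comm_eq_one {K A : Type*} [Group K] [CommGroup A] (f : K →* A) (a b : K) :
    f (a * b * a⁻¹ * b⁻¹) = 1 := by
  rw [map_mul, map_mul, map_mul, map_inv, map_inv, mul_right_comm (f a) (f b) (f a)⁻¹, mul_inv_cancel,
    one_mul, mul_inv_cancel]

theorem commutator_le_of_normal (S : Sylow 2 H) (U : Subgroup H) 
    (hU : ∀ a ∈ U, ∀ b ∈ U, a * b = b * a)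
    (L : Subgroup H) [hL : L.Normal] (hSL : ∀ s ∈ S, ∃ u ∈ U, ∃ l ∈ L, s = u * l)
    (C : Subgroup H) (hCS : C ≤ S) (hCZ : ∀ c ∈ C, ∀ h, c * h = h * c)
    (hLC : ∀ a b : H, ∃ l ∈ L, ∃ c ∈ C, a * b * a⁻¹ * b⁻¹ = l * c) : commutator H ≤ L := by
  have hfin : Finite (H ⧸ L) := inferInstance
  let S' : Sylow 2 (H ⧸ L) := S.mapSurjective (QuotientGroup.mk'_surjective L)
  have hmem : ∀ s ∈ S, (QuotientGroup.mk' L s) ∈ S' := fun s hs => ⟨s, hs, rfl⟩
  have hcomm : ∀ a b : (S' : Subgroup (H ⧸ L)), a * b = b * a := by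
    rintro ⟨_, ⟨a, ha, rfl⟩⟩ ⟨_, ⟨b, hb, rfl⟩⟩
    apply Subtype.ext
    change QuotientGroup.mk' L a * QuotientGroup.mk' L b = QuotientGroup.mk' L b * QuotientGroup.mk' L a
    obtain ⟨u, hu, l, hl, rfl⟩ := hSL a ha
    obtain ⟨v, hv, l', hl', rfl⟩ := hSL b hb
    have h1 : QuotientGroup.mk' L l = 1 := by rwa [← MonoidHom.mem_ker, QuotientGroup.ker_mk']
    have h2 : QuotientGroup.mk' L l' = 1 := by rwa [← MonoidHom.mem_ker, QuotientGroup.ker_mk']
    rw [map_mul, map_mul, h1, h2, mul_one, mul_one, ← map_mul, ← map_mul, hU u hu v hv]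
  rw [commutator_def, Subgroup.commutator_le]
  intro a _ b _
  obtain ⟨l, hl, c, hc, hlc⟩ := hLC a b
  have hmk : QuotientGroup.mk' L (a * b * a⁻¹ * b⁻¹) = QuotientGroup.mk' L c := by
    have h1 : QuotientGroup.mk' L l = 1 := by rwa [← MonoidHom.mem_ker, QuotientGroup.ker_mk']
    rw [hlc, map_mul, h1, one_mul]
  suffices hc1 : QuotientGroup.mk' L c = 1 by
    rw [hc1, ← MonoidHom.mem_ker, QuotientGroup.ker_mk'] at hmk
    exact hmk
  obtain ⟨z, hz⟩ : ∃ z, z = QuotientGroup.mk' L c := ⟨_, rfl⟩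
  rw [← hz] at hmk ⊢
  have hzc : ∀ k : H ⧸ L, z * k = k * z := by
    intro k
    obtain ⟨k, rfl⟩ := QuotientGroup.mk'_surjective L k
    rw [hz, ← map_mul, ← map_mul, hCZ c hc]
  have hzS : z ∈ S' := hz ▸ hmem c (hCS hc)
  have key : ∀ (k : ℕ) (g₀ : H ⧸ L), g₀⁻¹ * z ^ k * g₀ ∈ (S' : Subgroup (H ⧸ L)) → g₀⁻¹ * z ^ k * g₀ = z ^ k := by
    intro k g₀ _
    have : Commute z g₀ := hzc g₀
    rw [mul_assoc, (this.pow_left k).eq, inv_mul_cancel_left]
  have htr := MonoidHom.transfer_eq_pow (Abelianization.of : (S' : Subgroup (H ⧸ L)) →* Abelianization (S' : Subgroup (H ⧸ L))) z key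
  have htr1 : MonoidHom.transfer (Abelianization.of : (S' : Subgroup (H ⧸ L)) →* Abelianization (S' : Subgroup (H ⧸ L))) z = 1 := by
    rw [← hmk, map_mul (QuotientGroup.mk' L), map_mul (QuotientGroup.mk' L), map_mul (QuotientGroup.mk' L),
      map_inv (QuotientGroup.mk' L), map_inv (QuotientGroup.mk' L)]
    exact map_comm_eq_one _ _ _
  rw [htr1] at htr
  have hker := (MonoidHom.mem_ker (f := (Abelianization.of : (S' : Subgroup (H ⧸ L)) →* _))).2 htr.symm
  rw [Abelianization.ker_of] at hker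
  have hbot : commutator (S' : Subgroup (H ⧸ L)) ≤ ⊥ := by
    rw [commutator_def, Subgroup.commutator_le]
    intro x _ y _
    rw [Subgroup.mem_bot, commutatorElement_def, hcomm x y]
    group
  have h1 := Subgroup.mem_bot.1 (hbot hker)
  have h2 : z ^ (S' : Subgroup (H ⧸ L)).index = 1 := congrArg Subtype.val h1
  obtain ⟨k, hk⟩ := S'.2 ⟨z, hzS⟩
  have h3 : z ^ 2 ^ k = 1 := congrArg Subtype.val hk
  have h4 : Nat.Coprime (2 ^ k) (S' : Subgroup (H ⧸ L)).index :=
    Nat.Coprime.pow_left k ((Nat.Prime.coprime_iff_not_dvd Nat.prime_two).2 S'.not_dvd_index)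
  have h5 : orderOf z ∣ 1 := by
    have := Nat.dvd_gcd (orderOf_dvd_of_pow_eq_one h3) (orderOf_dvd_of_pow_eq_one h2)
    rwa [h4.gcd_eq_one] at this
  exact orderOf_eq_one_iff.1 (Nat.dvd_one.1 h5)

omit [Finite H] in
theorem le_commutator_of_sq_ne_one (L : Subgroup H) {F : Type*} [Field F]
    (e : L ≃* Matrix.SpecialLinearGroup (Fin 2) F) {a : F} (ha : a ≠ 0) (ha2 : a ^ 2 ≠ 1) :
    L ≤ commutator H := by
  intro l hl
  have h1 : e ⟨l, hl⟩ ∈ commutator (Matrix.SpecialLinearGroup (Fin 2) F) := by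
    rw [Matrix.SL2.commutator_eq_top ha ha2]; exact Subgroup.mem_top _
  have h2 : (commutator (Matrix.SpecialLinearGroup (Fin 2) F)).map (L.subtype.comp e.symm.toMonoidHom) ≤ commutator H := by
    rw [commutator_def, Subgroup.map_commutator, commutator_def]
    exact Subgroup.commutator_mono le_top le_top
  have h3 := h2 ⟨_, h1, rfl⟩
  have h4 : (L.subtype.comp e.symm.toMonoidHom) (e ⟨l, hl⟩) = l := by
    change ((e.symm (e ⟨l, hl⟩) : L) : H) = l
    rw [e.symm_apply_apply]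
  rwa [h4] at h3

theorem le_commutator_of_sq_eq_one (S : Sylow 2 H) (hns : ∃ s ∈ S, ∃ t ∈ S, (s * t * s⁻¹ * t⁻¹) ^ 2 ≠ 1)
    (L : Subgroup H) [hL : L.Normal] {F : Type*} [Field F] [Finite F] (h2 : (2 : F) ≠ 0)
    (h3 : ∀ a : F, a ≠ 0 → a ^ 2 = 1)
    (e : L ≃* Matrix.SpecialLinearGroup (Fin 2) F)
    (hCS : Subgroup.centralizer (L : Set H) ≤ S)
    (hCZ : ∀ c ∈ Subgroup.centralizer (L : Set H), ∀ h : H, c * h = h * c) :
    L ≤ commutator H := by
  by_cases hinn : ∀ h : H, ∃ s, ∀ x, act L e h x = s * x * s⁻¹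
  · exfalso
    obtain ⟨s, hs, t, ht, hst⟩ := hns
    apply hst
    have key : ∀ u ∈ S, ∃ l : L, (l : H) ∈ S ∧ ∃ c ∈ Subgroup.centralizer (L : Set H), u = l * c := by
      intro u hu
      obtain ⟨v, hv⟩ := hinn u
      have h1 := inv_mul_mem_centralizer L e u v hv
      refine ⟨e.symm v, ?_, _, h1, by group⟩
      have h4 : ((e.symm v : L) : H) = u * (((e.symm v : L) : H)⁻¹ * u)⁻¹ := by group
      rw [h4]
      exact mul_mem hu (inv_mem (hCS h1))
    obtain ⟨l, hl, c, hc, rfl⟩ := key s hs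
    obtain ⟨l', hl', c', hc', rfl⟩ := key t ht
    have h4 : (l : H) * c * (l' * c') * (l * c)⁻¹ * (l' * c')⁻¹ = l * l' * (l : H)⁻¹ * (l' : H)⁻¹ := by
      have e1 := hCZ c hc
      have e2 := hCZ c' hc'
      calc (l : H) * c * (l' * c') * (l * c)⁻¹ * (l' * c')⁻¹
          = l * (c * (l' * c')) * c⁻¹ * (l : H)⁻¹ * c'⁻¹ * (l' : H)⁻¹ := by group
        _ = l * ((l' * c') * c) * c⁻¹ * (l : H)⁻¹ * c'⁻¹ * (l' : H)⁻¹ := by rw [e1]
        _ = l * l' * (c' * (l : H)⁻¹) * c'⁻¹ * (l' : H)⁻¹ := by group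
        _ = l * l' * ((l : H)⁻¹ * c') * c'⁻¹ * (l' : H)⁻¹ := by rw [e2]
        _ = _ := by group
    rw [h4]
    have hpow : ∀ m : L, (m : H) ∈ S → e m * e m = 1 ∨ e m * e m = neg1 F := by
      intro m hm
      obtain ⟨k, hk⟩ := S.2 ⟨m, hm⟩
      have h5 : (m : H) ^ 2 ^ k = 1 := congrArg Subtype.val hk
      have h6 : m ^ 2 ^ k = 1 := Subtype.ext h5
      exact mul_self_cases h2 h3 (e m) k (by rw [← map_pow, h6, map_one])
    have h5 := commutator_sq_eq_one (hpow l hl) (hpow l' hl')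
      (by have := hpow (l * l') (mul_mem hl hl'); rwa [map_mul] at this)
    rw [← map_mul, ← map_inv, ← map_mul, ← map_inv, ← map_mul, ← map_pow] at h5
    have h6 : (l * l' * l⁻¹ * l'⁻¹) ^ 2 = 1 := by
      apply e.injective; rw [h5, map_one]
    exact congrArg Subtype.val h6
  · push Not at hinn
    obtain ⟨h0, hh0⟩ := hinn
    have h30 : (3 : F) = 0 := by
      have := h3 2 h2
      linear_combination this
    have hcases : ∀ a : F, a = 0 ∨ a = 1 ∨ a = -1 := by
      intro a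
      by_cases ha : a = 0
      · exact Or.inl ha
      · right
        have := h3 a ha
        have h4 : (a - 1) * (a + 1) = 0 := by linear_combination this
        rcases mul_eq_zero.1 h4 with h | h
        · left; linear_combination h
        · right; linear_combination h
    obtain ⟨g, σ, hgσ⟩ := Cfsg.Agent.Lib.AutSL2Out.exists_eq (act L e h0)
    have hσ : ∀ a : F, σ a = a := by
      intro a
      rcases hcases a with rfl | rfl | rfl <;> simp
    have hfa : ∀ x : Matrix.SpecialLinearGroup (Fin 2) F, fieldAut σ x = x := by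
      intro x
      refine ext_ent ?_ ?_ ?_ ?_ <;> rw [fieldAut_ent, hσ]
    have hact : ∀ x, act L e h0 x = conjGL g x := by
      intro x; rw [hgσ, MulAut.mul_apply, hfa]
    have hdet : g.1.det = -1 := by
      have hne : g.1.det ≠ 0 := (Matrix.GeneralLinearGroup.det g).ne_zero
      rcases hcases g.1.det with h | h | h
      · exact absurd h hne
      · exfalso
        obtain ⟨s, hs⟩ := Cfsg.Agent.Lib.AutSL2Out.conjGL_of_det_sq g 1 one_ne_zero (by rw [h, one_pow])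
        obtain ⟨x, hx⟩ := hh0 s
        exact hx (by rw [hact, hs])
      · exact h
    have hm1 : (-1 : F) ≠ 0 := neg_ne_zero.2 one_ne_zero
    obtain ⟨s, hs⟩ := Cfsg.Agent.Lib.AutSL2Out.conjGL_of_det_sq ((dgl (-1) hm1)⁻¹ * g) 1 one_ne_zero (by
      rw [Units.val_mul, Matrix.det_mul, hdet]
      change (!![(-1 : F)⁻¹, 0; 0, 1]).det * -1 = 1 ^ 2
      rw [Matrix.det_fin_two_of]; simp)
    have hact2 : ∀ x, act L e h0 (s⁻¹ * x * s) = conjGL (dgl (-1) hm1) x := by
      intro x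
      have h4 : conjGL g = conjGL (dgl (-1) hm1) * conjGL ((dgl (-1) hm1)⁻¹ * g) := by
        rw [← map_mul, mul_inv_cancel_left]
      rw [hact, h4, MulAut.mul_apply, hs]
      congr 1; group
    have key : ∀ X : Matrix.SpecialLinearGroup (Fin 2) F, conjGL (dgl (-1) hm1) X = X⁻¹ → X ^ 3 = 1 →
        ((e.symm X : L) : H) ∈ commutator H := by
      intro X hX hX3
      have h4 := act_apply L e h0 (e.symm (s⁻¹ * X * s))
      rw [e.apply_symm_apply, hact2, hX] at h4
      have h5 : ((e.symm X⁻¹ : L) : H) = (h0 * ((e.symm s : L) : H)⁻¹) * (e.symm X : L) * (h0 * ((e.symm s : L) : H)⁻¹)⁻¹ := by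
        rw [h4, map_mul, map_mul, map_inv]
        change h0 * (((e.symm s : L) : H)⁻¹ * (e.symm X : L) * (e.symm s : L)) * h0⁻¹ = _
        group
      have h6 : ((e.symm X : L) : H) = ⁅(h0 * ((e.symm s : L) : H)⁻¹ : H), (((e.symm X : L) : H) : H)⁆ := by
        rw [commutatorElement_def, ← h5, map_inv]
        have h7 : (e.symm X) ^ 3 = 1 := by rw [← map_pow, hX3, map_one]
        have h8 : ((e.symm X : L) : H) ^ 3 = 1 := congrArg Subtype.val h7
        change _ = ((e.symm X : L) : H)⁻¹ * ((e.symm X : L) : H)⁻¹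
        rw [eq_inv_mul_iff_mul_eq, eq_comm, inv_eq_iff_mul_eq_one, ← h8, pow_succ, sq, mul_assoc]
      rw [h6, commutator_def]
      exact Subgroup.commutator_mem_commutator (Subgroup.mem_top _) (Subgroup.mem_top _)
    have hup : ∀ b, ((e.symm (up b) : L) : H) ∈ commutator H := by
      intro b
      apply key
      · rw [conjGL_dgl_up, up_inv]; congr 1; ring
      · rw [pow_succ, sq, up_mul, up_mul, ← up_zero]; congr 1; linear_combination b * h30
    have hlo : ∀ b, ((e.symm (lo b) : L) : H) ∈ commutator H := by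
      intro b
      apply key
      · rw [conjGL_dgl_lo, lo_inv]; congr 1; rw [div_neg, div_one]
      · rw [pow_succ, sq, lo_mul, lo_mul, ← lo_zero]; congr 1; linear_combination b * h30
    intro l hl
    obtain ⟨a, b, c, d, habcd⟩ := exists_up_lo (e ⟨l, hl⟩)
    have h4 : l = ((e.symm (up a) : L) : H) * ((e.symm (lo b) : L) : H) * ((e.symm (up c) : L) : H) * ((e.symm (lo d) : L) : H) := by
      have h5 : (⟨l, hl⟩ : L) = e.symm (up a) * e.symm (lo b) * e.symm (up c) * e.symm (lo d) := by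
        rw [← map_mul, ← map_mul, ← map_mul, ← habcd, e.symm_apply_apply]
      exact congrArg Subtype.val h5
    rw [h4]
    exact mul_mem (mul_mem (mul_mem (hup a) (hlo b)) (hup c)) (hlo d)

/-- **Main theorem**: if `O(H) = 1`, the Sylow 2-subgroup `S` has an abelian subgroup of index 2 and `Z(S) ≤ Z(H)`,
some commutator in `S` does not square to 1, and `L ≅ SL(2,F)` is normal, `F` of odd order, then `H' = L`. -/
theorem commutator_eq_of_normal (S : Sylow 2 H) (hO : Cfsg.oddCore H = ⊥) (U : Subgroup H)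
    (hU : ∀ a ∈ U, ∀ b ∈ U, a * b = b * a)
    (hUi : ∀ s ∈ S, ∀ t ∈ S, s ∉ U → t ∉ U → s * t ∈ U)
    (hns : ∃ s ∈ S, ∃ t ∈ S, (s * t * s⁻¹ * t⁻¹) ^ 2 ≠ 1)
    (hZ : ∀ z ∈ S, (∀ s ∈ S, z * s = s * z) → ∀ h : H, z * h = h * z)
    (L : Subgroup H) [hL : L.Normal] {F : Type*} [Field F] [Finite F] (h2 : (2 : F) ≠ 0)
    (e : L ≃* Matrix.SpecialLinearGroup (Fin 2) F) : commutator H = L := by
  obtain ⟨x, y, hxS, hyS, hxL, hyL, hxy⟩ := exists_noncomm_in_sylow S L h2 e
  have hCn : (Subgroup.centralizer (L : Set H)).Normal := Subgroup.normal_centralizer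
  have hcS : ∀ c ∈ Subgroup.centralizer (L : Set H), c ∈ S → ∀ h, c * h = h * c := by
    intro c hc hcS
    apply hZ c hcS
    rw [Subgroup.mem_centralizer_iff] at hc
    exact comm_of_comm (S := (S : Subgroup H)) hU hUi hxS hyS hxy hcS (hc x hxL).symm (hc y hyL).symm
  have hCS : Subgroup.centralizer (L : Set H) ≤ S := centralizer_le S hO _ hcS
  have hCZ : ∀ c ∈ Subgroup.centralizer (L : Set H), ∀ h, c * h = h * c := fun c hc => hcS c hc (hCS hc)
  have hSL : ∀ s ∈ S, ∃ u ∈ U, ∃ l ∈ L, s = u * l := by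
    obtain ⟨w, hwS, hwL, hwU⟩ : ∃ w, w ∈ S ∧ w ∈ L ∧ w ∉ U := by
      by_cases hxU : x ∈ U
      · exact ⟨y, hyS, hyL, fun hyU => hxy (hU x hxU y hyU)⟩
      · exact ⟨x, hxS, hxL, hxU⟩
    intro s hs
    by_cases hsU : s ∈ U
    · exact ⟨s, hsU, 1, one_mem _, by rw [mul_one]⟩
    · exact ⟨s * w, hUi s hs w hwS hsU hwU, w⁻¹, inv_mem hwL, by rw [mul_inv_cancel_right]⟩
  apply le_antisymm
  · refine commutator_le_of_normal S U hU L hSL _ hCS hCZ ?_
    intro a b
    obtain ⟨s, hs⟩ := Cfsg.Agent.Lib.AutSL2Out.commutator_inner (act L e a) (act L e b)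
    rw [← map_mul, ← map_inv, ← map_mul, ← map_inv, ← map_mul] at hs
    exact ⟨e.symm s, (e.symm s).2, _, inv_mul_mem_centralizer L e _ s hs, by rw [mul_inv_cancel_left]⟩
  · by_cases h3 : ∀ a : F, a ≠ 0 → a ^ 2 = 1
    · exact le_commutator_of_sq_eq_one S hns L h2 h3 e hCS hCZ
    · push Not at h3
      obtain ⟨a, ha, ha2⟩ := h3
      exact le_commutator_of_sq_ne_one L e ha ha2

end groups

end Cfsg.Agent.TwoFusion.NormalSL2
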