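import Mathlib
import Cfsg.Prelude.Def_Solvable
import Cfsg.Prelude.Def_Transfer
import Cfsg.Agent.TwoFusion.SylowConj
import Cfsg.Agent.Lib.AutSL2

/-!
The hypotheses of S1215/S1216 pass to a quotient by a normal subgroup of odd order.
-/

set_option autoImplicit false

namespace Cfsg.Agent.TwoFusion.QGroupQuotient

variable {H H' : Type*} [Group H] [Group H']

/-- a homomorphism restricted to a subgroup meeting the kernel trivially -/
theorem nonempty_equiv_map (f : H →* H') (P : Subgroup H) (h : ∀ x ∈ P, f x = 1 → x = 1) :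
    Nonempty (P ≃* P.map f) := by
  refine ⟨MulEquiv.ofBijective (f.subgroupMap P) ⟨?_, f.subgroupMap_surjective P⟩⟩
  rw [injective_iff_map_eq_one]
  rintro ⟨x, hx⟩ hx1
  apply Subtype.ext
  exact h x hx (congrArg Subtype.val hx1)

theorem eq_one_of_isPGroup_of_coprime {p : ℕ} [Fact p.Prime] {P N : Subgroup H} (hP : IsPGroup p P)
    (hN : (Nat.card N).Coprime p) {x : H} (hx : x ∈ P) (hxN : x ∈ N) : x = 1 := by
  obtain ⟨k, hk⟩ := hP ⟨x, hx⟩
  have h1 : x ^ p ^ k = 1 := congrArg Subtype.val hk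
  have h2 : orderOf x ∣ Nat.card N := Subgroup.orderOf_dvd_natCard N hxN
  have h3 : Nat.Coprime (orderOf x) p := Nat.Coprime.coprime_dvd_left h2 hN
  have h4 : orderOf x ∣ p ^ k := orderOf_dvd_of_pow_eq_one h1
  have h5 : Nat.Coprime (orderOf x) (p ^ k) := Nat.Coprime.pow_right k h3
  have h6 : orderOf x = 1 := by
    have := Nat.gcd_eq_left h4
    rw [← this]; exact h5
  exact orderOf_eq_one_iff.1 h6

/-- Part 1: the normal subgroup `K`. -/
theorem exists_normal (f : H →* H') (hf : Function.Surjective f) [Finite H] (hker : (Nat.card f.ker).Coprime 2)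
    (hK : ∃ K : Subgroup H, K.Normal ∧ (∃ a : ℕ, K.index = 2 ^ a) ∧ (∀ M : Subgroup ↥K, M.index ≠ 2) ∧
      (∀ P : Sylow 2 ↥K, ∃ m : ℕ, 1 ≤ m ∧ Nonempty ((P : Subgroup ↥K) ≃* QuaternionGroup (2 ^ m)))) :
    ∃ K : Subgroup H', K.Normal ∧ (∃ a : ℕ, K.index = 2 ^ a) ∧ (∀ M : Subgroup ↥K, M.index ≠ 2) ∧
      (∀ P : Sylow 2 ↥K, ∃ m : ℕ, 1 ≤ m ∧ Nonempty ((P : Subgroup ↥K) ≃* QuaternionGroup (2 ^ m))) := by
  obtain ⟨K, hKn, ⟨a, ha⟩, hK2, hKP⟩ := hK
  have hsurj : Function.Surjective (f.subgroupMap K) := f.subgroupMap_surjective K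
  refine ⟨K.map f, hKn.map f hf, ?_, ?_, ?_⟩
  · have h1 := Subgroup.index_map_dvd K hf
    rw [ha] at h1
    obtain ⟨b, _, hb⟩ := (Nat.dvd_prime_pow Nat.prime_two).1 h1
    exact ⟨b, hb⟩
  · intro M hM
    exact hK2 (M.comap (f.subgroupMap K)) (by rw [Subgroup.index_comap_of_surjective M hsurj, hM])
  · intro P
    obtain ⟨P₀, hP₀⟩ := Sylow.mapSurjective_surjective hsurj 2 P
    obtain ⟨m, hm, ⟨e⟩⟩ := hKP P₀
    refine ⟨m, hm, ?_⟩
    obtain ⟨e'⟩ := nonempty_equiv_map (f.subgroupMap K) (P₀ : Subgroup K) (by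
      intro x hx hx1
      have h1 : f (x : H) = 1 := congrArg Subtype.val hx1
      have h2 : (x : H) = 1 := by
        refine eq_one_of_isPGroup_of_coprime (p := 2) (P₀.2.map K.subtype) hker
          (x := (x : H)) ⟨x, hx, rfl⟩ h1
      exact Subtype.ext h2)
    have h3 : (P : Subgroup (K.map f)) = (P₀ : Subgroup K).map (f.subgroupMap K) := by
      rw [← hP₀]; rfl
    rw [h3]
    exact ⟨e'.symm.trans e⟩

/-- Part 2: weak closure of the subgroups of the centre. -/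
theorem weaklyClosed (f : H →* H') (hf : Function.Surjective f) [Finite H] (hker : (Nat.card f.ker).Coprime 2)
    (S : Sylow 2 H)
    (hW : ∀ Z₀ : Subgroup H, Z₀ ≤ ((Subgroup.center (S : Subgroup H)).map (S : Subgroup H).subtype) →
      Cfsg.IsWeaklyClosed Z₀ (S : Subgroup H))
    (Z₀ : Subgroup H') (hZ₀ : Z₀ ≤ ((Subgroup.center ((S.mapSurjective hf : Sylow 2 H') : Subgroup H')).map
      ((S.mapSurjective hf : Sylow 2 H') : Subgroup H').subtype)) :
    Cfsg.IsWeaklyClosed Z₀ ((S.mapSurjective hf : Sylow 2 H') : Subgroup H') := by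
  have hfin : Finite H' := Finite.of_surjective f hf
  have hS' : ((S.mapSurjective hf : Sylow 2 H') : Subgroup H') = (S : Subgroup H).map f := rfl
  -- elements of `Z₀` are central in `S'`
  have hZS : ∀ z ∈ Z₀, z ∈ (S : Subgroup H).map f ∧ ∀ s ∈ (S : Subgroup H).map f, z * s = s * z := by
    intro z hz
    obtain ⟨z', hz', rfl⟩ := hZ₀ hz
    refine ⟨z'.2, fun s hs => ?_⟩
    exact (congrArg Subtype.val (Subgroup.mem_center_iff.1 hz' ⟨s, hs⟩)).symm
  have hinj : ∀ x ∈ (S : Subgroup H), f x = 1 → x = 1 := fun x hx hx1 =>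
    eq_one_of_isPGroup_of_coprime S.2 hker hx hx1
  obtain ⟨Z₁, hZ₁⟩ : ∃ Z₁ : Subgroup H, Z₁ = (S : Subgroup H) ⊓ Z₀.comap f := ⟨_, rfl⟩
  have hZ₁map : Z₁.map f = Z₀ := by
    apply le_antisymm
    · rintro _ ⟨z, hz, rfl⟩
      rw [hZ₁] at hz
      exact hz.2
    · intro z hz
      obtain ⟨z', hz', rfl⟩ := (hZS z hz).1
      exact ⟨z', hZ₁ ▸ ⟨hz', hz⟩, rfl⟩
  have hZ₁c : Z₁ ≤ ((Subgroup.center (S : Subgroup H)).map (S : Subgroup H).subtype) := by
    intro z hz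
    rw [hZ₁] at hz
    refine ⟨⟨z, hz.1⟩, ?_, rfl⟩
    rw [SetLike.mem_coe, Subgroup.mem_center_iff]
    rintro ⟨s, hs⟩
    apply Subtype.ext
    change s * z = z * s
    have h1 : z * s * z⁻¹ * s⁻¹ = 1 := by
      apply hinj _ (mul_mem (mul_mem (mul_mem hz.1 hs) (inv_mem hz.1)) (inv_mem hs))
      rw [map_mul, map_mul, map_mul, map_inv, map_inv, (hZS _ hz.2).2 (f s) ⟨s, hs, rfl⟩]
      group
    have h2 : z * s = s * z := by
      calc z * s = (z * s * z⁻¹ * s⁻¹) * (s * z) := by group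
        _ = s * z := by rw [h1, one_mul]
    exact h2.symm
  have hwc := hW Z₁ hZ₁c
  refine ⟨fun z hz => (hZS z hz).1, fun g' hg' => ?_⟩
  obtain ⟨g, rfl⟩ := hf g'
  -- the preimage of `S'`
  obtain ⟨c, hcT, hc⟩ := Cfsg.Agent.TwoFusion.SylowConj.exists_conj_le_of_sylow_le S
    (((S : Subgroup H).map f).comap f) (Z₁.map (MulAut.conj g).toMonoidHom)
    (Subgroup.le_comap_map f _) (IsPGroup.map (S.2.to_le (hZ₁ ▸ inf_le_left)) _) (by
      rintro _ ⟨z, hz, rfl⟩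
      rw [Subgroup.mem_comap]
      apply hg'
      refine ⟨f z, ?_, ?_⟩
      · rw [← hZ₁map]; exact ⟨z, hz, rfl⟩
      · change f g * f z * (f g)⁻¹ = f (g * z * g⁻¹)
        rw [map_mul, map_mul, map_inv])
  have h3 := hwc.2 (c * g) (by
    rintro _ ⟨z, hz, rfl⟩
    have := hc (g * z * g⁻¹) ⟨z, hz, rfl⟩
    change (c * g) * z * (c * g)⁻¹ ∈ (S : Subgroup H)
    have h4 : (c * g) * z * (c * g)⁻¹ = c * (g * z * g⁻¹) * c⁻¹ := by group
    rw [h4]; exact this)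
  apply Subgroup.eq_of_le_of_card_ge
  · rintro _ ⟨z, hz, rfl⟩
    change f g * z * (f g)⁻¹ ∈ Z₀
    rw [← hZ₁map] at hz
    obtain ⟨z₁, hz₁, rfl⟩ := hz
    have h4 : (c * g) * z₁ * (c * g)⁻¹ ∈ Z₁ := by
      rw [← h3]; exact ⟨z₁, hz₁, rfl⟩
    have h5 : f ((c * g) * z₁ * (c * g)⁻¹) ∈ Z₀ := by
      rw [← hZ₁map]; exact ⟨_, h4, rfl⟩
    have h6 : f g * f z₁ * (f g)⁻¹ = (f c)⁻¹ * f ((c * g) * z₁ * (c * g)⁻¹) * f c := by
      simp only [map_mul, map_inv]; group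
    have h7 := (hZS _ h5).2 (f c) hcT
    rw [h6, mul_assoc, h7, inv_mul_cancel_left]
    exact h5
  · rw [Subgroup.card_map_of_injective (MulAut.conj (f g)).injective]

end Cfsg.Agent.TwoFusion.QGroupQuotient
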