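import Mathlib
import Cfsg.Prelude.Def_CaseTheorems
import Cfsg.Agent.Lib.HallHigman
import Cfsg.Agent.Lib.VonDyck
import Cfsg.Agent.Transfer.QuatSylow

/-!
# Solvable groups with generalized quaternion Sylow 2-subgroups and no subgroup of index two

If moreover `O(K) = 1` then `K / Z(K)` is the alternating group of degree 4.
-/

set_option autoImplicit false

namespace Cfsg.Agent.TwoFusion.QuatSolvable

open Subgroup Cfsg.Agent.Transfer.SL23Section Cfsg.Agent.Transfer.QuatSylow

/-- A group of order 12 with a normal self-centralizing Klein four-subgroup is `A_4`. -/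
theorem equiv_A4 {G : Type*} [Group G] [Finite G] (hG : Nat.card G = 12) (V : Subgroup G)
    [V.Normal] (hV : Nat.card V = 4) (hsq : ∀ v ∈ V, v ^ 2 = 1)
    (hC : ∀ g : G, (∀ v ∈ V, g * v = v * g) → g ∈ V) : Nonempty (G ≃* alternatingGroup (Fin 4)) := by
  have h3 : Fact (Nat.Prime 3) := ⟨Nat.prime_three⟩
  obtain ⟨ρ, hρ⟩ := exists_prime_orderOf_dvd_card' (G := G) 3 (by rw [hG]; norm_num)
  have hρV : ρ ∉ V := by
    intro h
    have h1 := hsq ρ h
    have h2 := orderOf_dvd_of_pow_eq_one h1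
    rw [hρ] at h2
    norm_num at h2
  have hρ3 : ρ ^ 3 = 1 := by rw [← hρ]; exact pow_orderOf_eq_one ρ
  have hcomm : ∀ x ∈ V, ∀ y ∈ V, x * y = y * x := by
    intro x hx y hy
    have h1 := hsq x hx
    have h2 := hsq y hy
    have h3 := hsq _ (V.mul_mem hx hy)
    rw [pow_two] at h1 h2 h3
    calc x * y = x * (x * y * (x * y)) * y := by rw [h3]; group
      _ = (x * x) * (y * x) * (y * y) := by group
      _ = y * x := by rw [h1, h2]; group
  -- an element of `V` fixed by `ρ` is trivial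
  have hfix : ∀ v ∈ V, ρ * v * ρ⁻¹ = v → v = 1 := by
    intro v hv hvρ
    by_contra hv1
    obtain ⟨w, hw, hwv⟩ : ∃ w ∈ V, ρ * w * ρ⁻¹ ≠ w := by
      by_contra hcon
      push Not at hcon
      apply hρV
      apply hC
      intro w hw
      rw [← mul_inv_eq_iff_eq_mul]
      exact hcon w hw
    have hw1 : w ≠ 1 := by
      rintro rfl
      apply hwv; group
    have hwv' : w ≠ v := by
      rintro rfl
      exact hwv hvρ
    -- V = {1, v, w, v w}
    have hall : ∀ x ∈ V, x = 1 ∨ x = v ∨ x = w ∨ x = v * w := by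
      classical
      intro x hx
      by_contra hcon
      push Not at hcon
      obtain ⟨h1, h2, h4, h5⟩ := hcon
      have hvw1 : v * w ≠ 1 := by
        intro e
        apply hwv'
        have := hsq v hv
        rw [pow_two] at this
        rw [← this] at e
        exact mul_left_cancel e
      have hvwv : v * w ≠ v := by
        intro e; exact hw1 (mul_eq_left.1 e)
      have hvww : v * w ≠ w := by
        intro e; exact hv1 (mul_eq_right.1 e)
      have h6 : Nat.card (({x, 1, v, w, v * w} : Finset G) : Set G) ≤ Nat.card V := by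
        apply Nat.card_mono (Set.toFinite _)
        intro y hy
        simp only [Finset.coe_insert, Finset.coe_singleton, Set.mem_insert_iff,
          Set.mem_singleton_iff] at hy
        rcases hy with rfl | rfl | rfl | rfl | rfl
        · exact hx
        · exact V.one_mem
        · exact hv
        · exact hw
        · exact V.mul_mem hv hw
      rw [hV, Nat.card_coe_set_eq, Set.ncard_coe_finset, Finset.card_insert_of_notMem,
        Finset.card_insert_of_notMem, Finset.card_insert_of_notMem,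
        Finset.card_insert_of_notMem, Finset.card_singleton] at h6
      · omega
      · simp only [Finset.mem_singleton]; exact fun e => hvww e.symm
      · simp only [Finset.mem_insert, Finset.mem_singleton, not_or]
        exact ⟨fun e => hwv' e.symm, fun e => hvwv e.symm⟩
      · simp only [Finset.mem_insert, Finset.mem_singleton, not_or]
        exact ⟨fun e => hv1 e.symm, fun e => hw1 e.symm, fun e => hvw1 e.symm⟩
      · simp only [Finset.mem_insert, Finset.mem_singleton, not_or]
        exact ⟨h1, h2, h4, h5⟩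
    have hwc : ρ * w * ρ⁻¹ ∈ V := Subgroup.Normal.conj_mem inferInstance w hw ρ
    have h2 : ρ * w * ρ⁻¹ = v * w := by
      rcases hall _ hwc with h | h | h | h
      · exfalso; apply hw1
        rw [mul_inv_eq_one] at h
        exact mul_eq_left.1 h
      · exfalso
        rw [← hvρ] at h
        exact hwv' (mul_left_cancel (mul_right_cancel h))
      · exact absurd h hwv
      · exact h
    -- then `ρ³` maps `w` to `v³ w = v w`
    have h4 : ρ ^ 3 * w * (ρ ^ 3)⁻¹ = v * w := by
      have e1 : ρ ^ 3 * w * (ρ ^ 3)⁻¹ = ρ * (ρ * (ρ * w * ρ⁻¹) * ρ⁻¹) * ρ⁻¹ := by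
        simp [pow_succ, mul_assoc]
      have e2 : ρ * (v * w) * ρ⁻¹ = v * (v * w) := by
        calc ρ * (v * w) * ρ⁻¹ = (ρ * v * ρ⁻¹) * (ρ * w * ρ⁻¹) := by group
          _ = v * (v * w) := by rw [hvρ, h2]
      have e3 : v * (v * w) = w := by
        rw [← mul_assoc, ← pow_two, hsq v hv, one_mul]
      rw [e1, h2, e2, e3, h2]
    rw [hρ3] at h4
    apply hv1
    have h5 : w = v * w := by simpa using h4
    exact (mul_eq_right.1 h5.symm)
  obtain ⟨a, haV, ha1⟩ : ∃ a ∈ V, a ≠ 1 := by
    by_contra hcon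
    push Not at hcon
    have : V = ⊥ := by
      rw [eq_bot_iff]
      intro x hx
      exact hcon x hx
    rw [this, Subgroup.card_bot] at hV
    norm_num at hV
  -- `(a ρ)³` is fixed by `ρ`
  have hcube : (a * ρ) ^ 3 = 1 := by
    have e1 : (a * ρ) ^ 3 = a * (ρ * a * ρ⁻¹) * (ρ * (ρ * a * ρ⁻¹) * ρ⁻¹) * ρ ^ 3 := by
      simp [pow_succ, mul_assoc]
    have h1 : ρ * a * ρ⁻¹ ∈ V := Subgroup.Normal.conj_mem inferInstance a haV ρ
    have h2 : ρ * (ρ * a * ρ⁻¹) * ρ⁻¹ ∈ V := Subgroup.Normal.conj_mem inferInstance _ h1 ρ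
    have hm : (a * ρ) ^ 3 ∈ V := by
      rw [e1, hρ3, mul_one]
      exact V.mul_mem (V.mul_mem haV h1) h2
    apply hfix _ hm
    have h4 : a * (a * ρ) ^ 3 = (a * ρ) ^ 3 * a := hcomm _ haV _ hm
    have h5 : (a * ρ) * (a * ρ) ^ 3 = (a * ρ) ^ 3 * (a * ρ) := by
      rw [← pow_succ, ← pow_succ']
    have h6 : ρ * (a * ρ) ^ 3 = (a * ρ) ^ 3 * ρ := by
      have e2 : a * (ρ * (a * ρ) ^ 3) = a * ((a * ρ) ^ 3 * ρ) := by
        calc a * (ρ * (a * ρ) ^ 3) = (a * ρ) * (a * ρ) ^ 3 := by rw [mul_assoc]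
          _ = (a * ρ) ^ 3 * (a * ρ) := h5
          _ = ((a * ρ) ^ 3 * a) * ρ := by rw [mul_assoc]
          _ = (a * (a * ρ) ^ 3) * ρ := by rw [h4]
          _ = a * ((a * ρ) ^ 3 * ρ) := by rw [mul_assoc]
      exact mul_left_cancel e2
    rw [h6, mul_assoc, mul_inv_cancel, mul_one]
  obtain ⟨e⟩ := Cfsg.Agent.Lib.VonDyck.closure_equiv_alternatingFour (hsq a haV) hρ3 hcube ha1
  have hcard : Nat.card (closure {a, ρ} : Subgroup G) = 12 := by
    rw [Nat.card_congr e.toEquiv, Cfsg.Agent.Lib.VonDyck.card_alternating4]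
  have htop : (closure {a, ρ} : Subgroup G) = ⊤ :=
    Subgroup.eq_top_of_card_eq _ (by rw [hcard, hG])
  exact ⟨(Subgroup.topEquiv.symm.trans (MulEquiv.subgroupCongr htop.symm)).trans e⟩

/-- A nontrivial finite 2-group has a subgroup of index two. -/
theorem exists_index_two {K : Type*} [Group K] [Finite K] (h : IsPGroup 2 K) (h1 : 1 < Nat.card K) :
    ∃ M : Subgroup K, M.index = 2 := by
  have : Fact (Nat.Prime 2) := ⟨Nat.prime_two⟩
  obtain ⟨n, hn⟩ := IsPGroup.iff_card.1 h
  have hn0 : n ≠ 0 := by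
    rintro rfl
    rw [hn, pow_zero] at h1
    exact absurd h1 (lt_irrefl _)
  obtain ⟨k, rfl⟩ : ∃ k, n = k + 1 := ⟨n - 1, by omega⟩
  obtain ⟨M, hM⟩ := Sylow.exists_subgroup_card_pow_prime (G := K) 2 (n := k)
    (by rw [hn]; exact pow_dvd_pow 2 (Nat.le_succ k))
  refine ⟨M, ?_⟩
  have h2 := M.card_mul_index
  rw [hM, hn, pow_succ] at h2
  exact Nat.eq_of_mul_eq_mul_left (by positivity) h2

theorem perm_four_cube : ∀ σ : Equiv.Perm (Fin 4), σ 0 = 0 → Equiv.Perm.sign σ = 1 → σ ^ 3 = 1 := by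
  decide

/-- An even permutation of a set with four elements with a fixed point has cube 1. -/
theorem perm_cube {α : Type*} [DecidableEq α] [Fintype α] (hα : Fintype.card α = 4)
    (σ : Equiv.Perm α) (a : α) (ha : σ a = a) (hs : Equiv.Perm.sign σ = 1) : σ ^ 3 = 1 := by
  obtain ⟨e⟩ : Nonempty (α ≃ Fin 4) := ⟨Fintype.equivFinOfCardEq hα⟩
  let e' : α ≃ Fin 4 := e.trans (Equiv.swap (e a) 0)
  have he' : e' a = 0 := by simp [e']
  have h1 : (e'.permCongr σ) ^ 3 = 1 := by
    apply perm_four_cube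
    · rw [Equiv.permCongr_apply, ← he', Equiv.symm_apply_apply, ha]
    · rw [Equiv.Perm.sign_permCongr, hs]
  have h2 : e'.permCongr (σ ^ 3) = 1 := by
    rw [← h1]
    exact map_pow e'.permCongrHom σ 3
  have h3 : e'.permCongr (σ ^ 3) = e'.permCongr 1 := by
    rw [h2]; exact (map_one e'.permCongrHom).symm
  exact e'.permCongr.injective h3

/-- A solvable group with generalized quaternion Sylow 2-subgroups, trivial odd core and no
subgroup of index two is, modulo its involution, the alternating group of degree 4. -/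
theorem quotient_mulEquiv_A4 {K : Type*} [Group K] [Finite K] [Group.IsSolvable K]
    (hO : Cfsg.oddCore K = ⊥) (z : K) (hz2 : orderOf z = 2) (hu : ∀ x : K, orderOf x = 2 → x = z)
    [(Subgroup.zpowers z).Normal] (Q : Sylow 2 K) (m : ℕ) (_hm : 1 ≤ m)
    (e : (Q : Subgroup K) ≃* QuaternionGroup (2 ^ m)) (hK : ∀ M : Subgroup K, M.index ≠ 2) :
    Nonempty (K ⧸ Subgroup.zpowers z ≃* alternatingGroup (Fin 4)) := by
  classical
  have hp2 : Fact (Nat.Prime 2) := ⟨Nat.prime_two⟩
  set T : Subgroup K := Cfsg.pCore 2 K with hT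
  have hTn : T.Normal := Cfsg.Agent.Lib.HallHigman.pCore_normal 2
  have hTp : IsPGroup 2 T := Cfsg.Agent.Lib.HallHigman.pCore_isPGroup 2
  have hTQ : T ≤ Q := Cfsg.Agent.Lib.HallHigman.pCore_le_sylow 2 Q
  have hCT : Subgroup.centralizer (T : Set K) ≤ T :=
    Cfsg.Agent.Lib.HallHigman.centralizer_pCore_le_of_solvable 2 hO
  obtain ⟨c, z0, hq⟩ := exists_isQuat (Q : Subgroup K) m ⟨e⟩
  have hz0 : z0 = z := hu z0 (orderOf_eq_prime hq.z_sq hq.z_ne)
  subst hz0
  have hzc : ∀ x : K, x * z0 * x⁻¹ = z0 := by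
    intro x
    apply hu
    rw [← hz2]
    exact (MulAut.conj x).orderOf_eq z0
  have hzz : z0 * z0 = 1 := by rw [← pow_two]; exact hq.z_sq
  -- an element of odd order not centralizing `T`
  obtain ⟨g, hg, hgT⟩ : ∃ g : K, Odd (orderOf g) ∧ g ∉ Subgroup.centralizer (T : Set K) := by
    by_contra hcon
    push Not at hcon
    have h2 : IsPGroup 2 K := by
      rw [IsPGroup.iff_card]
      have hall : ∀ q : ℕ, q.Prime → q ∣ Nat.card K → q = 2 := by
        intro q hq1 hq2
        by_contra hne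
        have : Fact q.Prime := ⟨hq1⟩
        obtain ⟨g, hg⟩ := exists_prime_orderOf_dvd_card' (G := K) q hq2
        have hodd : Odd (orderOf g) := by rw [hg]; exact hq1.odd_of_ne_two hne
        have h3 := hCT (hcon g hodd)
        obtain ⟨k, hk⟩ := hTp ⟨g, h3⟩
        have h4 : g ^ (2 ^ k) = 1 := congrArg Subtype.val hk
        have h5 := orderOf_dvd_of_pow_eq_one h4
        rw [hg] at h5
        exact hne ((Nat.prime_dvd_prime_iff_eq hq1 Nat.prime_two).1 (hq1.dvd_of_dvd_pow h5))
      exact ⟨_, Nat.eq_prime_pow_of_unique_prime_dvd Nat.card_pos.ne' (hall _)⟩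
    have h3 : 1 < Nat.card K := by
      rw [Finite.one_lt_card_iff_nontrivial]
      exact ⟨⟨z0, 1, hq.z_ne⟩⟩
    obtain ⟨M, hM⟩ := exists_index_two h2 h3
    exact hK M hM
  have hgq : ∀ q ∈ T, g * q * g⁻¹ ∈ T := fun q hq' => hTn.conj_mem q hq' g
  have htwo : ∀ x ∈ (Q : Subgroup K), ∃ k : ℕ, x ^ (2 ^ k) = 1 := by
    intro x hx
    obtain ⟨k, hk⟩ := hq.two ⟨x, hx⟩
    exact ⟨k, congrArg Subtype.val hk⟩
  -- `T ∩ ⟨c⟩` is cyclic
  obtain ⟨b, hb⟩ : ∃ b, zpowers b = T ⊓ zpowers c := by
    have h1 : IsCyclic (zpowers c) := inferInstance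
    have h2 : IsCyclic (T.subgroupOf (zpowers c)) := inferInstance
    obtain ⟨b, hb⟩ := h2.exists_generator
    refine ⟨((b : zpowers c) : K), ?_⟩
    apply le_antisymm
    · rw [zpowers_le]
      exact mem_inf.mpr ⟨b.2, (b : zpowers c).2⟩
    · intro x hx
      obtain ⟨hx1, hx2⟩ := mem_inf.mp hx
      obtain ⟨k, hk⟩ := mem_zpowers_iff.mp (hb ⟨⟨x, hx2⟩, hx1⟩)
      rw [mem_zpowers_iff]
      exact ⟨k, by simpa using congrArg (fun y : (T.subgroupOf (zpowers c)) => ((y : zpowers c) : K)) hk⟩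
  have hbB : b ∈ T ⊓ zpowers c := by rw [← hb]; exact mem_zpowers b
  obtain ⟨hbT, hbA⟩ := mem_inf.mp hbB
  obtain ⟨kb, hkb⟩ := htwo b (hTQ hbT)
  have hcase : g * b * g⁻¹ ∉ zpowers c := by
    intro hcase
    have hgb : Commute g b := by
      apply commute_of_zpowers hkb hg
      rw [hb]
      exact mem_inf.mpr ⟨hgq b hbT, hcase⟩
    have hgB : ∀ x ∈ T, x ∈ zpowers c → Commute g x := by
      intro x hx1 hx2
      have : x ∈ zpowers b := by rw [hb]; exact mem_inf.mpr ⟨hx1, hx2⟩
      obtain ⟨k, rfl⟩ := mem_zpowers_iff.mp this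
      exact hgb.zpow_right k
    apply hgT
    rw [mem_centralizer_iff]
    intro q hq1
    by_cases hqA : q ∈ zpowers c
    · exact (hgB q hq1 hqA).eq.symm
    · have h1 : g * q * g⁻¹ ∉ zpowers c := by
        intro h1
        have h2 : Commute g (g * q * g⁻¹) := hgB _ (hgq q hq1) h1
        apply hqA
        have h3 : q = g * q * g⁻¹ := by
          have h4 := h2.eq
          have h5 : g * (g * q * g⁻¹) = g * q := by rw [h4]; group
          exact (mul_left_cancel h5).symm
        rw [h3]; exact h1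
      have hu1 : q⁻¹ * (g * q * g⁻¹) ∈ zpowers c :=
        hq.quot _ (hTQ hq1) _ (hTQ (hgq q hq1)) hqA h1
      have huQ : q⁻¹ * (g * q * g⁻¹) ∈ T := mul_mem (inv_mem hq1) (hgq q hq1)
      set u := q⁻¹ * (g * q * g⁻¹) with hu_def
      have hgu : Commute g u := hgB u huQ hu1
      have h2 : g * q * g⁻¹ = q * u := by rw [hu_def]; group
      have h3 : ∀ m : ℕ, g ^ m * q * (g ^ m)⁻¹ = q * u ^ m := by
        intro m
        induction m with
        | zero => simp
        | succ m ih =>
          have : g ^ (m + 1) * q * (g ^ (m + 1))⁻¹ = g * (g ^ m * q * (g ^ m)⁻¹) * g⁻¹ := by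
            rw [pow_succ']; group
          rw [this, ih]
          have h4 : g * (q * u ^ m) * g⁻¹ = (g * q * g⁻¹) * (g * u ^ m * g⁻¹) := by group
          rw [h4, h2, (hgu.pow_right m).eq, mul_inv_cancel_right, mul_assoc, pow_succ']
      have h5 := h3 (orderOf g)
      rw [pow_orderOf_eq_one] at h5
      have h6 : u ^ orderOf g = 1 := by
        simpa using h5.symm
      obtain ⟨k, hk⟩ := htwo u (hTQ huQ)
      have h7 : u = 1 := by
        rw [← orderOf_eq_one_iff]
        exact Nat.eq_one_of_dvd_coprimes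
          (Nat.Coprime.pow_left k (Nat.coprime_two_left.mpr hg))
          (orderOf_dvd_of_pow_eq_one hk) (orderOf_dvd_of_pow_eq_one h6)
      rw [h7, mul_one, mul_inv_eq_iff_eq_mul] at h2
      exact h2.symm
  set j := g * b * g⁻¹ with hj_def
  have hjT : j ∈ T := hgq b hbT
  have hjz : j ^ 2 = z0 := hq.sq j (hTQ hjT) hcase
  have hb2 : b ^ 2 = z0 := by
    have h1 : g * (b ^ 2) * g⁻¹ = z0 := by rw [← hjz, hj_def, conj_pow]
    have h2 : g * (b ^ 2) * g⁻¹ = g * z0 * g⁻¹ := by rw [h1, hzc]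
    exact mul_left_cancel (mul_right_cancel h2)
  have hob : orderOf b = 4 := by
    rw [show (4 : ℕ) = 2 ^ (1 + 1) from rfl]
    refine orderOf_eq_prime_pow ?_ ?_
    · rw [pow_one, hb2]; exact hq.z_ne
    · rw [show (2 : ℕ) ^ (1 + 1) = 2 * 2 from rfl, pow_mul, hb2, pow_two, hzz]
  have hsqT : ∀ x ∈ T, x ^ 2 ∈ zpowers z0 := by
    intro x hx
    by_cases hxc : x ∈ zpowers c
    · have : x ∈ zpowers b := by rw [hb]; exact mem_inf.mpr ⟨hx, hxc⟩
      obtain ⟨k, rfl⟩ := mem_zpowers_iff.mp this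
      rw [← zpow_natCast, ← zpow_mul, mul_comm, zpow_mul, zpow_natCast, hb2]
      exact zpow_mem (mem_zpowers z0) k
    · rw [hq.sq x (hTQ hx) hxc]
      exact mem_zpowers z0
  -- the order of `T`
  have hcardT : Nat.card T = 8 := by
    have h1 : (zpowers b).relIndex T = 2 := by
      rw [Subgroup.relIndex, Subgroup.index_eq_two_iff]
      refine ⟨⟨j, hjT⟩, ?_⟩
      rintro ⟨x, hx⟩
      rw [mem_subgroupOf, mem_subgroupOf]
      show Xor (x * j ∈ zpowers b) (x ∈ zpowers b)
      rw [hb]
      by_cases hxc : x ∈ zpowers c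
      · right
        refine ⟨mem_inf.2 ⟨hx, hxc⟩, fun h => hcase ?_⟩
        have h2 := (mem_inf.1 h).2
        have h3 := mul_mem (inv_mem hxc) h2
        rwa [inv_mul_cancel_left] at h3
      · left
        refine ⟨mem_inf.2 ⟨mul_mem hx hjT, ?_⟩, fun h => hxc (mem_inf.1 h).2⟩
        have h2 := hq.quot x⁻¹ (inv_mem (hTQ hx)) j (hTQ hjT)
          (fun h => hxc (by simpa using inv_mem h)) hcase
        rwa [inv_inv] at h2
    have h2 := Subgroup.relIndex_mul_relIndex (⊥ : Subgroup K) (zpowers b) T bot_le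
      (by rw [zpowers_le]; exact hbT)
    rw [Subgroup.relIndex_bot_left, Subgroup.relIndex_bot_left, Nat.card_zpowers, hob, h1] at h2
    exact h2.symm
  -- the quotient
  have hzT : z0 ∈ T := by rw [← hb2]; exact pow_mem hbT 2
  set f := QuotientGroup.mk' (zpowers z0) with hf
  have hfs : Function.Surjective f := QuotientGroup.mk'_surjective _
  have hfk : f.ker = zpowers z0 := QuotientGroup.ker_mk' _
  set V : Subgroup (K ⧸ zpowers z0) := T.map f with hV
  have hVn : V.Normal := hTn.map f hfs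
  have hcardV : Nat.card V = 4 := by
    have h1 : (zpowers z0).relIndex T = Nat.card V := by
      have h0 := Subgroup.relIndex_ker (K := T) f
      rwa [hfk] at h0
    have h2 := Subgroup.relIndex_mul_relIndex (⊥ : Subgroup K) (zpowers z0) T bot_le
      (by rw [zpowers_le]; exact hzT)
    rw [Subgroup.relIndex_bot_left, Subgroup.relIndex_bot_left, Nat.card_zpowers, hz2, h1,
      hcardT] at h2
    omega
  have hVsq : ∀ v ∈ V, v ^ 2 = 1 := by
    rintro _ ⟨x, hx, rfl⟩
    rw [← map_pow, ← MonoidHom.mem_ker, hfk]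
    exact hsqT x hx
  have hVcomm : ∀ x ∈ V, ∀ y ∈ V, x * y = y * x := by
    intro x hx y hy
    have h1 := hVsq x hx
    have h2 := hVsq y hy
    have h3 := hVsq _ (V.mul_mem hx hy)
    rw [pow_two] at h1 h2 h3
    calc x * y = x * (x * y * (x * y)) * y := by rw [h3]; group
      _ = (x * x) * (y * x) * (y * y) := by group
      _ = y * x := by rw [h1, h2]; group
  have hVC : ∀ g : K ⧸ zpowers z0, (∀ v ∈ V, g * v = v * g) → g ∈ V := by
    set C : Subgroup K := (Subgroup.centralizer (V : Set (K ⧸ zpowers z0))).comap f with hCdef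
    have hCn : C.Normal := (Subgroup.Normal.comap (inferInstance) f)
    have hCp : IsPGroup 2 C := by
      rintro ⟨k, hk⟩
      have hk2 : k ^ 2 ∈ Subgroup.centralizer (T : Set K) := by
        rw [mem_centralizer_iff]
        intro x hx
        rw [hCdef, mem_comap, mem_centralizer_iff] at hk
        have h1 := hk (f x) ⟨x, hx, rfl⟩
        have h2 : f (x⁻¹ * (k * x * k⁻¹)) = 1 := by
          rw [map_mul, map_mul, map_mul, map_inv, map_inv, ← h1]; group
        rw [← MonoidHom.mem_ker, hfk] at h2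
        set ζ := x⁻¹ * (k * x * k⁻¹) with hζ
        have h3 : k * x * k⁻¹ = x * ζ := by rw [hζ]; group
        obtain ⟨i, hi⟩ := mem_zpowers_iff.1 h2
        have h4 : k * ζ * k⁻¹ = ζ := by
          rw [← hi, ← conj_zpow, hzc]
        have h5 : ζ * ζ = 1 := by
          rw [← hi, ← zpow_add, ← two_mul, zpow_mul]
          rw [zpow_ofNat, hq.z_sq, one_zpow]
        have h6 : k * (x * ζ) * k⁻¹ = x := by
          have : k * (x * ζ) * k⁻¹ = (k * x * k⁻¹) * (k * ζ * k⁻¹) := by group
          rw [this, h3, h4, mul_assoc, h5, mul_one]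
        have h7 : k ^ 2 * x * (k ^ 2)⁻¹ = x := by
          have : k ^ 2 * x * (k ^ 2)⁻¹ = k * (k * x * k⁻¹) * k⁻¹ := by
            simp [pow_succ, mul_assoc]
          rw [this, h3, h6]
        rw [mul_inv_eq_iff_eq_mul] at h7
        exact h7.symm
      obtain ⟨i, hi⟩ := hTp ⟨k ^ 2, hCT hk2⟩
      have h1 : (k ^ 2) ^ (2 ^ i) = 1 := congrArg Subtype.val hi
      refine ⟨i + 1, Subtype.ext ?_⟩
      show k ^ (2 ^ (i + 1)) = 1
      rw [pow_succ', pow_mul, h1]
    have hCT' : C ≤ T := Cfsg.Agent.Lib.HallHigman.le_pCore hCn hCp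
    intro g hg
    obtain ⟨k, rfl⟩ := hfs g
    refine ⟨k, hCT' ?_, rfl⟩
    rw [hCdef, mem_comap, mem_centralizer_iff]
    intro v hv
    exact (hg v hv).symm
  -- the order of the quotient
  have hcard : Nat.card (K ⧸ zpowers z0) = 12 := by
    have : Fintype V := Fintype.ofFinite _
    let ψ : (K ⧸ zpowers z0) →* Equiv.Perm V :=
      (MulAut.toPerm V).comp (MulAut.conjNormal (H := V))
    have hψ : ∀ (k : K ⧸ zpowers z0) (v : V), ((ψ k v : V) : K ⧸ zpowers z0) = k * v * k⁻¹ := by
      intro k v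
      exact MulAut.conjNormal_apply k v
    have hsign : ∀ k, Equiv.Perm.sign (ψ k) = 1 := by
      intro k
      obtain ⟨k, rfl⟩ := hfs k
      let s : K →* ℤˣ := (Equiv.Perm.sign.comp ψ).comp f
      have hs : s.ker.index ≠ 2 := hK _
      have h1 : s.ker.index = Nat.card s.range := Subgroup.index_ker s
      have h2 : Nat.card s.range ∣ 2 := by
        have := Subgroup.card_subgroup_dvd_card s.range
        have h3 : Nat.card ℤˣ = 2 := by rw [Nat.card_eq_fintype_card]; rfl
        rwa [h3] at this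
      have h3 : Nat.card s.range = 1 := by
        rcases (Nat.dvd_prime Nat.prime_two).1 h2 with h | h
        · exact h
        · rw [h1] at hs; exact absurd h hs
      have h4 : s.range = ⊥ := Subgroup.card_eq_one.1 h3
      have h5 : s k ∈ s.range := ⟨k, rfl⟩
      rw [h4, mem_bot] at h5
      exact h5
    have hcube : ∀ k, (ψ k) ^ 3 = 1 := by
      intro k
      apply perm_cube (by rw [← Nat.card_eq_fintype_card, hcardV]) (ψ k) 1 _ (hsign k)
      apply Subtype.ext
      rw [hψ]; simp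
    have hker : ψ.ker = V := by
      apply le_antisymm
      · intro k hk
        apply hVC
        intro v hv
        have h1 := hψ k ⟨v, hv⟩
        rw [MonoidHom.mem_ker.1 hk] at h1
        have h2 : v = k * v * k⁻¹ := h1
        rw [eq_mul_inv_iff_mul_eq] at h2
        exact h2.symm
      · intro k hk
        rw [MonoidHom.mem_ker]
        ext v
        rw [hψ, hVcomm k hk v v.2, mul_assoc, mul_inv_cancel, mul_one]
        rfl
    have h3 : Fact (Nat.Prime 3) := ⟨Nat.prime_three⟩
    have hr3 : IsPGroup 3 ψ.range := by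
      rintro ⟨_, k, rfl⟩
      exact ⟨1, Subtype.ext (by rw [pow_one]; exact hcube k)⟩
    obtain ⟨i, hi⟩ := IsPGroup.iff_card.1 hr3
    have hdvd : Nat.card ψ.range ∣ 24 := by
      have h4 := Subgroup.card_subgroup_dvd_card ψ.range
      have h5 : Nat.card (Equiv.Perm V) = 24 := by
        rw [Nat.card_perm, hcardV]; rfl
      rwa [h5] at h4
    rw [hi] at hdvd
    have hi1 : i ≤ 1 := by
      by_contra hlt
      have h5 : 3 ^ 2 ∣ 24 := (pow_dvd_pow 3 (by omega)).trans hdvd
      norm_num at h5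
    have h6 : Nat.card (K ⧸ zpowers z0) = 4 * 3 ^ i := by
      have h7 := V.card_mul_index
      rw [hcardV, ← hker, Subgroup.index_ker, hi] at h7
      exact h7.symm
    rcases Nat.eq_zero_or_pos i with h0 | h0
    · exfalso
      rw [h0, pow_zero, mul_one] at h6
      have h7 : Nat.card K = 8 := by
        rw [Subgroup.card_eq_card_quotient_mul_card_subgroup (zpowers z0), h6, Nat.card_zpowers,
          hz2]
      have h8 : orderOf g ∣ 8 := by rw [← h7]; exact orderOf_dvd_natCard g
      have h9 : orderOf g = 1 := by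
        apply Nat.eq_one_of_dvd_coprimes (a := 2 ^ 3)
          (Nat.Coprime.pow_left 3 (Nat.coprime_two_left.mpr hg)) h8 dvd_rfl
      rw [orderOf_eq_one_iff] at h9
      apply hgT
      rw [h9]
      exact one_mem _
    · have : i = 1 := by omega
      rw [this] at h6
      omega
  exact equiv_A4 hcard V hcardV hVsq hVC

end Cfsg.Agent.TwoFusion.QuatSolvable
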