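import Mathlib

/-!
Involutions of `SL(3,F)` and `PSL(3,F)`, `F` a field of characteristic not two: every involution of
`SL(3,F)` is conjugate to `diag(1,-1,-1)`, involutions of `PSL(3,F)` lift to involutions, and the
centraliser of an involution of `PSL(3,F)` is the image of `GL(2,F)`.
-/

set_option autoImplicit false

open scoped MatrixGroups Matrix

namespace Cfsg.Agent.TwoFusion.PSL3Inv

variable {F : Type*} [Field F]

/-- A matrix with square one is diagonalisable with eigenvalues `±1`. -/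
theorem exists_basis (h2 : (2 : F) ≠ 0) {T : Matrix (Fin 3) (Fin 3) F} (hT : T * T = 1) :
    ∃ b : Module.Basis (Fin 3) F (Fin 3 → F), ∀ i, T *ᵥ b i = b i ∨ T *ᵥ b i = - b i := by
  set S : Set (Fin 3 → F) := {v | T *ᵥ v = v ∨ T *ᵥ v = -v} with hS
  have hspan : ⊤ ≤ Submodule.span F S := by
    intro v _
    have h1 : v + T *ᵥ v ∈ S := by
      left
      rw [Matrix.mulVec_add, Matrix.mulVec_mulVec, hT, Matrix.one_mulVec, add_comm]
    have h3 : v - T *ᵥ v ∈ S := by
      right
      rw [Matrix.mulVec_sub, Matrix.mulVec_mulVec, hT, Matrix.one_mulVec, neg_sub]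
    have h4 : v = (2 : F)⁻¹ • ((v + T *ᵥ v) + (v - T *ᵥ v)) := by
      have : (v + T *ᵥ v) + (v - T *ᵥ v) = (2 : F) • v := by
        rw [two_smul]; abel
      rw [this, smul_smul, inv_mul_cancel₀ h2, one_smul]
    rw [h4]
    exact Submodule.smul_mem _ _ (Submodule.add_mem _ (Submodule.subset_span h1)
      (Submodule.subset_span h3))
  let b₀ := Module.Basis.ofSpan hspan
  have hsub := Module.Basis.ofSpan_subset hspan
  have hfin : Finite ((linearIndepOn_empty F id).extend (Set.empty_subset S)) :=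
    Module.Finite.finite_basis b₀
  have := Fintype.ofFinite ((linearIndepOn_empty F id).extend (Set.empty_subset S))
  have hcard : Fintype.card ((linearIndepOn_empty F id).extend (Set.empty_subset S)) = 3 := by
    rw [← Module.finrank_eq_card_basis b₀, Module.finrank_fin_fun]
  let e := Fintype.equivFinOfCardEq hcard
  refine ⟨b₀.reindex e, fun i => ?_⟩
  rw [Module.Basis.reindex_apply]
  exact hsub (Set.mem_range_self _)

/-- The matrix `diag(1,-1,-1)`. -/
def dm (F : Type*) [Field F] : Matrix (Fin 3) (Fin 3) F := !![1, 0, 0; 0, -1, 0; 0, 0, -1]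

theorem exists_conj (h2 : (2 : F) ≠ 0) {T : Matrix (Fin 3) (Fin 3) F} (hT : T * T = 1)
    (hdet : T.det = 1) (hne : T ≠ 1) :
    ∃ P : Matrix (Fin 3) (Fin 3) F, P.det = 1 ∧ T * P = P * dm F := by
  obtain ⟨b, hb⟩ := exists_basis h2 hT
  have h1 : ∀ i, ∃ d : F, (d = 1 ∨ d = -1) ∧ T *ᵥ b i = d • b i := by
    intro i
    rcases hb i with h | h
    · exact ⟨1, Or.inl rfl, by rw [h, one_smul]⟩
    · exact ⟨-1, Or.inr rfl, by rw [h, neg_smul, one_smul]⟩
  choose d hd hdb using h1
  -- the matrix with columns `b i`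
  have hPdet : ∀ σ : Equiv.Perm (Fin 3), (Matrix.of (fun i j => b (σ j) i)).det ≠ 0 := by
    intro σ
    have hli : LinearIndependent F (Matrix.of (fun i j => b (σ j) i)).col :=
      b.linearIndependent.comp σ σ.injective
    rw [Matrix.linearIndependent_cols_iff_isUnit, Matrix.isUnit_iff_isUnit_det] at hli
    exact hli.ne_zero
  have hTP : ∀ σ : Equiv.Perm (Fin 3), T * (Matrix.of (fun i j => b (σ j) i)) =
      (Matrix.of (fun i j => b (σ j) i)) * Matrix.diagonal (fun i => d (σ i)) := by
    intro σ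
    ext i j
    rw [Matrix.mul_diagonal, Matrix.mul_apply]
    have := congrFun (hdb (σ j)) i
    rw [Matrix.mulVec, dotProduct, Pi.smul_apply, smul_eq_mul] at this
    rw [mul_comm, Matrix.of_apply, mul_comm, mul_comm (b (σ j) i), ← this]
    rfl
  have hprod : d 0 * d 1 * d 2 = 1 := by
    have h3 := congrArg Matrix.det (hTP 1)
    rw [Matrix.det_mul, Matrix.det_mul, hdet, one_mul, Matrix.det_diagonal, Fin.prod_univ_three]
      at h3
    have h4 := hPdet 1
    have h5 : (Matrix.of (fun i j => b ((1 : Equiv.Perm (Fin 3)) j) i)).det *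
        (d 0 * d 1 * d 2 - 1) = 0 := by
      have h6 : d ((1 : Equiv.Perm (Fin 3)) 0) * d ((1 : Equiv.Perm (Fin 3)) 1) *
        d ((1 : Equiv.Perm (Fin 3)) 2) = d 0 * d 1 * d 2 := rfl
      rw [h6] at h3
      linear_combination -h3
    rcases mul_eq_zero.1 h5 with h | h
    · exact absurd h h4
    · linear_combination h
  have hnall : ¬ (d 0 = 1 ∧ d 1 = 1 ∧ d 2 = 1) := by
    rintro ⟨h0, h1, h3⟩
    apply hne
    have h4 := hTP 1
    have h5 : Matrix.diagonal (fun i => d ((1 : Equiv.Perm (Fin 3)) i)) =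
        (1 : Matrix (Fin 3) (Fin 3) F) := by
      rw [← Matrix.diagonal_one]
      congr 1
      funext i
      fin_cases i
      · exact h0
      · exact h1
      · exact h3
    rw [h5, mul_one] at h4
    have h6 : IsUnit (Matrix.of (fun i j => b ((1 : Equiv.Perm (Fin 3)) j) i)) := by
      rw [Matrix.isUnit_iff_isUnit_det]
      exact (hPdet 1).isUnit
    have h7 : T * (Matrix.of (fun i j => b ((1 : Equiv.Perm (Fin 3)) j) i)) =
      1 * (Matrix.of (fun i j => b ((1 : Equiv.Perm (Fin 3)) j) i)) := by rw [h4, one_mul]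
    exact h6.mul_right_cancel h7
  have hone : (1 : F) ≠ -1 := by
    intro h
    apply h2
    linear_combination h
  -- exactly one eigenvalue one
  obtain ⟨σ, hσ⟩ : ∃ σ : Equiv.Perm (Fin 3), d (σ 0) = 1 ∧ d (σ 1) = -1 ∧ d (σ 2) = -1 := by
    rcases hd 0 with h0 | h0 <;> rcases hd 1 with h1 | h1 <;> rcases hd 2 with h3 | h3 <;>
      rw [h0, h1, h3] at hprod
    · exact absurd ⟨h0, h1, h3⟩ hnall
    · exact absurd (by linear_combination -hprod) hone
    · exact absurd (by linear_combination -hprod) hone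
    · exact ⟨1, h0, h1, h3⟩
    · exact absurd (by linear_combination -hprod) hone
    · refine ⟨Equiv.swap 0 1, ?_, ?_, ?_⟩
      · rw [Equiv.swap_apply_left]; exact h1
      · rw [Equiv.swap_apply_right]; exact h0
      · rw [Equiv.swap_apply_of_ne_of_ne (by decide) (by decide)]; exact h3
    · refine ⟨Equiv.swap 0 2, ?_, ?_, ?_⟩
      · rw [Equiv.swap_apply_left]; exact h3
      · rw [Equiv.swap_apply_of_ne_of_ne (by decide) (by decide)]; exact h1
      · rw [Equiv.swap_apply_right]; exact h0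
    · exact absurd (by linear_combination -hprod) hone
  set P := Matrix.of (fun i j => b (σ j) i) with hP
  refine ⟨P * Matrix.diagonal ![(P.det)⁻¹, 1, 1], ?_, ?_⟩
  · rw [Matrix.det_mul, Matrix.det_diagonal, Fin.prod_univ_three]
    simp only [Matrix.cons_val_zero, Matrix.cons_val_one, Matrix.cons_val, mul_one]
    exact mul_inv_cancel₀ (hPdet σ)
  · have hD : Matrix.diagonal (fun i => d (σ i)) = dm F := by
      ext i j
      unfold dm
      fin_cases i <;> fin_cases j <;> simp [hσ]
    rw [← mul_assoc, hTP σ, hD, mul_assoc, mul_assoc]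
    congr 1
    unfold dm
    ext i j
    fin_cases i <;> fin_cases j <;> simp [Matrix.mul_apply, Fin.sum_univ_three]

/-- The embedding `A ↦ diag(det A⁻¹, A)` of `GL(2,F)` in `SL(3,F)`, as a matrix. -/
noncomputable def embMat (A : Matrix (Fin 2) (Fin 2) F) : Matrix (Fin 3) (Fin 3) F :=
  !![(A.det)⁻¹, 0, 0; 0, A 0 0, A 0 1; 0, A 1 0, A 1 1]

theorem embMat_det {A : Matrix (Fin 2) (Fin 2) F} (hA : A.det ≠ 0) : (embMat A).det = 1 := by
  have h : (embMat A).det = (A.det)⁻¹ * (A 0 0 * A 1 1 - A 0 1 * A 1 0) := by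
    unfold embMat
    rw [Matrix.det_fin_three]
    simp
    ring
  rw [h, ← Matrix.det_fin_two, inv_mul_cancel₀ hA]

theorem embMat_mul (A B : Matrix (Fin 2) (Fin 2) F) :
    embMat (A * B) = embMat A * embMat B := by
  unfold embMat
  rw [Matrix.det_mul, mul_inv]
  ext i j
  fin_cases i <;> fin_cases j <;> simp [Matrix.mul_apply, Fin.sum_univ_three, Fin.sum_univ_two]

theorem embMat_one : embMat (1 : Matrix (Fin 2) (Fin 2) F) = 1 := by
  unfold embMat
  rw [Matrix.det_one, inv_one]
  ext i j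
  fin_cases i <;> fin_cases j <;> simp

/-- The embedding `A ↦ diag(det A⁻¹, A)` of `GL(2,F)` in `SL(3,F)`. -/
noncomputable def emb : GL (Fin 2) F →* Matrix.SpecialLinearGroup (Fin 3) F where
  toFun A := ⟨embMat A.1, embMat_det ((Matrix.isUnit_iff_isUnit_det A.1).1 A.isUnit).ne_zero⟩
  map_one' := Subtype.ext embMat_one
  map_mul' A B := Subtype.ext (embMat_mul A.1 B.1)

theorem emb_coe (A : GL (Fin 2) F) :
    ((emb A : Matrix.SpecialLinearGroup (Fin 3) F) : Matrix (Fin 3) (Fin 3) F) = embMat A.1 := rfl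

theorem embMat_comm (A : Matrix (Fin 2) (Fin 2) F) : embMat A * dm F = dm F * embMat A := by
  unfold embMat dm
  ext i j
  fin_cases i <;> fin_cases j <;> simp [Matrix.mul_apply, Fin.sum_univ_three]

/-- The centraliser of `diag(1,-1,-1)` in `SL(3,F)` is the image of `GL(2,F)`. -/
theorem exists_emb_eq (h2 : (2 : F) ≠ 0) (X : Matrix.SpecialLinearGroup (Fin 3) F)
    (hX : X.1 * dm F = dm F * X.1) : ∃ A : GL (Fin 2) F, emb A = X := by
  have hz : ∀ x : F, -x = x → x = 0 := by
    intro x hx
    have : (2 : F) * x = 0 := by linear_combination -hx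
    exact (mul_eq_zero.1 this).resolve_left h2
  have h01 : X.1 0 1 = 0 := by
    have := congrFun (congrFun hX 0) 1
    simp only [Matrix.mul_apply, Fin.sum_univ_three] at this
    apply hz
    simpa [dm] using this
  have h02 : X.1 0 2 = 0 := by
    have := congrFun (congrFun hX 0) 2
    simp only [Matrix.mul_apply, Fin.sum_univ_three] at this
    apply hz
    simpa [dm] using this
  have h10 : X.1 1 0 = 0 := by
    have := congrFun (congrFun hX 1) 0
    simp only [Matrix.mul_apply, Fin.sum_univ_three] at this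
    apply hz
    simpa [dm] using this.symm
  have h20 : X.1 2 0 = 0 := by
    have := congrFun (congrFun hX 2) 0
    simp only [Matrix.mul_apply, Fin.sum_univ_three] at this
    apply hz
    simpa [dm] using this.symm
  have hdet : X.1 0 0 * (X.1 1 1 * X.1 2 2 - X.1 1 2 * X.1 2 1) = 1 := by
    have := X.2
    rw [Matrix.det_fin_three, h01, h02, h10, h20] at this
    linear_combination this
  have hAdet : (!![X.1 1 1, X.1 1 2; X.1 2 1, X.1 2 2] : Matrix (Fin 2) (Fin 2) F).det ≠ 0 := by
    rw [Matrix.det_fin_two_of]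
    intro h
    rw [h, mul_zero] at hdet
    exact zero_ne_one hdet
  refine ⟨Matrix.GeneralLinearGroup.mkOfDetNeZero _ hAdet, ?_⟩
  apply Subtype.ext
  show embMat (!![X.1 1 1, X.1 1 2; X.1 2 1, X.1 2 2] : Matrix (Fin 2) (Fin 2) F) = X.1
  unfold embMat
  rw [Matrix.det_fin_two_of]
  have h00 : (X.1 1 1 * X.1 2 2 - X.1 1 2 * X.1 2 1)⁻¹ = X.1 0 0 := by
    rw [eq_comm]
    exact eq_inv_of_mul_eq_one_left hdet
  rw [h00]
  ext i j
  fin_cases i <;> fin_cases j <;> simp [h01, h02, h10, h20]

theorem pow_three_of_mem_center {z : Matrix.SpecialLinearGroup (Fin 3) F}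
    (hz : z ∈ Subgroup.center (Matrix.SpecialLinearGroup (Fin 3) F)) : z ^ 3 = 1 := by
  obtain ⟨r, hr, hrz⟩ := Matrix.SpecialLinearGroup.mem_center_iff.1 hz
  apply Subtype.ext
  rw [Fintype.card_fin] at hr
  rw [Matrix.SpecialLinearGroup.coe_pow, ← hrz, ← map_pow, hr, map_one]
  rfl

/-- Involutions of `PSL(3,F)` lift to involutions of `SL(3,F)`. -/
theorem exists_lift (t : Matrix.ProjectiveSpecialLinearGroup (Fin 3) F) (ht : orderOf t = 2) :
    ∃ T : Matrix.SpecialLinearGroup (Fin 3) F, QuotientGroup.mk T = t ∧ T * T = 1 ∧ T ≠ 1 := by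
  obtain ⟨T₀, rfl⟩ := QuotientGroup.mk_surjective t
  have hsq : (QuotientGroup.mk (T₀ ^ 2) : Matrix.ProjectiveSpecialLinearGroup (Fin 3) F) = 1 := by
    rw [QuotientGroup.mk_pow, ← ht]
    exact pow_orderOf_eq_one _
  rw [QuotientGroup.eq_one_iff] at hsq
  have h3 := pow_three_of_mem_center hsq
  have hmk : (QuotientGroup.mk (T₀ * T₀ ^ 2) : Matrix.ProjectiveSpecialLinearGroup (Fin 3) F) =
      QuotientGroup.mk T₀ := by
    rw [QuotientGroup.mk_mul, (QuotientGroup.eq_one_iff _).2 hsq, mul_one]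
  refine ⟨T₀ * T₀ ^ 2, hmk, ?_, ?_⟩
  · rw [← h3, ← pow_succ', ← pow_add, ← pow_mul]
  · intro h
    rw [h, QuotientGroup.mk_one] at hmk
    rw [← hmk, orderOf_one] at ht
    omega

/-- Every involution of `PSL(3,F)`: a conjugating matrix. -/
theorem exists_conj_mk (h2 : (2 : F) ≠ 0) (t : Matrix.ProjectiveSpecialLinearGroup (Fin 3) F)
    (ht : orderOf t = 2) : ∃ T P : Matrix.SpecialLinearGroup (Fin 3) F,
      QuotientGroup.mk T = t ∧ T * T = 1 ∧ T ≠ 1 ∧ T.1 * P.1 = P.1 * dm F := by
  obtain ⟨T, hTt, hTT, hT1⟩ := exists_lift t ht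
  obtain ⟨P, hP, hTP⟩ := exists_conj h2 (T := T.1)
    (by rw [← Matrix.SpecialLinearGroup.coe_mul, hTT]; rfl) T.2
    (fun h => hT1 (Subtype.ext h))
  exact ⟨T, ⟨P, hP⟩, hTt, hTT, hT1, hTP⟩

/-- The homomorphism of `GL(2,F)` to `PSL(3,F)` obtained from `emb` and conjugation by `P`. -/
noncomputable def phi (P : Matrix.SpecialLinearGroup (Fin 3) F) :
    GL (Fin 2) F →* Matrix.ProjectiveSpecialLinearGroup (Fin 3) F :=
  (QuotientGroup.mk' (Subgroup.center (Matrix.SpecialLinearGroup (Fin 3) F))).comp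
    ((MulAut.conj P).toMonoidHom.comp emb)

theorem phi_apply (P : Matrix.SpecialLinearGroup (Fin 3) F) (A : GL (Fin 2) F) :
    phi P A = QuotientGroup.mk (P * emb A * P⁻¹) := rfl

theorem range_phi (h2 : (2 : F) ≠ 0) {T P : Matrix.SpecialLinearGroup (Fin 3) F}
    (hTT : T * T = 1) (hTP : T.1 * P.1 = P.1 * dm F) :
    (phi P).range = Subgroup.centralizer
      ({(QuotientGroup.mk T : Matrix.ProjectiveSpecialLinearGroup (Fin 3) F)} :
        Set (Matrix.ProjectiveSpecialLinearGroup (Fin 3) F)) := by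
  have hdm : (P⁻¹ * T * P : Matrix.SpecialLinearGroup (Fin 3) F).1 = dm F := by
    rw [mul_assoc, Matrix.SpecialLinearGroup.coe_mul, Matrix.SpecialLinearGroup.coe_mul, hTP,
      ← mul_assoc, ← Matrix.SpecialLinearGroup.coe_mul, inv_mul_cancel,
      Matrix.SpecialLinearGroup.coe_one, one_mul]
  apply le_antisymm
  · rintro _ ⟨A, rfl⟩
    rw [Subgroup.mem_centralizer_singleton_iff, phi_apply, ← QuotientGroup.mk_mul,
      ← QuotientGroup.mk_mul]
    congr 1
    have h1 : emb A * (P⁻¹ * T * P) = (P⁻¹ * T * P) * emb A := by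
      have h0 : (emb A).1 * (P⁻¹ * T * P).1 = (P⁻¹ * T * P).1 * (emb A).1 := by
        rw [hdm]
        exact embMat_comm _
      exact Subtype.ext h0
    calc P * emb A * P⁻¹ * T = P * (emb A * (P⁻¹ * T * P)) * P⁻¹ := by group
      _ = P * ((P⁻¹ * T * P) * emb A) * P⁻¹ := by rw [h1]
      _ = T * (P * emb A * P⁻¹) := by group
  · intro g hg
    obtain ⟨X, rfl⟩ := QuotientGroup.mk_surjective g
    rw [Subgroup.mem_centralizer_singleton_iff, ← QuotientGroup.mk_mul,
      ← QuotientGroup.mk_mul, QuotientGroup.eq] at hg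
    -- `z` is the central commutator
    set z := (X * T)⁻¹ * (T * X) with hz
    have hz3 := pow_three_of_mem_center hg
    have hzc : ∀ Y : Matrix.SpecialLinearGroup (Fin 3) F, Y * z = z * Y :=
      fun Y => Subgroup.mem_center_iff.1 hg Y
    have h1 : T * X = X * T * z := by rw [hz]; group
    have h3 : z * z = 1 := by
      have h4 : X = X * (z * z) := by
        calc X = T * T * X := by rw [hTT, one_mul]
          _ = T * (X * T * z) := by rw [mul_assoc, h1]
          _ = (T * X) * T * z := by group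
          _ = X * T * z * T * z := by rw [h1]
          _ = X * T * (z * T) * z := by group
          _ = X * T * (T * z) * z := by rw [hzc T]
          _ = X * (T * T) * (z * z) := by group
          _ = X * (z * z) := by rw [hTT, mul_one]
      exact (mul_eq_left.1 h4.symm)
    have hz1 : z = 1 := by
      rw [pow_succ, pow_two, h3, one_mul] at hz3
      exact hz3
    rw [hz1, mul_one] at h1
    have h5 : (P⁻¹ * X * P : Matrix.SpecialLinearGroup (Fin 3) F).1 * dm F =
        dm F * (P⁻¹ * X * P : Matrix.SpecialLinearGroup (Fin 3) F).1 := by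
      rw [← hdm, ← Matrix.SpecialLinearGroup.coe_mul, ← Matrix.SpecialLinearGroup.coe_mul]
      congr 1
      calc P⁻¹ * X * P * (P⁻¹ * T * P) = P⁻¹ * (X * T) * P := by group
        _ = P⁻¹ * (T * X) * P := by rw [h1]
        _ = P⁻¹ * T * P * (P⁻¹ * X * P) := by group
    obtain ⟨A, hA⟩ := exists_emb_eq h2 _ h5
    refine ⟨A, ?_⟩
    rw [phi_apply, hA]
    congr 1
    group

theorem mem_ker_phi (P : Matrix.SpecialLinearGroup (Fin 3) F) (A : GL (Fin 2) F) :
    A ∈ (phi P).ker ↔ ∃ u : Fˣ, u ^ 3 = 1 ∧ Matrix.GeneralLinearGroup.scalar (Fin 2) u = A := by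
  have h1 : A ∈ (phi P).ker ↔ emb A ∈ Subgroup.center (Matrix.SpecialLinearGroup (Fin 3) F) := by
    rw [MonoidHom.mem_ker, phi_apply, QuotientGroup.eq_one_iff]
    constructor
    · intro h
      have := (inferInstance :
        (Subgroup.center (Matrix.SpecialLinearGroup (Fin 3) F)).Normal).conj_mem _ h P⁻¹
      have e : P⁻¹ * (P * emb A * P⁻¹) * P⁻¹⁻¹ = emb A := by group
      rwa [e] at this
    · intro h
      exact (inferInstance :
        (Subgroup.center (Matrix.SpecialLinearGroup (Fin 3) F)).Normal).conj_mem _ h P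
  rw [h1, Matrix.SpecialLinearGroup.mem_center_iff]
  constructor
  · rintro ⟨r, hr, hrA⟩
    rw [Fintype.card_fin] at hr
    have hr0 : r ≠ 0 := by
      rintro rfl
      simp at hr
    rw [emb_coe] at hrA
    refine ⟨Units.mk0 r hr0, ?_, ?_⟩
    · apply Units.ext
      push_cast
      rw [Units.val_mk0]
      exact hr
    · apply Units.ext
      ext i j
      have e11 := congrFun (congrFun hrA 1) 1
      have e12 := congrFun (congrFun hrA 1) 2
      have e21 := congrFun (congrFun hrA 2) 1
      have e22 := congrFun (congrFun hrA 2) 2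
      simp [embMat, Matrix.scalar_apply] at e11 e12 e21 e22
      fin_cases i <;> fin_cases j
      · simpa [Matrix.GeneralLinearGroup.scalar, Matrix.scalar_apply] using e11
      · simpa [Matrix.GeneralLinearGroup.scalar, Matrix.scalar_apply] using e12
      · simpa [Matrix.GeneralLinearGroup.scalar, Matrix.scalar_apply] using e21
      · simpa [Matrix.GeneralLinearGroup.scalar, Matrix.scalar_apply] using e22
  · rintro ⟨u, hu, rfl⟩
    have hu' : (u : F) ^ 3 = 1 := by
      rw [← Units.val_pow_eq_pow_val, hu, Units.val_one]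
    refine ⟨(u : F), ?_, ?_⟩
    · rw [Fintype.card_fin]
      exact hu'
    · rw [emb_coe]
      have hdet : (Matrix.GeneralLinearGroup.scalar (Fin 2) u : GL (Fin 2) F).1.det = (u : F) ^ 2 := by
        rw [Matrix.det_fin_two]
        simp [Matrix.GeneralLinearGroup.scalar, Matrix.scalar_apply]
        ring
      unfold embMat
      rw [hdet]
      have hinv : ((u : F) ^ 2)⁻¹ = u := by
        apply inv_eq_of_mul_eq_one_left
        rw [← pow_succ']
        exact hu'
      rw [hinv]
      ext i j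
      fin_cases i <;> fin_cases j <;>
        simp [Matrix.GeneralLinearGroup.scalar, Matrix.scalar_apply]

theorem card_ker_phi [Fintype F] (P : Matrix.SpecialLinearGroup (Fin 3) F) :
    Nat.card (phi P).ker = Nat.gcd (Fintype.card F - 1) 3 := by
  have h1 : (phi P).ker =
      (powMonoidHom 3 : Fˣ →* Fˣ).ker.map (Matrix.GeneralLinearGroup.scalar (Fin 2)) := by
    ext A
    rw [mem_ker_phi]
    exact Iff.rfl
  have hinj : Function.Injective (Matrix.GeneralLinearGroup.scalar (Fin 2) : Fˣ →* GL (Fin 2) F) := by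
    intro u v h
    apply Units.ext
    have h0 : Matrix.scalar (Fin 2) (u : F) = Matrix.scalar (Fin 2) (v : F) := congrArg Units.val h
    have := congrFun (congrFun h0 0) 0
    simpa [Matrix.scalar_apply] using this
  rw [h1, Subgroup.card_map_of_injective hinj, IsCyclic.card_powMonoidHom_ker, Nat.card_units,
    Nat.card_eq_fintype_card]

theorem ker_phi_le (P : Matrix.SpecialLinearGroup (Fin 3) F) :
    (phi P).ker ≤ Subgroup.center (GL (Fin 2) F) := by
  intro A hA
  rw [mem_ker_phi] at hA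
  obtain ⟨u, _, rfl⟩ := hA
  rw [Subgroup.mem_center_iff]
  intro B
  apply Units.ext
  show B.1 * Matrix.scalar (Fin 2) (u : F) = Matrix.scalar (Fin 2) (u : F) * B.1
  exact (Matrix.scalar_commute (u : F) (Commute.all _) B.1).symm.eq

/-- The centraliser of an involution of `PSL(3,F)`, `F` finite of odd characteristic. -/
theorem main [Fintype F] (h2 : (2 : F) ≠ 0) (t : Matrix.ProjectiveSpecialLinearGroup (Fin 3) F)
    (ht : orderOf t = 2) : ∃ (Z : Subgroup (GL (Fin 2) F)) (_ : Z.Normal),
      Z ≤ Subgroup.center (GL (Fin 2) F) ∧ Nat.card Z = Nat.gcd (Fintype.card F - 1) 3 ∧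
      Nonempty (↥(Subgroup.centralizer
        ({t} : Set (Matrix.ProjectiveSpecialLinearGroup (Fin 3) F))) ≃* GL (Fin 2) F ⧸ Z) := by
  obtain ⟨T, P, rfl, hTT, -, hTP⟩ := exists_conj_mk h2 t ht
  refine ⟨(phi P).ker, inferInstance, ker_phi_le P, card_ker_phi P, ⟨?_⟩⟩
  rw [← range_phi h2 hTT hTP]
  exact (QuotientGroup.quotientKerEquivRange (phi P)).symm

end Cfsg.Agent.TwoFusion.PSL3Inv
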