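import Mathlib
import Cfsg.Prelude.Def_TwoFusion
import Cfsg.Agent.TwoFusion.Isolated
import Cfsg.Agent.S1180
import Cfsg.Agent.S1181
import Cfsg.Agent.S1186

/-!
# Invariant Sylow subgroups of isolated involutions

`z` isolated in the finite group `G`, `p` an odd prime dividing `|G|`: there is a nontrivial
`z`-invariant `p`-subgroup, and every maximal `z`-invariant `p`-subgroup is a Sylow `p`-subgroup.

Everything is proved relative to the hypothesis `RankOne.{u}`: if `z` is isolated and the only
involution commuting with `z`, then `z` is central modulo a normal subgroup of odd order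
(Burnside for cyclic Sylow `2`-subgroups, Brauer-Suzuki for quaternion ones).
-/

set_option autoImplicit false
open Cfsg

universe u

namespace Cfsg.Agent.TwoFusion.InvariantSylow

open Cfsg.Agent.TwoFusion

/-- the rank one case of the `Z*`-theorem, as a hypothesis. -/
def RankOne : Prop :=
  ∀ (H : Type u) [Group H] [Finite H] (t : H), Cfsg.IsIsolatedInvolution t →
    (∀ s : H, orderOf s = 2 → Commute s t → s = t) →
    ∃ N : Subgroup H, N.Normal ∧ Odd (Nat.card N) ∧ ∀ g : H, t * g * t⁻¹ * g⁻¹ ∈ N

section basic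

variable {G : Type u} [Group G]

theorem mem_normalizer_of_conj_mem {z : G} (hzz : z * z = 1) {R : Subgroup G}
    (h : ∀ x ∈ R, z * x * z⁻¹ ∈ R) : z ∈ Subgroup.normalizer (R : Set G) := by
  have hzi : z⁻¹ = z := inv_eq_of_mul_eq_one_left hzz
  rw [Subgroup.mem_normalizer_iff]
  intro x
  refine ⟨h x, fun hx => ?_⟩
  have h1 := h _ hx
  have h2 : z * (z * x * z⁻¹) * z⁻¹ = x := by
    rw [hzi]
    calc z * (z * x * z) * z = (z * z) * x * (z * z) := by simp only [mul_assoc]
      _ = x := by rw [hzz, one_mul, mul_one]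
  rwa [h2] at h1

/-- restriction of an isolated involution to a subgroup. -/
theorem isolated_subtype {z : G} (hz : Cfsg.IsIsolatedInvolution z) {H : Subgroup G}
    (hzH : z ∈ H) : Cfsg.IsIsolatedInvolution (⟨z, hzH⟩ : H) := by
  refine ⟨?_, ?_⟩
  · rw [← Subgroup.orderOf_coe]; exact hz.1
  · intro g hg
    apply Subtype.ext
    have h1 : Commute z ((g : G) * z * (g : G)⁻¹) := by
      have := congrArg Subtype.val hg.eq
      exact this
    exact hz.2 g h1

/-- if `z` normalises `M` and `M` has an odd number of Sylow `p`-subgroups, then `z` normalises one. -/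
theorem exists_sylow_invariant [Finite G] {z : G} (hzz : z * z = 1) {p : ℕ} [Fact p.Prime]
    {M : Subgroup G} (hzM : z ∈ Subgroup.normalizer (M : Set G))
    (hodd : Odd (Nat.card (Sylow p M))) :
    ∃ R : Sylow p M, z ∈ Subgroup.normalizer (((R : Subgroup M).map M.subtype : Subgroup G) : Set G) := by
  classical
  have : Fact (Nat.Prime 2) := ⟨Nat.prime_two⟩
  let f : MulAut M := Subgroup.normalizerMonoidHom M ⟨z, hzM⟩
  have hf2 : f ^ 2 = 1 := by
    rw [← map_pow]
    have h1 : (⟨z, hzM⟩ : Subgroup.normalizer (M : Set G)) ^ 2 = 1 := by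
      rw [pow_two]; exact Subtype.ext hzz
    rw [h1, map_one]
  have hfapp : ∀ x : M, ((f x : M) : G) = z * x * z⁻¹ := fun x => rfl
  let σ : Equiv.Perm (Sylow p M) := MulAction.toPerm f
  have hσ : σ ^ 2 ^ 1 = 1 := by
    have h1 : σ = MulAction.toPermHom (MulAut M) (Sylow p M) f := rfl
    rw [h1, pow_one, ← map_pow, hf2, map_one]
  have : Fintype (Sylow p M) := Fintype.ofFinite _
  have hcard : ¬ 2 ∣ Fintype.card (Sylow p M) := by
    rw [← Nat.card_eq_fintype_card]
    exact hodd.not_two_dvd_nat
  obtain ⟨R, hR⟩ := Equiv.Perm.exists_fixed_point_of_prime hcard hσ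
  refine ⟨R, mem_normalizer_of_conj_mem hzz ?_⟩
  rintro _ ⟨x, hx, rfl⟩
  have hR' : f • R = R := hR
  have h2 : f • x ∈ ((f • R : Sylow p M) : Subgroup M) :=
    Subgroup.smul_mem_pointwise_smul x f (R : Subgroup M) hx
  rw [hR'] at h2
  exact ⟨f • x, h2, rfl⟩

/-- invariant subgroups of a subgroup -/
theorem exists_of_subgroup {z : G} (hzz : z * z = 1) {p : ℕ} {H : Subgroup G} (hzH : z ∈ H)
    (h : ∃ R : Subgroup H, IsPGroup p R ∧ R ≠ ⊥ ∧
      (⟨z, hzH⟩ : H) ∈ Subgroup.normalizer (R : Set H)) :
    ∃ R : Subgroup G, IsPGroup p R ∧ R ≠ ⊥ ∧ z ∈ Subgroup.normalizer (R : Set G) := by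
  obtain ⟨R, h1, h2, h3⟩ := h
  refine ⟨R.map H.subtype, h1.map _, ?_, ?_⟩
  · intro h4
    apply h2
    exact (Subgroup.map_eq_bot_iff_of_injective _ H.subtype_injective).mp h4
  · apply mem_normalizer_of_conj_mem hzz
    rintro _ ⟨x, hx, rfl⟩
    exact ⟨_, (Subgroup.mem_normalizer_iff.mp h3 x).mp hx, rfl⟩

/-- an element of order `p` centralised by `z` gives an invariant `p`-subgroup. -/
theorem exists_of_dvd_card_centralizer [Finite G] {z : G} {p : ℕ} [hp : Fact p.Prime]
    (h : p ∣ Nat.card (Subgroup.centralizer ({z} : Set G))) :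
    ∃ R : Subgroup G, IsPGroup p R ∧ R ≠ ⊥ ∧ z ∈ Subgroup.normalizer (R : Set G) := by
  obtain ⟨x, hx⟩ := exists_prime_orderOf_dvd_card' p h
  have hx' : orderOf (x : G) = p := by rw [Subgroup.orderOf_coe]; exact hx
  have hxz : (x : G) * z = z * x := Subgroup.mem_centralizer_singleton_iff.mp x.2
  refine ⟨Subgroup.zpowers (x : G), ?_, ?_, ?_⟩
  · apply IsPGroup.of_card (n := 1)
    rw [Nat.card_zpowers, hx', pow_one]
  · intro h0
    rw [Subgroup.zpowers_eq_bot] at h0
    rw [h0, orderOf_one] at hx'
    exact hp.out.one_lt.ne hx'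
  · rw [Subgroup.mem_normalizer_iff]
    have hc : Commute z (x : G) := hxz.symm
    intro y
    constructor
    · rintro ⟨n, rfl⟩
      refine ⟨n, ?_⟩
      have := (hc.zpow_right n).eq
      show (x : G) ^ n = z * (x : G) ^ n * z⁻¹
      rw [this, mul_inv_cancel_right]
    · rintro ⟨n, hn⟩
      refine ⟨n, ?_⟩
      have hn' : (x : G) ^ n = z * y * z⁻¹ := hn
      have := (hc.zpow_right n).eq
      show (x : G) ^ n = y
      calc (x : G) ^ n = z⁻¹ * (z * (x : G) ^ n) := by group
        _ = z⁻¹ * ((x : G) ^ n * z) := by rw [this]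
        _ = z⁻¹ * (z * y * z⁻¹ * z) := by rw [hn']
        _ = y := by group

end basic

section main

/-- if `z` is central modulo a normal subgroup of odd order, and `p ∣ |G|`, then `z` normalises a
nontrivial `p`-subgroup. -/
theorem exists_of_oddCore {G : Type u} [Group G] [Finite G] {z : G}
    (hz : Cfsg.IsIsolatedInvolution z) {p : ℕ} [hp : Fact p.Prime]
    (N : Subgroup G) (hN : N.Normal) (hodd : Odd (Nat.card N))
    (hcomm : ∀ g : G, z * g * z⁻¹ * g⁻¹ ∈ N) (hpG : p ∣ Nat.card G) :
    ∃ R : Subgroup G, IsPGroup p R ∧ R ≠ ⊥ ∧ z ∈ Subgroup.normalizer (R : Set G) := by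
  have hzz := Isolated.mul_self hz
  by_cases hpN : p ∣ Nat.card N
  · -- Sylow `p`-subgroups of `N`
    have hzN : z ∈ Subgroup.normalizer (N : Set G) := by
      rw [Subgroup.normalizer_eq_top]; trivial
    have hcard : Odd (Nat.card (Sylow p N)) := by
      obtain ⟨P⟩ : Nonempty (Sylow p N) := inferInstance
      have h1 := P.card_dvd_index
      have h2 : (P : Subgroup N).index ∣ Nat.card N := (P : Subgroup N).index_dvd_card
      exact Odd.of_dvd_nat hodd (h1.trans h2)
    obtain ⟨R, hR⟩ := exists_sylow_invariant hzz hzN hcard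
    refine ⟨_, R.isPGroup'.map _, ?_, hR⟩
    intro h4
    have h5 := (Subgroup.map_eq_bot_iff_of_injective _ N.subtype_injective).mp h4
    have h6 : p ∣ Nat.card (R : Subgroup N) := R.dvd_card_of_dvd_card hpN
    rw [h5, Subgroup.card_bot] at h6
    exact hp.out.one_lt.ne' (Nat.dvd_one.mp h6)
  · -- `C_G(z)` covers `G / N`
    apply exists_of_dvd_card_centralizer
    have hzN : z ∉ N := by
      intro hzN
      have h1 : orderOf (⟨z, hzN⟩ : N) ∣ Nat.card N := orderOf_dvd_natCard _
      rw [← Subgroup.orderOf_coe] at h1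
      have h2 : orderOf z ∣ Nat.card N := h1
      rw [hz.1] at h2
      exact hodd.not_two_dvd_nat h2
    have h1 := (Cfsg.Agent.S1181.result z hz N hzN).1
    have h2 : Subgroup.centralizer ({(QuotientGroup.mk z : G ⧸ N)} : Set (G ⧸ N)) = ⊤ := by
      rw [eq_top_iff]
      intro y _
      obtain ⟨g, rfl⟩ := QuotientGroup.mk_surjective y
      rw [Subgroup.mem_centralizer_singleton_iff, ← QuotientGroup.mk_mul, ← QuotientGroup.mk_mul,
        QuotientGroup.eq]
      have h3 := hcomm g⁻¹
      have hzi : z⁻¹ = z := Isolated.inv_eq hz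
      have h4 : (g * z)⁻¹ * (z * g) = z * g⁻¹ * z⁻¹ * (g⁻¹)⁻¹ := by
        rw [hzi, mul_inv_rev, hzi, inv_inv]
        simp only [mul_assoc]
      rw [h4]
      exact h3
    rw [h2] at h1
    have h3 : Nat.card ((Subgroup.centralizer ({z} : Set G)).map (QuotientGroup.mk' N)) ∣
        Nat.card (Subgroup.centralizer ({z} : Set G)) := Subgroup.card_map_dvd _ _
    rw [← h1, Subgroup.card_top] at h3
    refine Dvd.dvd.trans ?_ h3
    rw [Subgroup.card_eq_card_quotient_mul_card_subgroup N] at hpG
    exact (hp.out.dvd_mul.mp hpG).resolve_right hpN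

/-- If `s ≠ z` is an involution commuting with `z` and `p` divides the number of elements of odd
order inverted by `z` and commuting with `s`, then `p` divides the order of `C_G(s)`. -/
theorem dvd_card_centralizer {G : Type u} [Group G] [Finite G] {z : G}
    (hz : Cfsg.IsIsolatedInvolution z) {s : G} (hsz : Commute s z) {p : ℕ}
    (h : p ∣ Nat.card {k : G // Odd (orderOf k) ∧ z * k * z⁻¹ = k⁻¹ ∧ Commute k s}) :
    p ∣ Nat.card (Subgroup.centralizer ({s} : Set G)) := by
  have hzz := Isolated.mul_self hz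
  have hzH : z ∈ Subgroup.centralizer ({s} : Set G) :=
    Subgroup.mem_centralizer_singleton_iff.mpr hsz.eq.symm
  have hz' := isolated_subtype hz hzH
  have h1 := Cfsg.Agent.S1186.result (⟨z, hzH⟩ : Subgroup.centralizer ({s} : Set G)) hz'
    ⟨z, hzH⟩ hz'.1 (Commute.refl _)
  rw [h1]
  refine Dvd.dvd.mul_right (Dvd.dvd.mul_left ?_ _) _
  refine h.trans (dvd_of_eq (Eq.symm (Nat.card_congr ?_)))
  refine ⟨fun k => ⟨k.1.1, ?_, ?_, ?_⟩, fun k => ⟨⟨k.1, ?_⟩, ?_, ?_, ?_⟩, ?_, ?_⟩
  · have := k.2.1
    rwa [← Subgroup.orderOf_coe] at this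
  · exact congrArg Subtype.val k.2.2.1
  · exact Subgroup.mem_centralizer_singleton_iff.mp k.1.2
  · exact Subgroup.mem_centralizer_singleton_iff.mpr k.2.2.2.eq
  · rw [← Subgroup.orderOf_coe]
    exact k.2.1
  · exact Subtype.ext k.2.2.1
  · have h2 : (⟨z, hzH⟩ : Subgroup.centralizer ({s} : Set G)) * ⟨z, hzH⟩ = 1 := Subtype.ext hzz
    rw [h2]
    exact Commute.one_right _
  · intro k
    rfl
  · intro k
    rfl

/-- If `s` is a central involution different from `z`, then nontrivial invariant `p`-subgroups of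
`G ⧸ ⟨s⟩` lift to `G`. -/
theorem exists_of_central {G : Type u} [Group G] [Finite G] {z : G}
    (hz : Cfsg.IsIsolatedInvolution z) {s : G} (hs : orderOf s = 2) (hne : s ≠ z)
    (hcen : ∀ g : G, Commute s g) {p : ℕ} [hp : Fact p.Prime] (hp2 : p ≠ 2)
    (ih : ∀ (H : Type u) [Group H] [Finite H], Nat.card H < Nat.card G →
      ∀ t : H, Cfsg.IsIsolatedInvolution t → p ∣ Nat.card H →
      ∃ R : Subgroup H, IsPGroup p R ∧ R ≠ ⊥ ∧ t ∈ Subgroup.normalizer (R : Set H))
    (hpG : p ∣ Nat.card G) :
    ∃ R : Subgroup G, IsPGroup p R ∧ R ≠ ⊥ ∧ z ∈ Subgroup.normalizer (R : Set G) := by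
  have hzz := Isolated.mul_self hz
  set N : Subgroup G := Subgroup.zpowers s with hNdef
  have hcardN : Nat.card N = 2 := by rw [hNdef, Nat.card_zpowers, hs]
  have hNn : N.Normal := by
    refine ⟨fun n hn g => ?_⟩
    obtain ⟨k, rfl⟩ := Subgroup.mem_zpowers_iff.mp hn
    have h1 : g * s ^ k * g⁻¹ = s ^ k := by
      rw [((hcen g).symm.zpow_right k).eq, mul_inv_cancel_right]
    rw [h1]
    exact Subgroup.zpow_mem_zpowers _ _
  have hzN : z ∉ N := by
    intro h
    obtain ⟨k, hk⟩ := Subgroup.mem_zpowers_iff.mp h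
    rcases Int.even_or_odd' k with ⟨m, hm | hm⟩
    · rw [hm, zpow_mul] at hk
      have h2 : s ^ (2 : ℤ) = 1 := by
        have := pow_orderOf_eq_one s
        rw [hs] at this
        exact_mod_cast this
      rw [h2, one_zpow] at hk
      exact Isolated.ne_one hz hk.symm
    · rw [hm, zpow_add, zpow_mul, zpow_one] at hk
      have h2 : s ^ (2 : ℤ) = 1 := by
        have := pow_orderOf_eq_one s
        rw [hs] at this
        exact_mod_cast this
      rw [h2, one_zpow, one_mul] at hk
      exact hne hk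
  have hquot := (Cfsg.Agent.S1181.result z hz N hzN).2
  have hcard := Subgroup.card_eq_card_quotient_mul_card_subgroup N
  rw [hcardN] at hcard
  have hpos : 0 < Nat.card (G ⧸ N) := Nat.card_pos
  have hpQ : p ∣ Nat.card (G ⧸ N) := by
    rw [hcard] at hpG
    rcases hp.out.dvd_mul.mp hpG with h | h
    · exact h
    · exact absurd ((Nat.prime_dvd_prime_iff_eq hp.out Nat.prime_two).mp h) hp2
  obtain ⟨R, hR1, hR2, hR3⟩ := ih (G ⧸ N) (by omega) _ hquot hpQ
  -- the preimage of `R`
  set M : Subgroup G := R.comap (QuotientGroup.mk' N) with hM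
  have hzM : z ∈ Subgroup.normalizer (M : Set G) := by
    apply mem_normalizer_of_conj_mem hzz
    intro x hx
    show (QuotientGroup.mk' N) (z * x * z⁻¹) ∈ R
    rw [map_mul, map_mul, map_inv]
    exact (Subgroup.mem_normalizer_iff.mp hR3 _).mp hx
  have hcardM : Nat.card M = 2 * Nat.card R := by
    have h1 : M.relIndex ⊤ = R.relIndex ⊤ := by
      rw [Subgroup.relIndex_top_right, Subgroup.relIndex_top_right, hM]
      exact Subgroup.index_comap_of_surjective _ (QuotientGroup.mk'_surjective N)
    rw [Subgroup.relIndex_top_right, Subgroup.relIndex_top_right] at h1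
    have h2 := M.card_mul_index
    have h3 := R.card_mul_index
    rw [h1, hcard, ← h3] at h2
    have h4 : 0 < R.index := Nat.pos_of_ne_zero Subgroup.FiniteIndex.index_ne_zero
    apply Nat.eq_of_mul_eq_mul_right h4
    rw [h2]; ring
  -- a Sylow `p`-subgroup of `M` has index `2`
  obtain ⟨n, hn⟩ := IsPGroup.iff_card.mp hR1
  have hodd : Odd (Nat.card (Sylow p M)) := by
    obtain ⟨P⟩ : Nonempty (Sylow p M) := inferInstance
    have h1 := P.card_dvd_index
    have h2 : (P : Subgroup M).index ∣ 2 := by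
      have h3 := P.card_eq_multiplicity
      have h4 : (Nat.card M).factorization p = n := by
        have hpn : p ^ n ≠ 0 := pow_ne_zero _ hp.out.ne_zero
        rw [hcardM, hn, Nat.factorization_mul (by norm_num) hpn,
          Nat.Prime.factorization_pow hp.out]
        have h5 : Nat.factorization 2 p = 0 := by
          apply Nat.factorization_eq_zero_of_not_dvd
          intro h
          exact hp2 ((Nat.prime_dvd_prime_iff_eq hp.out Nat.prime_two).mp h)
        simp [h5]
      rw [h4] at h3
      have h6 := (P : Subgroup M).card_mul_index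
      have h7 : p ^ n * (P : Subgroup M).index = 2 * p ^ n := by
        rw [← h3]
        rw [h6, hcardM, hn, ← h3]
      have h8 : 0 < p ^ n := by have := hp.out.pos; positivity
      rw [mul_comm] at h7
      exact dvd_of_eq (Nat.eq_of_mul_eq_mul_right h8 h7)
    have h5 : Nat.card (Sylow p M) ∣ 2 := h1.trans h2
    have h6 := card_sylow_modEq_one p M
    rcases (Nat.dvd_prime Nat.prime_two).mp h5 with h7 | h7
    · rw [h7]; exact odd_one
    · exfalso
      rw [h7] at h6
      have h8 := (Nat.modEq_iff_dvd' (by norm_num)).mp h6.symm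
      exact hp.out.one_lt.ne' (Nat.dvd_one.mp h8)
  obtain ⟨P, hP⟩ := exists_sylow_invariant hzz hzM hodd
  refine ⟨_, P.isPGroup'.map _, ?_, hP⟩
  intro h4
  have h5 := (Subgroup.map_eq_bot_iff_of_injective _ M.subtype_injective).mp h4
  have h6 : p ∣ Nat.card (P : Subgroup M) := by
    apply P.dvd_card_of_dvd_card
    rw [hcardM]
    apply Dvd.dvd.mul_left
    rw [hn]
    have h7 : n ≠ 0 := by
      rintro rfl
      rw [pow_zero] at hn
      exact hR2 (Subgroup.eq_bot_of_card_eq R hn)
    exact dvd_pow_self p h7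
  rw [h5, Subgroup.card_bot] at h6
  exact hp.out.one_lt.ne' (Nat.dvd_one.mp h6)

/-- existence of nontrivial invariant `p`-subgroups -/
theorem exists_invariant (hBS : RankOne.{u}) (p : ℕ) [hp : Fact p.Prime] (hp2 : p ≠ 2) :
    ∀ (n : ℕ) (G : Type u) [Group G] [Finite G], Nat.card G = n →
      ∀ z : G, Cfsg.IsIsolatedInvolution z → p ∣ Nat.card G →
      ∃ R : Subgroup G, IsPGroup p R ∧ R ≠ ⊥ ∧ z ∈ Subgroup.normalizer (R : Set G) := by
  intro n
  induction n using Nat.strong_induction_on with
  | _ n ih =>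
    intro G _ _ hn z hz hpG
    have hzz := Isolated.mul_self hz
    have ih' : ∀ (H : Type u) [Group H] [Finite H], Nat.card H < Nat.card G →
        ∀ t : H, Cfsg.IsIsolatedInvolution t → p ∣ Nat.card H →
        ∃ R : Subgroup H, IsPGroup p R ∧ R ≠ ⊥ ∧ t ∈ Subgroup.normalizer (R : Set H) := by
      intro H _ _ hH t ht hpH
      exact ih (Nat.card H) (by omega) H rfl t ht hpH
    -- the case of an involution `s` with `p ∣ |C(s)|`
    have hinv : ∀ s : G, orderOf s = 2 → Commute s z → s ≠ z →
        p ∣ Nat.card (Subgroup.centralizer ({s} : Set G)) →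
        ∃ R : Subgroup G, IsPGroup p R ∧ R ≠ ⊥ ∧ z ∈ Subgroup.normalizer (R : Set G) := by
      intro s hs hsz hne hps
      by_cases htop : Subgroup.centralizer ({s} : Set G) = ⊤
      · apply exists_of_central hz hs hne ?_ hp2 ih' hpG
        intro g
        have : g ∈ Subgroup.centralizer ({s} : Set G) := by rw [htop]; trivial
        exact (Subgroup.mem_centralizer_singleton_iff.mp this).symm
      · have hzH : z ∈ Subgroup.centralizer ({s} : Set G) :=
          Subgroup.mem_centralizer_singleton_iff.mpr hsz.eq.symm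
        apply exists_of_subgroup hzz hzH
        apply ih' _ ?_ _ (isolated_subtype hz hzH) hps
        have h1 := (Subgroup.centralizer ({s} : Set G)).card_mul_index
        have h2 : 1 < (Subgroup.centralizer ({s} : Set G)).index :=
          Subgroup.one_lt_index_of_ne_top htop
        have h3 : 0 < Nat.card (Subgroup.centralizer ({s} : Set G)) := Nat.card_pos
        nlinarith
    by_cases hone : ∀ s : G, orderOf s = 2 → Commute s z → s = z
    · obtain ⟨N, h1, h2, h3⟩ := hBS G z hz hone
      exact exists_of_oddCore hz N h1 h2 h3 hpG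
    · push Not at hone
      obtain ⟨s, hs, hsz, hne⟩ := hone
      have hss : s * s = 1 := by
        have := pow_orderOf_eq_one s
        rw [hs, pow_two] at this
        exact this
      have h1 := Cfsg.Agent.S1186.result z hz s hs hsz
      rw [h1] at hpG
      rcases hp.out.dvd_mul.mp hpG with h | h
      · rcases hp.out.dvd_mul.mp h with h' | h'
        · exact exists_of_dvd_card_centralizer h'
        · -- `s z`
          have hszc : Commute (s * z) z := hsz.mul_left (Commute.refl z)
          have hsz2 : orderOf (s * z) = 2 := by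
            rw [orderOf_eq_prime_iff]
            constructor
            · rw [pow_two]
              calc s * z * (s * z) = s * (z * s) * z := by group
                _ = s * (s * z) * z := by rw [hsz.eq]
                _ = (s * s) * (z * z) := by group
                _ = 1 := by rw [hss, hzz, one_mul]
            · intro h0
              apply hne
              have : s = z⁻¹ := eq_inv_of_mul_eq_one_left h0
              rw [this, Isolated.inv_eq hz]
          apply hinv (s * z) hsz2 hszc ?_ (dvd_card_centralizer hz hszc h')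
          intro h0
          have : s = 1 := mul_eq_right.mp h0
          rw [this, orderOf_one] at hs
          exact absurd hs (by norm_num)
      · exact hinv s hs hsz hne (dvd_card_centralizer hz hsz h)

/-- maximal invariant `p`-subgroups are Sylow `p`-subgroups -/
theorem isSylow_of_maximal (hBS : RankOne.{u}) {G : Type u} [Group G] [Finite G] (z : G)
    (hz : Cfsg.IsIsolatedInvolution z) {p : ℕ} [hp : Fact p.Prime] (Q : Subgroup G)
    (hQ : IsPGroup p Q) (hzQ : z ∈ Subgroup.normalizer (Q : Set G))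
    (hmax : ∀ R : Subgroup G, IsPGroup p R → z ∈ Subgroup.normalizer (R : Set G) → Q ≤ R → R = Q) :
    ∃ P : Sylow p G, (P : Subgroup G) = Q := by
  have hzz := Isolated.mul_self hz
  by_cases hp2 : p = 2
  · subst hp2
    have hzp : IsPGroup 2 (Subgroup.zpowers z) := by
      apply IsPGroup.of_card (n := 1)
      rw [Nat.card_zpowers, hz.1, pow_one]
    have h1 : IsPGroup 2 (Subgroup.zpowers z ⊔ Q : Subgroup G) := by
      apply IsPGroup.to_sup_of_normal_right' hzp hQ
      rw [Subgroup.zpowers_le]
      exact hzQ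
    have h2 : z ∈ (Subgroup.zpowers z ⊔ Q : Subgroup G) :=
      (le_sup_left : Subgroup.zpowers z ≤ _) (Subgroup.mem_zpowers z)
    have h3 := hmax _ h1 (Subgroup.le_normalizer h2) le_sup_right
    have hzQ' : z ∈ Q := by rw [← h3]; exact h2
    obtain ⟨P, hP⟩ := hQ.exists_le_sylow
    refine ⟨P, ?_⟩
    exact hmax _ P.isPGroup' (Subgroup.le_normalizer (hP hzQ')) hP
  · obtain ⟨P, hP⟩ := hQ.exists_le_sylow
    by_cases hPQ : (P : Subgroup G) = Q
    · exact ⟨P, hPQ⟩
    exfalso
    obtain ⟨n, hn⟩ := IsPGroup.iff_card.mp hQ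
    have hdvd : p ^ (n + 1) ∣ Nat.card G := by
      obtain ⟨m, hm⟩ := IsPGroup.iff_card.mp P.isPGroup'
      have h1 : Nat.card Q ∣ Nat.card (P : Subgroup G) := Subgroup.card_dvd_of_le hP
      rw [hn, hm] at h1
      have h2 : n ≤ m := (Nat.pow_dvd_pow_iff_le_right hp.out.one_lt).mp h1
      have h3 : n ≠ m := by
        intro h
        apply hPQ
        symm
        apply Subgroup.eq_of_le_of_card_ge hP
        rw [hn, hm, h]
      have h4 : p ^ (n + 1) ∣ Nat.card (P : Subgroup G) := by
        rw [hm]; exact pow_dvd_pow p (by omega)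
      exact h4.trans (Subgroup.card_subgroup_dvd_card _)
    have hpd := Sylow.prime_dvd_card_quotient_normalizer hdvd hn
    -- pass to `N_G(Q) / Q`
    have hz' := isolated_subtype hz hzQ
    set N := Subgroup.normalizer (Q : Set G) with hN
    have hodd : Odd (Nat.card Q) := by
      rw [hn]
      exact (hp.out.odd_of_ne_two hp2).pow
    have hzn : (⟨z, hzQ⟩ : N) ∉ Q.comap N.subtype := by
      intro h
      have h0 : z ∈ Q := h
      have h1 : orderOf (⟨z, h0⟩ : Q) ∣ Nat.card Q := orderOf_dvd_natCard _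
      rw [← Subgroup.orderOf_coe] at h1
      have h2 : orderOf z ∣ Nat.card Q := h1
      rw [hz.1] at h2
      exact hodd.not_two_dvd_nat h2
    have hQn : (Q.comap N.subtype).Normal := by
      have : (Q.subgroupOf N).Normal := Subgroup.normal_in_normalizer
      exact this
    have hquot := (Cfsg.Agent.S1181.result _ hz' (Q.comap N.subtype) hzn).2
    obtain ⟨R, hR1, hR2, hR3⟩ := exists_invariant hBS p hp2 _ _ rfl _ hquot hpd
    -- the preimage in `G`
    have hker : IsPGroup p (QuotientGroup.mk' (Q.comap N.subtype)).ker := by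
      rw [QuotientGroup.ker_mk']
      exact hQ.comap_of_injective _ N.subtype_injective
    have hT := hR1.comap_of_ker_isPGroup (QuotientGroup.mk' (Q.comap N.subtype)) hker
    set T := R.comap (QuotientGroup.mk' (Q.comap N.subtype)) with hTdef
    have hQT : Q ≤ T.map N.subtype := by
      intro x hx
      have hxN : x ∈ N := Subgroup.le_normalizer hx
      refine ⟨⟨x, hxN⟩, ?_, rfl⟩
      show (QuotientGroup.mk' (Q.comap N.subtype)) ⟨x, hxN⟩ ∈ R
      have h1 : (QuotientGroup.mk' (Q.comap N.subtype)) ⟨x, hxN⟩ = 1 := by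
        rw [← MonoidHom.mem_ker, QuotientGroup.ker_mk']
        exact hx
      rw [h1]
      exact R.one_mem
    have hzT : z ∈ Subgroup.normalizer ((T.map N.subtype : Subgroup G) : Set G) := by
      apply mem_normalizer_of_conj_mem hzz
      rintro _ ⟨x, hx, rfl⟩
      refine ⟨⟨z, hzQ⟩ * x * ⟨z, hzQ⟩⁻¹, ?_, rfl⟩
      show (QuotientGroup.mk' (Q.comap N.subtype)) (⟨z, hzQ⟩ * x * ⟨z, hzQ⟩⁻¹) ∈ R
      rw [map_mul, map_mul, map_inv]
      exact (Subgroup.mem_normalizer_iff.mp hR3 _).mp hx
    have hTQ := hmax _ (hT.map _) hzT hQT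
    apply hR2
    rw [eq_bot_iff]
    intro y hy
    obtain ⟨x, rfl⟩ := QuotientGroup.mk'_surjective _ y
    have h1 : (x : G) ∈ T.map N.subtype := ⟨x, hy, rfl⟩
    rw [hTQ] at h1
    rw [Subgroup.mem_bot, ← MonoidHom.mem_ker, QuotientGroup.ker_mk']
    exact h1

end main

end Cfsg.Agent.TwoFusion.InvariantSylow
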