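import Mathlib
import Cfsg.Prelude.Def_Involutions
import Cfsg.Prelude.Def_TwoFusion
import Cfsg.Agent.Lib.Cores
import Cfsg.Agent.StrongEmb.Basic
import Cfsg.Agent.Walter.Irreducible

/-!
# Strongly closed elementary abelian 2-subgroups of simple groups

Consequences of Goldschmidt's theorem and Bender's theorem needed for the end of the proof of
the residual theorem (S1173).
-/

set_option autoImplicit false

namespace Cfsg.Agent.TwoFusion.CentEndSimple

open Subgroup Cfsg MulAction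
open Cfsg.Agent.TwoFusion.StronglyEmbeddedBasic
open Cfsg.Agent.StrongEmb.Basic

/-- The weak form of the conclusion of Bender's theorem: a normal `2`-subgroup `Q` of `H`
transitive on the other cosets. -/
def HasQ {X : Type*} [Group X] (H : Subgroup X) : Prop :=
  ∃ Q : Subgroup X, Q ≤ H ∧ (Q.subgroupOf H).Normal ∧
    (∀ g₁ g₂ : X, g₁ ∉ H → g₂ ∉ H → ∃ u ∈ Q, g₂⁻¹ * (u * g₁) ∈ H) ∧ IsPGroup 2 Q

section

variable {X : Type*} [Group X] [Finite X]

/-- `2`-elements of `H` lie in `Q`. -/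
theorem mem_Q {H Q : Subgroup X} (hH : IsStronglyEmbedded H) (hQH : Q ≤ H)
    (hQn : (Q.subgroupOf H).Normal)
    (htr : ∀ g₁ g₂ : X, g₁ ∉ H → g₂ ∉ H → ∃ u ∈ Q, g₂⁻¹ * (u * g₁) ∈ H)
    {x : X} (hx : x ∈ H) {k : ℕ} (hk : x ^ 2 ^ k = 1) : x ∈ Q := by
  obtain ⟨u, huH, hu2⟩ := exists_involution_notMem hH
  have hodd := hH.2.2 u huH
  set D : Subgroup X := H ⊓ H.map (MulAut.conj u).toMonoidHom with hD
  have hDH : D ≤ H := inf_le_left
  -- `D` maps onto `H / Q`
  let f : D →* H ⧸ (Q.subgroupOf H) := (QuotientGroup.mk' (Q.subgroupOf H)).comp (inclusion hDH)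
  have hf : Function.Surjective f := by
    intro y
    obtain ⟨h, rfl⟩ := QuotientGroup.mk_surjective y
    obtain ⟨q, hq, hq2⟩ := htr u ((h : X) * u) huH
      (fun hc => huH ((H.mul_mem_cancel_left h.2).mp hc))
    have h1 : (h : X)⁻¹ * q ∈ H := mul_mem (inv_mem h.2) (hQH hq)
    -- `d = q⁻¹ h ∈ D`
    have h2 : q⁻¹ * (h : X) ∈ D := by
      refine ⟨H.mul_mem (H.inv_mem (hQH hq)) h.2, ?_⟩
      refine ⟨(((h : X) * u)⁻¹ * (q * u))⁻¹, H.inv_mem hq2, ?_⟩
      change u * (((h : X) * u)⁻¹ * (q * u))⁻¹ * u⁻¹ = _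
      group
    refine ⟨⟨_, h2⟩, ?_⟩
    change ((inclusion hDH ⟨_, h2⟩ : H) : H ⧸ (Q.subgroupOf H)) = _
    rw [QuotientGroup.eq, mem_subgroupOf]
    change (q⁻¹ * (h : X))⁻¹ * (h : X) ∈ Q
    have h3 : (q⁻¹ * (h : X))⁻¹ * (h : X) = (h : X)⁻¹ * q * (h : X)⁻¹⁻¹ := by group
    rw [h3]
    have := hQn.conj_mem ⟨q, hQH hq⟩ (mem_subgroupOf.mpr hq) h⁻¹
    exact mem_subgroupOf.mp this
  have hodd' : Odd (Nat.card (H ⧸ (Q.subgroupOf H))) :=
    Odd.of_dvd_nat hodd (Subgroup.card_dvd_of_surjective f hf)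
  have h1 : (QuotientGroup.mk' (Q.subgroupOf H) ⟨x, hx⟩) = 1 := by
    rw [← orderOf_eq_one_iff]
    have h2 : orderOf (QuotientGroup.mk' (Q.subgroupOf H) ⟨x, hx⟩) ∣ 2 ^ k := by
      apply orderOf_dvd_of_pow_eq_one
      rw [← map_pow]
      have : (⟨x, hx⟩ : H) ^ 2 ^ k = 1 := Subtype.ext hk
      rw [this, map_one]
    have h3 : orderOf (QuotientGroup.mk' (Q.subgroupOf H) ⟨x, hx⟩) ∣
        Nat.card (H ⧸ (Q.subgroupOf H)) := orderOf_dvd_natCard _
    have h4 : Nat.Coprime (2 ^ k) (Nat.card (H ⧸ (Q.subgroupOf H))) :=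
      Nat.Coprime.pow_left _ (Nat.coprime_two_left.mpr hodd')
    exact Nat.eq_one_of_dvd_coprimes h4 h2 h3
  rw [QuotientGroup.mk'_apply, QuotientGroup.eq_one_iff, mem_subgroupOf] at h1
  exact h1

/-- A Sylow `2`-subgroup in the strongly embedded case. -/
theorem embedded_data (S : Sylow 2 X) {z : X} (hz : orderOf z = 2)
    (hzS : ∀ s ∈ (S : Subgroup X), s * z = z * s) {H₀ : Subgroup X} (hH₀ : IsStronglyEmbedded H₀)
    (hSE : ∀ H : Subgroup X, IsStronglyEmbedded H → HasQ H) :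
    ∃ H : Subgroup X, IsStronglyEmbedded H ∧ z ∈ H ∧ (S : Subgroup X) ≤ H ∧
      H ≤ normalizer ((S : Subgroup X) : Set X) := by
  have hU := uniqueFix_quotient hH₀
  obtain ⟨x, hx⟩ := hU.exists hz
  have hmov : ∃ g : X, g • x ≠ x := by
    obtain ⟨k, rfl⟩ := QuotientGroup.mk_surjective x
    obtain ⟨u, huH, -⟩ := exists_involution_notMem hH₀
    refine ⟨k * u * k⁻¹, fun h => huH ?_⟩
    have h1 : ((k * u * k⁻¹ * k : X) : X ⧸ H₀) = (k : X ⧸ H₀) := h
    rw [QuotientGroup.eq] at h1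
    have h2 : (k * u * k⁻¹ * k)⁻¹ * k = u⁻¹ := by group
    rw [h2] at h1
    exact inv_mem_iff.mp h1
  obtain ⟨g, hg⟩ := hmov
  have hH := hU.stronglyEmbedded hz hx hg
  obtain ⟨Q, hQH, hQn, htr, hQ2⟩ := hSE _ hH
  have hSH : (S : Subgroup X) ≤ stabilizer X x := by
    intro s hs
    exact hU.fix_of_commute hz hx (hzS s hs)
  have hSQ : (S : Subgroup X) ≤ Q := by
    intro s hs
    obtain ⟨k, hk⟩ := S.isPGroup' ⟨s, hs⟩
    exact mem_Q hH hQH hQn htr (hSH hs) (k := k) (congrArg Subtype.val hk)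
  have hQS : Q = S := S.is_maximal' hQ2 hSQ
  refine ⟨stabilizer X x, hH, hx, hSH, ?_⟩
  rw [← hQS]
  exact Subgroup.normal_subgroupOf_iff_le_normalizer hQH |>.mp hQn

/-- **Structure of a strongly closed elementary abelian subgroup of a simple group**, from
the product fusion theorem, Goldschmidt's theorem and Bender's theorem. -/
theorem simple_data [IsSimpleGroup X] (hna : ∃ a b : X, a * b ≠ b * a) (S : Sylow 2 X)
    (T : Subgroup X) (hT : IsStronglyClosed T (S : Subgroup X)) (hT1 : T ≠ ⊥)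
    (hT2 : ∀ t ∈ T, t * t = 1) (hPF : Walter.Irreducible.ProductFusion S)
    (hGold : IsMulCommutative (S : Subgroup X) ∨ ∃ H : Subgroup X, IsStronglyEmbedded H)
    (hSE : ∀ H : Subgroup X, IsStronglyEmbedded H → HasQ H) :
    (∀ x ∈ (S : Subgroup X), x * x = 1 → x ∈ T) ∧
      (∀ x ∈ (S : Subgroup X), ∀ t ∈ T, x * t = t * x) ∧
      ((∀ x ∈ (S : Subgroup X), ∀ y ∈ (S : Subgroup X), x * y = y * x) ∨
        ((∀ x ∈ T, ∀ y ∈ T, x ≠ 1 → y ≠ 1 →
            ∃ g ∈ normalizer ((S : Subgroup X) : Set X), g * x * g⁻¹ = y) ∧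
          centralizer (T : Set X) ≤ normalizer ((S : Subgroup X) : Set X))) := by
  have h2 : Fact (Nat.Prime 2) := ⟨Nat.prime_two⟩
  obtain ⟨t₀, ht₀, ht₀1⟩ : ∃ t ∈ T, t ≠ 1 := by
    obtain ⟨t, ht⟩ := Subgroup.ne_bot_iff_exists_ne_one.mp hT1
    exact ⟨t.1, t.2, fun h => ht (Subtype.ext h)⟩
  rcases hGold with hab | ⟨H₀, hH₀⟩
  · have hS : ∀ x ∈ (S : Subgroup X), ∀ y ∈ (S : Subgroup X), x * y = y * x := by
      intro x hx y hy
      exact congrArg Subtype.val (hab.is_comm.comm (⟨x, hx⟩ : (S : Subgroup X)) ⟨y, hy⟩)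
    refine ⟨?_, fun x hx t ht => hS x hx t (hT.1 ht), Or.inl hS⟩
    have hN : normalizer ((S : Subgroup X) : Set X) ≤ normalizer (T : Set X) := by
      intro n hn
      rw [mem_normalizer_iff]
      intro x
      constructor
      · intro hx
        exact hT.2 x hx n ((mem_normalizer_iff.mp hn x).mp (hT.1 hx))
      · intro hx
        have h3 : x ∈ (S : Subgroup X) := (mem_normalizer_iff.mp hn x).mpr (hT.1 hx)
        have h4 := hT.2 _ hx n⁻¹
        have h5 : n⁻¹ * (n * x * n⁻¹) * n⁻¹⁻¹ = x := by group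
        rw [h5] at h4
        exact h4 h3
    have hTom : T ≤ ThreePrime.AbelianBasic.om (S : Subgroup X) hS :=
      fun t ht => ⟨hT.1 ht, hT2 t ht⟩
    rcases Walter.Irreducible.eq_bot_or_eq hna S hS hPF hTom hN with h | h
    · exact absurd h hT1
    · intro x hx hxx
      rw [h]
      exact ⟨hx, hxx⟩
  · -- a central involution
    have hSne : Nontrivial (S : Subgroup X) :=
      ⟨⟨⟨t₀, hT.1 ht₀⟩, 1, fun h => ht₀1 (congrArg Subtype.val h)⟩⟩
    have hZ : Nontrivial (center (S : Subgroup X)) := S.isPGroup'.center_nontrivial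
    have hZ2 : IsPGroup 2 (center (S : Subgroup X)) := S.isPGroup'.to_subgroup _
    obtain ⟨z', hz'⟩ : ∃ z' : center (S : Subgroup X), orderOf z' = 2 := by
      refine exists_prime_orderOf_dvd_card' 2 ?_
      obtain ⟨n, hn⟩ := IsPGroup.iff_card.1 hZ2
      have hn0 : n ≠ 0 := by
        rintro rfl
        rw [pow_zero] at hn
        have := Finite.one_lt_card (α := center (S : Subgroup X))
        omega
      rw [hn]
      exact dvd_pow_self 2 hn0
    set z : X := ((z' : (S : Subgroup X)) : X) with hz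
    have hzo : orderOf z = 2 := by rw [hz, Subgroup.orderOf_coe, Subgroup.orderOf_coe]; exact hz'
    have hzS : ∀ s ∈ (S : Subgroup X), s * z = z * s := by
      intro s hs
      exact congrArg Subtype.val (mem_center_iff.mp z'.2 ⟨s, hs⟩)
    have hzmem : z ∈ (S : Subgroup X) := (z' : (S : Subgroup X)).2
    obtain ⟨H, hH, hzH, hSH, hHN⟩ := embedded_data S hzo hzS hH₀ hSE
    have hord : ∀ t ∈ T, t ≠ 1 → orderOf t = 2 := fun t ht h1 =>
      orderOf_eq_two_of_mul_self (hT2 t ht) h1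
    have ha : ∀ x ∈ (S : Subgroup X), x * x = 1 → x ∈ T := by
      intro x hx hxx
      by_cases hx1 : x = 1
      · rw [hx1]; exact one_mem _
      · obtain ⟨g, hg⟩ := isConj_iff.mp (isConj_of_involutions hH t₀ x (hord t₀ ht₀ ht₀1)
          (orderOf_eq_two_of_mul_self hxx hx1))
        rw [← hg]
        exact hT.2 t₀ ht₀ g (by rw [hg]; exact hx)
    have hc : ∀ x ∈ T, ∀ y ∈ T, x ≠ 1 → y ≠ 1 →
        ∃ g ∈ normalizer ((S : Subgroup X) : Set X), g * x * g⁻¹ = y := by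
      intro x hx y hy hx1 hy1
      obtain ⟨g, hg⟩ := isConj_iff.mp (isConj_of_involutions hH x y (hord x hx hx1) (hord y hy hy1))
      refine ⟨g, hHN ?_, hg⟩
      exact mem_of_conj_mem hH (hSH (hT.1 hx)) (hord x hx hx1) (by rw [hg]; exact hSH (hT.1 hy))
    refine ⟨ha, ?_, Or.inr ⟨hc, ?_⟩⟩
    · intro x hx t ht
      by_cases ht1 : t = 1
      · rw [ht1, mul_one, one_mul]
      · have hz1 : z ≠ 1 := by
          intro h; rw [h, orderOf_one] at hzo; norm_num at hzo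
        have hzT : z ∈ T := ha z hzmem (mul_self_of_orderOf hzo)
        obtain ⟨g, hg, rfl⟩ := hc z hzT t ht hz1 ht1
        have h3 : g⁻¹ * x * g ∈ (S : Subgroup X) := by
          have := (mem_normalizer_iff.mp (inv_mem hg) x).mp hx
          rwa [inv_inv] at this
        have h4 := hzS _ h3
        calc x * (g * z * g⁻¹) = g * ((g⁻¹ * x * g) * z) * g⁻¹ := by group
          _ = g * (z * (g⁻¹ * x * g)) * g⁻¹ := by rw [h4]
          _ = g * z * g⁻¹ * x := by group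
    · intro c hc'
      refine hHN (mem_of_commute hH (hSH (hT.1 ht₀)) (hord t₀ ht₀ ht₀1) ?_)
      exact (mem_centralizer_iff.mp hc' t₀ ht₀).symm

end

end Cfsg.Agent.TwoFusion.CentEndSimple
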