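import Mathlib
import Cfsg.Agent.TwoFusion.ClosedFam
import Cfsg.Agent.TwoFusion.ClosedLocal
import Cfsg.Agent.Lib.GoldschmidtFusion

/-!
# The perfect residual of a subgroup, and Sylow 2-subgroups of subgroups

`PR H` is the largest perfect subgroup of `H`; in a finite group it is the intersection of the derived series.
`IsSyl R H`: `R` is a Sylow 2-subgroup of the subgroup `H`.
-/

set_option autoImplicit false
set_option linter.style.haveILetI false

namespace Cfsg.Agent.TwoFusion.CentResidual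

open Subgroup
open scoped commutatorElement
open Cfsg.Agent.TwoFusion.ClosedFam
open Cfsg.Agent.Lib.GoldschmidtFusion (mem_map_conj conj_mem_map_conj card_map_conj lt_inf_normalizer
  mem_normalizer_iff_map_conj map_conj_map_conj)

universe u

variable {G : Type*} [Group G]

/-! ### The perfect residual -/

/-- The perfect residual of the subgroup `H`. -/
def PR (H : Subgroup G) : Subgroup G := sSup {K | K ≤ H ∧ K ≤ ⁅K, K⁆}

theorem PR_le (H : Subgroup G) : PR H ≤ H := sSup_le fun _ hK => hK.1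

theorem le_PR {H K : Subgroup G} (hK : K ≤ H) (hp : K ≤ ⁅K, K⁆) : K ≤ PR H := le_sSup ⟨hK, hp⟩

theorem PR_perfect (H : Subgroup G) : PR H ≤ ⁅PR H, PR H⁆ := by
  refine sSup_le fun K hK => hK.2.trans ?_
  exact commutator_mono (le_PR hK.1 hK.2) (le_PR hK.1 hK.2)

theorem PR_mono {H K : Subgroup G} (h : H ≤ K) : PR H ≤ PR K := le_PR ((PR_le H).trans h) (PR_perfect H)

theorem PR_eq_self {H : Subgroup G} (h : H ≤ ⁅H, H⁆) : PR H = H := le_antisymm (PR_le H) (le_PR le_rfl h)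

theorem PR_PR (H : Subgroup G) : PR (PR H) = PR H := PR_eq_self (PR_perfect H)

theorem map_PR_le {K : Type*} [Group K] (f : G →* K) (H : Subgroup G) : (PR H).map f ≤ PR (H.map f) := by
  refine le_PR (Subgroup.map_mono (PR_le H)) ?_
  rw [← map_commutator]
  exact Subgroup.map_mono (PR_perfect H)

/-- In finite groups the perfect residual is compatible with homomorphisms. -/
theorem map_PR [Finite G] {K : Type*} [Group K] (f : G →* K) (H : Subgroup G) :
    (PR H).map f = PR (H.map f) := by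
  classical
  apply le_antisymm (map_PR_le f H)
  set Y := PR (H.map f) with hY
  have hex : {X : Subgroup G | X ≤ H ∧ X.map f = Y}.Nonempty := by
    refine ⟨H ⊓ Y.comap f, inf_le_left, ?_⟩
    apply le_antisymm
    · rw [map_le_iff_le_comap]; exact inf_le_right
    · intro y hy
      obtain ⟨x, hx, rfl⟩ := PR_le (H.map f) hy
      exact ⟨x, ⟨hx, hy⟩, rfl⟩
  obtain ⟨X, hX⟩ := Set.Finite.exists_minimal (Set.toFinite _) hex
  have h1 : ⁅X, X⁆ ≤ X := commutator_le_self X
  have h2 : ⁅X, X⁆.map f = Y := by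
    rw [map_commutator, hX.prop.2]; exact le_antisymm (commutator_le_self Y) (PR_perfect _)
  have h3 : X ≤ ⁅X, X⁆ := hX.2 ⟨h1.trans hX.prop.1, h2⟩ h1
  rw [← hX.prop.2]
  exact Subgroup.map_mono (le_PR hX.prop.1 h3)

theorem conj_mem_PR {H : Subgroup G} {g x : G} (hg : ∀ y ∈ H, g * y * g⁻¹ ∈ H) (hx : x ∈ PR H) :
    g * x * g⁻¹ ∈ PR H := by
  have h1 := map_PR_le (MulAut.conj g).toMonoidHom H
  have h2 : H.map (MulAut.conj g).toMonoidHom ≤ H := by
    rintro _ ⟨y, hy, rfl⟩; exact hg y hy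
  exact PR_mono h2 (h1 ⟨x, hx, rfl⟩)

theorem normalizer_le_normalizer_PR (H : Subgroup G) :
    normalizer (H : Set G) ≤ normalizer (PR H : Set G) := by
  intro g hg
  rw [mem_normalizer_iff]
  intro x
  refine ⟨fun hx => conj_mem_PR (fun y hy => (mem_normalizer_iff.1 hg y).1 hy) hx, fun hx => ?_⟩
  have h2 : g⁻¹ ∈ normalizer (H : Set G) := (normalizer (H : Set G)).inv_mem hg
  have h3 := conj_mem_PR (H := H) (g := g⁻¹) (fun y hy => (mem_normalizer_iff.1 h2 y).1 hy) hx
  have e : g⁻¹ * (g * x * g⁻¹) * g⁻¹⁻¹ = x := by group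
  rwa [e] at h3

theorem PR_normal (H : Subgroup G) [hH : H.Normal] : (PR H).Normal :=
  ⟨fun _ hx g => conj_mem_PR (fun y hy => hH.conj_mem y hy g) hx⟩

theorem iInf_derivedSeries_eq (G : Type*) [Group G] [Finite G] :
    (⨅ n : ℕ, derivedSeries G n) = PR (⊤ : Subgroup G) := by
  classical
  apply le_antisymm
  · obtain ⟨D, hD⟩ := Set.Finite.exists_minimal (s := Set.range (derivedSeries G)) (Set.toFinite _)
      ⟨_, ⟨0, rfl⟩⟩
    obtain ⟨n, hn⟩ := hD.prop
    have h1 : derivedSeries G (n + 1) = ⁅D, D⁆ := by rw [derivedSeries_succ, hn]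
    have h2 : D ≤ ⁅D, D⁆ := hD.2 ⟨n + 1, h1⟩ (commutator_le_self D)
    exact (iInf_le _ n).trans (by rw [hn]; exact le_PR le_top h2)
  · refine le_iInf fun n => ?_
    induction n with
    | zero => rw [derivedSeries_zero]; exact le_top
    | succ n ih =>
      rw [derivedSeries_succ]
      exact (PR_perfect _).trans (commutator_mono ih ih)

theorem map_iInf_derivedSeries [Finite G] (H : Subgroup G) :
    (⨅ n : ℕ, derivedSeries ↥H n).map H.subtype = PR H := by
  rw [iInf_derivedSeries_eq, map_PR, ← MonoidHom.range_eq_map, Subgroup.range_subtype]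

/-- The perfect residual in a subgroup. -/
theorem map_subtype_PR [Finite G] (H : Subgroup G) (K : Subgroup H) :
    (PR K).map H.subtype = PR (K.map H.subtype) := map_PR _ _

/-- Solvable groups have trivial perfect residual. -/
theorem PR_eq_bot_of_isSolvable (G : Type*) [Group G] [hs : Group.IsSolvable G] (H : Subgroup G) :
    PR H = ⊥ := by
  by_contra hne
  exact absurd (PR_perfect H) (not_le_of_gt (Group.IsSolvable.commutator_lt_of_ne_bot hne))

/-- A perfect subgroup which is solvable modulo `N` lies in `N`. -/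
theorem perfect_le_of_solvable [Finite G] {L N : Subgroup G} (hL : L ≤ ⁅L, L⁆)
    (hN : (N.subgroupOf L).Normal) (hs : Group.IsSolvable (L ⧸ N.subgroupOf L)) : L ≤ N := by
  have h1 : PR (⊤ : Subgroup (L ⧸ N.subgroupOf L)) = ⊥ := PR_eq_bot_of_isSolvable _ _
  have h2 : PR (⊤ : Subgroup L) = ⊤ := by
    have h3 : (PR (⊤ : Subgroup L)).map L.subtype = (⊤ : Subgroup L).map L.subtype := by
      rw [map_subtype_PR, ← MonoidHom.range_eq_map, Subgroup.range_subtype, PR_eq_self hL]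
    exact Subgroup.map_injective L.subtype_injective h3
  have h3 : (PR (⊤ : Subgroup L)).map (QuotientGroup.mk' (N.subgroupOf L)) = PR ⊤ := by
    rw [map_PR, Subgroup.map_top_of_surjective _ (QuotientGroup.mk'_surjective _)]
  rw [h1, h2, Subgroup.map_eq_bot_iff, QuotientGroup.ker_mk', top_le_iff, subgroupOf_eq_top] at h3
  exact h3

/-- A perfect subgroup has no quotients of odd order (by the Odd Order Theorem, here a hypothesis). -/
theorem perfect_le_of_odd {G : Type u} [Group G] [Finite G]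
    (hFT : ∀ (K : Type u) [Group K] [Finite K], Odd (Nat.card K) → Group.IsSolvable K)
    {L N : Subgroup G} (hL : L ≤ ⁅L, L⁆)
    (hn : L ≤ normalizer (N : Set G)) (hodd : Odd (N.relIndex L)) : L ≤ N := by
  have hN : (N.subgroupOf L).Normal := Subgroup.normal_subgroupOf_of_le_normalizer hn
  exact perfect_le_of_solvable hL hN (hFT _ (by rw [← Subgroup.index_eq_card]; exact hodd))

/-! ### Centralizers and normalizers -/

theorem conj_mem_centralizer {T : Subgroup G} {g x : G} (hg : g ∈ normalizer (T : Set G))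
    (hx : x ∈ centralizer (T : Set G)) : g * x * g⁻¹ ∈ centralizer (T : Set G) := by
  rw [mem_centralizer_iff]
  intro t ht
  have h1 : g⁻¹ * t * g ∈ T := by
    have h2 : g⁻¹ ∈ normalizer (T : Set G) := inv_mem hg
    have := (mem_normalizer_iff.1 h2 t).1 ht
    rwa [inv_inv] at this
  have h2 := mem_centralizer_iff.1 hx _ h1
  calc t * (g * x * g⁻¹) = g * ((g⁻¹ * t * g) * x) * g⁻¹ := by group
    _ = g * (x * (g⁻¹ * t * g)) * g⁻¹ := by rw [h2]
    _ = g * x * g⁻¹ * t := by group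

theorem normalizer_le_normalizer_centralizer (T : Subgroup G) :
    normalizer (T : Set G) ≤ normalizer (centralizer (T : Set G) : Set G) := by
  intro g hg
  rw [mem_normalizer_iff]
  intro x
  refine ⟨fun hx => conj_mem_centralizer hg hx, fun hx => ?_⟩
  have h3 := conj_mem_centralizer (inv_mem hg) hx
  have e : g⁻¹ * (g * x * g⁻¹) * g⁻¹⁻¹ = x := by group
  rwa [e] at h3

theorem normalizer_le_normalizer_PR_centralizer (T : Subgroup G) :
    normalizer (T : Set G) ≤ normalizer (PR (centralizer (T : Set G)) : Set G) :=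
  (normalizer_le_normalizer_centralizer T).trans (normalizer_le_normalizer_PR _)

theorem mem_centralizer_comm {T : Subgroup G} {x t : G} (hx : x ∈ centralizer (T : Set G)) (ht : t ∈ T) :
    x * t = t * x := (mem_centralizer_iff.1 hx t ht).symm

theorem PR_centralizer_comm {T : Subgroup G} {x t : G} (hx : x ∈ PR (centralizer (T : Set G)))
    (ht : t ∈ T) : x * t = t * x := mem_centralizer_comm (PR_le _ hx) ht

/-- An element acting trivially on `L` modulo elements centralizing `L` centralizes `[L, L]`. -/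
theorem comm_of_perfect {L : Subgroup G} (hL : L ≤ ⁅L, L⁆) {a : G}
    (h : ∀ l ∈ L, ∃ z : G, (∀ l' ∈ L, z * l' = l' * z) ∧ z ∈ L ∧ a * l * a⁻¹ = l * z) :
    ∀ l ∈ L, a * l = l * a := by
  have h1 : ⁅L, L⁆ ≤ centralizer ({a} : Set G) := by
    rw [commutator_le]
    intro x hx y hy
    obtain ⟨z, hz, hzL, ez⟩ := h x hx
    obtain ⟨w, hw, -, ew⟩ := h y hy
    rw [mem_centralizer_singleton_iff]
    have e1 : a * ⁅x, y⁆ * a⁻¹ = ⁅x, y⁆ := by
      have e2 : a * ⁅x, y⁆ * a⁻¹ = (a * x * a⁻¹) * (a * y * a⁻¹) * (a * x * a⁻¹)⁻¹ * (a * y * a⁻¹)⁻¹ := by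
        rw [commutatorElement_def]; group
      rw [e2, ez, ew]
      have c1 : z * y = y * z := hz y hy
      have c2 : w * x = x * w := hw x hx
      have c3 : w * z = z * w := hw z hzL
      have c4 : z * x⁻¹ = x⁻¹ * z := hz _ (inv_mem hx)
      have c5 : w * x⁻¹ = x⁻¹ * w := hw _ (inv_mem hx)
      have c6 : z * y⁻¹ = y⁻¹ * z := hz _ (inv_mem hy)
      have c7 : w * y⁻¹ = y⁻¹ * w := hw _ (inv_mem hy)
      have c8 : w * z⁻¹ = z⁻¹ * w := hw _ (inv_mem hzL)
      calc x * z * (y * w) * (x * z)⁻¹ * (y * w)⁻¹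
          = x * (z * y) * w * z⁻¹ * x⁻¹ * w⁻¹ * y⁻¹ := by group
        _ = x * y * z * (w * z⁻¹) * x⁻¹ * w⁻¹ * y⁻¹ := by rw [c1]; group
        _ = x * y * (w * x⁻¹) * w⁻¹ * y⁻¹ := by rw [c8]; group
        _ = ⁅x, y⁆ := by rw [c5, commutatorElement_def]; group
    calc ⁅x, y⁆ * a = a * ⁅x, y⁆ * a⁻¹ * a := by rw [e1]
      _ = a * ⁅x, y⁆ := by group
  intro l hl
  have h2 := h1 (hL hl)
  rw [mem_centralizer_singleton_iff] at h2
  exact h2.symm

/-! ### Abelian normal subgroups -/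

/-- A 2-element of an abelian normal subgroup lies in `O_2(G)`. -/
theorem mem_pCore_of_abelian {N : Subgroup G} (hN : N.Normal) (hc : ∀ x ∈ N, ∀ y ∈ N, x * y = y * x)
    {a : G} (ha : a ∈ N) {k : ℕ} (hk : a ^ 2 ^ k = 1) : a ∈ Cfsg.pCore 2 G := by
  let K : Subgroup G :=
    { carrier := {x | x ∈ N ∧ x ^ 2 ^ k = 1}
      one_mem' := ⟨N.one_mem, one_pow _⟩
      mul_mem' := by
        rintro x y ⟨hx, hx2⟩ ⟨hy, hy2⟩
        refine ⟨mul_mem hx hy, ?_⟩
        have h1 : Commute x y := hc x hx y hy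
        rw [h1.mul_pow, hx2, hy2, one_mul]
      inv_mem' := by
        rintro x ⟨hx, hx2⟩
        exact ⟨inv_mem hx, by rw [inv_pow, hx2, inv_one]⟩ }
  have hKn : K.Normal := by
    refine ⟨fun x hx g => ⟨hN.conj_mem x hx.1 g, ?_⟩⟩
    rw [conj_pow, hx.2]; group
  have hK2 : IsPGroup 2 K := by
    rintro ⟨x, hx⟩
    exact ⟨k, Subtype.ext hx.2⟩
  exact Cfsg.Agent.Lib.Cores.le_pCore hKn hK2 ⟨ha, hk⟩

/-! ### Sylow 2-subgroups of subgroups -/

/-- `R` is a Sylow 2-subgroup of the subgroup `H`. -/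
structure IsSyl (R H : Subgroup G) : Prop where
  le : R ≤ H
  two : IsPGroup 2 R
  conj : ∀ Q : Subgroup G, IsPGroup 2 Q → Q ≤ H → ∃ h ∈ H, ∀ q ∈ Q, h * q * h⁻¹ ∈ R

theorem isSyl_map [Finite G] {H : Subgroup G} (S : Sylow 2 H) : IsSyl ((S : Subgroup H).map H.subtype) H where
  le := by rintro _ ⟨x, -, rfl⟩; exact x.2
  two := S.2.map _
  conj _ hQ hQH := ClosedLocal.exists_conj_sylow_subgroup hQ hQH S

theorem exists_isSyl [Finite G] {Q H : Subgroup G} (hQ : IsPGroup 2 Q) (hQH : Q ≤ H) :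
    ∃ R : Subgroup G, Q ≤ R ∧ IsSyl R H := by
  haveI : Fact (Nat.Prime 2) := ⟨Nat.prime_two⟩
  have hQ' : IsPGroup 2 (Q.subgroupOf H) := hQ.of_equiv (Subgroup.subgroupOfEquivOfLe hQH).symm
  obtain ⟨S, hS⟩ := hQ'.exists_le_sylow
  refine ⟨(S : Subgroup H).map H.subtype, fun q hq => ?_, isSyl_map S⟩
  exact ⟨⟨q, hQH hq⟩, hS hq, rfl⟩

theorem IsSyl.card_le [Finite G] {R H Q : Subgroup G} (h : IsSyl R H) (hQ : IsPGroup 2 Q) (hQH : Q ≤ H) :
    Nat.card Q ≤ Nat.card R := by
  obtain ⟨g, -, hg⟩ := h.conj Q hQ hQH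
  have h1 : Q.map (MulAut.conj g).toMonoidHom ≤ R := by
    rintro _ ⟨q, hq, rfl⟩; exact hg q hq
  rw [← card_map_conj Q g]
  exact Subgroup.card_le_of_le h1

theorem IsSyl.eq_of_le [Finite G] {R H Q : Subgroup G} (h : IsSyl R H) (hQ : IsPGroup 2 Q) (hQH : Q ≤ H)
    (hRQ : R ≤ Q) : R = Q := Subgroup.eq_of_le_of_card_ge hRQ (h.card_le hQ hQH)

theorem IsSyl.exists_sylow [Finite G] {R H : Subgroup G} (h : IsSyl R H) :
    ∃ S : Sylow 2 H, (S : Subgroup H).map H.subtype = R := by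
  haveI : Fact (Nat.Prime 2) := ⟨Nat.prime_two⟩
  have hQ' : IsPGroup 2 (R.subgroupOf H) := h.two.of_equiv (Subgroup.subgroupOfEquivOfLe h.le).symm
  obtain ⟨S, hS⟩ := hQ'.exists_le_sylow
  refine ⟨S, (h.eq_of_le (S.2.map _) ?_ ?_).symm⟩
  · rintro _ ⟨x, -, rfl⟩; exact x.2
  · exact fun q hq => ⟨⟨q, h.le hq⟩, hS hq, rfl⟩

theorem isSyl_of_le [Finite G] {P : Sylow 2 G} {H : Subgroup G} (h : (P : Subgroup G) ≤ H) :
    IsSyl (P : Subgroup G) H := by
  haveI : Fact (Nat.Prime 2) := ⟨Nat.prime_two⟩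
  obtain ⟨R, hPR, hR⟩ := exists_isSyl P.2 h
  have h1 : R = (P : Subgroup G) := P.3 hR.two hPR
  rwa [h1] at hR

theorem isSyl_top [Finite G] (P : Sylow 2 G) : IsSyl (P : Subgroup G) ⊤ := isSyl_of_le le_top

/-- The Sylow 2-subgroups of a subgroup `N ≤ H` normalized by `H`. -/
theorem IsSyl.inf [Finite G] {R H N : Subgroup G} (h : IsSyl R H) (hNH : N ≤ H)
    (hn : H ≤ normalizer (N : Set G)) : IsSyl (R ⊓ N) N where
  le := inf_le_right
  two := h.two.to_le inf_le_left
  conj := by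
    intro Q hQ hQN
    obtain ⟨S, hQS, hS⟩ := exists_isSyl hQ hQN
    obtain ⟨g, hg, hgS⟩ := h.conj S hS.two (hS.le.trans hNH)
    -- `g S g⁻¹ ≤ R ⊓ N`; hence `R ⊓ N` is conjugate to `S`
    have h1 : S.map (MulAut.conj g).toMonoidHom ≤ R ⊓ N := by
      rintro _ ⟨s, hs, rfl⟩
      exact ⟨hgS s hs, (mem_normalizer_iff.1 (hn hg) s).1 (hS.le hs)⟩
    have hcard : Nat.card (R ⊓ N : Subgroup G) ≤ Nat.card S :=
      hS.card_le (h.two.to_le inf_le_left) inf_le_right
    obtain ⟨k, hk, hkR⟩ := hS.conj (R ⊓ N) (h.two.to_le inf_le_left) inf_le_right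
    have h2 : (R ⊓ N).map (MulAut.conj k).toMonoidHom ≤ S := by
      rintro _ ⟨s, hs, rfl⟩; exact hkR s hs
    have h3 : (R ⊓ N).map (MulAut.conj k).toMonoidHom = S := by
      refine Subgroup.eq_of_le_of_card_ge h2 ?_
      rw [card_map_conj]
      calc Nat.card S = Nat.card (S.map (MulAut.conj g).toMonoidHom) := (card_map_conj _ _).symm
        _ ≤ _ := Subgroup.card_le_of_le h1
    refine ⟨k⁻¹, inv_mem hk, fun q hq => ?_⟩
    have h4 := hQS hq
    rw [← h3, mem_map_conj] at h4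
    rwa [inv_inv]

theorem IsSyl.frattini [Finite G] {R H N : Subgroup G} (h : IsSyl R N)
    (hn : H ≤ normalizer (N : Set G)) {g : G} (hg : g ∈ H) :
    ∃ n ∈ N, n * g ∈ normalizer (R : Set G) := by
  obtain ⟨n, hn', hnR⟩ := h.conj (R.map (MulAut.conj g).toMonoidHom) (h.two.map _) (by
    rintro _ ⟨r, hr, rfl⟩
    exact (mem_normalizer_iff.1 (hn hg) r).1 (h.le hr))
  refine ⟨n, hn', ?_⟩
  rw [mem_normalizer_iff_map_conj]
  have h1 : R.map (MulAut.conj (n * g)).toMonoidHom ≤ R := by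
    rw [← map_conj_map_conj]
    rintro _ ⟨_, ⟨r, hr, rfl⟩, rfl⟩
    exact hnR _ ⟨r, hr, rfl⟩
  exact Subgroup.eq_of_le_of_card_ge h1 (by rw [card_map_conj])

/-- The index of a Sylow 2-subgroup is odd. -/
theorem IsSyl.odd_relIndex [Finite G] {R H : Subgroup G} (h : IsSyl R H) : Odd (R.relIndex H) := by
  haveI : Fact (Nat.Prime 2) := ⟨Nat.prime_two⟩
  obtain ⟨S, rfl⟩ := h.exists_sylow
  have : ((S : Subgroup H).map H.subtype).relIndex H = (S : Subgroup H).index := by
    rw [relIndex, subgroupOf, comap_map_eq_self_of_injective H.subtype_injective]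
  rw [this, ← Nat.not_even_iff_odd, even_iff_two_dvd]
  exact S.not_dvd_index

/-! ### The closed family in 2-subgroups -/

theorem card_fam_le [Finite G] {𝒜 : Set G} (h : IsClosedFam 𝒜) (P : Sylow 2 G) {Q : Subgroup G}
    (hQ : IsPGroup 2 Q) : Nat.card (fam 𝒜 Q) ≤ Nat.card (fam 𝒜 (P : Subgroup G)) := by
  obtain ⟨g, -, hg⟩ := (isSyl_top P).conj Q hQ le_top
  have h1 : (fam 𝒜 Q).map (MulAut.conj g).toMonoidHom ≤ fam 𝒜 (P : Subgroup G) := by
    rintro _ ⟨q, hq, rfl⟩
    rw [SetLike.mem_coe, h.mem_fam_iff hQ] at hq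
    exact mem_fam (h.conj_mem q hq.1 g) (hg q hq.2)
  rw [← card_map_conj (fam 𝒜 Q) g]
  exact Subgroup.card_le_of_le h1

end Cfsg.Agent.TwoFusion.CentResidual
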