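import Mathlib

/-!
# Perfect groups preserving an anisotropic quadratic map with small fibres

`V`, `T` elementary abelian `2`-groups, `|V| = |T|²`, `sq : V → T` a quadratic map with polar form
`B`, all fibres over nontrivial elements of odd cardinality, all `w^⊥` (`w ≠ 1`) of order `|T|`.
A finite perfect group acting faithfully on `V` and preserving `sq` and `B` has odd order.
-/

set_option autoImplicit false

namespace Cfsg.Agent.TwoFusion.QuadFibre

open Subgroup

/-- The orthogonal of an element. -/
def perp {V T : Type*} [CommGroup V] [CommGroup T] (B : V →* V →* T) (w : V) : Subgroup V where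
  carrier := {v | B v w = 1}
  one_mem' := by simp
  mul_mem' := by
    intro a b ha hb
    change B a w = 1 at ha
    change B b w = 1 at hb
    change B (a * b) w = 1
    rw [map_mul, MonoidHom.mul_apply, ha, hb, mul_one]
  inv_mem' := by
    intro a ha
    change B a w = 1 at ha
    change B a⁻¹ w = 1
    rw [map_inv, MonoidHom.inv_apply, ha, inv_one]

theorem mem_perp {V T : Type*} [CommGroup V] [CommGroup T] {B : V →* V →* T} {v w : V} :
    v ∈ perp B w ↔ B v w = 1 := Iff.rfl

/-- The main lemma. -/
theorem odd_card_of_perfect {G V T : Type*} [Group G] [Finite G] [CommGroup V] [Finite V]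
    [CommGroup T] [Finite T] [MulDistribMulAction G V] [FaithfulSMul G V]
    (hG : commutator G = ⊤) (sq : V → T) (B : V →* V →* T)
    (hV : ∀ v : V, v * v = 1)
    (hsqG : ∀ (g : G) (v : V), sq (g • v) = sq v)
    (hBG : ∀ (g : G) (v w : V), B (g • v) (g • w) = B v w)
    (halt : ∀ v : V, B v v = 1)
    (hperp : ∀ w : V, w ≠ 1 → Nat.card (perp B w) = Nat.card T)
    (hfib : ∀ t : T, t ≠ 1 → Odd (Nat.card {v : V // sq v = t}))
    (hsq1 : sq 1 = 1)
    (hcard : Nat.card V = Nat.card T * Nat.card T) (hT : 2 ≤ Nat.card T) :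
    Odd (Nat.card G) := by
  classical
  have : Fact (Nat.Prime 2) := ⟨Nat.prime_two⟩
  by_contra hodd
  rw [Nat.not_odd_iff_even, even_iff_two_dvd] at hodd
  let S : Sylow 2 G := default
  have hSne : (S : Subgroup G) ≠ ⊥ := S.ne_bot_of_dvd_card hodd
  -- the fixed points
  let W : Subgroup V :=
    { carrier := {v | ∀ s ∈ S, s • v = v}
      one_mem' := fun s _ => smul_one s
      mul_mem' := fun {a b} ha hb s hs => by rw [smul_mul', ha s hs, hb s hs]
      inv_mem' := fun {a} ha s hs => by rw [smul_inv', ha s hs] }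
  have hWmem : ∀ v, v ∈ W ↔ ∀ s ∈ S, s • v = v := fun v => Iff.rfl
  have step1 : ∀ t : T, ∃ w ∈ W, sq w = t := by
    intro t
    by_cases ht : t = 1
    · exact ⟨1, W.one_mem, by rw [ht, hsq1]⟩
    · let act : MulAction S {v : V // sq v = t} :=
        { smul := fun s v => ⟨(s : G) • (v : V), by rw [hsqG]; exact v.2⟩
          one_smul := fun v => Subtype.ext (one_smul G (v : V))
          mul_smul := fun a b v => Subtype.ext (mul_smul (a : G) (b : G) (v : V)) }
      have h1 : ¬ 2 ∣ Nat.card {v : V // sq v = t} := by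
        rw [← even_iff_two_dvd, Nat.not_even_iff_odd]; exact hfib t ht
      obtain ⟨⟨v, hv⟩, hfix⟩ := S.isPGroup'.nonempty_fixed_point_of_prime_not_dvd_card
        {v : V // sq v = t} h1
      refine ⟨v, fun s hs => ?_, hv⟩
      have h2 := hfix ⟨s, hs⟩
      exact congrArg Subtype.val h2
  have hTW : Nat.card T ≤ Nat.card W := by
    apply Nat.card_le_card_of_surjective (fun w : W => sq w)
    intro t
    obtain ⟨w, hw, hwt⟩ := step1 t
    exact ⟨⟨w, hw⟩, hwt⟩
  -- the key step
  have key : ∀ s ∈ S, ∀ v : V, s • v ≠ v → W = perp B (v⁻¹ * (s • v)) := by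
    intro s hs v hv
    have hw' : v⁻¹ * (s • v) ≠ 1 := by
      rw [Ne, inv_mul_eq_one]; exact fun h => hv h.symm
    have hle : W ≤ perp B (v⁻¹ * (s • v)) := by
      intro w hw
      rw [mem_perp, map_mul, map_inv]
      have h1 : B w (s • v) = B w v := by
        have := hBG s w v
        rwa [hw s hs] at this
      rw [h1, inv_mul_cancel]
    apply Subgroup.eq_of_le_of_card_ge hle
    rw [hperp _ hw']
    exact hTW
  have hmemW : ∀ s ∈ S, ∀ v : V, v⁻¹ * (s • v) ∈ W := by
    intro s hs v
    by_cases hv : s • v = v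
    · rw [hv, inv_mul_cancel]; exact W.one_mem
    · rw [key s hs v hv, mem_perp]; exact halt _
  obtain ⟨s, hs, hs1⟩ := (S : Subgroup G).ne_bot_iff_exists_ne_one.mp hSne |>.elim
    (fun s hs => (⟨s.1, s.2, fun h => hs (Subtype.ext h)⟩ : ∃ s : G, s ∈ (S : Subgroup G) ∧ s ≠ 1))
  obtain ⟨v₀, hv₀⟩ : ∃ v : V, s • v ≠ v := by
    by_contra hcon
    push Not at hcon
    exact hs1 (eq_of_smul_eq_smul (α := V) (fun v => by rw [hcon v, one_smul]))
  have hWcard : Nat.card W = Nat.card T := by
    rw [key s hs v₀ hv₀]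
    apply hperp
    rw [Ne, inv_mul_eq_one]; exact fun h => hv₀ h.symm
  -- fixed points of `s`
  have hfixs : ∀ u : V, s • u = u → u ∈ W := by
    intro u hu
    rw [key s hs v₀ hv₀, mem_perp, map_mul, map_inv]
    have h1 : B u (s • v₀) = B u v₀ := by
      have := hBG s u v₀
      rwa [hu] at this
    rw [h1, inv_mul_cancel]
  -- the map `v ↦ v⁻¹ (s • v)` is onto `W`
  let f : V →* V :=
    { toFun := fun v => v⁻¹ * (s • v)
      map_one' := by simp
      map_mul' := fun a b => by
        rw [smul_mul', mul_inv]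
        exact mul_mul_mul_comm _ _ _ _ }
  have hker : f.ker = W := by
    ext u
    rw [MonoidHom.mem_ker]
    change u⁻¹ * (s • u) = 1 ↔ _
    rw [inv_mul_eq_one]
    exact ⟨fun h => hfixs u h.symm, fun h => (h s hs).symm⟩
  have hrange : f.range = W := by
    apply Subgroup.eq_of_le_of_card_ge
    · rintro _ ⟨v, rfl⟩
      exact hmemW s hs v
    · have h1 : Nat.card f.range * Nat.card f.ker = Nat.card V := by
        rw [mul_comm]
        have := Subgroup.card_mul_index f.ker
        rwa [Subgroup.index_ker] at this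
      rw [hker, hWcard, hcard] at h1
      have hpos : 0 < Nat.card T := Nat.card_pos
      have h2 := Nat.eq_of_mul_eq_mul_right hpos h1
      rw [h2, hWcard]
  have hWperp : ∀ w ∈ W, w ≠ 1 → W = perp B w := by
    intro w hw hw1
    rw [← hrange] at hw
    obtain ⟨v, hv⟩ := hw
    have hv' : v⁻¹ * (s • v) = w := hv
    rw [← hv']
    apply key s hs v
    intro h
    rw [h, inv_mul_cancel] at hv'
    exact hw1 hv'.symm
  -- `sq` is injective on `W`
  have hinj : ∀ w ∈ W, ∀ w' ∈ W, sq w = sq w' → w = w' := by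
    have hsurj : Function.Surjective (fun w : W => sq w) := by
      intro t
      obtain ⟨w, hw, hwt⟩ := step1 t
      exact ⟨⟨w, hw⟩, hwt⟩
    have hbij : Function.Bijective (fun w : W => sq w) :=
      (Function.Surjective.bijective_of_nat_card_le hsurj hWcard.le)
    intro w hw w' hw' h
    have := hbij.1 (a₁ := ⟨w, hw⟩) (a₂ := ⟨w', hw'⟩) h
    exact congrArg Subtype.val this
  -- elements stabilizing `W`
  have hWne : ∃ w ∈ W, w ≠ 1 := by
    have : 1 < Nat.card W := by rw [hWcard]; omega
    have hn : Nontrivial W := Finite.one_lt_card_iff_nontrivial.mp this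
    obtain ⟨w, hw⟩ := exists_ne (1 : W)
    exact ⟨w, w.2, fun h => hw (Subtype.ext h)⟩
  obtain ⟨w₀, hw₀, hw₀1⟩ := hWne
  have hstab : ∀ g : G, (∀ w ∈ W, g • w ∈ W) → g * g = 1 := by
    intro g hg
    have hfix : ∀ w ∈ W, g • w = w := fun w hw => hinj _ (hg w hw) _ hw (hsqG g w)
    have hdiff : ∀ v : V, v⁻¹ * (g • v) ∈ W := by
      intro v
      rw [hWperp w₀ hw₀ hw₀1, mem_perp, map_mul, MonoidHom.mul_apply, map_inv, MonoidHom.inv_apply]
      have h1 : B (g • v) w₀ = B v w₀ := by
        have := hBG g v w₀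
        rwa [hfix w₀ hw₀] at this
      rw [h1, inv_mul_cancel]
    apply eq_of_smul_eq_smul (α := V)
    intro v
    rw [one_smul, mul_smul]
    have h1 : g • v = v * (v⁻¹ * (g • v)) := by rw [mul_inv_cancel_left]
    have h2 := hfix _ (hdiff v)
    calc g • (g • v) = g • (v * (v⁻¹ * (g • v))) := by rw [← h1]
      _ = (g • v) * (v⁻¹ * (g • v)) := by rw [smul_mul', h2]
      _ = v⁻¹ * ((g • v) * (g • v)) := by
          rw [mul_left_comm]
      _ = v⁻¹ := by rw [hV, mul_one]
      _ = v := by rw [inv_eq_iff_mul_eq_one]; exact hV v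
  -- the stabilizer
  let N : Subgroup G :=
    { carrier := {g | ∀ w ∈ W, g • w ∈ W}
      one_mem' := fun w hw => by rw [one_smul]; exact hw
      mul_mem' := fun {a b} ha hb w hw => by rw [mul_smul]; exact ha _ (hb w hw)
      inv_mem' := fun {a} ha w hw => by
        have h1 := hstab a ha
        rw [inv_eq_of_mul_eq_one_left h1]
        exact ha w hw }
  have hNp : IsPGroup 2 N := by
    intro g
    refine ⟨1, ?_⟩
    apply Subtype.ext
    rw [pow_one, pow_two]
    exact hstab g.1 g.2
  have hSN : (S : Subgroup G) ≤ N := by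
    intro g hg w hw
    rw [hw g hg]; exact hw
  have hNS : N = S := S.is_maximal' hNp hSN
  have hScomm : ∀ a ∈ S, ∀ b ∈ S, a * b = b * a := by
    intro a ha b hb
    have ha2 := hstab a (hSN ha)
    have hb2 := hstab b (hSN hb)
    have hab2 := hstab (a * b) (hSN (mul_mem ha hb))
    have h1 : a⁻¹ = a := inv_eq_of_mul_eq_one_left ha2
    have h2 : b⁻¹ = b := inv_eq_of_mul_eq_one_left hb2
    have h3 : (a * b)⁻¹ = a * b := inv_eq_of_mul_eq_one_left hab2
    rw [mul_inv_rev, h1, h2] at h3
    exact h3.symm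
  have hnorm : normalizer (S : Set G) ≤ centralizer (S : Set G) := by
    have h1 : normalizer (S : Set G) ≤ S := by
      rw [← hNS]
      intro g hg w hw s hs
      rw [← mul_smul]
      have h2 : g⁻¹ * s * g ∈ S := by
        have := (Subgroup.mem_normalizer_iff.mp (inv_mem hg) s).mp hs
        rw [inv_inv] at this
        exact this
      have h3 : s * g = g * (g⁻¹ * s * g) := by group
      rw [h3, mul_smul, hw _ h2]
    intro g hg s hs
    exact hScomm s hs g (h1 hg)
  have hcomp := MonoidHom.ker_transferSylow_isComplement' S hnorm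
  have hker' : (MonoidHom.transferSylow S hnorm).ker = ⊤ := by
    rw [eq_top_iff, ← hG, _root_.commutator_def, Subgroup.commutator_le]
    intro a _ b _
    rw [MonoidHom.mem_ker, map_commutatorElement, commutatorElement_eq_one_iff_mul_comm]
    apply Subtype.ext
    exact hScomm _ (MonoidHom.transferSylow S hnorm a).2 _ (MonoidHom.transferSylow S hnorm b).2
  rw [hker'] at hcomp
  exact hSne (isComplement'_top_left.mp hcomp)

end Cfsg.Agent.TwoFusion.QuadFibre
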