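import Mathlib
import Cfsg.Agent.Lib.FrattiniPGroup

/-!
# Counting square roots in a class two `2`-group

`P` a finite `2`-group, `T = {x : x² = 1}` a central subgroup containing all squares, all
nontrivial elements of `T` having the same number of square roots.  Then `|P| = |T|²`, or
`|P| = |T|³` and every commutator map `x ↦ [w, x]`, `w ∉ T`, is onto `T`.
-/

set_option autoImplicit false

namespace Cfsg.Agent.TwoFusion.SqCount

open Subgroup
open scoped commutatorElement

/-! ### Arithmetic -/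

theorem eq_one_of_odd_of_dvd_two_pow {b N : ℕ} (hb : Odd b) (h : b ∣ 2 ^ N) : b = 1 := by
  have h1 : Nat.Coprime b (2 ^ N) := Nat.Coprime.pow_right _ (Nat.coprime_two_right.mpr hb)
  exact Nat.Coprime.eq_one_of_dvd h1 h

theorem odd_two_pow_sub_one {n : ℕ} (hn : 1 ≤ n) : Odd (2 ^ n - 1) := by
  have h : Even (2 ^ n) := (Nat.even_pow.mpr ⟨even_two, by omega⟩)
  have h1 : 1 ≤ 2 ^ n := Nat.one_le_two_pow
  exact Nat.Even.sub_odd h1 h odd_one

theorem arith_plus {n m k : ℕ} (hn : 1 ≤ n)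
    (h : 2 ^ m = 2 ^ (2 * n) + (2 ^ n - 1) * 2 ^ k) : k = 2 * n ∧ m = 3 * n := by
  have hodd := odd_two_pow_sub_one hn
  have h1 : 2 ≤ 2 ^ n := by
    calc 2 = 2 ^ 1 := rfl
      _ ≤ 2 ^ n := Nat.pow_le_pow_right (by norm_num) hn
  rcases lt_trichotomy k (2 * n) with hk | hk | hk
  · exfalso
    obtain ⟨j, hj⟩ := Nat.exists_eq_add_of_lt hk
    have h2 : 2 ^ m = 2 ^ k * (2 ^ (j + 1) + (2 ^ n - 1)) := by
      rw [h, hj]; ring
    have h3 : Odd (2 ^ (j + 1) + (2 ^ n - 1)) :=
      (Nat.even_pow.mpr ⟨even_two, by omega⟩ : Even (2 ^ (j + 1))).add_odd hodd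
    have h4 := eq_one_of_odd_of_dvd_two_pow h3 (N := m) ⟨2 ^ k, by rw [h2, mul_comm]⟩
    have h5 : 2 ≤ 2 ^ (j + 1) := by
      calc 2 = 2 ^ 1 := rfl
        _ ≤ 2 ^ (j + 1) := Nat.pow_le_pow_right (by norm_num) (by omega)
    omega
  · refine ⟨hk, ?_⟩
    have h2 : 2 ^ m = 2 ^ (3 * n) := by
      rw [h, hk]
      have h3 : (2 : ℕ) ^ (3 * n) = 2 ^ n * 2 ^ (2 * n) := by rw [← pow_add]; congr 1; ring
      rw [h3]
      have h4 : (2 : ℕ) ^ n = 1 + (2 ^ n - 1) := by omega
      calc 2 ^ (2 * n) + (2 ^ n - 1) * 2 ^ (2 * n) = (1 + (2 ^ n - 1)) * 2 ^ (2 * n) := by ring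
        _ = 2 ^ n * 2 ^ (2 * n) := by rw [← h4]
    exact Nat.pow_right_injective (le_refl 2) h2
  · exfalso
    obtain ⟨j, hj⟩ := Nat.exists_eq_add_of_lt hk
    have h2 : 2 ^ m = 2 ^ (2 * n) * (2 ^ (j + 1) * (2 ^ n - 1) + 1) := by
      rw [h, hj]; ring
    have h3 : Odd (2 ^ (j + 1) * (2 ^ n - 1) + 1) :=
      ((Nat.even_pow.mpr ⟨even_two, by omega⟩ : Even (2 ^ (j + 1))).mul_right _).add_one
    have h4 := eq_one_of_odd_of_dvd_two_pow h3 (N := m) ⟨2 ^ (2 * n), by rw [h2, mul_comm]⟩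
    have h5 : 0 < 2 ^ (j + 1) * (2 ^ n - 1) := Nat.mul_pos (by positivity) (by omega)
    omega

theorem arith_minus {n m k : ℕ} (hn : 1 ≤ n)
    (h : 2 ^ m + (2 ^ n - 1) * 2 ^ k = 2 ^ (2 * n)) : m = n := by
  have hodd := odd_two_pow_sub_one hn
  have h1 : 2 ≤ 2 ^ n := by
    calc 2 = 2 ^ 1 := rfl
      _ ≤ 2 ^ n := Nat.pow_le_pow_right (by norm_num) hn
  rcases lt_trichotomy k m with hk | hk | hk
  · exfalso
    obtain ⟨j, hj⟩ := Nat.exists_eq_add_of_lt hk
    have h2 : 2 ^ (2 * n) = 2 ^ k * (2 ^ (j + 1) + (2 ^ n - 1)) := by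
      rw [← h, hj]; ring
    have h3 : Odd (2 ^ (j + 1) + (2 ^ n - 1)) :=
      (Nat.even_pow.mpr ⟨even_two, by omega⟩ : Even (2 ^ (j + 1))).add_odd hodd
    have h4 := eq_one_of_odd_of_dvd_two_pow h3 (N := 2 * n) ⟨2 ^ k, by rw [h2, mul_comm]⟩
    have h5 : 2 ≤ 2 ^ (j + 1) := by
      calc 2 = 2 ^ 1 := rfl
        _ ≤ 2 ^ (j + 1) := Nat.pow_le_pow_right (by norm_num) (by omega)
    omega
  · subst hk
    have h2 : 2 ^ (k + n) = 2 ^ (2 * n) := by
      rw [← h, pow_add]
      have h4 : (2 : ℕ) ^ n = 1 + (2 ^ n - 1) := by omega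
      calc 2 ^ k * 2 ^ n = 2 ^ k * (1 + (2 ^ n - 1)) := by rw [← h4]
        _ = 2 ^ k + (2 ^ n - 1) * 2 ^ k := by ring
    have := Nat.pow_right_injective (le_refl 2) h2
    omega
  · exfalso
    obtain ⟨j, hj⟩ := Nat.exists_eq_add_of_lt hk
    have h2 : 2 ^ (2 * n) = 2 ^ m * (2 ^ (j + 1) * (2 ^ n - 1) + 1) := by
      rw [← h, hj]; ring
    have h3 : Odd (2 ^ (j + 1) * (2 ^ n - 1) + 1) :=
      ((Nat.even_pow.mpr ⟨even_two, by omega⟩ : Even (2 ^ (j + 1))).mul_right _).add_one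
    have h4 := eq_one_of_odd_of_dvd_two_pow h3 (N := 2 * n) ⟨2 ^ m, by rw [h2, mul_comm]⟩
    have h5 : 0 < 2 ^ (j + 1) * (2 ^ n - 1) := Nat.mul_pos (by positivity) (by omega)
    omega

/-- The arithmetic of the square root count. -/
theorem arith {p q r c m n l : ℕ} (hp : p = 2 ^ m) (hq : q = 2 ^ n) (hr : r = 2 ^ l)
    (hn : 1 ≤ n) (hlt : n < m) (hcount : p = q + (q - 1) * c)
    (hS : ((q : ℤ) - c) ^ 2 = p * r) : p = q ^ 3 ∧ c = q * (q + 1) ∧ r = q := by
  have h1q : 1 ≤ q := by rw [hq]; exact Nat.one_le_two_pow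
  have h2 : (((q : ℤ) - c).natAbs) ^ 2 = 2 ^ (m + l) := by
    have h3 : ((((q : ℤ) - c).natAbs : ℤ)) ^ 2 = 2 ^ (m + l) := by
      rw [Int.natAbs_sq, hS, hp, hr]; push_cast; ring
    exact_mod_cast h3
  obtain ⟨k, -, hk⟩ : ∃ k ≤ m + l, ((q : ℤ) - c).natAbs = 2 ^ k := by
    rw [← Nat.dvd_prime_pow Nat.prime_two, ← h2]
    exact dvd_pow_self _ two_ne_zero
  have h2k : 2 * k = m + l := by
    rw [hk, ← pow_mul] at h2
    have := Nat.pow_right_injective (le_refl 2) h2
    omega
  have hqq : q * q = 2 ^ (2 * n) := by rw [hq, ← pow_add]; congr 1; ring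
  rcases Int.natAbs_eq ((q : ℤ) - c) with h | h
  · -- `c = q - 2 ^ k`
    exfalso
    rw [hk] at h
    have h4 : q = c + 2 ^ k := by
      have : (q : ℤ) = c + 2 ^ k := by push_cast at h; linarith
      exact_mod_cast this
    have h5 : 2 ^ m + (2 ^ n - 1) * 2 ^ k = 2 ^ (2 * n) := by
      rw [← hp, ← hq, ← hqq, hcount]
      have h6 : (q - 1) * q = (q - 1) * c + (q - 1) * 2 ^ k := by rw [← mul_add, ← h4]
      have h7 : q * q = q + (q - 1) * q := by
        have : q = (q - 1) + 1 := by omega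
        nth_rewrite 1 [this]
        ring
      rw [h7, h6]; ring
    have := arith_minus hn h5
    omega
  · rw [hk] at h
    have h4 : c = q + 2 ^ k := by
      have : (c : ℤ) = q + 2 ^ k := by push_cast at h; linarith
      exact_mod_cast this
    have h5 : 2 ^ m = 2 ^ (2 * n) + (2 ^ n - 1) * 2 ^ k := by
      rw [← hp, ← hq, ← hqq, hcount, h4]
      have h7 : q * q = q + (q - 1) * q := by
        have : q = (q - 1) + 1 := by omega
        nth_rewrite 1 [this]
        ring
      rw [h7]; ring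
    obtain ⟨hk2, hm3⟩ := arith_plus hn h5
    refine ⟨?_, ?_, ?_⟩
    · rw [hp, hq, hm3, ← pow_mul]; congr 1; ring
    · rw [h4, hk2, ← hqq]; ring
    · rw [hr, hq]; congr 1; omega

/-! ### Characters -/

section

variable {P : Type*} [Group P]

theorem exists_index_two [Finite P] (hP : IsPGroup 2 P) (H : Subgroup P) (hH : H ≠ ⊤) :
    ∃ M : Subgroup P, H ≤ M ∧ M.index = 2 := by
  have : Fact (Nat.Prime 2) := ⟨Nat.prime_two⟩
  obtain ⟨M, hM, hHM⟩ := (eq_top_or_exists_le_coatom H).resolve_left hH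
  exact ⟨M, hHM, Cfsg.Agent.Lib.FrattiniPGroup.index_of_coatom hP hM⟩

/-- The character with kernel a given subgroup of index two. -/
noncomputable def chr (M : Subgroup P) (hM : M.index = 2) : P →* ℤ :=
  open scoped Classical in
  { toFun := fun g => if g ∈ M then 1 else -1
    map_one' := by simp [M.one_mem]
    map_mul' := by
      intro a b
      have := Subgroup.mul_mem_iff_of_index_two hM (a := a) (b := b)
      by_cases ha : a ∈ M <;> by_cases hb : b ∈ M <;> simp [this, ha, hb] }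

theorem chr_of_mem {M : Subgroup P} (hM : M.index = 2) {g : P} (hg : g ∈ M) :
    chr M hM g = 1 := by
  classical
  show (if g ∈ M then (1 : ℤ) else -1) = 1
  rw [if_pos hg]

theorem chr_of_not_mem {M : Subgroup P} (hM : M.index = 2) {g : P} (hg : g ∉ M) :
    chr M hM g = -1 := by
  classical
  show (if g ∈ M then (1 : ℤ) else -1) = -1
  rw [if_neg hg]

/-- A proper subgroup of a finite `2`-group is in the kernel of a nontrivial character. -/
theorem exists_chr [Finite P] (hP : IsPGroup 2 P) (H : Subgroup P) (hH : H ≠ ⊤) :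
    ∃ χ : P →* ℤ, χ ≠ 1 ∧ ∀ h ∈ H, χ h = 1 := by
  obtain ⟨M, hHM, hM⟩ := exists_index_two hP H hH
  refine ⟨chr M hM, ?_, fun h hh => chr_of_mem hM (hHM hh)⟩
  intro h
  have hMtop : M = ⊤ := by
    rw [eq_top_iff]
    intro x _
    by_contra hx
    have h1 := chr_of_not_mem hM hx
    rw [h, MonoidHom.one_apply] at h1
    norm_num at h1
  rw [hMtop, index_top] at hM
  norm_num at hM

/-- The hypotheses. -/
structure Hyp (T : Subgroup P) : Prop where
  two : ∀ x : P, x ∈ T ↔ x * x = 1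
  central : ∀ t ∈ T, ∀ x : P, x * t = t * x
  sq : ∀ x : P, x * x ∈ T

namespace Hyp

variable {T : Subgroup P} (h : Hyp T)
include h

theorem conj_mem (x : P) {t : P} (ht : t ∈ T) : x * t * x⁻¹ ∈ T := by
  rw [h.central t ht, mul_inv_cancel_right]; exact ht

theorem normal : T.Normal := ⟨fun _ ht x => h.conj_mem x ht⟩

theorem comm_mem (x y : P) : ⁅x, y⁆ ∈ T := by
  have h1 : ⁅x, y⁆ = (x * y) * (x * y) * (y⁻¹ * (x * x)⁻¹ * y⁻¹⁻¹) * (y * y)⁻¹ := by
    rw [commutatorElement_def]; group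
  rw [h1]
  exact mul_mem (mul_mem (h.sq _) (h.conj_mem _ (inv_mem (h.sq _)))) (inv_mem (h.sq _))

theorem comm_mul (w x y : P) : ⁅w, x * y⁆ = ⁅w, x⁆ * ⁅w, y⁆ := by
  have h1 : ⁅w, x * y⁆ = ⁅w, x⁆ * (x * ⁅w, y⁆ * x⁻¹) := by
    simp only [commutatorElement_def]; group
  rw [h1, h.central _ (h.comm_mem w y), mul_inv_cancel_right]

theorem mul_comm' (w x y : P) : ⁅x * y, w⁆ = ⁅x, w⁆ * ⁅y, w⁆ := by
  have h1 : ⁅x * y, w⁆ = (x * ⁅y, w⁆ * x⁻¹) * ⁅x, w⁆ := by
    simp only [commutatorElement_def]; group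
  rw [h1, h.central _ (h.comm_mem y w), mul_inv_cancel_right, ← h.central _ (h.comm_mem y w)]

/-- The commutator homomorphism `x ↦ ⁅w, x⁆`. -/
def psi (w : P) : P →* T where
  toFun x := ⟨⁅w, x⁆, h.comm_mem w x⟩
  map_one' := Subtype.ext (commutatorElement_one_right w)
  map_mul' x y := Subtype.ext (h.comm_mul w x y)

/-- The squaring map. -/
def sqm (x : P) : T := ⟨x * x, h.sq x⟩

theorem sqm_mul (x y : P) : h.sqm (x * y) = h.psi y x * (h.sqm x * h.sqm y) := by
  apply Subtype.ext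
  change x * y * (x * y) = ⁅y, x⁆ * ((x * x) * (y * y))
  have h1 : y * x = ⁅y, x⁆ * (x * y) := by rw [commutatorElement_def]; group
  calc x * y * (x * y) = x * (y * x) * y := by group
    _ = x * (⁅y, x⁆ * (x * y)) * y := by rw [← h1]
    _ = (x * ⁅y, x⁆) * (x * y) * y := by group
    _ = (⁅y, x⁆ * x) * (x * y) * y := by rw [h.central _ (h.comm_mem y x)]
    _ = ⁅y, x⁆ * ((x * x) * (y * y)) := by group

theorem sqm_mul_self (x : P) : h.sqm x * h.sqm x = 1 := by
  apply Subtype.ext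
  exact (h.two _).mp (h.sq x)

/-- the radical of the form `χ ∘ [·,·]`. -/
def rad (χ : T →* ℤ) : Subgroup P where
  carrier := {z | χ.comp (h.psi z) = 1}
  one_mem' := by
    change χ.comp (h.psi 1) = 1
    ext x
    have : h.psi 1 x = 1 := Subtype.ext (commutatorElement_one_left x)
    rw [MonoidHom.comp_apply, this, map_one, MonoidHom.one_apply]
  mul_mem' := by
    intro a b ha hb
    change χ.comp (h.psi (a * b)) = 1
    have ha' : χ.comp (h.psi a) = 1 := ha
    have hb' : χ.comp (h.psi b) = 1 := hb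
    ext x
    have h1 : h.psi (a * b) x = h.psi a x * h.psi b x := Subtype.ext (h.mul_comm' x a b)
    have h2 := DFunLike.congr_fun ha' x
    have h3 := DFunLike.congr_fun hb' x
    rw [MonoidHom.comp_apply, MonoidHom.one_apply] at h2 h3
    rw [MonoidHom.comp_apply, h1, map_mul, h2, h3, MonoidHom.one_apply, mul_one]
  inv_mem' := by
    intro a ha
    change χ.comp (h.psi a⁻¹) = 1
    have ha' : χ.comp (h.psi a) = 1 := ha
    ext x
    have h1 : h.psi a x * h.psi a⁻¹ x = 1 := by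
      apply Subtype.ext
      have := h.mul_comm' x a a⁻¹
      rw [mul_inv_cancel, commutatorElement_one_left] at this
      exact this.symm
    have h2 := DFunLike.congr_fun ha' x
    rw [MonoidHom.comp_apply, MonoidHom.one_apply] at h2
    have h3 := congrArg χ h1
    rw [map_mul, h2, one_mul, map_one] at h3
    rw [MonoidHom.comp_apply, h3, MonoidHom.one_apply]

theorem mem_rad {χ : T →* ℤ} {z : P} : z ∈ h.rad χ ↔ χ.comp (h.psi z) = 1 := Iff.rfl

theorem le_rad (χ : T →* ℤ) : T ≤ h.rad χ := by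
  intro t ht
  rw [mem_rad]
  ext x
  have h1 : h.psi t x = 1 := by
    apply Subtype.ext
    change ⁅t, x⁆ = 1
    rw [commutatorElement_eq_one_iff_mul_comm]
    exact (h.central t ht x).symm
  rw [MonoidHom.comp_apply, h1, map_one, MonoidHom.one_apply]

variable [Fintype P]

/-- `S² = |P| Σ_{z ∈ R} χ(z²)`. -/
theorem sum_sq (χ : T →* ℤ) [DecidablePred (· ∈ h.rad χ)] :
    (∑ x : P, χ (h.sqm x)) ^ 2 =
      (Fintype.card P : ℤ) * ∑ z ∈ Finset.univ.filter (· ∈ h.rad χ), χ (h.sqm z) := by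
  classical
  calc (∑ x : P, χ (h.sqm x)) ^ 2 = ∑ x : P, ∑ y : P, χ (h.sqm x) * χ (h.sqm y) := by
        rw [pow_two, Finset.sum_mul_sum]
    _ = ∑ x : P, ∑ z : P, χ (h.sqm x) * χ (h.sqm (x * z)) := by
        refine Finset.sum_congr rfl fun x _ => ?_
        exact (Equiv.sum_comp (Equiv.mulLeft x) (fun y => χ (h.sqm x) * χ (h.sqm y))).symm
    _ = ∑ x : P, ∑ z : P, χ (h.sqm z) * χ (h.psi z x) := by
        refine Finset.sum_congr rfl fun x _ => Finset.sum_congr rfl fun z _ => ?_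
        rw [h.sqm_mul, map_mul, map_mul]
        have h1 : χ (h.sqm x) * χ (h.sqm x) = 1 := by rw [← map_mul, h.sqm_mul_self, map_one]
        calc χ (h.sqm x) * (χ (h.psi z x) * (χ (h.sqm x) * χ (h.sqm z))) =
            (χ (h.sqm x) * χ (h.sqm x)) * (χ (h.sqm z) * χ (h.psi z x)) := by ring
          _ = _ := by rw [h1, one_mul]
    _ = ∑ z : P, ∑ x : P, χ (h.sqm z) * χ (h.psi z x) := Finset.sum_comm
    _ = ∑ z : P, if z ∈ h.rad χ then (Fintype.card P : ℤ) * χ (h.sqm z) else 0 := by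
        refine Finset.sum_congr rfl fun z _ => ?_
        rw [← Finset.mul_sum]
        have h2 : ∑ x : P, χ (h.psi z x) = ((if χ.comp (h.psi z) = 1 then Fintype.card P else 0 : ℕ) : ℤ) := by
          rw [← sum_hom_units (χ.comp (h.psi z))]
          rfl
        rw [h2]
        by_cases hz : z ∈ h.rad χ
        · rw [if_pos hz, if_pos (h.mem_rad.mp hz)]; ring
        · rw [if_neg hz, if_neg (fun h' => hz (h.mem_rad.mpr h'))]; push_cast; ring
    _ = _ := by
        rw [Finset.mul_sum, Finset.sum_filter]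

/-- The sum over the radical is `0` or `|R|`. -/
theorem sum_rad (χ : T →* ℤ) [DecidablePred (· ∈ h.rad χ)] :
    (∑ z ∈ Finset.univ.filter (· ∈ h.rad χ), χ (h.sqm z)) = 0 ∨
    (∑ z ∈ Finset.univ.filter (· ∈ h.rad χ), χ (h.sqm z)) = Nat.card (h.rad χ) := by
  classical
  let f : h.rad χ →* ℤ :=
    { toFun := fun z => χ (h.sqm z)
      map_one' := by
        have : h.sqm 1 = 1 := Subtype.ext (mul_one 1)
        rw [OneMemClass.coe_one, this, map_one]
      map_mul' := by
        intro a b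
        have hb := DFunLike.congr_fun (h.mem_rad.mp b.2) (a : P)
        rw [MonoidHom.comp_apply, MonoidHom.one_apply] at hb
        rw [Subgroup.coe_mul, h.sqm_mul, map_mul, map_mul, hb, one_mul] }
  have h1 : (∑ z ∈ Finset.univ.filter (· ∈ h.rad χ), χ (h.sqm z)) = ∑ z : h.rad χ, f z := by
    rw [Finset.sum_subtype (Finset.univ.filter (· ∈ h.rad χ)) (p := (· ∈ h.rad χ))
      (fun x => by simp) (fun z => χ (h.sqm z))]
    rfl
  rw [h1, sum_hom_units f]
  by_cases hf : f = 1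
  · right; rw [if_pos hf, Nat.card_eq_fintype_card]
  · left; rw [if_neg hf]; rfl

/-- Summation over the fibres of the squaring map. -/
theorem sum_comp_sqm (c : ℕ) (hc : ∀ t ∈ T, t ≠ 1 → Nat.card {x : P // x * x = t} = c)
    [Fintype T] (F : T → ℤ) :
    ∑ x : P, F (h.sqm x) = c * ∑ t : T, F t + ((Nat.card T : ℤ) - c) * F 1 := by
  classical
  have hN : ∀ t : T, (((Finset.univ.filter (fun x : P => h.sqm x = t)).card : ℕ) : ℤ) =
      c + if t = 1 then ((Nat.card T : ℤ) - c) else 0 := by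
    intro t
    have h1 : (Finset.univ.filter (fun x : P => h.sqm x = t)).card =
        Nat.card {x : P // x * x = t} := by
      rw [Nat.card_eq_fintype_card, Fintype.card_subtype]
      congr 1
      ext x
      simp only [Finset.mem_filter, Finset.mem_univ, true_and]
      exact ⟨fun h' => congrArg Subtype.val h', fun h' => Subtype.ext h'⟩
    rw [h1]
    by_cases ht : t = 1
    · rw [if_pos ht, ht]
      have h2 : Nat.card {x : P // x * x = ((1 : T) : P)} = Nat.card T :=
        Nat.card_congr (Equiv.subtypeEquivRight fun x => by rw [OneMemClass.coe_one, ← h.two])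
      rw [h2]; ring
    · rw [if_neg ht, hc t t.2 (fun h' => ht (Subtype.ext h'))]; ring
  calc ∑ x : P, F (h.sqm x) = ∑ t : T, ∑ x ∈ Finset.univ.filter (fun x : P => h.sqm x = t),
        F (h.sqm x) := (Finset.sum_fiberwise _ _ _).symm
    _ = ∑ t : T, (((Finset.univ.filter (fun x : P => h.sqm x = t)).card : ℕ) : ℤ) * F t := by
        refine Finset.sum_congr rfl fun t _ => ?_
        rw [Finset.sum_congr rfl (g := fun _ => F t)]
        · rw [Finset.sum_const, nsmul_eq_mul]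
        · intro x hx
          rw [(Finset.mem_filter.mp hx).2]
    _ = ∑ t : T, (c * F t + if t = 1 then ((Nat.card T : ℤ) - c) * F 1 else 0) := by
        refine Finset.sum_congr rfl fun t _ => ?_
        rw [hN t]
        by_cases ht : t = 1
        · rw [if_pos ht, if_pos ht, ht]; ring
        · rw [if_neg ht, if_neg ht]; ring
    _ = _ := by
        rw [Finset.sum_add_distrib, ← Finset.mul_sum, Finset.sum_ite_eq' Finset.univ 1]
        simp

omit [Fintype P] in
/-- The theorem. -/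
theorem dichotomy [Finite P] (hP : IsPGroup 2 P) (hTbot : T ≠ ⊥) (hTtop : T ≠ ⊤) (c : ℕ)
    (hc : ∀ t ∈ T, t ≠ 1 → Nat.card {x : P // x * x = t} = c) :
    (Nat.card P = Nat.card T * Nat.card T ∧ c = Nat.card T) ∨
    (Nat.card P = Nat.card T ^ 3 ∧ c = Nat.card T * (Nat.card T + 1) ∧
      ∀ w, w ∉ T → ∀ t ∈ T, ∃ x, ⁅w, x⁆ = t) := by
  classical
  have : Fact (Nat.Prime 2) := ⟨Nat.prime_two⟩
  have := Fintype.ofFinite P
  have := Fintype.ofFinite T
  obtain ⟨m, hm⟩ := IsPGroup.iff_card.1 hP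
  obtain ⟨n, hn⟩ := IsPGroup.iff_card.1 (hP.to_subgroup T)
  have hn1 : 1 ≤ n := by
    by_contra h0
    have : n = 0 := by omega
    rw [this, pow_zero] at hn
    exact hTbot (Subgroup.card_eq_one.mp hn)
  have hlt : n < m := by
    have h1 : Nat.card T < Nat.card P := by
      have h2 : Nat.card T ≤ Nat.card P := Subgroup.card_le_card_group T
      rcases h2.lt_or_eq with h3 | h3
      · exact h3
      · exact absurd (Subgroup.card_eq_iff_eq_top T |>.mp h3) hTtop
    rw [hn, hm] at h1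
    exact (Nat.pow_lt_pow_iff_right (by norm_num)).mp h1
  have hq1 : 2 ≤ Nat.card T := by
    rw [hn]
    calc 2 = 2 ^ 1 := rfl
      _ ≤ 2 ^ n := Nat.pow_le_pow_right (by norm_num) hn1
  -- the count
  have hcount : Nat.card P = Nat.card T + (Nat.card T - 1) * c := by
    have h1 := h.sum_comp_sqm c hc (fun _ => 1)
    rw [Finset.sum_const, Finset.sum_const, Finset.card_univ, Finset.card_univ,
      ← Nat.card_eq_fintype_card, ← Nat.card_eq_fintype_card] at h1
    simp only [nsmul_eq_mul, mul_one] at h1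
    have h2 : (Nat.card P : ℤ) = Nat.card T + ((Nat.card T : ℤ) - 1) * c := by rw [h1]; ring
    have h3 : ((Nat.card T - 1 : ℕ) : ℤ) = (Nat.card T : ℤ) - 1 := by
      rw [Nat.cast_sub (by omega)]; rfl
    rw [← h3] at h2
    exact_mod_cast h2
  -- the character sums
  have key : ∀ χ : T →* ℤ, χ ≠ 1 → c = Nat.card T ∨
      (Nat.card P = Nat.card T ^ 3 ∧ c = Nat.card T * (Nat.card T + 1) ∧
        Nat.card (h.rad χ) = Nat.card T) := by
    intro χ hχ
    have h1 := h.sum_comp_sqm c hc χ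
    rw [sum_hom_units_eq_zero χ hχ, mul_zero, zero_add, map_one, mul_one] at h1
    have h2 := h.sum_sq χ
    rw [h1] at h2
    rcases h.sum_rad χ with h3 | h3
    · left
      rw [h3, mul_zero] at h2
      have h4 : (Nat.card T : ℤ) - c = 0 := by exact pow_eq_zero_iff two_ne_zero |>.mp h2
      have : (c : ℤ) = Nat.card T := by linarith
      exact_mod_cast this
    · right
      rw [h3, ← Nat.card_eq_fintype_card] at h2
      obtain ⟨l, hl⟩ := IsPGroup.iff_card.1 (hP.to_subgroup (h.rad χ))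
      exact arith hm hn hl hn1 hlt hcount h2
  obtain ⟨χ₀, hχ₀, -⟩ := exists_chr (hP.to_subgroup T) (⊥ : Subgroup T) (by
    intro h'
    have : Nat.card T = 1 := by
      have h2 : Nat.card (⊥ : Subgroup T) = Nat.card (⊤ : Subgroup T) := by rw [h']
      rw [Subgroup.card_bot, Subgroup.card_top] at h2
      exact h2.symm
    omega)
  rcases key χ₀ hχ₀ with h1 | ⟨h1, h2, -⟩
  · left
    refine ⟨?_, h1⟩
    rw [hcount, h1]
    obtain ⟨k, hk⟩ : ∃ k, Nat.card T = k + 1 := ⟨Nat.card T - 1, by omega⟩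
    rw [hk, Nat.add_sub_cancel]
    ring
  · right
    refine ⟨h1, h2, ?_⟩
    intro w hw t ht
    -- the range of the commutator map is everything
    have h3 : (h.psi w).range = ⊤ := by
      by_contra hne
      obtain ⟨χ, hχ, hχ1⟩ := exists_chr (hP.to_subgroup T) _ hne
      rcases key χ hχ with h4 | ⟨-, -, h4⟩
      · rw [h2] at h4
        nlinarith
      · have h5 : T = h.rad χ := Subgroup.eq_of_le_of_card_ge (h.le_rad χ) h4.le
        apply hw
        rw [h5, h.mem_rad]
        ext x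
        rw [MonoidHom.comp_apply, MonoidHom.one_apply]
        exact hχ1 _ ⟨x, rfl⟩
    have h4 : (⟨t, ht⟩ : T) ∈ (h.psi w).range := by rw [h3]; exact Subgroup.mem_top _
    obtain ⟨x, hx⟩ := h4
    exact ⟨x, congrArg Subtype.val hx⟩

end Hyp

end

end Cfsg.Agent.TwoFusion.SqCount
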