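import Mathlib
import Cfsg.Agent.TwoFusion.QuadFibre
import Cfsg.Agent.TwoFusion.SqCount

/-!
# Perfect groups acting on a `2`-group and centralizing its involutions

`Γ` acts on a finite `2`-group `P`, `A` is a perfect normal subgroup of `Γ`, the elements of order
at most two of `P` form a subgroup `T` fixed pointwise by `A`, and `Γ` permutes the involutions
of `P` transitively.  Then `A` acts trivially on `P`  (`smul_eq`).
-/

set_option autoImplicit false

namespace Cfsg.Agent.TwoFusion.PerfectOnTwo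

open Subgroup
open scoped commutatorElement

universe u v

/-! ### Perfect groups -/

theorem commutator_eq_top {Γ : Type*} [Group Γ] {A : Subgroup Γ} (hA : ⁅A, A⁆ = A) :
    commutator A = ⊤ := by
  apply Subgroup.map_injective A.subtype_injective
  rw [Subgroup.map_subtype_commutator, hA, ← MonoidHom.range_eq_map, Subgroup.range_subtype]

/-- A homomorphism from a perfect group to a solvable group is trivial. -/
theorem hom_eq_one {A P : Type*} [Group A] [Group P] [hP : Group.IsSolvable P]
    (hA : commutator A = ⊤) (f : A →* P) : ∀ a, f a = 1 := by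
  have key : ∀ n, f.range ≤ derivedSeries P n := by
    intro n
    induction n with
    | zero => exact le_top
    | succ n ih =>
      rw [derivedSeries_succ]
      have h1 : f.range = ⁅f.range, f.range⁆ := by
        rw [MonoidHom.range_eq_map, ← Subgroup.map_commutator, ← _root_.commutator_def, hA]
      rw [h1]
      exact Subgroup.commutator_mono ih ih
  obtain ⟨n, hn⟩ := hP.solvable
  intro a
  have h1 := key n ⟨a, rfl⟩
  rw [hn] at h1
  exact Subgroup.mem_bot.mp h1

section

variable {Γ : Type u} {P : Type v} [Group Γ] [Group P] [MulDistribMulAction Γ P]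

/-- `a ↦ x⁻¹ (a • x)` is a homomorphism when its values are fixed. -/
theorem smul_eq_of_fixed [Group.IsSolvable P] {A : Subgroup Γ} (hA : ⁅A, A⁆ = A) (x : P)
    (h : ∀ a ∈ A, ∀ b ∈ A, a • (x⁻¹ * (b • x)) = x⁻¹ * (b • x)) : ∀ a ∈ A, a • x = x := by
  let f : A →* P :=
    { toFun := fun a => x⁻¹ * ((a : Γ) • x)
      map_one' := by simp
      map_mul' := by
        intro a b
        have h1 := h a a.2 b b.2
        rw [smul_mul', smul_inv'] at h1
        have h2 : ((a : Γ) • ((b : Γ) • x)) = ((a : Γ) • x) * (x⁻¹ * ((b : Γ) • x)) := by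
          rw [← h1, mul_inv_cancel_left]
        rw [Subgroup.coe_mul, mul_smul, h2]
        group }
  intro a ha
  have h1 : x⁻¹ * (a • x) = 1 := hom_eq_one (commutator_eq_top hA) f ⟨a, ha⟩
  rw [inv_mul_eq_one] at h1
  exact h1.symm

/-! ### The last case -/

section quot

variable {T : Subgroup P} (h : SqCount.Hyp T)
include h

/-- When `|P| = |T|³`, `A` acts trivially on `P / T`. -/
theorem mem_of_card_cube [Finite P] (hP : IsPGroup 2 P) (A : Subgroup Γ) (hA : ⁅A, A⁆ = A)
    (hfix : ∀ a ∈ A, ∀ x ∈ T, a • x = x) (hTbot : T ≠ ⊥)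
    (hFT : ∀ (H : Type v) [Group H] [Finite H], Odd (Nat.card H) → Group.IsSolvable H)
    (hcard : Nat.card P = Nat.card T ^ 3)
    (hfib : ∀ t ∈ T, t ≠ 1 → Nat.card {x : P // x * x = t} = Nat.card T * (Nat.card T + 1))
    (hsurj : ∀ w, w ∉ T → ∀ t ∈ T, ∃ x, ⁅w, x⁆ = t) :
    ∀ a ∈ A, ∀ x : P, x⁻¹ * (a • x) ∈ T := by
  classical
  have : Fact (Nat.Prime 2) := ⟨Nat.prime_two⟩
  have : T.Normal := h.normal
  let _ : CommGroup T :=
    { (inferInstance : Group T) with
      mul_comm := fun a b => Subtype.ext (h.central b b.2 a) }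
  have hVcomm : ∀ a b : P ⧸ T, a * b = b * a := by
    intro a b
    obtain ⟨x, rfl⟩ := QuotientGroup.mk_surjective a
    obtain ⟨y, rfl⟩ := QuotientGroup.mk_surjective b
    rw [← QuotientGroup.mk_mul, ← QuotientGroup.mk_mul, QuotientGroup.eq]
    have h1 : (x * y)⁻¹ * (y * x) = ⁅y⁻¹, x⁻¹⁆ := by rw [commutatorElement_def]; group
    rw [h1]
    exact h.comm_mem _ _
  let _ : CommGroup (P ⧸ T) :=
    { (inferInstance : Group (P ⧸ T)) with mul_comm := hVcomm }
  have hTsq : ∀ t : T, t * t = 1 := fun t => Subtype.ext ((h.two _).mp t.2)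
  -- the squaring map
  let sq : P ⧸ T → T := fun v => h.sqm (Function.surjInv QuotientGroup.mk_surjective v)
  have hsq : ∀ x : P, sq (x : P ⧸ T) = h.sqm x := by
    intro x
    have h1 : ((Function.surjInv QuotientGroup.mk_surjective (x : P ⧸ T) : P) : P ⧸ T) =
        (x : P ⧸ T) := Function.surjInv_eq QuotientGroup.mk_surjective _
    rw [QuotientGroup.eq] at h1
    apply Subtype.ext
    change Function.surjInv QuotientGroup.mk_surjective (x : P ⧸ T) *
      Function.surjInv QuotientGroup.mk_surjective (x : P ⧸ T) = x * x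
    set y := Function.surjInv QuotientGroup.mk_surjective (x : P ⧸ T)
    have h2 : x = y * (y⁻¹ * x) := by group
    have h3 := (h.two _).mp h1
    have h4 := h.central _ h1 y
    calc y * y = y * y * ((y⁻¹ * x) * (y⁻¹ * x)) := by rw [h3, mul_one]
      _ = y * (y * (y⁻¹ * x)) * (y⁻¹ * x) := by group
      _ = y * ((y⁻¹ * x) * y) * (y⁻¹ * x) := by rw [h4]
      _ = x * x := by group
  -- the commutator form
  let B₁ : P →* (P ⧸ T →* T) :=
    { toFun := fun x => QuotientGroup.lift T (h.psi x) (by
        intro t ht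
        apply Subtype.ext
        change ⁅x, t⁆ = 1
        rw [commutatorElement_eq_one_iff_mul_comm]
        exact h.central t ht x)
      map_one' := by
        ext y
        change ⁅(1 : P), y⁆ = 1
        exact commutatorElement_one_left y
      map_mul' := by
        intro a b
        ext y
        change ⁅a * b, y⁆ = ⁅a, y⁆ * ⁅b, y⁆
        exact h.mul_comm' y a b }
  let B : P ⧸ T →* (P ⧸ T →* T) := QuotientGroup.lift T B₁ (by
    intro t ht
    ext y
    change ⁅t, y⁆ = 1
    rw [commutatorElement_eq_one_iff_mul_comm]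
    exact (h.central t ht y).symm)
  have hB : ∀ x y : P, ((B (x : P ⧸ T) (y : P ⧸ T) : T) : P) = ⁅x, y⁆ := fun x y => rfl
  -- the action
  have hTinv : ∀ a : A, T.map (MulDistribMulAction.toMulEquiv P (a : Γ)).toMonoidHom = T := by
    intro a
    ext t
    constructor
    · rintro ⟨s, hs, rfl⟩
      change (a : Γ) • s ∈ T
      rw [hfix a a.2 s hs]; exact hs
    · intro ht
      exact ⟨t, ht, hfix a a.2 t ht⟩
  let ρ : A →* MulAut (P ⧸ T) :=
    { toFun := fun a => QuotientGroup.congr T T (MulDistribMulAction.toMulEquiv P (a : Γ))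
        (hTinv a)
      map_one' := by
        ext v
        obtain ⟨y, rfl⟩ := QuotientGroup.mk_surjective v
        change ((((1 : A) : Γ) • y : P) : P ⧸ T) = (y : P ⧸ T)
        rw [OneMemClass.coe_one, one_smul]
      map_mul' := by
        intro a b
        ext v
        obtain ⟨y, rfl⟩ := QuotientGroup.mk_surjective v
        change ((((a * b : A) : Γ) • y : P) : P ⧸ T) = (((a : Γ) • ((b : Γ) • y) : P) : P ⧸ T)
        rw [Subgroup.coe_mul, mul_smul] }
  have hρ : ∀ (a : A) (x : P), ρ a (x : P ⧸ T) = (((a : Γ) • x : P) : P ⧸ T) := fun a x => rfl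
  have hperf : commutator ρ.range = ⊤ := by
    have h1 := map_derivedSeries_eq ρ.rangeRestrict_surjective 1
    rw [derivedSeries_one, derivedSeries_one, commutator_eq_top hA] at h1
    rw [← h1, ← MonoidHom.range_eq_map]
    exact MonoidHom.range_eq_top.mpr ρ.rangeRestrict_surjective
  have hTcard : 2 ≤ Nat.card T := by
    have h1 : 1 < Nat.card T := by
      by_contra h0
      have h2 : 0 < Nat.card T := Nat.card_pos
      exact hTbot (Subgroup.card_eq_one.mp (by omega))
    exact h1
  have hVcard : Nat.card (P ⧸ T) = Nat.card T * Nat.card T := by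
    have h1 := Subgroup.card_eq_card_quotient_mul_card_subgroup T
    rw [hcard] at h1
    have h2 : Nat.card T * Nat.card T * Nat.card T = Nat.card (P ⧸ T) * Nat.card T := by
      rw [← h1]; ring
    exact (Nat.eq_of_mul_eq_mul_right Nat.card_pos h2).symm
  have hTeven : Even (Nat.card T) := by
    obtain ⟨n, hn⟩ := IsPGroup.iff_card.1 (hP.to_subgroup T)
    rw [hn]
    refine Nat.even_pow.mpr ⟨even_two, ?_⟩
    rintro rfl
    rw [pow_zero] at hn
    omega
  have hodd : Odd (Nat.card ρ.range) := by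
    apply QuadFibre.odd_card_of_perfect (G := ρ.range) (V := P ⧸ T) (T := T) hperf sq B
    · intro v
      obtain ⟨x, rfl⟩ := QuotientGroup.mk_surjective v
      rw [← QuotientGroup.mk_mul, QuotientGroup.eq_one_iff]
      exact h.sq x
    · rintro ⟨_, a, rfl⟩ v
      obtain ⟨x, rfl⟩ := QuotientGroup.mk_surjective v
      change sq (ρ a (x : P ⧸ T)) = sq (x : P ⧸ T)
      rw [hρ, hsq, hsq]
      apply Subtype.ext
      change ((a : Γ) • x) * ((a : Γ) • x) = x * x
      rw [← smul_mul', hfix a a.2 _ (h.sq x)]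
    · rintro ⟨_, a, rfl⟩ v w
      obtain ⟨x, rfl⟩ := QuotientGroup.mk_surjective v
      obtain ⟨y, rfl⟩ := QuotientGroup.mk_surjective w
      change B (ρ a (x : P ⧸ T)) (ρ a (y : P ⧸ T)) = B (x : P ⧸ T) (y : P ⧸ T)
      rw [hρ, hρ]
      apply Subtype.ext
      rw [hB, hB]
      have h1 : ⁅(a : Γ) • x, (a : Γ) • y⁆ = (a : Γ) • ⁅x, y⁆ := by
        simp only [commutatorElement_def, smul_mul', smul_inv']
      rw [h1, hfix a a.2 _ (h.comm_mem x y)]
    · intro v
      obtain ⟨x, rfl⟩ := QuotientGroup.mk_surjective v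
      apply Subtype.ext
      rw [hB, commutatorElement_self]; rfl
    · intro w hw
      obtain ⟨w₀, rfl⟩ := QuotientGroup.mk_surjective w
      have hw₀ : w₀ ∉ T := fun h' => hw ((QuotientGroup.eq_one_iff w₀).mpr h')
      let φ : P ⧸ T →* T :=
        { toFun := fun v => B v (w₀ : P ⧸ T)
          map_one' := by rw [map_one]; rfl
          map_mul' := fun a b => by rw [map_mul]; rfl }
      have h1 : QuadFibre.perp B (w₀ : P ⧸ T) = φ.ker := by
        ext v; rfl
      have h2 : φ.range = ⊤ := by
        rw [eq_top_iff]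
        intro t _
        obtain ⟨x, hx⟩ := hsurj w₀ hw₀ t⁻¹ (inv_mem t.2)
        refine ⟨(x : P ⧸ T), ?_⟩
        apply Subtype.ext
        change ⁅x, w₀⁆ = t
        rw [← commutatorElement_inv, hx, inv_inv]
      have h3 : Nat.card φ.range * Nat.card φ.ker = Nat.card (P ⧸ T) := by
        rw [mul_comm]
        have := Subgroup.card_mul_index φ.ker
        rwa [Subgroup.index_ker] at this
      rw [h2, Subgroup.card_top, hVcard] at h3
      rw [h1]
      exact Nat.eq_of_mul_eq_mul_left Nat.card_pos h3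
    · intro t ht
      have h1 := hfib t t.2 (fun h' => ht (Subtype.ext h'))
      have h2 : Nat.card {x : P // x * x = (t : P)} =
          Nat.card (T × {v : P ⧸ T // sq v = t}) := by
        refine Nat.card_congr (Equiv.trans ?_
          (QuotientGroup.preimageMkEquivSubgroupProdSet T {v : P ⧸ T | sq v = t}))
        refine Equiv.subtypeEquivRight fun x => ?_
        change x * x = (t : P) ↔ sq (x : P ⧸ T) = t
        rw [hsq]
        exact ⟨fun h' => Subtype.ext h', fun h' => congrArg Subtype.val h'⟩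
      rw [h2, Nat.card_prod] at h1
      rw [Nat.eq_of_mul_eq_mul_left Nat.card_pos h1]
      exact hTeven.add_one
    · change sq ((1 : P) : P ⧸ T) = 1
      rw [hsq]
      exact Subtype.ext (mul_one 1)
    · exact hVcard
    · exact hTcard
  have hsolv : Group.IsSolvable ρ.range := hFT _ hodd
  intro a ha x
  have h1 := hom_eq_one (commutator_eq_top hA) ρ.rangeRestrict ⟨a, ha⟩
  have h2 : ρ ⟨a, ha⟩ = 1 := congrArg Subtype.val h1
  have h3 : ρ ⟨a, ha⟩ (x : P ⧸ T) = (x : P ⧸ T) := by rw [h2]; rfl
  rw [hρ] at h3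
  exact QuotientGroup.eq.mp h3.symm

end quot

/-! ### The core -/

theorem core [Finite P] (hP : IsPGroup 2 P) (A : Subgroup Γ) [A.Normal] (hA : ⁅A, A⁆ = A)
    (T : Subgroup P) (hT : ∀ x, x ∈ T ↔ x * x = 1) (hfix : ∀ a ∈ A, ∀ x ∈ T, a • x = x)
    (htr : ∀ x ∈ T, ∀ y ∈ T, x ≠ 1 → y ≠ 1 → ∃ g : Γ, g • x = y)
    (hFT : ∀ (H : Type v) [Group H] [Finite H], Odd (Nat.card H) → Group.IsSolvable H)
    (hind : ∀ R : Subgroup P, R ≠ ⊤ → (∀ g : Γ, ∀ x ∈ R, g • x ∈ R) →
      ∀ a ∈ A, ∀ x ∈ R, a • x = x) :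
    ∀ a ∈ A, ∀ x : P, a • x = x := by
  have : Fact (Nat.Prime 2) := ⟨Nat.prime_two⟩
  have hnil : Group.IsNilpotent P := hP.isNilpotent
  have hsolv : Group.IsSolvable P := IsNilpotent.to_isSolvable
  by_contra hcon
  -- `[P, A]`
  let K : Subgroup P := closure {y | ∃ a ∈ A, ∃ x : P, y = x⁻¹ * (a • x)}
  have hKmem : ∀ a ∈ A, ∀ x : P, x⁻¹ * (a • x) ∈ K := fun a ha x => subset_closure ⟨a, ha, x, rfl⟩
  have hKinv : ∀ g : Γ, ∀ x ∈ K, g • x ∈ K := by
    intro g x hx
    induction hx using Subgroup.closure_induction with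
    | mem x hx =>
      obtain ⟨a, ha, y, rfl⟩ := hx
      have h1 : g • (y⁻¹ * (a • y)) = (g • y)⁻¹ * ((g * a * g⁻¹) • (g • y)) := by
        rw [smul_mul', smul_inv', mul_smul, mul_smul, inv_smul_smul]
      rw [h1]
      exact hKmem _ (Subgroup.Normal.conj_mem inferInstance a ha g) _
    | one => rw [smul_one]; exact one_mem _
    | mul x y _ _ hx hy => rw [smul_mul']; exact mul_mem hx hy
    | inv x _ hx => rw [smul_inv']; exact inv_mem hx
  have hKtop : K = ⊤ := by
    by_contra hne
    apply hcon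
    intro a ha x
    exact smul_eq_of_fixed hA x (fun a ha b hb => hind K hne hKinv a ha _ (hKmem b hb x)) a ha
  have hTtop : T ≠ ⊤ := fun h => hcon fun a ha x => hfix a ha x (h ▸ mem_top x)
  -- the subgroup generated by the squares
  let Φ : Subgroup P := closure {y | ∃ x : P, y = x * x}
  have hΦmem : ∀ x : P, x * x ∈ Φ := fun x => subset_closure ⟨x, rfl⟩
  have hΦinv : ∀ g : Γ, ∀ x ∈ Φ, g • x ∈ Φ := by
    intro g x hx
    induction hx using Subgroup.closure_induction with
    | mem x hx =>
      obtain ⟨y, rfl⟩ := hx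
      rw [smul_mul']
      exact hΦmem _
    | one => rw [smul_one]; exact one_mem _
    | mul x y _ _ hx hy => rw [smul_mul']; exact mul_mem hx hy
    | inv x _ hx => rw [smul_inv']; exact inv_mem hx
  have hΦconj : ∀ y : P, ∀ x ∈ Φ, y * x * y⁻¹ ∈ Φ := by
    intro y x hx
    induction hx using Subgroup.closure_induction with
    | mem x hx =>
      obtain ⟨z, rfl⟩ := hx
      have h1 : y * (z * z) * y⁻¹ = (y * z * y⁻¹) * (y * z * y⁻¹) := by group
      rw [h1]
      exact hΦmem _
    | one => rw [mul_one, mul_inv_cancel]; exact one_mem _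
    | mul a b _ _ ha hb =>
      have h1 : y * (a * b) * y⁻¹ = (y * a * y⁻¹) * (y * b * y⁻¹) := by group
      rw [h1]; exact mul_mem ha hb
    | inv a _ ha =>
      have h1 : y * a⁻¹ * y⁻¹ = (y * a * y⁻¹)⁻¹ := by group
      rw [h1]; exact inv_mem ha
  have hbot : (⊥ : Subgroup P) ≠ ⊤ := by
    intro h
    apply hTtop
    rw [eq_top_iff, ← h]
    exact bot_le
  have hΦtop : Φ ≠ ⊤ := by
    obtain ⟨M, -, hM⟩ := SqCount.exists_index_two hP ⊥ hbot
    intro h
    have h1 : Φ ≤ M := by
      rw [closure_le]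
      rintro _ ⟨x, rfl⟩
      exact Subgroup.mul_self_mem_of_index_two hM x
    rw [h, top_le_iff] at h1
    rw [h1, index_top] at hM
    norm_num at hM
  have hΦfix : ∀ a ∈ A, ∀ x ∈ Φ, a • x = x := hind Φ hΦtop hΦinv
  -- the squares are central
  have hΦcent : ∀ r ∈ Φ, ∀ x : P, x * r = r * x := by
    intro r hr x
    have h1 : K ≤ centralizer {r} := by
      rw [closure_le]
      rintro _ ⟨a, ha, y, rfl⟩
      rw [SetLike.mem_coe, mem_centralizer_singleton_iff]
      have h2 := hΦfix a ha _ (hΦconj y r hr)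
      rw [smul_mul', smul_mul', smul_inv', hΦfix a ha r hr] at h2
      have h3 : (a • y) * r = y * r * y⁻¹ * (a • y) := by
        rw [← h2]; group
      rw [mul_assoc, h3]
      group
    have h2 : x ∈ centralizer {r} := h1 (hKtop ▸ mem_top x)
    rw [mem_centralizer_singleton_iff] at h2
    exact h2
  have hcomm : ∀ x y : P, ⁅x, y⁆ ∈ Φ := by
    intro x y
    have h1 : ⁅x, y⁆ = (x * y) * (x * y) * (y⁻¹ * (x * x)⁻¹ * y⁻¹⁻¹) * (y * y)⁻¹ := by
      rw [commutatorElement_def]; group
    rw [h1]
    exact mul_mem (mul_mem (hΦmem _) (hΦconj _ _ (inv_mem (hΦmem _)))) (inv_mem (hΦmem _))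
  -- the fourth powers
  have hcsq : ∀ x y : P, ⁅y, x⁆ * ⁅y, x⁆ = 1 := by
    intro x y
    have h1 : ⁅y * y, x⁆ = (y * ⁅y, x⁆ * y⁻¹) * ⁅y, x⁆ := by
      simp only [commutatorElement_def]; group
    rw [hΦcent _ (hcomm y x) y, mul_inv_cancel_right] at h1
    rw [← h1, commutatorElement_eq_one_iff_mul_comm]
    exact (hΦcent _ (hΦmem y) x).symm
  let four : P →* P :=
    { toFun := fun x => (x * x) * (x * x)
      map_one' := by simp
      map_mul' := by
        intro x y
        have h1 : (x * y) * (x * y) = ⁅y, x⁆ * ((x * x) * (y * y)) := by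
          have h1 : y * x = ⁅y, x⁆ * (x * y) := by rw [commutatorElement_def]; group
          calc x * y * (x * y) = x * (y * x) * y := by group
            _ = x * (⁅y, x⁆ * (x * y)) * y := by rw [← h1]
            _ = (x * ⁅y, x⁆) * (x * y) * y := by group
            _ = (⁅y, x⁆ * x) * (x * y) * y := by rw [hΦcent _ (hcomm y x)]
            _ = ⁅y, x⁆ * ((x * x) * (y * y)) := by group
        have h2 := hΦcent _ (hcomm y x)
        have h3 := hΦcent _ (hΦmem x)
        have h4 := hcsq x y
        change (x * y) * (x * y) * ((x * y) * (x * y)) = _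
        rw [h1]
        calc ⁅y, x⁆ * ((x * x) * (y * y)) * (⁅y, x⁆ * ((x * x) * (y * y)))
            = ⁅y, x⁆ * (((x * x) * (y * y)) * ⁅y, x⁆) * ((x * x) * (y * y)) := by group
          _ = ⁅y, x⁆ * (⁅y, x⁆ * ((x * x) * (y * y))) * ((x * x) * (y * y)) := by
              rw [h2 ((x * x) * (y * y))]
          _ = (⁅y, x⁆ * ⁅y, x⁆) * ((x * x) * ((y * y) * (x * x)) * (y * y)) := by group
          _ = (x * x) * ((x * x) * (y * y)) * (y * y) := by rw [h4, one_mul, h3 (y * y)]
          _ = _ := by group }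
  have hfour : ∀ x : P, (x * x) * (x * x) = 1 := by
    intro x
    have h1 : K ≤ four.ker := by
      rw [closure_le]
      rintro _ ⟨a, ha, y, rfl⟩
      rw [SetLike.mem_coe, MonoidHom.mem_ker, map_mul, map_inv]
      have h2 : four (a • y) = four y := by
        change ((a • y) * (a • y)) * ((a • y) * (a • y)) = (y * y) * (y * y)
        rw [← smul_mul', hΦfix a ha _ (hΦmem y)]
      rw [h2, inv_mul_cancel]
    have h2 : x ∈ four.ker := h1 (hKtop ▸ mem_top x)
    exact h2
  have hΦT : Φ ≤ T := by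
    rw [closure_le]
    rintro _ ⟨x, rfl⟩
    exact (hT _).mpr (hfour x)
  have hΦbot : Φ ≠ ⊥ := by
    intro h
    apply hTtop
    rw [eq_top_iff]
    intro x _
    rw [hT]
    have h1 := hΦmem x
    rw [h] at h1
    exact Subgroup.mem_bot.mp h1
  obtain ⟨r, hr, hr1⟩ : ∃ r : P, r ∈ Φ ∧ r ≠ 1 := by
    obtain ⟨r, hr⟩ := Subgroup.ne_bot_iff_exists_ne_one.mp hΦbot
    exact ⟨r.1, r.2, fun h => hr (Subtype.ext h)⟩
  have hTΦ : T ≤ Φ := by
    intro t ht
    by_cases ht1 : t = 1
    · rw [ht1]; exact one_mem _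
    · obtain ⟨g, rfl⟩ := htr r (hΦT hr) t ht hr1 ht1
      exact hΦinv g r hr
  have hTbot : T ≠ ⊥ := by
    intro h
    have h1 := hΦT hr
    rw [h] at h1
    exact hr1 (Subgroup.mem_bot.mp h1)
  have h : SqCount.Hyp T :=
    { two := hT
      central := fun t ht x => hΦcent t (hTΦ ht) x
      sq := fun x => hΦT (hΦmem x) }
  have hroots : ∀ t ∈ T, t ≠ 1 →
      Nat.card {x : P // x * x = t} = Nat.card {x : P // x * x = r} := by
    intro t ht ht1
    obtain ⟨g, rfl⟩ := htr r (hΦT hr) t ht hr1 ht1
    refine (Nat.card_congr ((MulAction.toPerm g : Equiv.Perm P).subtypeEquiv fun x => ?_)).symm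
    change x * x = r ↔ (g • x) * (g • x) = g • r
    rw [← smul_mul']
    exact ⟨fun h' => by rw [h'], fun h' => smul_left_cancel g h'⟩
  have hKT : ∀ a ∈ A, ∀ x : P, x⁻¹ * (a • x) ∈ T := by
    rcases h.dichotomy hP hTbot hTtop _ hroots with ⟨-, h2⟩ | ⟨h1, h2, h3⟩
    · intro a ha x
      by_cases hx : x ∈ T
      · rw [hfix a ha x hx, inv_mul_cancel]; exact one_mem _
      · have hx1 : x * x ≠ 1 := fun h' => hx ((hT x).mpr h')
        have h3 := hroots (x * x) (h.sq x) hx1
        rw [h2] at h3
        -- the coset `x T` is the whole fibre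
        let f : T → {y : P // y * y = x * x} := fun s => ⟨x * s, by
          have hs := (hT s).mp s.2
          have hs' := h.central s s.2 x
          calc x * s * (x * s) = x * (s * x) * s := by group
            _ = x * (x * s) * s := by rw [hs']
            _ = x * x * (s * s) := by group
            _ = x * x := by rw [hs, mul_one]⟩
        have hf : Function.Injective f := by
          intro s s' hss
          have := congrArg Subtype.val hss
          exact Subtype.ext (mul_left_cancel this)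
        have hf' : Function.Bijective f :=
          Function.Injective.bijective_of_nat_card_le hf h3.le
        obtain ⟨s, hs⟩ := hf'.2 ⟨a • x, by rw [← smul_mul', hfix a ha _ (h.sq x)]⟩
        have hs' : x * s = a • x := congrArg Subtype.val hs
        rw [← hs', inv_mul_cancel_left]
        exact s.2
    · exact mem_of_card_cube h hP A hA hfix hTbot hFT h1
        (fun t ht ht1 => by rw [hroots t ht ht1, h2]) h3
  apply hTtop
  rw [← top_le_iff, ← hKtop, closure_le]
  rintro _ ⟨a, ha, x, rfl⟩
  exact hKT a ha x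

end

/-- The action of `Γ` on an invariant subgroup. -/
@[instance_reducible] def restrict {Γ : Type u} {P : Type v} [Group Γ] [Group P] [MulDistribMulAction Γ P]
    (R : Subgroup P) (hR : ∀ g : Γ, ∀ x ∈ R, g • x ∈ R) : MulDistribMulAction Γ R where
  smul g x := ⟨g • (x : P), hR g x x.2⟩
  one_smul x := Subtype.ext (one_smul Γ (x : P))
  mul_smul g g' x := Subtype.ext (mul_smul g g' (x : P))
  smul_mul g x y := Subtype.ext (smul_mul' g (x : P) (y : P))
  smul_one g := Subtype.ext (smul_one g)

/-- **Lemma A.**  A perfect normal subgroup `A` of `Γ` fixing the elements of order at most two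
of a finite `2`-group `P`, these forming a subgroup `T` whose nontrivial elements are permuted
transitively by `Γ`, acts trivially on `P`. -/
theorem smul_eq {Γ : Type u} [Group Γ] (A : Subgroup Γ) [A.Normal] (hA : ⁅A, A⁆ = A)
    (hFT : ∀ (H : Type v) [Group H] [Finite H], Odd (Nat.card H) → Group.IsSolvable H)
    {P : Type v} [Group P] [Finite P] [MulDistribMulAction Γ P] (hP : IsPGroup 2 P)
    (T : Subgroup P) (hT : ∀ x, x ∈ T ↔ x * x = 1) (hfix : ∀ a ∈ A, ∀ x ∈ T, a • x = x)
    (htr : ∀ x ∈ T, ∀ y ∈ T, x ≠ 1 → y ≠ 1 → ∃ g : Γ, g • x = y) :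
    ∀ a ∈ A, ∀ x : P, a • x = x := by
  have main : ∀ n : ℕ, ∀ (P : Type v) [Group P] [Finite P] [MulDistribMulAction Γ P],
      Nat.card P = n → IsPGroup 2 P → ∀ T : Subgroup P, (∀ x, x ∈ T ↔ x * x = 1) →
      (∀ a ∈ A, ∀ x ∈ T, a • x = x) →
      (∀ x ∈ T, ∀ y ∈ T, x ≠ 1 → y ≠ 1 → ∃ g : Γ, g • x = y) →
      ∀ a ∈ A, ∀ x : P, a • x = x := by
    intro n
    induction n using Nat.strong_induction_on with
    | _ n ih =>
      intro P _ _ _ hn hP T hT hfix htr
      apply core hP A hA T hT hfix htr hFT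
      intro R hR hRinv a ha x hx
      let _ : MulDistribMulAction Γ R := restrict R hRinv
      have hlt : Nat.card R < n := by
        have h2 : Nat.card R ≤ Nat.card P := Subgroup.card_le_card_group R
        rcases h2.lt_or_eq with h3 | h3
        · rwa [hn] at h3
        · exact absurd (Subgroup.card_eq_iff_eq_top R |>.mp h3) hR
      have h1 := ih (Nat.card R) hlt R rfl (hP.to_subgroup R) (T.subgroupOf R)
        (by
          intro y
          rw [mem_subgroupOf, hT]
          exact ⟨fun h' => Subtype.ext h', fun h' => congrArg Subtype.val h'⟩)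
        (fun a ha y hy => Subtype.ext (hfix a ha y (mem_subgroupOf.mp hy)))
        (by
          intro y hy z hz hy1 hz1
          obtain ⟨g, hg⟩ := htr y (mem_subgroupOf.mp hy) z (mem_subgroupOf.mp hz)
            (fun h' => hy1 (Subtype.ext h')) (fun h' => hz1 (Subtype.ext h'))
          exact ⟨g, Subtype.ext hg⟩) a ha ⟨x, hx⟩
      exact congrArg Subtype.val h1
  exact main _ P rfl hP T hT hfix htr

end Cfsg.Agent.TwoFusion.PerfectOnTwo
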