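import Mathlib
import Cfsg.Agent.TwoFusion.CentEndSimple
import Cfsg.Agent.TwoFusion.CentResidualBasic
import Cfsg.Agent.TwoFusion.PerfectOnTwo

/-!
# The end theorem for the residual theorem (S1173)

`X` a simple normal subgroup of `G` with trivial centralizer, `T ≤ X` strongly closed and
elementary abelian, `A` a perfect group centralizing `T`: then `A = 1`.
-/

set_option autoImplicit false

namespace Cfsg.Agent.TwoFusion.CentEnd

open Subgroup Cfsg
open scoped commutatorElement
open Cfsg.Agent.TwoFusion.CentResidual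
open Cfsg.Agent.TwoFusion.CentEndSimple

universe u

/-! ### Abelian `2`-groups -/

/-- A perfect group centralizing the involutions of an abelian `2`-group centralizes it. -/
theorem smul_eq_of_comm {Γ P : Type*} [Group Γ] [Group P] [MulDistribMulAction Γ P]
    (hP : ∀ x y : P, x * y = y * x) {A : Subgroup Γ} (hA : ⁅A, A⁆ = A)
    (hfix : ∀ a ∈ A, ∀ x : P, x * x = 1 → a • x = x) :
    ∀ (k : ℕ) (x : P), x ^ 2 ^ k = 1 → ∀ a ∈ A, a • x = x := by
  let _ : CommGroup P := { (inferInstance : Group P) with mul_comm := hP }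
  have hsolv : Group.IsSolvable P := inferInstance
  intro k
  induction k with
  | zero =>
    intro x hx a ha
    rw [pow_zero, pow_one] at hx
    rw [hx, smul_one]
  | succ k ih =>
    intro x hx
    have h1 : (x * x) ^ 2 ^ k = 1 := by
      rw [← pow_two, ← pow_mul, ← pow_succ']; exact hx
    have h2 := ih (x * x) h1
    apply PerfectOnTwo.smul_eq_of_fixed hA x
    intro a ha b hb
    apply hfix a ha
    have h3 : x⁻¹ * (b • x) * (x⁻¹ * (b • x)) = (x * x)⁻¹ * ((b • x) * (b • x)) := by
      calc x⁻¹ * (b • x) * (x⁻¹ * (b • x)) = x⁻¹ * ((b • x) * x⁻¹) * (b • x) := by group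
        _ = x⁻¹ * (x⁻¹ * (b • x)) * (b • x) := by rw [hP (b • x) x⁻¹]
        _ = _ := by group
    rw [h3, ← smul_mul', h2 b hb, inv_mul_cancel]

/-- A group with an abelian Sylow `2`-subgroup whose involutions are central is solvable
(by the Odd Order Theorem, here a hypothesis). -/
theorem solvable_of_sylow_comm {K : Type u} [Group K] [Finite K]
    (hFT : ∀ (H : Type u) [Group H] [Finite H], Odd (Nat.card H) → Group.IsSolvable H)
    (Q : Sylow 2 K) (hQ : ∀ x ∈ (Q : Subgroup K), ∀ y ∈ (Q : Subgroup K), x * y = y * x)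
    (hcent : ∀ x ∈ (Q : Subgroup K), x * x = 1 → ∀ k : K, k * x = x * k) :
    Group.IsSolvable K := by
  have h2 : Fact (Nat.Prime 2) := ⟨Nat.prime_two⟩
  -- the normalizer centralizes
  have key : ∀ g ∈ normalizer ((Q : Subgroup K) : Set K), ∀ (k : ℕ) (x : K),
      x ∈ (Q : Subgroup K) → x ^ 2 ^ k = 1 → g * x = x * g := by
    intro g hg
    -- an odd power of `g` lies in `Q`
    obtain ⟨m, hm, hgm⟩ : ∃ m, Odd m ∧ g ^ m ∈ (Q : Subgroup K) := by
      refine ⟨((Q : Subgroup K).subgroupOf (normalizer ((Q : Subgroup K) : Set K))).index, ?_, ?_⟩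
      · rw [← Nat.not_even_iff_odd, even_iff_two_dvd]
        intro h
        exact Q.not_dvd_index (h.trans (relIndex_dvd_index_of_le (le_normalizer)))
      · have hn : ((Q : Subgroup K).subgroupOf (normalizer ((Q : Subgroup K) : Set K))).Normal := by
          rw [normal_subgroupOf_iff_le_normalizer le_normalizer]
        have h1 := Subgroup.pow_index_mem
          ((Q : Subgroup K).subgroupOf (normalizer ((Q : Subgroup K) : Set K))) ⟨g, hg⟩
        exact mem_subgroupOf.mp h1
    intro k
    induction k with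
    | zero =>
      intro x hx hk
      rw [pow_zero, pow_one] at hk
      rw [hk, mul_one, one_mul]
    | succ k ih =>
      intro x hx hk
      have h1 : (x * x) ^ 2 ^ k = 1 := by
        rw [← pow_two, ← pow_mul, ← pow_succ']; exact hk
      have h2 := ih (x * x) (mul_mem hx hx) h1
      -- `y = x⁻¹ g x g⁻¹` is a central involution
      have hgx : g * x * g⁻¹ ∈ (Q : Subgroup K) := (mem_normalizer_iff.mp hg x).mp hx
      have hy : x⁻¹ * (g * x * g⁻¹) ∈ (Q : Subgroup K) := mul_mem (inv_mem hx) hgx
      have hyy : x⁻¹ * (g * x * g⁻¹) * (x⁻¹ * (g * x * g⁻¹)) = 1 := by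
        have h3 := hQ _ hgx x⁻¹ (inv_mem hx)
        calc x⁻¹ * (g * x * g⁻¹) * (x⁻¹ * (g * x * g⁻¹))
            = x⁻¹ * ((g * x * g⁻¹) * x⁻¹) * (g * x * g⁻¹) := by group
          _ = x⁻¹ * (x⁻¹ * (g * x * g⁻¹)) * (g * x * g⁻¹) := by rw [h3]
          _ = (x * x)⁻¹ * (g * (x * x) * g⁻¹) := by group
          _ = 1 := by rw [h2]; group
      set y := x⁻¹ * (g * x * g⁻¹) with hydef
      have hyc := hcent y hy hyy
      have h4 : g * x = x * y * g := by rw [hydef]; group
      -- `g ^ 2` commutes with `x`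
      have h5 : Commute (g * g) x := by
        change g * g * x = x * (g * g)
        calc g * g * x = g * (g * x) := by group
          _ = g * (x * y * g) := by rw [h4]
          _ = (g * x) * y * g := by group
          _ = (x * y * g) * y * g := by rw [h4]
          _ = x * y * (g * y) * g := by group
          _ = x * y * (y * g) * g := by rw [hyc g]
          _ = x * (y * y) * (g * g) := by group
          _ = x * (g * g) := by rw [hyy, mul_one]
      have h6 : Commute (g ^ m) x := hQ _ hgm x hx
      obtain ⟨j, hj⟩ := hm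
      have h7 : g = g ^ m * ((g * g) ^ j)⁻¹ := by
        rw [hj, ← pow_two, ← pow_mul, pow_add, pow_one]
        have : g ^ (2 * j) * g = g * g ^ (2 * j) := by rw [← pow_succ, ← pow_succ']
        rw [this]; group
      have h8 : Commute g x := by
        rw [h7]
        exact h6.mul_left ((h5.pow_left j).inv_left)
      exact h8
  have hN : normalizer ((Q : Subgroup K) : Set K) ≤ centralizer ((Q : Subgroup K) : Set K) := by
    intro g hg
    rw [mem_centralizer_iff]
    intro x hx
    obtain ⟨k, hk⟩ := Q.isPGroup' ⟨x, hx⟩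
    exact (key g hg k x hx (congrArg Subtype.val hk)).symm
  have hcomp := MonoidHom.ker_transferSylow_isComplement' Q hN
  have hodd : Odd (Nat.card (MonoidHom.transferSylow Q hN).ker) := by
    rw [← hcomp.index_eq_card, ← Nat.not_even_iff_odd, even_iff_two_dvd]
    exact Q.not_dvd_index
  have hs1 : Group.IsSolvable (MonoidHom.transferSylow Q hN).ker := hFT _ hodd
  have hnil : Group.IsNilpotent (Q : Subgroup K) := Q.isPGroup'.isNilpotent
  have hs2 : Group.IsSolvable (Q : Subgroup K) := IsNilpotent.to_isSolvable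
  exact Group.isSolvable_of_ker_le_range (MonoidHom.transferSylow Q hN).ker.subtype
    (MonoidHom.transferSylow Q hN) (by rw [Subgroup.range_subtype])

/-! ### The action on a Sylow subgroup of `X` -/

section

variable {G : Type u} [Group G] [Finite G]

omit [Finite G] in
/-- A perfect subgroup of a solvable subgroup is trivial. -/
theorem eq_bot_of_solvable {A : Subgroup G} (hA : A ≤ ⁅A, A⁆) (h1 : Group.IsSolvable A) :
    A = ⊥ := by
  by_contra hne
  have hnt : Nontrivial A := by
    rw [Subgroup.nontrivial_iff_ne_bot]; exact hne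
  have h2 := Group.IsSolvable.commutator_lt_top_of_nontrivial A
  apply h2.ne
  apply Subgroup.map_injective A.subtype_injective
  rw [Subgroup.map_subtype_commutator, ← MonoidHom.range_eq_map, Subgroup.range_subtype]
  exact le_antisymm (Subgroup.commutator_le_self A) hA

omit [Finite G] in
theorem solvable_of_le {A K : Subgroup G} (hAK : A ≤ K) (hK : Group.IsSolvable K) :
    Group.IsSolvable A :=
  Group.isSolvable_of_isSolvable_injective (f := inclusion hAK) (inclusion_injective hAK)

/-- The perfect residual of `C(T) ∩ N(P)` centralizes `P`. -/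
theorem comm_of_action
    (hFT : ∀ (H : Type u) [Group H] [Finite H], Odd (Nat.card H) → Group.IsSolvable H)
    {P T : Subgroup G} (hP2 : IsPGroup 2 P)
    (hTmem : ∀ x ∈ P, x * x = 1 → x ∈ T) (hT2 : ∀ t ∈ T, t * t = 1)
    (hNT : normalizer (P : Set G) ≤ normalizer (T : Set G))
    (hcase : (∀ x ∈ P, ∀ y ∈ P, x * y = y * x) ∨
      (∀ x ∈ T, ∀ y ∈ T, x ≠ 1 → y ≠ 1 → ∃ g ∈ normalizer (P : Set G), g * x * g⁻¹ = y)) :
    ∀ b ∈ PR (centralizer (T : Set G) ⊓ normalizer (P : Set G)), ∀ x ∈ P, b * x = x * b := by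
  set N : Subgroup G := centralizer (T : Set G) ⊓ normalizer (P : Set G) with hN
  have hBN : PR N ≤ N := PR_le N
  have hBP : PR N ≤ normalizer (P : Set G) := hBN.trans inf_le_right
  have hBT : PR N ≤ centralizer (T : Set G) := hBN.trans inf_le_left
  set B' : Subgroup (normalizer (P : Set G)) := (PR N).subgroupOf (normalizer (P : Set G)) with hB'
  have hB'n : B'.Normal := by
    refine ⟨fun b hb g => ?_⟩
    rw [hB', mem_subgroupOf] at hb ⊢
    refine conj_mem_PR (fun y hy => ?_) hb
    refine ⟨conj_mem_centralizer (hNT g.2) hy.1, ?_⟩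
    exact (normalizer (P : Set G)).mul_mem ((normalizer (P : Set G)).mul_mem g.2 hy.2)
      ((normalizer (P : Set G)).inv_mem g.2)
  have hmap : B'.map (normalizer (P : Set G)).subtype = PR N := by
    rw [hB', Subgroup.map_subgroupOf_eq_of_le hBP]
  have hB'p : ⁅B', B'⁆ = B' := by
    apply Subgroup.map_injective (normalizer (P : Set G)).subtype_injective
    rw [Subgroup.map_commutator, hmap]
    exact le_antisymm (Subgroup.commutator_le_self _) (PR_perfect N)
  let _ : MulDistribMulAction (normalizer (P : Set G)) P :=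
    MulDistribMulAction.compHom P P.normalizerMonoidHom
  have hsmul : ∀ (g : normalizer (P : Set G)) (x : P),
      ((g • x : P) : G) = (g : G) * x * (g : G)⁻¹ := fun g x => rfl
  have hfix : ∀ a ∈ B', ∀ x : P, x * x = 1 → a • x = x := by
    intro a ha x hx
    apply Subtype.ext
    rw [hsmul]
    have h1 : (x : G) ∈ T := hTmem x x.2 (congrArg Subtype.val hx)
    have h2 := mem_centralizer_comm (hBT (mem_subgroupOf.mp ha)) h1
    rw [h2, mul_inv_cancel_right]
  have key : ∀ a ∈ B', ∀ x : P, a • x = x := by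
    rcases hcase with hab | htr
    · intro a ha x
      obtain ⟨k, hk⟩ := hP2 x
      exact smul_eq_of_comm (fun x y => Subtype.ext (hab x x.2 y y.2)) hB'p hfix k x hk a ha
    · refine PerfectOnTwo.smul_eq B' hB'p hFT hP2 (T.subgroupOf P) ?_ ?_ ?_
      · intro x
        rw [mem_subgroupOf]
        exact ⟨fun h => Subtype.ext (hT2 x h), fun h => hTmem x x.2 (congrArg Subtype.val h)⟩
      · intro a ha x hx
        exact hfix a ha x (Subtype.ext (hT2 x (mem_subgroupOf.mp hx)))
      · intro x hx y hy hx1 hy1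
        obtain ⟨g, hg, hgx⟩ := htr x (mem_subgroupOf.mp hx) y (mem_subgroupOf.mp hy)
          (fun h => hx1 (Subtype.ext h)) (fun h => hy1 (Subtype.ext h))
        exact ⟨⟨g, hg⟩, Subtype.ext hgx⟩
  intro b hb x hx
  have h1 := congrArg Subtype.val (key ⟨b, hBP hb⟩ (mem_subgroupOf.mpr hb) ⟨x, hx⟩)
  have h2 : b * x * b⁻¹ = x := h1
  calc b * x = b * x * b⁻¹ * b := by group
    _ = x * b := by rw [h2]

/-- **End theorem.** -/
theorem end_theorem
    (hFT : ∀ (H : Type u) [Group H] [Finite H], Odd (Nat.card H) → Group.IsSolvable H)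
    (hRig : ∀ (K : Type u) [Group K] [Finite K],
      (∀ N : Subgroup K, N.Normal → Odd (Nat.card N) → N = ⊥) → ∀ (S : Sylow 2 K)
      (C : Subgroup (MulAut K)), (∀ φ : MulAut K, φ ∈ C ↔ ∀ s : K, s ∈ S → φ s = s) →
      Group.IsSolvable C)
    (hPF : ∀ (K : Type u) [Group K] [Finite K] (S : Sylow 2 K),
      Walter.Irreducible.ProductFusion S)
    (hGold : ∀ (K : Type u) [Group K] [Finite K] [IsSimpleGroup K] (S : Sylow 2 K)
      (A : Subgroup K), A ≠ ⊥ → IsMulCommutative A → IsStronglyClosed A (S : Subgroup K) →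
      IsMulCommutative (S : Subgroup K) ∨ ∃ H : Subgroup K, IsStronglyEmbedded H)
    (hSE : ∀ (K : Type u) [Group K] [Finite K] [IsSimpleGroup K], (∃ a b : K, a * b ≠ b * a) →
      ∀ H : Subgroup K, IsStronglyEmbedded H → HasQ H)
    (S : Sylow 2 G) (X T A : Subgroup G) (hX : X.Normal)
    (hXs : IsSimpleGroup X) (hTX : T ≤ X) (hT : Cfsg.IsStronglyClosed T (S : Subgroup G))
    (hT1 : T ≠ ⊥) (hT2 : ∀ t ∈ T, t * t = 1) (hA : A ≤ ⁅A, A⁆)
    (hAT : ∀ a ∈ A, ∀ t ∈ T, a * t = t * a)
    (hCX : centralizer (X : Set G) = ⊥) : ⁅X, A⁆ = ⊥ := by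
  have h2 : Fact (Nat.Prime 2) := ⟨Nat.prime_two⟩
  have hA' : A ≤ centralizer (T : Set G) := by
    intro a ha
    rw [mem_centralizer_iff]
    intro t ht
    exact (hAT a ha t ht).symm
  have hAPR : A ≤ PR (centralizer (T : Set G)) := le_PR hA' hA
  -- the Sylow subgroup of `X`
  have hGN : ∀ H : Subgroup G, H ≤ normalizer (X : Set G) := fun H => by
    rw [Subgroup.normalizer_eq_top X]; exact le_top
  set P : Subgroup G := (S : Subgroup G) ⊓ X with hPdef
  have hP : IsSyl P X := (isSyl_top S).inf le_top (hGN ⊤)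
  obtain ⟨S', hS'⟩ := hP.exists_sylow
  have hmemS' : ∀ x : X, x ∈ (S' : Subgroup X) ↔ (x : G) ∈ P := by
    intro x
    rw [← hS', mem_map]
    constructor
    · intro hx; exact ⟨x, hx, rfl⟩
    · rintro ⟨y, hy, hyx⟩
      have : y = x := Subtype.ext hyx
      rwa [this] at hy
  have hTP : T ≤ P := le_inf hT.1 hTX
  have hna : ∃ a b : X, a * b ≠ b * a := by
    by_contra hcon
    push Not at hcon
    have h1 : X ≤ centralizer (X : Set G) := by
      intro x hx
      rw [mem_centralizer_iff]
      intro y hy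
      exact congrArg Subtype.val (hcon ⟨y, hy⟩ ⟨x, hx⟩)
    rw [hCX, le_bot_iff] at h1
    have h3 : Nontrivial X := hXs.toNontrivial
    rw [Subgroup.nontrivial_iff_ne_bot] at h3
    exact h3 h1
  have hT' : IsStronglyClosed (T.subgroupOf X) (S' : Subgroup X) := by
    refine ⟨fun x hx => (hmemS' x).mpr (hTP (mem_subgroupOf.mp hx)), ?_⟩
    intro x hx g hg
    rw [mem_subgroupOf]
    exact hT.2 x (mem_subgroupOf.mp hx) g ((hmemS' _).mp hg).1
  have hT1' : T.subgroupOf X ≠ ⊥ := by
    intro h
    apply hT1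
    rw [subgroupOf_eq_bot, disjoint_iff, inf_eq_left.mpr hTX] at h
    exact h
  have hT2' : ∀ t ∈ T.subgroupOf X, t * t = 1 :=
    fun t ht => Subtype.ext (hT2 t (mem_subgroupOf.mp ht))
  have hTcomm : IsMulCommutative (T.subgroupOf X) := by
    refine ⟨⟨fun a b => ?_⟩⟩
    have ha : a * a = 1 := Subtype.ext (hT2' a a.2)
    have hb : b * b = 1 := Subtype.ext (hT2' b b.2)
    have hab : (a * b) * (a * b) = 1 := Subtype.ext (hT2' _ (a * b).2)
    have ha' : a⁻¹ = a := inv_eq_of_mul_eq_one_left ha
    have hb' : b⁻¹ = b := inv_eq_of_mul_eq_one_left hb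
    have hab' : (a * b)⁻¹ = a * b := inv_eq_of_mul_eq_one_left hab
    rw [mul_inv_rev, ha', hb'] at hab'
    exact hab'.symm
  obtain ⟨h1, h3, h4⟩ := simple_data hna S' (T.subgroupOf X) hT' hT1' hT2' (hPF X S')
    (hGold X S' (T.subgroupOf X) hT1' hTcomm hT') (hSE X hna)
  -- transfer to `G`
  have hTmem : ∀ x ∈ P, x * x = 1 → x ∈ T := by
    intro x hx hxx
    exact mem_subgroupOf.mp (h1 ⟨x, hx.2⟩ ((hmemS' _).mpr hx) (Subtype.ext hxx))
  have hPT : ∀ x ∈ P, ∀ t ∈ T, x * t = t * x := by
    intro x hx t ht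
    exact congrArg Subtype.val (h3 ⟨x, hx.2⟩ ((hmemS' _).mpr hx) ⟨t, hTX ht⟩
      (mem_subgroupOf.mpr ht))
  have hPC : P ≤ centralizer (T : Set G) := by
    intro x hx
    rw [mem_centralizer_iff]
    intro t ht
    exact (hPT x hx t ht).symm
  have hNT : normalizer (P : Set G) ≤ normalizer (T : Set G) := by
    have key : ∀ g ∈ normalizer (P : Set G), ∀ t ∈ T, g * t * g⁻¹ ∈ T := by
      intro g hg t ht
      exact hT.2 t ht g ((mem_normalizer_iff.mp hg t).mp (hTP ht)).1
    intro g hg
    rw [mem_normalizer_iff]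
    intro t
    refine ⟨key g hg t, fun h => ?_⟩
    have h5 := key g⁻¹ (inv_mem hg) _ h
    have h6 : g⁻¹ * (g * t * g⁻¹) * g⁻¹⁻¹ = t := by group
    rwa [h6] at h5
  have hNS' : ∀ g : X, g ∈ normalizer ((S' : Subgroup X) : Set X) →
      (g : G) ∈ normalizer (P : Set G) := by
    intro g hg
    rw [mem_normalizer_iff]
    intro x
    by_cases hx : x ∈ X
    · have h5 := mem_normalizer_iff.mp hg ⟨x, hx⟩
      have h6 := (hmemS' ⟨x, hx⟩)
      have h7 := hmemS' (g * ⟨x, hx⟩ * g⁻¹)
      exact (h6.symm.trans h5).trans h7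
    · constructor
      · intro h; exact absurd h.2 hx
      · intro h
        apply absurd _ hx
        have h5 := X.mul_mem (X.mul_mem (X.inv_mem g.2) h.2) g.2
        have h6 : (g : G)⁻¹ * (g * x * (g : G)⁻¹) * g = x := by group
        rwa [h6] at h5
  have hcase : (∀ x ∈ P, ∀ y ∈ P, x * y = y * x) ∨
      ((∀ x ∈ T, ∀ y ∈ T, x ≠ 1 → y ≠ 1 → ∃ g ∈ normalizer (P : Set G), g * x * g⁻¹ = y) ∧
        X ⊓ centralizer (T : Set G) ≤ normalizer (P : Set G)) := by
    rcases h4 with h4 | ⟨h4, h5⟩
    · left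
      intro x hx y hy
      exact congrArg Subtype.val (h4 ⟨x, hx.2⟩ ((hmemS' _).mpr hx) ⟨y, hy.2⟩ ((hmemS' _).mpr hy))
    · right
      constructor
      · intro x hx y hy hx1 hy1
        obtain ⟨g, hg, hgx⟩ := h4 ⟨x, hTX hx⟩ (mem_subgroupOf.mpr hx) ⟨y, hTX hy⟩
          (mem_subgroupOf.mpr hy) (fun h => hx1 (congrArg Subtype.val h))
          (fun h => hy1 (congrArg Subtype.val h))
        exact ⟨g, hNS' g hg, congrArg Subtype.val hgx⟩
      · rintro c ⟨hcX, hcT⟩
        refine hNS' ⟨c, hcX⟩ (h5 ?_)
        rw [mem_centralizer_iff]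
        intro t ht
        exact Subtype.ext (mem_centralizer_iff.mp hcT t (mem_subgroupOf.mp ht))
  -- the residual of `C(T) ∩ N(P)` is trivial
  have hBP := comm_of_action hFT hP.two hTmem hT2 hNT (hcase.imp id fun h => h.1)
  have hB : PR (centralizer (T : Set G) ⊓ normalizer (P : Set G)) = ⊥ := by
    let C₀ : Subgroup (MulAut X) :=
      { carrier := {φ | ∀ s : X, s ∈ S' → φ s = s}
        one_mem' := fun s _ => rfl
        mul_mem' := fun {a b} ha hb s hs => by
          rw [MulAut.mul_apply, hb s hs, ha s hs]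
        inv_mem' := fun {a} ha s hs => by
          have h5 := ha s hs
          have h6 : a⁻¹ (a s) = s := MulAut.inv_apply_self X a s
          rwa [h5] at h6 }
    have hO : ∀ N : Subgroup X, N.Normal → Odd (Nat.card N) → N = ⊥ := by
      intro N hN hodd
      rcases hN.eq_bot_or_eq_top with h | h
      · exact h
      · exfalso
        rw [h, Subgroup.card_top] at hodd
        have h5 : Group.IsSolvable X := hFT X hodd
        obtain ⟨a, b, hab⟩ := hna
        apply hab
        exact IsSimpleGroup.comm_iff_isSolvable.mpr h5 a b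
    have hsolv : Group.IsSolvable C₀ := hRig X hO S' C₀ (fun φ => Iff.rfl)
    set B := PR (centralizer (T : Set G) ⊓ normalizer (P : Set G)) with hBdef
    have hcB : ∀ b ∈ B, (MulAut.conjNormal b : MulAut X) ∈ C₀ := by
      intro b hb s hs
      apply Subtype.ext
      rw [MulAut.conjNormal_apply, hBP b hb s ((hmemS' s).mp hs)]
      group
    let κ : B →* C₀ := ((MulAut.conjNormal (H := X)).comp B.subtype).codRestrict C₀
      (fun b => hcB b b.2)
    have hκ : Function.Injective κ := by
      rw [injective_iff_map_eq_one]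
      intro b hb
      have h5 : (MulAut.conjNormal (b : G) : MulAut X) = 1 := congrArg Subtype.val hb
      have h6 : (b : G) ∈ centralizer (X : Set G) := by
        rw [mem_centralizer_iff]
        intro x hx
        have h7 : ((MulAut.conjNormal (b : G) : MulAut X) ⟨x, hx⟩ : G) = x := by rw [h5]; rfl
        rw [MulAut.conjNormal_apply] at h7
        have h8 : (b : G) * x * (b : G)⁻¹ = x := h7
        calc x * b = (b : G) * x * (b : G)⁻¹ * b := by rw [h8]
          _ = b * x := by group
      rw [hCX, mem_bot] at h6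
      exact Subtype.ext h6
    exact eq_bot_of_solvable (PR_perfect _)
      (Group.isSolvable_of_isSolvable_injective hκ)
  -- Frattini
  have hXC : IsSyl P (X ⊓ centralizer (T : Set G)) := by
    refine ⟨le_inf inf_le_right hPC, hP.two, ?_⟩
    obtain ⟨R, hPR, hR⟩ := exists_isSyl hP.two (le_inf inf_le_right hPC :
      P ≤ X ⊓ centralizer (T : Set G))
    have h5 : P = R := hP.eq_of_le hR.two (hR.le.trans inf_le_left) hPR
    rw [h5]
    exact hR.conj
  have hCn : centralizer (T : Set G) ≤
      normalizer ((X ⊓ centralizer (T : Set G) : Subgroup G) : Set G) := by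
    intro g hg
    rw [mem_normalizer_iff]
    intro x
    have h5 : x ∈ X ↔ g * x * g⁻¹ ∈ X := (mem_normalizer_iff.mp (hGN ⊤ (mem_top g)) x)
    have h6 : x ∈ centralizer (T : Set G) ↔ g * x * g⁻¹ ∈ centralizer (T : Set G) := by
      constructor
      · intro hx; exact mul_mem (mul_mem hg hx) (inv_mem hg)
      · intro hx
        have h7 := mul_mem (mul_mem (inv_mem hg) hx) hg
        have h8 : g⁻¹ * (g * x * g⁻¹) * g = x := by group
        rwa [h8] at h7
    rw [mem_inf, mem_inf, h5, h6]
  have hfrat : ∀ g ∈ centralizer (T : Set G), ∃ n ∈ X ⊓ centralizer (T : Set G),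
      n * g ∈ centralizer (T : Set G) ⊓ normalizer (P : Set G) := by
    intro g hg
    obtain ⟨n, hn, hng⟩ := hXC.frattini hCn hg
    exact ⟨n, hn, mul_mem hn.2 hg, hng⟩
  have hPRbot : PR (centralizer (T : Set G)) = ⊥ := by
    rcases hcase with hab | ⟨-, hCXP⟩
    · -- abelian Sylow subgroup
      have hle : PR (centralizer (T : Set G)) ≤ X := by
        have h5 : (centralizer (T : Set G)).map (QuotientGroup.mk' X) =
            (centralizer (T : Set G) ⊓ normalizer (P : Set G)).map (QuotientGroup.mk' X) := by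
          apply le_antisymm
          · rintro _ ⟨g, hg, rfl⟩
            obtain ⟨n, hn, hng⟩ := hfrat g hg
            refine ⟨n * g, hng, ?_⟩
            rw [map_mul, (QuotientGroup.eq_one_iff n).mpr hn.1 |> fun h => (h : QuotientGroup.mk' X n = 1),
              one_mul]
          · exact Subgroup.map_mono inf_le_left
        have h6 : (PR (centralizer (T : Set G))).map (QuotientGroup.mk' X) = ⊥ := by
          rw [map_PR, h5, ← map_PR, hB, Subgroup.map_bot]
        rw [Subgroup.map_eq_bot_iff, QuotientGroup.ker_mk'] at h6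
        exact h6
      have hsolv : Group.IsSolvable (X ⊓ centralizer (T : Set G) : Subgroup G) := by
        obtain ⟨Q, hQ⟩ := hXC.exists_sylow
        have hmem : ∀ x : (X ⊓ centralizer (T : Set G) : Subgroup G), x ∈ (Q : Subgroup _) →
            (x : G) ∈ P := by
          intro x hx
          rw [← hQ]; exact ⟨x, hx, rfl⟩
        refine solvable_of_sylow_comm hFT Q ?_ ?_
        · intro x hx y hy
          exact Subtype.ext (hab x (hmem x hx) y (hmem y hy))
        · intro x hx hxx k
          have h5 := hTmem x (hmem x hx) (congrArg Subtype.val hxx)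
          exact Subtype.ext (mem_centralizer_comm k.2.2 h5)
      exact eq_bot_of_solvable (PR_perfect _)
        (solvable_of_le (le_inf hle (PR_le _)) hsolv)
    · -- strongly embedded case
      have h5 : centralizer (T : Set G) ≤ centralizer (T : Set G) ⊓ normalizer (P : Set G) := by
        intro g hg
        obtain ⟨n, hn, -, hng⟩ := hfrat g hg
        refine ⟨hg, ?_⟩
        have h6 := mul_mem (inv_mem (hCXP hn)) hng
        rwa [inv_mul_cancel_left] at h6
      rw [← le_bot_iff, ← hB]
      exact PR_mono h5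
  have hAbot : A = ⊥ := by
    rw [← le_bot_iff, ← hPRbot]; exact hAPR
  rw [hAbot, commutator_bot_right]

end

end Cfsg.Agent.TwoFusion.CentEnd
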