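import Mathlib
import Cfsg.Agent.StrongEmb.Split
import Cfsg.Agent.TwoFusion.CentEndSimple

/-!
# The weak form of Bender's theorem used in `CentEnd`

`hasQ`: from `BenderHolds` (a regular normal `2`-subgroup exists) for a simple group.
-/

set_option autoImplicit false

universe u

namespace Cfsg.Agent.TwoFusion.CentEndBender

open Cfsg Cfsg.Agent.TwoFusion.StronglyEmbeddedBasic
open Cfsg.Agent.StrongEmb.Basic Cfsg.Agent.StrongEmb.TwoRank Cfsg.Agent.StrongEmb.Split

/-- A nonabelian simple group with an involution has two distinct commuting involutions. -/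
theorem commPair_of_simple {G : Type u} [Group G] [Finite G] [IsSimpleGroup G]
    (hna : ∃ a b : G, a * b ≠ b * a) {z : G} (hz : orderOf z = 2) : CommPair G := by
  by_contra hr
  have hO : oddCore G = ⊥ := by
    rcases IsSimpleGroup.eq_bot_or_eq_top_of_normal (oddCore G) inferInstance with h | h
    · exact h
    · exfalso
      exact not_odd_of_mem (oddCore G) z (by rw [h]; trivial) hz (odd_oddCore G)
  have hzc : z ∈ Subgroup.center G := by
    rw [Subgroup.mem_center_iff]
    intro g
    have h1 := mem_oddCore_of_not_commPair hr hz g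
    rw [hO, Subgroup.mem_bot] at h1
    exact (mul_inv_eq_iff_eq_mul.mp (mul_inv_eq_one.mp h1)).symm
  have hctop : Subgroup.center G = ⊤ := by
    rcases IsSimpleGroup.eq_bot_or_eq_top_of_normal (Subgroup.center G) inferInstance with h | h
    · exfalso
      rw [h, Subgroup.mem_bot] at hzc
      rw [hzc, orderOf_one] at hz
      exact absurd hz (by norm_num)
    · exact h
  obtain ⟨a, b, hab⟩ := hna
  apply hab
  have hb : b ∈ Subgroup.center G := by rw [hctop]; trivial
  exact Subgroup.mem_center_iff.mp hb a

/-- Strongly embedded subgroups of simple groups have a normal `2`-subgroup transitive on the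
other cosets, by Bender's theorem (a hypothesis). -/
theorem hasQ {G : Type u} [Group G] [Finite G] [IsSimpleGroup G] (hB : BenderHolds G)
    (hna : ∃ a b : G, a * b ≠ b * a) (H : Subgroup G) (hH : IsStronglyEmbedded H) :
    CentEndSimple.HasQ H := by
  obtain ⟨z, -, hz⟩ := exists_involution hH
  obtain ⟨Q, hQ, hQ2⟩ := hB H hH (commPair_of_simple hna hz) (normalCore_eq_bot_of_simple hH.1)
  exact ⟨Q, hQ.le, hQ.normal, hQ.trans, hQ2⟩

end Cfsg.Agent.TwoFusion.CentEndBender
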