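import Cfsg.Agent.TwoFusion.CentResidual

/-!
# The residual of the centralizer of a strongly closed 2-subgroup: the central configuration

In the central configuration `CMin 𝒜 P` the subgroup `K = fam 𝒜 ⊤` is simple, it is the unique minimal normal
subgroup of `G`, its centralizer is trivial and `G = K L` where `L = PR (C_G(T))`, `T = fam 𝒜 P`.
-/

set_option autoImplicit false
set_option linter.style.haveILetI false

namespace Cfsg.Agent.TwoFusion.CentResidual

open Subgroup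
open scoped commutatorElement
open Cfsg.Agent.TwoFusion.ClosedFam
open Cfsg.Agent.TwoFusion.ClosedLocal (core_le conj_mem_core odd_core exists_mul_of_mem_sup
  eq_one_of_odd_of_isPGroup exists_conj_of_le_sup exists_central)
open Cfsg.Agent.Lib.GoldschmidtFusion (mem_map_conj conj_mem_map_conj card_map_conj lt_inf_normalizer
  mem_normalizer_iff_map_conj map_conj_map_conj)

universe u

/-! ### General facts -/

/-- The closed family in the image of the Sylow 2-subgroup. -/
theorem map_fam {G : Type*} [Group G] [Finite G] {K : Type*} [Group K] {𝒜 : Set G}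
    (h : IsClosedFam 𝒜) (f : G →* K) (P : Sylow 2 G) :
    (fam 𝒜 (P : Subgroup G)).map f = fam (f '' 𝒜) ((P : Subgroup G).map f) := by
  apply le_antisymm
  · rintro _ ⟨x, hx, rfl⟩
    rw [SetLike.mem_coe, h.mem_fam_iff P.2] at hx
    exact mem_fam ⟨x, hx.1, rfl⟩ ⟨x, hx.2, rfl⟩
  · rw [fam_le_iff]
    rintro _ ⟨a, ha, rfl⟩ ⟨p, hp, hpa⟩
    have hnp : (P : Subgroup G) ≤ normalizer (f.ker : Set G) := by
      rw [Subgroup.normalizer_eq_top]; exact le_top
    have hsyl : IsSyl (P : Subgroup G) (f.ker ⊔ P : Subgroup G) := isSyl_of_le le_sup_right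
    obtain ⟨x, hx, hxa⟩ := hsyl.conj (zpowers a) (h.isPGroup_zpowers ha) (by
      rw [zpowers_le]
      have e : a = (a * p⁻¹) * p := by group
      rw [e]
      refine mul_mem (mem_sup_left ?_) (mem_sup_right hp)
      rw [MonoidHom.mem_ker, map_mul, map_inv, hpa]; group)
    obtain ⟨t, ht, k, hk, rfl⟩ := exists_mul_of_mem_sup hnp hx
    have h1 := hxa a (mem_zpowers a)
    have h2 : k * a * k⁻¹ ∈ (P : Subgroup G) := by
      have := mul_mem (mul_mem (inv_mem ht) h1) ht
      have e : t⁻¹ * (t * k * a * (t * k)⁻¹) * t = k * a * k⁻¹ := by group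
      rwa [e] at this
    refine ⟨k * a * k⁻¹, mem_fam (h.conj_mem a ha k) h2, ?_⟩
    rw [MonoidHom.mem_ker] at hk
    simp [hk]

/-- An abelian normal subgroup of a group without odd core is a 2-group. -/
theorem isPGroup_of_abelian_normal {G : Type*} [Group G] [Finite G] (hO : Cfsg.oddCore G = ⊥)
    {A : Subgroup G} (hA : A.Normal) (hc : ∀ x ∈ A, ∀ y ∈ A, x * y = y * x) : IsPGroup 2 A := by
  classical
  haveI : Fact (Nat.Prime 2) := ⟨Nat.prime_two⟩
  obtain ⟨k, m, hm, hkm⟩ := Nat.exists_eq_two_pow_mul_odd (n := Nat.card A) Nat.card_pos.ne'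
  let K : Subgroup G :=
    { carrier := {x | x ∈ A ∧ x ^ m = 1}
      one_mem' := ⟨A.one_mem, one_pow _⟩
      mul_mem' := by
        rintro x y ⟨hx, hx2⟩ ⟨hy, hy2⟩
        refine ⟨mul_mem hx hy, ?_⟩
        have h1 : Commute x y := hc x hx y hy
        rw [h1.mul_pow, hx2, hy2, one_mul]
      inv_mem' := by
        rintro x ⟨hx, hx2⟩
        exact ⟨inv_mem hx, by rw [inv_pow, hx2, inv_one]⟩ }
  have hKn : K.Normal := by
    refine ⟨fun x hx g => ⟨hA.conj_mem x hx.1 g, ?_⟩⟩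
    rw [conj_pow, hx.2]; group
  have hKodd : Odd (Nat.card K) := by
    rw [← Nat.not_even_iff_odd, even_iff_two_dvd]
    intro hd
    obtain ⟨x, hx⟩ := exists_prime_orderOf_dvd_card' 2 hd
    have h1 : (x : G) ^ m = 1 := x.2.2
    have h2 : orderOf (x : G) = 2 := by rw [Subgroup.orderOf_coe]; exact hx
    have h3 : 2 ∣ m := by rw [← h2]; exact orderOf_dvd_of_pow_eq_one h1
    exact (Nat.not_even_iff_odd.2 hm) (even_iff_two_dvd.2 h3)
  have hK : K = ⊥ := by
    have h1 : K ≤ Cfsg.oddCore G :=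
      Cfsg.Agent.Lib.Cores.le_pPrimeCore hKn (Nat.coprime_two_right.2 hKodd)
    rw [hO] at h1
    exact le_bot_iff.1 h1
  rintro ⟨x, hx⟩
  refine ⟨k, Subtype.ext ?_⟩
  have h1 : x ^ 2 ^ k ∈ K := by
    refine ⟨pow_mem hx _, ?_⟩
    rw [← pow_mul, ← hkm]
    exact congrArg Subtype.val (pow_card_eq_one' (x := (⟨x, hx⟩ : A)))
  rw [hK, mem_bot] at h1
  exact h1

/-- If `L O(G)` is normal in `G` then the family acts on `L` trivially modulo `O(G)`. -/
theorem comm_mem_of_normal_sup {G : Type*} [Group G] [Finite G] {𝒜 : Set G} (h : IsClosedFam 𝒜)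
    {H R O : Subgroup G} (hR : IsSyl R H) (hOn : H ≤ normalizer (O : Set G))
    {L : Subgroup G} (hLH : L ≤ H) (hL : ∀ l ∈ L, ∀ t ∈ fam 𝒜 R, l * t = t * l)
    (hn : H ≤ normalizer ((L ⊔ O : Subgroup G) : Set G)) {a l : G} (ha : a ∈ 𝒜) (haH : a ∈ H)
    (hl : l ∈ L) : a * l * a⁻¹ * l⁻¹ ∈ O := by
  have hOc : ∀ x ∈ H, ∀ o ∈ O, x * o * x⁻¹ ∈ O := fun x hx o ho => (mem_normalizer_iff.1 (hOn hx) o).1 ho
  obtain ⟨k, hk, hkR⟩ := hR.conj (zpowers a) (h.isPGroup_zpowers ha) (by rw [zpowers_le]; exact haH)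
  have ht : k * a * k⁻¹ ∈ fam 𝒜 R := mem_fam (h.conj_mem a ha k) (hkR a (mem_zpowers a))
  have h1 : k * l * k⁻¹ ∈ L ⊔ O := (mem_normalizer_iff.1 (hn hk) l).1 (mem_sup_left hl)
  have hLO : L ≤ normalizer (O : Set G) := hLH.trans hOn
  rw [sup_comm] at h1
  obtain ⟨l', hl', o, ho, e⟩ := exists_mul_of_mem_sup hLO h1
  set t := k * a * k⁻¹ with htdef
  have htH : t ∈ H := mul_mem (mul_mem hk haH) (inv_mem hk)
  have h2 : t * (k * l * k⁻¹) * t⁻¹ * (k * l * k⁻¹)⁻¹ ∈ O := by
    rw [e]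
    have h3 := hL l' hl' t ht
    have e2 : t * (l' * o) * t⁻¹ * (l' * o)⁻¹ = l' * ((t * o * t⁻¹) * o⁻¹) * l'⁻¹ := by
      calc t * (l' * o) * t⁻¹ * (l' * o)⁻¹ = (t * l') * o * t⁻¹ * o⁻¹ * l'⁻¹ := by group
        _ = (l' * t) * o * t⁻¹ * o⁻¹ * l'⁻¹ := by rw [h3]
        _ = _ := by group
    rw [e2]
    exact hOc l' (hLH hl') _ (mul_mem (hOc t htH o ho) (inv_mem ho))
  have h4 := hOc k⁻¹ (inv_mem hk) _ h2
  have e3 : k⁻¹ * (t * (k * l * k⁻¹) * t⁻¹ * (k * l * k⁻¹)⁻¹) * k⁻¹⁻¹ = a * l * a⁻¹ * l⁻¹ := by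
    rw [htdef]; group
  rwa [e3] at h4

namespace CMin

variable {G : Type u} [Group G] {𝒜 : Set G} {P : Sylow 2 G}

/-- the subfamily of a normal subgroup -/
theorem le_of_normal (h : CMin 𝒜 P) {N : Subgroup G} (hN : N.Normal) (hne : ∃ a ∈ 𝒜, a ∈ N ∧ a ≠ 1) :
    fam 𝒜 ⊤ ≤ N := by
  have h1 : IsClosedFam {a : G | a ∈ 𝒜 ∧ a ∈ N} :=
    { one_mem := ⟨h.closed.one_mem, N.one_mem⟩
      conj_mem := fun x hx g => ⟨h.closed.conj_mem x hx.1 g, hN.conj_mem x hx.2 g⟩
      two := fun x hx => h.closed.two x hx.1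
      mul_mem := fun Q hQ x hxQ y hyQ hx hy =>
        ⟨h.closed.mul_mem Q hQ x hxQ y hyQ hx.1 hy.1, mul_mem hx.2 hy.2⟩ }
  obtain ⟨a, ha, haN, ha1⟩ := hne
  have h2 := h.min _ (fun x hx => hx.1) h1 ⟨a, ⟨ha, haN⟩, ha1⟩
  rw [fam_le_iff]
  intro x hx _
  rw [← h2] at hx
  exact hx.2

theorem orderOf_eq (h : CMin 𝒜 P) {a : G} (ha : a ∈ 𝒜) (ha1 : a ≠ 1) : orderOf a = 2 :=
  ClosedLocal.orderOf_eq_two (h.sq a ha) ha1

/-- no nontrivial element of the family commutes with all its conjugates. -/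
theorem eq_one_of_comm (h : CMin 𝒜 P) {a : G} (ha : a ∈ 𝒜) (hc : ∀ g : G, a * (g * a * g⁻¹) = g * a * g⁻¹ * a) :
    a = 1 := by
  by_contra ha1
  exact ha1 (h.two a ha (ClosedZ.mem_pCore_of_comm_conj (h.orderOf_eq ha ha1) hc))

variable [Finite G]

/-- `L` does not centralize `K`. -/
theorem false_of_comm (h : CMin 𝒜 P)
    (hc : ∀ l ∈ PR (centralizer (fam 𝒜 (P : Subgroup G) : Set G)), ∀ a ∈ 𝒜, l * a = a * l) : False := by
  obtain ⟨a, ha, ha1⟩ := exists_mem_fam_ne_one h.closed P h.nontriv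
  have haA : a ∈ 𝒜 := ((h.closed.mem_fam_iff P.2).1 ha).1
  exact ha1 (h.eq_one_of_comm haA fun g => hc a (h.le ha) _ (h.closed.conj_mem a haA g))

/-- `K` is perfect. -/
theorem perfect (h : CMin 𝒜 P) : fam 𝒜 ⊤ ≤ ⁅fam 𝒜 ⊤, fam 𝒜 ⊤⁆ := by
  set K := fam 𝒜 (⊤ : Subgroup G) with hK
  haveI hKn : K.Normal := h.closed.fam_normal ⊤
  have hDn : (⁅K, K⁆).Normal := inferInstance
  by_contra hcon
  have hAD : ∀ a ∈ 𝒜, a ∈ ⁅K, K⁆ → a = 1 := by
    intro a ha haD
    by_contra ha1
    exact hcon (h.le_of_normal hDn ⟨a, ha, haD, ha1⟩)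
  have hcz := ClosedZ.centralize h.closed ⁅K, K⁆ (ClosedZ.oddCore_eq_bot_of_normal h.oddCore _ hDn) hAD
  obtain ⟨a, ha, ha1⟩ := h.nontriv
  apply ha1
  refine h.eq_one_of_comm ha fun g => ?_
  set b := g * a * g⁻¹ with hb
  have hbA : b ∈ 𝒜 := h.closed.conj_mem a ha g
  have haK : a ∈ K := mem_fam ha (mem_top a)
  have hbK : b ∈ K := mem_fam hbA (mem_top b)
  -- `z = b⁻¹ a b a⁻¹`
  set z := b⁻¹ * (a * b * a⁻¹) with hz
  have hzD : z ∈ ⁅K, K⁆ := by
    have h1 := commutator_mem_commutator (inv_mem hbK) haK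
    have e : ⁅b⁻¹, a⁆ = z := by rw [commutatorElement_def, hz]; group
    rwa [e] at h1
  have h1 : a * z = z * a := hcz a ha z hzD
  have h2 : b * z = z * b := hcz b hbA z hzD
  have haa : a * a = 1 := h.sq a ha
  have hbb : b * b = 1 := h.sq b hbA
  have h3 : a * b * a⁻¹ = b * z := by rw [hz]; group
  have hzz : z * z = 1 := by
    have h4 : (a * b * a⁻¹) * (a * b * a⁻¹) = 1 := h.sq _ (h.closed.conj_mem b hbA a)
    rw [h3] at h4
    calc z * z = (b * b) * (z * z) := by rw [hbb, one_mul]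
      _ = b * (b * z) * z := by group
      _ = b * (z * b) * z := by rw [h2]
      _ = b * z * (b * z) := by group
      _ = 1 := h4
  have hz1 : z = 1 := by
    by_contra hzne
    have hz2 : orderOf z = 2 := ClosedLocal.orderOf_eq_two hzz hzne
    have hQ : IsPGroup 2 (zpowers b ⊔ zpowers z : Subgroup G) := by
      refine ClosedLocal.isPGroup_sup_zpowers (h.closed.isPGroup_zpowers hbA) hz2 ?_
      intro q hq
      obtain ⟨n, rfl⟩ := mem_zpowers_iff.1 hq
      have : Commute z b := h2.symm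
      exact (this.zpow_right n).eq
    have hbQ : b ∈ (zpowers b ⊔ zpowers z : Subgroup G) := mem_sup_left (mem_zpowers b)
    have hzQ : z ∈ (zpowers b ⊔ zpowers z : Subgroup G) := mem_sup_right (mem_zpowers z)
    have h5 : b * z ∈ 𝒜 := by rw [← h3]; exact h.closed.conj_mem b hbA a
    have h6 : b⁻¹ * (b * z) ∈ 𝒜 :=
      h.closed.mul_mem _ hQ _ (inv_mem hbQ) _ (mul_mem hbQ hzQ) (h.closed.inv_mem hbA) h5
    have e : b⁻¹ * (b * z) = z := by group
    rw [e] at h6
    exact hzne (hAD z h6 hzD)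
  rw [hz1, mul_one] at h3
  calc a * b = a * b * a⁻¹ * a := by group
    _ = b * a := by rw [h3]

/-- An element acting trivially on the family modulo a central subgroup of `K` centralizes `K`. -/
theorem comm_of_central (h : CMin 𝒜 P) {Z : Subgroup G} (hZ : Z.Normal)
    (hZK : ∀ z ∈ Z, ∀ k ∈ fam 𝒜 (⊤ : Subgroup G), z * k = k * z) {l : G}
    (hl : ∀ a ∈ 𝒜, a * l * a⁻¹ * l⁻¹ ∈ Z) : ∀ a ∈ 𝒜, l * a = a * l := by
  set K := fam 𝒜 (⊤ : Subgroup G) with hK
  haveI hKn : K.Normal := h.closed.fam_normal ⊤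
  set π : G →* G ⧸ Z := QuotientGroup.mk' Z with hπ
  have hker : π.ker = Z := QuotientGroup.ker_mk' Z
  have h1 : K ≤ (centralizer ({π l} : Set (G ⧸ Z))).comap π := by
    rw [hK, fam_le_iff]
    intro a ha _
    rw [mem_comap, mem_centralizer_singleton_iff]
    have h2 := hl a ha
    rw [← hker, MonoidHom.mem_ker] at h2
    simp only [map_mul, map_inv] at h2
    have h3 : π a * π l * (π a)⁻¹ = π l := mul_inv_eq_one.1 h2
    calc π a * π l = π a * π l * (π a)⁻¹ * π a := by group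
      _ = π l * π a := by rw [h3]
  have h2 : ∀ k ∈ K, l * k = k * l := by
    refine comm_of_perfect h.perfect ?_
    intro k hk
    have h3 := h1 hk
    rw [mem_comap, mem_centralizer_singleton_iff] at h3
    have h4 : k⁻¹ * (l * k * l⁻¹) ∈ Z := by
      rw [← hker, MonoidHom.mem_ker]
      simp only [map_mul, map_inv]
      rw [← h3]; group
    exact ⟨k⁻¹ * (l * k * l⁻¹), fun k' hk' => hZK _ h4 k' hk',
      mul_mem (inv_mem hk) (hKn.conj_mem k hk l), by group⟩
  intro a ha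
  exact h2 a (mem_fam ha (mem_top a))

/-- A normal subgroup avoiding the family is trivial. -/
theorem eq_bot_of_avoid (h : CMin 𝒜 P) {N : Subgroup G} (hN : N.Normal) (hA : ∀ a ∈ 𝒜, a ∈ N → a = 1) :
    N = ⊥ := by
  classical
  haveI : Fact (Nat.Prime 2) := ⟨Nat.prime_two⟩
  haveI := hN
  by_contra hNe
  set K := fam 𝒜 (⊤ : Subgroup G) with hK
  haveI hKn : K.Normal := h.closed.fam_normal ⊤
  set T := fam 𝒜 (P : Subgroup G) with hT
  set L := PR (centralizer (T : Set G)) with hL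
  -- the family centralizes `N`
  have hcz := ClosedZ.centralize h.closed N (ClosedZ.oddCore_eq_bot_of_normal h.oddCore _ hN) hA
  have hKN : K ≤ centralizer (N : Set G) := by
    rw [hK, fam_le_iff]
    intro a ha _
    rw [mem_centralizer_iff]
    intro n hn
    exact (hcz a ha n hn).symm
  -- the quotient
  set π : G →* G ⧸ N := QuotientGroup.mk' N with hπ
  have hπs : Function.Surjective π := QuotientGroup.mk'_surjective _
  have hker : π.ker = N := QuotientGroup.ker_mk' _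
  haveI hOn : (Cfsg.oddCore (G ⧸ N)).Normal := Cfsg.Agent.Lib.Cores.pPrimeCore_normal 2
  have hltN : Nat.card (G ⧸ N) < Nat.card G := by
    rw [Subgroup.card_eq_card_quotient_mul_card_subgroup N]
    have h1 : 1 < Nat.card N := by
      rw [Subgroup.one_lt_card_iff_ne_bot]; exact hNe
    exact lt_mul_of_one_lt_right Nat.card_pos h1
  have hlt : Nat.card ((G ⧸ N) ⧸ Cfsg.oddCore (G ⧸ N)) < Nat.card G := by
    refine lt_of_le_of_lt ?_ hltN
    rw [Subgroup.card_eq_card_quotient_mul_card_subgroup (Cfsg.oddCore (G ⧸ N))]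
    exact Nat.le_mul_of_pos_right _ Nat.card_pos
  have hgood := normal_sup_of_good (h.closed.image hπs) (P.mapSurjective hπs) (h.good _ hlt)
  rw [Sylow.coe_mapSurjective, ← map_fam h.closed π P] at hgood
  have hLbar : L.map π ≤ PR (centralizer ((T.map π : Subgroup (G ⧸ N)) : Set (G ⧸ N))) := by
    refine (map_PR_le π _).trans (PR_mono ?_)
    rintro _ ⟨x, hx, rfl⟩
    rw [mem_centralizer_iff]
    rintro _ ⟨t, ht, rfl⟩
    rw [← map_mul, ← map_mul, mem_centralizer_comm hx ht]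
  set D : Subgroup G := (Cfsg.oddCore (G ⧸ N)).comap π with hD
  haveI hDn : D.Normal := hOn.comap π
  have hcD : ∀ a ∈ 𝒜, ∀ l ∈ L, a * l * a⁻¹ * l⁻¹ ∈ D := by
    intro a ha l hl
    have h1 := comm_mem_of_normal_sup (h.closed.image hπs) (H := ⊤) (R := (P : Subgroup G).map π)
      (O := Cfsg.oddCore (G ⧸ N)) (L := PR (centralizer ((T.map π : Subgroup (G ⧸ N)) : Set (G ⧸ N))))
      (isSyl_top (P.mapSurjective hπs)) (by rw [Subgroup.normalizer_eq_top]) le_top ?_
      (by rw [Subgroup.normalizer_eq_top_iff.2 hgood]) (a := π a) (l := π l) ⟨a, ha, rfl⟩ (mem_top _)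
      (hLbar ⟨l, hl, rfl⟩)
    · rw [hD, mem_comap]
      simpa only [map_mul, map_inv] using h1
    · intro x hx t ht
      rw [← map_fam h.closed π P] at ht
      exact PR_centralizer_comm hx ht
  -- `Z = Z(N)`
  set C : Subgroup G := centralizer (N : Set G) ⊓ D with hC
  haveI hCn : C.Normal := inferInstance
  set Z : Subgroup G := N ⊓ centralizer (N : Set G) with hZ
  haveI hZn : Z.Normal := inferInstance
  have hZc : ∀ x ∈ Z, ∀ y ∈ Z, x * y = y * x := fun x hx y hy =>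
    (mem_centralizer_comm (mem_inf.1 hx).2 (mem_inf.1 hy).1)
  have hZ2 : IsPGroup 2 Z := isPGroup_of_abelian_normal h.oddCore hZn hZc
  have hCZ : C ≤ Z := by
    refine ClosedZ.le_of_central_odd_index h.oddCore C Z hCn hZ2 ?_ ?_
    · intro z hz c hc
      exact (mem_centralizer_comm (mem_inf.1 hc).1 (mem_inf.1 hz).1).symm
    · have h0 : Z.relIndex C = N.relIndex C := by
        have h1 : Z ⊓ C = N ⊓ C := by
          apply le_antisymm
          · exact inf_le_inf_right _ inf_le_left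
          · refine le_inf (le_inf inf_le_left ?_) inf_le_right
            exact inf_le_right.trans inf_le_left
        rw [← inf_relIndex_right Z C, h1, inf_relIndex_right]
      have h1 : N.relIndex C = Nat.card (C.map π) := by
        have h2 : N.subgroupOf C = (π.comp C.subtype).ker := by
          ext x
          rw [mem_subgroupOf, MonoidHom.mem_ker, MonoidHom.comp_apply]
          exact (QuotientGroup.eq_one_iff (x : G)).symm
        rw [relIndex, h2, Subgroup.index_ker, MonoidHom.range_eq_map, ← Subgroup.map_map,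
          ← MonoidHom.range_eq_map, Subgroup.range_subtype]
      rw [h0, h1]
      have h3 : C.map π ≤ Cfsg.oddCore (G ⧸ N) := by
        rw [map_le_iff_le_comap]; exact inf_le_right
      have h4 : Nat.Coprime (Nat.card (Cfsg.oddCore (G ⧸ N))) 2 :=
        Cfsg.Agent.Lib.Cores.pPrimeCore_coprime 2
      exact Nat.coprime_two_right.1 (h4.coprime_dvd_left (card_dvd_of_le h3))
  -- conclusion
  refine h.false_of_comm fun l hl => ?_
  refine h.comm_of_central (Z := Z) hZn ?_ ?_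
  · intro z hz k hk
    exact (mem_centralizer_comm (hKN hk) (mem_inf.1 hz).1).symm
  · intro a ha
    refine hCZ (mem_inf.2 ⟨hKN ?_, hcD a ha l hl⟩)
    have haK : a ∈ K := mem_fam ha (mem_top a)
    have h1 := mul_mem haK (hKn.conj_mem _ (inv_mem haK) l)
    have e : a * (l * a⁻¹ * l⁻¹) = a * l * a⁻¹ * l⁻¹ := by group
    rwa [e] at h1

/-- `K` is the unique minimal normal subgroup. -/
theorem le_of_ne_bot (h : CMin 𝒜 P) {N : Subgroup G} (hN : N.Normal) (hNe : N ≠ ⊥) : fam 𝒜 ⊤ ≤ N := by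
  refine h.le_of_normal hN ?_
  by_contra hcon
  push Not at hcon
  exact hNe (h.eq_bot_of_avoid hN hcon)

/-- `C_G(K) = 1`. -/
theorem centralizer_eq_bot (h : CMin 𝒜 P) : centralizer (fam 𝒜 (⊤ : Subgroup G) : Set G) = ⊥ := by
  haveI hKn : (fam 𝒜 (⊤ : Subgroup G)).Normal := h.closed.fam_normal ⊤
  by_contra hne
  have h1 := h.le_of_ne_bot (N := centralizer (fam 𝒜 (⊤ : Subgroup G) : Set G)) inferInstance hne
  obtain ⟨a, ha, ha1⟩ := h.nontriv
  refine ha1 (h.eq_one_of_comm ha fun g => ?_)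
  exact mem_centralizer_comm (h1 (mem_fam ha (mem_top a))) (mem_fam (h.closed.conj_mem a ha g) (mem_top _))

/-- `G = K L`. -/
theorem eq_top_of_le (h : CMin 𝒜 P) {M : Subgroup G} (hKM : fam 𝒜 ⊤ ≤ M)
    (hLM : PR (centralizer (fam 𝒜 (P : Subgroup G) : Set G)) ≤ M) : M = ⊤ := by
  classical
  by_contra hM
  set K := fam 𝒜 (⊤ : Subgroup G) with hK
  haveI hKn : K.Normal := h.closed.fam_normal ⊤
  set T := fam 𝒜 (P : Subgroup G) with hT
  set L := PR (centralizer (T : Set G)) with hL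
  have hTK : T ≤ K := fam_mono 𝒜 le_top
  obtain ⟨R, hTR, hR⟩ := exists_isSyl (isPGroup_fam 𝒜 P.2 : IsPGroup 2 T) (hTK.trans hKM)
  have hfR : T = fam 𝒜 R := by
    refine Subgroup.eq_of_le_of_card_ge ?_ (card_fam_le h.closed P hR.two)
    intro t ht
    exact mem_fam ((h.closed.mem_fam_iff P.2).1 ht).1 (hTR ht)
  have hind := ind_of_good h.closed h.good M hM R hR
  rw [← hfR] at hind
  have hLJ : L ≤ PR (centralizer (T : Set G) ⊓ M) := le_PR (le_inf (PR_le _) hLM) (PR_perfect _)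
  have hcoreN : M ≤ normalizer (core M : Set G) := by
    intro n hn
    rw [mem_normalizer_iff]
    intro x
    refine ⟨fun hx => conj_mem_core hn hx, fun hx => ?_⟩
    have h6 := conj_mem_core (inv_mem hn) hx
    have e : n⁻¹ * (n * x * n⁻¹) * n⁻¹⁻¹ = x := by group
    rwa [e] at h6
  have hcoreK : core K = ⊥ := by
    unfold core
    rw [ClosedZ.oddCore_eq_bot_of_normal h.oddCore K hKn, Subgroup.map_bot]
  have hbot : core M ⊓ K = ⊥ := by
    rw [eq_bot_iff, ← hcoreK]
    refine ClosedLocal.le_core inf_le_right ?_ ?_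
    · intro x hx y hy
      exact mem_inf.2 ⟨conj_mem_core (hKM hx) (mem_inf.1 hy).1, hKn.conj_mem y (mem_inf.1 hy).2 x⟩
    · exact (odd_core M).of_dvd_nat (card_dvd_of_le inf_le_left)
  refine h.false_of_comm fun l hl a ha => ?_
  have haK : a ∈ K := mem_fam ha (mem_top a)
  have h1 := comm_mem_of_normal_sup h.closed hR hcoreN
    (L := PR (centralizer (T : Set G) ⊓ M)) ((PR_le _).trans inf_le_right)
    (fun x hx t ht => by
      rw [← hfR] at ht
      exact mem_centralizer_comm (mem_inf.1 (PR_le _ hx)).1 ht) hind ha (hKM haK) (hLJ hl)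
  have h2 : a * l * a⁻¹ * l⁻¹ ∈ K := by
    have h1 := mul_mem haK (hKn.conj_mem _ (inv_mem haK) l)
    have e : a * (l * a⁻¹ * l⁻¹) = a * l * a⁻¹ * l⁻¹ := by group
    rwa [e] at h1
  have h3 : a * l * a⁻¹ * l⁻¹ = 1 := by
    have : a * l * a⁻¹ * l⁻¹ ∈ core M ⊓ K := mem_inf.2 ⟨h1, h2⟩
    rwa [hbot, mem_bot] at this
  have h4 : a * l * a⁻¹ = l := mul_inv_eq_one.1 h3
  calc l * a = a * l * a⁻¹ * a := by rw [h4]
    _ = a * l := by group

/-- `K` is simple. -/
theorem isSimpleGroup (h : CMin 𝒜 P) : IsSimpleGroup (fam 𝒜 (⊤ : Subgroup G)) := by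
  classical
  set K := fam 𝒜 (⊤ : Subgroup G) with hK
  haveI hKn : K.Normal := h.closed.fam_normal ⊤
  set T := fam 𝒜 (P : Subgroup G) with hT
  set L := PR (centralizer (T : Set G)) with hL
  have hTK : T ≤ K := fam_mono 𝒜 le_top
  have hLT : ∀ x ∈ L, ∀ t ∈ T, x * t = t * x := fun x hx t ht => PR_centralizer_comm hx ht
  have hKLtop : K ⊔ L = ⊤ := h.eq_top_of_le le_sup_left le_sup_right
  have hnt : Nontrivial K := by
    obtain ⟨a, ha, ha1⟩ := h.nontriv
    refine ⟨⟨a, mem_fam ha (mem_top a)⟩, 1, fun he => ha1 (congrArg Subtype.val he)⟩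
  refine ⟨fun Y hY => ?_⟩
  by_contra hcon
  push Not at hcon
  obtain ⟨hYbot, hYtop⟩ := hcon
  set Y' : Subgroup G := Y.map K.subtype with hY'
  have hY'K : Y' ≤ K := by rintro _ ⟨y, -, rfl⟩; exact y.2
  have hKY' : K ≤ normalizer (Y' : Set G) := le_normalizer_map_subtype hY
  have hYmap : ∀ x : G, x ∈ Y' → ∃ hx : x ∈ K, (⟨x, hx⟩ : K) ∈ Y := by
    rintro _ ⟨y, hy, rfl⟩
    exact ⟨y.2, hy⟩
  by_cases hA : ∀ a ∈ 𝒜, a ∈ Y' → a = 1
  · -- the family avoids `Y`: apply (Z) in `K`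
    have hOY : Cfsg.oddCore ↥Y = ⊥ :=
      ClosedZ.oddCore_eq_bot_of_normal (ClosedZ.oddCore_eq_bot_of_normal h.oddCore K hKn) Y hY
    have hcz := ClosedZ.centralize (h.closed.restrict K) Y hOY (by
      intro a ha haY
      exact Subtype.ext (hA a ha ⟨a, haY, rfl⟩))
    have h1 : ∀ y ∈ Y', y = 1 := by
      intro y hy
      obtain ⟨hyK, hyY⟩ := hYmap y hy
      have h2 : y ∈ centralizer (K : Set G) := by
        rw [mem_centralizer_iff]
        have h3 : K ≤ centralizer ({y} : Set G) := by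
          rw [hK, fam_le_iff]
          intro a ha _
          rw [mem_centralizer_singleton_iff]
          have haK : a ∈ K := mem_fam ha (mem_top a)
          exact congrArg Subtype.val (hcz ⟨a, haK⟩ ha ⟨y, hyK⟩ hyY)
        intro k hk
        have h4 := h3 hk
        rwa [mem_centralizer_singleton_iff] at h4
      rw [hK, h.centralizer_eq_bot, mem_bot] at h2
      exact h2
    apply hYbot
    rw [eq_bot_iff]
    intro y hy
    rw [mem_bot]
    exact Subtype.ext (h1 y ⟨y, hy, rfl⟩)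
  · -- the normal core of `Y'` is nontrivial
    push Not at hA
    obtain ⟨a, ha, haY, ha1⟩ := hA
    have haK : a ∈ K := hY'K haY
    -- conjugate `a` into `T` by an element of `K`
    have hPK : IsSyl ((P : Subgroup G) ⊓ K) K :=
      (isSyl_top P).inf le_top (by rw [Subgroup.normalizer_eq_top])
    obtain ⟨k, hk, hkP⟩ := hPK.conj (zpowers a) (h.closed.isPGroup_zpowers ha) (by
      rw [zpowers_le]; exact haK)
    have hbT : k * a * k⁻¹ ∈ T :=
      mem_fam (h.closed.conj_mem a ha k) (mem_inf.1 (hkP a (mem_zpowers a))).1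
    have hbY : k * a * k⁻¹ ∈ Y' := (mem_normalizer_iff.1 (hKY' hk) a).1 haY
    have hb1 : k * a * k⁻¹ ≠ 1 := by
      intro he
      have e : a = k⁻¹ * (k * a * k⁻¹) * k := by group
      rw [he] at e
      apply ha1; rw [e]; group
    set b := k * a * k⁻¹ with hb
    have hcore : b ∈ Y'.normalCore := by
      intro g
      -- `g = x y` with `x ∈ L`, `y ∈ K`
      have hg : g⁻¹ ∈ K ⊔ L := by rw [hKLtop]; exact mem_top _
      have hLK : L ≤ normalizer (K : Set G) := by rw [Subgroup.normalizer_eq_top]; exact le_top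
      obtain ⟨x, hx, y, hy, e⟩ := exists_mul_of_mem_sup hLK hg
      have e2 : g * b * g⁻¹ = y⁻¹ * (x⁻¹ * b * x) * y := by
        have : g = y⁻¹ * x⁻¹ := by
          rw [← inv_inv g, e]; group
        rw [this]; group
      have h3 : x⁻¹ * b * x = b := by
        have := hLT x hx b hbT
        rw [mul_assoc, ← this]; group
      rw [e2, h3]
      have h4 := (mem_normalizer_iff.1 (hKY' (inv_mem hy)) b).1 hbY
      rwa [inv_inv] at h4
    have h1 : Y'.normalCore ≠ ⊥ := by
      intro he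
      rw [he, mem_bot] at hcore
      exact hb1 hcore
    have h2 := h.le_of_ne_bot (N := Y'.normalCore) inferInstance h1
    apply hYtop
    rw [eq_top_iff]
    intro y _
    have h3 : (y : G) ∈ Y' := Subgroup.normalCore_le Y' (h2 y.2)
    exact (hYmap _ h3).2

end CMin

/-- **The residual theorem from the end theorem** (`hend`): Feit-Thompson, the product theorem for disjoint closed
families and the case of a simple normal subgroup `X ≥ T` imply the claim for all finite groups. -/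
theorem good_of_end (hFT : ∀ (K : Type u) [Group K] [Finite K], Odd (Nat.card K) → Group.IsSolvable K)
    (hC1 : ∀ (G : Type u) [Group G] [Finite G] (𝒜 ℬ : Set G), Pair 𝒜 ℬ →
      ⁅fam 𝒜 ⊤, fam ℬ ⊤⁆ ≤ Cfsg.oddCore G)
    (hend : ∀ (G : Type u) [Group G] [Finite G] (S : Sylow 2 G) (X T A : Subgroup G), X.Normal →
      IsSimpleGroup X → T ≤ X → Cfsg.IsStronglyClosed T (S : Subgroup G) → T ≠ ⊥ →
      (∀ t ∈ T, t * t = 1) → A ≤ ⁅A, A⁆ → (∀ a ∈ A, ∀ t ∈ T, a * t = t * a) → T ≤ A → X ⊔ A = ⊤ →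
      centralizer (X : Set G) = ⊥ → ⁅X, A⁆ = ⊥)
    (G : Type u) [Group G] [Finite G] : Good G := by
  refine good_of_cmin hFT hC1 ?_ _ G rfl
  intro G _ _ 𝒜 P h
  have hne : fam 𝒜 (P : Subgroup G) ≠ ⊥ := by
    intro he
    obtain ⟨a, ha, ha1⟩ := exists_mem_fam_ne_one h.closed P h.nontriv
    rw [he, mem_bot] at ha
    exact ha1 ha
  have h1 := hend G P (fam 𝒜 ⊤) (fam 𝒜 (P : Subgroup G)) (PR (centralizer (fam 𝒜 (P : Subgroup G) : Set G)))
    (h.closed.fam_normal ⊤) h.isSimpleGroup (fam_mono 𝒜 le_top) (h.closed.isStronglyClosed P) hne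
    (fun t ht => h.sq t ((h.closed.mem_fam_iff P.2).1 ht).1) (PR_perfect _)
    (fun a ha t ht => PR_centralizer_comm ha ht) h.le (h.eq_top_of_le le_sup_left le_sup_right)
    h.centralizer_eq_bot
  refine h.false_of_comm fun l hl a ha => ?_
  rw [commutator_eq_bot_iff_le_centralizer] at h1
  exact (mem_centralizer_comm (h1 (mem_fam ha (mem_top a))) hl).symm

end Cfsg.Agent.TwoFusion.CentResidual
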