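import Mathlib
import Cfsg.Prelude.Def_TwoFusion
import Cfsg.Agent.TwoFusion.Isolated
import Cfsg.Agent.TwoFusion.InvariantSylow
import Cfsg.Agent.Solvable.UniqueOrderP
import Cfsg.Agent.SignalizersComponents.QsBasic
import Cfsg.Agent.S1180

/-!
# The rank one case of the `Z*`-theorem from the Brauer-Suzuki theorem
-/

set_option autoImplicit false
open Cfsg

universe u

namespace Cfsg.Agent.TwoFusion.RankOneBS

open Cfsg.Agent.TwoFusion Cfsg.Agent.TwoFusion.InvariantSylow

/-- the Brauer-Suzuki theorem (S0201) as a hypothesis. -/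
def BrauerSuzuki : Prop :=
  ∀ (G : Type u) [Group G] [Finite G] (S : Sylow 2 G) (n : ℕ)
    (_ : (S : Subgroup G) ≃* QuaternionGroup (2 ^ (n + 1)))
    (_ : ∀ N : Subgroup G, N.Normal → Odd (Nat.card N) → N = ⊥), Nat.card (Subgroup.center G) = 2

/-- an isolated involution `t` which is the only involution of its centralizer is central modulo a
normal subgroup of odd order: cyclic case. -/
theorem rankOne_cyclic {H : Type u} [Group H] [Finite H] (t : H) (ht : Cfsg.IsIsolatedInvolution t)
    (S : Sylow 2 H) (hS : IsCyclic S) :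
    ∃ N : Subgroup H, N.Normal ∧ Odd (Nat.card N) ∧ ∀ g : H, t * g * t⁻¹ * g⁻¹ ∈ N := by
  have : Fact (Nat.Prime 2) := ⟨Nat.prime_two⟩
  have hmin : (Nat.card H).minFac = 2 := by
    rw [Nat.minFac_eq_two_iff]
    have h1 := orderOf_dvd_natCard t
    rwa [ht.1] at h1
  have hnc := hS.normalizer_le_centralizer hmin
  refine ⟨(MonoidHom.transferSylow S hnc).ker, inferInstance, ?_, ?_⟩
  · rw [← Nat.not_even_iff_odd, even_iff_two_dvd]
    exact MonoidHom.not_dvd_card_ker_transferSylow S hnc
  · intro g
    rw [MonoidHom.mem_ker]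
    have hcomm : ∀ a b : S, a * b = b * a := by
      intro a b
      have h1 : IsMulCommutative S := IsCyclic.isMulCommutative
      exact h1.is_comm.comm a b
    rw [map_mul, map_mul, map_mul, map_inv, map_inv, hcomm (MonoidHom.transferSylow S hnc t)]
    simp

/-- the rank one case of the `Z*`-theorem from the Brauer-Suzuki theorem -/
theorem rankOne_of_brauerSuzuki (BS : BrauerSuzuki.{u}) : RankOne.{u} := by
  intro H _ _ t ht huniq
  have : Fact (Nat.Prime 2) := ⟨Nat.prime_two⟩
  have htt := Isolated.mul_self ht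
  have htp : IsPGroup 2 (Subgroup.zpowers t) := by
    apply IsPGroup.of_card (n := 1)
    rw [Nat.card_zpowers, ht.1, pow_one]
  obtain ⟨S, hS⟩ := htp.exists_le_sylow
  have htS : t ∈ S := hS (Subgroup.mem_zpowers t)
  have hcen := Cfsg.Agent.S1180.mem_center_of_isPGroup t ht S S.isPGroup' htS
  have huS : ∀ x ∈ S, x * x = 1 → x ≠ 1 → x = t := by
    intro x hx hxx hx1
    apply huniq x
    · rw [orderOf_eq_prime_iff]
      exact ⟨by rw [pow_two]; exact hxx, hx1⟩
    · have := hcen x hx
      show x * t = t * x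
      nth_rewrite 2 [← this]
      group
  have hU : Cfsg.Agent.Solvable.UniqueOrderP.UniqueP 2 S := by
    intro x y hx1 hx2 hy2
    have hxt : (x : H) = t := huS x x.2 (by
      have := congrArg Subtype.val hx2
      rw [pow_two] at this
      exact this) (by
      intro h; exact hx1 (Subtype.ext h))
    by_cases hy1 : y = 1
    · rw [hy1]; exact Subgroup.one_mem _
    · have hyt : (y : H) = t := huS y y.2 (by
        have := congrArg Subtype.val hy2
        rw [pow_two] at this
        exact this) (by
        intro h; exact hy1 (Subtype.ext h))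
      have : y = x := Subtype.ext (hyt.trans hxt.symm)
      rw [this]
      exact Subgroup.mem_zpowers x
  rcases Cfsg.Agent.Solvable.UniqueOrderP.cyclic_or_quaternion S.isPGroup' hU with hc | ⟨-, m, hm, ⟨e⟩⟩
  · exact rankOne_cyclic t ht S hc
  · obtain ⟨n, rfl⟩ := Nat.exists_eq_succ_of_ne_zero hm
    obtain ⟨N, hN1, hN2, hN3⟩ :=
      Cfsg.Agent.SignalizersComponents.QsBasic.exists_maximal_odd_normal H
    refine ⟨N, hN1, hN2, ?_⟩
    set π := QuotientGroup.mk' N with hπ
    have hπs : Function.Surjective π := QuotientGroup.mk'_surjective N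
    -- `S ∩ N = 1`
    have hSN : ∀ x ∈ S, x ∈ N → x = 1 := by
      intro x hxS hxN
      have h1 : Nat.Coprime (Nat.card S) (Nat.card N) := by
        obtain ⟨k, hk⟩ := IsPGroup.iff_card.mp S.isPGroup'
        have hk' : Nat.card S = 2 ^ k := hk
        rw [hk']
        exact Nat.Coprime.pow_left _ (Nat.coprime_two_left.mpr hN2)
      have h2 : orderOf x ∣ Nat.card S := by
        have := orderOf_dvd_natCard (⟨x, hxS⟩ : S)
        rwa [← Subgroup.orderOf_coe] at this
      have h3 : orderOf x ∣ Nat.card N := by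
        have := orderOf_dvd_natCard (⟨x, hxN⟩ : N)
        rwa [← Subgroup.orderOf_coe] at this
      have h4 : orderOf x ∣ 1 := by
        rw [← h1]
        exact Nat.dvd_gcd h2 h3
      exact orderOf_eq_one_iff.mp (Nat.dvd_one.mp h4)
    let P := S.mapSurjective hπs
    have hP : (P : Subgroup (H ⧸ N)) = (S : Subgroup H).map π := Sylow.coe_mapSurjective hπs S
    -- the isomorphism `S ≃* P`
    have hinj : Function.Injective (π.domRestrict (S : Subgroup H)) := by
      rw [injective_iff_map_eq_one]
      intro x hx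
      have h1 : (x : H) ∈ N := by
        rw [← QuotientGroup.ker_mk' N, MonoidHom.mem_ker]
        exact hx
      exact Subtype.ext (hSN x x.2 h1)
    have e1 : (S : Subgroup H) ≃* (π.domRestrict (S : Subgroup H)).range :=
      MonoidHom.ofInjective hinj
    have hrange : (π.domRestrict (S : Subgroup H)).range = (P : Subgroup (H ⧸ N)) := by
      rw [hP, MonoidHom.domRestrict_range]
    have e2 : (P : Subgroup (H ⧸ N)) ≃* QuaternionGroup (2 ^ (n + 1)) :=
      ((MulEquiv.subgroupCongr hrange).symm.trans e1.symm).trans e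
    have hc2 := BS (H ⧸ N) P n e2 (fun M hM hM' => hN3 M hM hM')
    -- a central involution
    obtain ⟨c, hc⟩ := exists_prime_orderOf_dvd_card' 2 (dvd_of_eq hc2.symm)
    have hcc : (c : H ⧸ N) * c = 1 := by
      have h1 := pow_orderOf_eq_one c
      rw [hc, pow_two] at h1
      exact congrArg Subtype.val h1
    have hc1 : (c : H ⧸ N) ≠ 1 := by
      intro h
      have : c = 1 := Subtype.ext h
      rw [this, orderOf_one] at hc
      exact absurd hc (by norm_num)
    have hcz : ∀ y : H ⧸ N, y * c = c * y := fun y => Subgroup.mem_center_iff.mp c.2 y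
    have hcP : (c : H ⧸ N) ∈ P := by
      have h1 : IsPGroup 2 (Subgroup.zpowers (c : H ⧸ N)) := by
        apply IsPGroup.of_card (n := 1)
        rw [Nat.card_zpowers, Subgroup.orderOf_coe, hc, pow_one]
      have h2 : IsPGroup 2 (Subgroup.zpowers (c : H ⧸ N) ⊔ P : Subgroup (H ⧸ N)) := by
        apply IsPGroup.to_sup_of_normal_right' h1 P.isPGroup'
        rw [Subgroup.zpowers_le, Subgroup.mem_normalizer_iff]
        intro y
        rw [← hcz y, mul_inv_cancel_right]
      have h3 := P.is_maximal' h2 le_sup_right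
      show (c : H ⧸ N) ∈ (P : Subgroup (H ⧸ N))
      rw [← h3]
      exact (le_sup_left : Subgroup.zpowers (c : H ⧸ N) ≤ _) (Subgroup.mem_zpowers _)
    have hcP' : (c : H ⧸ N) ∈ (S : Subgroup H).map π := by rw [← hP]; exact hcP
    obtain ⟨s, hs, hsc⟩ := hcP'
    have hss : s * s = 1 := by
      apply hSN _ (S.mul_mem hs hs)
      rw [← QuotientGroup.ker_mk' N, MonoidHom.mem_ker]
      show π (s * s) = 1
      rw [map_mul, hsc, hcc]
    have hs1 : s ≠ 1 := by
      rintro rfl
      apply hc1
      rw [← hsc, map_one]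
    have hst := huS s hs hss hs1
    rw [hst] at hsc
    intro g
    rw [← QuotientGroup.ker_mk' N, MonoidHom.mem_ker]
    show π (t * g * t⁻¹ * g⁻¹) = 1
    rw [map_mul, map_mul, map_mul, map_inv, map_inv, hsc, ← hcz (π g)]
    simp

end Cfsg.Agent.TwoFusion.RankOneBS
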