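import Cfsg.Prelude.Def_CaseTheorems
import Cfsg.Agent.Lib.Dihedral
import Cfsg.Agent.S0112
import Cfsg.Agent.S0113

/-!
# 2-groups of maximal class: recognition of dihedral and quasi-dihedral groups

* `dihedral_or_qd_of_card_centralizer_eq_four`: a finite 2-group with a non-central involution `v` whose
  centralizer has order 4 is dihedral or quasi-dihedral.
-/

set_option autoImplicit false

namespace Cfsg.Agent.TwoFusion.MaxClass

open Subgroup

/-- A finite 2-group with a cyclic subgroup of index 2 and an involution `v` outside it whose fixed points in the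
cyclic subgroup have order at most 2 is dihedral or quasi-dihedral. -/
theorem dihedral_or_qd_of_cyclic {S : Type*} [Group S] [Finite S] (n : ℕ) (hn : 1 ≤ n)
    (x : S) (hx : orderOf x = 2 ^ n) (hcard : Nat.card S = 2 ^ (n + 1)) (v : S) (hv : orderOf v = 2)
    (hvx : v ∉ Subgroup.zpowers x) (hfix : ∀ k : ℤ, v * x ^ k * v⁻¹ = x ^ k → x ^ (2 * k) = 1) :
    (∃ m : ℕ, 2 ≤ m ∧ Nonempty (S ≃* DihedralGroup m)) ∨ Cfsg.IsQuasiDihedral S := by
  have hvv : v * v = 1 := by rw [← pow_two, ← hv]; exact pow_orderOf_eq_one v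
  have hvinv : v⁻¹ = v := inv_eq_of_mul_eq_one_left hvv
  -- `zpowers x` has index 2, so it is normal
  have hidx : (Subgroup.zpowers x).index = 2 := by
    have h1 := Subgroup.card_mul_index (Subgroup.zpowers x)
    rw [Nat.card_zpowers, hx, hcard] at h1
    have h2 : (2 : ℕ) ^ (n + 1) = 2 ^ n * 2 := by ring
    rw [h2] at h1
    exact Nat.eq_of_mul_eq_mul_left (by positivity) h1
  have hnorm : (Subgroup.zpowers x).Normal := Subgroup.normal_of_index_eq_two hidx
  obtain ⟨r, hr⟩ := Subgroup.mem_zpowers_iff.mp (hnorm.conj_mem x (Subgroup.mem_zpowers x) v)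
  -- `x * (v x v⁻¹)` is fixed by `v`
  have h1 : v * x ^ r * v⁻¹ = x := by
    rw [hr]
    calc v * (v * x * v⁻¹) * v⁻¹ = (v * v) * x * (v * v)⁻¹ := by group
      _ = x := by rw [hvv]; group
  have h2 : v * x ^ (1 + r) * v⁻¹ = x ^ (1 + r) := by
    have h3 : v * x ^ (1 + r) * v⁻¹ = (v * x * v⁻¹) * (v * x ^ r * v⁻¹) := by
      rw [zpow_add, zpow_one]; group
    rw [h3, h1, ← hr, ← zpow_add_one, add_comm]
  have h4 := hfix (1 + r) h2
  -- so `2^n ∣ 2 * (1 + r)`
  have h5 : ((2 : ℤ) ^ n) ∣ 2 * (1 + r) := by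
    have := orderOf_dvd_iff_zpow_eq_one.mpr h4
    rw [hx] at this
    exact_mod_cast this
  obtain ⟨c, hc⟩ := h5
  obtain ⟨k, rfl⟩ := Nat.exists_eq_add_of_le' hn
  have h6 : 1 + r = 2 ^ k * c := by
    have : (2 : ℤ) ^ (k + 1) = 2 * 2 ^ k := by ring
    rw [this] at hc
    linarith
  rcases Int.even_or_odd c with ⟨d, hd⟩ | ⟨d, hd⟩
  · -- `r ≡ -1`
    have h7 : v * x * v⁻¹ = x⁻¹ := by
      rw [← hr, ← zpow_neg_one, zpow_eq_zpow_iff_modEq, hx]
      have h8 : r = -1 + (2 ^ (k + 1) : ℤ) * d := by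
        have : (2 : ℤ) ^ (k + 1) = 2 * 2 ^ k := by ring
        rw [this]
        have h9 : 2 ^ k * c = 2 * 2 ^ k * d := by rw [hd]; ring
        linarith
      rw [h8]
      push_cast
      exact (Int.modEq_iff_dvd.mpr ⟨-d, by ring⟩)
    left
    refine ⟨2 ^ (k + 1), ?_, ?_⟩
    · calc 2 = 2 ^ 1 := rfl
        _ ≤ 2 ^ (k + 1) := Nat.pow_le_pow_right (by norm_num) (by omega)
    · refine Cfsg.Agent.Lib.Dihedral.nonempty_mulEquiv (by positivity) x v hx hvv ?_ hvx ?_
      · rw [← h7, hvinv]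
      · rw [hcard]; ring
  · -- `r ≡ 2^k - 1`
    have h7 : r = 2 ^ k - 1 + 2 ^ (k + 1) * d := by
      have h9 : 2 ^ k * c = 2 ^ k + 2 ^ (k + 1) * d := by rw [hd]; ring
      linarith
    have h8 : v * x * v⁻¹ = x ^ ((2 : ℤ) ^ k - 1) := by
      rw [← hr, zpow_eq_zpow_iff_modEq, hx, h7]
      push_cast
      exact (Int.modEq_iff_dvd.mpr ⟨-d, by ring⟩)
    have hk0 : k ≠ 0 := by
      rintro rfl
      norm_num at h8
      -- `x = 1`
      have h9 : x = 1 := by
        calc x = v⁻¹ * (v * x * v⁻¹) * v := by group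
          _ = 1 := by rw [h8]; group
      rw [h9, orderOf_one] at hx
      norm_num at hx
    have hk1 : k ≠ 1 := by
      rintro rfl
      norm_num at h8
      have h9 := hfix 1 (by simpa using h8)
      have h10 := orderOf_dvd_iff_zpow_eq_one.mpr h9
      rw [hx] at h10
      norm_num at h10
    right
    refine ⟨k + 1, by omega, hcard, x, v, hx, hv, ?_⟩
    rw [h8, show k + 1 - 1 = k by omega, ← zpow_natCast, Nat.cast_sub Nat.one_le_two_pow]
    push_cast
    rfl

/-- A finite 2-group with a non-central involution whose centralizer has order 4 is dihedral or quasi-dihedral. -/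
theorem dihedral_or_qd_of_card_centralizer_eq_four {S : Type*} [Group S] [Finite S] (hS : IsPGroup 2 S)
    (v : S) (hv : orderOf v = 2) (hvc : v ∉ Subgroup.center S)
    (hc : Nat.card (Subgroup.centralizer ({v} : Set S)) = 4) :
    (∃ m : ℕ, 2 ≤ m ∧ Nonempty (S ≃* DihedralGroup m)) ∨ Cfsg.IsQuasiDihedral S := by
  haveI : Fact (Nat.Prime 2) := ⟨Nat.prime_two⟩
  obtain ⟨n, hn⟩ := IsPGroup.iff_card.mp hS
  have hvv : v * v = 1 := by rw [← pow_two, ← hv]; exact pow_orderOf_eq_one v
  have hvinv : v⁻¹ = v := inv_eq_of_mul_eq_one_left hvv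
  set A := Subgroup.centralizer ({v} : Set S) with hA
  have hvA : v ∈ A := by
    rw [hA, Subgroup.mem_centralizer_singleton_iff]
  -- A is self-centralizing
  have hAcomm : ∀ a ∈ A, ∀ b ∈ A, a * b = b * a := by
    have h4 : Nat.card A = 2 ^ 2 := by rw [hc]; norm_num
    have := IsPGroup.isMulCommutative_of_card_eq_prime_sq (p := 2) h4
    intro a ha b hb
    exact congrArg Subtype.val (this.is_comm.comm (⟨a, ha⟩ : A) ⟨b, hb⟩)
  have hCA : Subgroup.centralizer (A : Set S) = A := by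
    apply le_antisymm
    · intro g hg
      rw [hA, Subgroup.mem_centralizer_singleton_iff]
      exact (Subgroup.mem_centralizer_iff.mp hg v hvA).symm
    · intro g hg
      rw [Subgroup.mem_centralizer_iff]
      intro a ha
      exact hAcomm a ha g hg
  have hclass := Cfsg.Agent.S0112.result (p := 2) n hn A (by rw [hc]; norm_num) hCA
  -- n ≥ 3
  have hn3 : 3 ≤ n := by
    by_contra hlt
    have h1 : Nat.card A ∣ Nat.card S := Subgroup.card_subgroup_dvd_card A
    have h2 : A = ⊤ := by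
      apply Subgroup.eq_top_of_card_eq
      rw [hc, hn] at *
      have h3 := Nat.le_of_dvd (by positivity) h1
      interval_cases n <;> omega
    apply hvc
    rw [Subgroup.mem_center_iff]
    intro g
    have : g ∈ A := by rw [h2]; trivial
    rw [hA, Subgroup.mem_centralizer_singleton_iff] at this
    exact this
  obtain ⟨C, hC, hCidx⟩ := Cfsg.Agent.S0113.result n hn3 hn hclass
  obtain ⟨x, hxC, hCx⟩ : ∃ x : S, x ∈ C ∧ C = Subgroup.zpowers x := by
    obtain ⟨x, hx⟩ := hC.exists_generator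
    refine ⟨x, x.2, ?_⟩
    ext g
    constructor
    · intro hg
      obtain ⟨k, hk⟩ := Subgroup.mem_zpowers_iff.mp (hx ⟨g, hg⟩)
      rw [Subgroup.mem_zpowers_iff]
      exact ⟨k, by simpa using congrArg Subtype.val hk⟩
    · intro hg
      obtain ⟨k, hk⟩ := Subgroup.mem_zpowers_iff.mp hg
      rw [← hk]
      exact C.zpow_mem x.2 k
  obtain ⟨m, rfl⟩ := Nat.exists_eq_add_of_le' hn3
  have hCcard : Nat.card C = 2 ^ (m + 2) := by
    have h1 := Subgroup.card_mul_index C
    rw [hCidx, hn] at h1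
    have h2 : (2 : ℕ) ^ (m + 3) = 2 ^ (m + 2) * 2 := by ring
    rw [h2] at h1
    exact Nat.eq_of_mul_eq_mul_right (by norm_num) h1
  have hxord : orderOf x = 2 ^ (m + 2) := by
    rw [← hCcard, hCx, Nat.card_zpowers]
  have hCnorm : C.Normal := Subgroup.normal_of_index_eq_two hCidx
  -- the involution of C is unique
  have hinv : ∀ y ∈ C, y * y = 1 → y ≠ 1 → y = x ^ (2 ^ (m + 1)) := by
    intro y hy hyy hy1
    rw [hCx] at hy
    obtain ⟨k, rfl⟩ := Subgroup.mem_zpowers_iff.mp hy
    rw [← zpow_add] at hyy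
    have h1 := orderOf_dvd_iff_zpow_eq_one.mpr hyy
    rw [hxord] at h1
    have h2 : ((2 : ℤ) ^ (m + 1)) ∣ k := by
      obtain ⟨c, hc⟩ := h1
      refine ⟨c, ?_⟩
      have : ((2 ^ (m + 2) : ℕ) : ℤ) = 2 * 2 ^ (m + 1) := by push_cast; ring
      rw [this] at hc
      linarith
    obtain ⟨c, rfl⟩ := h2
    rcases Int.even_or_odd c with ⟨d, hd⟩ | ⟨d, hd⟩
    · exfalso
      apply hy1
      rw [← orderOf_dvd_iff_zpow_eq_one, hxord, hd]
      push_cast
      exact ⟨d, by ring⟩
    · rw [← zpow_natCast, zpow_eq_zpow_iff_modEq, hxord, hd]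
      push_cast
      exact (Int.modEq_iff_dvd.mpr ⟨-d, by ring⟩)
  have hvC : v ∉ C := by
    intro hvC
    apply hvc
    have hv1 : v ≠ 1 := by
      intro h
      rw [h, orderOf_one] at hv
      norm_num at hv
    rw [Subgroup.mem_center_iff]
    intro g
    have h1 : g * v * g⁻¹ = v := by
      rw [hinv v hvC hvv hv1]
      apply hinv
      · have := hCnorm.conj_mem v hvC g
        rwa [hinv v hvC hvv hv1] at this
      · rw [← hinv v hvC hvv hv1]
        calc g * v * g⁻¹ * (g * v * g⁻¹) = g * (v * v) * g⁻¹ := by group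
          _ = 1 := by rw [hvv]; group
      · rw [← hinv v hvC hvv hv1]
        intro h
        apply hv1
        have := congrArg (fun y => g⁻¹ * y * g) h
        simpa [mul_assoc] using this
    calc g * v = (g * v * g⁻¹) * g := by group
      _ = v * g := by rw [h1]
  refine dihedral_or_qd_of_cyclic (m + 2) (by omega) x hxord hn v hv (by rw [← hCx]; exact hvC) ?_
  -- fixed points
  intro k hk
  have hmem : x ^ k ∈ A ⊓ C := by
    refine ⟨?_, C.zpow_mem hxC k⟩
    show x ^ k ∈ A
    rw [hA, Subgroup.mem_centralizer_singleton_iff]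
    calc x ^ k * v = (v * x ^ k * v⁻¹) * v := by rw [hk]
      _ = v * x ^ k := by group
  have hlt : Nat.card (A ⊓ C : Subgroup S) < 4 := by
    rw [← hc]
    apply lt_of_le_of_ne (Subgroup.card_le_of_le inf_le_left)
    intro h
    have := Subgroup.eq_of_le_of_card_ge (inf_le_left : A ⊓ C ≤ A) h.ge
    apply hvC
    have h2 : v ∈ A ⊓ C := by rw [this]; exact hvA
    exact h2.2
  have hdvd : Nat.card (A ⊓ C : Subgroup S) ∣ 4 := by
    rw [← hc]; exact Subgroup.card_dvd_of_le inf_le_left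
  have hdvd2 : Nat.card (A ⊓ C : Subgroup S) ∣ 2 := by
    have h0 : 0 < Nat.card (A ⊓ C : Subgroup S) := Nat.card_pos
    interval_cases h : Nat.card (A ⊓ C : Subgroup S)
    · norm_num
    · norm_num
    · norm_num at hdvd
  have hpow := pow_card_eq_one' (x := (⟨x ^ k, hmem⟩ : (A ⊓ C : Subgroup S)))
  obtain ⟨c, hc2⟩ := hdvd2
  have h3 : ((⟨x ^ k, hmem⟩ : (A ⊓ C : Subgroup S))) ^ 2 = 1 := by
    rw [hc2, pow_mul, hpow, one_pow]
  have h4 := congrArg Subtype.val h3
  simp only [Subgroup.coe_pow, Subgroup.coe_one] at h4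
  rw [mul_comm, zpow_mul]
  exact_mod_cast h4

end Cfsg.Agent.TwoFusion.MaxClass
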