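import Mathlib

/-!
# Fixed-point-free automorphisms of order three

A finite group with a fixed-point-free endomorphism `α` with `α ^ 3 = 1` is a 2-Engel group:
`x` commutes with `α x` and with all its own conjugates.
-/

set_option autoImplicit false

open scoped commutatorElement

namespace Cfsg.Agent.TwoFusion.FpfThree

/-- `α` is an endomorphism with `α ^ 3 = 1` without nontrivial fixed points. -/
structure Fpf3 {G : Type*} [Group G] (α : G →* G) : Prop where
  cube : ∀ x, α (α (α x)) = x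
  fpf : ∀ x, α x = x → x = 1

namespace Fpf3

variable {G : Type*} [Group G] {α : G →* G}

theorem injective (h : Fpf3 α) : Function.Injective α := by
  intro x y hxy
  rw [← h.cube x, ← h.cube y, hxy]

theorem map_eq_one (h : Fpf3 α) {x : G} (hx : α x = 1) : x = 1 := by
  apply h.injective
  rw [hx, map_one]

theorem exists_eq [Finite G] (h : Fpf3 α) (x : G) : ∃ y, x = y⁻¹ * α y := by
  have hinj : Function.Injective (fun y : G => y⁻¹ * α y) := by
    intro a b hab
    have hab' : a⁻¹ * α a = b⁻¹ * α b := hab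
    have : α (b * a⁻¹) = b * a⁻¹ := by
      rw [map_mul, map_inv]
      have h1 : α a = a * b⁻¹ * α b := by
        rw [mul_assoc, ← hab']; group
      rw [h1]; group
    have h2 := h.fpf _ this
    rw [mul_inv_eq_one] at h2
    exact h2.symm
  obtain ⟨y, hy⟩ := (Finite.injective_iff_surjective.1 hinj) x
  exact ⟨y, hy.symm⟩

/-- `x * α x * α² x = 1`. -/
theorem prod_eq_one [Finite G] (h : Fpf3 α) (x : G) : x * α x * α (α x) = 1 := by
  obtain ⟨y, rfl⟩ := h.exists_eq x
  simp only [map_mul, map_inv, h.cube]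
  group

theorem sq (h : Fpf3 α) : Fpf3 (α.comp α) where
  cube x := by simp only [MonoidHom.comp_apply, h.cube]
  fpf x hx := by
    apply h.fpf
    have h1 : α (α x) = x := hx
    calc α x = α (α (α x)) := by rw [h1]
      _ = x := h.cube x

/-- `x * α² x * α x = 1`. -/
theorem prod_eq_one' [Finite G] (h : Fpf3 α) (x : G) : x * α (α x) * α x = 1 := by
  have h1 := h.sq.prod_eq_one x
  simp only [MonoidHom.comp_apply, h.cube] at h1
  exact h1

theorem map_map [Finite G] (h : Fpf3 α) (x : G) : α (α x) = (x * α x)⁻¹ :=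
  (inv_eq_of_mul_eq_one_right (h.prod_eq_one x)).symm

/-- `x` commutes with `α x`. -/
theorem comm [Finite G] (h : Fpf3 α) (x : G) : x * α x = α x * x := by
  have h1 := h.prod_eq_one x
  have h2 := h.prod_eq_one' (α x)
  rw [h.cube] at h2
  -- h2 : α x * x * α (α x) = 1
  rw [← h2] at h1
  exact mul_right_cancel h1

/-- `x` commutes with `α² x`. -/
theorem comm' [Finite G] (h : Fpf3 α) (x : G) : x * α (α x) = α (α x) * x :=
  h.sq.comm x

theorem key [Finite G] (h : Fpf3 α) (x y : G) :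
    y⁻¹ * x * y * α x = α y * (x * α x) * (α y)⁻¹ := by
  have h1 := h.prod_eq_one (x * y)
  simp only [map_mul, h.map_map] at h1
  have h2 : x * y * (α x * α y) = y * α y * (x * α x) := by
    have := mul_eq_one_iff_eq_inv.1 h1
    rw [this]; group
  have h3 : y * α y * (x * α x) * (α y)⁻¹ = x * y * α x := by
    rw [← h2]; group
  have h4 : α y * (x * α x) * (α y)⁻¹ = y⁻¹ * (y * α y * (x * α x) * (α y)⁻¹) := by group
  rw [h4, h3]; group

/-- every conjugate of `x` commutes with `α x`. -/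
theorem comm_conj_map [Finite G] (h : Fpf3 α) (x y : G) :
    (y⁻¹ * x * y) * α x = α x * (y⁻¹ * x * y) := by
  have h1 := h.key x y
  have h2 := h.key x⁻¹ y
  have hx := h.comm x
  have h3 : x⁻¹ * α x⁻¹ = (x * α x)⁻¹ := by rw [hx, map_inv, mul_inv_rev]
  have h4 : (α x * (y⁻¹ * x * y))⁻¹ = y⁻¹ * x⁻¹ * y * α x⁻¹ := by
    rw [map_inv]; group
  have h5 : α y * (x⁻¹ * α x⁻¹) * (α y)⁻¹ = (α y * (x * α x) * (α y)⁻¹)⁻¹ := by
    rw [h3]; group
  rw [← h4, h5, ← h1] at h2
  exact (inv_injective h2).symm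

/-- 2-Engel: every conjugate of `x` commutes with `x`. -/
theorem comm_conj [Finite G] (h : Fpf3 α) (x y : G) :
    (y⁻¹ * x * y) * x = x * (y⁻¹ * x * y) := by
  have h1 : Commute (y⁻¹ * x * y) (α x) := h.comm_conj_map x y
  have h2 : Commute (y⁻¹ * x * y) (α (α x)) := h.sq.comm_conj_map x y
  have h3 : x = (α x * α (α x))⁻¹ := by
    apply eq_inv_of_mul_eq_one_left
    rw [← mul_assoc, h.prod_eq_one]
  have h4 : Commute (y⁻¹ * x * y) (α x * α (α x))⁻¹ := (h1.mul_right h2).inv_right
  rw [← h3] at h4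
  exact h4

/-- commutators commute with their left entry. -/
theorem comm_left [Finite G] (h : Fpf3 α) (x y : G) : Commute ⁅x, y⁆ x := by
  have h1 : Commute (y * x * y⁻¹) x := by
    have := h.comm_conj x y⁻¹
    rw [inv_inv] at this
    exact this
  have h2 : ⁅x, y⁆ = x * (y * x * y⁻¹)⁻¹ := by
    rw [commutatorElement_def]; group
  rw [h2]
  exact (Commute.refl x).mul_left h1.inv_left

/-- commutators commute with their right entry. -/
theorem comm_right [Finite G] (h : Fpf3 α) (x y : G) : Commute ⁅x, y⁆ y := by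
  have h1 : Commute ⁅y, x⁆ y := h.comm_left y x
  rw [← commutatorElement_inv]
  exact h1.inv_left

theorem mul_sq [Finite G] (h : Fpf3 α) (x y : G) : (x * y) ^ 2 = ⁅y, x⁆ * x ^ 2 * y ^ 2 := by
  have h1 : y * x = ⁅y, x⁆ * x * y := by rw [commutatorElement_def]; group
  have h2 : ⁅y, x⁆ * x = x * ⁅y, x⁆ := h.comm_right y x
  calc (x * y) ^ 2 = x * (y * x) * y := by rw [pow_two]; group
    _ = x * ⁅y, x⁆ * x * y * y := by rw [h1]; group
    _ = ⁅y, x⁆ * x * x * y * y := by rw [← h2]
    _ = _ := by rw [pow_two, pow_two]; group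

theorem sq_comm [Finite G] (h : Fpf3 α) (x y : G) : ⁅x ^ 2, y⁆ = ⁅x, y⁆ ^ 2 := by
  have h2 : ⁅x, y⁆ * x = x * ⁅x, y⁆ := h.comm_left x y
  calc ⁅x ^ 2, y⁆ = x * ⁅x, y⁆ * y * x⁻¹ * y⁻¹ := by
        simp only [commutatorElement_def, pow_two]; group
    _ = ⁅x, y⁆ * x * y * x⁻¹ * y⁻¹ := by rw [← h2]
    _ = ⁅x, y⁆ ^ 2 := by simp only [commutatorElement_def, pow_two]; group

theorem comm_sq [Finite G] (h : Fpf3 α) (x y : G) : ⁅x, y ^ 2⁆ = ⁅x, y⁆ ^ 2 := by
  rw [← inv_inj, commutatorElement_inv, ← inv_pow, commutatorElement_inv]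
  exact h.sq_comm y x

end Fpf3

end Cfsg.Agent.TwoFusion.FpfThree
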