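import Mathlib
import Cfsg.Agent.TwoFusion.FpfThree

/-!
# Fixed-point-free automorphisms of three-power order of 2-groups with few involutions

Basic facts on a finite 2-group `G` with at most 4 solutions of `x ^ 2 = 1` and an endomorphism `α`
without nontrivial fixed points with `α ^ (3 ^ k) = 1`.
-/

set_option autoImplicit false

open scoped commutatorElement

namespace Cfsg.Agent.TwoFusion.FpfPowBasic

open Cfsg.Agent.TwoFusion.FpfThree

/-- `α` is an endomorphism with `α ^ (3 ^ k) = 1` without nontrivial fixed points. -/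
structure FpfPow {G : Type*} [Group G] (α : G →* G) (k : ℕ) : Prop where
  iter : ∀ x, α^[3 ^ k] x = x
  fpf : ∀ x, α x = x → x = 1

theorem fpfPow_of_fpf3 {G : Type*} [Group G] {α : G →* G} (h : Fpf3 α) : FpfPow α 1 where
  iter x := h.cube x
  fpf := h.fpf

theorem fpf3_of_fpfPow {G : Type*} [Group G] {α : G →* G} {k : ℕ} (h : FpfPow α k)
    (h3 : ∀ x, α (α (α x)) = x) : Fpf3 α where
  cube := h3
  fpf := h.fpf

/-- In a 2-group, a property that holds for `1` and fails for `y` fails for some `z` such that it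
holds for `z ^ 2`; moreover `z` is a power of `y`. -/
theorem exists_step {G : Type*} [Group G] (hG : IsPGroup 2 G) (P : G → Prop) (h1 : P 1) {y : G}
    (hy : ¬ P y) : ∃ i : ℕ, ¬ P (y ^ 2 ^ i) ∧ P ((y ^ 2 ^ i) ^ 2) := by
  classical
  obtain ⟨m, hm⟩ := hG y
  have hex : ∃ i, P (y ^ 2 ^ i) := ⟨m, by rw [hm]; exact h1⟩
  have hpos : Nat.find hex ≠ 0 := by
    intro h0
    have := Nat.find_spec hex
    rw [h0, pow_zero, pow_one] at this
    exact hy this
  obtain ⟨j, hj⟩ := Nat.exists_eq_succ_of_ne_zero hpos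
  refine ⟨j, Nat.find_min hex (by omega), ?_⟩
  have := Nat.find_spec hex
  rw [hj] at this
  rw [← pow_mul, ← pow_succ]
  exact this

variable {G : Type*} [Group G] {α : G →* G} {k : ℕ}

namespace FpfPow

theorem injective (h : FpfPow α k) : Function.Injective α := by
  intro x y hxy
  have hk : 3 ^ k = (3 ^ k - 1) + 1 := by
    have : 0 < 3 ^ k := by positivity
    omega
  rw [← h.iter x, ← h.iter y, hk, Function.iterate_succ_apply, Function.iterate_succ_apply, hxy]

theorem map_eq_one (h : FpfPow α k) {x : G} (hx : α x = 1) : x = 1 := by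
  apply h.injective
  rw [hx, map_one]

theorem sq_fixed (h : FpfPow α k) {x : G} (hx : α (α x) = x) : x = 1 := by
  apply h.fpf
  have h2 : ∀ n, α^[2 * n] x = x := by
    intro n
    induction n with
    | zero => rfl
    | succ n ih =>
      rw [Nat.mul_succ, Function.iterate_add_apply]
      show α^[2 * n] (α (α x)) = x
      rw [hx, ih]
  have hodd : Odd (3 ^ k) := Odd.pow (by decide)
  obtain ⟨m, hm⟩ := hodd
  have h3 := h.iter x
  rw [hm, ← Nat.succ_eq_add_one, Function.iterate_succ_apply', h2] at h3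
  exact h3

/-- If `x⁻¹ * α x` lies in a finite invariant subgroup `N` then so does `x`. -/
theorem mem_of_mem (h : FpfPow α k) (N : Subgroup G) [Finite N] (hN : ∀ x ∈ N, α x ∈ N)
    {x : G} (hx : x⁻¹ * α x ∈ N) : x ∈ N := by
  have hinj0 : ∀ a b : G, a⁻¹ * α a = b⁻¹ * α b → a = b := by
    intro a b hab'
    have : α (b * a⁻¹) = b * a⁻¹ := by
      rw [map_mul, map_inv]
      have h1 : α a = a * b⁻¹ * α b := by
        rw [mul_assoc, ← hab']; group
      rw [h1]; group
    have h2 := h.fpf _ this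
    rw [mul_inv_eq_one] at h2
    exact h2.symm
  let f : N → N := fun y => ⟨(y : G)⁻¹ * α y, N.mul_mem (N.inv_mem y.2) (hN _ y.2)⟩
  have hf : Function.Injective f := by
    intro a b hab
    apply Subtype.ext
    apply hinj0
    exact congrArg Subtype.val hab
  obtain ⟨y, hy⟩ := (Finite.injective_iff_surjective.1 hf) ⟨_, hx⟩
  have h3 : (y : G)⁻¹ * α y = x⁻¹ * α x := congrArg Subtype.val hy
  rw [← hinj0 _ _ h3]
  exact y.2

/-- all solutions of `x ^ 2 = 1` in terms of one nontrivial solution. -/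
theorem four [Finite G] (h : FpfPow α k) (hs : Nat.card {x : G // x ^ 2 = 1} ≤ 4) {s : G} (hs2 : s ^ 2 = 1)
    (hs1 : s ≠ 1) {x : G} (hx : x ^ 2 = 1) : x = 1 ∨ x = s ∨ x = α s ∨ x = α (α s) := by
  classical
  by_contra hcon
  push Not at hcon
  obtain ⟨c1, c2, c3, c4⟩ := hcon
  have d1 : α s ≠ 1 := fun e => hs1 (h.map_eq_one e)
  have d2 : α (α s) ≠ 1 := fun e => d1 (h.map_eq_one e)
  have d3 : α s ≠ s := fun e => hs1 (h.fpf _ e)
  have d4 : α (α s) ≠ α s := fun e => d3 (h.injective e)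
  have d5 : α (α s) ≠ s := fun e => hs1 (h.sq_fixed e)
  have e1 : (α s) ^ 2 = 1 := by rw [← map_pow, hs2, map_one]
  have e2 : (α (α s)) ^ 2 = 1 := by rw [← map_pow, e1, map_one]
  let S : Finset {x : G // x ^ 2 = 1} :=
    {⟨1, one_pow 2⟩, ⟨s, hs2⟩, ⟨α s, e1⟩, ⟨α (α s), e2⟩, ⟨x, hx⟩}
  have hcard : S.card = 5 := by
    simp only [S]
    rw [Finset.card_insert_of_notMem, Finset.card_insert_of_notMem, Finset.card_insert_of_notMem,
      Finset.card_insert_of_notMem, Finset.card_singleton]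
    all_goals
      simp only [Finset.mem_insert, Finset.mem_singleton, Subtype.mk.injEq, not_or]
    · exact fun e => c4 e.symm
    · exact ⟨fun e => d4 e.symm, fun e => c3 e.symm⟩
    · exact ⟨fun e => d3 e.symm, fun e => d5 e.symm, fun e => c2 e.symm⟩
    · exact ⟨fun e => hs1 e.symm, fun e => d1 e.symm, fun e => d2 e.symm, fun e => c1 e.symm⟩
  have h3 : S.card ≤ Nat.card {x : G // x ^ 2 = 1} := by
    have : Fintype {x : G // x ^ 2 = 1} := Fintype.ofFinite _
    rw [Nat.card_eq_fintype_card]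
    exact Finset.card_le_univ S
  omega

/-- all involutions are central. -/
theorem central [Finite G] (hG : IsPGroup 2 G) (h : FpfPow α k)
    (hs : Nat.card {x : G // x ^ 2 = 1} ≤ 4) {x : G} (hx : x ^ 2 = 1) : x ∈ Subgroup.center G := by
  by_cases hx1 : x = 1
  · rw [hx1]; exact one_mem _
  have : Fact (Nat.Prime 2) := ⟨Nat.prime_two⟩
  have : Nontrivial G := ⟨⟨x, 1, hx1⟩⟩
  have hc : Nontrivial (Subgroup.center G) := hG.center_nontrivial
  have hcp : IsPGroup 2 (Subgroup.center G) := hG.to_subgroup _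
  obtain ⟨z, hz⟩ := exists_ne (1 : Subgroup.center G)
  obtain ⟨i, hi1, hi2⟩ := exists_step hcp (fun y => y = 1) rfl hz
  set t : G := ((z ^ 2 ^ i : Subgroup.center G) : G) with ht
  have htc : t ∈ Subgroup.center G := (z ^ 2 ^ i).2
  have ht1 : t ≠ 1 := fun e => hi1 (Subtype.ext e)
  have ht2 : t ^ 2 = 1 := by
    have := congrArg Subtype.val hi2
    exact this
  have hbij : Function.Bijective α := ⟨h.injective, Finite.injective_iff_surjective.1 h.injective⟩
  have hmap : ∀ y ∈ Subgroup.center G, α y ∈ Subgroup.center G := by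
    intro y hy
    rw [Subgroup.mem_center_iff] at hy ⊢
    intro g
    obtain ⟨g', rfl⟩ := hbij.2 g
    rw [← map_mul, hy g', map_mul]
  rcases h.four hs ht2 ht1 hx with e | e | e | e
  · exact absurd e hx1
  · rw [e]; exact htc
  · rw [e]; exact hmap _ htc
  · rw [e]; exact hmap _ (hmap _ htc)

end FpfPow

/-- the subgroup of solutions of `x ^ 2 = 1` when they are central. -/
def Om (hc : ∀ x : G, x ^ 2 = 1 → x ∈ Subgroup.center G) : Subgroup G where
  carrier := {x | x ^ 2 = 1}
  mul_mem' {a b} ha hb := by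
    have h1 : a ^ 2 = 1 := ha
    have h2 : b ^ 2 = 1 := hb
    have hab : a * b = b * a := ((Subgroup.mem_center_iff.1 (hc a ha)) b).symm
    show (a * b) ^ 2 = 1
    rw [Commute.mul_pow hab, h1, h2, one_mul]
  one_mem' := one_pow 2
  inv_mem' {a} ha := by
    have h1 : a ^ 2 = 1 := ha
    show a⁻¹ ^ 2 = 1
    rw [inv_pow, h1, inv_one]

theorem mem_Om {hc : ∀ x : G, x ^ 2 = 1 → x ∈ Subgroup.center G} {x : G} :
    x ∈ Om hc ↔ x ^ 2 = 1 := Iff.rfl

theorem Om_le {hc : ∀ x : G, x ^ 2 = 1 → x ∈ Subgroup.center G} : Om hc ≤ Subgroup.center G :=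
  fun x hx => hc x hx

instance Om_normal {hc : ∀ x : G, x ^ 2 = 1 → x ∈ Subgroup.center G} : (Om hc).Normal where
  conj_mem n hn g := by
    have := (Subgroup.mem_center_iff.1 (hc n hn)) g
    rw [this, mul_inv_cancel_right]
    exact hn

/-- exactly four solutions of `x ^ 2 = 1` in a nontrivial group. -/
theorem card_Om [Finite G] (hG : IsPGroup 2 G) [Nontrivial G] (h : FpfPow α k)
    (hs : Nat.card {x : G // x ^ 2 = 1} ≤ 4)
    (hc : ∀ x : G, x ^ 2 = 1 → x ∈ Subgroup.center G) : Nat.card (Om hc) = 4 := by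
  classical
  obtain ⟨z, hz⟩ := exists_ne (1 : G)
  obtain ⟨i, hi1, hi2⟩ := exists_step hG (fun y => y = 1) rfl hz
  set s : G := z ^ 2 ^ i
  have hs1 : s ≠ 1 := hi1
  have hs2 : s ^ 2 = 1 := hi2
  have d1 : α s ≠ 1 := fun e => hs1 (h.map_eq_one e)
  have d2 : α (α s) ≠ 1 := fun e => d1 (h.map_eq_one e)
  have d3 : α s ≠ s := fun e => hs1 (h.fpf _ e)
  have d4 : α (α s) ≠ α s := fun e => d3 (h.injective e)
  have d5 : α (α s) ≠ s := fun e => hs1 (h.sq_fixed e)
  have e1 : (α s) ^ 2 = 1 := by rw [← map_pow, hs2, map_one]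
  have e2 : (α (α s)) ^ 2 = 1 := by rw [← map_pow, e1, map_one]
  let S : Finset (Om hc) :=
    {⟨1, one_pow 2⟩, ⟨s, hs2⟩, ⟨α s, e1⟩, ⟨α (α s), e2⟩}
  have hcard : S.card = 4 := by
    simp only [S]
    rw [Finset.card_insert_of_notMem, Finset.card_insert_of_notMem, Finset.card_insert_of_notMem,
      Finset.card_singleton]
    all_goals
      simp only [Finset.mem_insert, Finset.mem_singleton, not_or]
    · exact fun e => d4 (congrArg Subtype.val e).symm
    · exact ⟨fun e => d3 (congrArg Subtype.val e).symm, fun e => d5 (congrArg Subtype.val e).symm⟩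
    · exact ⟨fun e => hs1 (congrArg Subtype.val e).symm, fun e => d1 (congrArg Subtype.val e).symm,
        fun e => d2 (congrArg Subtype.val e).symm⟩
  have h3 : S.card ≤ Nat.card (Om hc) := by
    have : Fintype (Om hc) := Fintype.ofFinite _
    rw [Nat.card_eq_fintype_card]
    exact Finset.card_le_univ S
  have h4 : Nat.card (Om hc) = Nat.card {x : G // x ^ 2 = 1} := rfl
  omega

end Cfsg.Agent.TwoFusion.FpfPowBasic
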