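import Mathlib
import Cfsg.Agent.TwoFusion.FpfPowBasic

/-!
# Abelian 2-groups of rank two with a fixed-point-free automorphism are homocyclic
-/

set_option autoImplicit false

namespace Cfsg.Agent.TwoFusion.FpfAbelian

open Cfsg.Agent.TwoFusion.FpfThree Cfsg.Agent.TwoFusion.FpfPowBasic

theorem card_le_mul {X Y : Type*} [Group X] [Group Y] [Finite X] [Finite Y] (f : X →* Y) :
    Nat.card X ≤ Nat.card f.ker * Nat.card Y := by
  rw [← f.ker.card_mul_index, Subgroup.index_ker]
  exact Nat.mul_le_mul_left _ (Nat.card_le_card_of_injective _ Subtype.val_injective)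

theorem card_torsion_le {A : Type*} [CommGroup A] [Finite A]
    (hs : Nat.card {x : A // x ^ 2 = 1} ≤ 4) (n : ℕ) :
    Nat.card (powMonoidHom (2 ^ n) : A →* A).ker ≤ 4 ^ n := by
  induction n with
  | zero =>
    have : (powMonoidHom (2 ^ 0) : A →* A).ker = ⊥ := by
      ext x; simp [MonoidHom.mem_ker]
    rw [this]; simp
  | succ n ih =>
    let f : (powMonoidHom (2 ^ (n + 1)) : A →* A).ker →* (powMonoidHom (2 ^ n) : A →* A).ker :=
      ((powMonoidHom 2 : A →* A).comp (Subgroup.subtype _)).codRestrict _ (by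
        intro x
        have hx : (x : A) ^ 2 ^ (n + 1) = 1 := x.2
        show ((x : A) ^ 2) ^ 2 ^ n = 1
        rw [← pow_mul, ← pow_succ', hx])
    have h1 := card_le_mul f
    have h2 : Nat.card f.ker ≤ 4 := by
      refine le_trans ?_ hs
      apply Nat.card_le_card_of_injective
        (fun y : f.ker => (⟨((y : (powMonoidHom (2 ^ (n + 1)) : A →* A).ker) : A), by
          have := congrArg Subtype.val (MonoidHom.mem_ker.1 y.2)
          exact this⟩ : {x : A // x ^ 2 = 1}))
      intro a b hab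
      apply Subtype.ext
      apply Subtype.ext
      exact congrArg (fun z : {x : A // x ^ 2 = 1} => (z : A)) hab
    calc _ ≤ _ := h1
      _ ≤ 4 * 4 ^ n := Nat.mul_le_mul h2 ih
      _ = 4 ^ (n + 1) := by ring

/-- the main classification: `A = ⟨a⟩ × ⟨α a⟩`. -/
theorem exists_gen {A : Type*} [CommGroup A] [Finite A] (hA : IsPGroup 2 A) {α : A →* A} {k : ℕ}
    (h : FpfPow α k) (hs : Nat.card {x : A // x ^ 2 = 1} ≤ 4) :
    ∃ (n : ℕ) (a : A), orderOf a = 2 ^ n ∧ orderOf (α a) = 2 ^ n ∧
      Function.Bijective (fun p : Subgroup.zpowers a × Subgroup.zpowers (α a) => (p.1 : A) * (p.2 : A)) := by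
  classical
  obtain ⟨a, ha⟩ := Monoid.exists_orderOf_eq_exponent (G := A) (Monoid.ExponentExists.of_finite)
  have : Fact (Nat.Prime 2) := ⟨Nat.prime_two⟩
  obtain ⟨n, hn⟩ := (IsPGroup.iff_orderOf.1 hA) a
  have hb : orderOf (α a) = 2 ^ n := by
    rw [← hn]; exact orderOf_injective α h.injective a
  refine ⟨n, a, hn, hb, ?_⟩
  -- disjointness
  have hdisj : ∀ c, c ∈ Subgroup.zpowers a → c ∈ Subgroup.zpowers (α a) → c = 1 := by
    intro c hc1 hc2
    by_contra hc
    obtain ⟨i, hi1, hi2⟩ := exists_step hA (fun y => y = 1) rfl hc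
    set s := c ^ 2 ^ i with hs'
    have hs1 : s ≠ 1 := hi1
    have hs2 : s ^ 2 = 1 := hi2
    have m1 : s ∈ Subgroup.zpowers a := Subgroup.pow_mem _ hc1 _
    have m2 : s ∈ Subgroup.zpowers (α a) := Subgroup.pow_mem _ hc2 _
    have m3 : α s ∈ Subgroup.zpowers (α a) := by
      obtain ⟨z, hz⟩ := m1
      refine ⟨z, ?_⟩
      rw [← hz]
      simp
    have d1 : α s ≠ 1 := fun e => hs1 (h.map_eq_one e)
    have d3 : α s ≠ s := fun e => hs1 (h.fpf _ e)
    have e1 : (α s) ^ 2 = 1 := by rw [← map_pow, hs2, map_one]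
    have hft : Fintype (Subgroup.zpowers (α a)) := Fintype.ofFinite _
    have hle := IsCyclic.card_pow_eq_one_le (α := Subgroup.zpowers (α a)) (n := 2) (by norm_num)
    let S : Finset (Subgroup.zpowers (α a)) := {1, ⟨s, m2⟩, ⟨α s, m3⟩}
    have hS : S.card = 3 := by
      simp only [S]
      rw [Finset.card_insert_of_notMem, Finset.card_insert_of_notMem, Finset.card_singleton]
      all_goals simp only [Finset.mem_insert, Finset.mem_singleton, not_or]
      · exact fun e => d3 (congrArg Subtype.val e).symm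
      · exact ⟨fun e => hs1 (congrArg Subtype.val e).symm, fun e => d1 (congrArg Subtype.val e).symm⟩
    have hsub : S ⊆ (Finset.univ.filter fun x : Subgroup.zpowers (α a) => x ^ 2 = 1) := by
      intro x hx
      simp only [S, Finset.mem_insert, Finset.mem_singleton] at hx
      simp only [Finset.mem_filter, Finset.mem_univ, true_and]
      rcases hx with rfl | rfl | rfl
      · exact one_pow 2
      · exact Subtype.ext hs2
      · exact Subtype.ext e1
    have := Finset.card_le_card hsub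
    omega
  have hinj : Function.Injective
      (fun p : Subgroup.zpowers a × Subgroup.zpowers (α a) => (p.1 : A) * (p.2 : A)) := by
    rintro ⟨x, y⟩ ⟨x', y'⟩ hxy
    simp only at hxy
    have h1 : (x' : A)⁻¹ * x = y' * (y : A)⁻¹ := by
      rw [eq_mul_inv_iff_mul_eq, mul_assoc, hxy, inv_mul_cancel_left]
    have h2 : (x' : A)⁻¹ * x = 1 := by
      apply hdisj
      · exact mul_mem (inv_mem x'.2) x.2
      · rw [h1]; exact mul_mem y'.2 (inv_mem y.2)
    have h3 : (x : A) = x' := by
      rw [inv_mul_eq_one] at h2; exact h2.symm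
    have h4 : (y : A) = y' := by
      rw [h3] at hxy; exact mul_left_cancel hxy
    exact Prod.ext (Subtype.ext h3) (Subtype.ext h4)
  rw [Nat.bijective_iff_injective_and_card]
  refine ⟨hinj, ?_⟩
  apply le_antisymm
  · exact Nat.card_le_card_of_injective _ hinj
  · rw [Nat.card_prod, Nat.card_zpowers, Nat.card_zpowers, hn, hb, ← mul_pow]
    have h1 : Nat.card (powMonoidHom (2 ^ n) : A →* A).ker ≤ 4 ^ n := card_torsion_le hs n
    have h2 : (powMonoidHom (2 ^ n) : A →* A).ker = ⊤ := by
      rw [eq_top_iff]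
      intro x _
      rw [MonoidHom.mem_ker]
      show x ^ 2 ^ n = 1
      rw [← hn, ha]
      exact Monoid.pow_exponent_eq_one x
    rw [h2, Subgroup.card_top] at h1
    exact h1

theorem exists_mulEquiv {A : Type*} [CommGroup A] [Finite A] (hA : IsPGroup 2 A) {α : A →* A} {k : ℕ}
    (h : FpfPow α k) (hs : Nat.card {x : A // x ^ 2 = 1} ≤ 4) :
    ∃ n : ℕ, Nonempty (A ≃* Multiplicative (ZMod (2 ^ n) × ZMod (2 ^ n))) := by
  obtain ⟨n, a, ha, hb, hbij⟩ := exists_gen hA h hs
  refine ⟨n, ⟨?_⟩⟩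
  have e1 : Multiplicative (ZMod (2 ^ n)) ≃* Subgroup.zpowers a := by
    have := zmodCyclicMulEquiv (inferInstance : IsCyclic (Subgroup.zpowers a))
    rw [Nat.card_zpowers, ha] at this
    exact this
  have e2 : Multiplicative (ZMod (2 ^ n)) ≃* Subgroup.zpowers (α a) := by
    have := zmodCyclicMulEquiv (inferInstance : IsCyclic (Subgroup.zpowers (α a)))
    rw [Nat.card_zpowers, hb] at this
    exact this
  let f : Subgroup.zpowers a × Subgroup.zpowers (α a) →* A :=
    MonoidHom.coprod (Subgroup.subtype _) (Subgroup.subtype _)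
  have hf : Function.Bijective f := hbij
  exact (MulEquiv.ofBijective f hf).symm.trans
    ((MulEquiv.prodCongr e1.symm e2.symm).trans (MulEquiv.prodMultiplicative _ _).symm)

/-- every element is `a ^ i * (α a) ^ j`. -/
theorem exists_repr {A : Type*} [CommGroup A] [Finite A] (hA : IsPGroup 2 A) {α : A →* A} {k : ℕ}
    (h : FpfPow α k) (hs : Nat.card {x : A // x ^ 2 = 1} ≤ 4) :
    ∃ a : A, ∀ b : A, ∃ i j : ℤ, b = a ^ i * (α a) ^ j := by
  obtain ⟨n, a, ha, hb, hbij⟩ := exists_gen hA h hs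
  refine ⟨a, fun b => ?_⟩
  obtain ⟨⟨⟨x, i, hi⟩, ⟨y, j, hj⟩⟩, hxy⟩ := hbij.2 b
  exact ⟨i, j, by rw [← hxy]; simp only at hi hj ⊢; rw [hi, hj]⟩

end Cfsg.Agent.TwoFusion.FpfAbelian
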