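import Mathlib
import Cfsg.Agent.TwoFusion.FpfAbelian
import Cfsg.Agent.TwoFusion.FpfExpFour

/-!
# 2-groups with three involutions and a fixed-point-free automorphism of order 3

Such a group is abelian or has exponent (dividing) 4.
-/

set_option autoImplicit false

open scoped commutatorElement

universe u

namespace Cfsg.Agent.TwoFusion.FpfThreeMain

open Cfsg.Agent.TwoFusion.FpfThree Cfsg.Agent.TwoFusion.FpfPowBasic Cfsg.Agent.TwoFusion.FpfExpFour

/-- restriction of an endomorphism to an invariant subgroup -/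
def restr {G : Type u} [Group G] (α : G →* G) (K : Subgroup G) (hK : ∀ x ∈ K, α x ∈ K) : K →* K :=
  (α.comp K.subtype).codRestrict K (fun x => hK _ x.2)

theorem coe_restr {G : Type u} [Group G] (α : G →* G) (K : Subgroup G) (hK : ∀ x ∈ K, α x ∈ K)
    (x : K) : ((restr α K hK x : K) : G) = α x := rfl

theorem fpf3_restr {G : Type u} [Group G] {α : G →* G} (h : Fpf3 α) (K : Subgroup G)
    (hK : ∀ x ∈ K, α x ∈ K) : Fpf3 (restr α K hK) where
  cube x := Subtype.ext (h.cube x)
  fpf x hx := Subtype.ext (h.fpf x (congrArg Subtype.val hx))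

theorem hyp_of {G : Type u} [Group G] [Finite G] {α : G →* G} (hG : IsPGroup 2 G) (h : Fpf3 α)
    (hs : Nat.card {x : G // x ^ 2 = 1} ≤ 4) (hexp : ∀ x : G, (x ^ 2) ^ 2 = 1) : Hyp α where
  h3 := h
  hc _ hx := (fpfPow_of_fpf3 h).central hG hs hx
  four _ hs2 hs1 _ hx := (fpfPow_of_fpf3 h).four hs hs2 hs1 hx
  exp := hexp

theorem card_subtype_le {G : Type u} [Group G] [Finite G] (K : Subgroup G)
    (hs : Nat.card {x : G // x ^ 2 = 1} ≤ 4) : Nat.card {x : K // x ^ 2 = 1} ≤ 4 := by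
  refine le_trans ?_ hs
  apply Nat.card_le_card_of_injective
    (fun y : {x : K // x ^ 2 = 1} => (⟨((y : K) : G), congrArg Subtype.val y.2⟩ : {x : G // x ^ 2 = 1}))
  intro a b hab
  apply Subtype.ext
  apply Subtype.ext
  exact congrArg (fun z : {x : G // x ^ 2 = 1} => (z : G)) hab

/-- the subgroup of elements with `x ^ 4 = 1` -/
def K4 {G : Type u} [Group G] [Finite G] {α : G →* G} (h : Fpf3 α)
    (hc : ∀ x : G, x ^ 2 = 1 → x ∈ Subgroup.center G) : Subgroup G where
  carrier := {x | (x ^ 2) ^ 2 = 1}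
  mul_mem' {a b} ha hb := by
    have ha' : (a ^ 2) ^ 2 = 1 := ha
    have hb' : (b ^ 2) ^ 2 = 1 := hb
    have h1 : ⁅b, a⁆ ^ 2 = 1 := by
      rw [← h.comm_sq, commutatorElement_eq_one_iff_mul_comm]
      exact (Subgroup.mem_center_iff.1 (hc _ ha')) b
    show ((a * b) ^ 2) ^ 2 = 1
    rw [h.mul_sq]
    exact (Om hc).mul_mem ((Om hc).mul_mem (mem_Om.2 h1) (mem_Om.2 ha')) (mem_Om.2 hb')
  one_mem' := by simp
  inv_mem' {a} ha := by
    have ha' : (a ^ 2) ^ 2 = 1 := ha
    show (a⁻¹ ^ 2) ^ 2 = 1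
    rw [inv_pow, inv_pow, ha', inv_one]

theorem mem_K4 {G : Type u} [Group G] [Finite G] {α : G →* G} {h : Fpf3 α}
    {hc : ∀ x : G, x ^ 2 = 1 → x ∈ Subgroup.center G} {x : G} : x ∈ K4 h hc ↔ (x ^ 2) ^ 2 = 1 :=
  Iff.rfl

/-- If some element has order 8 then the elements with `x ^ 4 = 1` are known. -/
theorem mem_K4_cases {G : Type u} [Group G] [Finite G] {α : G →* G} (hG : IsPGroup 2 G) (h : Fpf3 α)
    (hs : Nat.card {x : G // x ^ 2 = 1} ≤ 4) {z : G} (hz1 : (z ^ 2) ^ 2 ≠ 1)
    (hz2 : ((z ^ 2) ^ 2) ^ 2 = 1) {y : G} (hy : (y ^ 2) ^ 2 = 1) :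
    ∃ e : G, e ^ 2 = 1 ∧ (y = e ∨ y = z ^ 2 * e ∨ y = α (z ^ 2) * e ∨ y = α (α (z ^ 2)) * e) := by
  have hc : ∀ x : G, x ^ 2 = 1 → x ∈ Subgroup.center G := fun x hx =>
    (fpfPow_of_fpf3 h).central hG hs hx
  have hK : ∀ x ∈ K4 h hc, α x ∈ K4 h hc := by
    intro x hx
    rw [mem_K4] at hx ⊢
    rw [← map_pow, ← map_pow, hx, map_one]
  have hyp : Hyp (restr α (K4 h hc) hK) :=
    hyp_of (hG.to_subgroup _) (fpf3_restr h _ hK) (card_subtype_le _ hs)
      (fun x => Subtype.ext x.2)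
  have hcomm : ⁅z ^ 2, y⁆ = 1 := by
    rw [h.sq_comm, ← h.comm_sq, commutatorElement_eq_one_iff_mul_comm]
    exact (Subgroup.mem_center_iff.1 (hc _ hy)) z
  let w : K4 h hc := ⟨z ^ 2, hz2⟩
  let y' : K4 h hc := ⟨y, hy⟩
  have hw : w ^ 2 ≠ 1 := fun e => hz1 (congrArg Subtype.val e)
  have hwy : ⁅w, y'⁆ = 1 := by
    apply Subtype.ext
    exact hcomm
  obtain ⟨e, he, r⟩ := hyp.exists_of_comm hw hwy
  refine ⟨e, congrArg Subtype.val he, ?_⟩
  rcases r with r | r | r | r
  · exact Or.inl (congrArg Subtype.val r)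
  · exact Or.inr (Or.inl (congrArg Subtype.val r))
  · exact Or.inr (Or.inr (Or.inl (congrArg Subtype.val r)))
  · exact Or.inr (Or.inr (Or.inr (congrArg Subtype.val r)))

theorem main (n : ℕ) : ∀ (G : Type u) [Group G] [Finite G] (α : G →* G), Nat.card G = n →
    IsPGroup 2 G → Fpf3 α → Nat.card {x : G // x ^ 2 = 1} ≤ 4 →
    (∀ x y : G, x * y = y * x) ∨ (∀ x : G, (x ^ 2) ^ 2 = 1) := by
  induction n using Nat.strong_induction_on with
  | _ n ih =>
  intro G _ _ α hn hG h hs
  by_cases hK : ∀ x : G, (x ^ 2) ^ 2 = 1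
  · exact Or.inr hK
  left
  push Not at hK
  obtain ⟨y, hy⟩ := hK
  obtain ⟨i, hz1, hz2⟩ := exists_step hG (fun y => (y ^ 2) ^ 2 = 1) (by simp) hy
  set z := y ^ 2 ^ i with hz
  have hc : ∀ x : G, x ^ 2 = 1 → x ∈ Subgroup.center G := fun x hx =>
    (fpfPow_of_fpf3 h).central hG hs hx
  have hEα : ∀ x ∈ Om hc, α x ∈ Om hc := by
    intro x hx
    rw [mem_Om] at hx ⊢
    rw [← map_pow, hx, map_one]
  -- the quotient
  let β : G ⧸ Om hc →* G ⧸ Om hc := QuotientGroup.map (Om hc) (Om hc) α hEα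
  have hβ : ∀ x : G, β (QuotientGroup.mk x) = QuotientGroup.mk (α x) := fun x => rfl
  have h3β : Fpf3 β := by
    constructor
    · intro q
      induction q using QuotientGroup.induction_on with
      | H x => rw [hβ, hβ, hβ, h.cube]
    · intro q
      induction q using QuotientGroup.induction_on with
      | H x =>
        intro hx
        rw [hβ, eq_comm, QuotientGroup.eq] at hx
        rw [QuotientGroup.eq_one_iff]
        exact (fpfPow_of_fpf3 h).mem_of_mem _ hEα hx
  have hGβ : IsPGroup 2 (G ⧸ Om hc) := hG.to_quotient _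
  have hcases : ∀ y : G, (y ^ 2) ^ 2 = 1 →
      (QuotientGroup.mk y : G ⧸ Om hc) ∈ ({1, QuotientGroup.mk (z ^ 2), QuotientGroup.mk (α (z ^ 2)),
        QuotientGroup.mk (α (α (z ^ 2)))} : Set (G ⧸ Om hc)) := by
    intro y hy
    obtain ⟨e, he, r⟩ := mem_K4_cases hG h hs hz1 hz2 hy
    have he' : (QuotientGroup.mk e : G ⧸ Om hc) = 1 := (QuotientGroup.eq_one_iff e).2 he
    rcases r with r | r | r | r
    · rw [r, he']; simp
    · rw [r, QuotientGroup.mk_mul, he', mul_one]; simp
    · rw [r, QuotientGroup.mk_mul, he', mul_one]; simp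
    · rw [r, QuotientGroup.mk_mul, he', mul_one]; simp
  have hsβ : Nat.card {q : G ⧸ Om hc // q ^ 2 = 1} ≤ 4 := by
    classical
    have hsub : {q : G ⧸ Om hc | q ^ 2 = 1} ⊆
        (({1, QuotientGroup.mk (z ^ 2), QuotientGroup.mk (α (z ^ 2)),
          QuotientGroup.mk (α (α (z ^ 2)))} : Finset (G ⧸ Om hc)) : Set (G ⧸ Om hc)) := by
      intro q
      induction q using QuotientGroup.induction_on with
      | H x =>
        intro hx
        have hx' : ((x : G) : G ⧸ Om hc) ^ 2 = 1 := hx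
        rw [← QuotientGroup.mk_pow, QuotientGroup.eq_one_iff, mem_Om] at hx'
        have := hcases x hx'
        simpa using this
    have h1 := Set.ncard_le_ncard hsub (Finset.finite_toSet _)
    rw [Set.ncard_coe_finset] at h1
    have h2 : Nat.card {q : G ⧸ Om hc // q ^ 2 = 1} = Set.ncard {q : G ⧸ Om hc | q ^ 2 = 1} := by
      rw [← Nat.card_coe_set_eq]; rfl
    rw [h2]
    exact h1.trans Finset.card_le_four
  have hcard : Nat.card (G ⧸ Om hc) < n := by
    rw [← hn]
    have hnt : Nontrivial G := ⟨⟨z ^ 2, 1, fun e => hz1 (by rw [e]; simp)⟩⟩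
    have h4 := card_Om hG (fpfPow_of_fpf3 h) hs hc
    have h5 := Subgroup.card_eq_card_quotient_mul_card_subgroup (Om hc)
    rw [h4] at h5
    have h6 : 0 < Nat.card (G ⧸ Om hc) := Nat.card_pos
    omega
  -- all commutators are in `Om`
  have hab : ∀ x y : G, ⁅x, y⁆ ^ 2 = 1 := by
    rcases ih _ hcard (G ⧸ Om hc) β rfl hGβ h3β hsβ with h1 | h1
    · intro x y
      have := h1 (QuotientGroup.mk x) (QuotientGroup.mk y)
      rw [← mem_Om (hc := hc), ← QuotientGroup.eq_one_iff, commutatorElement_def,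
        QuotientGroup.mk_mul, QuotientGroup.mk_mul, QuotientGroup.mk_mul, QuotientGroup.mk_inv,
        QuotientGroup.mk_inv, this]
      group
    · have h2 : ∀ x : G, ((x ^ 2) ^ 2) ^ 2 = 1 := by
        intro x
        have := h1 (QuotientGroup.mk x)
        rw [← QuotientGroup.mk_pow, ← QuotientGroup.mk_pow, QuotientGroup.eq_one_iff, mem_Om] at this
        exact this
      intro x y
      by_cases hx : (x ^ 2) ^ 2 = 1
      · rw [← h.sq_comm, commutatorElement_eq_one_iff_mul_comm]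
        exact ((Subgroup.mem_center_iff.1 (hc _ hx)) y).symm
      · rw [← h.comm_sq, commutatorElement_eq_one_iff_commute]
        obtain ⟨e, he, r⟩ := mem_K4_cases hG h hs hx (h2 x) (h2 y)
        have c0 : Commute x e := (Subgroup.mem_center_iff.1 (hc _ he)) x
        have c1 : Commute x (x ^ 2) := (Commute.refl x).pow_right 2
        have c2 : Commute x (α (x ^ 2)) := by
          rw [map_pow]; exact Commute.pow_right (h.comm x) 2
        have c3 : Commute x (α (α (x ^ 2))) := by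
          rw [map_pow, map_pow]; exact Commute.pow_right (h.comm' x) 2
        rcases r with r | r | r | r <;> rw [r]
        · exact c0
        · exact c1.mul_right c0
        · exact c2.mul_right c0
        · exact c3.mul_right c0
  -- the quotient is abelian
  let _ : CommGroup (G ⧸ Om hc) :=
    { (inferInstance : Group (G ⧸ Om hc)) with
      mul_comm := by
        intro p q
        induction p using QuotientGroup.induction_on with
        | H x =>
          induction q using QuotientGroup.induction_on with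
          | H y =>
            rw [← commutatorElement_eq_one_iff_mul_comm]
            exact (QuotientGroup.eq_one_iff ⁅x, y⁆).2 (hab x y) }
  obtain ⟨q, hq⟩ := FpfAbelian.exists_repr (A := G ⧸ Om hc) (α := β) hGβ (fpfPow_of_fpf3 h3β) hsβ
  obtain ⟨a, rfl⟩ := QuotientGroup.mk_surjective q
  have hrep : ∀ x : G, ∃ (i j : ℤ) (e : G), e ^ 2 = 1 ∧ x = a ^ i * (α a) ^ j * e := by
    intro x
    obtain ⟨i, j, hij⟩ := hq (QuotientGroup.mk x)
    refine ⟨i, j, (a ^ i * (α a) ^ j)⁻¹ * x, ?_, by group⟩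
    have h1 : (QuotientGroup.mk (a ^ i * (α a) ^ j) : G ⧸ Om hc) = QuotientGroup.mk x := by
      rw [hij]; rfl
    rw [QuotientGroup.eq] at h1
    exact h1
  intro x y
  obtain ⟨i, j, e, he, rfl⟩ := hrep x
  obtain ⟨i', j', e', he', rfl⟩ := hrep y
  have ca : Commute a (α a) := h.comm a
  have cc : ∀ {e : G}, e ^ 2 = 1 → ∀ g : G, Commute g e := fun {e} he g =>
    (Subgroup.mem_center_iff.1 (hc _ he)) g
  have c1 : Commute (a ^ i * (α a) ^ j) (a ^ i' * (α a) ^ j') := by
    apply Commute.mul_left <;> apply Commute.mul_right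
    · exact (Commute.refl a).zpow_zpow _ _
    · exact ca.zpow_zpow _ _
    · exact ca.symm.zpow_zpow _ _
    · exact (Commute.refl (α a)).zpow_zpow _ _
  exact Commute.mul_left (Commute.mul_right c1 (cc he' _)) (cc he _).symm

end Cfsg.Agent.TwoFusion.FpfThreeMain
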