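import Mathlib
import Cfsg.Agent.TwoFusion.FpfExpFour
import Cfsg.Agent.TwoFusion.U34Coord

/-!
# Generators and relations for the group with the coordinates of the Sylow 2-subgroup of `U_3(4)`
-/

set_option autoImplicit false

open scoped commutatorElement

namespace Cfsg.Agent.TwoFusion.U34Rel

open Cfsg.Agent.TwoFusion.FpfExpFour Cfsg.Agent.TwoFusion.U34Coord

theorem mg_aux {F : Type*} [CommRing F] {w : F} (hw : w + w ^ 4 = 1) (h2 : (2 : F) = 0) :
    (w ^ 2 + w) + (w ^ 2 + w) ^ 4 = 0 := by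
  linear_combination ((-2)+(3)*w+(6)*w^2+(4)*w^3+(1)*w^4) * hw + ((-1)+(3)*w+(2)*w^2+(-1)*w^3) * h2

theorem mx'_aux {F : Type*} [CommRing F] {w : F} (hw : w + w ^ 4 = 1) (h2 : (2 : F) = 0) :
    (w ^ 2 + w) * w + ((w ^ 2 + w) * w) ^ 4 = (w ^ 2 + w + 1) ^ 5 := by
  linear_combination ((-31)+(-36)*w+(-38)*w^2+(-31)*w^3+(-17)*w^4+(-2)*w^5+(5)*w^6+(4)*w^7+(1)*w^8) * hw + ((-16)+(-5)*w+(-8)*w^2+(-11)*w^3) * h2

theorem my_aux {F : Type*} [CommRing F] {w : F} (hw : w + w ^ 4 = 1) (h2 : (2 : F) = 0) :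
    (w ^ 2 + w) * w + ((w ^ 2 + w) * w) ^ 4 = w ^ 5 := by
  linear_combination ((4)*w+(3)*w^2+(-2)*w^3+(-2)*w^4+(3)*w^5+(6)*w^6+(4)*w^7+(1)*w^8) * hw + ((2)*w+(-2)*w^3) * h2

theorem my'_aux {F : Type*} [CommRing F] {w : F} (hw : w + w ^ 4 = 1) (h2 : (2 : F) = 0) :
    (w ^ 2 + w + 1) * w + ((w ^ 2 + w + 1) * w) ^ 4 = ((w ^ 2 + w + 1) * w) ^ 5 := by
  linear_combination ((4)+(-11)*w+(-10)*w^2+(-5)*w^3+(-2)*w^4+(-16)*w^5+(-31)*w^6+(-37)*w^7+(-28)*w^8+(-15)*w^9+(-5)*w^10+(-1)*w^11) * hw + ((2)+(-7)*w+(1)*w^2+(3)*w^3) * h2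

theorem n1_aux {F : Type*} [CommRing F] {w : F} (hw : w + w ^ 4 = 1) (h2 : (2 : F) = 0) :
    (w ^ 2 + w + 1) * (w ^ 2 + w + 1) ^ 4 = (w ^ 2 + w) := by
  linear_combination ((31)+(41)*w+(41)*w^2+(29)*w^3+(15)*w^4+(5)*w^5+(1)*w^6) * hw + ((16)+(7)*w+(7)*w^2+(9)*w^3) * h2

theorem n2_aux {F : Type*} [CommRing F] {w : F} (hw : w + w ^ 4 = 1) (h2 : (2 : F) = 0) :
    w * w ^ 4 = (w ^ 2 + w) := by
  linear_combination ((1)*w) * hw + ((-1)*w^2) * h2

theorem n3_aux {F : Type*} [CommRing F] {w : F} (hw : w + w ^ 4 = 1) (h2 : (2 : F) = 0) :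
    ((w ^ 2 + w + 1) * w) * ((w ^ 2 + w + 1) * w) ^ 4 = 1 + (w ^ 2 + w) := by
  linear_combination ((3)+(14)*w+(15)*w^2+(15)*w^3+(18)*w^4+(31)*w^5+(41)*w^6+(41)*w^7+(29)*w^8+(15)*w^9+(5)*w^10+(1)*w^11) * hw + ((1)+(5)*w) * h2

theorem c1_aux {F : Type*} [CommRing F] {w : F} (hw : w + w ^ 4 = 1) (h2 : (2 : F) = 0) :
    (w ^ 2 + w + 1) ^ 4 = (w ^ 2 + w + 1) := by
  linear_combination ((16)+(15)*w+(10)*w^2+(4)*w^3+(1)*w^4) * hw + ((8)+(1)*w+(2)*w^2+(5)*w^3) * h2

theorem c2_aux {F : Type*} [CommRing F] {w : F} (hw : w + w ^ 4 = 1) (h2 : (2 : F) = 0) :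
    w * ((w ^ 2 + w + 1) * w) ^ 4 = (w ^ 2 + w + 1) * w * w ^ 4 := by
  linear_combination ((6)+(6)*w+(2)*w^2+(4)*w^3+(10)*w^4+(16)*w^5+(15)*w^6+(10)*w^7+(4)*w^8+(1)*w^9) * hw + ((3)+(-2)*w^2+(1)*w^3) * h2

theorem c3_aux {F : Type*} [CommRing F] {w : F} (hw : w + w ^ 4 = 1) (h2 : (2 : F) = 0) :
    w ^ 4 = 1 + w := by
  linear_combination ((1)) * hw + ((-1)*w) * h2

theorem c4_aux {F : Type*} [CommRing F] {w : F} (hw : w + w ^ 4 = 1) (h2 : (2 : F) = 0) :
    ((w ^ 2 + w + 1) * w) ^ 4 = 1 + (w ^ 2 + w) + (w ^ 2 + w + 1) * w := by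
  linear_combination ((7)+(3)*w+(5)*w^2+(10)*w^3+(16)*w^4+(15)*w^5+(10)*w^6+(4)*w^7+(1)*w^8) * hw + ((3)+(-3)*w+(2)*w^3) * h2

theorem c5_aux {F : Type*} [CommRing F] {w : F} (hw : w + w ^ 4 = 1) (h2 : (2 : F) = 0) :
    (w ^ 2 + w + 1) * w ^ 4 = 1 + (w ^ 2 + w) + w * (w ^ 2 + w + 1) ^ 4 := by
  linear_combination ((-9)+(-15)*w+(-14)*w^2+(-10)*w^3+(-4)*w^4+(-1)*w^5) * hw + ((-5)+(-4)*w+(-2)*w^2+(-3)*w^3) * h2

theorem c6_aux {F : Type*} [CommRing F] {w : F} (hw : w + w ^ 4 = 1) (h2 : (2 : F) = 0) :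
    (w ^ 2 + w + 1) * ((w ^ 2 + w + 1) * w) ^ 4 = (w ^ 2 + w) + (w ^ 2 + w + 1) * w * (w ^ 2 + w + 1) ^ 4 := by
  linear_combination ((-4)+(-16)*w+(-26)*w^2+(-23)*w^3+(2)*w^4+(26)*w^5+(36)*w^6+(28)*w^7+(15)*w^8+(5)*w^9+(1)*w^10) * hw + ((-2)+(-7)*w+(-8)*w^2+(-6)*w^3) * h2


theorem om_aux {F : Type*} [CommRing F] {w : F} (hw : w + w ^ 4 = 1) (h2 : (2 : F) = 0) :
    (w ^ 2 + w) * (w ^ 2 + w + 1) = 1 := by
  linear_combination ((1)) * hw + ((1)*w^2+(1)*w^3) * h2

theorem four_cases {F : Type*} [Field F] {w : F} (hw : w + w ^ 4 = 1) (h2 : (2 : F) = 0) {z : F}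
    (hz : z + z ^ 4 = 0) : z = 0 ∨ z = 1 ∨ z = w ^ 2 + w ∨ z = w ^ 2 + w + 1 := by
  have hA := om_aux hw h2
  have h1 : z * ((z - 1) * ((z - (w ^ 2 + w)) * (z - (w ^ 2 + w + 1)))) = 0 := by
    linear_combination hz + z * (z - 1) * hA +
      (-z ^ 3 + z ^ 2 - z - (w ^ 2 + w) * z ^ 2 * (z - 1)) * h2
  rcases mul_eq_zero.1 h1 with h | h
  · exact Or.inl h
  rcases mul_eq_zero.1 h with h | h
  · exact Or.inr (Or.inl (sub_eq_zero.1 h))
  rcases mul_eq_zero.1 h with h | h
  · exact Or.inr (Or.inr (Or.inl (sub_eq_zero.1 h)))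
  · exact Or.inr (Or.inr (Or.inr (sub_eq_zero.1 h)))

variable {F : Type*} [Field F] [Fintype F]

theorem exists_rel (hF : Fintype.card F = 16) {S : Type*} [Group S] (f : S → F × F)
    (hinj : Function.Injective f)
    (hmem : ∀ s, (f s).2 + (f s).2 ^ 4 = (f s).1 ^ 5)
    (hsurj : ∀ a b : F, b + b ^ 4 = a ^ 5 → ∃ s, f s = (a, b))
    (hmul : ∀ s t, f (s * t) = ((f s).1 + (f t).1, (f s).2 + (f t).2 + (f s).1 * (f t).1 ^ 4)) :
    ∃ x x' y y' e g : S, Rel x x' y y' e g := by
  have h2 := two_eq_zero hF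
  have hm1 : ∀ s t, (f (s * t)).1 = (f s).1 + (f t).1 := fun s t => by rw [hmul]
  have hm2 : ∀ s t, (f (s * t)).2 = (f s).2 + (f t).2 + (f s).1 * (f t).1 ^ 4 := fun s t => by
    rw [hmul]
  have h11 : (f 1).1 = 0 := by
    have := hm1 1 1
    rw [mul_one] at this
    linear_combination -this
  have h12 : (f 1).2 = 0 := by
    have := hm2 1 1
    rw [mul_one, h11] at this
    linear_combination -this
  have hext : ∀ s t : S, (f s).1 = (f t).1 → (f s).2 = (f t).2 → s = t := fun s t h1 h2 =>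
    hinj (Prod.ext h1 h2)
  have hcen : ∀ s : S, (f s).1 = 0 → s ∈ Subgroup.center S := by
    intro s h
    rw [Subgroup.mem_center_iff]
    intro t
    apply hext
    · rw [hm1, hm1, add_comm]
    · rw [hm2, hm2, h]; ring
  have hcomm : ∀ s t c : S, s * t = c * (t * s) → ⁅s, t⁆ = c := by
    intro s t c h
    rw [commutatorElement_def, h]; group
  obtain ⟨w, hw⟩ := exists_omega hF
  obtain ⟨e, he⟩ := hsurj 0 1 (by linear_combination h2)
  obtain ⟨g, hg⟩ := hsurj 0 (w ^ 2 + w) (by rw [mg_aux hw h2]; ring)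
  obtain ⟨x, hx⟩ := hsurj 1 w (by rw [hw]; ring)
  obtain ⟨x', hx'⟩ := hsurj (w ^ 2 + w + 1) ((w ^ 2 + w) * w) (mx'_aux hw h2)
  obtain ⟨y, hy⟩ := hsurj w ((w ^ 2 + w) * w) (my_aux hw h2)
  obtain ⟨y', hy'⟩ := hsurj ((w ^ 2 + w + 1) * w) ((w ^ 2 + w + 1) * w) (my'_aux hw h2)
  have e1 : e ≠ 1 := by
    rintro rfl
    rw [he] at h12
    exact one_ne_zero h12
  have n0 : w ^ 2 + w ≠ 0 := by
    intro h
    have := om_aux hw h2
    rw [h, zero_mul] at this
    exact zero_ne_one this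
  have n1 : w ^ 2 + w ≠ 1 := by
    intro h
    have := om_aux hw h2
    rw [h] at this
    have h3 : (1 : F) = 0 := by linear_combination this
    exact one_ne_zero h3
  have g1 : g ≠ 1 := by
    rintro rfl
    rw [hg] at h12
    exact n0 h12
  have eg : e ≠ g := by
    rintro rfl
    rw [he] at hg
    exact n1 (Prod.ext_iff.1 hg).2.symm
  have hgen : Subgroup.closure {x, x', y, y'} = ⊤ := by
    set K : Subgroup S := Subgroup.closure {x, x', y, y'} with hK
    have kx : x ∈ K := Subgroup.subset_closure (by simp)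
    have kx' : x' ∈ K := Subgroup.subset_closure (by simp)
    have ky : y ∈ K := Subgroup.subset_closure (by simp)
    have ky' : y' ∈ K := Subgroup.subset_closure (by simp)
    have ke : e ∈ K := by
      have : x * x = e := by
        apply hext
        · simp only [hm1, hx, he]; linear_combination h2
        · simp only [hm2, hx, he]; linear_combination w * h2
      rw [← this]; exact K.mul_mem kx kx
    have kg : g ∈ K := by
      have : y * y = g := by
        apply hext
        · simp only [hm1, hy, hg]; linear_combination w * h2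
        · simp only [hm2, hy, hg]; linear_combination ((w ^ 2 + w) * w) * h2 + n2_aux hw h2
      rw [← this]; exact K.mul_mem ky ky
    -- elements with first coordinate zero
    have k0 : ∀ s : S, (f s).1 = 0 → s ∈ K := by
      intro s hs
      have h3 : (f s).2 + (f s).2 ^ 4 = 0 := by rw [hmem, hs]; ring
      rcases four_cases hw h2 h3 with r | r | r | r
      · have : s = 1 := hext _ _ (by rw [hs, h11]) (by rw [r, h12])
        rw [this]; exact K.one_mem
      · have : s = e := hext _ _ (by rw [hs, he]) (by rw [r, he])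
        rw [this]; exact ke
      · have : s = g := hext _ _ (by rw [hs, hg]) (by rw [r, hg])
        rw [this]; exact kg
      · have : s = g * e := hext _ _ (by rw [hs, hm1, hg, he]; ring) (by rw [r, hm2, hg, he]; ring)
        rw [this]; exact K.mul_mem kg ke
    -- elements of `K` with prescribed first coordinate
    have k1 : ∀ c : F, c + c ^ 4 = 0 → ∃ k ∈ K, (f k).1 = c := by
      intro c hc
      rcases four_cases hw h2 hc with r | r | r | r
      · exact ⟨1, K.one_mem, by rw [h11, r]⟩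
      · exact ⟨x, kx, by rw [hx, r]⟩
      · refine ⟨x' * x, K.mul_mem kx' kx, ?_⟩
        rw [hm1, hx, hx', r]; linear_combination h2
      · exact ⟨x', kx', by rw [hx', r]⟩
    have k2 : ∀ c : F, c + c ^ 4 = 0 → ∃ k ∈ K, (f k).1 = c * w := by
      intro c hc
      rcases four_cases hw h2 hc with r | r | r | r
      · exact ⟨1, K.one_mem, by rw [h11, r]; ring⟩
      · exact ⟨y, ky, by rw [hy, r]; ring⟩
      · refine ⟨y' * y, K.mul_mem ky' ky, ?_⟩
        rw [hm1, hy, hy', r]; linear_combination w * h2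
      · exact ⟨y', ky', by rw [hy', r]⟩
    rw [eq_top_iff]
    intro s _
    set a := (f s).1 with ha
    have hc1 : (a + a ^ 4) + (a + a ^ 4) ^ 4 = 0 := range_T_le hF ⟨a, rfl⟩
    have hc0 : (a + (a + a ^ 4) * w) + (a + (a + a ^ 4) * w) ^ 4 = 0 := by
      have h5 : (a + a ^ 4) ^ 4 = a + a ^ 4 := by linear_combination hc1 - (a + a ^ 4) * h2
      rw [add_pow4 hF, mul_pow, h5]
      linear_combination (a + a ^ 4) * hw + (a + a ^ 4) * h2
    obtain ⟨u, hu, hu1⟩ := k1 _ hc0
    obtain ⟨v, hv, hv1⟩ := k2 _ hc1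
    have h6 : (f (u * v * s)).1 = 0 := by
      rw [hm1, hm1, hu1, hv1, ← ha]
      linear_combination (a + (a + a ^ 4) * w) * h2
    exact (K.mul_mem_cancel_left (K.mul_mem hu hv)).1 (k0 _ h6)
  refine ⟨x, x', y, y', e, g, ?_⟩
  exact
    { e1 := e1
      f1 := g1
      ef := eg
      e2 := by
        rw [pow_two]
        apply hext
        · simp only [hm1, he, h11]; ring
        · simp only [hm2, he, h12]; linear_combination h2
      f2 := by
        rw [pow_two]
        apply hext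
        · simp only [hm1, hg, h11]; ring
        · simp only [hm2, hg, h12]; linear_combination (w ^ 2 + w) * h2
      ec := hcen e (by rw [he])
      fc := hcen g (by rw [hg])
      sx := by
        rw [pow_two]
        apply hext
        · simp only [hm1, hx, he]; linear_combination h2
        · simp only [hm2, hx, he]; linear_combination w * h2
      sx' := by
        rw [pow_two]
        apply hext
        · simp only [hm1, hx', hg]; linear_combination (w ^ 2 + w + 1) * h2
        · simp only [hm2, hx', hg]; linear_combination ((w ^ 2 + w) * w) * h2 + n1_aux hw h2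
      sy := by
        rw [pow_two]
        apply hext
        · simp only [hm1, hy, hg]; linear_combination w * h2
        · simp only [hm2, hy, hg]; linear_combination ((w ^ 2 + w) * w) * h2 + n2_aux hw h2
      sy' := by
        rw [pow_two]
        apply hext
        · simp only [hm1, hy', hg, he]; linear_combination ((w ^ 2 + w + 1) * w) * h2
        · simp only [hm2, hy', hg, he]
          linear_combination ((w ^ 2 + w + 1) * w) * h2 + n3_aux hw h2
      cxx' := by
        apply hcomm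
        rw [one_mul]
        apply hext
        · simp only [hm1, hx, hx']; ring
        · simp only [hm2, hx, hx']; linear_combination c1_aux hw h2
      cyy' := by
        apply hcomm
        rw [one_mul]
        apply hext
        · simp only [hm1, hy, hy']; ring
        · simp only [hm2, hy, hy']; linear_combination c2_aux hw h2
      cxy := by
        apply hcomm
        apply hext
        · simp only [hm1, hx, hy, he]; ring
        · simp only [hm2, hm1, hx, hy, he]; linear_combination c3_aux hw h2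
      cxy' := by
        apply hcomm
        apply hext
        · simp only [hm1, hx, hy', he, hg]; ring
        · simp only [hm2, hm1, hx, hy', he, hg]; linear_combination c4_aux hw h2
      cx'y := by
        apply hcomm
        apply hext
        · simp only [hm1, hx', hy, he, hg]; ring
        · simp only [hm2, hm1, hx', hy, he, hg]; linear_combination c5_aux hw h2
      cx'y' := by
        apply hcomm
        apply hext
        · simp only [hm1, hx', hy', hg]; ring
        · simp only [hm2, hm1, hx', hy', hg]; linear_combination c6_aux hw h2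
      gen := hgen }

end Cfsg.Agent.TwoFusion.U34Rel
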