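import Mathlib
import Cfsg.Prelude.Def_Classical
import Cfsg.Prelude.Def_CaseTheorems
import Cfsg.Prelude.Def_TwoFusion
import Cfsg.Agent.TwoFusion.RankTwoBasic
import Cfsg.Agent.TwoFusion.RankTwoU34
import Cfsg.Agent.S1237
import Cfsg.Agent.S1248

/-!
# A 2-subgroup with exactly three involutions permuted cyclically by its normalizer
-/

set_option autoImplicit false

namespace Cfsg.Agent.TwoFusion.RankTwoCycle

open Subgroup
open Cfsg.Agent.TwoFusion.RankTwoBasic

theorem pRankLE_subgroup {G : Type*} [Group G] {p k : ℕ} (h : Cfsg.PRankLE p k G) (H : Subgroup G) :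
    Cfsg.PRankLE p k H := by
  intro A hA hA2
  have h1 : IsMulCommutative (A.map H.subtype) := inferInstance
  have h2 : ∀ a ∈ A.map H.subtype, a ^ p = 1 := by
    rintro _ ⟨a, ha, rfl⟩
    rw [← map_pow, hA2 a ha, map_one]
  have h3 := h _ h1 h2
  rwa [Nat.card_congr (A.equivMapOfInjective H.subtype (subtype_injective H)).toEquiv.symm] at h3

variable {G : Type*} [Group G] [Finite G]

/-- If `R` is a 2-subgroup of `G` whose involutions are exactly `z, t, zt` and `g` normalizes `R`
and permutes them cyclically, then `R` is homocyclic of rank two or a Sylow 2-subgroup of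
`PSU(3,4)`. -/
theorem types_of_three_cycle (h2 : Cfsg.PRankLE 2 2 G) (R : Subgroup G) (hR : IsPGroup 2 R)
    {z t : G} (hf : Four z t) (hz : z ∈ R) (ht : t ∈ R)
    (hinv : ∀ x ∈ R, x * x = 1 → x = 1 ∨ x = z ∨ x = t ∨ x = z * t) (g : G)
    (hg : g ∈ normalizer (R : Set G)) (hgz : g * z * g⁻¹ = t) (hgt : g * t * g⁻¹ = z * t)
    {F : Type*} [Field F] [Fintype F] (hF : Fintype.card F = 16) (P : Sylow 2 (Cfsg.PSU 3 F 4)) :
    (∃ n : ℕ, 1 ≤ n ∧ Nonempty (R ≃* Multiplicative (ZMod (2 ^ n) × ZMod (2 ^ n)))) ∨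
      Nonempty (R ≃* (P : Subgroup (Cfsg.PSU 3 F 4))) := by
  classical
  set z' : R := ⟨z, hz⟩ with hz'
  set t' : R := ⟨t, ht⟩ with ht'
  have hgzt : g * (z * t) * g⁻¹ = z := by rw [RankTwoBasic.conj_mul, hgz, hgt, hf.tzt]
  -- the automorphism
  let φ : MulAut R := normalizerMonoidHom R ⟨g, hg⟩
  have hφ : ∀ x : R, ((φ x : R) : G) = g * x * g⁻¹ := fun x => rfl
  have hφz : φ z' = t' := Subtype.ext (by rw [hφ]; exact hgz)
  have hφt : φ t' = z' * t' := Subtype.ext (by rw [hφ]; exact hgt)
  have hφzt : φ (z' * t') = z' := Subtype.ext (by rw [hφ]; exact hgzt)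
  have hcases : ∀ s : R, orderOf s = 2 → s = z' ∨ s = t' ∨ s = z' * t' := by
    intro s hs
    have h1 : (s : G) * s = 1 := by
      have := pow_orderOf_eq_one s
      rw [hs, pow_two] at this
      exact congrArg Subtype.val this
    rcases hinv s s.2 h1 with h | h | h | h
    · exfalso
      have : s = 1 := Subtype.ext h
      rw [this, orderOf_one] at hs
      omega
    · exact Or.inl (Subtype.ext h)
    · exact Or.inr (Or.inl (Subtype.ext h))
    · exact Or.inr (Or.inr (Subtype.ext h))
  have h1 : ¬ Cfsg.PRankLE 2 1 R := by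
    intro h1
    have hk : ∀ x ∈ ({z', t'} : Set R), ∀ y ∈ ({z', t'} : Set R), x * y = y * x := by
      have : z' * t' = t' * z' := Subtype.ext hf.comm.symm
      rintro x (rfl | rfl) y (rfl | rfl) <;> first | rfl | assumption | (symm; assumption)
    have hk2 : ∀ x ∈ ({z', t'} : Set R), x * x = 1 := by
      rintro x (rfl | rfl)
      · exact Subtype.ext hf.zz
      · exact Subtype.ext hf.tt
    have h3 := h1 (closure {z', t'}) (isMulCommutative_closure hk) (closure_sq hk hk2)
    have hsub : (({1, z', t'} : Finset R) : Set R) ⊆ (closure ({z', t'} : Set R) : Set R) := by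
      intro x hx
      simp only [Finset.coe_insert, Finset.coe_singleton, Set.mem_insert_iff,
        Set.mem_singleton_iff] at hx
      rcases hx with rfl | rfl | rfl
      · exact one_mem _
      · exact subset_closure (by simp)
      · exact subset_closure (by simp)
    have h5 := Set.ncard_le_ncard hsub (Set.toFinite _)
    rw [Set.ncard_coe_finset] at h5
    have h6 : (({1, z', t'} : Finset R)).card = 3 := by
      rw [Finset.card_insert_of_notMem, Finset.card_insert_of_notMem, Finset.card_singleton]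
      · simp only [Finset.mem_singleton]
        intro h; exact hf.ne (congrArg Subtype.val h)
      · simp only [Finset.mem_insert, Finset.mem_singleton, not_or]
        exact ⟨fun h => hf.z1 (congrArg Subtype.val h).symm, fun h => hf.t1 (congrArg Subtype.val h).symm⟩
    have h7 : ((closure ({z', t'} : Set R) : Subgroup R) : Set R).ncard =
      Nat.card (closure ({z', t'} : Set R)) := rfl
    omega
  refine Cfsg.Agent.S1237.result hR (pRankLE_subgroup h2 R) h1 φ ?_ hF P
  intro s u hs hu
  have p0 : ∀ x : R, (φ ^ 0) x = x := fun x => rfl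
  have p1 : ∀ x : R, (φ ^ 1) x = φ x := fun x => by rw [pow_one]
  have p2 : ∀ x : R, (φ ^ 2) x = φ (φ x) := fun x => by rw [pow_two, MulAut.mul_apply]
  rcases hcases s hs with rfl | rfl | rfl <;> rcases hcases u hu with rfl | rfl | rfl
  · exact ⟨0, p0 _⟩
  · exact ⟨1, by rw [p1, hφz]⟩
  · exact ⟨2, by rw [p2, hφz, hφt]⟩
  · exact ⟨2, by rw [p2, hφt, hφzt]⟩
  · exact ⟨0, p0 _⟩
  · exact ⟨1, by rw [p1, hφt]⟩
  · exact ⟨1, by rw [p1, hφzt]⟩
  · exact ⟨2, by rw [p2, hφzt, hφz]⟩
  · exact ⟨0, p0 _⟩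

/-- The Sylow 2-subgroup of `PSU(3,4)` cannot be such an `R` when moreover some `s` normalizes
`R`, with `s ^ 2 ∈ R`, fixes `z` and swaps `t` and `zt`. -/
theorem no_psu (R : Subgroup G)
    {z t : G} (hf : Four z t) (hz : z ∈ R) (ht : t ∈ R)
    (hinv : ∀ x ∈ R, x * x = 1 → x = 1 ∨ x = z ∨ x = t ∨ x = z * t) (g : G)
    (hg : g ∈ normalizer (R : Set G)) (hgz : g * z * g⁻¹ = t) (hgt : g * t * g⁻¹ = z * t)
    (s : G) (hs : s ∈ normalizer (R : Set G)) (hss : s * s ∈ R) (hsz : s * z * s⁻¹ = z)
    (hst : s * t * s⁻¹ = z * t)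
    {F : Type*} [Field F] [Fintype F] (hF : Fintype.card F = 16) (P : Sylow 2 (Cfsg.PSU 3 F 4))
    (e : R ≃* (P : Subgroup (Cfsg.PSU 3 F 4))) : False := by
  obtain ⟨-, hk4, hcl, -, h16, hsq⟩ := Cfsg.Agent.S1248.result hF P
  set z' : R := ⟨z, hz⟩ with hz'
  set t' : R := ⟨t, ht⟩ with ht'
  let φ : MulAut R := normalizerMonoidHom R ⟨g, hg⟩
  let σ : MulAut R := normalizerMonoidHom R ⟨s, hs⟩
  have hφ : ∀ x : R, ((φ x : R) : G) = g * x * g⁻¹ := fun x => rfl
  have hσ : ∀ x : R, ((σ x : R) : G) = s * x * s⁻¹ := fun x => rfl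
  have hmapc : (center R).map e.toMonoidHom = center (P : Subgroup (Cfsg.PSU 3 F 4)) := by
    ext y
    constructor
    · rintro ⟨x, hx, rfl⟩
      rw [mem_center_iff]
      intro g
      obtain ⟨g, rfl⟩ := e.surjective g
      have := mem_center_iff.mp hx g
      change e g * e x = e x * e g
      rw [← map_mul, this, map_mul]
    · intro hy
      refine ⟨e.symm y, ?_, by simp⟩
      rw [SetLike.mem_coe, mem_center_iff]
      intro g
      apply e.injective
      rw [map_mul, map_mul, e.apply_symm_apply]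
      exact mem_center_iff.mp hy (e g)
  have hmem : ∀ x : R, x ∈ center R ↔ e x ∈ center (P : Subgroup (Cfsg.PSU 3 F 4)) := by
    intro x
    rw [← hmapc]
    constructor
    · intro h; exact ⟨x, h, rfl⟩
    · rintro ⟨y, hy, hxy⟩
      have : y = x := e.injective hxy
      exact this ▸ hy
  have hcard : Nat.card (R ⧸ center R) = 16 := by
    rw [← h16]
    exact Nat.card_congr (QuotientGroup.congr (center R) (center (P : Subgroup (Cfsg.PSU 3 F 4))) e hmapc).toEquiv
  have hsq' : ∀ x : R, x * x ∈ center R := by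
    intro x
    rw [hmem, map_mul]
    have := hsq (QuotientGroup.mk (e x))
    rw [← QuotientGroup.mk_pow, QuotientGroup.eq_one_iff, pow_two] at this
    exact this
  have hinv' : ∀ x : R, x * x = 1 → x ∈ center R := by
    intro x hx
    by_cases h : x = 1
    · rw [h]; exact one_mem _
    · rw [hmem, hcl]
      apply Subgroup.subset_closure
      have : Fact (Nat.Prime 2) := ⟨Nat.prime_two⟩
      apply orderOf_eq_prime
      · rw [pow_two, ← map_mul, hx, map_one]
      · intro h1
        exact h (e.injective (h1.trans (map_one e).symm))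
  have hcen : ∀ x, x ∈ center R ↔ x = 1 ∨ x = z' ∨ x = t' ∨ x = z' * t' := by
    have hz2 : z' * z' = 1 := Subtype.ext hf.zz
    have ht2 : t' * t' = 1 := Subtype.ext hf.tt
    intro x
    constructor
    · intro hx
      have h1 : e x ∈ center (P : Subgroup (Cfsg.PSU 3 F 4)) := (hmem x).mp hx
      have h2 : (⟨e x, h1⟩ : center (P : Subgroup (Cfsg.PSU 3 F 4))) ^ 2 = 1 := by
        have h5 := hk4.exponent_two
        have h6 := Monoid.pow_exponent_eq_one (⟨e x, h1⟩ : center (P : Subgroup (Cfsg.PSU 3 F 4)))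
        rwa [h5] at h6
      have h3 : x * x = 1 := by
        apply e.injective
        rw [map_mul, map_one, ← pow_two]
        exact congrArg Subtype.val h2
      rcases hinv x x.2 (congrArg Subtype.val h3) with h | h | h | h
      · exact Or.inl (Subtype.ext h)
      · exact Or.inr (Or.inl (Subtype.ext h))
      · exact Or.inr (Or.inr (Or.inl (Subtype.ext h)))
      · exact Or.inr (Or.inr (Or.inr (Subtype.ext h)))
    · rintro (rfl | rfl | rfl | rfl)
      · exact one_mem _
      · exact hinv' _ hz2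
      · exact hinv' _ ht2
      · exact mul_mem (hinv' _ hz2) (hinv' _ ht2)
  refine Cfsg.Agent.TwoFusion.RankTwoU34.no_swap hcard z' t' ?_ ?_ ?_ hcen (Subtype.ext hf.zz)
    (Subtype.ext hf.tt) hsq' hinv' φ σ (Subtype.ext ?_) (Subtype.ext ?_) (Subtype.ext ?_)
    (Subtype.ext ?_) ⟨s * s, hss⟩ ?_
  · intro h; exact hf.z1 (congrArg Subtype.val h)
  · intro h; exact hf.t1 (congrArg Subtype.val h)
  · intro h; exact hf.ne (congrArg Subtype.val h)
  · rw [hφ]; exact hgz
  · rw [hφ]; exact hgt
  · rw [hσ]; exact hsz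
  · rw [hσ]; exact hst
  · intro x
    apply Subtype.ext
    rw [hσ, hσ]
    simp only [coe_mul, coe_inv]
    group

end Cfsg.Agent.TwoFusion.RankTwoCycle
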