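import Mathlib
import Cfsg.Prelude.Def_CaseTheorems
import Cfsg.Agent.Lib.Dihedral

/-!
# A 2-group with a homocyclic subgroup of rank 2 and index 2

If a finite group `S` has a subgroup `R` of index 2 isomorphic to `Z_{2^n} × Z_{2^n}` (`n ≥ 1`)
and some element of `S` does not centralize the involutions of `R`, then `S` is dihedral of
order 8 or wreathed.
-/

set_option autoImplicit false

namespace Cfsg.Agent.TwoFusion.RankTwoWreath

/-- In `ZMod (2^n)`, an element killed by 2 is a multiple of `2^(n-1)`. -/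
theorem exists_eq_of_two_mul {n : ℕ} (hn : 1 ≤ n) (a : ZMod (2 ^ n)) (ha : a + a = 0) :
    ∃ b : ZMod (2 ^ n), a = (2 ^ (n - 1) : ℕ) • b := by
  have : NeZero (2 ^ n) := ⟨by positivity⟩
  have h1 : ((a.val + a.val : ℕ) : ZMod (2 ^ n)) = 0 := by
    push_cast
    rw [ZMod.natCast_zmod_val]
    exact ha
  rw [ZMod.natCast_eq_zero_iff] at h1
  obtain ⟨c, hc⟩ := h1
  obtain ⟨m, rfl⟩ : ∃ m, n = m + 1 := ⟨n - 1, by omega⟩
  have h2 : a.val = 2 ^ m * c := by
    have h3 : (2 : ℕ) ^ (m + 1) = 2 ^ m * 2 := pow_succ 2 m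
    have : 2 * a.val = 2 * (2 ^ m * c) := by
      have h4 : a.val + a.val = (2 ^ m * 2) * c := hc.trans (congrArg (· * c) h3)
      linarith
    exact Nat.eq_of_mul_eq_mul_left (by norm_num) this
  refine ⟨(c : ZMod (2 ^ (m + 1))), ?_⟩
  rw [nsmul_eq_mul, Nat.add_sub_cancel]
  rw [← Nat.cast_mul, ← h2, ZMod.natCast_zmod_val]

/-- In a group isomorphic to `Z_{2^n}²`, an element squaring to one is a `2^(n-1)`-th power. -/
theorem exists_root {R : Type*} [Group R] {n : ℕ} (hn : 1 ≤ n)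
    (e : R ≃* Multiplicative (ZMod (2 ^ n) × ZMod (2 ^ n))) (t : R) (ht : t * t = 1) :
    ∃ r : R, r ^ (2 ^ (n - 1)) = t := by
  have h1 : (Multiplicative.toAdd (e t)) + (Multiplicative.toAdd (e t)) = 0 := by
    rw [← toAdd_mul, ← map_mul, ht, map_one, toAdd_one]
  obtain ⟨b1, hb1⟩ := exists_eq_of_two_mul hn (Multiplicative.toAdd (e t)).1
    (by simpa using congrArg Prod.fst h1)
  obtain ⟨b2, hb2⟩ := exists_eq_of_two_mul hn (Multiplicative.toAdd (e t)).2
    (by simpa using congrArg Prod.snd h1)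
  refine ⟨e.symm (Multiplicative.ofAdd (b1, b2)), ?_⟩
  apply e.injective
  rw [map_pow, MulEquiv.apply_symm_apply, ← ofAdd_nsmul]
  apply Multiplicative.toAdd.injective
  rw [toAdd_ofAdd]
  ext
  · rw [hb1]; rfl
  · rw [hb2]; rfl

theorem pow_eq_one' {R : Type*} [Group R] {n : ℕ}
    (e : R ≃* Multiplicative (ZMod (2 ^ n) × ZMod (2 ^ n))) (r : R) : r ^ (2 ^ n) = 1 := by
  apply e.injective
  rw [map_pow, map_one]
  apply Multiplicative.toAdd.injective
  rw [toAdd_pow, toAdd_one]
  ext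
  · rw [Prod.smul_fst, nsmul_eq_mul, ZMod.natCast_self, zero_mul, Prod.fst_zero]
  · rw [Prod.smul_snd, nsmul_eq_mul, ZMod.natCast_self, zero_mul, Prod.snd_zero]

/-- The unique involution of a cyclic group generated by an element of order `2^n`. -/
theorem eq_of_mem_zpowers {G : Type*} [Group G] {n : ℕ} (hn : 1 ≤ n) {x t : G}
    (hx : orderOf x = 2 ^ n) (ht : t ∈ Subgroup.zpowers x) (ht2 : orderOf t = 2) :
    t = x ^ (2 ^ (n - 1)) := by
  obtain ⟨m, rfl⟩ : ∃ m, n = m + 1 := ⟨n - 1, by omega⟩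
  obtain ⟨k, rfl⟩ := Subgroup.mem_zpowers_iff.mp ht
  have h1 : (x ^ k) ^ 2 = 1 := by rw [← ht2]; exact pow_orderOf_eq_one _
  have h3 : x ^ (k * 2) = 1 := by
    rw [zpow_mul]; exact_mod_cast h1
  have h4 : ((2 ^ (m + 1) : ℕ) : ℤ) ∣ k * 2 := by
    rw [← hx]; exact orderOf_dvd_iff_zpow_eq_one.mpr h3
  have h5 : ((2 ^ m : ℕ) : ℤ) ∣ k := by
    rw [pow_succ] at h4
    push_cast at h4 ⊢
    exact (mul_dvd_mul_iff_right (by norm_num)).mp h4
  obtain ⟨j, rfl⟩ := h5
  have hne : x ^ (((2 ^ m : ℕ) : ℤ) * j) ≠ 1 := by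
    intro h
    rw [h, orderOf_one] at ht2
    omega
  set w := x ^ (2 ^ m) with hw
  have hw2 : w ^ 2 = 1 := by
    rw [hw, ← pow_mul, ← pow_succ, ← hx, pow_orderOf_eq_one]
  rw [zpow_mul, zpow_natCast] at hne ⊢
  rcases Int.even_or_odd j with ⟨i, hi⟩ | ⟨i, hi⟩
  · exfalso
    apply hne
    rw [← hw, hi, ← two_mul, zpow_mul]
    have : w ^ (2 : ℤ) = 1 := by exact_mod_cast hw2
    rw [this, one_zpow]
  · rw [Nat.add_sub_cancel, ← hw, hi, zpow_add, zpow_mul, zpow_one]
    have : w ^ (2 : ℤ) = 1 := by exact_mod_cast hw2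
    rw [this, one_zpow, one_mul]

theorem wreathed_or_dihedral {S : Type*} [Group S] [Finite S] (R : Subgroup S)
    (hR : R.index = 2) (n : ℕ) (hn : 1 ≤ n)
    (e : R ≃* Multiplicative (ZMod (2 ^ n) × ZMod (2 ^ n)))
    (s t : S) (ht : t ∈ R) (ht2 : t * t = 1) (hst : s * t * s⁻¹ ≠ t) :
    (∃ m : ℕ, 2 ≤ m ∧ Nonempty (S ≃* DihedralGroup m)) ∨ Cfsg.IsWreathed S := by
  have hRn : R.Normal := Subgroup.normal_of_index_eq_two hR
  have hcomm : ∀ a ∈ R, ∀ b ∈ R, a * b = b * a := by
    intro a ha b hb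
    have h : (⟨a, ha⟩ : R) * ⟨b, hb⟩ = ⟨b, hb⟩ * ⟨a, ha⟩ := by
      apply e.injective
      rw [map_mul, map_mul, mul_comm]
    exact congrArg Subtype.val h
  have hsR : s ∉ R := by
    intro h
    apply hst
    rw [hcomm s h t ht]
    group
  obtain ⟨r, hr⟩ := exists_root hn e ⟨t, ht⟩ (Subtype.ext ht2)
  set x : S := (r : S) with hx
  have hxR : x ∈ R := r.2
  have hxt : x ^ (2 ^ (n - 1)) = t := by
    have := congrArg Subtype.val hr
    simpa using this
  have ht1 : t ≠ 1 := by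
    rintro rfl
    apply hst
    group
  have hx1 : x ^ (2 ^ n) = 1 := by
    have := congrArg Subtype.val (pow_eq_one' e r)
    simpa using this
  have hxo : orderOf x = 2 ^ n := by
    obtain ⟨m, rfl⟩ : ∃ m, n = m + 1 := ⟨n - 1, by omega⟩
    have : Fact (Nat.Prime 2) := ⟨Nat.prime_two⟩
    apply orderOf_eq_prime_pow
    · rw [Nat.add_sub_cancel] at hxt
      rw [hxt]; exact ht1
    · exact hx1
  set y : S := s * x * s⁻¹ with hy
  have hyR : y ∈ R := hRn.conj_mem x hxR s
  have hyo : orderOf y = 2 ^ n := by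
    rw [← hxo, hy]
    exact (MulAut.conj s).orderOf_eq x
  have hyt : y ^ (2 ^ (n - 1)) = s * t * s⁻¹ := by
    rw [hy, conj_pow, hxt]
  have hto : orderOf t = 2 := by
    have : Fact (Nat.Prime 2) := ⟨Nat.prime_two⟩
    apply orderOf_eq_prime
    · rw [pow_two]; exact ht2
    · exact ht1
  have hdisj : Subgroup.zpowers x ⊓ Subgroup.zpowers y = ⊥ := by
    by_contra hne
    have hcard : Nat.card (Subgroup.zpowers x ⊓ Subgroup.zpowers y : Subgroup S) ∣ 2 ^ n := by
      rw [← hxo, ← Nat.card_zpowers]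
      exact Subgroup.card_dvd_of_le inf_le_left
    obtain ⟨k, hk, hk'⟩ := (Nat.dvd_prime_pow Nat.prime_two).mp hcard
    have hk0 : k ≠ 0 := by
      rintro rfl
      exact hne (Subgroup.card_eq_one.mp (by simpa using hk'))
    have : Fact (Nat.Prime 2) := ⟨Nat.prime_two⟩
    obtain ⟨g, hg⟩ := exists_prime_orderOf_dvd_card' (G := (Subgroup.zpowers x ⊓ Subgroup.zpowers y : Subgroup S)) 2
      (by rw [hk']; exact dvd_pow_self 2 hk0)
    have hgo : orderOf (g : S) = 2 := by rw [Subgroup.orderOf_coe]; exact hg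
    have h1 := eq_of_mem_zpowers hn hxo (g.2.1) hgo
    have h2 := eq_of_mem_zpowers hn hyo (g.2.2) hgo
    rw [hxt] at h1
    rw [hyt] at h2
    exact hst (h2.symm.trans h1)
  have hcardR : Nat.card R = 2 ^ n * 2 ^ n := by
    rw [Nat.card_congr e.toEquiv]
    rw [Nat.card_congr Multiplicative.toAdd, Nat.card_prod, Nat.card_zmod]
  have hcardS : Nat.card S = 2 ^ (2 * n + 1) := by
    rw [← Subgroup.card_mul_index R, hcardR, hR, pow_succ, two_mul, pow_add]
  -- every element of `R` is `x^i * y^j`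
  have hgen : ∀ a ∈ R, ∃ i j : ℤ, a = x ^ i * y ^ j := by
    have hinj := Subgroup.mul_injective_of_disjoint (disjoint_iff.mpr hdisj)
    let f : Subgroup.zpowers x × Subgroup.zpowers y → R := fun g =>
      ⟨g.1 * g.2, R.mul_mem ((Subgroup.zpowers_le.mpr hxR) g.1.2) ((Subgroup.zpowers_le.mpr hyR) g.2.2)⟩
    have hf : Function.Injective f := by
      intro g g' h
      apply hinj
      exact congrArg Subtype.val h
    have hbij : Function.Bijective f := by
      rw [Nat.bijective_iff_injective_and_card]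
      refine ⟨hf, ?_⟩
      rw [Nat.card_prod, Nat.card_zpowers, Nat.card_zpowers, hxo, hyo, hcardR]
    intro a ha
    obtain ⟨⟨⟨g1, hg1⟩, ⟨g2, hg2⟩⟩, hg⟩ := hbij.2 ⟨a, ha⟩
    obtain ⟨i, rfl⟩ := Subgroup.mem_zpowers_iff.mp hg1
    obtain ⟨j, rfl⟩ := Subgroup.mem_zpowers_iff.mp hg2
    exact ⟨i, j, (congrArg Subtype.val hg).symm⟩
  have hss : s * s ∈ R := by
    exact Subgroup.mul_self_mem_of_index_two hR s
  have hsy : s * y * s⁻¹ = x := by
    have h1 : s * y * s⁻¹ = (s * s) * x * (s * s)⁻¹ := by rw [hy]; group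
    rw [h1, hcomm _ hss _ hxR]
    group
  obtain ⟨i, j, hij⟩ := hgen _ hss
  have h1 : y ^ i * x ^ j = x ^ i * y ^ j := by
    have h2 : s * (s * s) * s⁻¹ = s * s := by group
    rw [hij] at h2
    have h3 : s * (x ^ i * y ^ j) * s⁻¹ = (s * x * s⁻¹) ^ i * (s * y * s⁻¹) ^ j := by
      rw [@conj_zpow _ _ i s x, @conj_zpow _ _ j s y]
      simp only [mul_assoc, inv_mul_cancel_left]
    rw [h3, ← hy, hsy] at h2
    exact h2
  have hxy : Commute x y := hcomm x hxR y hyR
  have h2 : x ^ (j - i) = y ^ (j - i) := by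
    have h3 : x ^ j * y ^ i = x ^ i * y ^ j := by
      rw [← h1]; exact (hxy.zpow_zpow j i).eq
    have h4 : x ^ (-i) * (x ^ j * y ^ i) * y ^ (-i) = x ^ (-i) * (x ^ i * y ^ j) * y ^ (-i) := by
      rw [h3]
    calc x ^ (j - i) = x ^ (-i) * (x ^ j * y ^ i) * y ^ (-i) := by group
      _ = x ^ (-i) * (x ^ i * y ^ j) * y ^ (-i) := h4
      _ = y ^ (j - i) := by group
  have h3 : x ^ (j - i) = 1 := by
    have : x ^ (j - i) ∈ Subgroup.zpowers x ⊓ Subgroup.zpowers y :=
      ⟨Subgroup.zpow_mem_zpowers _ _, h2 ▸ Subgroup.zpow_mem_zpowers _ _⟩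
    rw [hdisj] at this
    exact Subgroup.mem_bot.mp this
  have h4 : y ^ (j - i) = 1 := h2 ▸ h3
  have hss' : s * s = x ^ i * y ^ i := by
    rw [hij]
    congr 1
    calc y ^ j = y ^ (j - i) * y ^ i := by group
      _ = y ^ i := by rw [h4, one_mul]
  set w : S := s * x ^ (-i) with hw
  have hw2 : w * w = 1 := by
    have : w * w = (s * x ^ (-i) * s⁻¹) * (s * s) * x ^ (-i) := by rw [hw]; group
    rw [this, ← conj_zpow, ← hy, hss']
    have hc := (hxy.zpow_zpow i i).eq
    rw [hc]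
    group
  have hwR : w ∉ R := by
    intro h
    apply hsR
    have : s = w * x ^ i := by rw [hw]; group
    rw [this]
    exact R.mul_mem h (R.zpow_mem hxR i)
  have hw1 : w ≠ 1 := fun h => hwR (h ▸ R.one_mem)
  have hwo : orderOf w = 2 := by
    have : Fact (Nat.Prime 2) := ⟨Nat.prime_two⟩
    apply orderOf_eq_prime
    · rw [pow_two]; exact hw2
    · exact hw1
  have hwx : w * x * w⁻¹ = y := by rw [hw, hy]; group
  rcases Nat.lt_or_ge n 2 with h | h
  · left
    obtain rfl : n = 1 := by omega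
    refine ⟨4, by norm_num, ?_⟩
    have hwinv : w⁻¹ = w := inv_eq_of_mul_eq_one_right hw2
    have hxx : x * x = 1 := by rw [← pow_two]; simpa using hx1
    have hyy : y * y = 1 := by
      rw [← pow_two]
      have := pow_orderOf_eq_one y
      rw [hyo] at this
      simpa using this
    have hxinv : x⁻¹ = x := inv_eq_of_mul_eq_one_right hxx
    have hwxw : w * x * w = y := by rw [← hwx, hwinv]
    have hxw2 : (x * w) * (x * w) = x * y := by
      rw [← hwxw]; group
    have hxyne : x * y ≠ 1 := by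
      intro h5
      have h6 : y = x := by
        have := eq_inv_of_mul_eq_one_right h5
        rw [hxinv] at this
        exact this
      apply hst
      have h7 : x = t := by simpa using hxt
      have h8 : y = s * t * s⁻¹ := by simpa using hyt
      rw [← h8, h6, h7]
    apply Cfsg.Agent.Lib.Dihedral.nonempty_mulEquiv (n := 4) (by norm_num) (x * w) w
    · have : Fact (Nat.Prime 2) := ⟨Nat.prime_two⟩
      have : orderOf (x * w) = 2 ^ (1 + 1) := by
        apply orderOf_eq_prime_pow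
        · rw [pow_one, pow_two, hxw2]; exact hxyne
        · have : (x * w) ^ (2 ^ (1 + 1)) = ((x * w) * (x * w)) * ((x * w) * (x * w)) := by
            rw [show 2 ^ (1 + 1) = 4 by norm_num]
            simp only [pow_succ, pow_zero, one_mul, mul_assoc]
          rw [this, hxw2]
          calc x * y * (x * y) = x * (y * x) * y := by group
            _ = x * (x * y) * y := by rw [hxy.eq]
            _ = (x * x) * (y * y) := by group
            _ = 1 := by rw [hxx, hyy, one_mul]
      rw [this]; norm_num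
    · exact hw2
    · rw [mul_inv_rev, hwinv, hxinv]
      calc w * (x * w) * w = w * x * (w * w) := by group
        _ = w * x := by rw [hw2, mul_one]
    · intro h5
      have h6 : ∀ g ∈ Subgroup.zpowers (x * w), g * (x * w) = (x * w) * g := by
        intro g hg
        obtain ⟨k, rfl⟩ := Subgroup.mem_zpowers_iff.mp hg
        exact (Commute.zpow_left (Commute.refl _) k).eq
      have h7 := h6 w h5
      have h8 : w * x = x * w := by
        have : w * (x * w) * w⁻¹ = x * w * w * w⁻¹ := by rw [h7]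
        calc w * x = w * (x * w) * w⁻¹ := by group
          _ = x * w * w * w⁻¹ := this
          _ = x * w := by group
      apply hxyne
      rw [← hwxw, h8, mul_assoc, hw2, mul_one, hxx]
    · rw [hcardS]; norm_num
  · right
    exact ⟨n, h, hcardS, x, y, w, hxo, hxy.eq, hdisj, hwo, hwx⟩

end Cfsg.Agent.TwoFusion.RankTwoWreath
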