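import Cfsg.Agent.TwoFusion.FullProduct
import Cfsg.Agent.TwoFusion.ClosedCommutator

/-!
Goldschmidt's product theorem (S1171) in the case `P = S₁ S₂`, unconditional.
-/

set_option autoImplicit false

namespace Cfsg.Agent.TwoFusion.FullProduct

open Subgroup

/-- The product theorem for two strongly closed subgroups with `P = S₁ S₂`, `S₁ ∩ S₂ = 1`. -/
theorem product {G : Type*} [Group G] [Finite G] (hO : Cfsg.oddCore G = ⊥) (P : Sylow 2 G) (S₁ S₂ : Subgroup G)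
    (hcomm : ∀ a ∈ S₁, ∀ b ∈ S₂, a * b = b * a) (hdisj : S₁ ⊓ S₂ = ⊥)
    (h₁ : Cfsg.IsStronglyClosed S₁ (P : Subgroup G)) (h₂ : Cfsg.IsStronglyClosed S₂ (P : Subgroup G))
    (hprod : ∀ r ∈ (P : Subgroup G), ∃ a ∈ S₁, ∃ b ∈ S₂, r = a * b) :
    ⁅normalClosure (S₁ : Set G), normalClosure (S₂ : Set G)⁆ = ⊥ ∧
      normalClosure (S₁ : Set G) ⊓ normalClosure (S₂ : Set G) = ⊥ := by
  have h1 : ⁅normalClosure (S₁ : Set G), normalClosure (S₂ : Set G)⁆ = ⊥ := by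
    rw [eq_bot_iff, ← hO]
    exact ClosedCommutator.commutator_le P S₁ S₂ hdisj h₁ h₂
  exact ⟨h1, inf_eq_bot hO P S₁ S₂ hcomm hdisj h₁ h₂ hprod h1⟩

end Cfsg.Agent.TwoFusion.FullProduct
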