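import Mathlib
import Cfsg.Prelude.Def_Involutions

/-!
# Finite groups in which the centralizer of every involution is elementary abelian

Common basis of S1226, S1227, S1228, S1229, S1230.  `T` is a noncyclic Sylow 2-subgroup,
`N` its normalizer.
-/

set_option autoImplicit false

namespace Cfsg.Agent.TwoFusion.ElemCent

open Subgroup

/-- The centralizer of every involution is an elementary abelian 2-group. -/
abbrev EC (G : Type*) [Group G] : Prop :=
  ∀ t : G, orderOf t = 2 → IsMulCommutative (Subgroup.centralizer ({t} : Set G)) ∧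
    ∀ c ∈ Subgroup.centralizer ({t} : Set G), c ^ 2 = 1

variable {G : Type*} [Group G]

theorem orderOf_eq_two {t : G} (h1 : t ≠ 1) (h2 : t ^ 2 = 1) : orderOf t = 2 :=
  orderOf_eq_prime h2 h1

theorem sq_one_of_order {t : G} (h : orderOf t = 2) : t ^ 2 = 1 := by
  rw [← h]; exact pow_orderOf_eq_one t

theorem mul_self_of_order {t : G} (h : orderOf t = 2) : t * t = 1 := by
  rw [← pow_two]; exact sq_one_of_order h

theorem inv_eq_of_order {t : G} (h : orderOf t = 2) : t⁻¹ = t :=
  inv_eq_of_mul_eq_one_left (mul_self_of_order h)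

theorem ne_one_of_order {t : G} (h : orderOf t = 2) : t ≠ 1 := by
  rintro rfl; simp at h

/-- if `c` commutes with an involution, then `c ^ 2 = 1` -/
theorem sq_eq_one_of_commute (hC : EC G) {t c : G} (ht : orderOf t = 2)
    (h : t * c = c * t) : c ^ 2 = 1 :=
  (hC t ht).2 c (mem_centralizer_singleton_iff.mpr h.symm)

/-- two elements commuting with an involution commute -/
theorem commute_of_commute (hC : EC G) {t c d : G} (ht : orderOf t = 2)
    (hc : t * c = c * t) (hd : t * d = d * t) : c * d = d * c := by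
  have := (hC t ht).1
  have h := this.is_comm.comm (⟨c, mem_centralizer_singleton_iff.mpr hc.symm⟩ : centralizer ({t} : Set G))
    ⟨d, mem_centralizer_singleton_iff.mpr hd.symm⟩
  exact congrArg Subtype.val h

variable [Finite G] (T : Sylow 2 G) (hnc : ¬ IsCyclic (T : Subgroup G)) (hC : EC G)

include hnc in
theorem T_nontrivial : Nontrivial (T : Subgroup G) := by
  rw [← not_subsingleton_iff_nontrivial]
  intro h
  exact hnc inferInstance

include hnc in
theorem exists_central_invol : ∃ z : G, z ∈ T ∧ orderOf z = 2 ∧ ∀ x ∈ T, z * x = x * z := by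
  have hnt := T_nontrivial T hnc
  have h1 := T.isPGroup'.center_nontrivial
  obtain ⟨z, hz⟩ := exists_prime_orderOf_dvd_card' (G := Subgroup.center (T : Subgroup G)) 2 (by
    obtain ⟨n, hn⟩ := (T.isPGroup'.to_subgroup (Subgroup.center (T : Subgroup G))).exists_card_eq
    have : n ≠ 0 := by
      rintro rfl
      rw [pow_zero] at hn
      have := Finite.one_lt_card (α := Subgroup.center (T : Subgroup G))
      omega
    rw [hn]
    exact dvd_pow_self 2 this)
  refine ⟨z.1.1, z.1.2, ?_, ?_⟩
  · rw [Subgroup.orderOf_coe, Subgroup.orderOf_coe]; exact hz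
  · intro x hx
    have := Subgroup.mem_center_iff.mp z.2 ⟨x, hx⟩
    exact (congrArg Subtype.val this).symm

include hnc hC in
theorem sq_eq_one {x : G} (hx : x ∈ T) : x ^ 2 = 1 := by
  obtain ⟨z, hzT, hz2, hz⟩ := exists_central_invol T hnc
  exact sq_eq_one_of_commute hC hz2 (hz x hx)

include hnc hC in
theorem mul_comm_of_mem {x y : G} (hx : x ∈ T) (hy : y ∈ T) : x * y = y * x := by
  obtain ⟨z, hzT, hz2, hz⟩ := exists_central_invol T hnc
  exact commute_of_commute hC hz2 (hz x hx) (hz y hy)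

include hnc hC in
theorem orderOf_of_mem {x : G} (hx : x ∈ T) (h1 : x ≠ 1) : orderOf x = 2 :=
  orderOf_eq_two h1 (sq_eq_one T hnc hC hx)

include hnc hC in
theorem centralizer_eq {t : G} (ht : t ∈ T) (h1 : t ≠ 1) :
    Subgroup.centralizer ({t} : Set G) = (T : Subgroup G) := by
  have h2 := orderOf_of_mem T hnc hC ht h1
  apply T.is_maximal'
  · intro x
    refine ⟨1, ?_⟩
    rw [pow_one]
    exact Subtype.ext ((hC t h2).2 x.1 x.2)
  · intro x hx
    rw [mem_centralizer_singleton_iff]
    exact mul_comm_of_mem T hnc hC hx ht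

include hnc hC in
theorem mem_of_commute {t x : G} (ht : t ∈ T) (h1 : t ≠ 1) (h : t * x = x * t) : x ∈ T := by
  have : x ∈ (T : Subgroup G) := by
    rw [← centralizer_eq T hnc hC ht h1, mem_centralizer_singleton_iff]
    exact h.symm
  exact this

omit [Finite G] in
/-- membership in the normalizer of `T` -/
theorem mem_norm_iff {g : G} : g ∈ Subgroup.normalizer ((T : Subgroup G) : Set G) ↔
    ∀ x, x ∈ T ↔ g * x * g⁻¹ ∈ T := by
  rw [Subgroup.mem_normalizer_iff]; exact Iff.rfl

include hnc hC in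
/-- `T` is a TI subgroup -/
theorem mem_normalizer_of_conj_mem {g x : G} (hx : x ∈ T) (h1 : x ≠ 1) (h : g * x * g⁻¹ ∈ T) :
    g ∈ Subgroup.normalizer ((T : Subgroup G) : Set G) := by
  rw [mem_norm_iff]
  have h1' : g * x * g⁻¹ ≠ 1 := by
    intro h'
    exact h1 (conj_eq_one_iff.mp h')
  intro y
  constructor
  · intro hy
    apply mem_of_commute T hnc hC h h1'
    have := mul_comm_of_mem T hnc hC hx hy
    calc g * x * g⁻¹ * (g * y * g⁻¹) = g * (x * y) * g⁻¹ := by group
      _ = g * (y * x) * g⁻¹ := by rw [this]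
      _ = _ := by group
  · intro hy
    apply mem_of_commute T hnc hC hx h1
    have := mul_comm_of_mem T hnc hC h hy
    have h3 : g⁻¹ * (g * x * g⁻¹ * (g * y * g⁻¹)) * g = g⁻¹ * (g * y * g⁻¹ * (g * x * g⁻¹)) * g := by
      rw [this]
    calc x * y = g⁻¹ * (g * x * g⁻¹ * (g * y * g⁻¹)) * g := by group
      _ = g⁻¹ * (g * y * g⁻¹ * (g * x * g⁻¹)) * g := h3
      _ = y * x := by group

omit [Finite G] in
/-- a 2-element of `N(T)` lies in `T` -/
theorem mem_of_normalizer_of_pow {x : G} {k : ℕ}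
    (hx : x ∈ Subgroup.normalizer ((T : Subgroup G) : Set G)) (h : x ^ (2 ^ k) = 1) : x ∈ T := by
  have hP : IsPGroup 2 (Subgroup.zpowers x) := by
    have : orderOf x ∣ 2 ^ k := orderOf_dvd_of_pow_eq_one h
    obtain ⟨j, _, hj⟩ := (Nat.dvd_prime_pow Nat.prime_two).mp this
    apply IsPGroup.of_card (n := j)
    rw [Nat.card_zpowers, hj]
  have h2 := hP.inf_normalizer_sylow T
  have : x ∈ Subgroup.zpowers x ⊓ Subgroup.normalizer ((T : Subgroup G) : Set G) :=
    ⟨Subgroup.mem_zpowers x, hx⟩
  exact (h2.le this).2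

omit [Finite G] in
theorem mem_of_normalizer {x : G}
    (hx : x ∈ Subgroup.normalizer ((T : Subgroup G) : Set G)) (h : x ^ 2 = 1) : x ∈ T :=
  mem_of_normalizer_of_pow T (k := 1) hx (by simpa using h)

omit [Finite G] in
theorem T_le_norm : (T : Subgroup G) ≤ Subgroup.normalizer ((T : Subgroup G) : Set G) :=
  Subgroup.le_normalizer

include hnc hC in
/-- an involution of `T` conjugated by an element outside `N(T)` is an involution outside `N(T)` -/
theorem conj_not_mem_norm {g x : G} (hx : x ∈ T) (h1 : x ≠ 1)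
    (hg : g ∉ Subgroup.normalizer ((T : Subgroup G) : Set G)) :
    g * x * g⁻¹ ∉ Subgroup.normalizer ((T : Subgroup G) : Set G) := by
  intro h
  apply hg
  apply mem_normalizer_of_conj_mem T hnc hC hx h1
  apply mem_of_normalizer T h
  have := sq_eq_one T hnc hC hx
  calc (g * x * g⁻¹) ^ 2 = g * x ^ 2 * g⁻¹ := by rw [pow_two, pow_two]; group
    _ = 1 := by rw [this]; group

include hnc hC in
theorem exists_invol_not_mem (hnn : ¬ (T : Subgroup G).Normal) :
    ∃ u : G, orderOf u = 2 ∧ u ∉ Subgroup.normalizer ((T : Subgroup G) : Set G) := by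
  have : ∃ g : G, g ∉ Subgroup.normalizer ((T : Subgroup G) : Set G) := by
    by_contra h
    push Not at h
    apply hnn
    rw [← Subgroup.normalizer_eq_top_iff, Subgroup.eq_top_iff']
    exact h
  obtain ⟨g, hg⟩ := this
  obtain ⟨z, hzT, hz2, hz⟩ := exists_central_invol T hnc
  refine ⟨g * z * g⁻¹, ?_, conj_not_mem_norm T hnc hC hzT (ne_one_of_order hz2) hg⟩
  apply orderOf_eq_two
  · intro h
    exact ne_one_of_order hz2 (conj_eq_one_iff.mp h)
  · have := sq_eq_one T hnc hC hzT
    calc (g * z * g⁻¹) ^ 2 = g * z ^ 2 * g⁻¹ := by rw [pow_two, pow_two]; group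
      _ = 1 := by rw [this]; group


/-- if the product of two involutions has even order, some involution commutes with both;
otherwise they are conjugate. -/
theorem invol_dichotomy {a b : G} (ha : orderOf a = 2) (hb : orderOf b = 2) :
    (∃ w : G, orderOf w = 2 ∧ w * a = a * w ∧ w * b = b * w) ∨ ∃ g : G, g * a * g⁻¹ = b := by
  have ha2 := mul_self_of_order ha
  have hb2 := mul_self_of_order hb
  have hai := inv_eq_of_order ha
  have hbi := inv_eq_of_order hb
  set r := a * b with hr
  have hinv : a * r * a⁻¹ = r⁻¹ := by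
    rw [hr, mul_inv_rev, hai, hbi, ← mul_assoc, ha2, one_mul]
  have hinv' : b * r * b⁻¹ = r⁻¹ := by
    rw [hr, mul_inv_rev, hai, hbi, mul_assoc, mul_assoc, hb2, mul_one]
  have hpow : ∀ n : ℕ, a * r ^ n * a⁻¹ = (r ^ n)⁻¹ := by
    intro n
    rw [← inv_pow, ← hinv, conj_pow]
  have hpow' : ∀ n : ℕ, b * r ^ n * b⁻¹ = (r ^ n)⁻¹ := by
    intro n
    rw [← inv_pow, ← hinv', conj_pow]
  rcases Nat.even_or_odd (orderOf r) with he | ho
  · left
    obtain ⟨k, hk⟩ := he
    have hpos := orderOf_pos r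
    have hk0 : 0 < k := by omega
    have hw2 : (r ^ k) ^ 2 = 1 := by
      rw [← pow_mul, mul_two, ← hk]; exact pow_orderOf_eq_one r
    have hw1 : r ^ k ≠ 1 := by
      intro h
      have := orderOf_le_of_pow_eq_one hk0 h
      omega
    have hwi : (r ^ k)⁻¹ = r ^ k := inv_eq_of_mul_eq_one_left (by rw [← pow_two]; exact hw2)
    refine ⟨r ^ k, orderOf_eq_two hw1 hw2, ?_, ?_⟩
    · have := hpow k
      rw [hwi] at this
      have h3 := mul_inv_eq_iff_eq_mul.mp this
      exact h3.symm
    · have := hpow' k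
      rw [hwi] at this
      have h3 := mul_inv_eq_iff_eq_mul.mp this
      exact h3.symm
  · right
    obtain ⟨k, hk⟩ := ho
    refine ⟨r ^ k, ?_⟩
    have h1 : r ^ (2 * k + 1) = 1 := by rw [← hk]; exact pow_orderOf_eq_one r
    have h2 : a * (r ^ k)⁻¹ = r ^ k * a := by
      rw [← hpow k, ← mul_assoc, ← mul_assoc, ha2, one_mul, hai]
    rw [mul_assoc, h2, ← mul_assoc, ← pow_add, ← two_mul]
    have h3 : r ^ (2 * k) * r = 1 := by rw [← pow_succ]; exact h1
    have h4 : r ^ (2 * k) = r⁻¹ := eq_inv_of_mul_eq_one_left h3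
    rw [h4, hr, mul_inv_rev, hai, hbi, mul_assoc, ha2, mul_one]

include hnc hC in
theorem exists_conj_of_not_mem {t u : G} (ht : t ∈ T) (h1 : t ≠ 1) (hu : orderOf u = 2)
    (huN : u ∉ Subgroup.normalizer ((T : Subgroup G) : Set G)) : ∃ g : G, g * t * g⁻¹ = u := by
  have ht2 := orderOf_of_mem T hnc hC ht h1
  rcases invol_dichotomy ht2 hu with ⟨w, hw2, hwt, hwu⟩ | h
  · exfalso
    have hw : w ∈ T := mem_of_commute T hnc hC ht h1 hwt.symm
    have hu' : u ∈ T := mem_of_commute T hnc hC hw (ne_one_of_order hw2) hwu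
    exact huN (T_le_norm T hu')
  · exact h

include hnc hC in
/-- `N(T)` is transitive on the involutions of `T` -/
theorem exists_norm_conj (hnn : ¬ (T : Subgroup G).Normal) {s t : G} (hs : s ∈ T) (hs1 : s ≠ 1)
    (ht : t ∈ T) (ht1 : t ≠ 1) :
    ∃ g ∈ Subgroup.normalizer ((T : Subgroup G) : Set G), g * s * g⁻¹ = t := by
  obtain ⟨u, hu2, huN⟩ := exists_invol_not_mem T hnc hC hnn
  obtain ⟨g, hg⟩ := exists_conj_of_not_mem T hnc hC hs hs1 hu2 huN
  obtain ⟨h, hh⟩ := exists_conj_of_not_mem T hnc hC ht ht1 hu2 huN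
  have h3 : (h⁻¹ * g) * s * (h⁻¹ * g)⁻¹ = t := by
    calc (h⁻¹ * g) * s * (h⁻¹ * g)⁻¹ = h⁻¹ * (g * s * g⁻¹) * h := by group
      _ = h⁻¹ * (h * t * h⁻¹) * h := by rw [hg, hh]
      _ = t := by group
  refine ⟨h⁻¹ * g, ?_, h3⟩
  apply mem_normalizer_of_conj_mem T hnc hC hs hs1
  rw [h3]; exact ht

include hnc hC in
theorem isConj_invol (hnn : ¬ (T : Subgroup G).Normal) {a b : G} (ha : orderOf a = 2)
    (hb : orderOf b = 2) : ∃ g : G, g * a * g⁻¹ = b := by
  obtain ⟨z, hzT, hz2, hz⟩ := exists_central_invol T hnc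
  have key : ∀ c : G, orderOf c = 2 → ∃ g : G, g * z * g⁻¹ = c := by
    intro c hc
    by_cases hcN : c ∈ Subgroup.normalizer ((T : Subgroup G) : Set G)
    · obtain ⟨g, _, hg⟩ := exists_norm_conj T hnc hC hnn hzT (ne_one_of_order hz2)
        (mem_of_normalizer T hcN (sq_one_of_order hc)) (ne_one_of_order hc)
      exact ⟨g, hg⟩
    · exact exists_conj_of_not_mem T hnc hC hzT (ne_one_of_order hz2) hc hcN
  obtain ⟨g, hg⟩ := key a ha
  obtain ⟨h, hh⟩ := key b hb
  refine ⟨h * g⁻¹, ?_⟩
  calc (h * g⁻¹) * a * (h * g⁻¹)⁻¹ = h * (g⁻¹ * a * g) * h⁻¹ := by group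
    _ = h * (g⁻¹ * (g * z * g⁻¹) * g) * h⁻¹ := by rw [hg]
    _ = h * z * h⁻¹ := by group
    _ = b := hh

/-- counting by fibres -/
theorem card_eq_mul_of_fiber {α β : Type*} [Finite α] [Finite β] (f : α → β) (k : ℕ)
    (h : ∀ b, Nat.card {a // f a = b} = k) : Nat.card α = Nat.card β * k := by
  rw [Nat.card_congr (Equiv.sigmaFiberEquiv f).symm]
  have := Fintype.ofFinite β
  rw [Nat.card_sigma]
  simp only [h, Finset.sum_const, Finset.card_univ, smul_eq_mul]
  rw [Nat.card_eq_fintype_card]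

include hnc hC in
/-- the number of involutions conjugate to a given involution of `T`, counted inside `K` -/
theorem card_conj_mul (K : Subgroup G) (hK : (T : Subgroup G) ≤ K) {z : G} (hz : z ∈ T)
    (hz1 : z ≠ 1) (P : G → Prop) (h1 : ∀ g ∈ K, P (g * z * g⁻¹))
    (h2 : ∀ x, P x → ∃ g ∈ K, g * z * g⁻¹ = x) :
    Nat.card K = Nat.card {x // P x} * Nat.card T := by
  refine card_eq_mul_of_fiber (fun g : K => (⟨g.1 * z * g.1⁻¹, h1 g.1 g.2⟩ : {x // P x})) _ ?_
  rintro ⟨x, hx⟩
  obtain ⟨g, hg, hgx⟩ := h2 x hx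
  have e : {a : K // (⟨a.1 * z * a.1⁻¹, h1 a.1 a.2⟩ : {x // P x}) = ⟨x, hx⟩} ≃ T := 
    { toFun := fun a => ⟨g⁻¹ * a.1.1, by
        have ha := congrArg Subtype.val a.2
        simp only at ha
        apply mem_of_commute T hnc hC hz hz1
        have h3 : a.1.1 * z * a.1.1⁻¹ = g * z * g⁻¹ := by rw [ha, hgx]
        have h4 : a.1.1 * z = g * z * g⁻¹ * a.1.1 := by rw [← h3]; group
        rw [mul_assoc, h4]; group⟩
      invFun := fun t => ⟨⟨g * t.1, K.mul_mem hg (hK t.2)⟩, by
        apply Subtype.ext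
        simp only
        rw [← hgx]
        have := mul_comm_of_mem T hnc hC t.2 hz
        calc g * t.1 * z * (g * t.1)⁻¹ = g * (t.1 * z) * t.1⁻¹ * g⁻¹ := by group
          _ = g * (z * t.1) * t.1⁻¹ * g⁻¹ := by rw [this]
          _ = g * z * g⁻¹ := by group⟩
      left_inv := fun a => by
        apply Subtype.ext
        apply Subtype.ext
        simp
      right_inv := fun t => by
        apply Subtype.ext
        simp }
  exact Nat.card_congr e


theorem card_ne_one (P : Subgroup G) : Nat.card {x // x ∈ P ∧ x ≠ 1} = Nat.card P - 1 := by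
  have e : {x // x ∈ P ∧ x ≠ 1} ≃ {x : P // x ≠ 1} :=
    { toFun := fun x => ⟨⟨x.1, x.2.1⟩, fun h => x.2.2 (congrArg Subtype.val h)⟩
      invFun := fun x => ⟨x.1.1, x.1.2, fun h => x.2 (Subtype.ext h)⟩
      left_inv := fun _ => rfl
      right_inv := fun _ => rfl }
  rw [Nat.card_congr e]
  have := Fintype.ofFinite P
  classical
  rw [Nat.card_eq_fintype_card, Nat.card_eq_fintype_card, Fintype.card_subtype_compl]
  simp

include hnc hC in
/-- `|N(T)| = (q-1) q` -/
theorem card_normalizer (hnn : ¬ (T : Subgroup G).Normal) :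
    Nat.card (Subgroup.normalizer ((T : Subgroup G) : Set G)) = (Nat.card T - 1) * Nat.card T := by
  obtain ⟨z, hzT, hz2, hz⟩ := exists_central_invol T hnc
  have hz1 := ne_one_of_order hz2
  have h := card_conj_mul T hnc hC (Subgroup.normalizer ((T : Subgroup G) : Set G))
    (T_le_norm T) hzT hz1 (fun x => x ∈ (T : Subgroup G) ∧ x ≠ 1)
    (fun g hg => ⟨((mem_norm_iff T).mp hg z).mp hzT, fun h => hz1 (conj_eq_one_iff.mp h)⟩)
    (fun x hx => exists_norm_conj T hnc hC hnn hzT hz1 hx.1 hx.2)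
  rw [h, card_ne_one]

include hnc hC in
/-- `|G| = #involutions * q` -/
theorem card_invol (hnn : ¬ (T : Subgroup G).Normal) :
    Nat.card G = Nat.card {x : G // orderOf x = 2} * Nat.card T := by
  obtain ⟨z, hzT, hz2, hz⟩ := exists_central_invol T hnc
  have hz1 := ne_one_of_order hz2
  have h := card_conj_mul T hnc hC ⊤ le_top hzT hz1 (fun x => orderOf x = 2)
    (fun g _ => by
      show orderOf (g * z * g⁻¹) = 2
      rw [← hz2]
      exact orderOf_injective (MulAut.conj g).toMonoidHom (MulAut.conj g).injective z)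
    (fun x hx => by
      obtain ⟨g, hg⟩ := isConj_invol T hnc hC hnn hz2 hx
      exact ⟨g, Subgroup.mem_top g, hg⟩)
  rw [← h]
  exact (Nat.card_congr Subgroup.topEquiv.toEquiv).symm

include hnc in
theorem one_lt_card : 1 < Nat.card T := by
  have := T_nontrivial T hnc
  exact Finite.one_lt_card (α := (T : Subgroup G))

include hnc in
theorem three_le_card : 3 ≤ Nat.card T := by
  have h1 := one_lt_card T hnc
  have h2 : Nat.card T ≠ 2 := by
    intro h
    apply hnc
    exact isCyclic_of_prime_card (p := 2) h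
  omega

include hnc hC in
/-- the number of involutions outside `N(T)` -/
theorem card_invol_outside (hnn : ¬ (T : Subgroup G).Normal) :
    Nat.card {x : G // orderOf x = 2 ∧ x ∉ Subgroup.normalizer ((T : Subgroup G) : Set G)} =
      ((Subgroup.normalizer ((T : Subgroup G) : Set G)).index - 1) * (Nat.card T - 1) := by
  classical
  set N := Subgroup.normalizer ((T : Subgroup G) : Set G) with hN
  have hq := one_lt_card T hnc
  have h1 := card_invol T hnc hC hnn
  have h2 := card_normalizer T hnc hC hnn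
  rw [← hN] at h2
  have h3 := N.index_mul_card
  have h4 : Nat.card {x : G // orderOf x = 2} = N.index * (Nat.card T - 1) := by
    apply Nat.eq_of_mul_eq_mul_right (show 0 < Nat.card T by omega)
    rw [← h1, ← h3, h2, mul_assoc]
  have h5 : Nat.card {x : G // orderOf x = 2} =
      Nat.card {x : G // x ∈ (T : Subgroup G) ∧ x ≠ 1} +
      Nat.card {x : G // orderOf x = 2 ∧ x ∉ N} := by
    rw [← Nat.card_sum]
    apply Nat.card_congr
    exact
    { toFun := fun x => if h : x.1 ∈ N then
          Sum.inl ⟨x.1, mem_of_normalizer T h (sq_one_of_order x.2), ne_one_of_order x.2⟩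
        else Sum.inr ⟨x.1, x.2, h⟩
      invFun := fun x => x.elim (fun y => ⟨y.1, orderOf_of_mem T hnc hC y.2.1 y.2.2⟩)
        (fun y => ⟨y.1, y.2.1⟩)
      left_inv := fun x => by
        by_cases h : x.1 ∈ N <;> simp [h]
      right_inv := fun x => by
        rcases x with x | x
        · have : x.1 ∈ N := T_le_norm T x.2.1
          simp [this]
        · have : x.1 ∉ N := x.2.2
          simp [this] }
  have h6 := card_ne_one (T : Subgroup G)
  have h7 : Nat.card (T : Subgroup G) = Nat.card T := rfl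
  rw [h6, h7, h4] at h5
  rw [Nat.sub_mul, one_mul, h5]
  omega


omit [Finite G] in
theorem mem_inf_map_iff (K : Subgroup G) {u x : G} :
    x ∈ K ⊓ K.map (MulAut.conj u).toMonoidHom ↔ x ∈ K ∧ u⁻¹ * x * u ∈ K := by
  rw [Subgroup.mem_inf]
  apply and_congr_right
  intro _
  constructor
  · rintro ⟨y, hy, rfl⟩
    simpa [mul_assoc] using hy
  · intro h
    exact ⟨u⁻¹ * x * u, h, by simp [mul_assoc]⟩

/-- a finite group `K` normalised by an element `u` of order two with `C_K(u) = 1` is inverted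
by `u` -/
theorem inverts_of_fixedPointFree (K : Subgroup G) {u : G} (hu : u * u = 1)
    (h1 : ∀ x ∈ K, u * x * u⁻¹ ∈ K) (h2 : ∀ x ∈ K, u * x = x * u → x = 1) :
    ∀ x ∈ K, u * x * u⁻¹ = x⁻¹ := by
  have hui : u⁻¹ = u := inv_eq_of_mul_eq_one_left hu
  let φ : K →* K :=
    { toFun := fun x => ⟨u * x.1 * u⁻¹, h1 x.1 x.2⟩
      map_one' := by simp
      map_mul' := fun x y => by
        apply Subtype.ext
        simp [mul_assoc] }
  have hφ : MonoidHom.FixedPointFree φ := by
    intro g hg
    have := congrArg Subtype.val hg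
    apply Subtype.ext
    apply h2 g.1 g.2
    exact mul_inv_eq_iff_eq_mul.mp this
  have hinv : Function.Involutive φ := by
    intro g
    apply Subtype.ext
    show u * (u * g.1 * u⁻¹) * u⁻¹ = g.1
    rw [hui]
    calc u * (u * g.1 * u) * u = (u * u) * g.1 * (u * u) := by group
      _ = g.1 := by rw [hu]; group
  have := hφ.coe_eq_inv_of_involutive hinv
  intro x hx
  have h3 := congrFun this ⟨x, hx⟩
  exact congrArg Subtype.val h3

/-- `D_u = N(T) ∩ uN(T)u⁻¹` -/
abbrev DD (u : G) : Subgroup G :=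
  Subgroup.normalizer ((T : Subgroup G) : Set G) ⊓
    (Subgroup.normalizer ((T : Subgroup G) : Set G)).map (MulAut.conj u).toMonoidHom

include hnc hC in
theorem eq_one_of_mem_D {u : G} (huN : u ∉ Subgroup.normalizer ((T : Subgroup G) : Set G))
    {x : G} (hx : x ∈ DD T u) (hxT : x ∈ T) : x = 1 := by
  by_contra h
  rw [mem_inf_map_iff] at hx
  have h1 : u⁻¹ * x * u⁻¹⁻¹ ∉ Subgroup.normalizer ((T : Subgroup G) : Set G) :=
    conj_not_mem_norm T hnc hC hxT h (fun h' => huN (inv_mem_iff.mp h'))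
  rw [inv_inv] at h1
  exact h1 hx.2

include hnc hC in
/-- `D_u` has no nontrivial 2-element -/
theorem eq_one_of_mem_D_of_pow {u : G} (huN : u ∉ Subgroup.normalizer ((T : Subgroup G) : Set G))
    {x : G} (hx : x ∈ DD T u) {k : ℕ} (hxT : x ^ (2 ^ k) = 1) : x = 1 :=
  eq_one_of_mem_D T hnc hC huN hx (mem_of_normalizer_of_pow T hx.1 hxT)

include hnc hC in
/-- `u` inverts `D_u` -/
theorem conj_eq_inv {u : G} (hu : orderOf u = 2)
    (huN : u ∉ Subgroup.normalizer ((T : Subgroup G) : Set G)) :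
    ∀ d ∈ DD T u, u * d * u⁻¹ = d⁻¹ := by
  apply inverts_of_fixedPointFree (DD T u) (mul_self_of_order hu)
  · intro x hx
    rw [mem_inf_map_iff] at hx ⊢
    rw [inv_eq_of_order hu] at hx ⊢
    refine ⟨hx.2, ?_⟩
    have := mul_self_of_order hu
    have h3 : u * (u * x * u) * u = x := by
      calc u * (u * x * u) * u = (u * u) * x * (u * u) := by group
        _ = x := by rw [this]; group
    rw [h3]
    exact hx.1
  · intro x hx hux
    apply eq_one_of_mem_D_of_pow T hnc hC huN hx (k := 1)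
    simpa using sq_eq_one_of_commute hC hu hux

include hnc hC in
theorem D_comm {u : G} (hu : orderOf u = 2)
    (huN : u ∉ Subgroup.normalizer ((T : Subgroup G) : Set G)) {x y : G} (hx : x ∈ DD T u)
    (hy : y ∈ DD T u) : x * y = y * x := by
  have h1 := conj_eq_inv T hnc hC hu huN x hx
  have h2 := conj_eq_inv T hnc hC hu huN y hy
  have h3 := conj_eq_inv T hnc hC hu huN _ (mul_mem hx hy)
  have h4 : (y * x)⁻¹ = (x * y)⁻¹ := by
    rw [← h3, mul_inv_rev, ← h1, ← h2]
    group
  exact (inv_injective h4).symm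

include hnc hC in
/-- A subgroup of `N(T)` meeting `T` trivially has order at most `q - 1`. -/
theorem card_le_of_disjoint (hnn : ¬ (T : Subgroup G).Normal) {K : Subgroup G}
    (hK : K ≤ Subgroup.normalizer ((T : Subgroup G) : Set G)) (h : ∀ x ∈ K, x ∈ T → x = 1) :
    Nat.card K ≤ Nat.card T - 1 := by
  have hq := one_lt_card T hnc
  have h2 := card_normalizer T hnc hC hnn
  have h3 : Nat.card K * Nat.card T ≤ (Nat.card T - 1) * Nat.card T := by
    rw [← h2, ← Nat.card_prod]
    apply Nat.card_le_card_of_injective (fun p : K × T =>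
      (⟨p.1.1 * p.2.1, mul_mem (hK p.1.2) (T_le_norm T p.2.2)⟩ :
        Subgroup.normalizer ((T : Subgroup G) : Set G)))
    rintro ⟨a, b⟩ ⟨c, d⟩ hab
    have h4 : a.1 * b.1 = c.1 * d.1 := congrArg Subtype.val hab
    have h5 : c.1⁻¹ * a.1 = d.1 * b.1⁻¹ := by
      rw [inv_mul_eq_iff_eq_mul, ← mul_assoc, ← h4]; group
    have h6 : c.1⁻¹ * a.1 = 1 := by
      apply h _ (mul_mem (inv_mem c.2) a.2)
      rw [h5]
      exact (T : Subgroup G).mul_mem d.2 ((T : Subgroup G).inv_mem b.2)
    have h7 : a = c := Subtype.ext (inv_mul_eq_one.mp h6).symm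
    have h8 : b = d := by
      apply Subtype.ext
      rw [h6] at h5
      exact (mul_inv_eq_one.mp h5.symm).symm
    rw [h7, h8]
  exact Nat.le_of_mul_le_mul_right h3 (by omega)

include hnc hC in
theorem card_D_le (hnn : ¬ (T : Subgroup G).Normal) {u : G}
    (huN : u ∉ Subgroup.normalizer ((T : Subgroup G) : Set G)) :
    Nat.card (DD T u) ≤ Nat.card T - 1 :=
  card_le_of_disjoint T hnc hC hnn inf_le_left
    (fun _ hx hxT => eq_one_of_mem_D T hnc hC huN hx hxT)

omit [Finite G] in
/-- if `u`, `v` are involutions with `v ∈ uN(T)` then `uv ∈ D_u` -/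
theorem mul_mem_D {u v : G} (hu : orderOf u = 2) (hv : orderOf v = 2)
    (h : u⁻¹ * v ∈ Subgroup.normalizer ((T : Subgroup G) : Set G)) : u * v ∈ DD T u := by
  have huu := mul_self_of_order hu
  have hui := inv_eq_of_order hu
  rw [mem_inf_map_iff]
  have h1 : u * v ∈ Subgroup.normalizer ((T : Subgroup G) : Set G) := by
    rwa [hui] at h
  refine ⟨h1, ?_⟩
  have h2 : u⁻¹ * (u * v) * u = (u * v)⁻¹ := by
    rw [mul_inv_rev, hui, inv_eq_of_order hv, ← mul_assoc, huu, one_mul]
  rw [h2]
  exact inv_mem h1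

include hnc hC in
/-- the involutions of `u N(T)` outside `N(T)` correspond to the elements of `D_u` -/
theorem card_fibre {u : G} (hu : orderOf u = 2)
    (huN : u ∉ Subgroup.normalizer ((T : Subgroup G) : Set G)) :
    Nat.card {v : G // (orderOf v = 2 ∧ v ∉ Subgroup.normalizer ((T : Subgroup G) : Set G)) ∧
      u⁻¹ * v ∈ Subgroup.normalizer ((T : Subgroup G) : Set G)} = Nat.card (DD T u) := by
  have huu := mul_self_of_order hu
  have hui := inv_eq_of_order hu
  apply Nat.card_congr
  exact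
  { toFun := fun v => ⟨u * v.1, mul_mem_D T hu v.2.1.1 v.2.2⟩
    invFun := fun d => ⟨u * d.1, by
      have hd := conj_eq_inv T hnc hC hu huN d.1 d.2
      refine ⟨⟨?_, ?_⟩, ?_⟩
      · apply orderOf_eq_two
        · intro h
          apply huN
          have : u = d.1⁻¹ := eq_inv_of_mul_eq_one_left h
          rw [this]
          exact inv_mem d.2.1
        · rw [pow_two]
          calc u * d.1 * (u * d.1) = u * d.1 * u⁻¹ * d.1 := by rw [hui]; group
            _ = 1 := by rw [hd]; group
      · intro h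
        apply huN
        have : u = (u * d.1) * d.1⁻¹ := by group
        rw [this]
        exact mul_mem h (inv_mem d.2.1)
      · rw [inv_mul_cancel_left]
        exact d.2.1⟩
    left_inv := fun v => by
      apply Subtype.ext
      show u * (u * v.1) = v.1
      rw [← mul_assoc, huu, one_mul]
    right_inv := fun d => by
      apply Subtype.ext
      show u * (u * d.1) = d.1
      rw [← mul_assoc, huu, one_mul] }


theorem eq_of_sum_eq {ι : Type*} [Fintype ι] (f : ι → ℕ) (k : ℕ) (h1 : ∀ i, f i ≤ k)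
    (h2 : ∑ i, f i = Fintype.card ι * k) (i : ι) : f i = k := by
  have h3 : ∑ i, f i = ∑ _i : ι, k := by
    rw [h2, Finset.sum_const, Finset.card_univ, smul_eq_mul]
  exact (Finset.sum_eq_sum_iff_of_le (fun i _ => h1 i)).mp h3 i (Finset.mem_univ i)

include hnc hC in
theorem card_fibre_eq (hnn : ¬ (T : Subgroup G).Normal) :
    ∀ x : {x : G ⧸ Subgroup.normalizer ((T : Subgroup G) : Set G) // x ≠ QuotientGroup.mk 1},
    Nat.card {v : {v : G // orderOf v = 2 ∧
      v ∉ Subgroup.normalizer ((T : Subgroup G) : Set G)} //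
        (QuotientGroup.mk v.1 : G ⧸ Subgroup.normalizer ((T : Subgroup G) : Set G)) = x.1} =
      Nat.card T - 1 := by
  classical
  set N := Subgroup.normalizer ((T : Subgroup G) : Set G) with hN
  have hfin := Fintype.ofFinite {x : G ⧸ N // x ≠ QuotientGroup.mk 1}
  have hq := three_le_card T hnc
  intro x
  refine eq_of_sum_eq (fun x : {x : G ⧸ N // x ≠ QuotientGroup.mk 1} =>
    Nat.card {v : {v : G // orderOf v = 2 ∧ v ∉ N} // (QuotientGroup.mk v.1 : G ⧸ N) = x.1})
    (Nat.card T - 1) ?_ ?_ x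
  · intro y
    by_cases hne : Nonempty {v : {v : G // orderOf v = 2 ∧ v ∉ N} //
      (QuotientGroup.mk v.1 : G ⧸ N) = y.1}
    · obtain ⟨⟨⟨u, hu, huN⟩, huy⟩⟩ := hne
      have h1 := card_fibre T hnc hC hu huN
      have h2 := card_D_le T hnc hC hnn huN
      rw [← h1] at h2
      refine le_trans (le_of_eq ?_) h2
      apply Nat.card_congr
      exact
      { toFun := fun v => ⟨v.1.1, v.1.2, by
          have h3 : (QuotientGroup.mk u : G ⧸ N) = QuotientGroup.mk v.1.1 := huy.trans v.2.symm
          exact QuotientGroup.eq.mp h3⟩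
        invFun := fun v => ⟨⟨v.1, v.2.1⟩, by
          rw [← huy]
          exact (QuotientGroup.eq.mpr v.2.2).symm⟩
        left_inv := fun _ => rfl
        right_inv := fun _ => rfl }
    · rw [not_nonempty_iff] at hne
      show Nat.card _ ≤ _
      rw [Nat.card_of_isEmpty]
      exact Nat.zero_le _
  · have h1 : Nat.card {v : G // orderOf v = 2 ∧ v ∉ N} = ∑ x : {x : G ⧸ N // x ≠ QuotientGroup.mk 1},
        Nat.card {v : {v : G // orderOf v = 2 ∧ v ∉ N} // (QuotientGroup.mk v.1 : G ⧸ N) = x.1} := by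
      let f : {v : G // orderOf v = 2 ∧ v ∉ N} → {x : G ⧸ N // x ≠ QuotientGroup.mk 1} :=
        fun v => ⟨QuotientGroup.mk v.1, fun h => v.2.2 (by
            have := QuotientGroup.eq.mp h.symm
            simpa using this)⟩
      rw [Nat.card_congr (Equiv.sigmaFiberEquiv f).symm, Nat.card_sigma]
      apply Finset.sum_congr rfl
      intro x _
      exact Nat.card_congr (Equiv.subtypeEquivRight (fun v => Subtype.ext_iff))
    have h2 := card_invol_outside T hnc hC hnn
    rw [← hN] at h2
    have h3 : Fintype.card {x : G ⧸ N // x ≠ QuotientGroup.mk 1} = N.index - 1 := by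
      have := Fintype.ofFinite (G ⧸ N)
      rw [Fintype.card_subtype_compl, Subgroup.index, Nat.card_eq_fintype_card]
      simp
    rw [← h1, h2, h3]

include hnc hC in
/-- every coset of `N(T)` other than `N(T)` contains an involution -/
theorem exists_invol_coset (hnn : ¬ (T : Subgroup G).Normal) {g : G}
    (hg : g ∉ Subgroup.normalizer ((T : Subgroup G) : Set G)) :
    ∃ v : G, orderOf v = 2 ∧ v ∉ Subgroup.normalizer ((T : Subgroup G) : Set G) ∧
      (QuotientGroup.mk v : G ⧸ Subgroup.normalizer ((T : Subgroup G) : Set G)) =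
        QuotientGroup.mk g := by
  have h1 := card_fibre_eq T hnc hC hnn ⟨QuotientGroup.mk g, fun h => hg (by
    have := QuotientGroup.eq.mp h.symm
    simpa using this)⟩
  have hq := three_le_card T hnc
  have h2 : 0 < Nat.card {v : {v : G // orderOf v = 2 ∧
      v ∉ Subgroup.normalizer ((T : Subgroup G) : Set G)} //
        (QuotientGroup.mk v.1 : G ⧸ Subgroup.normalizer ((T : Subgroup G) : Set G)) =
          QuotientGroup.mk g} := by
    rw [h1]; omega
  obtain ⟨⟨⟨⟨v, hv⟩, hvg⟩⟩, _⟩ := Nat.card_pos_iff.mp h2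
  exact ⟨v, hv.1, hv.2, hvg⟩

include hnc hC in
/-- `|D_u| = q - 1` -/
theorem card_D (hnn : ¬ (T : Subgroup G).Normal) {u : G} (hu : orderOf u = 2)
    (huN : u ∉ Subgroup.normalizer ((T : Subgroup G) : Set G)) :
    Nat.card (DD T u) = Nat.card T - 1 := by
  have h1 := card_fibre_eq T hnc hC hnn ⟨QuotientGroup.mk u, fun h => huN (by
    have := QuotientGroup.eq.mp h.symm
    simpa using this)⟩
  rw [← h1, ← card_fibre T hnc hC hu huN]
  apply Nat.card_congr
  exact
  { toFun := fun v => ⟨⟨v.1, v.2.1⟩, (QuotientGroup.eq.mpr v.2.2).symm⟩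
    invFun := fun v => ⟨v.1.1, v.1.2, QuotientGroup.eq.mp v.2.symm⟩
    left_inv := fun _ => rfl
    right_inv := fun _ => rfl }

end Cfsg.Agent.TwoFusion.ElemCent
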