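import Mathlib
import Cfsg.Agent.TwoFusion.ElemCent

/-!
# Elementary abelian involution centralizers, part 2: two-point stabilizers

`N = N(T)`, `u` an involution outside `N`, `D = DD T u = N ∩ uNu⁻¹`.
-/

set_option autoImplicit false

namespace Cfsg.Agent.TwoFusion.ElemCent2

open Subgroup Cfsg.Agent.TwoFusion.ElemCent

variable {G : Type*} [Group G]

theorem smul_mk_eq_iff {K : Subgroup G} {d g : G} :
    d • (QuotientGroup.mk g : G ⧸ K) = QuotientGroup.mk g ↔ g⁻¹ * d * g ∈ K := by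
  rw [← inv_mem_iff (x := g⁻¹ * d * g)]
  have : d • (QuotientGroup.mk g : G ⧸ K) = QuotientGroup.mk (d * g) := rfl
  rw [this, QuotientGroup.eq]
  have h : (d * g)⁻¹ * g = (g⁻¹ * d * g)⁻¹ := by group
  rw [h]

theorem mk_eq_one_iff {K : Subgroup G} {g : G} :
    (QuotientGroup.mk g : G ⧸ K) = QuotientGroup.mk 1 ↔ g ∈ K := by
  rw [eq_comm, QuotientGroup.eq]
  simp

variable [Finite G] (T : Sylow 2 G) (hnc : ¬ IsCyclic (T : Subgroup G)) (hC : EC G)

omit [Finite G] in
theorem smul_one_of_mem_D {u d : G} (hd : d ∈ DD T u) :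
    d • (QuotientGroup.mk 1 : G ⧸ Subgroup.normalizer ((T : Subgroup G) : Set G)) =
      QuotientGroup.mk 1 := by
  rw [smul_mk_eq_iff]
  simpa using hd.1

omit [Finite G] in
theorem smul_u_of_mem_D {u d : G} (hd : d ∈ DD T u) :
    d • (QuotientGroup.mk u : G ⧸ Subgroup.normalizer ((T : Subgroup G) : Set G)) =
      QuotientGroup.mk u := by
  rw [smul_mk_eq_iff]
  exact ((mem_inf_map_iff _).mp hd).2

include hnc hC in
theorem exists_ne_one_mem_D (hnn : ¬ (T : Subgroup G).Normal) {u : G} (hu : orderOf u = 2)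
    (huN : u ∉ Subgroup.normalizer ((T : Subgroup G) : Set G)) :
    ∃ d ∈ DD T u, d ≠ 1 := by
  by_contra h
  push Not at h
  have h1 := card_D T hnc hC hnn hu huN
  have hq := three_le_card T hnc
  have h2 : DD T u = ⊥ := (Subgroup.eq_bot_iff_forall _).mpr h
  rw [h2, Subgroup.card_bot] at h1
  omega

include hnc hC in
/-- two distinct cosets are interchanged by an involution which inverts every element fixing
both -/
theorem exists_swap (hnn : ¬ (T : Subgroup G).Normal)
    {x y : G ⧸ Subgroup.normalizer ((T : Subgroup G) : Set G)} (hxy : x ≠ y) :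
    ∃ v : G, orderOf v = 2 ∧ v • x = y ∧ v • y = x ∧
      ∀ d : G, d • x = x → d • y = y → v * d * v⁻¹ = d⁻¹ := by
  obtain ⟨g, rfl⟩ := QuotientGroup.mk_surjective x
  obtain ⟨h, rfl⟩ := QuotientGroup.mk_surjective y
  have h1 : g⁻¹ * h ∉ Subgroup.normalizer ((T : Subgroup G) : Set G) := by
    intro h1
    exact hxy (QuotientGroup.eq.mpr h1)
  obtain ⟨w, hw2, hwN, hw⟩ := exists_invol_coset T hnc hC hnn h1
  have h2 : (g * w * g⁻¹) • (QuotientGroup.mk g : G ⧸ Subgroup.normalizer ((T : Subgroup G) : Set G))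
      = QuotientGroup.mk h := by
    have h3 : (g * w * g⁻¹) • (QuotientGroup.mk g :
        G ⧸ Subgroup.normalizer ((T : Subgroup G) : Set G)) =
        g • (QuotientGroup.mk w : G ⧸ Subgroup.normalizer ((T : Subgroup G) : Set G)) := by
      show (QuotientGroup.mk (g * w * g⁻¹ * g) :
        G ⧸ Subgroup.normalizer ((T : Subgroup G) : Set G)) = QuotientGroup.mk (g * w)
      congr 1
      group
    rw [h3, hw]
    show (QuotientGroup.mk (g * (g⁻¹ * h)) :
        G ⧸ Subgroup.normalizer ((T : Subgroup G) : Set G)) = QuotientGroup.mk h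
    congr 1
    group
  have hv2 : orderOf (g * w * g⁻¹) = 2 := by
    rw [← hw2]
    exact orderOf_injective (MulAut.conj g).toMonoidHom (MulAut.conj g).injective w
  have h4 := mul_self_of_order hv2
  refine ⟨g * w * g⁻¹, hv2, h2, ?_, ?_⟩
  · rw [← h2, ← mul_smul, h4, one_smul]
  · intro d hdx hdy
    have h5 : g⁻¹ * d * g ∈ DD T w := by
      rw [mem_inf_map_iff]
      refine ⟨smul_mk_eq_iff.mp hdx, ?_⟩
      have h6 : d • (QuotientGroup.mk (g * w) :
          G ⧸ Subgroup.normalizer ((T : Subgroup G) : Set G)) = QuotientGroup.mk (g * w) := by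
        have h7 : (QuotientGroup.mk (g * w) :
            G ⧸ Subgroup.normalizer ((T : Subgroup G) : Set G)) = QuotientGroup.mk h := by
          rw [← h2]
          show (QuotientGroup.mk (g * w) : G ⧸ Subgroup.normalizer ((T : Subgroup G) : Set G)) =
            QuotientGroup.mk (g * w * g⁻¹ * g)
          congr 1
          group
        rw [h7]; exact hdy
      have h8 := smul_mk_eq_iff.mp h6
      have h9 : (g * w)⁻¹ * d * (g * w) = w⁻¹ * (g⁻¹ * d * g) * w := by group
      rwa [h9] at h8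
    have h6 := conj_eq_inv T hnc hC hw2 hwN _ h5
    calc g * w * g⁻¹ * d * (g * w * g⁻¹)⁻¹ = g * (w * (g⁻¹ * d * g) * w⁻¹) * g⁻¹ := by group
      _ = g * (g⁻¹ * d * g)⁻¹ * g⁻¹ := by rw [h6]
      _ = d⁻¹ := by group

include hnc hC in
/-- an element commuting with a nontrivial element of `D_u` has odd order -/
theorem odd_of_commute {u : G} (huN : u ∉ Subgroup.normalizer ((T : Subgroup G) : Set G))
    {d : G} (hd : d ∈ DD T u) (hd1 : d ≠ 1) {c : G} (h : c * d = d * c) : Odd (orderOf c) := by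
  rw [← Nat.not_even_iff_odd]
  rintro ⟨k, hk⟩
  have hpos := orderOf_pos c
  have hk0 : 0 < k := by omega
  have hw2 : (c ^ k) ^ 2 = 1 := by
    rw [← pow_mul, mul_two, ← hk]; exact pow_orderOf_eq_one c
  have hw1 : c ^ k ≠ 1 := by
    intro h
    have := orderOf_le_of_pow_eq_one hk0 h
    omega
  apply hd1
  apply eq_one_of_mem_D_of_pow T hnc hC huN hd (k := 1)
  have h3 : c ^ k * d = d * c ^ k := (Commute.pow_left (show Commute c d from h) k).eq
  simpa using sq_eq_one_of_commute hC (orderOf_eq_two hw1 hw2) h3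

include hnc hC in
/-- `D_u` fixes at most two cosets -/
theorem not_three_fixed (hnn : ¬ (T : Subgroup G).Normal) {u : G} (hu : orderOf u = 2)
    (huN : u ∉ Subgroup.normalizer ((T : Subgroup G) : Set G))
    {x y z : G ⧸ Subgroup.normalizer ((T : Subgroup G) : Set G)} (hxy : x ≠ y) (hxz : x ≠ z)
    (hyz : y ≠ z) (hx : ∀ d ∈ DD T u, d • x = x) (hy : ∀ d ∈ DD T u, d • y = y)
    (hz : ∀ d ∈ DD T u, d • z = z) : False := by
  classical
  obtain ⟨e, he, he1⟩ := exists_ne_one_mem_D T hnc hC hnn hu huN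
  set F : Set (G ⧸ Subgroup.normalizer ((T : Subgroup G) : Set G)) :=
    {x | ∀ d ∈ DD T u, d • x = x} with hF
  set C : Subgroup G := Subgroup.centralizer ((DD T u : Subgroup G) : Set G) with hCdef
  -- `C` has odd order
  have hodd : Odd (Nat.card C) := by
    rw [← Nat.not_even_iff_odd]
    intro h
    obtain ⟨c, hc⟩ := exists_prime_orderOf_dvd_card' (G := C) 2 h.two_dvd
    have h1 : Odd (orderOf c.1) := odd_of_commute T hnc hC huN he he1
      ((Subgroup.mem_centralizer_iff.mp c.2 e he).symm)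
    rw [Subgroup.orderOf_coe, hc] at h1
    exact absurd h1 (by decide)
  -- swapping
  have hswap : ∀ a ∈ F, ∀ b ∈ F, ∀ c ∈ F, a ≠ c → c ≠ b → ∃ g ∈ C, g • a = b := by
    intro a ha b hb c hc hac hcb
    obtain ⟨v, hv2, hv, _, hvd⟩ := exists_swap T hnc hC hnn hac
    obtain ⟨w, hw2, hw, _, hwd⟩ := exists_swap T hnc hC hnn hcb
    refine ⟨w * v, ?_, by rw [mul_smul, hv, hw]⟩
    rw [hCdef, Subgroup.mem_centralizer_iff]
    intro d hd
    have h1 := hvd d (ha d hd) (hc d hd)
    have h2 := hwd d⁻¹ (hc _ (inv_mem hd)) (hb _ (inv_mem hd))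
    have h3 : w * v * d * (w * v)⁻¹ = d := by
      calc w * v * d * (w * v)⁻¹ = w * (v * d * v⁻¹) * w⁻¹ := by group
        _ = w * d⁻¹ * w⁻¹ := by rw [h1]
        _ = d := by rw [h2, inv_inv]
    exact (mul_inv_eq_iff_eq_mul.mp h3).symm
  have htrans : ∀ a ∈ F, ∀ b ∈ F, ∃ g ∈ C, g • a = b := by
    intro a ha b hb
    by_cases h1 : a ≠ x ∧ x ≠ b
    · exact hswap a ha b hb x hx h1.1 h1.2
    by_cases h2 : a ≠ y ∧ y ≠ b
    · exact hswap a ha b hb y hy h2.1 h2.2
    by_cases h3 : a ≠ z ∧ z ≠ b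
    · exact hswap a ha b hb z hz h3.1 h3.2
    exfalso
    rw [not_and_or, not_not, not_not] at h1 h2 h3
    rcases h1 with h1 | h1 <;> rcases h2 with h2 | h2 <;> rcases h3 with h3 | h3 <;>
      first
        | exact hxy (h1.symm.trans h2)
        | exact hxz (h1.symm.trans h3)
        | exact hyz (h2.symm.trans h3)
        | exact hxy (h1.trans h2.symm)
        | exact hxz (h1.trans h3.symm)
        | exact hyz (h2.trans h3.symm)
  -- `C` preserves `F`
  have hCF : ∀ g ∈ C, ∀ a ∈ F, g • a ∈ F := by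
    intro g hg a ha d hd
    have := Subgroup.mem_centralizer_iff.mp hg d hd
    rw [← mul_smul, this, mul_smul, ha d hd]
  have horb : F = MulAction.orbit C x := by
    ext b
    constructor
    · intro hb
      obtain ⟨g, hg, hgb⟩ := htrans x hx b hb
      exact ⟨⟨g, hg⟩, hgb⟩
    · rintro ⟨g, rfl⟩
      exact hCF g.1 g.2 x hx
  have hFodd : Odd F.ncard := by
    rw [horb, ← MulAction.index_stabilizer]
    exact Odd.of_dvd_nat hodd (Subgroup.index_dvd_card _)
  -- `u` acts on `F`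
  have huF : ∀ a ∈ F, u • a ∈ F := by
    intro a ha d hd
    have h1 := conj_eq_inv T hnc hC hu huN d hd
    have h2 : d * u = u * d⁻¹ := by
      rw [← h1, inv_eq_of_order hu]
      calc d * u = (u * u) * d * u := by rw [mul_self_of_order hu]; group
        _ = u * (u * d * u) := by group
    rw [← mul_smul, h2, mul_smul, ha _ (inv_mem hd)]
  let σ : Equiv.Perm F :=
    { toFun := fun a => ⟨u • a.1, huF a.1 a.2⟩
      invFun := fun a => ⟨u • a.1, huF a.1 a.2⟩
      left_inv := fun a => by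
        apply Subtype.ext
        show u • u • a.1 = a.1
        rw [← mul_smul, mul_self_of_order hu, one_smul]
      right_inv := fun a => by
        apply Subtype.ext
        show u • u • a.1 = a.1
        rw [← mul_smul, mul_self_of_order hu, one_smul] }
  have hσ : σ ^ 2 ^ 1 = 1 := by
    ext a
    rw [pow_one, pow_two]
    show u • u • a.1 = a.1
    rw [← mul_smul, mul_self_of_order hu, one_smul]
  have hft := Fintype.ofFinite F
  obtain ⟨⟨a, ha⟩, hσa⟩ := Equiv.Perm.exists_fixed_point_of_prime (p := 2) (n := 1)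
    (α := F) (by
      rw [← Nat.card_eq_fintype_card, Nat.card_coe_set_eq]
      exact hFodd.not_two_dvd_nat) hσ
  have hua : u • a = a := congrArg Subtype.val hσa
  obtain ⟨g, rfl⟩ := QuotientGroup.mk_surjective a
  have hgu := smul_mk_eq_iff.mp hua
  have hge := smul_mk_eq_iff.mp (ha e he)
  have hsT : g⁻¹ * u * g ∈ T := by
    apply mem_of_normalizer T hgu
    calc (g⁻¹ * u * g) ^ 2 = g⁻¹ * (u * u) * g := by rw [pow_two]; group
      _ = 1 := by rw [mul_self_of_order hu]; group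
  have h1 : (g⁻¹ * e * g) * (g⁻¹ * u * g) * (g⁻¹ * e * g)⁻¹ ∈ T :=
    ((mem_norm_iff T).mp hge _).mp hsT
  have h2 : (g⁻¹ * u * g)⁻¹ * ((g⁻¹ * e * g) * (g⁻¹ * u * g) * (g⁻¹ * e * g)⁻¹) ∈ T :=
    (T : Subgroup G).mul_mem ((T : Subgroup G).inv_mem hsT) h1
  have h3 : (g⁻¹ * u * g)⁻¹ * ((g⁻¹ * e * g) * (g⁻¹ * u * g) * (g⁻¹ * e * g)⁻¹) =
      g⁻¹ * (e⁻¹ * e⁻¹) * g := by
    have h4 := conj_eq_inv T hnc hC hu huN e he
    have hui := inv_eq_of_order hu
    rw [hui] at h4
    calc (g⁻¹ * u * g)⁻¹ * ((g⁻¹ * e * g) * (g⁻¹ * u * g) * (g⁻¹ * e * g)⁻¹)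
        = g⁻¹ * ((u⁻¹ * e * u) * e⁻¹) * g := by group
      _ = g⁻¹ * ((u * e * u) * e⁻¹) * g := by rw [hui]
      _ = g⁻¹ * (e⁻¹ * e⁻¹) * g := by rw [h4]
  rw [h3] at h2
  have h4 := sq_eq_one T hnc hC h2
  have h5 : (e⁻¹ * e⁻¹) ^ 2 = 1 := by
    have h6 : (g⁻¹ * (e⁻¹ * e⁻¹) * g) ^ 2 = g⁻¹ * (e⁻¹ * e⁻¹) ^ 2 * g := by
      rw [pow_two, pow_two]; group
    rw [h6] at h4
    calc (e⁻¹ * e⁻¹) ^ 2 = g * (g⁻¹ * (e⁻¹ * e⁻¹) ^ 2 * g) * g⁻¹ := by group
      _ = 1 := by rw [h4]; group
  apply he1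
  apply eq_one_of_mem_D_of_pow T hnc hC huN he (k := 2)
  calc e ^ 2 ^ 2 = ((e⁻¹ * e⁻¹) ^ 2)⁻¹ := by
        have h6 : e ^ 2 ^ 2 = e * e * e * e := by
          rw [show (2 : ℕ) ^ 2 = 3 + 1 from rfl, pow_succ, pow_succ, pow_two]
        rw [pow_two (e⁻¹ * e⁻¹), h6]
        simp only [mul_inv_rev, inv_inv, mul_assoc]
    _ = 1 := by rw [h5, inv_one]


include hnc hC in
/-- the cosets fixed by `D_u` are `N` and `uN` -/
theorem fixed_iff (hnn : ¬ (T : Subgroup G).Normal) {u : G} (hu : orderOf u = 2)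
    (huN : u ∉ Subgroup.normalizer ((T : Subgroup G) : Set G))
    (x : G ⧸ Subgroup.normalizer ((T : Subgroup G) : Set G)) :
    (∀ d ∈ DD T u, d • x = x) ↔ x = QuotientGroup.mk 1 ∨ x = QuotientGroup.mk u := by
  constructor
  · intro hx
    by_contra h
    rw [not_or] at h
    refine not_three_fixed T hnc hC hnn hu huN (x := QuotientGroup.mk 1) (y := QuotientGroup.mk u)
      (z := x) ?_ (Ne.symm h.1) (Ne.symm h.2) (fun d hd => smul_one_of_mem_D T hd)
      (fun d hd => smul_u_of_mem_D T hd) hx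
    intro h'
    exact huN (mk_eq_one_iff.mp h'.symm)
  · rintro (rfl | rfl) d hd
    · exact smul_one_of_mem_D T hd
    · exact smul_u_of_mem_D T hd

omit [Finite G] in
/-- elements of `N ∩ uNu⁻¹` as the stabilizer of two points -/
theorem mem_D_iff_smul {u g : G} : g ∈ DD T u ↔
    g • (QuotientGroup.mk 1 : G ⧸ Subgroup.normalizer ((T : Subgroup G) : Set G)) =
      QuotientGroup.mk 1 ∧
    g • (QuotientGroup.mk u : G ⧸ Subgroup.normalizer ((T : Subgroup G) : Set G)) =
      QuotientGroup.mk u := by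
  rw [mem_inf_map_iff, smul_mk_eq_iff, smul_mk_eq_iff]
  simp

include hnc hC in
theorem u_mem_normalizer_D {u : G} (hu : orderOf u = 2)
    (huN : u ∉ Subgroup.normalizer ((T : Subgroup G) : Set G)) :
    u ∈ Subgroup.normalizer ((DD T u : Subgroup G) : Set G) := by
  rw [Subgroup.mem_normalizer_iff]
  intro x
  constructor
  · intro hx
    show u * x * u⁻¹ ∈ DD T u
    rw [conj_eq_inv T hnc hC hu huN x hx]
    exact inv_mem hx
  · intro hx
    have h1 := conj_eq_inv T hnc hC hu huN _ hx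
    have h2 : x = (u * x * u⁻¹)⁻¹ := by
      rw [← h1]
      calc x = (u * u) * x * (u⁻¹ * u⁻¹) := by
            rw [inv_eq_of_order hu, mul_self_of_order hu]; group
        _ = u * (u * x * u⁻¹) * u⁻¹ := by group
    show x ∈ DD T u
    rw [h2]
    exact inv_mem hx

include hnc hC in
/-- `N_G(D_u) = D_u ∪ uD_u` -/
theorem mem_normalizer_D_iff (hnn : ¬ (T : Subgroup G).Normal) {u : G} (hu : orderOf u = 2)
    (huN : u ∉ Subgroup.normalizer ((T : Subgroup G) : Set G)) {g : G} :
    g ∈ Subgroup.normalizer ((DD T u : Subgroup G) : Set G) ↔ g ∈ DD T u ∨ u * g ∈ DD T u := by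
  have hun := u_mem_normalizer_D T hnc hC hu huN
  have huu := mul_self_of_order hu
  have hne : (QuotientGroup.mk u : G ⧸ Subgroup.normalizer ((T : Subgroup G) : Set G)) ≠
      QuotientGroup.mk 1 := fun h => huN (mk_eq_one_iff.mp h)
  have key : ∀ g ∈ Subgroup.normalizer ((DD T u : Subgroup G) : Set G),
      ∀ x : G ⧸ Subgroup.normalizer ((T : Subgroup G) : Set G), (∀ d ∈ DD T u, d • x = x) →
        ∀ d ∈ DD T u, d • (g • x) = g • x := by
    intro g hg x hx d hd
    have hg' := Subgroup.mem_normalizer_iff.mp (inv_mem hg) d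
    have h1 : g⁻¹ * d * g⁻¹⁻¹ ∈ DD T u := hg'.mp hd
    have h2 := hx _ h1
    have h3 : d * g = g * (g⁻¹ * d * g⁻¹⁻¹) := by group
    rw [← mul_smul, h3, mul_smul, h2]
  have key2 : ∀ g ∈ Subgroup.normalizer ((DD T u : Subgroup G) : Set G),
      g • (QuotientGroup.mk 1 : G ⧸ Subgroup.normalizer ((T : Subgroup G) : Set G)) =
      QuotientGroup.mk 1 → g ∈ DD T u := by
    intro g hg h1
    rw [mem_D_iff_smul]
    refine ⟨h1, ?_⟩
    have h2 := (fixed_iff T hnc hC hnn hu huN _).mp (key g hg _ (fun d hd => smul_u_of_mem_D T hd))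
    rcases h2 with h2 | h2
    · exfalso
      rw [← h1] at h2
      exact hne (MulAction.injective g h2)
    · exact h2
  constructor
  · intro hg
    have h2 := (fixed_iff T hnc hC hnn hu huN _).mp
      (key g hg _ (fun d hd => smul_one_of_mem_D T hd))
    rcases h2 with h2 | h2
    · exact Or.inl (key2 g hg h2)
    · right
      apply key2 _ (mul_mem hun hg)
      rw [mul_smul, h2]
      show (QuotientGroup.mk (u * u) : G ⧸ Subgroup.normalizer ((T : Subgroup G) : Set G)) = _
      rw [huu]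
  · rintro (h | h)
    · exact Subgroup.le_normalizer h
    · have h1 : g = u * (u * g) := by rw [← mul_assoc, huu, one_mul]
      rw [h1]
      exact mul_mem hun (Subgroup.le_normalizer h)

include hnc hC in
/-- `N_G(D_u) = D_u⟨u⟩` -/
theorem normalizer_D (hnn : ¬ (T : Subgroup G).Normal) {u : G} (hu : orderOf u = 2)
    (huN : u ∉ Subgroup.normalizer ((T : Subgroup G) : Set G)) :
    Subgroup.normalizer ((DD T u : Subgroup G) : Set G) = DD T u ⊔ Subgroup.zpowers u := by
  apply le_antisymm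
  · intro g hg
    rcases (mem_normalizer_D_iff T hnc hC hnn hu huN).mp hg with h | h
    · exact Subgroup.mem_sup_left h
    · have h1 : g = u * (u * g) := by rw [← mul_assoc, mul_self_of_order hu, one_mul]
      rw [h1]
      exact mul_mem (Subgroup.mem_sup_right (Subgroup.mem_zpowers u)) (Subgroup.mem_sup_left h)
  · apply sup_le Subgroup.le_normalizer
    rw [Subgroup.zpowers_le]
    exact u_mem_normalizer_D T hnc hC hu huN

end Cfsg.Agent.TwoFusion.ElemCent2
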