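import Mathlib
import Cfsg.Prelude.Def_CaseTheorems
import Cfsg.Prelude.Def_Transfer

/-!
# Bounding the sectional 2-rank

`GenLE n K`: every subgroup `N ≤ K` containing all squares of elements of `K` has index at most `2 ^ n`
in `K` (for a finite 2-group: `K` is generated by `n` elements).  `sectionalPRankLE_of_genLE` : if every
subgroup `K` of `S` satisfies `GenLE n K` then `S` has sectional 2-rank at most `n`.
-/

set_option autoImplicit false

namespace Cfsg.Agent.TwoFusion.SecRank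

open Subgroup

/-- every subgroup `N` of `K` containing all the squares of elements of `K` has index `≤ 2 ^ n` in `K` -/
def GenLE {S : Type*} [Group S] (n : ℕ) (K : Subgroup S) : Prop :=
  ∀ N : Subgroup S, N ≤ K → (∀ k ∈ K, k * k ∈ N) → N.relIndex K ≤ 2 ^ n

theorem genLE_def {S : Type*} [Group S] (n : ℕ) (K : Subgroup S) :
    GenLE n K ↔ ∀ N : Subgroup S, N ≤ K → (∀ k ∈ K, k * k ∈ N) → N.relIndex K ≤ 2 ^ n :=
  Iff.rfl

theorem genLE_mono {S : Type*} [Group S] {m n : ℕ} (h : m ≤ n) {K : Subgroup S}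
    (hK : GenLE m K) : GenLE n K := by
  intro N hN hsq
  exact (hK N hN hsq).trans (Nat.pow_le_pow_right (by norm_num) h)

/-- if `N ≤ K` contains the squares of `K`, it is normalised by `K` -/
theorem conj_mem_of_sq {S : Type*} [Group S] {N K : Subgroup S} (hN : N ≤ K)
    (hsq : ∀ k ∈ K, k * k ∈ N) {k n : S} (hk : k ∈ K) (hn : n ∈ N) : k * n * k⁻¹ ∈ N := by
  have h1 : (k * n) * (k * n) ∈ N := hsq _ (K.mul_mem hk (hN hn))
  have h2 : k⁻¹ * k⁻¹ ∈ N := hsq _ (K.inv_mem hk)
  have h3 : k * n * k⁻¹ = ((k * n) * (k * n)) * (n⁻¹ * (k⁻¹ * k⁻¹)) := by group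
  rw [h3]
  exact N.mul_mem h1 (N.mul_mem (N.inv_mem hn) h2)

/-- if `N ≤ K` contains the squares of `K`, it contains the commutators -/
theorem comm_mem_of_sq {S : Type*} [Group S] {N K : Subgroup S} (hN : N ≤ K)
    (hsq : ∀ k ∈ K, k * k ∈ N) {k l : S} (hk : k ∈ K) (hl : l ∈ K) : k * l * k⁻¹ * l⁻¹ ∈ N := by
  have h1 : (k * l) * (k * l) ∈ N := hsq _ (K.mul_mem hk hl)
  have h2 : k⁻¹ * k⁻¹ ∈ N := hsq _ (K.inv_mem hk)
  have h3 : l⁻¹ * l⁻¹ ∈ N := hsq _ (K.inv_mem hl)
  have h4 : k * l * k⁻¹ * l⁻¹ =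
      (k * l * (k * l)) * (l⁻¹ * (k⁻¹ * k⁻¹) * l⁻¹⁻¹) * (l⁻¹ * l⁻¹) := by group
  rw [h4]
  exact N.mul_mem (N.mul_mem h1 (conj_mem_of_sq hN hsq (K.inv_mem hl) h2)) h3

/-- `GenLE n` for all subgroups bounds the sectional 2-rank -/
theorem sectionalPRankLE_of_genLE {S : Type*} [Group S] [Finite S] {n : ℕ}
    (h : ∀ K : Subgroup S, GenLE n K) : Cfsg.SectionalPRankLE 2 n S := by
  intro H N hN A hA hA2
  -- `K` is the preimage of `A` in `S`, `M` the image of `N`
  set M : Subgroup S := N.map H.subtype with hM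
  set K₀ : Subgroup H := A.comap (QuotientGroup.mk' N) with hK₀
  set K : Subgroup S := K₀.map H.subtype with hK
  have hNK₀ : N ≤ K₀ := by
    intro x hx
    rw [hK₀, mem_comap]
    have : (QuotientGroup.mk' N) x = 1 := (QuotientGroup.eq_one_iff x).2 hx
    rw [this]
    exact A.one_mem
  have h1 : M.relIndex K ≤ 2 ^ n := by
    refine h K M (map_mono hNK₀) ?_
    rintro _ ⟨x, hx, rfl⟩
    refine ⟨x * x, ?_, rfl⟩
    have h2 := hA2 _ (mem_comap.1 hx)
    rw [← map_pow, pow_two] at h2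
    exact (QuotientGroup.eq_one_iff _).1 h2
  have h2 : M.relIndex K = N.relIndex K₀ :=
    relIndex_map_map_of_injective N K₀ H.subtype_injective
  have h3 : N.relIndex K₀ = Nat.card A := by
    have h4 := relIndex_ker (K := K₀) (QuotientGroup.mk' N)
    rw [QuotientGroup.ker_mk'] at h4
    rw [h4, hK₀, map_comap_eq_self_of_surjective (QuotientGroup.mk'_surjective N)]
  rw [← h3, ← h2]
  exact h1

/-- `|N| * |K : N| = |K|` -/
theorem card_mul_relIndex {S : Type*} [Group S] {N K : Subgroup S} (hN : N ≤ K) :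
    Nat.card N * N.relIndex K = Nat.card K := by
  have h := relIndex_mul_relIndex ⊥ N K bot_le hN
  rwa [relIndex_bot_left, relIndex_bot_left] at h

/-- `|K| = |K ∩ D| * |KD/D|` -/
theorem card_eq_mul_card_map {S : Type*} [Group S] (D : Subgroup S) [D.Normal] (K : Subgroup S) :
    Nat.card K = Nat.card ↥(K ⊓ D) * Nat.card ↥(K.map (QuotientGroup.mk' D)) := by
  have h1 := relIndex_ker (K := K) (QuotientGroup.mk' D)
  rw [QuotientGroup.ker_mk', ← inf_relIndex_left] at h1
  rw [← h1, card_mul_relIndex inf_le_left]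

/-- multiplicativity along a normal subgroup `D` -/
theorem relIndex_eq_mul {S : Type*} [Group S] [Finite S] (D : Subgroup S) [D.Normal]
    {N K : Subgroup S} (hN : N ≤ K) :
    N.relIndex K = (N.map (QuotientGroup.mk' D)).relIndex (K.map (QuotientGroup.mk' D)) *
      (N ⊓ D).relIndex (K ⊓ D) := by
  have h1 := card_mul_relIndex hN
  have h2 := card_mul_relIndex (map_mono (f := QuotientGroup.mk' D) hN)
  have h3 := card_mul_relIndex (inf_le_inf_right D hN)
  have h4 := card_eq_mul_card_map D K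
  have h5 := card_eq_mul_card_map D N
  have h6 : 0 < Nat.card N := Nat.card_pos
  apply Nat.eq_of_mul_eq_mul_left h6
  rw [h1, h4, ← h2, ← h3, h5]
  ring

/-- The main tool: if `KD/D` is generated by `a` elements modulo squares and, for every admissible `N`,
`|K ∩ D : N ∩ D| ≤ 2 ^ b`, then `K` satisfies `GenLE (a + b)`. -/
theorem genLE_of_quotient {S : Type*} [Group S] [Finite S] (D : Subgroup S) [D.Normal]
    {a b : ℕ} {K : Subgroup S} (h1 : GenLE a (K.map (QuotientGroup.mk' D)))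
    (h2 : ∀ N : Subgroup S, N ≤ K → (∀ k ∈ K, k * k ∈ N) → (N ⊓ D).relIndex (K ⊓ D) ≤ 2 ^ b) :
    GenLE (a + b) K := by
  intro N hN hsq
  rw [relIndex_eq_mul D hN, pow_add]
  refine Nat.mul_le_mul (h1 _ (map_mono hN) ?_) (h2 N hN hsq)
  rintro _ ⟨k, hk, rfl⟩
  exact ⟨k * k, hsq k hk, map_mul _ _ _⟩

/-- a subgroup of order `≤ 2 ^ n` satisfies `GenLE n` -/
theorem genLE_of_card_le {S : Type*} [Group S] [Finite S] {n : ℕ} {K : Subgroup S}
    (h : Nat.card K ≤ 2 ^ n) : GenLE n K := by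
  intro N hN _
  have h1 := card_mul_relIndex hN
  have h2 : 0 < Nat.card N := Nat.card_pos
  calc N.relIndex K ≤ Nat.card N * N.relIndex K := Nat.le_mul_of_pos_left _ h2
    _ = Nat.card K := h1
    _ ≤ 2 ^ n := h

/-- a cyclic subgroup satisfies `GenLE 1` -/
theorem genLE_one_of_cyclic {S : Type*} [Group S] {K : Subgroup S} (g : S)
    (h : K = zpowers g) : GenLE 1 K := by
  intro N hN hsq
  subst h
  rw [pow_one]
  have h1 : N.relIndex (zpowers g) ∣ 2 := by
    rw [relIndex_dvd_two_iff]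
    refine ⟨g, mem_zpowers g, ?_⟩
    intro b hb
    obtain ⟨k, rfl⟩ := mem_zpowers_iff.1 hb
    rcases Int.even_or_odd' k with ⟨m, rfl | rfl⟩
    · right
      have := N.zpow_mem (hsq g (mem_zpowers g)) m
      rwa [← pow_two, ← zpow_natCast, ← zpow_mul] at this
    · left
      have := N.zpow_mem (hsq g (mem_zpowers g)) (m + 1)
      rw [← pow_two, ← zpow_natCast, ← zpow_mul] at this
      rw [← zpow_add_one]
      convert this using 2
      push_cast
      ring
  exact Nat.le_of_dvd (by norm_num) h1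

/-- a noncommutative subgroup of order `≤ 8` satisfies `GenLE 2` -/
theorem genLE_two_of_card_le_eight {S : Type*} [Group S] [Finite S] {K : Subgroup S}
    (h : Nat.card K ≤ 8) (x y : S) (hx : x ∈ K) (hy : y ∈ K) (hxy : x * y ≠ y * x) :
    GenLE 2 K := by
  intro N hN hsq
  have h1 := card_mul_relIndex hN
  have h2 : 2 ≤ Nat.card N := by
    have h3 : x * y * x⁻¹ * y⁻¹ ∈ N := comm_mem_of_sq hN hsq hx hy
    have h4 : N ≠ ⊥ := by
      rintro rfl
      apply hxy
      rw [mem_bot, mul_inv_eq_one, mul_inv_eq_iff_eq_mul] at h3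
      exact h3
    have := (one_lt_card_iff_ne_bot N).2 h4
    omega
  norm_num
  by_contra h5
  push Not at h5
  nlinarith

end Cfsg.Agent.TwoFusion.SecRank
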