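import Mathlib
import Cfsg.Agent.TwoFusion.SecRank
import Cfsg.Agent.Transfer.TausskyTwoGroup

/-!
# Set-up for the theorem on self-centralizing elementary abelian subgroups of order 8 (S1232)

`Setup A E`: `S` is a 2-group, `A ≤ S` elementary abelian of order 8 with `C_S(A) = A`, and `E` is a normal
elementary abelian subgroup.
-/

set_option autoImplicit false

namespace Cfsg.Agent.TwoFusion.HaradaSetup

open Subgroup
open Cfsg.Agent.TwoFusion.SecRank

structure Setup {S : Type*} [Group S] (A E : Subgroup S) : Prop where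
  pgroup : IsPGroup 2 S
  A_comm : ∀ a ∈ A, ∀ b ∈ A, a * b = b * a
  A_sq : ∀ a ∈ A, a * a = 1
  A_card : Nat.card A = 8
  A_cent : ∀ g : S, (∀ a ∈ A, g * a = a * g) → g ∈ A
  E_conj : ∀ g : S, ∀ e ∈ E, g * e * g⁻¹ ∈ E
  E_comm : ∀ a ∈ E, ∀ b ∈ E, a * b = b * a
  E_sq : ∀ a ∈ E, a * a = 1

/-- `U`'s fixed points under `a` -/
def fix {S : Type*} [Group S] (U : Subgroup S) (a : S) : Subgroup S :=
  U ⊓ centralizer {a}

theorem mem_fix {S : Type*} [Group S] {U : Subgroup S} {a x : S} :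
    x ∈ fix U a ↔ x ∈ U ∧ x * a = a * x := by
  unfold fix
  rw [mem_inf, mem_centralizer_singleton_iff]

/-- If `H` normalizes `N < C ≤ H` in a 2-group, some `x ∈ C \ N` is centralized by `H` modulo `N`, and
`x ^ 2 ∈ N`. -/
theorem exists_central_mod {S : Type*} [Group S] [Finite S] (hS : IsPGroup 2 S) (H C N : Subgroup S)
    (hNC : N ≤ C) (hne : ¬ C ≤ N) (hCH : C ≤ H)
    (hHC : ∀ h ∈ H, ∀ c ∈ C, h * c * h⁻¹ ∈ C)
    (hHN : ∀ h ∈ H, ∀ n ∈ N, h * n * h⁻¹ ∈ N) :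
    ∃ x ∈ C, x ∉ N ∧ (∀ h ∈ H, h * x * h⁻¹ * x⁻¹ ∈ N) ∧ x * x ∈ N := by
  have hfact : Fact (Nat.Prime 2) := ⟨Nat.prime_two⟩
  have hNn : (N.subgroupOf H).Normal := by
    refine ⟨fun n hn g => ?_⟩
    rw [mem_subgroupOf] at hn ⊢
    exact hHN g g.2 n hn
  have hCn : (C.subgroupOf H).Normal := by
    refine ⟨fun n hn g => ?_⟩
    rw [mem_subgroupOf] at hn ⊢
    exact hHC g g.2 n hn
  set π : H →* H ⧸ (N.subgroupOf H) := QuotientGroup.mk' (N.subgroupOf H) with hπ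
  have hπs : Function.Surjective π := QuotientGroup.mk'_surjective _
  have hCbar : ((C.subgroupOf H).map π).Normal := hCn.map π hπs
  have hker : ∀ x : H, π x = 1 ↔ (x : S) ∈ N := by
    intro x
    rw [hπ]
    exact (QuotientGroup.eq_one_iff x).trans mem_subgroupOf
  have hCbarne : (C.subgroupOf H).map π ≠ ⊥ := by
    intro hbot
    apply hne
    intro c hc
    have h1 : π ⟨c, hCH hc⟩ ∈ (C.subgroupOf H).map π :=
      mem_map_of_mem π (mem_subgroupOf.2 hc)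
    rw [hbot, mem_bot, hker] at h1
    exact h1
  have hXp : IsPGroup 2 (H ⧸ (N.subgroupOf H)) := (hS.to_subgroup H).to_quotient _
  obtain ⟨Z, hZC, hZc, hZ2⟩ :=
    Cfsg.Agent.Transfer.TausskyTwoGroup.exists_central_card_prime_le hXp _ hCbarne
  have hZne : Z ≠ ⊥ := by
    intro hbot
    rw [hbot, card_bot] at hZ2
    omega
  obtain ⟨z, hzZ, hz1⟩ : ∃ z ∈ Z, z ≠ 1 := by
    by_contra hcon
    push Not at hcon
    exact hZne ((eq_bot_iff_forall Z).2 hcon)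
  obtain ⟨x, hxC, hxz⟩ := hZC hzZ
  refine ⟨x, mem_subgroupOf.1 hxC, ?_, ?_, ?_⟩
  · intro hxN
    exact hz1 (by rw [← hxz, (hker x).2 hxN])
  · intro h hh
    have h1 : π (⟨h, hh⟩ * x * (⟨h, hh⟩)⁻¹ * x⁻¹) = 1 := by
      rw [map_mul, map_mul, map_mul, map_inv, map_inv, hxz]
      have h2 := mem_center_iff.1 (hZc hzZ) (π ⟨h, hh⟩)
      rw [h2]
      group
    exact (hker _).1 h1
  · have h1 : π (x * x) = 1 := by
      rw [map_mul, hxz]
      have h2 : (⟨z, hzZ⟩ : Z) ^ 2 = 1 := by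
        rw [← hZ2]
        exact pow_card_eq_one'
      have h3 := congrArg Subtype.val h2
      rw [← pow_two]
      simpa using h3
    exact (hker _).1 h1

/-- A 2-group `A` acting on a section `C/N ≠ 1` of `S` fixes some `xN ≠ N` with `x ^ 2 ∈ N`. -/
theorem exists_fixed {S : Type*} [Group S] [Finite S] (hS : IsPGroup 2 S) (A C N : Subgroup S)
    (hNC : N ≤ C) (hne : ¬ C ≤ N)
    (hAC : ∀ a ∈ A, ∀ c ∈ C, a * c * a⁻¹ ∈ C)
    (hAN : ∀ a ∈ A, ∀ n ∈ N, a * n * a⁻¹ ∈ N)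
    (hCN : ∀ c ∈ C, ∀ n ∈ N, c * n * c⁻¹ ∈ N) :
    ∃ x ∈ C, x ∉ N ∧ (∀ a ∈ A, a * x * a⁻¹ * x⁻¹ ∈ N) ∧ x * x ∈ N := by
  have key : ∀ D : Subgroup S, (∀ a ∈ A, ∀ c ∈ D, a * c * a⁻¹ ∈ D) →
      (∀ a ∈ C, ∀ c ∈ D, a * c * a⁻¹ ∈ D) → ∀ h ∈ A ⊔ C, ∀ c ∈ D, h * c * h⁻¹ ∈ D := by
    intro D hA hC h hh
    rw [sup_eq_closure] at hh
    induction hh using closure_induction with
    | mem x hx =>
      rcases hx with hx | hx
      · exact hA x hx
      · exact hC x hx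
    | one => intro c hc; simpa using hc
    | mul x y _ _ ihx ihy =>
      intro c hc
      have := ihx _ (ihy c hc)
      convert this using 1
      group
    | inv x _ ih =>
      -- `c ↦ x c x⁻¹` is injective on the finite set `D`, hence surjective
      intro c hc
      let f : D → D := fun d => ⟨x * d * x⁻¹, ih d d.2⟩
      have hf : Function.Injective f := by
        intro d d' hdd
        have h1 := congrArg Subtype.val hdd
        have h2 : x * (d : S) * x⁻¹ = x * (d' : S) * x⁻¹ := h1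
        exact Subtype.ext (mul_left_cancel (mul_right_cancel h2))
      obtain ⟨d, hd⟩ := (Finite.injective_iff_surjective.1 hf) ⟨c, hc⟩
      have h1 : x * (d : S) * x⁻¹ = c := congrArg Subtype.val hd
      rw [← h1]
      have h2 : x⁻¹ * (x * (d : S) * x⁻¹) * x⁻¹⁻¹ = d := by group
      rw [h2]
      exact d.2
  obtain ⟨x, hx, hxN, h1, h2⟩ := exists_central_mod hS (A ⊔ C) C N hNC hne le_sup_right
    (key C hAC (fun a ha c hc => C.mul_mem (C.mul_mem ha hc) (C.inv_mem ha)))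
    (key N hAN hCN)
  exact ⟨x, hx, hxN, fun a ha => h1 a (mem_sup_left ha), h2⟩

/-- The homomorphism `u ↦ [a, u]` on an abelian group `U` normalized by `a`. -/
noncomputable def commHom {S : Type*} [Group S] (U : Subgroup S) (a : S)
    (hUa : ∀ u ∈ U, a * u * a⁻¹ ∈ U) (hcomm : ∀ u ∈ U, ∀ v ∈ U, u * v = v * u) : U →* U where
  toFun u := ⟨a * u * a⁻¹ * (u : S)⁻¹, U.mul_mem (hUa u u.2) (U.inv_mem u.2)⟩
  map_one' := by
    apply Subtype.ext
    simp
  map_mul' u v := by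
    apply Subtype.ext
    have h1 : (a * (v : S) * a⁻¹) * (u : S)⁻¹ = (u : S)⁻¹ * (a * (v : S) * a⁻¹) :=
      hcomm _ (hUa v v.2) _ (U.inv_mem u.2)
    show a * ((u : S) * v) * a⁻¹ * ((u : S) * v)⁻¹ =
      (a * u * a⁻¹ * (u : S)⁻¹) * (a * v * a⁻¹ * (v : S)⁻¹)
    have h2 : (v : S)⁻¹ * (u : S)⁻¹ = (u : S)⁻¹ * (v : S)⁻¹ :=
      hcomm _ (U.inv_mem v.2) _ (U.inv_mem u.2)
    calc a * ((u : S) * v) * a⁻¹ * ((u : S) * v)⁻¹
        = a * u * a⁻¹ * (a * v * a⁻¹) * ((v : S)⁻¹ * (u : S)⁻¹) := by group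
      _ = a * u * a⁻¹ * ((a * v * a⁻¹) * (u : S)⁻¹) * (v : S)⁻¹ := by rw [h2]; group
      _ = (a * u * a⁻¹ * (u : S)⁻¹) * (a * v * a⁻¹ * (v : S)⁻¹) := by rw [h1]; group

theorem commHom_coe {S : Type*} [Group S] (U : Subgroup S) (a : S)
    (hUa : ∀ u ∈ U, a * u * a⁻¹ ∈ U) (hcomm : ∀ u ∈ U, ∀ v ∈ U, u * v = v * u) (u : U) :
    (commHom U a hUa hcomm u : S) = a * u * a⁻¹ * (u : S)⁻¹ := rfl

theorem card_ker_commHom {S : Type*} [Group S] (U : Subgroup S) (a : S)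
    (hUa : ∀ u ∈ U, a * u * a⁻¹ ∈ U) (hcomm : ∀ u ∈ U, ∀ v ∈ U, u * v = v * u) :
    Nat.card (commHom U a hUa hcomm).ker = Nat.card (fix U a) := by
  have h1 : (commHom U a hUa hcomm).ker.map U.subtype = fix U a := by
    ext x
    constructor
    · rintro ⟨u, hu, rfl⟩
      rw [mem_fix]
      refine ⟨u.2, ?_⟩
      have h2 := congrArg Subtype.val (MonoidHom.mem_ker.1 hu)
      rw [commHom_coe] at h2
      have h3 : a * (u : S) * a⁻¹ * (u : S)⁻¹ = 1 := h2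
      rw [mul_inv_eq_one, mul_inv_eq_iff_eq_mul] at h3
      exact h3.symm
    · intro hx
      rw [mem_fix] at hx
      refine ⟨⟨x, hx.1⟩, ?_, rfl⟩
      refine MonoidHom.mem_ker.2 (Subtype.ext ?_)
      rw [commHom_coe]
      show a * x * a⁻¹ * x⁻¹ = 1
      rw [mul_inv_eq_one, mul_inv_eq_iff_eq_mul]
      exact hx.2.symm
  rw [← h1]
  exact Nat.card_congr (equivMapOfInjective _ _ U.subtype_injective).toEquiv

theorem card_eq_fix_mul_range {S : Type*} [Group S] (U : Subgroup S) (a : S)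
    (hUa : ∀ u ∈ U, a * u * a⁻¹ ∈ U) (hcomm : ∀ u ∈ U, ∀ v ∈ U, u * v = v * u) :
    Nat.card U = Nat.card (fix U a) * Nat.card (commHom U a hUa hcomm).range := by
  have h1 := (commHom U a hUa hcomm).ker.card_mul_index
  rw [index_ker, card_ker_commHom] at h1
  exact h1.symm

theorem range_le_fix {S : Type*} [Group S] (U : Subgroup S) (a : S)
    (ha : a * a = 1) (hUa : ∀ u ∈ U, a * u * a⁻¹ ∈ U)
    (hcomm : ∀ u ∈ U, ∀ v ∈ U, u * v = v * u) (hsq : ∀ u ∈ U, u * u = 1) :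
    (commHom U a hUa hcomm).range.map U.subtype ≤ fix U a := by
  have hainv : a⁻¹ = a := inv_eq_of_mul_eq_one_left ha
  rintro _ ⟨_, ⟨u, rfl⟩, rfl⟩
  rw [mem_fix]
  refine ⟨Subtype.prop _, ?_⟩
  show (commHom U a hUa hcomm u : S) * a = a * (commHom U a hUa hcomm u : S)
  rw [commHom_coe]
  have h1 : (u : S)⁻¹ = u := inv_eq_of_mul_eq_one_left (hsq u u.2)
  have h2 := hcomm _ (hUa u u.2) _ u.2
  rw [h1]
  rw [hainv] at h2 ⊢
  calc a * (u : S) * a * u * a = (a * u * a * u) * a := by group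
    _ = (u * (a * u * a)) * a := by rw [h2]
    _ = u * a * u * (a * a) := by group
    _ = (a * a) * (u * a * u) := by rw [ha]; simp
    _ = a * (a * (u * a * u)) := by group
    _ = a * (a * u * a * u) := by group

/-- An involution `a` acting on an elementary abelian group `U`: `|U| ≤ |C_U(a)|²`. -/
theorem card_le_card_fix_sq {S : Type*} [Group S] [Finite S] (U : Subgroup S) (a : S)
    (ha : a * a = 1) (hUa : ∀ u ∈ U, a * u * a⁻¹ ∈ U)
    (hcomm : ∀ u ∈ U, ∀ v ∈ U, u * v = v * u) (hsq : ∀ u ∈ U, u * u = 1) :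
    Nat.card U ≤ Nat.card (fix U a) ^ 2 := by
  rw [card_eq_fix_mul_range U a hUa hcomm, pow_two]
  refine Nat.mul_le_mul_left _ ?_
  have h1 := card_le_of_le (range_le_fix U a ha hUa hcomm hsq)
  rwa [← Nat.card_congr (equivMapOfInjective _ _ U.subtype_injective).toEquiv] at h1

/-- `[U, a]` has order `|U| / |C_U(a)|`: if a subgroup `N` contains all the commutators `[u, a]`,
`u ∈ U`, then `|U| ≤ |N ∩ U| * |C_U(a)|`. (`U` abelian, `a` arbitrary normalizing `U`.) -/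
theorem card_le_inf_mul_fix {S : Type*} [Group S] [Finite S] (U N : Subgroup S) (a : S)
    (hUa : ∀ u ∈ U, a * u * a⁻¹ ∈ U)
    (hcomm : ∀ u ∈ U, ∀ v ∈ U, u * v = v * u)
    (hN : ∀ u ∈ U, a * u * a⁻¹ * u⁻¹ ∈ N) :
    Nat.card U ≤ Nat.card ↥(N ⊓ U) * Nat.card (fix U a) := by
  rw [card_eq_fix_mul_range U a hUa hcomm, mul_comm]
  refine Nat.mul_le_mul_right _ ?_
  have h1 : (commHom U a hUa hcomm).range.map U.subtype ≤ N ⊓ U := by
    rintro _ ⟨_, ⟨u, rfl⟩, rfl⟩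
    exact ⟨hN u u.2, Subtype.prop _⟩
  have h2 := card_le_of_le h1
  rwa [← Nat.card_congr (equivMapOfInjective _ _ U.subtype_injective).toEquiv] at h2

/-- If `U` is a free `⟨a⟩`-module (`|U| = |C_U(a)|²`) then `C_U(a) = [U, a]`. -/
theorem exists_comm_eq {S : Type*} [Group S] [Finite S] (U : Subgroup S) (a : S)
    (ha : a * a = 1) (hUa : ∀ u ∈ U, a * u * a⁻¹ ∈ U)
    (hcomm : ∀ u ∈ U, ∀ v ∈ U, u * v = v * u) (hsq : ∀ u ∈ U, u * u = 1)
    (hfree : Nat.card (fix U a) ^ 2 ≤ Nat.card U) (w : S) (hw : w ∈ fix U a) :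
    ∃ u ∈ U, a * u * a⁻¹ * u⁻¹ = w := by
  have h0 := range_le_fix U a ha hUa hcomm hsq
  have h1 : Nat.card (fix U a) ≤ Nat.card ((commHom U a hUa hcomm).range.map U.subtype) := by
    rw [← Nat.card_congr (equivMapOfInjective _ _ U.subtype_injective).toEquiv]
    rw [card_eq_fix_mul_range U a hUa hcomm, pow_two] at hfree
    exact Nat.le_of_mul_le_mul_left hfree Nat.card_pos
  have h2 := eq_of_le_of_card_ge h0 h1
  rw [← h2] at hw
  obtain ⟨_, ⟨u, rfl⟩, rfl⟩ := hw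
  exact ⟨u, u.2, rfl⟩

end Cfsg.Agent.TwoFusion.HaradaSetup
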