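import Mathlib
import Cfsg.Agent.TwoFusion.HaradaSetup

/-!
# Case `|E| = 8` and `C_S(E) = E` of S1232, and 2-groups acting on an elementary abelian group of order 8
-/

set_option autoImplicit false

namespace Cfsg.Agent.TwoFusion.HaradaEightSelf

open Subgroup
open Cfsg.Agent.TwoFusion.SecRank
open Cfsg.Agent.TwoFusion.HaradaSetup

/-- a proper inclusion at least doubles the order -/
theorem two_mul_card_le {S : Type*} [Group S] [Finite S] {H K : Subgroup S} (h : H ≤ K)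
    (hne : ∃ x ∈ K, x ∉ H) : 2 * Nat.card H ≤ Nat.card K := by
  have h1 := card_mul_relIndex h
  have h2 : H.relIndex K ≠ 1 := by
    intro h3
    rw [relIndex_eq_one] at h3
    obtain ⟨x, hxK, hxH⟩ := hne
    exact hxH (h3 hxK)
  have h3 : H.relIndex K ≠ 0 := by
    intro h3
    rw [h3, mul_zero] at h1
    have : 0 < Nat.card K := Nat.card_pos
    omega
  have h4 : 2 ≤ H.relIndex K := by omega
  calc 2 * Nat.card H = Nat.card H * 2 := mul_comm _ _
    _ ≤ Nat.card H * H.relIndex K := Nat.mul_le_mul_left _ h4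
    _ = Nat.card K := h1

/-- One step of a chief series: between two normal subgroups `H < E` of a finite 2-group there is a normal
subgroup `H'` with `|H' : H| = 2`. -/
theorem exists_step {S : Type*} [Group S] [Finite S] (hS : IsPGroup 2 S) (H E : Subgroup S)
    (hHE : H ≤ E) (hne : ¬ E ≤ H) (hE : ∀ g : S, ∀ e ∈ E, g * e * g⁻¹ ∈ E)
    (hH : ∀ g : S, ∀ e ∈ H, g * e * g⁻¹ ∈ H) :
    ∃ (H' : Subgroup S) (x : S), H ≤ H' ∧ H' ≤ E ∧ x ∈ H' ∧ x ∉ H ∧
      (∀ g : S, ∀ e ∈ H', g * e * g⁻¹ ∈ H') ∧ Nat.card H' = 2 * Nat.card H ∧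
      (∀ g : S, g * x * g⁻¹ * x⁻¹ ∈ H) := by
  obtain ⟨x, hx, hxn, hc, hq⟩ := exists_central_mod hS ⊤ E H hHE hne le_top
    (fun g _ e he => hE g e he) (fun g _ e he => hH g e he)
  have hc' : ∀ g : S, g * x * g⁻¹ * x⁻¹ ∈ H := fun g => hc g (mem_top g)
  have hxi : ∀ y ∈ H, x⁻¹ * y * x ∈ H := by
    intro y hy
    have := hH x⁻¹ y hy
    rwa [inv_inv] at this
  let H' : Subgroup S :=
    { carrier := {y | y ∈ H ∨ x⁻¹ * y ∈ H}
      one_mem' := Or.inl (one_mem H)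
      mul_mem' := by
        rintro a b (ha | ha) (hb | hb)
        · exact Or.inl (mul_mem ha hb)
        · right
          show x⁻¹ * (a * b) ∈ H
          have h1 : x⁻¹ * (a * b) = (x⁻¹ * a * x) * (x⁻¹ * b) := by group
          rw [h1]
          exact mul_mem (hxi a ha) hb
        · right
          show x⁻¹ * (a * b) ∈ H
          rw [← mul_assoc]
          exact mul_mem ha hb
        · left
          show a * b ∈ H
          have h1 : a * b = (x * x) * (x⁻¹ * (x⁻¹ * a) * x) * (x⁻¹ * b) := by group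
          rw [h1]
          exact mul_mem (mul_mem hq (hxi _ ha)) hb
      inv_mem' := by
        rintro a (ha | ha)
        · exact Or.inl (inv_mem ha)
        · right
          show x⁻¹ * a⁻¹ ∈ H
          have h1 : x⁻¹ * a⁻¹ = (x⁻¹ * (x⁻¹ * a)⁻¹ * x) * (x * x)⁻¹ := by group
          rw [h1]
          exact mul_mem (hxi _ (inv_mem ha)) (inv_mem hq) }
  have hmem : ∀ y, y ∈ H' ↔ (y ∈ H ∨ x⁻¹ * y ∈ H) := fun y => Iff.rfl
  have hHH' : H ≤ H' := fun y hy => Or.inl hy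
  refine ⟨H', x, hHH', ?_, ?_, hxn, ?_, ?_, hc'⟩
  · rintro y (hy | hy)
    · exact hHE hy
    · have h1 : y = x * (x⁻¹ * y) := by group
      rw [h1]
      exact mul_mem hx (hHE hy)
  · right
    show x⁻¹ * x ∈ H
    rw [inv_mul_cancel]
    exact one_mem H
  · rintro g y (hy | hy)
    · exact Or.inl (hH g y hy)
    · right
      show x⁻¹ * (g * y * g⁻¹) ∈ H
      have h1 : x⁻¹ * (g * y * g⁻¹) = (x⁻¹ * (g * x * g⁻¹ * x⁻¹) * x) * (g * (x⁻¹ * y) * g⁻¹) := by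
        group
      rw [h1]
      exact mul_mem (hxi _ (hc' g)) (hH g _ hy)
  · rw [← card_mul_relIndex hHH', mul_comm]
    congr 1
    rw [relIndex_eq_two_iff]
    refine ⟨x, ?_, ?_⟩
    · right
      show x⁻¹ * x ∈ H
      rw [inv_mul_cancel]
      exact one_mem H
    · rintro b (hb | hb)
      · right
        refine ⟨hb, ?_⟩
        intro h1
        apply hxn
        have h2 : x = b⁻¹ * (b * x) := by group
        rw [h2]
        exact mul_mem (inv_mem hb) h1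
      · left
        constructor
        · have h1 : b * x = (x * x) * (x⁻¹ * (x⁻¹ * b) * x) := by group
          rw [h1]
          exact mul_mem hq (hxi _ hb)
        · intro h1
          apply hxn
          have h2 : x = b * (x⁻¹ * b)⁻¹ := by group
          rw [h2]
          exact mul_mem h1 (inv_mem hb)

/-- The structure of a 2-group acting on an elementary abelian group `E` of order 8: a chief series. -/
theorem exists_chain {S : Type*} [Group S] [Finite S] (hS : IsPGroup 2 S) (E : Subgroup S)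
    (hconj : ∀ g : S, ∀ e ∈ E, g * e * g⁻¹ ∈ E)
    (hcomm : ∀ a ∈ E, ∀ b ∈ E, a * b = b * a) (hE : Nat.card E = 8) :
    ∃ (E₁ E₂ : Subgroup S) (e₁ e₂ e₃ : S), Nat.card E₁ = 2 ∧ Nat.card E₂ = 4 ∧ E₁ ≤ E₂ ∧ E₂ ≤ E ∧
      e₁ ∈ E₁ ∧ e₁ ≠ 1 ∧ e₂ ∈ E₂ ∧ e₂ ∉ E₁ ∧ e₃ ∈ E ∧ e₃ ∉ E₂ ∧
      (∀ s : S, s * e₁ * s⁻¹ = e₁) ∧ (∀ s : S, s * e₂ * s⁻¹ * e₂⁻¹ ∈ E₁) ∧
      (∀ s : S, s * e₃ * s⁻¹ * e₃⁻¹ ∈ E₂) ∧
      (∀ s : S, s * e₁ * s⁻¹ = e₁ → s * e₂ * s⁻¹ = e₂ → s * e₃ * s⁻¹ = e₃ →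
        ∀ e ∈ E, s * e = e * s) := by
  obtain ⟨E₁, e₁, -, h₁E, he₁, he₁n, hn₁, hc₁, hs₁⟩ := exists_step hS ⊥ E bot_le (by
    intro h
    rw [le_bot_iff] at h
    rw [h, card_bot] at hE
    omega) hconj (by
    intro g n hn
    rw [mem_bot] at hn ⊢
    rw [hn]; group)
  rw [card_bot, mul_one] at hc₁
  obtain ⟨E₂, e₂, h₁₂, h₂E, he₂, he₂n, hn₂, hc₂, hs₂⟩ := exists_step hS E₁ E h₁E (by
    intro h
    have := card_le_of_le h
    omega) hconj hn₁
  rw [hc₁] at hc₂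
  obtain ⟨E₃, e₃, h₂₃, h₃E, he₃, he₃n, hn₃, hc₃, hs₃⟩ := exists_step hS E₂ E h₂E (by
    intro h
    have := card_le_of_le h
    omega) hconj hn₂
  refine ⟨E₁, E₂, e₁, e₂, e₃, hc₁, hc₂, h₁₂, h₂E, he₁, fun h => he₁n (h ▸ one_mem ⊥), he₂, he₂n,
    h₃E he₃, he₃n, ?_, hs₂, hs₃, ?_⟩
  · intro s
    have := hs₁ s
    rwa [mem_bot, mul_inv_eq_one] at this
  · intro s h1 h2 h3
    -- the subgroup of `E` centralized by `s`
    have hmem : ∀ x, x ∈ centralizer ({s} : Set S) ↔ s * x * s⁻¹ = x := by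
      intro x
      rw [mem_centralizer_singleton_iff, mul_inv_eq_iff_eq_mul]
      exact eq_comm
    set F := centralizer ({s} : Set S) with hF
    have c1 : 2 * Nat.card (⊥ : Subgroup S) ≤ Nat.card ↥(E₁ ⊓ F) :=
      two_mul_card_le bot_le ⟨e₁, ⟨he₁, (hmem _).2 h1⟩, he₁n⟩
    rw [card_bot, mul_one] at c1
    have c2 : 2 * Nat.card ↥(E₁ ⊓ F) ≤ Nat.card ↥(E₂ ⊓ F) :=
      two_mul_card_le (inf_le_inf_right _ h₁₂) ⟨e₂, ⟨he₂, (hmem _).2 h2⟩, fun h => he₂n h.1⟩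
    have c3 : 2 * Nat.card ↥(E₂ ⊓ F) ≤ Nat.card ↥(E ⊓ F) :=
      two_mul_card_le (inf_le_inf_right _ h₂E) ⟨e₃, ⟨h₃E he₃, (hmem _).2 h3⟩, fun h => he₃n h.1⟩
    have c4 : E ⊓ F = E := eq_of_le_of_card_ge inf_le_left (by omega)
    intro e he
    rw [← c4] at he
    have := (hmem e).1 he.2
    rwa [mul_inv_eq_iff_eq_mul] at this

variable {S : Type*} [Group S] [Finite S]

/-- `|S/C_S(E)| ≤ 8`, and if it is 8 then the quotient is not abelian. -/
theorem card_quotient_aux (hS : IsPGroup 2 S) (E C : Subgroup S) [C.Normal]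
    (hconj : ∀ g : S, ∀ e ∈ E, g * e * g⁻¹ ∈ E)
    (hcomm : ∀ a ∈ E, ∀ b ∈ E, a * b = b * a) (hE : Nat.card E = 8)
    (hC : ∀ g : S, g ∈ C ↔ (∀ e ∈ E, g * e = e * g)) :
    Nat.card (S ⧸ C) ≤ 8 ∧ (Nat.card (S ⧸ C) = 8 → ∃ x y : S ⧸ C, x * y ≠ y * x) := by
  obtain ⟨E₁, E₂, e₁, e₂, e₃, hc₁, hc₂, h₁₂, h₂E, he₁, he₁n, he₂, he₂n, he₃, he₃n, hs₁, hs₂, hs₃, hall⟩ :=
    exists_chain hS E hconj hcomm hE
  -- the parametrisation
  let F : S → E₁ × E₂ := fun s => (⟨s * e₂ * s⁻¹ * e₂⁻¹, hs₂ s⟩, ⟨s * e₃ * s⁻¹ * e₃⁻¹, hs₃ s⟩)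
  have hF : ∀ s t : S, F s = F t ↔ (s : S ⧸ C) = (t : S ⧸ C) := by
    intro s t
    rw [QuotientGroup.eq, hC]
    constructor
    · intro h
      have h1 : s * e₂ * s⁻¹ * e₂⁻¹ = t * e₂ * t⁻¹ * e₂⁻¹ := congrArg (fun p => (p.1 : S)) h
      have h2 : s * e₃ * s⁻¹ * e₃⁻¹ = t * e₃ * t⁻¹ * e₃⁻¹ := congrArg (fun p => (p.2 : S)) h
      rw [mul_left_inj] at h1 h2
      apply hall
      · exact hs₁ _
      · have : s⁻¹ * t * e₂ * (s⁻¹ * t)⁻¹ = s⁻¹ * (t * e₂ * t⁻¹) * s := by group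
        rw [this, ← h1]; group
      · have : s⁻¹ * t * e₃ * (s⁻¹ * t)⁻¹ = s⁻¹ * (t * e₃ * t⁻¹) * s := by group
        rw [this, ← h2]; group
    · intro h
      have key : ∀ e ∈ E, s * e * s⁻¹ = t * e * t⁻¹ := by
        intro e he
        have h1 := h e he
        have h2 : t * e * t⁻¹ = s * ((s⁻¹ * t) * e) * t⁻¹ := by group
        rw [h2, h1]; group
      apply Prod.ext
      · apply Subtype.ext
        show s * e₂ * s⁻¹ * e₂⁻¹ = t * e₂ * t⁻¹ * e₂⁻¹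
        rw [key e₂ (h₂E he₂)]
      · apply Subtype.ext
        show s * e₃ * s⁻¹ * e₃⁻¹ = t * e₃ * t⁻¹ * e₃⁻¹
        rw [key e₃ he₃]
  let G : S ⧸ C → E₁ × E₂ := fun q => F q.out
  have hG : ∀ s : S, G (s : S ⧸ C) = F s := by
    intro s
    show F (s : S ⧸ C).out = F s
    rw [hF]
    exact Quotient.out_eq' _
  have hGinj : Function.Injective G := by
    intro q r
    induction q using QuotientGroup.induction_on with
    | H s =>
      induction r using QuotientGroup.induction_on with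
      | H t =>
        intro h
        rw [hG, hG, hF] at h
        exact h
  have hcardprod : Nat.card (E₁ × E₂) = 8 := by rw [Nat.card_prod, hc₁, hc₂]
  refine ⟨?_, ?_⟩
  · rw [← hcardprod]
    exact Nat.card_le_card_of_injective G hGinj
  · intro h8
    have hbij : Function.Bijective G := by
      rw [Nat.bijective_iff_injective_and_card]
      exact ⟨hGinj, by rw [h8, hcardprod]⟩
    obtain ⟨x, hx⟩ := hbij.2 (⟨e₁, he₁⟩, 1)
    obtain ⟨y, hy⟩ := hbij.2 (1, ⟨e₂, he₂⟩)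
    refine ⟨x, y, ?_⟩
    induction x using QuotientGroup.induction_on with
    | H s =>
      induction y using QuotientGroup.induction_on with
      | H t =>
        rw [hG] at hx hy
        intro hxy
        have hxy' : ((s * t : S) : S ⧸ C) = ((t * s : S) : S ⧸ C) := hxy
        rw [← hF] at hxy'
        have h3 : (s * t) * e₃ * (s * t)⁻¹ * e₃⁻¹ = (t * s) * e₃ * (t * s)⁻¹ * e₃⁻¹ :=
          congrArg (fun p => (p.2 : S)) hxy'
        have hs2 : s * e₂ * s⁻¹ * e₂⁻¹ = e₁ := congrArg (fun p => (p.1 : S)) hx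
        have hs3 : s * e₃ * s⁻¹ * e₃⁻¹ = 1 := congrArg (fun p => (p.2 : S)) hx
        have ht3 : t * e₃ * t⁻¹ * e₃⁻¹ = e₂ := congrArg (fun p => (p.2 : S)) hy
        rw [mul_inv_eq_iff_eq_mul] at hs2 hs3 ht3
        rw [one_mul] at hs3
        rw [mul_left_inj] at h3
        have h4 : (s * t) * e₃ * (s * t)⁻¹ = s * (t * e₃ * t⁻¹) * s⁻¹ := by group
        have h5 : (t * s) * e₃ * (t * s)⁻¹ = t * (s * e₃ * s⁻¹) * t⁻¹ := by group
        have h6 : s * (e₂ * e₃) * s⁻¹ = (s * e₂ * s⁻¹) * (s * e₃ * s⁻¹) := by group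
        rw [h4, h5, ht3, hs3, ht3, h6, hs2, hs3, mul_assoc] at h3
        apply he₁n
        exact mul_eq_right.1 h3

theorem card_quotient_le (hS : IsPGroup 2 S) (E C : Subgroup S) [C.Normal]
    (hconj : ∀ g : S, ∀ e ∈ E, g * e * g⁻¹ ∈ E)
    (hcomm : ∀ a ∈ E, ∀ b ∈ E, a * b = b * a) (hE : Nat.card E = 8)
    (hC : ∀ g : S, g ∈ C ↔ (∀ e ∈ E, g * e = e * g)) : Nat.card (S ⧸ C) ≤ 8 :=
  (card_quotient_aux hS E C hconj hcomm hE hC).1

theorem card_le_four_or_eight {K : Subgroup S} (hS : IsPGroup 2 S) (h : Nat.card K ≤ 8) :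
    Nat.card K ≤ 4 ∨ Nat.card K = 8 := by
  obtain ⟨n, hn⟩ := (IsPGroup.iff_card.1 (hS.to_subgroup K))
  rw [hn] at h ⊢
  have h3 : n ≤ 3 := by
    by_contra hcon
    push Not at hcon
    have : 2 ^ 4 ≤ 2 ^ n := Nat.pow_le_pow_right (by norm_num) hcon
    omega
  interval_cases n <;> simp

theorem genLE_two_map (hS : IsPGroup 2 S) (E C : Subgroup S) [C.Normal]
    (hconj : ∀ g : S, ∀ e ∈ E, g * e * g⁻¹ ∈ E)
    (hcomm : ∀ a ∈ E, ∀ b ∈ E, a * b = b * a) (hsq : ∀ a ∈ E, a * a = 1) (hE : Nat.card E = 8)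
    (hC : ∀ g : S, g ∈ C ↔ (∀ e ∈ E, g * e = e * g)) (K : Subgroup (S ⧸ C)) : GenLE 2 K := by
  have hq := card_quotient_aux hS E C hconj hcomm hE hC
  have hK : Nat.card K ≤ Nat.card (S ⧸ C) := card_le_card_group K
  rcases card_le_four_or_eight (hS.to_quotient C) (hK.trans hq.1) with h | h
  · exact genLE_of_card_le h
  · have h8 : Nat.card (S ⧸ C) = 8 := le_antisymm hq.1 (h ▸ hK)
    have htop : K = ⊤ := eq_top_of_card_eq K (by rw [h, h8])
    obtain ⟨x, y, hxy⟩ := hq.2 h8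
    refine genLE_two_of_card_le_eight (by omega) x y ?_ ?_ hxy <;> rw [htop] <;> exact mem_top _

theorem case8_self (hS : IsPGroup 2 S) (E : Subgroup S)
    (hconj : ∀ g : S, ∀ e ∈ E, g * e * g⁻¹ ∈ E)
    (hcomm : ∀ a ∈ E, ∀ b ∈ E, a * b = b * a) (hsq : ∀ a ∈ E, a * a = 1) (hE : Nat.card E = 8)
    (hC : ∀ g : S, (∀ e ∈ E, g * e = e * g) → g ∈ E) (K : Subgroup S) : GenLE 4 K := by
  have hEn : E.Normal := ⟨fun n hn g => hconj g n hn⟩
  have hEC : ∀ g : S, g ∈ E ↔ (∀ e ∈ E, g * e = e * g) :=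
    fun g => ⟨fun hg e he => hcomm g hg e he, hC g⟩
  by_cases hKE : K ≤ E
  · apply genLE_mono (show 3 ≤ 4 by norm_num)
    apply genLE_of_card_le
    have := card_le_of_le hKE
    omega
  · refine genLE_of_quotient (a := 2) (b := 2) E (genLE_two_map hS E E hconj hcomm hsq hE hEC _) ?_
    intro N hN hNsq
    have h1 := card_mul_relIndex (inf_le_inf_right E hN)
    have h2 : 0 < Nat.card ↥(N ⊓ E) := Nat.card_pos
    by_cases h4 : Nat.card ↥(K ⊓ E) ≤ 4
    · calc (N ⊓ E).relIndex (K ⊓ E) ≤ Nat.card ↥(N ⊓ E) * (N ⊓ E).relIndex (K ⊓ E) :=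
            Nat.le_mul_of_pos_left _ h2
        _ ≤ 2 ^ 2 := by rw [h1]; exact h4
    · have h8 : Nat.card ↥(K ⊓ E) ≤ 8 := by
        rw [← hE]
        exact card_le_of_le inf_le_right
      have h8' : Nat.card ↥(K ⊓ E) = 8 := by
        rcases card_le_four_or_eight hS h8 with h | h
        · exact absurd h h4
        · exact h
      have hEK : E ≤ K := by
        have : K ⊓ E = E := eq_of_le_of_card_ge inf_le_right (by omega)
        rw [← this]
        exact inf_le_left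
      obtain ⟨k, hk, hkE⟩ : ∃ k ∈ K, k ∉ E := by
        by_contra hcon
        push Not at hcon
        exact hKE hcon
      obtain ⟨e, he, hke⟩ : ∃ e ∈ E, k * e ≠ e * k := by
        by_contra hcon
        push Not at hcon
        exact hkE (hC k hcon)
      have h5 : k * e * k⁻¹ * e⁻¹ ∈ N ⊓ E :=
        ⟨comm_mem_of_sq hN hNsq hk (hEK he), E.mul_mem (hconj k e he) (E.inv_mem he)⟩
      have h6 : N ⊓ E ≠ ⊥ := by
        intro hbot
        rw [hbot, mem_bot, mul_inv_eq_one, mul_inv_eq_iff_eq_mul] at h5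
        exact hke h5
      have h7 := (one_lt_card_iff_ne_bot (N ⊓ E)).2 h6
      norm_num
      by_contra hcon
      push Not at hcon
      rw [h8'] at h1
      nlinarith

end Cfsg.Agent.TwoFusion.HaradaEightSelf
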