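import Mathlib
import Cfsg.Agent.TwoFusion.HaradaSetup
import Cfsg.Agent.Solvable.UniqueOrderP

/-!
# Counting commutators, and abelian subgroups of 2-groups (for S1232)
-/

set_option autoImplicit false

namespace Cfsg.Agent.TwoFusion.HaradaCount

open Subgroup
open Cfsg.Agent.TwoFusion.SecRank
open Cfsg.Agent.TwoFusion.HaradaSetup

/-- Counting commutators `[a, t]`, `t ∈ T`: there are `|T : C_T(a)|` of them. If they lie in `M` with
`|C_T(a)| * |M| ≤ |T|`, then equality holds and every element of `M` is such a commutator. -/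
theorem exists_comm_of_card {G : Type*} [Group G] [Finite G] (T M : Subgroup G) (a : G)
    (hM : ∀ t ∈ T, a * t * a⁻¹ * t⁻¹ ∈ M)
    (hcard : Nat.card (fix T a) * Nat.card M ≤ Nat.card T) :
    Nat.card (fix T a) * Nat.card M = Nat.card T ∧ ∀ m ∈ M, ∃ t ∈ T, a * t * a⁻¹ * t⁻¹ = m := by
  classical
  set F : Subgroup T := (fix T a).subgroupOf T with hF
  have hmem : ∀ t t' : T, t⁻¹ * t' ∈ F ↔
      a * (t : G) * a⁻¹ * (t : G)⁻¹ = a * (t' : G) * a⁻¹ * (t' : G)⁻¹ := by
    intro t t'
    rw [hF, mem_subgroupOf, mem_fix]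
    have h1 : ((t⁻¹ * t' : T) : G) = (t : G)⁻¹ * t' := rfl
    rw [h1]
    constructor
    · rintro ⟨-, h⟩
      have h2 : (t' : G) * a * (t' : G)⁻¹ = t * a * (t : G)⁻¹ := by
        have h3 : (t' : G) * a = t * ((t : G)⁻¹ * t' * a) := by group
        rw [h3, h]
        group
      have h4 := congrArg (fun x => a * x⁻¹) h2
      simp only [mul_inv_rev, inv_inv] at h4
      rw [← mul_assoc, ← mul_assoc, ← mul_assoc, ← mul_assoc] at h4
      exact h4.symm
    · intro h
      refine ⟨T.mul_mem (T.inv_mem t.2) t'.2, ?_⟩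
      have h2 : (t : G) * a⁻¹ * (t : G)⁻¹ = t' * a⁻¹ * (t' : G)⁻¹ := by
        have h3 := congrArg (fun x => a⁻¹ * x) h
        simpa [mul_assoc] using h3
      have h5 : (t : G) * a * (t : G)⁻¹ = t' * a * (t' : G)⁻¹ := by
        have := congrArg (fun x => x⁻¹) h2
        simpa [mul_assoc] using this
      have h6 : (t : G)⁻¹ * t' * a = (t : G)⁻¹ * (t' * a * (t' : G)⁻¹) * t' := by group
      rw [h6, ← h5]
      group
  let f : T ⧸ F → M := Quotient.lift (fun t : T => (⟨a * (t : G) * a⁻¹ * (t : G)⁻¹, hM t t.2⟩ : M))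
    (by
      intro t t' htt
      have h1 : t⁻¹ * t' ∈ F := QuotientGroup.leftRel_apply.1 htt
      exact Subtype.ext ((hmem t t').1 h1))
  have hf : Function.Injective f := by
    intro x y
    induction x using QuotientGroup.induction_on with
    | H t =>
      induction y using QuotientGroup.induction_on with
      | H t' =>
        intro h
        have h1 : a * (t : G) * a⁻¹ * (t : G)⁻¹ = a * (t' : G) * a⁻¹ * (t' : G)⁻¹ :=
          congrArg Subtype.val h
        exact QuotientGroup.eq.2 ((hmem t t').2 h1)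
  have hcF : Nat.card F = Nat.card (fix T a) := by
    have h1 : fix T a ≤ T := inf_le_left
    exact Nat.card_congr (subgroupOfEquivOfLe h1).toEquiv
  have hT : Nat.card T = Nat.card (T ⧸ F) * Nat.card (fix T a) := by
    rw [card_eq_card_quotient_mul_card_subgroup F, hcF]
  have hle : Nat.card (T ⧸ F) ≤ Nat.card M := Nat.card_le_card_of_injective f hf
  have hpos : 0 < Nat.card (fix T a) := Nat.card_pos
  have hge : Nat.card M ≤ Nat.card (T ⧸ F) := by
    rw [hT, mul_comm] at hcard
    exact Nat.le_of_mul_le_mul_right hcard hpos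
  have heq : Nat.card (T ⧸ F) = Nat.card M := le_antisymm hle hge
  refine ⟨by rw [hT, heq, mul_comm], ?_⟩
  intro m hm
  have hbij : Function.Bijective f := by
    rw [Nat.bijective_iff_injective_and_card]
    exact ⟨hf, heq⟩
  obtain ⟨q, hq⟩ := hbij.2 ⟨m, hm⟩
  induction q using QuotientGroup.induction_on with
  | H t => exact ⟨t, t.2, congrArg Subtype.val hq⟩

/-- A subgroup `X` all of whose elements are inverted by `a` modulo the central subgroup `E` and such
that the elements with square in `E` lie in `E ∪ Ey` is abelian. -/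
theorem comm_of_inverted {S : Type*} [Group S] [Finite S] (hS : IsPGroup 2 S) (X E : Subgroup S)
    (a y : S) (hEX : E ≤ X) (hEc : ∀ e ∈ E, ∀ x ∈ X, x * e = e * x)
    (hEn : ∀ g : S, ∀ e ∈ E, g * e * g⁻¹ ∈ E)
    (hinv : ∀ x ∈ X, a * x * a⁻¹ * x ∈ E)
    (hsq : ∀ x ∈ X, x * x ∈ E → x ∈ E ∨ x * y⁻¹ ∈ E) :
    ∀ x ∈ X, ∀ u ∈ X, x * u = u * x := by
  have hfact : Fact (Nat.Prime 2) := ⟨Nat.prime_two⟩
  have hEn' : (E.subgroupOf X).Normal := by
    refine ⟨fun n hn g => ?_⟩
    rw [mem_subgroupOf] at hn ⊢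
    exact hEn g n hn
  set π : X →* X ⧸ (E.subgroupOf X) := QuotientGroup.mk' (E.subgroupOf X) with hπ
  have hπs : Function.Surjective π := QuotientGroup.mk'_surjective _
  have hker : ∀ x : X, π x = 1 ↔ (x : S) ∈ E := by
    intro x
    rw [hπ]
    exact (QuotientGroup.eq_one_iff x).trans mem_subgroupOf
  -- the quotient is abelian
  have hab : ∀ x ∈ X, ∀ u ∈ X, u⁻¹ * x⁻¹ * u * x ∈ E := by
    intro x hx u hu
    have h1 := hinv x hx
    have h2 := hinv u hu
    have h3 := hinv (u * x) (X.mul_mem hu hx)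
    have h4 : a * (u * x) * a⁻¹ * (u * x) =
        (a * u * a⁻¹ * u) * (u⁻¹ * (a * x * a⁻¹ * x) * u⁻¹⁻¹) * (u⁻¹ * x⁻¹ * u * x) := by group
    rw [h4] at h3
    have h6 := E.mul_mem (E.inv_mem (E.mul_mem h2 (hEn u⁻¹ _ h1))) h3
    rwa [inv_mul_cancel_left] at h6
  have hcomm : ∀ p q : X ⧸ (E.subgroupOf X), p * q = q * p := by
    intro p q
    obtain ⟨x, rfl⟩ := hπs p
    obtain ⟨u, rfl⟩ := hπs q
    have h1 : π (u⁻¹ * x⁻¹ * u * x) = 1 := (hker _).2 (hab x x.2 u u.2)
    rw [map_mul, map_mul, map_mul, map_inv, map_inv] at h1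
    have h2 : π x * π u * ((π u)⁻¹ * (π x)⁻¹ * π u * π x) = π u * π x := by group
    rw [← h2, h1, mul_one]
  have hfin : Finite (X ⧸ (E.subgroupOf X)) := inferInstance
  have hXp : IsPGroup 2 (X ⧸ (E.subgroupOf X)) := (hS.to_subgroup X).to_quotient _
  have hU : Cfsg.Agent.Solvable.UniqueOrderP.UniqueP 2 (X ⧸ (E.subgroupOf X)) := by
    rw [Cfsg.Agent.Solvable.UniqueOrderP.uniqueP_def]
    have key : ∀ x : X, π x ≠ 1 → (π x) ^ 2 = 1 → (x : S) * y⁻¹ ∈ E := by
      intro x hx1 hx2
      rw [← map_pow, hker] at hx2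
      have hx3 : (x : S) * x ∈ E := by simpa [pow_two] using hx2
      rcases hsq x x.2 hx3 with h | h
      · exact absurd ((hker x).2 h) hx1
      · exact h
    intro p q hp1 hp2 hq2
    obtain ⟨x, rfl⟩ := hπs p
    obtain ⟨u, rfl⟩ := hπs q
    by_cases hq1 : π u = 1
    · rw [hq1]; exact one_mem _
    · have h1 := key x hp1 hp2
      have h2 := key u hq1 hq2
      have h3 : π (u * x⁻¹) = 1 := by
        rw [hker]
        have h4 := E.mul_mem h2 (E.inv_mem h1)
        have h5 : (u : S) * y⁻¹ * ((x : S) * y⁻¹)⁻¹ = ((u * x⁻¹ : X) : S) := by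
          push_cast
          group
        rwa [h5] at h4
      rw [map_mul, map_inv, mul_inv_eq_one] at h3
      rw [h3]
      exact mem_zpowers _
  have hcyc : IsCyclic (X ⧸ (E.subgroupOf X)) := by
    obtain ⟨g, hg⟩ := Cfsg.Agent.Solvable.UniqueOrderP.exists_eq_zpowers_of_comm 2 hXp hU ⊤
      ⟨⟨fun p q => Subtype.ext (hcomm p q)⟩⟩
    refine ⟨g, fun z => ?_⟩
    have hz : z ∈ (⊤ : Subgroup (X ⧸ (E.subgroupOf X))) := mem_top z
    rw [hg] at hz
    exact mem_zpowers_iff.1 hz
  have hkc : π.ker ≤ center X := by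
    intro e he
    rw [mem_center_iff]
    intro x
    have h1 := (hker e).1 (MonoidHom.mem_ker.1 he)
    exact Subtype.ext (hEc e h1 x x.2)
  have hfinal := π.isMulCommutative_of_isCyclic_of_ker_le_center hkc
  intro x hx u hu
  have h1 := hfinal.is_comm.comm (⟨x, hx⟩ : X) ⟨u, hu⟩
  exact congrArg Subtype.val h1

/-- Let `L` be an abelian subgroup whose elements of order 2 lie in `E`, and let `N ≤ L` contain the
squares of `L`. Then `|L : N| ≤ |L ∩ E|`; if moreover `|L : N| > 4` and `|E| = 8`, then `E ≤ L`, `|L : N| = 8`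
and every element of `N` is a square in `L`. -/
theorem relIndex_of_abelian {S : Type*} [Group S] [Finite S] (L N E : Subgroup S)
    (hNL : N ≤ L) (hsq : ∀ l ∈ L, l * l ∈ N) (hcomm : ∀ x ∈ L, ∀ u ∈ L, x * u = u * x)
    (hE : Nat.card E = 8) (hΩ : ∀ l ∈ L, l * l = 1 → l ∈ E)
    (hgt : 4 < N.relIndex L) :
    E ≤ L ∧ N.relIndex L = 8 ∧ ∀ n ∈ N, ∃ l ∈ L, l * l = n := by
  classical
  let f : L →* L :=
    { toFun := fun l => l * l
      map_one' := by simp
      map_mul' := by
        intro x u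
        apply Subtype.ext
        have h1 := hcomm x x.2 u u.2
        show (x : S) * u * (x * u) = x * x * (u * u)
        calc (x : S) * u * (x * u) = x * (u * x) * u := by group
          _ = x * (x * u) * u := by rw [h1]
          _ = x * x * (u * u) := by group }
  have hker : f.ker.map L.subtype ≤ L ⊓ E := by
    rintro _ ⟨l, hl, rfl⟩
    refine ⟨l.2, hΩ l l.2 ?_⟩
    exact congrArg Subtype.val (MonoidHom.mem_ker.1 hl)
  have hkc : Nat.card f.ker ≤ Nat.card ↥(L ⊓ E) := by
    have := card_le_of_le hker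
    rwa [← Nat.card_congr (equivMapOfInjective _ _ L.subtype_injective).toEquiv] at this
  have hrange : f.range.map L.subtype ≤ N := by
    rintro _ ⟨_, ⟨l, rfl⟩, rfl⟩
    exact hsq l l.2
  have hrc : Nat.card f.range ∣ Nat.card N := by
    have := card_dvd_of_le hrange
    rwa [← Nat.card_congr (equivMapOfInjective _ _ L.subtype_injective).toEquiv] at this
  have hLc : Nat.card f.ker * Nat.card f.range = Nat.card L := by
    rw [← index_ker]
    exact f.ker.card_mul_index
  have hNc := card_mul_relIndex hNL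
  obtain ⟨m, hm⟩ := hrc
  have hrpos : 0 < Nat.card f.range := Nat.card_pos
  have hkm : Nat.card f.ker = m * N.relIndex L := by
    apply Nat.eq_of_mul_eq_mul_left hrpos
    rw [mul_comm, hLc, ← hNc, hm]
    ring
  have hle : Nat.card ↥(L ⊓ E) ≤ 8 := by
    rw [← hE]
    exact card_le_of_le inf_le_right
  have hdvd : Nat.card ↥(L ⊓ E) ∣ 8 := by
    rw [← hE]
    exact card_dvd_of_le inf_le_right
  have hm0 : 0 < m := by
    rcases Nat.eq_zero_or_pos m with h | h
    · rw [h] at hm
      have : 0 < Nat.card N := Nat.card_pos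
      omega
    · exact h
  have h5 : 5 ≤ Nat.card ↥(L ⊓ E) := by
    have : N.relIndex L ≤ m * N.relIndex L := Nat.le_mul_of_pos_left _ hm0
    omega
  have h8 : Nat.card ↥(L ⊓ E) = 8 := by
    have : Nat.card ↥(L ⊓ E) ∈ Nat.divisors 8 := by
      rw [Nat.mem_divisors]
      exact ⟨hdvd, by norm_num⟩
    have h9 : Nat.divisors 8 = {1, 2, 4, 8} := by decide
    rw [h9] at this
    simp only [Finset.mem_insert, Finset.mem_singleton] at this
    omega
  have hEL : E ≤ L := by
    have h10 : L ⊓ E = E := eq_of_le_of_card_ge inf_le_right (by rw [h8, hE])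
    rw [← h10]
    exact inf_le_left
  -- the kernel is exactly `E`
  have hkle : Nat.card f.ker ∣ 8 := by
    have h11 := card_dvd_of_le (hker.trans inf_le_right)
    rwa [← Nat.card_congr (equivMapOfInjective _ _ L.subtype_injective).toEquiv, hE] at h11
  have hrel : N.relIndex L ∣ 8 := (Dvd.intro_left _ hkm.symm).trans hkle
  have hrel8 : N.relIndex L = 8 := by
    have : N.relIndex L ∈ Nat.divisors 8 := by
      rw [Nat.mem_divisors]
      exact ⟨hrel, by norm_num⟩
    have h9 : Nat.divisors 8 = {1, 2, 4, 8} := by decide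
    rw [h9] at this
    simp only [Finset.mem_insert, Finset.mem_singleton] at this
    omega
  have hm1 : m = 1 := by
    rw [hrel8] at hkm
    omega
  refine ⟨hEL, hrel8, ?_⟩
  have heq : f.range.map L.subtype = N := by
    apply eq_of_le_of_card_ge hrange
    rw [← Nat.card_congr (equivMapOfInjective _ _ L.subtype_injective).toEquiv, hm, hm1, mul_one]
  intro n hn
  rw [← heq] at hn
  obtain ⟨_, ⟨l, rfl⟩, rfl⟩ := hn
  exact ⟨l, l.2, rfl⟩

end Cfsg.Agent.TwoFusion.HaradaCount
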