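import Mathlib
import Cfsg.Agent.TwoFusion.HaradaCount

/-!
# Common facts for the case `|E| = 8`, `|A ∩ E| = 4` of S1232
-/

set_option autoImplicit false
set_option linter.unusedSectionVars false
set_option linter.unusedVariables false

namespace Cfsg.Agent.TwoFusion.HaradaFourBasic

open Subgroup
open Cfsg.Agent.TwoFusion.SecRank
open Cfsg.Agent.TwoFusion.HaradaSetup
open Cfsg.Agent.TwoFusion.HaradaCount

theorem mul_mem_of_relIndex_two {S : Type*} [Group S] {N K : Subgroup S}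
    (h : N.relIndex K = 2) {x y : S} (hx : x ∈ K) (hy : y ∈ K) (hxN : x ∉ N) (hyN : y ∉ N) :
    x * y ∈ N := by
  have h1 : (N.subgroupOf K).index = 2 := h
  have h2 := (mul_mem_iff_of_index_two h1 (a := ⟨x, hx⟩) (b := ⟨y, hy⟩)).2
    (by rw [mem_subgroupOf, mem_subgroupOf]; exact ⟨fun h => absurd h hxN, fun h => absurd h hyN⟩)
  rw [mem_subgroupOf] at h2
  exact h2

structure Four {S : Type*} [Group S] (A E : Subgroup S) (a : S) : Prop where
  setup : Setup A E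
  hE : Nat.card E = 8
  hAE : Nat.card ↥(A ⊓ E) = 4
  haA : a ∈ A
  haE : a ∉ E

namespace Four

variable {S : Type*} [Group S] [Finite S] {A E : Subgroup S} {a : S}

omit [Finite S] in
theorem a_sq (h : Four A E a) : a * a = 1 := h.setup.A_sq a h.haA

omit [Finite S] in
theorem a_inv (h : Four A E a) : a⁻¹ = a := inv_eq_of_mul_eq_one_left h.a_sq

theorem A_cases (h : Four A E a) {x : S} (hx : x ∈ A) : x ∈ E ∨ a * x ∈ E := by
  by_cases hxE : x ∈ E
  · exact Or.inl hxE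
  · right
    have h1 := card_mul_relIndex (inf_le_left : A ⊓ E ≤ A)
    rw [h.hAE, h.setup.A_card] at h1
    have h2 : (A ⊓ E).relIndex A = 2 := by omega
    exact (mul_mem_of_relIndex_two h2 h.haA hx (fun hc => h.haE hc.2) (fun hc => hxE hc.2)).2

theorem E_cases (h : Four A E a) {x y : S} (hx : x ∈ E) (hy : y ∈ E) (hxA : x ∉ A) (hyA : y ∉ A) :
    x * y ∈ A := by
  have h1 := card_mul_relIndex (inf_le_right : A ⊓ E ≤ E)
  rw [h.hAE, h.hE] at h1
  have h2 : (A ⊓ E).relIndex E = 2 := by omega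
  exact (mul_mem_of_relIndex_two h2 hx hy (fun hc => hxA hc.1) (fun hc => hyA hc.1)).1

/-- an element centralizing `A ∩ E` and `a` lies in `A` -/
theorem mem_A (h : Four A E a) {g : S} (hB : ∀ b ∈ A, b ∈ E → g * b = b * g)
    (ha : g * a = a * g) : g ∈ A := by
  apply h.setup.A_cent
  intro x hx
  rcases h.A_cases hx with hxE | hxE
  · exact hB x hx hxE
  · have h1 := hB (a * x) (A.mul_mem h.haA hx) hxE
    have h2 : x = a * (a * x) := by rw [← mul_assoc, h.a_sq, one_mul]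
    calc g * x = g * (a * (a * x)) := by rw [← h2]
      _ = (g * a) * (a * x) := by group
      _ = (a * g) * (a * x) := by rw [ha]
      _ = a * (g * (a * x)) := by group
      _ = a * ((a * x) * g) := by rw [h1]
      _ = (a * (a * x)) * g := by group
      _ = x * g := by rw [← h2]

theorem exists_e2 (h : Four A E a) : ∃ e ∈ E, e ∉ A := by
  by_contra hcon
  push Not at hcon
  have h1 : A ⊓ E = E := inf_eq_right.2 hcon
  have h2 := h.hAE
  rw [h1, h.hE] at h2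
  omega

/-- `a` does not centralize `E` -/
theorem not_cent (h : Four A E a) : ¬ ∀ e ∈ E, a * e = e * a := by
  intro hcon
  obtain ⟨e, he, heA⟩ := h.exists_e2
  exact heA (h.mem_A (fun b _ hbE => h.setup.E_comm e he b hbE) (hcon e he).symm)

/-- `C_S(E) ∩ C_S(a) ≤ A ∩ E` -/
theorem fixC (h : Four A E a) {x : S} (hxC : ∀ e ∈ E, x * e = e * x) (hxa : x * a = a * x) :
    x ∈ A ∧ x ∈ E := by
  have hxA : x ∈ A := h.mem_A (fun b _ hbE => hxC b hbE) hxa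
  refine ⟨hxA, ?_⟩
  rcases h.A_cases hxA with hxE | hxE
  · exact hxE
  · exfalso
    apply h.not_cent
    intro e he
    have h1 := h.setup.E_comm (a * x) hxE e he
    have h2 := hxC e he
    have h3 : (a * e) * x = (e * a) * x := by
      calc (a * e) * x = a * (e * x) := by group
        _ = a * (x * e) := by rw [h2]
        _ = (a * x) * e := by group
        _ = e * (a * x) := h1
        _ = (e * a) * x := by group
    exact mul_right_cancel h3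

/-- if `[a, t] ∈ E` then `[a, t] ∈ A` -/
theorem comm_mem_A (h : Four A E a) {t : S} (ht : a * t * a⁻¹ * t⁻¹ ∈ E) :
    a * t * a⁻¹ * t⁻¹ ∈ A := by
  set w := a * t * a⁻¹ * t⁻¹ with hw
  have hwinv : w⁻¹ = w := inv_eq_of_mul_eq_one_left (h.setup.E_sq w ht)
  refine (h.fixC (fun e he => h.setup.E_comm w ht e he) ?_).1
  have h1 : a * w * a = w⁻¹ := by
    rw [hw]
    have h2 : (a * t * a⁻¹ * t⁻¹)⁻¹ = t * a * t⁻¹ * a⁻¹ := by group
    rw [h2, h.a_inv]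
    calc a * (a * t * a * t⁻¹) * a = (a * a) * t * a * t⁻¹ * a := by group
      _ = t * a * t⁻¹ * a := by rw [h.a_sq, one_mul]
  rw [hwinv] at h1
  calc w * a = (a * w * a) * a := by rw [h1]
    _ = a * w * (a * a) := by group
    _ = a * w := by rw [h.a_sq, mul_one]

/-- the commutator `[a, e]`, `e ∈ E \ A`, does not depend on `e` -/
theorem exists_e0 (h : Four A E a) : ∃ e₀ : S, e₀ ∈ A ∧ e₀ ∈ E ∧ e₀ ≠ 1 ∧
    (∀ e ∈ E, e ∉ A → a * e * a⁻¹ * e⁻¹ = e₀) := by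
  obtain ⟨e₂, he₂, he₂A⟩ := h.exists_e2
  have hmem : a * e₂ * a⁻¹ * e₂⁻¹ ∈ E := E.mul_mem (h.setup.E_conj a e₂ he₂) (E.inv_mem he₂)
  refine ⟨a * e₂ * a⁻¹ * e₂⁻¹, h.comm_mem_A hmem, hmem, ?_, ?_⟩
  · intro h1
    rw [mul_inv_eq_one, mul_inv_eq_iff_eq_mul] at h1
    exact he₂A (h.mem_A (fun b _ hbE => h.setup.E_comm e₂ he₂ b hbE) h1.symm)
  · intro e he heA
    -- `e = (e * e₂) * e₂⁻¹`, `b := e * e₂ ∈ A`
    have hb : e * e₂ ∈ A := h.E_cases he he₂ heA he₂A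
    have hb2 : e₂⁻¹ = e₂ := inv_eq_of_mul_eq_one_left (h.setup.E_sq e₂ he₂)
    have he' : e = (e * e₂) * e₂ := by
      rw [mul_assoc, h.setup.E_sq e₂ he₂, mul_one]
    set b := e * e₂ with hbdef
    have hbE : b ∈ E := E.mul_mem he he₂
    have hab : a * b = b * a := h.setup.A_comm a h.haA b hb
    rw [he']
    have hcomm : ∀ x ∈ E, b * x = x * b := fun x hx => h.setup.E_comm b hbE x hx
    calc a * (b * e₂) * a⁻¹ * (b * e₂)⁻¹ = (a * b) * e₂ * a⁻¹ * e₂⁻¹ * b⁻¹ := by group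
      _ = (b * a) * e₂ * a⁻¹ * e₂⁻¹ * b⁻¹ := by rw [hab]
      _ = b * (a * e₂ * a⁻¹ * e₂⁻¹) * b⁻¹ := by group
      _ = (a * e₂ * a⁻¹ * e₂⁻¹) * b * b⁻¹ := by rw [hcomm _ hmem]
      _ = a * e₂ * a⁻¹ * e₂⁻¹ := by group

end Four

/-- more data: `C = C_S(E)`, `T = C_S(A ∩ E)`, `[a, E] = ⟨e₀⟩`, `y ∈ C \ E` central modulo `E` -/
structure FourY {S : Type*} [Group S] (A E C T : Subgroup S) (a y e₀ e₂ : S) : Prop where
  four : Four A E a
  hC : ∀ g : S, g ∈ C ↔ ∀ e ∈ E, g * e = e * g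
  hT : ∀ g : S, g ∈ T ↔ ∀ b ∈ A, b ∈ E → g * b = b * g
  e₀A : e₀ ∈ A
  e₀E : e₀ ∈ E
  e₀1 : e₀ ≠ 1
  he₀ : ∀ e ∈ E, e ∉ A → a * e * a⁻¹ * e⁻¹ = e₀
  e₂E : e₂ ∈ E
  e₂A : e₂ ∉ A
  yC : y ∈ C
  yE : y ∉ E
  hy : ∀ g : S, g * y * g⁻¹ * y⁻¹ ∈ E
  hyy : y * y ∈ E

/-- existence of the data -/
theorem exists_fourY {S : Type*} [Group S] [Finite S] {A E : Subgroup S} {a : S} (h : Four A E a)
    (hCE : ∃ g : S, (∀ e ∈ E, g * e = e * g) ∧ g ∉ E) :
    ∃ (C T : Subgroup S) (y e₀ e₂ : S), FourY A E C T a y e₀ e₂ := by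
  obtain ⟨e₂, he₂, he₂A⟩ := h.exists_e2
  obtain ⟨e₀, he₀A, he₀E, he₀1, he₀⟩ := h.exists_e0
  have hC : ∀ g : S, g ∈ centralizer (E : Set S) ↔ ∀ e ∈ E, g * e = e * g := by
    intro g
    rw [mem_centralizer_iff]
    exact ⟨fun h e he => (h e he).symm, fun h e he => (h e he).symm⟩
  have hT : ∀ g : S, g ∈ centralizer ((A ⊓ E : Subgroup S) : Set S) ↔
      ∀ b ∈ A, b ∈ E → g * b = b * g := by
    intro g
    rw [mem_centralizer_iff]
    exact ⟨fun h b hbA hbE => (h b ⟨hbA, hbE⟩).symm, fun h b hb => (h b hb.1 hb.2).symm⟩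
  have hEC : E ≤ centralizer (E : Set S) := by
    intro e he
    rw [hC]
    exact fun x hx => h.setup.E_comm e he x hx
  obtain ⟨y, hyC, hyE, hy, hyy⟩ := exists_central_mod h.setup.pgroup ⊤ (centralizer (E : Set S)) E
    hEC (by
      obtain ⟨g, hg, hgE⟩ := hCE
      intro hle
      exact hgE (hle ((hC g).2 hg))) le_top (by
      intro g _ c hc
      rw [hC] at hc ⊢
      intro e he
      have h1 := hc (g⁻¹ * e * g⁻¹⁻¹) (h.setup.E_conj g⁻¹ e he)
      rw [inv_inv] at h1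
      calc g * c * g⁻¹ * e = g * (c * (g⁻¹ * e * g)) * g⁻¹ := by group
        _ = g * ((g⁻¹ * e * g) * c) * g⁻¹ := by rw [h1]
        _ = e * (g * c * g⁻¹) := by group) (fun g _ e he => h.setup.E_conj g e he)
  exact ⟨_, _, y, e₀, e₂, ⟨h, hC, hT, he₀A, he₀E, he₀1, he₀, he₂, he₂A, hyC, hyE,
    fun g => hy g (mem_top g), hyy⟩⟩

namespace FourY

variable {S : Type*} [Group S] [Finite S] {A E C T : Subgroup S} {a y e₀ e₂ : S}

theorem E_le_C (h : FourY A E C T a y e₀ e₂) : E ≤ C := by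
  intro e he
  rw [h.hC]
  exact fun x hx => h.four.setup.E_comm e he x hx

theorem C_le_T (h : FourY A E C T a y e₀ e₂) : C ≤ T := by
  intro e he
  rw [h.hC] at he
  rw [h.hT]
  exact fun b _ hb => he b hb

theorem a_mem_T (h : FourY A E C T a y e₀ e₂) : a ∈ T := by
  rw [h.hT]
  exact fun b hb _ => h.four.setup.A_comm a h.four.haA b hb

theorem a_not_mem_C (h : FourY A E C T a y e₀ e₂) : a ∉ C := by
  rw [h.hC]
  exact h.four.not_cent

theorem C_conj (h : FourY A E C T a y e₀ e₂) (g : S) {c : S} (hc : c ∈ C) : g * c * g⁻¹ ∈ C := by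
  rw [h.hC] at hc ⊢
  intro e he
  have h1 := hc (g⁻¹ * e * g⁻¹⁻¹) (h.four.setup.E_conj g⁻¹ e he)
  rw [inv_inv] at h1
  calc g * c * g⁻¹ * e = g * (c * (g⁻¹ * e * g)) * g⁻¹ := by group
    _ = g * ((g⁻¹ * e * g) * c) * g⁻¹ := by rw [h1]
    _ = e * (g * c * g⁻¹) := by group

theorem C_normal (h : FourY A E C T a y e₀ e₂) : C.Normal := ⟨fun _ hc g => h.C_conj g hc⟩

theorem E_normal (h : FourY A E C T a y e₀ e₂) : E.Normal :=
  ⟨fun e he g => h.four.setup.E_conj g e he⟩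

/-- `B / ⟨e₀⟩` has order 2 -/
theorem cases_B (h : FourY A E C T a y e₀ e₂) {b b' : S} (hb : b ∈ A) (hbE : b ∈ E)
    (hb' : b' ∈ A) (hbE' : b' ∈ E) (h1 : b ≠ 1) (h2 : b ≠ e₀) (h1' : b' ≠ 1) (h2' : b' ≠ e₀) :
    b * b' = 1 ∨ b * b' = e₀ := by
  have hsq := h.four.setup.E_sq e₀ h.e₀E
  have hord : orderOf e₀ = 2 := orderOf_eq_prime (by rw [pow_two]; exact hsq) h.e₀1
  have hcard : Nat.card (zpowers e₀) = 2 := by rw [Nat.card_zpowers, hord]
  have hle : zpowers e₀ ≤ A ⊓ E := by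
    rw [zpowers_le]
    exact ⟨h.e₀A, h.e₀E⟩
  have hrel := card_mul_relIndex hle
  rw [hcard, h.four.hAE] at hrel
  have hrel2 : (zpowers e₀).relIndex (A ⊓ E) = 2 := by omega
  have hmem : ∀ x : S, x ∈ zpowers e₀ ↔ x = 1 ∨ x = e₀ := by
    intro x
    constructor
    · intro hx
      obtain ⟨k, rfl⟩ := mem_zpowers_iff.1 hx
      rcases Int.even_or_odd' k with ⟨m, rfl | rfl⟩
      · left
        rw [zpow_mul, zpow_two, hsq, one_zpow]
      · right
        rw [zpow_add, zpow_mul, zpow_two, hsq, one_zpow, zpow_one, one_mul]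
    · rintro (rfl | rfl)
      · exact one_mem _
      · exact mem_zpowers _
  rw [← hmem]
  refine mul_mem_of_relIndex_two hrel2 ⟨hb, hbE⟩ ⟨hb', hbE'⟩ ?_ ?_
  · rw [hmem]
    rintro (h | h)
    · exact h1 h
    · exact h2 h
  · rw [hmem]
    rintro (h | h)
    · exact h1' h
    · exact h2' h

/-- the commutator with `a` is multiplicative on `T × C`-ish pairs: `[a, t w] = [a, t] * t [a, w] t⁻¹` -/
theorem comm_mul (a t w : S) :
    a * (t * w) * a⁻¹ * (t * w)⁻¹ = (a * t * a⁻¹ * t⁻¹) * (t * (a * w * a⁻¹ * w⁻¹) * t⁻¹) := by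
  group

/-- if `x ∈ C` and `[a, x] ∈ {1, e₀}` then `x ∈ E` -/
theorem mem_E_of_comm (h : FourY A E C T a y e₀ e₂) {x : S} (hx : x ∈ C)
    (hax : a * x * a⁻¹ * x⁻¹ = 1 ∨ a * x * a⁻¹ * x⁻¹ = e₀) : x ∈ E := by
  have hxC := (h.hC x).1 hx
  rcases hax with hax | hax
  · rw [mul_inv_eq_one, mul_inv_eq_iff_eq_mul] at hax
    exact (h.four.fixC hxC hax.symm).2
  · -- replace `x` by `x * e₂`
    have h1 := h.he₀ e₂ h.e₂E h.e₂A
    have h2 : a * (x * e₂) * a⁻¹ * (x * e₂)⁻¹ = 1 := by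
      rw [comm_mul, hax, h1, hxC e₀ h.e₀E]
      calc e₀ * (e₀ * x * x⁻¹) = e₀ * e₀ := by group
        _ = 1 := h.four.setup.E_sq e₀ h.e₀E
    rw [mul_inv_eq_one, mul_inv_eq_iff_eq_mul] at h2
    have hxe : ∀ e ∈ E, x * e₂ * e = e * (x * e₂) := by
      have : x * e₂ ∈ C := C.mul_mem hx (h.E_le_C h.e₂E)
      exact (h.hC _).1 this
    have h3 := (h.four.fixC hxe h2.symm).2
    have h4 := E.mul_mem h3 (E.inv_mem h.e₂E)
    rwa [mul_inv_cancel_right] at h4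

theorem y_comm_mem (h : FourY A E C T a y e₀ e₂) :
    a * y * a⁻¹ * y⁻¹ ∈ A ∧ a * y * a⁻¹ * y⁻¹ ∈ E ∧ a * y * a⁻¹ * y⁻¹ ≠ 1 ∧
      a * y * a⁻¹ * y⁻¹ ≠ e₀ :=
  ⟨h.four.comm_mem_A (h.hy a), h.hy a, fun hc => h.yE (h.mem_E_of_comm h.yC (Or.inl hc)),
    fun hc => h.yE (h.mem_E_of_comm h.yC (Or.inr hc))⟩

/-- the fixed points of `a` on `C / E` are `1` and `yE` -/
theorem cases_C (h : FourY A E C T a y e₀ e₂) {x : S} (hx : x ∈ C)
    (hax : a * x * a⁻¹ * x⁻¹ ∈ E) : x ∈ E ∨ x * y⁻¹ ∈ E := by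
  by_cases h1 : a * x * a⁻¹ * x⁻¹ = 1
  · exact Or.inl (h.mem_E_of_comm hx (Or.inl h1))
  by_cases h2 : a * x * a⁻¹ * x⁻¹ = e₀
  · exact Or.inl (h.mem_E_of_comm hx (Or.inr h2))
  right
  obtain ⟨hyA, hyE, hy1, hy0⟩ := h.y_comm_mem
  have h3 := h.cases_B (h.four.comm_mem_A hax) hax hyA hyE h1 h2 hy1 hy0
  have h4 : x * y ∈ E := by
    apply h.mem_E_of_comm (C.mul_mem hx h.yC)
    rw [comm_mul, (h.hC x).1 hx _ hyE, mul_inv_cancel_right]
    exact h3
  have h5 := E.mul_mem h4 (E.inv_mem h.hyy)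
  have h6 : x * y * (y * y)⁻¹ = x * y⁻¹ := by group
  rwa [h6] at h5

/-- an element of `T = C_S(A ∩ E)` commuting with `a` modulo `E` lies in `{1, a, y, ay}E` -/
theorem cases_T (h : FourY A E C T a y e₀ e₂) {t : S} (ht : t ∈ T)
    (hat : a * t * a⁻¹ * t⁻¹ ∈ E) : t ∈ E ∨ a * t ∈ E ∨ t * y⁻¹ ∈ E ∨ a * t * y⁻¹ ∈ E := by
  -- first case: the commutator is in `{1, e₀}`
  have key : ∀ t ∈ T, (a * t * a⁻¹ * t⁻¹ = 1 ∨ a * t * a⁻¹ * t⁻¹ = e₀) → t ∈ E ∨ a * t ∈ E := by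
    intro t ht hat
    rcases hat with hat | hat
    · rw [mul_inv_eq_one, mul_inv_eq_iff_eq_mul] at hat
      exact h.four.A_cases (h.four.mem_A ((h.hT t).1 ht) hat.symm)
    · have h1 := h.he₀ e₂ h.e₂E h.e₂A
      have h2 : a * (t * e₂) * a⁻¹ * (t * e₂)⁻¹ = 1 := by
        rw [comm_mul, hat, h1, (h.hT t).1 ht e₀ h.e₀A h.e₀E]
        calc e₀ * (e₀ * t * t⁻¹) = e₀ * e₀ := by group
          _ = 1 := h.four.setup.E_sq e₀ h.e₀E
      rw [mul_inv_eq_one, mul_inv_eq_iff_eq_mul] at h2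
      have hte : t * e₂ ∈ T := T.mul_mem ht (h.C_le_T (h.E_le_C h.e₂E))
      rcases h.four.A_cases (h.four.mem_A ((h.hT _).1 hte) h2.symm) with h3 | h3
      · left
        have h4 := E.mul_mem h3 (E.inv_mem h.e₂E)
        rwa [mul_inv_cancel_right] at h4
      · right
        have h4 := E.mul_mem h3 (E.inv_mem h.e₂E)
        have h5 : a * (t * e₂) * e₂⁻¹ = a * t := by group
        rwa [h5] at h4
  by_cases h1 : a * t * a⁻¹ * t⁻¹ = 1
  · rcases key t ht (Or.inl h1) with h | h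
    · exact Or.inl h
    · exact Or.inr (Or.inl h)
  by_cases h2 : a * t * a⁻¹ * t⁻¹ = e₀
  · rcases key t ht (Or.inr h2) with h | h
    · exact Or.inl h
    · exact Or.inr (Or.inl h)
  right; right
  obtain ⟨hyA, hyE, hy1, hy0⟩ := h.y_comm_mem
  have h3 := h.cases_B (h.four.comm_mem_A hat) hat hyA hyE h1 h2 hy1 hy0
  have h4 := key (t * y) (T.mul_mem ht (h.C_le_T h.yC)) (by
    rw [comm_mul, (h.hT t).1 ht _ hyA hyE, mul_inv_cancel_right]
    exact h3)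
  rcases h4 with h4 | h4
  · left
    have h5 := E.mul_mem h4 (E.inv_mem h.hyy)
    have h6 : t * y * (y * y)⁻¹ = t * y⁻¹ := by group
    rwa [h6] at h5
  · right
    have h5 := E.mul_mem h4 (E.inv_mem h.hyy)
    have h6 : a * (t * y) * (y * y)⁻¹ = a * t * y⁻¹ := by group
    rwa [h6] at h5

/-- all elements of `yE` have the same square -/
theorem sq_eq (h : FourY A E C T a y e₀ e₂) {x : S} (hx : x * y⁻¹ ∈ E) : x * x = y * y := by
  have h1 := (h.hC y).1 h.yC _ hx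
  have h2 := h.four.setup.E_sq _ hx
  calc x * x = (x * y⁻¹) * (y * (x * y⁻¹)) * y := by group
    _ = (x * y⁻¹) * ((x * y⁻¹) * y) * y := by rw [h1]
    _ = ((x * y⁻¹) * (x * y⁻¹)) * (y * y) := by group
    _ = y * y := by rw [h2, one_mul]

/-- `y²` is central in `S` -/
theorem e1_central (h : FourY A E C T a y e₀ e₂) (g : S) : g * (y * y) = (y * y) * g := by
  have h1 := h.sq_eq (x := g * y * g⁻¹) (h.hy g)
  calc g * (y * y) = (g * y * g⁻¹) * (g * y * g⁻¹) * g := by group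
    _ = (y * y) * g := by rw [h1]

theorem e1_mem_A (h : FourY A E C T a y e₀ e₂) : y * y ∈ A :=
  h.four.setup.A_cent _ (fun a _ => (h.e1_central a).symm)

/-- `E = (A ∩ E) ∪ (A ∩ E) e₂`: an element of `T` is determined mod `C` by its action on `e₂` -/
theorem mem_C_of_comm (h : FourY A E C T a y e₀ e₂) {t : S} (ht : t ∈ T)
    (hte : t * e₂ = e₂ * t) : t ∈ C := by
  rw [h.hC]
  intro e he
  by_cases heA : e ∈ A
  · exact (h.hT t).1 ht e heA he
  · have h1 := h.four.E_cases he h.e₂E heA h.e₂A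
    have h2 := (h.hT t).1 ht _ h1 (E.mul_mem he h.e₂E)
    have h3 : (t * e) * e₂ = (e * t) * e₂ := by
      calc (t * e) * e₂ = t * (e * e₂) := by group
        _ = e * e₂ * t := h2
        _ = e * (e₂ * t) := by group
        _ = e * (t * e₂) := by rw [hte]
        _ = (e * t) * e₂ := by group
    exact mul_right_cancel h3

/-- `[t, e₂] ∈ A ∩ E` for `t ∈ T` -/
theorem comm_e2_mem (h : FourY A E C T a y e₀ e₂) {t : S} (ht : t ∈ T) :
    t * e₂ * t⁻¹ * e₂⁻¹ ∈ A ∧ t * e₂ * t⁻¹ * e₂⁻¹ ∈ E := by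
  have hmem : t * e₂ * t⁻¹ ∈ E := h.four.setup.E_conj t e₂ h.e₂E
  refine ⟨?_, E.mul_mem hmem (E.inv_mem h.e₂E)⟩
  apply h.four.E_cases hmem (E.inv_mem h.e₂E)
  · intro hA
    have h1 := (h.hT t).1 ht _ hA hmem
    have h2 : e₂ = t * e₂ * t⁻¹ := by
      have h3 : t * (t * e₂ * t⁻¹) * t⁻¹ = t * e₂ * t⁻¹ := by rw [h1]; group
      have h4 := mul_left_cancel (mul_right_cancel h3)
      exact h4.symm
    rw [← h2] at hA
    exact h.e₂A hA
  · intro hA
    exact h.e₂A ((A.inv_mem_iff).1 hA)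

end FourY

end Cfsg.Agent.TwoFusion.HaradaFourBasic
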