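import Mathlib
import Cfsg.Agent.TwoFusion.HaradaFourBasic

/-!
# Counting commutators modulo `E` (case `|E| = 8`, `|A ∩ E| = 4` of S1232)
-/

set_option autoImplicit false
set_option linter.unusedSectionVars false
set_option linter.unusedVariables false

namespace Cfsg.Agent.TwoFusion.HaradaFourCount

open Subgroup
open Cfsg.Agent.TwoFusion.SecRank
open Cfsg.Agent.TwoFusion.HaradaSetup
open Cfsg.Agent.TwoFusion.HaradaCount
open Cfsg.Agent.TwoFusion.HaradaFourBasic

/-- counting commutators modulo a normal subgroup `E` -/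
theorem count_mod {S : Type*} [Group S] [Finite S] (E : Subgroup S) [E.Normal] (X M : Subgroup S)
    (a : S) (n : ℕ) (hEX : E ≤ X) (hEM : E ≤ M)
    (hM : ∀ x ∈ X, a * x * a⁻¹ * x⁻¹ ∈ M)
    (hn : Nat.card (fix (X.map (QuotientGroup.mk' E)) (QuotientGroup.mk' E a)) ≤ n)
    (hcard : n * Nat.card M ≤ Nat.card X) :
    n * Nat.card M = Nat.card X ∧ ∀ m ∈ M, ∃ x ∈ X, (a * x * a⁻¹ * x⁻¹)⁻¹ * m ∈ E := by
  set π := QuotientGroup.mk' E with hπ
  have hE : 0 < Nat.card E := Nat.card_pos
  have hX1 := card_eq_mul_card_map E X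
  have hM1 := card_eq_mul_card_map E M
  rw [inf_eq_right.2 hEX] at hX1
  rw [inf_eq_right.2 hEM] at hM1
  rw [← hπ] at hX1 hM1
  have hcard' : n * Nat.card (M.map π) ≤ Nat.card (X.map π) := by
    rw [hX1, hM1] at hcard
    have : Nat.card E * (n * Nat.card (M.map π)) ≤ Nat.card E * Nat.card (X.map π) := by
      calc Nat.card E * (n * Nat.card (M.map π)) = n * (Nat.card E * Nat.card (M.map π)) := by ring
        _ ≤ Nat.card E * Nat.card (X.map π) := hcard
    exact Nat.le_of_mul_le_mul_left this hE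
  have hM' : ∀ t ∈ X.map π, π a * t * (π a)⁻¹ * t⁻¹ ∈ M.map π := by
    rintro _ ⟨x, hx, rfl⟩
    exact ⟨_, hM x hx, by simp only [map_mul, map_inv]⟩
  have h1 := exists_comm_of_card (X.map π) (M.map π) (π a) hM'
    ((Nat.mul_le_mul_right _ hn).trans hcard')
  constructor
  · have h2 : n * Nat.card (M.map π) = Nat.card (X.map π) := by
      apply le_antisymm hcard'
      rw [← h1.1]
      exact Nat.mul_le_mul_right _ hn
    rw [hX1, hM1, ← h2]
    ring
  · intro m hm
    obtain ⟨t, ⟨x, hx, rfl⟩, hxt⟩ := h1.2 (π m) (mem_map_of_mem π hm)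
    refine ⟨x, hx, ?_⟩
    have h3 : π (a * x * a⁻¹ * x⁻¹) = π m := by
      rw [← hxt]
      simp only [map_mul, map_inv]
    exact QuotientGroup.eq.1 h3

variable {S : Type*} [Group S] [Finite S] {A E C T : Subgroup S} {a y e₀ e₂ : S}

theorem card_fix_T (h : FourY A E C T a y e₀ e₂) [E.Normal] :
    Nat.card (fix (T.map (QuotientGroup.mk' E)) (QuotientGroup.mk' E a)) ≤ 4 := by
  classical
  set π := QuotientGroup.mk' E with hπ
  have hsub : ((fix (T.map π) (π a) : Subgroup (S ⧸ E)) : Set (S ⧸ E)) ⊆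
      {1, π a, π y, π a * π y} := by
    intro q hq
    rw [SetLike.mem_coe, mem_fix] at hq
    obtain ⟨⟨t, ht, rfl⟩, hcomm⟩ := hq
    have h1 : a * t * a⁻¹ * t⁻¹ ∈ E := by
      have h2 : π (a * t * a⁻¹ * t⁻¹) = 1 := by
        simp only [map_mul, map_inv]
        rw [← hcomm]
        group
      exact (QuotientGroup.eq_one_iff _).1 h2
    have hE1 : ∀ x : S, x ∈ E → π x = 1 := fun x hx => (QuotientGroup.eq_one_iff _).2 hx
    have ha2 : π a * π a = 1 := by rw [← map_mul, h.four.a_sq, map_one]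
    simp only [Set.mem_insert_iff, Set.mem_singleton_iff]
    rcases h.cases_T ht h1 with h3 | h3 | h3 | h3
    · left; exact hE1 _ h3
    · right; left
      have h4 := hE1 _ h3
      rw [map_mul] at h4
      have h5 : π t = (π a)⁻¹ := eq_inv_of_mul_eq_one_right h4
      rw [h5]
      exact inv_eq_of_mul_eq_one_left ha2
    · right; right; left
      have h4 := hE1 _ h3
      rw [map_mul, map_inv, mul_inv_eq_one] at h4
      exact h4
    · right; right; right
      have h4 := hE1 _ h3
      rw [map_mul, map_mul, map_inv, mul_inv_eq_one] at h4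
      rw [← h4, ← mul_assoc, ha2, one_mul]
  have h2 : ((fix (T.map π) (π a) : Subgroup (S ⧸ E)) : Set (S ⧸ E)).ncard ≤ 4 := by
    refine (Set.ncard_le_ncard hsub (Set.toFinite _)).trans ?_
    refine (Set.ncard_insert_le _ _).trans ?_
    have h3 := Set.ncard_insert_le (π a) {π y, π a * π y}
    have h4 := Set.ncard_insert_le (π y) {π a * π y}
    rw [Set.ncard_singleton] at h4
    omega
  exact h2

theorem card_fix_C (h : FourY A E C T a y e₀ e₂) [E.Normal] :
    Nat.card (fix (C.map (QuotientGroup.mk' E)) (QuotientGroup.mk' E a)) ≤ 2 := by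
  classical
  set π := QuotientGroup.mk' E with hπ
  have hsub : ((fix (C.map π) (π a) : Subgroup (S ⧸ E)) : Set (S ⧸ E)) ⊆ {1, π y} := by
    intro q hq
    rw [SetLike.mem_coe, mem_fix] at hq
    obtain ⟨⟨t, ht, rfl⟩, hcomm⟩ := hq
    have h1 : a * t * a⁻¹ * t⁻¹ ∈ E := by
      have h2 : π (a * t * a⁻¹ * t⁻¹) = 1 := by
        simp only [map_mul, map_inv]
        rw [← hcomm]
        group
      exact (QuotientGroup.eq_one_iff _).1 h2
    have hE1 : ∀ x : S, x ∈ E → π x = 1 := fun x hx => (QuotientGroup.eq_one_iff _).2 hx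
    simp only [Set.mem_insert_iff, Set.mem_singleton_iff]
    rcases h.cases_C ht h1 with h3 | h3
    · left; exact hE1 _ h3
    · right
      have h4 := hE1 _ h3
      rw [map_mul, map_inv, mul_inv_eq_one] at h4
      exact h4
  have h2 : ((fix (C.map π) (π a) : Subgroup (S ⧸ E)) : Set (S ⧸ E)).ncard ≤ 2 := by
    refine (Set.ncard_le_ncard hsub (Set.toFinite _)).trans ?_
    have h4 := Set.ncard_insert_le (1 : S ⧸ E) {π y}
    rw [Set.ncard_singleton] at h4
    omega
  exact h2

end Cfsg.Agent.TwoFusion.HaradaFourCount
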