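import Mathlib
import Cfsg.Agent.TwoFusion.HaradaFourCount
import Cfsg.Agent.Lib.FrattiniPGroup

/-!
# Case `|E| = 8`, `|A ∩ E| = 4`, `C_S(E)` nonabelian of S1232
-/

set_option autoImplicit false
set_option linter.unusedSectionVars false
set_option linter.unusedVariables false

namespace Cfsg.Agent.TwoFusion.HaradaFourNonab

open Subgroup
open Cfsg.Agent.TwoFusion.SecRank
open Cfsg.Agent.TwoFusion.HaradaSetup
open Cfsg.Agent.TwoFusion.HaradaCount
open Cfsg.Agent.TwoFusion.HaradaFourBasic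
open Cfsg.Agent.TwoFusion.HaradaFourCount

/-- a proper subgroup of a 2-group is contained in a subgroup of index 2 -/
theorem exists_index_two {S : Type*} [Group S] [Finite S] (hS : IsPGroup 2 S) (H Z : Subgroup S)
    (hZH : Z ≤ H) (hne : ¬ H ≤ Z) : ∃ W : Subgroup S, Z ≤ W ∧ W ≤ H ∧ W.relIndex H = 2 := by
  have hfact : Fact (Nat.Prime 2) := ⟨Nat.prime_two⟩
  rcases eq_top_or_exists_le_coatom (Z.subgroupOf H) with htop | ⟨M₀, hM₀, hle⟩
  · exact absurd (subgroupOf_eq_top.1 htop) hne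
  · refine ⟨M₀.map H.subtype, ?_, map_subtype_le _, ?_⟩
    · intro z hz
      exact ⟨⟨z, hZH hz⟩, hle (mem_subgroupOf.2 hz), rfl⟩
    · have h1 := Cfsg.Agent.Lib.FrattiniPGroup.index_of_coatom (hS.to_subgroup H) hM₀
      have h2 := relIndex_map_map_of_injective M₀ ⊤ H.subtype_injective
      rw [relIndex_top_right, h1] at h2
      have h3 : (⊤ : Subgroup H).map H.subtype = H := by
        rw [← MonoidHom.range_eq_map, range_subtype]
      rwa [h3] at h2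

/-- the index of a subgroup in a 2-group is a power of 2 -/
theorem relIndex_two_pow {S : Type*} [Group S] [Finite S] (hS : IsPGroup 2 S) {N K : Subgroup S}
    (hN : N ≤ K) : ∃ n : ℕ, N.relIndex K = 2 ^ n := by
  have hfact : Fact (Nat.Prime 2) := ⟨Nat.prime_two⟩
  obtain ⟨m, hm⟩ := IsPGroup.iff_card.1 (hS.to_subgroup K)
  have h1 : N.relIndex K ∣ 2 ^ m := by
    rw [← hm]
    exact relIndex_dvd_card _ _
  obtain ⟨n, -, hn⟩ := (Nat.dvd_prime_pow Nat.prime_two).1 h1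
  exact ⟨n, hn⟩

variable {S : Type*} [Group S] [Finite S] {A E C T : Subgroup S} {a y e₀ e₂ : S}

/-- an element `c` congruent to a commutator `[a, t]` modulo `E` is inverted by `a` modulo `E` -/
theorem inv_of_comm (h : FourY A E C T a y e₀ e₂) {t c : S}
    (hc : (a * t * a⁻¹ * t⁻¹)⁻¹ * c ∈ E) : a * c * a⁻¹ * c ∈ E := by
  set e := (a * t * a⁻¹ * t⁻¹)⁻¹ * c with he
  have hce : c = (a * t * a⁻¹ * t⁻¹) * e := by rw [he, mul_inv_cancel_left]
  have h1 : a * c * a⁻¹ * c =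
      (a * t * a⁻¹ * t⁻¹)⁻¹ * (a * e * a⁻¹) * (a * t * a⁻¹ * t⁻¹)⁻¹⁻¹ * e := by
    have h2 : a * (a * t * a⁻¹ * t⁻¹) * a⁻¹ = (a * t * a⁻¹ * t⁻¹)⁻¹ := by
      have h3 : (a * t * a⁻¹ * t⁻¹)⁻¹ = t * a * t⁻¹ * a⁻¹ := by group
      rw [h3, h.four.a_inv]
      calc a * (a * t * a * t⁻¹) * a = (a * a) * t * a * t⁻¹ * a := by group
        _ = t * a * t⁻¹ * a := by rw [h.four.a_sq, one_mul]
    calc a * c * a⁻¹ * c = (a * (a * t * a⁻¹ * t⁻¹) * a⁻¹) * (a * e * a⁻¹) * c := by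
          rw [hce]; group
      _ = (a * t * a⁻¹ * t⁻¹)⁻¹ * (a * e * a⁻¹) * c := by rw [h2]
      _ = (a * t * a⁻¹ * t⁻¹)⁻¹ * (a * e * a⁻¹) * ((a * t * a⁻¹ * t⁻¹) * e) := by rw [← hce]
      _ = (a * t * a⁻¹ * t⁻¹)⁻¹ * (a * e * a⁻¹) * (a * t * a⁻¹ * t⁻¹)⁻¹⁻¹ * e := by
          rw [inv_inv]
          group
  rw [h1]
  exact E.mul_mem (h.four.setup.E_conj _ _ (h.four.setup.E_conj a e hc)) hc

/-- in a subgroup `X` of `C` inverted by `a` modulo `E`, elements with square in `E` are in `E ∪ Ey` -/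
theorem cases_sq (h : FourY A E C T a y e₀ e₂) {x : S} (hx : x ∈ C) (hinv : a * x * a⁻¹ * x ∈ E)
    (hsq : x * x ∈ E) : x ∈ E ∨ x * y⁻¹ ∈ E := by
  apply h.cases_C hx
  have h1 := E.mul_mem hinv (E.inv_mem hsq)
  have h2 : a * x * a⁻¹ * x * (x * x)⁻¹ = a * x * a⁻¹ * x⁻¹ := by group
  rwa [h2] at h1

/-- commutators `[a, t]`, `t ∈ T`, lie in `C` -/
theorem comm_mem_C (h : FourY A E C T a y e₀ e₂) {t : S} (ht : t ∈ T) :
    a * t * a⁻¹ * t⁻¹ ∈ C := by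
  have hT : a * t * a⁻¹ * t⁻¹ ∈ T :=
    T.mul_mem (T.mul_mem (T.mul_mem h.a_mem_T ht) (T.inv_mem h.a_mem_T)) (T.inv_mem ht)
  apply h.mem_C_of_comm hT
  obtain ⟨hfA, hfE⟩ := h.comm_e2_mem ht
  set f := t * e₂ * t⁻¹ * e₂⁻¹ with hf
  have h1 : t * e₂ * t⁻¹ = f * e₂ := by rw [hf]; group
  have h2 : a * e₂ * a⁻¹ = e₀ * e₂ := by rw [← h.he₀ e₂ h.e₂E h.e₂A]; group
  have h3 : a * f * a⁻¹ = f := by
    rw [h.four.setup.A_comm a h.four.haA f hfA]; group
  have h4 : t * e₀ * t⁻¹ = e₀ := by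
    rw [(h.hT t).1 ht e₀ h.e₀A h.e₀E]; group
  have h5 : f * e₀ = e₀ * f := h.four.setup.E_comm f hfE e₀ h.e₀E
  -- both sides of `(a t) e₂ (a t)⁻¹ = (t a) e₂ (t a)⁻¹`
  have h6 : a * t * e₂ * t⁻¹ * a⁻¹ = f * (e₀ * e₂) := by
    calc a * t * e₂ * t⁻¹ * a⁻¹ = a * (t * e₂ * t⁻¹) * a⁻¹ := by group
      _ = a * (f * e₂) * a⁻¹ := by rw [h1]
      _ = (a * f * a⁻¹) * (a * e₂ * a⁻¹) := by group
      _ = f * (e₀ * e₂) := by rw [h3, h2]
  have h7 : t * a * e₂ * a⁻¹ * t⁻¹ = f * (e₀ * e₂) := by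
    calc t * a * e₂ * a⁻¹ * t⁻¹ = t * (a * e₂ * a⁻¹) * t⁻¹ := by group
      _ = t * (e₀ * e₂) * t⁻¹ := by rw [h2]
      _ = (t * e₀ * t⁻¹) * (t * e₂ * t⁻¹) := by group
      _ = e₀ * (f * e₂) := by rw [h4, h1]
      _ = (e₀ * f) * e₂ := by group
      _ = f * (e₀ * e₂) := by rw [← h5]; group
  -- `w = [a, t]` commutes with `f * (e₀ * e₂)` and with `f * e₀`
  have h8 : a * t * a⁻¹ * t⁻¹ * (f * (e₀ * e₂)) = f * (e₀ * e₂) * (a * t * a⁻¹ * t⁻¹) := by
    have h9 : a * t * a⁻¹ * t⁻¹ * (t * a * e₂ * a⁻¹ * t⁻¹) =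
        (a * t * e₂ * t⁻¹ * a⁻¹) * (a * t * a⁻¹ * t⁻¹) := by group
    rwa [h6, h7] at h9
  have h10 : a * t * a⁻¹ * t⁻¹ * (f * e₀) = f * e₀ * (a * t * a⁻¹ * t⁻¹) :=
    (h.hT _).1 hT (f * e₀) (A.mul_mem hfA h.e₀A) (E.mul_mem hfE h.e₀E)
  have h11 : (f * e₀) * (a * t * a⁻¹ * t⁻¹ * e₂) = (f * e₀) * (e₂ * (a * t * a⁻¹ * t⁻¹)) := by
    calc (f * e₀) * (a * t * a⁻¹ * t⁻¹ * e₂) = (f * e₀ * (a * t * a⁻¹ * t⁻¹)) * e₂ := by group
      _ = a * t * a⁻¹ * t⁻¹ * (f * (e₀ * e₂)) := by rw [← h10]; group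
      _ = f * (e₀ * e₂) * (a * t * a⁻¹ * t⁻¹) := h8
      _ = (f * e₀) * (e₂ * (a * t * a⁻¹ * t⁻¹)) := by group
  exact mul_left_cancel h11

/-- `|T : C| = 2` if `C` is not abelian -/
theorem relIndex_C_T (h : FourY A E C T a y e₀ e₂) (hnc : ¬ ∀ x ∈ C, ∀ u ∈ C, x * u = u * x) :
    C.relIndex T = 2 := by
  have hEn := h.E_normal
  obtain ⟨n, hn⟩ := relIndex_two_pow h.four.setup.pgroup h.C_le_T
  have hne1 : C.relIndex T ≠ 1 := by
    intro h1
    rw [relIndex_eq_one] at h1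
    exact h.a_not_mem_C (h1 h.a_mem_T)
  by_contra hne2
  have h4 : 4 ≤ C.relIndex T := by
    rw [hn] at hne1 hne2 ⊢
    rcases n with _ | _ | n
    · simp at hne1
    · simp at hne2
    · have : 1 ≤ 2 ^ n := Nat.one_le_two_pow
      rw [pow_succ, pow_succ]
      omega
  have hcard := card_mul_relIndex h.C_le_T
  have hc4 : 4 * Nat.card C ≤ Nat.card T := by
    rw [← hcard, mul_comm]
    exact Nat.mul_le_mul_left _ h4
  have h1 := count_mod E T C a 4 (h.E_le_C.trans h.C_le_T) h.E_le_C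
    (fun t ht => comm_mem_C h ht) (card_fix_T h) hc4
  apply hnc
  have hinv : ∀ x ∈ C, a * x * a⁻¹ * x ∈ E := by
    intro x hx
    obtain ⟨t, -, ht⟩ := h1.2 x hx
    exact inv_of_comm h ht
  exact comm_of_inverted h.four.setup.pgroup C E a y h.E_le_C
    (fun e he x hx => (h.hC x).1 hx e he) h.four.setup.E_conj hinv
    (fun x hx hxx => cases_sq h hx (hinv x hx) hxx)

/-- The subgroup `X = C ∩ M` of index 2 in `C`. -/
theorem exists_X (h : FourY A E C T a y e₀ e₂) (hnc : ¬ ∀ x ∈ C, ∀ u ∈ C, x * u = u * x) :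
    ∃ M : Subgroup S, M ≤ T ∧ E ≤ M ∧ a ∈ M ∧ M.relIndex T = 2 ∧
      2 * Nat.card ↥(C ⊓ M) = Nat.card C ∧
      (∀ x ∈ C ⊓ M, ∃ c ∈ C, (a * c * a⁻¹ * c⁻¹)⁻¹ * x ∈ E) ∧
      (∀ x ∈ C ⊓ M, a * x * a⁻¹ * x ∈ E) ∧
      (∀ x ∈ C ⊓ M, ∀ u ∈ C ⊓ M, x * u = u * x) := by
  have hEn := h.E_normal
  have hT2 := relIndex_C_T h hnc
  have hET : E ≤ T := h.E_le_C.trans h.C_le_T
  have hZ : E ⊔ zpowers a ≤ T := sup_le hET (by rw [zpowers_le]; exact h.a_mem_T)
  have hne : ¬ T ≤ E ⊔ zpowers a := by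
    intro hle
    have hy : y ∈ E ⊔ zpowers a := hle (h.C_le_T h.yC)
    rw [mem_sup_of_normal_left] at hy
    obtain ⟨e, he, z, hz, hez⟩ := hy
    obtain ⟨k, rfl⟩ := mem_zpowers_iff.1 hz
    rcases Int.even_or_odd' k with ⟨m, rfl | rfl⟩
    · rw [zpow_mul, zpow_two, h.four.a_sq, one_zpow, mul_one] at hez
      rw [hez] at he
      exact h.yE he
    · rw [zpow_add, zpow_mul, zpow_two, h.four.a_sq, one_zpow, zpow_one, one_mul] at hez
      have : a = e⁻¹ * y := by rw [← hez, inv_mul_cancel_left]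
      exact h.a_not_mem_C (by rw [this]; exact C.mul_mem (C.inv_mem (h.E_le_C he)) h.yC)
  obtain ⟨M, hZM, hMT, hM2⟩ := exists_index_two h.four.setup.pgroup T _ hZ hne
  have hEM : E ≤ M := le_sup_left.trans hZM
  have haM : a ∈ M := hZM (mem_sup_right (mem_zpowers a))
  refine ⟨M, hMT, hEM, haM, hM2, ?_⟩
  have hCM : ¬ C ≤ M := by
    intro hle
    have hTM : T ≤ M := by
      intro t ht
      by_cases htC : t ∈ C
      · exact hle htC
      · have h1 := mul_mem_of_relIndex_two hT2 h.a_mem_T ht h.a_not_mem_C htC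
        have h2 := M.mul_mem (M.inv_mem haM) (hle h1)
        rwa [inv_mul_cancel_left] at h2
    have := (relIndex_eq_one (H := M) (K := T)).2 hTM
    omega
  have hEX : E ≤ C ⊓ M := le_inf h.E_le_C hEM
  -- `T` normalizes `M`
  have hMn : ∀ t ∈ T, ∀ m ∈ M, t * m * t⁻¹ ∈ M := by
    intro t ht m hm
    by_cases htM : t ∈ M
    · exact M.mul_mem (M.mul_mem htM hm) (M.inv_mem htM)
    · have htm : t * m ∉ M := by
        intro hc
        have := M.mul_mem hc (M.inv_mem hm)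
        rw [mul_inv_cancel_right] at this
        exact htM this
      exact mul_mem_of_relIndex_two hM2 (T.mul_mem ht (hMT hm)) (T.inv_mem ht) htm
        (fun hc => htM (by simpa using M.inv_mem hc))
  have hcommX : ∀ c ∈ C, a * c * a⁻¹ * c⁻¹ ∈ C ⊓ M := by
    intro c hc
    refine ⟨C.mul_mem (h.C_conj a hc) (C.inv_mem hc), ?_⟩
    have h1 := M.mul_mem haM (hMn c (h.C_le_T hc) a⁻¹ (M.inv_mem haM))
    have h2 : a * (c * a⁻¹ * c⁻¹) = a * c * a⁻¹ * c⁻¹ := by group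
    rwa [h2] at h1
  have hXlt : 2 * Nat.card ↥(C ⊓ M) ≤ Nat.card C := by
    have h1 := card_mul_relIndex (inf_le_left : C ⊓ M ≤ C)
    have h2 : (C ⊓ M).relIndex C ≠ 1 := by
      intro h3
      rw [relIndex_eq_one] at h3
      exact hCM (h3.trans inf_le_right)
    obtain ⟨n, hn⟩ := relIndex_two_pow h.four.setup.pgroup (inf_le_left : C ⊓ M ≤ C)
    have h4 : 2 ≤ (C ⊓ M).relIndex C := by
      rw [hn] at h2 ⊢
      rcases n with _ | n
      · simp at h2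
      · have : 1 ≤ 2 ^ n := Nat.one_le_two_pow
        rw [pow_succ]
        omega
    rw [← h1, mul_comm]
    exact Nat.mul_le_mul_left _ h4
  obtain ⟨h1, h2⟩ := count_mod E C (C ⊓ M) a 2 h.E_le_C hEX hcommX (card_fix_C h) hXlt
  have hinv : ∀ x ∈ C ⊓ M, a * x * a⁻¹ * x ∈ E := by
    intro x hx
    obtain ⟨t, -, ht⟩ := h2 x hx
    exact inv_of_comm h ht
  refine ⟨h1, h2, hinv, ?_⟩
  exact comm_of_inverted h.four.setup.pgroup (C ⊓ M) E a y hEX
    (fun e he x hx => (h.hC x).1 hx.1 e he) h.four.setup.E_conj hinv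
    (fun x hx hxx => cases_sq h hx.1 (hinv x hx) hxx)

/-- if some `c ∈ C` has `[a, c] ∈ yE`, then `y² ∉ {1, e₀}` -/
theorem e1_ne (h : FourY A E C T a y e₀ e₂) {c : S}
    (hc : (a * c * a⁻¹ * c⁻¹)⁻¹ * y ∈ E) : y * y ≠ 1 ∧ y * y ≠ e₀ := by
  set w := a * c * a⁻¹ * c⁻¹ with hw
  have hwy : w * y⁻¹ ∈ E := by
    have h1 := h.four.setup.E_conj y _ (E.inv_mem hc)
    have h2 : y * (w⁻¹ * y)⁻¹ * y⁻¹ = w * y⁻¹ := by group
    rwa [h2] at h1
  have hwC : w ∈ C := by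
    have h1 := C.mul_mem (h.E_le_C hwy) h.yC
    rwa [inv_mul_cancel_right] at h1
  have hwE : w ∉ E := by
    intro hc'
    have h1 := E.mul_mem (E.inv_mem hwy) hc'
    have h2 : (w * y⁻¹)⁻¹ * w = y := by group
    rw [h2] at h1
    exact h.yE h1
  have hww : w * w = y * y := h.sq_eq hwy
  have hinv : a * w * a⁻¹ = w⁻¹ := by
    have h3 : w⁻¹ = c * a * c⁻¹ * a⁻¹ := by rw [hw]; group
    rw [h3, hw, h.four.a_inv]
    calc a * (a * c * a * c⁻¹) * a = (a * a) * c * a * c⁻¹ * a := by group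
      _ = c * a * c⁻¹ * a := by rw [h.four.a_sq, one_mul]
  have hcomm : a * w * a⁻¹ * w⁻¹ = y * y := by
    rw [hinv]
    have h4 : w⁻¹ * w⁻¹ = (w * w)⁻¹ := by group
    rw [h4, hww]
    exact inv_eq_of_mul_eq_one_left (h.four.setup.E_sq _ h.hyy)
  constructor
  · intro h1
    exact hwE (h.mem_E_of_comm hwC (Or.inl (by rw [hcomm, h1])))
  · intro h1
    exact hwE (h.mem_E_of_comm hwC (Or.inr (by rw [hcomm, h1])))

/-- an element centralizing `e₀`, if `y² ∉ {1, e₀}`, is in `T` -/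
theorem mem_T_of_comm_e0 (h : FourY A E C T a y e₀ e₂) (h1 : y * y ≠ 1) (h0 : y * y ≠ e₀) {g : S}
    (hg : g * e₀ = e₀ * g) : g ∈ T := by
  rw [h.hT]
  intro b hbA hbE
  by_cases hb1 : b = 1
  · rw [hb1]; group
  by_cases hb0 : b = e₀
  · rw [hb0]; exact hg
  have h2 := h.e1_central g
  rcases h.cases_B hbA hbE h.e1_mem_A h.hyy hb1 hb0 h1 h0 with h3 | h3
  · have h4 : b = (y * y)⁻¹ := eq_inv_of_mul_eq_one_left h3
    rw [h4]
    calc g * (y * y)⁻¹ = (y * y)⁻¹ * ((y * y) * g) * (y * y)⁻¹ := by group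
      _ = (y * y)⁻¹ * (g * (y * y)) * (y * y)⁻¹ := by rw [h2]
      _ = (y * y)⁻¹ * g := by group
  · have h4 : b = e₀ * (y * y)⁻¹ := by rw [← h3, mul_inv_cancel_right]
    rw [h4]
    calc g * (e₀ * (y * y)⁻¹) = (g * e₀) * (y * y)⁻¹ := by group
      _ = e₀ * ((y * y)⁻¹ * ((y * y) * g) * (y * y)⁻¹) := by rw [hg]; group
      _ = e₀ * ((y * y)⁻¹ * (g * (y * y)) * (y * y)⁻¹) := by rw [h2]
      _ = e₀ * (y * y)⁻¹ * g := by group

/-- `S = T` if `C` is not abelian -/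
theorem T_eq_top (h : FourY A E C T a y e₀ e₂) (hnc : ¬ ∀ x ∈ C, ∀ u ∈ C, x * u = u * x)
    (M : Subgroup S) (hMT : M ≤ T) (hEM : E ≤ M) (haM : a ∈ M) (hM2 : M.relIndex T = 2)
    (hcard : 2 * Nat.card ↥(C ⊓ M) = Nat.card C)
    (hcomm : ∀ x ∈ C ⊓ M, ∃ c ∈ C, (a * c * a⁻¹ * c⁻¹)⁻¹ * x ∈ E)
    (hinv : ∀ x ∈ C ⊓ M, a * x * a⁻¹ * x ∈ E)
    (h1 : y * y ≠ 1) (h0 : y * y ≠ e₀) : T = ⊤ := by
  have hfact : Fact (Nat.Prime 2) := ⟨Nat.prime_two⟩
  have hT2 := relIndex_C_T h hnc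
  by_contra hne
  have hnil : Group.IsNilpotent S := h.four.setup.pgroup.isNilpotent
  have hlt := Group.normalizerCondition_of_isNilpotent (G := S) T (lt_top_iff_ne_top.2 hne)
  obtain ⟨g, hgN, hgT⟩ := SetLike.exists_of_lt hlt
  have hgN' : ∀ x : S, x ∈ T ↔ g * x * g⁻¹ ∈ T := mem_normalizer_iff.1 hgN
  set b := g * a * g⁻¹ with hb
  have hbT : b ∈ T := (hgN' a).1 h.a_mem_T
  have hbC : b ∉ C := by
    intro hc
    have h2 := h.C_conj g⁻¹ hc
    have h3 : g⁻¹ * b * g⁻¹⁻¹ = a := by rw [hb]; group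
    rw [h3] at h2
    exact h.a_not_mem_C h2
  have hbb : b * b = 1 := by
    rw [hb]
    calc g * a * g⁻¹ * (g * a * g⁻¹) = g * (a * a) * g⁻¹ := by group
      _ = 1 := by rw [h.four.a_sq]; group
  have hcC : a * b ∈ C := mul_mem_of_relIndex_two hT2 h.a_mem_T hbT h.a_not_mem_C hbC
  set c' := a * b with hc'
  have hbc : b = a * c' := by rw [hc', ← mul_assoc, h.four.a_sq, one_mul]
  have hc'inv : a * c' * a⁻¹ = c'⁻¹ := by
    have h2 : c'⁻¹ = b⁻¹ * a⁻¹ := by rw [hc']; group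
    have h3 : b⁻¹ = b := inv_eq_of_mul_eq_one_left hbb
    rw [h2, h3, ← hbc]
  -- the index of `C ⊓ M` in `C` is 2
  have hrel : (C ⊓ M).relIndex C = 2 := by
    have h2 := card_mul_relIndex (inf_le_left : C ⊓ M ≤ C)
    have h3 : 0 < Nat.card ↥(C ⊓ M) := Nat.card_pos
    apply Nat.eq_of_mul_eq_mul_left h3
    rw [h2, ← hcard, mul_comm]
  have hEX : E ≤ C ⊓ M := le_inf h.E_le_C hEM
  -- `c' ∈ M`
  have hcM : c' ∈ M := by
    by_contra hcM
    have hcX : c' ∉ C ⊓ M := fun hc => hcM hc.2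
    -- `Z = ⟨c'⟩ E` is abelian, so proper in `C`
    have hZC : zpowers c' ⊔ E ≤ C := sup_le (by rw [zpowers_le]; exact hcC) h.E_le_C
    have hEn := h.E_normal
    have hZne : ¬ C ≤ zpowers c' ⊔ E := by
      intro hle
      apply hnc
      intro x hx u hu
      have hx' := hle hx
      have hu' := hle hu
      rw [mem_sup_of_normal_right] at hx' hu'
      obtain ⟨z, hz, e, he, rfl⟩ := hx'
      obtain ⟨z', hz', e', he', rfl⟩ := hu'
      obtain ⟨k, rfl⟩ := mem_zpowers_iff.1 hz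
      obtain ⟨k', rfl⟩ := mem_zpowers_iff.1 hz'
      have hk : c' ^ k ∈ C := C.zpow_mem hcC k
      have hk' : c' ^ k' ∈ C := C.zpow_mem hcC k'
      have h2 := (h.hC _).1 hk e' he'
      have h3 := (h.hC _).1 hk' e he
      have h4 := (h.hC _).1 (h.E_le_C he) e' he'
      calc c' ^ k * e * (c' ^ k' * e') = c' ^ k * (e * c' ^ k') * e' := by group
        _ = c' ^ k * (c' ^ k' * e) * e' := by rw [h3]
        _ = c' ^ k' * c' ^ k * (e * e') := by group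
        _ = c' ^ k' * c' ^ k * (e' * e) := by rw [h4]
        _ = c' ^ k' * (c' ^ k * e') * e := by group
        _ = c' ^ k' * (e' * c' ^ k) * e := by rw [h2]
        _ = c' ^ k' * e' * (c' ^ k * e) := by group
    obtain ⟨W, hZW, hWC, hW2⟩ := exists_index_two h.four.setup.pgroup C _ hZC hZne
    have hcW : c' ∈ W := hZW (mem_sup_left (mem_zpowers c'))
    have hEW : E ≤ W := le_sup_right.trans hZW
    have hsqW : ∀ x ∈ C, x * x ∈ W := by
      intro x hx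
      by_cases hxW : x ∈ W
      · exact W.mul_mem hxW hxW
      · exact mul_mem_of_relIndex_two hW2 hx hx hxW hxW
    have hXW : C ⊓ M ≤ W := by
      intro x hx
      obtain ⟨c, hc, hcx⟩ := hcomm x hx
      suffices hs : a * c * a⁻¹ * c⁻¹ ∈ W by
        have h2 := W.mul_mem hs (hEW hcx)
        rwa [mul_inv_cancel_left] at h2
      by_cases hcX' : c ∈ C ⊓ M
      · have h2 := hEW (hinv c hcX')
        have h3 := W.mul_mem h2 (W.inv_mem (hsqW c hc))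
        have h4 : a * c * a⁻¹ * c * (c * c)⁻¹ = a * c * a⁻¹ * c⁻¹ := by group
        rwa [h4] at h3
      · -- `c = c' * x'`
        have hx' : c'⁻¹ * c ∈ C ⊓ M :=
          mul_mem_of_relIndex_two hrel (C.inv_mem hcC) hc
            (fun hc2 => hcX (by simpa using (C ⊓ M).inv_mem hc2)) hcX'
        set x' := c'⁻¹ * c with hx'def
        have hcx' : c = c' * x' := by rw [hx'def, mul_inv_cancel_left]
        have h2 := hEW (hinv x' hx')
        have h3 := hsqW x' hx'.1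
        have h4 : a * c * a⁻¹ * c⁻¹ =
            (a * c' * a⁻¹) * (a * x' * a⁻¹ * x') * (x' * x')⁻¹ * c'⁻¹ := by
          rw [hcx']; group
        rw [h4, hc'inv]
        exact W.mul_mem (W.mul_mem (W.mul_mem (W.inv_mem hcW) h2) (W.inv_mem h3)) (W.inv_mem hcW)
    have hCW : C ≤ W := by
      intro c hc
      by_cases hcX' : c ∈ C ⊓ M
      · exact hXW hcX'
      · have hx' : c'⁻¹ * c ∈ C ⊓ M :=
          mul_mem_of_relIndex_two hrel (C.inv_mem hcC) hc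
            (fun hc2 => hcX (by simpa using (C ⊓ M).inv_mem hc2)) hcX'
        have h2 := W.mul_mem hcW (hXW hx')
        rwa [mul_inv_cancel_left] at h2
    have := (relIndex_eq_one (H := W) (K := C)).2 hCW
    omega
  obtain ⟨c, hc, hcx⟩ := hcomm c' ⟨hcC, hcM⟩
  set e := (a * c * a⁻¹ * c⁻¹)⁻¹ * c' with he
  -- `g' = c⁻¹ g` conjugates `a` to `a e`
  have hga : (c⁻¹ * g) * a * (c⁻¹ * g)⁻¹ = a * e := by
    have h2 : c' = (a * c * a⁻¹ * c⁻¹) * e := by rw [he, mul_inv_cancel_left]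
    have h3 : e * c = c * e := ((h.hC c).1 hc e hcx).symm
    calc (c⁻¹ * g) * a * (c⁻¹ * g)⁻¹ = c⁻¹ * b * c := by rw [hb]; group
      _ = c⁻¹ * (a * c') * c := by rw [← hbc]
      _ = c⁻¹ * (a * ((a * c * a⁻¹ * c⁻¹) * e)) * c := by rw [← h2]
      _ = c⁻¹ * ((a * a) * c * a⁻¹ * c⁻¹ * (e * c)) := by group
      _ = c⁻¹ * (c * a⁻¹ * c⁻¹ * (c * e)) := by rw [h.four.a_sq, h3, one_mul]
      _ = a⁻¹ * e := by group
      _ = a * e := by rw [h.four.a_inv]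
  have hge : (c⁻¹ * g) * e₀ * (c⁻¹ * g)⁻¹ = e₀ := by
    set g' := c⁻¹ * g with hg'
    set f := g' * e₂ * g'⁻¹ with hf
    have hfE : f ∈ E := h.four.setup.E_conj g' e₂ h.e₂E
    have h2 : g' * e₀ * g'⁻¹ = a * f * a⁻¹ * f⁻¹ := by
      have h3 : g' * (a * e₂ * a⁻¹ * e₂⁻¹) * g'⁻¹ =
          (g' * a * g'⁻¹) * f * (g' * a * g'⁻¹)⁻¹ * f⁻¹ := by rw [hf]; group
      rw [← h.he₀ e₂ h.e₂E h.e₂A, h3, hga]
      have h4 : e * f = f * e := h.four.setup.E_comm e hcx f hfE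
      calc a * e * f * (a * e)⁻¹ * f⁻¹ = a * (e * f) * e⁻¹ * a⁻¹ * f⁻¹ := by group
        _ = a * f * a⁻¹ * f⁻¹ := by rw [h4]; group
    by_cases hfA : f ∈ A
    · exfalso
      have h5 : a * f = f * a := h.four.setup.A_comm a h.four.haA f hfA
      have h6 : g' * e₀ * g'⁻¹ = 1 := by rw [h2, h5]; group
      have h7 : e₀ = g'⁻¹ * (g' * e₀ * g'⁻¹) * g' := by group
      rw [h6] at h7
      exact h.e₀1 (by rw [h7]; group)
    · rw [h2]
      exact h.he₀ f hfE hfA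
  have hgT' : c⁻¹ * g ∈ T := by
    apply mem_T_of_comm_e0 h h1 h0
    rw [mul_inv_eq_iff_eq_mul] at hge
    exact hge
  have h5 := T.mul_mem (h.C_le_T hc) hgT'
  rw [mul_inv_cancel_left] at h5
  exact hgT h5

/-- the case of nonabelian `C_S(E)` -/
theorem genLE_four (h : FourY A E C T a y e₀ e₂) (hnc : ¬ ∀ x ∈ C, ∀ u ∈ C, x * u = u * x)
    (K : Subgroup S) : GenLE 4 K := by
  obtain ⟨M, hMT, hEM, haM, hM2, hcard, hcomm, hinv, hab⟩ := exists_X h hnc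
  have hEX : E ≤ C ⊓ M := le_inf h.E_le_C hEM
  have hT2 := relIndex_C_T h hnc
  -- `X ≠ E`
  have hXE : ¬ C ⊓ M ≤ E := by
    intro hle
    apply hnc
    have hXeq : C ⊓ M = E := le_antisymm hle hEX
    have h2 := card_mul_relIndex h.E_le_C
    have hrel : E.relIndex C = 2 := by
      have h3 : 0 < Nat.card E := Nat.card_pos
      apply Nat.eq_of_mul_eq_mul_left h3
      rw [h2, ← hcard, hXeq, mul_comm]
    intro x hx u hu
    by_cases hxE : x ∈ E
    · exact ((h.hC u).1 hu x hxE).symm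
    by_cases huE : u ∈ E
    · exact (h.hC x).1 hx u huE
    have h3 := mul_mem_of_relIndex_two hrel hx hu hxE huE
    have h4 := (h.hC x).1 hx _ h3
    have h5 : x * (x * u) = x * (u * x) := by rw [h4]; group
    exact mul_left_cancel h5
  -- `y ∈ X`
  obtain ⟨x, hxX, hxE, -, hxx⟩ := exists_central_mod h.four.setup.pgroup (C ⊓ M) (C ⊓ M) E hEX hXE
    le_rfl (fun g hg c hc => (C ⊓ M).mul_mem ((C ⊓ M).mul_mem hg hc) ((C ⊓ M).inv_mem hg))
    (fun g _ e he => h.four.setup.E_conj g e he)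
  have hxy : x * y⁻¹ ∈ E := (cases_sq h hxX.1 (hinv x hxX) hxx).resolve_left hxE
  have hyX : y ∈ C ⊓ M := by
    have h2 := (C ⊓ M).mul_mem ((C ⊓ M).inv_mem (hEX hxy)) hxX
    have h3 : (x * y⁻¹)⁻¹ * x = y := by group
    rwa [h3] at h2
  obtain ⟨c, hc, hcy⟩ := hcomm y hyX
  obtain ⟨h1, h0⟩ := e1_ne h hcy
  have hTtop := T_eq_top h hnc M hMT hEM haM hM2 hcard hcomm hinv h1 h0
  -- `X` is normal of index 4
  have hCn := h.C_normal
  have hMn : M.Normal := by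
    apply normal_of_index_eq_two
    rw [hTtop, relIndex_top_right] at hM2
    exact hM2
  have hXn : (C ⊓ M).Normal := Subgroup.normal_inf_normal C M
  have hindex : Nat.card (S ⧸ (C ⊓ M)) = 4 := by
    have h2 : (C ⊓ M).index = 4 := by
      have h3 := (C ⊓ M).card_mul_index
      have h4 := card_mul_relIndex h.C_le_T
      rw [hT2, hTtop, card_top] at h4
      have h5 : 0 < Nat.card ↥(C ⊓ M) := Nat.card_pos
      apply Nat.eq_of_mul_eq_mul_left h5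
      rw [h3, ← h4, ← hcard]
      ring
    exact h2
  intro N hN hsq
  rw [relIndex_eq_mul (C ⊓ M) hN]
  set π := QuotientGroup.mk' (C ⊓ M) with hπ
  have hK4 : (N.map π).relIndex (K.map π) ≤ Nat.card (K.map π) := by
    have h2 := card_mul_relIndex (map_mono (f := π) hN)
    have h3 : 0 < Nat.card (N.map π) := Nat.card_pos
    calc (N.map π).relIndex (K.map π) ≤ Nat.card (N.map π) * (N.map π).relIndex (K.map π) :=
          Nat.le_mul_of_pos_left _ h3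
      _ = Nat.card (K.map π) := h2
  have hKle : Nat.card (K.map π) ≤ 4 := by
    rw [← hindex]
    exact card_le_card_group _
  by_cases hle4 : (N ⊓ (C ⊓ M)).relIndex (K ⊓ (C ⊓ M)) ≤ 4
  · calc (N.map π).relIndex (K.map π) * (N ⊓ (C ⊓ M)).relIndex (K ⊓ (C ⊓ M))
        ≤ 4 * 4 := Nat.mul_le_mul (hK4.trans hKle) hle4
      _ = 2 ^ 4 := by norm_num
  · push Not at hle4
    have hsqE : ∀ x ∈ C ⊓ M, x * x ∈ E → x * x = 1 ∨ x * x = y * y := by
      intro x hx hxx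
      rcases cases_sq h hx.1 (hinv x hx) hxx with h2 | h2
      · left; exact h.four.setup.E_sq x h2
      · right; exact h.sq_eq h2
    obtain ⟨hEL, hrel8, hsquares⟩ := relIndex_of_abelian (K ⊓ (C ⊓ M)) (N ⊓ (C ⊓ M)) E
      (inf_le_inf_right _ hN) (fun l hl => ⟨hsq l hl.1, (C ⊓ M).mul_mem hl.2 hl.2⟩)
      (fun x hx u hu => hab x hx.2 u hu.2) h.four.hE (by
        intro l hl hll
        by_contra hlE
        have h2 := (cases_sq h hl.2.1 (hinv l hl.2) (by rw [hll]; exact E.one_mem)).resolve_left hlE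
        have h3 := h.sq_eq h2
        rw [hll] at h3
        exact h1 h3.symm) hle4
    rw [hrel8]
    have hK2 : Nat.card (K.map π) ≤ 2 := by
      by_contra hcon
      push Not at hcon
      have hdvd : Nat.card (K.map π) ∣ 4 := by
        rw [← hindex]
        exact card_subgroup_dvd_card _
      have hK4' : Nat.card (K.map π) = 4 := by
        have h2 : Nat.card (K.map π) ∈ Nat.divisors 4 := by
          rw [Nat.mem_divisors]; exact ⟨hdvd, by norm_num⟩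
        have h3 : Nat.divisors 4 = {1, 2, 4} := by decide
        rw [h3] at h2
        simp only [Finset.mem_insert, Finset.mem_singleton] at h2
        omega
      have hKtop : K.map π = ⊤ := by
        apply eq_top_of_card_eq
        rw [hK4', hindex]
      have haK : π a ∈ K.map π := by rw [hKtop]; exact mem_top _
      obtain ⟨k, hk, hka⟩ := haK
      have hax : a⁻¹ * k ∈ C ⊓ M := QuotientGroup.eq.1 hka.symm
      have he₂K : e₂ ∈ K := (hEL h.e₂E).1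
      have hcomm2 : k * e₂ * k⁻¹ * e₂⁻¹ = e₀ := by
        have h2 : (a⁻¹ * k) * e₂ = e₂ * (a⁻¹ * k) := (h.hC _).1 hax.1 e₂ h.e₂E
        rw [← h.he₀ e₂ h.e₂E h.e₂A]
        calc k * e₂ * k⁻¹ * e₂⁻¹ = a * ((a⁻¹ * k) * e₂) * (a⁻¹ * k)⁻¹ * a⁻¹ * e₂⁻¹ := by group
          _ = a * e₂ * a⁻¹ * e₂⁻¹ := by rw [h2]; group
      have he₀N : e₀ ∈ N := by
        rw [← hcomm2]
        exact comm_mem_of_sq hN hsq hk he₂K
      obtain ⟨l, hl, hll⟩ := hsquares e₀ ⟨he₀N, hEX h.e₀E⟩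
      rcases hsqE l hl.2 (by rw [hll]; exact h.e₀E) with h2 | h2
      · exact h.e₀1 (by rw [← hll, h2])
      · exact h0 (by rw [← h2, hll])
    calc (N.map π).relIndex (K.map π) * 8 ≤ 2 * 8 := Nat.mul_le_mul_right _ (hK4.trans hK2)
      _ = 2 ^ 4 := by norm_num

end Cfsg.Agent.TwoFusion.HaradaFourNonab
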