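import Mathlib
import Cfsg.Agent.TwoFusion.HaradaFourNonab
import Cfsg.Agent.TwoFusion.HaradaEightSelf

/-!
# Case `|E| = 8`, `|A ∩ E| = 4`, `C_S(E) ≠ E` of S1232
-/

set_option autoImplicit false
set_option linter.unusedSectionVars false
set_option linter.unusedVariables false

namespace Cfsg.Agent.TwoFusion.HaradaEightFour

open Subgroup
open Cfsg.Agent.TwoFusion.SecRank
open Cfsg.Agent.TwoFusion.HaradaSetup
open Cfsg.Agent.TwoFusion.HaradaCount
open Cfsg.Agent.TwoFusion.HaradaFourBasic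
open Cfsg.Agent.TwoFusion.HaradaFourCount
open Cfsg.Agent.TwoFusion.HaradaFourNonab

variable {S : Type*} [Group S] [Finite S] {A E C T : Subgroup S} {a y e₀ e₂ : S}

/-- involutions of an abelian `C` lie in `E` -/
theorem omega_le (h : FourY A E C T a y e₀ e₂) (hab : ∀ x ∈ C, ∀ u ∈ C, x * u = u * x)
    (hmax : ∀ F : Subgroup S, E ≤ F → (∀ g : S, ∀ f ∈ F, g * f * g⁻¹ ∈ F) →
      (∀ a ∈ F, ∀ b ∈ F, a * b = b * a) → (∀ a ∈ F, a * a = 1) → Nat.card F ≤ 8)
    {x : S} (hx : x ∈ C) (hxx : x * x = 1) : x ∈ E := by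
  let F : Subgroup S :=
    { carrier := {x | x ∈ C ∧ x * x = 1}
      one_mem' := ⟨C.one_mem, one_mul 1⟩
      mul_mem' := by
        rintro x u ⟨hx, hxx⟩ ⟨hu, huu⟩
        refine ⟨C.mul_mem hx hu, ?_⟩
        calc x * u * (x * u) = x * (u * x) * u := by group
          _ = x * (x * u) * u := by rw [hab x hx u hu]
          _ = (x * x) * (u * u) := by group
          _ = 1 := by rw [hxx, huu, one_mul]
      inv_mem' := by
        rintro x ⟨hx, hxx⟩
        refine ⟨C.inv_mem hx, ?_⟩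
        rw [← mul_inv_rev, hxx, inv_one] }
  have hmem : ∀ x, x ∈ F ↔ x ∈ C ∧ x * x = 1 := fun x => Iff.rfl
  have hEF : E ≤ F := fun e he => (hmem e).2 ⟨h.E_le_C he, h.four.setup.E_sq e he⟩
  have hF8 : Nat.card F ≤ 8 := by
    apply hmax F hEF
    · intro g f hf
      rw [hmem] at hf ⊢
      refine ⟨h.C_conj g hf.1, ?_⟩
      calc g * f * g⁻¹ * (g * f * g⁻¹) = g * (f * f) * g⁻¹ := by group
        _ = 1 := by rw [hf.2]; group
    · intro x hx u hu
      exact hab x ((hmem x).1 hx).1 u ((hmem u).1 hu).1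
    · intro x hx
      exact ((hmem x).1 hx).2
  have heq : E = F := eq_of_le_of_card_ge hEF (by rw [h.four.hE]; exact hF8)
  rw [heq]
  exact (hmem x).2 ⟨hx, hxx⟩

/-- `a` inverts an abelian `C` modulo `E` -/
theorem inv_of_abelian (h : FourY A E C T a y e₀ e₂) (hab : ∀ x ∈ C, ∀ u ∈ C, x * u = u * x)
    {x : S} (hx : x ∈ C) : a * x * a⁻¹ * x ∈ E := by
  have hax : a * x * a⁻¹ ∈ C := h.C_conj a hx
  refine (h.four.fixC ((h.hC _).1 (C.mul_mem hax hx)) ?_).2
  have h1 := hab _ hax x hx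
  have h2 : a⁻¹ = a := h.four.a_inv
  rw [h2] at h1 ⊢
  calc a * x * a * x * a = (a * x * a * x) * a := by group
    _ = (x * (a * x * a)) * a := by rw [h1]
    _ = x * a * x * (a * a) := by group
    _ = (a * a) * (x * a * x) := by rw [h.four.a_sq]; group
    _ = a * (a * x * a * x) := by group

/-- if any two elements of `K \ C` agree modulo `C` then `|KC/C| ≤ 2` -/
theorem card_map_le_two (C K : Subgroup S) [C.Normal]
    (h : ∀ k ∈ K, ∀ k' ∈ K, k ∉ C → k' ∉ C → k⁻¹ * k' ∈ C) :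
    Nat.card (K.map (QuotientGroup.mk' C)) ≤ 2 := by
  classical
  set π := QuotientGroup.mk' C with hπ
  by_cases hKC : ∀ k ∈ K, k ∈ C
  · have h1 : K.map π = ⊥ := by
      rw [eq_bot_iff_forall]
      rintro _ ⟨k, hk, rfl⟩
      exact (QuotientGroup.eq_one_iff k).2 (hKC k hk)
    rw [h1, card_bot]
    norm_num
  · push Not at hKC
    obtain ⟨k₀, hk₀, hk₀C⟩ := hKC
    have hsub : ((K.map π : Subgroup (S ⧸ C)) : Set (S ⧸ C)) ⊆ {1, π k₀} := by
      rintro _ ⟨k, hk, rfl⟩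
      simp only [Set.mem_insert_iff, Set.mem_singleton_iff]
      by_cases hkC : k ∈ C
      · left; exact (QuotientGroup.eq_one_iff k).2 hkC
      · right
        exact (QuotientGroup.eq.2 (h k₀ hk₀ k hk hk₀C hkC)).symm
    refine (Set.ncard_le_ncard hsub (Set.toFinite _)).trans ?_
    have h4 := Set.ncard_insert_le (1 : S ⧸ C) {π k₀}
    rw [Set.ncard_singleton] at h4
    omega

/-- the final counting contradiction -/
theorem abelian_contra (h : FourY A E C T a y e₀ e₂) (hab : ∀ x ∈ C, ∀ u ∈ C, x * u = u * x)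
    (h1 : y * y ≠ 1) (h0 : y * y ≠ e₀) (l k : S) (hle₀ : l * e₀ * l⁻¹ = y * y * e₀)
    (hlB : ∀ b ∈ A, b ∈ E → l⁻¹ * b * l ∈ A)
    (hkT : k ∈ T) (hke : k * e₂ * k⁻¹ = y * y * e₂) (hkk : ∃ c ∈ C, k * k = c * c) : False := by
  have hEn := h.E_normal
  have hinv : ∀ x ∈ C, a * x * a⁻¹ * x ∈ E := fun x hx => inv_of_abelian h hab hx
  have he₁E : y * y ∈ E := h.hyy
  have he₁A : y * y ∈ A := h.e1_mem_A
  have hcen := h.e1_central
  set e₁ := y * y with he₁
  set b := l * a * l⁻¹ with hb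
  have hbb : b * b = 1 := by
    rw [hb]
    calc l * a * l⁻¹ * (l * a * l⁻¹) = l * (a * a) * l⁻¹ := by group
      _ = 1 := by rw [h.four.a_sq]; group
  have hbinv : b⁻¹ = b := inv_eq_of_mul_eq_one_left hbb
  have hbT : b ∈ T := by
    rw [h.hT]
    intro b' hb'A hb'E
    have h2 := h.four.setup.A_comm a h.four.haA _ (hlB b' hb'A hb'E)
    calc b * b' = l * (a * (l⁻¹ * b' * l)) * l⁻¹ := by rw [hb]; group
      _ = l * ((l⁻¹ * b' * l) * a) * l⁻¹ := by rw [h2]
      _ = b' * b := by rw [hb]; group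
  -- `b e₂ b⁻¹ = e₁ e₀ e₂`
  have hbe : b * e₂ * b⁻¹ = e₁ * e₀ * e₂ := by
    set f := l⁻¹ * e₂ * l with hf
    have hfE : f ∈ E := by
      have := h.four.setup.E_conj l⁻¹ e₂ h.e₂E
      rwa [inv_inv] at this
    have hbf : b * e₂ * b⁻¹ = l * (a * f * a⁻¹) * l⁻¹ := by rw [hb, hf]; group
    have he₂f : e₂ = l * f * l⁻¹ := by rw [hf]; group
    have hfA : f ∉ A := by
      intro hfA
      -- then `b` centralizes `e₂`, and `l⁻¹ ...`: use that conjugation by `l⁻¹` maps `A ∩ E` onto itself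
      have hmap : ∀ x ∈ A ⊓ E, l⁻¹ * x * l ∈ A ⊓ E := by
        rintro x ⟨hxA, hxE⟩
        refine ⟨hlB x hxA hxE, ?_⟩
        have := h.four.setup.E_conj l⁻¹ x hxE
        rwa [inv_inv] at this
      let φ : ↥(A ⊓ E) → ↥(A ⊓ E) := fun x => ⟨l⁻¹ * x * l, hmap x x.2⟩
      have hφ : Function.Injective φ := by
        intro x x' hxx
        have h2 : l⁻¹ * (x : S) * l = l⁻¹ * x' * l := congrArg Subtype.val hxx
        exact Subtype.ext (mul_left_cancel (mul_right_cancel h2))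
      obtain ⟨x, hx⟩ := (Finite.injective_iff_surjective.1 hφ) ⟨f, hfA, hfE⟩
      have h2 : l⁻¹ * (x : S) * l = f := congrArg Subtype.val hx
      have h3 : (x : S) = e₂ := by
        rw [hf] at h2
        exact mul_left_cancel (mul_right_cancel h2)
      exact h.e₂A (h3 ▸ x.2.1)
    have h2 : a * f * a⁻¹ = e₀ * f := by rw [← h.he₀ f hfE hfA]; group
    rw [hbf, h2]
    calc l * (e₀ * f) * l⁻¹ = (l * e₀ * l⁻¹) * (l * f * l⁻¹) := by group
      _ = e₁ * e₀ * e₂ := by rw [hle₀, ← he₂f]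
  have hae : a * e₂ * a⁻¹ = e₀ * e₂ := by rw [← h.he₀ e₂ h.e₂E h.e₂A]; group
  have hT := fun (t : S) (ht : t ∈ T) => (h.hT t).1 ht
  have habe : (a * b) * e₂ * (a * b)⁻¹ = e₁ * e₂ := by
    have h2 := hT a h.a_mem_T e₁ he₁A he₁E
    have h3 := hT a h.a_mem_T e₀ h.e₀A h.e₀E
    calc (a * b) * e₂ * (a * b)⁻¹ = a * (b * e₂ * b⁻¹) * a⁻¹ := by group
      _ = a * (e₁ * e₀ * e₂) * a⁻¹ := by rw [hbe]
      _ = (a * e₁ * a⁻¹) * (a * e₀ * a⁻¹) * (a * e₂ * a⁻¹) := by group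
      _ = (e₁ * a * a⁻¹) * (e₀ * a * a⁻¹) * (e₀ * e₂) := by rw [h2, h3, hae]
      _ = e₁ * (e₀ * e₀) * e₂ := by group
      _ = e₁ * e₂ := by rw [h.four.setup.E_sq e₀ h.e₀E, mul_one]
  have habT : a * b ∈ T := T.mul_mem h.a_mem_T hbT
  -- if `t` and `t'` in `T` act in the same way on `e₂`, then `t⁻¹ t' ∈ C`
  have hsame : ∀ t ∈ T, ∀ t' ∈ T, t * e₂ * t⁻¹ = t' * e₂ * t'⁻¹ → t⁻¹ * t' ∈ C := by
    intro t ht t' ht' htt
    apply h.mem_C_of_comm (T.mul_mem (T.inv_mem ht) ht')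
    calc t⁻¹ * t' * e₂ = t⁻¹ * (t' * e₂ * t'⁻¹) * t' := by group
      _ = t⁻¹ * (t * e₂ * t⁻¹) * t' := by rw [htt]
      _ = e₂ * (t⁻¹ * t') := by group
  -- index 2 subgroup `W` of `C` containing `E`
  obtain ⟨W, hEW, hWC, hW2⟩ := exists_index_two h.four.setup.pgroup C E h.E_le_C
    (fun hle => h.yE (hle h.yC))
  have hsqW : ∀ x ∈ C, x * x ∈ W := by
    intro x hx
    by_cases hxW : x ∈ W
    · exact W.mul_mem hxW hxW
    · exact mul_mem_of_relIndex_two hW2 hx hx hxW hxW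
  have haxW : ∀ x ∈ C, a * x * a⁻¹ * x⁻¹ ∈ W := by
    intro x hx
    have h2 := W.mul_mem (hEW (hinv x hx)) (W.inv_mem (hsqW x hx))
    have h3 : a * x * a⁻¹ * x * (x * x)⁻¹ = a * x * a⁻¹ * x⁻¹ := by group
    rwa [h3] at h2
  have hWa : ∀ w ∈ W, a * w * a⁻¹ ∈ W := by
    intro w hw
    have h2 := W.mul_mem (hEW (hinv w (hWC hw))) (W.inv_mem hw)
    rwa [mul_inv_cancel_right] at h2
  have hbinvC : ∀ x ∈ C, b * x * b⁻¹ * x ∈ E := by
    intro x hx
    have hx' : l⁻¹ * x * l ∈ C := by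
      have := h.C_conj l⁻¹ hx
      rwa [inv_inv] at this
    have h2 := h.four.setup.E_conj l _ (hinv _ hx')
    have h3 : l * (a * (l⁻¹ * x * l) * a⁻¹ * (l⁻¹ * x * l)) * l⁻¹ = b * x * b⁻¹ * x := by
      rw [hb]; group
    rwa [h3] at h2
  have hWb : ∀ w ∈ W, b * w * b⁻¹ ∈ W := by
    intro w hw
    have h2 := W.mul_mem (hEW (hbinvC w (hWC hw))) (W.inv_mem hw)
    rwa [mul_inv_cancel_right] at h2
  -- `(ab)² ∈ W`
  have hx : (a * b)⁻¹ * k ∈ C := hsame _ habT _ hkT (by rw [habe, hke])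
  set x := (a * b)⁻¹ * k with hxdef
  have hkx : k = (a * b) * x := by rw [hxdef, mul_inv_cancel_left]
  have hab2 : (a * b) * (a * b) ∈ W := by
    obtain ⟨c, hc, hkc⟩ := hkk
    have hkkW : k * k ∈ W := by rw [hkc]; exact hsqW c hc
    -- `(ab)⁻¹ x (ab) x ∈ W`
    have h2 : (a * b)⁻¹ * x * (a * b) * x ∈ W := by
      -- `a⁻¹ x a = u x⁻¹`, `b⁻¹ x⁻¹ b = v x`
      have h3 : a⁻¹ * x * a * x ∈ E := by
        have := hinv x hx
        rw [h.four.a_inv] at this ⊢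
        exact this
      set u := a⁻¹ * x * a * x with hu
      have h4 : b⁻¹ * x⁻¹ * b * x⁻¹ ∈ E := by
        have := hbinvC x⁻¹ (C.inv_mem hx)
        rw [hbinv] at this ⊢
        exact this
      set v := b⁻¹ * x⁻¹ * b * x⁻¹ with hv
      have h5 : (a * b)⁻¹ * x * (a * b) * x = (b⁻¹ * u * b) * v * (x * x) := by
        rw [hu, hv]; group
      rw [h5]
      refine W.mul_mem (W.mul_mem (hEW ?_) (hEW h4)) (hsqW x hx)
      have := h.four.setup.E_conj b⁻¹ u h3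
      rwa [inv_inv] at this
    have h6 : (a * b) * (a * b) = (k * k) * ((a * b)⁻¹ * x * (a * b) * x)⁻¹ := by
      rw [hkx]; group
    rw [h6]
    exact W.mul_mem hkkW (W.inv_mem h2)
  have habW : a * b * a⁻¹ * b⁻¹ ∈ W := by
    rw [h.four.a_inv, hbinv]
    have : a * b * a * b = (a * b) * (a * b) := by group
    rw [this]
    exact hab2
  have haabW : a * (a * b) * a⁻¹ * (a * b)⁻¹ ∈ W := by
    have h2 := W.inv_mem hab2
    have h3 : ((a * b) * (a * b))⁻¹ = a * (a * b) * a⁻¹ * (a * b)⁻¹ := by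
      have h4 : ((a * b) * (a * b))⁻¹ = b⁻¹ * a⁻¹ * (a * b)⁻¹ := by group
      rw [h4, hbinv]
      calc b * a⁻¹ * (a * b)⁻¹ = (a * a) * b * a⁻¹ * (a * b)⁻¹ := by rw [h.four.a_sq, one_mul]
        _ = a * (a * b) * a⁻¹ * (a * b)⁻¹ := by group
    rwa [h3] at h2
  -- all commutators `[a, t]` lie in `W`
  have hall : ∀ t ∈ T, a * t * a⁻¹ * t⁻¹ ∈ W := by
    intro t ht
    obtain ⟨hvA, hvE⟩ := h.comm_e2_mem ht
    set v := t * e₂ * t⁻¹ * e₂⁻¹ with hv
    have hte : t * e₂ * t⁻¹ = v * e₂ := by rw [hv]; group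
    have hprod : ∀ w : S, w⁻¹ * t ∈ C → a * w * a⁻¹ * w⁻¹ ∈ W →
        (∀ z ∈ W, w * z * w⁻¹ ∈ W) → a * t * a⁻¹ * t⁻¹ ∈ W := by
      intro w hwt hw1 hw2
      have h2 : t = w * (w⁻¹ * t) := by rw [mul_inv_cancel_left]
      rw [h2, FourY.comm_mul]
      exact W.mul_mem hw1 (hw2 _ (haxW _ hwt))
    by_cases hv1 : v = 1
    · apply hprod 1
      · rw [inv_one, one_mul]
        apply h.mem_C_of_comm ht
        rw [hv1, one_mul, mul_inv_eq_iff_eq_mul] at hte
        exact hte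
      · simp
      · intro z hz; simpa using hz
    by_cases hv0 : v = e₀
    · apply hprod a
      · exact hsame a h.a_mem_T t ht (by rw [hae, hte, hv0])
      · have : a * a * a⁻¹ * a⁻¹ = 1 := by group
        rw [this]
        exact W.one_mem
      · exact hWa
    rcases h.cases_B hvA hvE he₁A he₁E hv1 hv0 h1 h0 with h2 | h2
    · -- `v = e₁`
      have hve : v = e₁ := by
        have h3 : v = e₁⁻¹ := eq_inv_of_mul_eq_one_left h2
        rw [h3]
        exact inv_eq_of_mul_eq_one_left (h.four.setup.E_sq e₁ he₁E)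
      apply hprod (a * b)
      · exact hsame _ habT t ht (by rw [habe, hte, hve])
      · exact haabW
      · intro z hz
        have := hWa _ (hWb z hz)
        have h4 : a * (b * z * b⁻¹) * a⁻¹ = a * b * z * (a * b)⁻¹ := by group
        rwa [h4] at this
    · have hve : v = e₁ * e₀ := by
        have h3 : v = e₀ * e₁⁻¹ := by rw [← h2, mul_inv_cancel_right]
        rw [h3, inv_eq_of_mul_eq_one_left (h.four.setup.E_sq e₁ he₁E)]
        exact h.four.setup.E_comm e₀ h.e₀E e₁ he₁E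
      apply hprod b
      · exact hsame b hbT t ht (by rw [hbe, hte, hve])
      · exact habW
      · exact hWb
  -- `|T : C| ≥ 4`
  have hbC : b ∉ C := by
    intro hc
    have h2 := (h.hC b).1 hc e₂ h.e₂E
    have h3 : b * e₂ * b⁻¹ = e₂ := by rw [h2]; group
    rw [hbe] at h3
    have h4 : e₁ * e₀ = 1 := mul_eq_right.1 h3
    exact h0 (by
      rw [eq_inv_of_mul_eq_one_left h4]
      exact inv_eq_of_mul_eq_one_left (h.four.setup.E_sq e₀ h.e₀E))
  have hT4 : 4 ≤ C.relIndex T := by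
    obtain ⟨n, hn⟩ := relIndex_two_pow h.four.setup.pgroup h.C_le_T
    have hne1 : C.relIndex T ≠ 1 := by
      intro h2
      rw [relIndex_eq_one] at h2
      exact h.a_not_mem_C (h2 h.a_mem_T)
    have hne2 : C.relIndex T ≠ 2 := by
      intro h2
      have h3 := mul_mem_of_relIndex_two h2 h.a_mem_T hbT h.a_not_mem_C hbC
      have h4 := (h.hC _).1 h3 e₂ h.e₂E
      have h5 : a * b * e₂ * (a * b)⁻¹ = e₂ := by rw [h4]; group
      rw [habe] at h5
      exact h1 (mul_eq_right.1 h5)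
    rw [hn] at hne1 hne2 ⊢
    rcases n with _ | _ | n
    · simp at hne1
    · simp at hne2
    · have : 1 ≤ 2 ^ n := Nat.one_le_two_pow
      rw [pow_succ, pow_succ]
      omega
  have hcT := card_mul_relIndex h.C_le_T
  have hcC := card_mul_relIndex hWC
  rw [hW2] at hcC
  have hWpos : 0 < Nat.card W := Nat.card_pos
  have hle : 8 * Nat.card W ≤ Nat.card T := by
    rw [← hcT, ← hcC]
    calc 8 * Nat.card W = Nat.card W * 2 * 4 := by ring
      _ ≤ Nat.card W * 2 * C.relIndex T := Nat.mul_le_mul_left _ hT4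
  have h2 := (count_mod E T W a 4 (h.E_le_C.trans h.C_le_T) hEW hall (card_fix_T h)
    (by omega)).1
  omega

/-- the case of abelian `C_S(E)` -/
theorem abelian_case (h : FourY A E C T a y e₀ e₂) (hab : ∀ x ∈ C, ∀ u ∈ C, x * u = u * x)
    (hmax : ∀ F : Subgroup S, E ≤ F → (∀ g : S, ∀ f ∈ F, g * f * g⁻¹ ∈ F) →
      (∀ a ∈ F, ∀ b ∈ F, a * b = b * a) → (∀ a ∈ F, a * a = 1) → Nat.card F ≤ 8)
    (K : Subgroup S) : GenLE 4 K := by
  have hCn := h.C_normal
  have hΩ : ∀ x ∈ C, x * x = 1 → x ∈ E := fun x hx hxx => omega_le h hab hmax hx hxx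
  have hinv : ∀ x ∈ C, a * x * a⁻¹ * x ∈ E := fun x hx => inv_of_abelian h hab hx
  have h1 : y * y ≠ 1 := fun hc => h.yE (hΩ y h.yC hc)
  have hsqE : ∀ x ∈ C, x * x ∈ E → x * x = 1 ∨ x * x = y * y := by
    intro x hx hxx
    rcases cases_sq h hx (hinv x hx) hxx with h2 | h2
    · left; exact h.four.setup.E_sq x h2
    · right; exact h.sq_eq h2
  intro N hN hsq
  rw [relIndex_eq_mul C hN]
  set π := QuotientGroup.mk' C with hπ
  have hgen : (N.map π).relIndex (K.map π) ≤ 4 := by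
    have h2 := Cfsg.Agent.TwoFusion.HaradaEightSelf.genLE_two_map h.four.setup.pgroup E C
      h.four.setup.E_conj h.four.setup.E_comm h.four.setup.E_sq h.four.hE h.hC (K.map π)
      (N.map π) (map_mono hN) (by
        rintro _ ⟨k, hk, rfl⟩
        exact ⟨k * k, hsq k hk, map_mul _ _ _⟩)
    simpa using h2
  by_cases hle4 : (N ⊓ C).relIndex (K ⊓ C) ≤ 4
  · calc (N.map π).relIndex (K.map π) * (N ⊓ C).relIndex (K ⊓ C) ≤ 4 * 4 :=
        Nat.mul_le_mul hgen hle4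
      _ = 2 ^ 4 := by norm_num
  push Not at hle4
  obtain ⟨hEL, hrel8, hsquares⟩ := relIndex_of_abelian (K ⊓ C) (N ⊓ C) E
    (inf_le_inf_right _ hN) (fun l hl => ⟨hsq l hl.1, C.mul_mem hl.2 hl.2⟩)
    (fun x hx u hu => hab x hx.2 u hu.2) h.four.hE (fun l hl hll => hΩ l hl.2 hll) hle4
  rw [hrel8]
  have hEK : E ≤ K := hEL.trans inf_le_left
  suffices hK2 : Nat.card (K.map π) ≤ 2 by
    have hK : (N.map π).relIndex (K.map π) ≤ Nat.card (K.map π) := by
      have h2 := card_mul_relIndex (map_mono (f := π) hN)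
      have h3 : 0 < Nat.card (N.map π) := Nat.card_pos
      calc (N.map π).relIndex (K.map π) ≤ Nat.card (N.map π) * (N.map π).relIndex (K.map π) :=
            Nat.le_mul_of_pos_left _ h3
        _ = Nat.card (K.map π) := h2
    calc (N.map π).relIndex (K.map π) * 8 ≤ 2 * 8 := Nat.mul_le_mul_right _ (hK.trans hK2)
      _ = 2 ^ 4 := by norm_num
  by_contra hcon
  -- commutators `[k, e]`
  have hNE : ∀ n ∈ N, n ∈ E → n = 1 ∨ n = y * y := by
    intro n hn hnE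
    obtain ⟨l, hl, hll⟩ := hsquares n ⟨hn, h.E_le_C hnE⟩
    have h2 := hsqE l hl.2 (by rw [hll]; exact hnE)
    rwa [hll] at h2
  have hKE : ∀ k ∈ K, ∀ e ∈ E, k * e * k⁻¹ * e⁻¹ = 1 ∨ k * e * k⁻¹ * e⁻¹ = y * y := by
    intro k hk e he
    exact hNE _ (comm_mem_of_sq hN hsq hk (hEK he))
      (E.mul_mem (h.four.setup.E_conj k e he) (E.inv_mem he))
  -- (i) an element `k ∈ K ∩ T \ C`
  have hi : ∃ k ∈ K, k ∈ T ∧ k ∉ C := by
    by_contra hno
    push Not at hno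
    apply hcon
    apply card_map_le_two C K
    intro k hk k' hk' hkC hkC'
    have hkT : k ∉ T := fun hc => hkC (hno k hk hc)
    have hkT' : k' ∉ T := fun hc => hkC' (hno k' hk' hc)
    apply hno _ (K.mul_mem (K.inv_mem hk) hk')
    rw [h.hT] at hkT hkT' ⊢
    push Not at hkT hkT'
    obtain ⟨b, hbA, hbE, hkb⟩ := hkT
    obtain ⟨b', hbA', hbE', hkb'⟩ := hkT'
    -- `A ∩ E = {1, e₁, b, b e₁}`
    have hcen := h.e1_central
    have hcomm_of : ∀ g x : S, g * x * g⁻¹ * x⁻¹ = 1 → g * x = x * g := by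
      intro g x hgx
      rw [mul_inv_eq_one, mul_inv_eq_iff_eq_mul] at hgx
      exact hgx
    have hkb1 : k * b * k⁻¹ = y * y * b := by
      rcases hKE k hk b hbE with h2 | h2
      · exact absurd (hcomm_of _ _ h2) hkb
      · rw [← h2]; group
    have hkb1' : k' * b' * k'⁻¹ = y * y * b' := by
      rcases hKE k' hk' b' hbE' with h2 | h2
      · exact absurd (hcomm_of _ _ h2) hkb'
      · rw [← h2]; group
    have he₁E := h.hyy
    have he₁A := h.e1_mem_A
    have hsq1 := h.four.setup.E_sq _ he₁E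
    set e₁ := y * y with he₁
    -- relative index of `⟨e₁⟩` in `A ∩ E`
    have hord : orderOf e₁ = 2 := orderOf_eq_prime (by rw [pow_two]; exact hsq1) h1
    have hcard : Nat.card (zpowers e₁) = 2 := by rw [Nat.card_zpowers, hord]
    have hle : zpowers e₁ ≤ A ⊓ E := by
      rw [zpowers_le]
      exact ⟨he₁A, he₁E⟩
    have hrel := card_mul_relIndex hle
    rw [hcard, h.four.hAE] at hrel
    have hrel2 : (zpowers e₁).relIndex (A ⊓ E) = 2 := by omega
    have hcz : ∀ g x : S, x ∈ zpowers e₁ → g * x = x * g := by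
      intro g x hx
      obtain ⟨m, rfl⟩ := mem_zpowers_iff.1 hx
      exact (Commute.zpow_right (show Commute g e₁ from hcen g) m)
    have hbz : b ∉ zpowers e₁ := fun hc => hkb (hcz k b hc)
    have hbz' : b' ∉ zpowers e₁ := fun hc => hkb' (hcz k' b' hc)
    have hbb' := mul_mem_of_relIndex_two hrel2 ⟨hbA, hbE⟩ ⟨hbA', hbE'⟩ hbz hbz'
    -- `k'` also moves `b` to `e₁ b`
    have hkb2 : k' * b * k'⁻¹ = e₁ * b := by
      have h2 := hcz k' _ hbb'
      have h3 : b = (b * b') * b'⁻¹ := by group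
      have hb'inv : b'⁻¹ = b' := inv_eq_of_mul_eq_one_left (h.four.setup.E_sq b' hbE')
      calc k' * b * k'⁻¹ = (k' * (b * b')) * b'⁻¹ * k'⁻¹ := by group
        _ = (b * b') * (k' * b' * k'⁻¹) := by rw [h2, hb'inv]; group
        _ = b * b' * (e₁ * b') := by rw [hkb1']
        _ = b * (b' * e₁) * b' := by group
        _ = b * (e₁ * b') * b' := by rw [hcen b']
        _ = (b * e₁) * (b' * b') := by group
        _ = e₁ * b := by rw [h.four.setup.E_sq b' hbE', hcen b, mul_one]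
    have hkk : (k⁻¹ * k') * b = b * (k⁻¹ * k') := by
      calc (k⁻¹ * k') * b = k⁻¹ * (k' * b * k'⁻¹) * k' := by group
        _ = k⁻¹ * (k * b * k⁻¹) * k' := by rw [hkb2, hkb1]
        _ = b * (k⁻¹ * k') := by group
    intro x hxA hxE
    by_cases hxz : x ∈ zpowers e₁
    · exact hcz _ x hxz
    · have h2 := mul_mem_of_relIndex_two hrel2 ⟨hbA, hbE⟩ ⟨hxA, hxE⟩ hbz hxz
      have h3 := hcz (k⁻¹ * k') _ h2
      have h4 : b * ((k⁻¹ * k') * x) = b * (x * (k⁻¹ * k')) := by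
        calc b * ((k⁻¹ * k') * x) = (b * (k⁻¹ * k')) * x := by group
          _ = ((k⁻¹ * k') * b) * x := by rw [hkk]
          _ = (k⁻¹ * k') * (b * x) := by group
          _ = (b * x) * (k⁻¹ * k') := h3
          _ = b * (x * (k⁻¹ * k')) := by group
      exact mul_left_cancel h4
  -- (ii) an element `l ∈ K \ T`
  have hke2 : ∀ k ∈ K, k ∈ T → k ∉ C → k * e₂ * k⁻¹ = y * y * e₂ := by
    intro k hk hkT hkC
    rcases hKE k hk e₂ h.e₂E with h2 | h2
    · exfalso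
      apply hkC
      apply h.mem_C_of_comm hkT
      rw [mul_inv_eq_one, mul_inv_eq_iff_eq_mul] at h2
      exact h2
    · rw [← h2]; group
  have hii : ∃ l ∈ K, l ∉ T := by
    by_contra hno
    push Not at hno
    apply hcon
    apply card_map_le_two C K
    intro k hk k' hk' hkC hkC'
    apply h.mem_C_of_comm (T.mul_mem (T.inv_mem (hno k hk)) (hno k' hk'))
    calc k⁻¹ * k' * e₂ = k⁻¹ * (k' * e₂ * k'⁻¹) * k' := by group
      _ = k⁻¹ * (k * e₂ * k⁻¹) * k' := by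
        rw [hke2 k hk (hno k hk) hkC, hke2 k' hk' (hno k' hk') hkC']
      _ = e₂ * (k⁻¹ * k') := by group
  obtain ⟨k, hk, hkT, hkC⟩ := hi
  obtain ⟨l, hl, hlT⟩ := hii
  have hke := hke2 k hk hkT hkC
  have he₁N : y * y ∈ N := by
    have h2 := comm_mem_of_sq hN hsq hk (hEK h.e₂E)
    have h3 : k * e₂ * k⁻¹ * e₂⁻¹ = y * y := by rw [hke]; group
    rwa [h3] at h2
  -- (iii) `y ∈ K`
  have hyK : y ∈ K := by
    have hne : ¬ K ⊓ C ≤ E := by
      intro hle
      obtain ⟨d, hd, hdd⟩ := hsquares (y * y) ⟨he₁N, h.E_le_C h.hyy⟩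
      exact h1 (by rw [← hdd, h.four.setup.E_sq d (hle hd)])
    obtain ⟨d, hd, hdE, -, hdd⟩ := exists_central_mod h.four.setup.pgroup (K ⊓ C) (K ⊓ C) E hEL hne
      le_rfl (fun g hg c hc => (K ⊓ C).mul_mem ((K ⊓ C).mul_mem hg hc) ((K ⊓ C).inv_mem hg))
      (fun g _ e he => h.four.setup.E_conj g e he)
    have hdy := (cases_sq h hd.2 (hinv d hd.2) hdd).resolve_left hdE
    have h2 := K.mul_mem (K.inv_mem (hEK hdy)) hd.1
    have h3 : (d * y⁻¹)⁻¹ * d = y := by group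
    rwa [h3] at h2
  have hae : a * e₂ * a⁻¹ = e₀ * e₂ := by rw [← h.he₀ e₂ h.e₂E h.e₂A]; group
  -- (v) `e₁ ≠ e₀`
  have h0 : y * y ≠ e₀ := by
    intro heq
    have hx : a⁻¹ * k ∈ C := by
      apply h.mem_C_of_comm (T.mul_mem (T.inv_mem h.a_mem_T) hkT)
      calc a⁻¹ * k * e₂ = a⁻¹ * (k * e₂ * k⁻¹) * k := by group
        _ = a⁻¹ * (a * e₂ * a⁻¹) * k := by rw [hke, hae, heq]
        _ = e₂ * (a⁻¹ * k) := by group
    have h2 := comm_mem_of_sq hN hsq hk hyK
    have h3 : k * y * k⁻¹ * y⁻¹ = a * y * a⁻¹ * y⁻¹ := by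
      have h4 := hab _ hx y h.yC
      calc k * y * k⁻¹ * y⁻¹ = a * ((a⁻¹ * k) * y) * (a⁻¹ * k)⁻¹ * a⁻¹ * y⁻¹ := by group
        _ = a * y * a⁻¹ * y⁻¹ := by rw [h4]; group
    rw [h3] at h2
    obtain ⟨-, hyE, hy1, hy0⟩ := h.y_comm_mem
    rcases hNE _ h2 hyE with h5 | h5
    · exact hy1 h5
    · exact hy0 (h5.trans heq)
  -- (vi) `l e₀ l⁻¹ = e₁ e₀`
  have hle₀ : l * e₀ * l⁻¹ = y * y * e₀ := by
    rcases hKE l hl e₀ h.e₀E with h2 | h2
    · exfalso
      apply hlT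
      apply mem_T_of_comm_e0 h h1 h0
      rw [mul_inv_eq_one, mul_inv_eq_iff_eq_mul] at h2
      exact h2
    · rw [← h2]; group
  refine abelian_contra h hab h1 h0 l k hle₀ ?_ hkT hke ?_
  · intro b hbA hbE
    rcases hKE l⁻¹ (K.inv_mem hl) b hbE with h2 | h2
    · have h3 : l⁻¹ * b * l = b := by
        rw [inv_inv, mul_inv_eq_one] at h2
        exact h2
      rw [h3]; exact hbA
    · have h3 : l⁻¹ * b * l = y * y * b := by
        rw [inv_inv, mul_inv_eq_iff_eq_mul] at h2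
        exact h2
      rw [h3]; exact A.mul_mem h.e1_mem_A hbA
  · -- `k² ∈ N ∩ C` is a square in `C`
    have hkkC : k * k ∈ C := by
      apply h.mem_C_of_comm (T.mul_mem hkT hkT)
      have h2 := (h.hT k).1 hkT _ h.e1_mem_A h.hyy
      calc k * k * e₂ = k * (k * e₂ * k⁻¹) * k := by group
        _ = k * (y * y * e₂) * k := by rw [hke]
        _ = (k * (y * y)) * e₂ * k := by group
        _ = (y * y * k) * e₂ * k := by rw [h2]
        _ = (y * y) * (k * e₂ * k⁻¹) * (k * k) := by group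
        _ = (y * y) * (y * y * e₂) * (k * k) := by rw [hke]
        _ = ((y * y) * (y * y)) * e₂ * (k * k) := by group
        _ = e₂ * (k * k) := by rw [h.four.setup.E_sq _ h.hyy, one_mul]
    obtain ⟨c, hc, hcc⟩ := hsquares (k * k) ⟨hsq k hk, hkkC⟩
    exact ⟨c, hc.2, hcc.symm⟩

/-- **Case `|E| = 8`, `|A ∩ E| = 4`, `C_S(E) > E`.** -/
theorem case8_four {A E : Subgroup S} (h : Setup A E) (hE : Nat.card E = 8)
    (hmax : ∀ F : Subgroup S, E ≤ F → (∀ g : S, ∀ f ∈ F, g * f * g⁻¹ ∈ F) →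
      (∀ a ∈ F, ∀ b ∈ F, a * b = b * a) → (∀ a ∈ F, a * a = 1) → Nat.card F ≤ 8)
    (hAE : Nat.card ↥(A ⊓ E) = 4) (hC : ∃ g : S, (∀ e ∈ E, g * e = e * g) ∧ g ∉ E)
    (K : Subgroup S) : GenLE 4 K := by
  obtain ⟨a, haA, haE⟩ : ∃ a ∈ A, a ∉ E := by
    by_contra hcon
    push Not at hcon
    have h1 : A ⊓ E = A := inf_eq_left.2 hcon
    rw [h1, h.A_card] at hAE
    omega
  obtain ⟨C, T, y, e₀, e₂, h'⟩ := exists_fourY ⟨h, hE, hAE, haA, haE⟩ hC
  by_cases hab : ∀ x ∈ C, ∀ u ∈ C, x * u = u * x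
  · exact abelian_case h' hab hmax K
  · exact genLE_four h' hab K

end Cfsg.Agent.TwoFusion.HaradaEightFour
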