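import Mathlib
import Cfsg.Agent.TwoFusion.HaradaSetup
import Cfsg.Agent.TwoFusion.HaradaEightSelf

/-!
# Self-centralizing elementary abelian subgroups of order 8: the case `|E| = 8`, `|A ∩ E| = 2`
-/

set_option autoImplicit false

namespace Cfsg.Agent.TwoFusion.HaradaEightTwo

open Subgroup
open Cfsg.Agent.TwoFusion.SecRank
open Cfsg.Agent.TwoFusion.HaradaSetup
open Cfsg.Agent.TwoFusion.HaradaEightSelf

section General

variable {S : Type*} [Group S]

theorem card_dvd_of_le {H K : Subgroup S} (h : H ≤ K) : Nat.card H ∣ Nat.card K :=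
  ⟨_, (card_mul_relIndex h).symm⟩

/-- elements outside a subgroup of index at most two -/
theorem mul_inv_mem_of_index_two [Finite S] {F E : Subgroup S} (hFE : F ≤ E)
    (hc : Nat.card E ≤ 2 * Nat.card F) {x y : S} (hx : x ∈ E) (hy : y ∈ E) (hxF : x ∉ F)
    (hyF : y ∉ F) : x * y⁻¹ ∈ F := by
  have h1 := card_mul_relIndex hFE
  have h2 : F.relIndex E ≤ 2 := by
    have hpos : 0 < Nat.card F := Nat.card_pos
    by_contra h3
    push Not at h3
    nlinarith
  have h3 : (F.subgroupOf E).index = 2 := by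
    have h4 : (F.subgroupOf E).index ≠ 1 := by
      intro h5
      rw [Subgroup.index_eq_one, Subgroup.subgroupOf_eq_top] at h5
      exact hxF (h5 hx)
    have h5 : (F.subgroupOf E).index ≠ 0 := Subgroup.index_ne_zero_of_finite
    have h6 : (F.subgroupOf E).index ≤ 2 := h2
    omega
  have h4 := Subgroup.mul_mem_iff_of_index_two h3 (a := ⟨x, hx⟩) (b := ⟨y⁻¹, E.inv_mem hy⟩)
  have h5 : (⟨x, hx⟩ : E) ∉ F.subgroupOf E := fun h => hxF h
  have h6 : (⟨y⁻¹, E.inv_mem hy⟩ : E) ∉ F.subgroupOf E := fun h => hyF (by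
    have : y⁻¹ ∈ F := h
    exact (F.inv_mem_iff).1 this)
  have h7 : (⟨x, hx⟩ * ⟨y⁻¹, E.inv_mem hy⟩ : E) ∈ F.subgroupOf E :=
    h4.2 ⟨fun h => absurd h h5, fun h => absurd h h6⟩
  exact h7

/-- a subgroup of a subgroup of order 8 with more than 4 elements is everything -/
theorem eq_of_four_lt [Finite S] {B A : Subgroup S} (hBA : B ≤ A) (hA : Nat.card A = 8)
    (hB : 4 < Nat.card B) : B = A := by
  apply Subgroup.eq_of_le_of_card_ge hBA
  have h1 := card_dvd_of_le hBA
  rw [hA] at h1 ⊢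
  have h2 := Nat.le_of_dvd (by norm_num) h1
  interval_cases h : Nat.card B <;> omega

theorem two_le_card_of_ne_one [Finite S] {H : Subgroup S} {x : S} (hx : x ∈ H) (h1 : x ≠ 1) :
    2 ≤ Nat.card H := by
  have : H ≠ ⊥ := by
    rintro rfl
    exact h1 (mem_bot.1 hx)
  exact (one_lt_card_iff_ne_bot H).2 this

theorem card_le_finset [Finite S] {H : Subgroup S} {T : Finset S} (h : ∀ x ∈ H, x ∈ T) :
    Nat.card H ≤ T.card := by
  rw [← Set.ncard_coe_finset T, ← Nat.card_coe_set_eq]
  exact Nat.card_mono (Finset.finite_toSet T) (fun x hx => h x hx)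

theorem finset_card_le [Finite S] {H : Subgroup S} {T : Finset S} (h : ∀ x ∈ T, x ∈ H) :
    T.card ≤ Nat.card H := by
  rw [← Set.ncard_coe_finset T, ← Nat.card_coe_set_eq]
  exact Nat.card_mono (Set.toFinite _) (fun x hx => h x hx)

end General

section Main

variable {S : Type*} [Group S] [Finite S] {A E : Subgroup S} {z : S}

/-- the situation: `|E| = 8` and `A ∩ E = {1, z}`. -/
structure Sit (A E : Subgroup S) (z : S) : Prop where
  setup : Setup A E
  cardE : Nat.card E = 8
  zA : z ∈ A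
  zE : z ∈ E
  z1 : z ≠ 1
  AE : ∀ x, x ∈ A → x ∈ E → x = 1 ∨ x = z

theorem exists_sit (h : Setup A E) (hE : Nat.card E = 8) (hAE : Nat.card ↥(A ⊓ E) ≤ 2) :
    ∃ z, Sit A E z := by
  classical
  obtain ⟨x, hxE, hx1, hxA, -⟩ := exists_fixed h.pgroup A E ⊥ bot_le
    (by
      intro hle
      have := Subgroup.card_le_of_le hle
      rw [hE, Subgroup.card_bot] at this
      omega)
    (fun a _ c hc => h.E_conj a c hc)
    (fun a _ n hn => by rw [mem_bot] at hn ⊢; rw [hn]; group)
    (fun a _ n hn => by rw [mem_bot] at hn ⊢; rw [hn]; group)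
  have hx1' : x ≠ 1 := fun e => hx1 (mem_bot.2 e)
  have hxmem : x ∈ A := by
    apply h.A_cent
    intro a ha
    have := mem_bot.1 (hxA a ha)
    rw [mul_inv_eq_one, mul_inv_eq_iff_eq_mul] at this
    exact this.symm
  refine ⟨x, h, hE, hxmem, hxE, hx1', ?_⟩
  intro y hyA hyE
  by_contra hcon
  push Not at hcon
  have h3 : (insert 1 (insert x (singleton y : Finset S))).card = 3 := by
    rw [Finset.card_insert_of_notMem, Finset.card_insert_of_notMem, Finset.card_singleton]
    · rw [Finset.mem_singleton]; exact hcon.2.symm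
    · rw [Finset.mem_insert, Finset.mem_singleton]
      push Not
      exact ⟨hx1'.symm, hcon.1.symm⟩
  have h4 := finset_card_le (H := A ⊓ E) (T := insert 1 (insert x (singleton y : Finset S))) (by
    intro t ht
    simp only [Finset.mem_insert, Finset.mem_singleton] at ht
    rcases ht with rfl | rfl | rfl
    · exact one_mem _
    · exact ⟨hxmem, hxE⟩
    · exact ⟨hyA, hyE⟩)
  omega

namespace Sit

theorem zz (s : Sit A E z) : z * z = 1 := s.setup.A_sq z s.zA

theorem cardZ (s : Sit A E z) : Nat.card (zpowers z) = 2 := by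
  rw [Nat.card_zpowers]
  exact orderOf_eq_prime (by rw [pow_two]; exact s.zz) s.z1

theorem mem_Z {x : S} (h : x = 1 ∨ x = z) : x ∈ zpowers z := by
  rcases h with rfl | rfl
  · exact one_mem _
  · exact mem_zpowers _

theorem mem_Z_iff (s : Sit A E z) {x : S} : x ∈ zpowers z ↔ (x = 1 ∨ x = z) := by
  classical
  refine ⟨fun hx => ?_, mem_Z⟩
  by_contra hcon
  push Not at hcon
  have h3 : (insert 1 (insert z (singleton x : Finset S))).card = 3 := by
    rw [Finset.card_insert_of_notMem, Finset.card_insert_of_notMem, Finset.card_singleton]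
    · rw [Finset.mem_singleton]; exact hcon.2.symm
    · rw [Finset.mem_insert, Finset.mem_singleton]
      push Not
      exact ⟨s.z1.symm, hcon.1.symm⟩
  have h4 := finset_card_le (H := zpowers z) (T := insert 1 (insert z (singleton x : Finset S))) (by
    intro t ht
    simp only [Finset.mem_insert, Finset.mem_singleton] at ht
    rcases ht with rfl | rfl | rfl
    · exact one_mem _
    · exact mem_zpowers _
    · exact hx)
  have := s.cardZ
  omega

/-- a third generator of `A` -/
theorem exists_third (s : Sit A E z) {a : S} (ha : a ∈ A) (haE : a ∉ E) :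
    ∃ a' ∈ A, a' ∉ E ∧ a * a' ∉ E ∧
      ∀ x : S, x * z = z * x → x * a = a * x → x * a' = a' * x → ∀ b ∈ A, x * b = b * x := by
  classical
  have h := s.setup
  have haa := h.A_sq a ha
  have ha1 : a ≠ 1 := by rintro rfl; exact haE (one_mem _)
  have haz : a ≠ z := by rintro rfl; exact haE s.zE
  have hex : ∃ a' ∈ A, a' ≠ 1 ∧ a' ≠ z ∧ a' ≠ a ∧ a' ≠ a * z := by
    by_contra hcon
    push Not at hcon
    have h4 := card_le_finset (H := A)
      (T := insert 1 (insert z (insert a (singleton (a * z) : Finset S)))) (by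
        intro t ht
        simp only [Finset.mem_insert, Finset.mem_singleton]
        by_cases h1 : t = 1
        · exact Or.inl h1
        by_cases h2 : t = z
        · exact Or.inr (Or.inl h2)
        by_cases h3 : t = a
        · exact Or.inr (Or.inr (Or.inl h3))
        exact Or.inr (Or.inr (Or.inr (hcon t ht h1 h2 h3))))
    have h5 : (insert 1 (insert z (insert a (singleton (a * z) : Finset S)))).card ≤ 4 :=
      Finset.card_le_four
    rw [h.A_card] at h4
    omega
  obtain ⟨a', ha', h1, h2, h3, h4⟩ := hex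
  refine ⟨a', ha', ?_, ?_, ?_⟩
  · intro hE
    rcases s.AE a' ha' hE with e | e
    · exact h1 e
    · exact h2 e
  · intro hE
    rcases s.AE (a * a') (mul_mem ha ha') hE with e | e
    · apply h3
      calc a' = (a * a) * a' := by rw [haa, one_mul]
        _ = a * (a * a') := by group
        _ = a := by rw [e, mul_one]
    · apply h4
      calc a' = (a * a) * a' := by rw [haa, one_mul]
        _ = a * (a * a') := by group
        _ = a * z := by rw [e]
  · intro x hxz hxa hxa' b hb
    have hB : A ⊓ centralizer {x} = A := by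
      apply eq_of_four_lt inf_le_left h.A_card
      have hmem : ∀ t ∈ insert 1 (insert z (insert a (insert (a * z) (singleton a' : Finset S)))),
          t ∈ A ⊓ centralizer {x} := by
        intro t ht
        simp only [Finset.mem_insert, Finset.mem_singleton] at ht
        rw [mem_inf, mem_centralizer_singleton_iff]
        rcases ht with rfl | rfl | rfl | rfl | rfl
        · exact ⟨one_mem _, by group⟩
        · exact ⟨s.zA, hxz.symm⟩
        · exact ⟨ha, hxa.symm⟩
        · refine ⟨mul_mem ha s.zA, ?_⟩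
          rw [mul_assoc, ← hxz, ← mul_assoc, ← hxa, mul_assoc]
        · exact ⟨ha', hxa'.symm⟩
      have h5 := finset_card_le hmem
      have h6 : (insert 1 (insert z (insert a (insert (a * z) (singleton a' : Finset S))))).card = 5 := by
        rw [Finset.card_insert_of_notMem, Finset.card_insert_of_notMem,
          Finset.card_insert_of_notMem, Finset.card_insert_of_notMem, Finset.card_singleton]
        · rw [Finset.mem_singleton]; exact h4.symm
        · rw [Finset.mem_insert, Finset.mem_singleton]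
          push Not
          exact ⟨fun e => s.z1 (by simpa using e.symm), h3.symm⟩
        · simp only [Finset.mem_insert, Finset.mem_singleton]
          push Not
          exact ⟨haz.symm, fun e => ha1 (by simpa using e.symm), h2.symm⟩
        · simp only [Finset.mem_insert, Finset.mem_singleton]
          push Not
          refine ⟨s.z1.symm, ha1.symm, ?_, h1.symm⟩
          intro e
          apply haz
          calc a = a * (z * z) := by rw [s.zz, mul_one]
            _ = (a * z) * z := by group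
            _ = z := by rw [← e, one_mul]
      omega
    have h7 : b ∈ A ⊓ centralizer {x} := by rw [hB]; exact hb
    exact (mem_centralizer_singleton_iff.1 h7.2).symm

/-- an element of `E` commuting with `a, a'` is in `{1, z}`. -/
theorem eq_of_comm (s : Sit A E z) {a a' : S}
    (h3 : ∀ x : S, x * z = z * x → x * a = a * x → x * a' = a' * x → ∀ b ∈ A, x * b = b * x)
    {x : S} (hx : x ∈ E) (hxa : x * a = a * x) (hxa' : x * a' = a' * x) : x = 1 ∨ x = z := by
  refine s.AE x ?_ hx
  apply s.setup.A_cent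
  exact h3 x (s.setup.E_comm x hx z s.zE) hxa hxa'

theorem card_fix_fix (s : Sit A E z) {a a' : S}
    (h3 : ∀ x : S, x * z = z * x → x * a = a * x → x * a' = a' * x → ∀ b ∈ A, x * b = b * x) :
    Nat.card (fix (fix E a) a') ≤ 2 := by
  rw [← s.cardZ]
  apply Subgroup.card_le_of_le
  intro x hx
  rw [mem_fix, mem_fix] at hx
  exact mem_Z (s.eq_of_comm h3 hx.1.1 hx.1.2 hx.2)

theorem card_fix (s : Sit A E z) {a : S} (ha : a ∈ A) (haE : a ∉ E) : Nat.card (fix E a) = 4 := by
  have h := s.setup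
  obtain ⟨a', ha', -, -, h3⟩ := s.exists_third ha haE
  have h1 := card_le_card_fix_sq E a (h.A_sq a ha) (h.E_conj a) h.E_comm h.E_sq
  have h2 := card_le_card_fix_sq (fix E a) a' (h.A_sq a' ha')
    (by
      intro u hu
      rw [mem_fix] at hu ⊢
      refine ⟨h.E_conj a' u hu.1, ?_⟩
      have h5 := h.A_comm a ha a' ha'
      have h6 : a'⁻¹ * a = a * a'⁻¹ := by
        rw [inv_mul_eq_iff_eq_mul, ← mul_assoc, ← h5, mul_assoc, mul_inv_cancel, mul_one]
      calc a' * u * a'⁻¹ * a = a' * u * (a'⁻¹ * a) := by group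
        _ = a' * (u * a) * a'⁻¹ := by rw [h6]; group
        _ = (a' * a) * u * a'⁻¹ := by rw [hu.2]; group
        _ = a * (a' * u * a'⁻¹) := by rw [← h5]; group)
    (fun u hu v hv => h.E_comm u (mem_fix.1 hu).1 v (mem_fix.1 hv).1)
    (fun u hu => h.E_sq u (mem_fix.1 hu).1)
  have h4 := s.card_fix_fix h3
  have h5 := card_dvd_of_le (H := fix E a) (K := E) inf_le_left
  rw [s.cardE] at h1 h5
  have h6 : Nat.card (fix E a) ≤ 4 := h2.trans (by
    calc Nat.card (fix (fix E a) a') ^ 2 ≤ 2 ^ 2 := Nat.pow_le_pow_left h4 2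
      _ = 4 := by norm_num)
  clear h2 h4
  generalize Nat.card (fix E a) = n at h1 h5 h6
  have h7 : 3 ≤ n := by nlinarith
  have h8 : n = 3 ∨ n = 4 := by omega
  rcases h8 with rfl | rfl
  · omega
  · rfl

/-- `[a, e] ∈ {1, z}` for `a ∈ A`, `e ∈ E`. -/
theorem comm_mem (s : Sit A E z) {a e : S} (ha : a ∈ A) (he : e ∈ E) :
    a * e * a⁻¹ * e⁻¹ = 1 ∨ a * e * a⁻¹ * e⁻¹ = z := by
  have h := s.setup
  by_cases haE : a ∈ E
  · left
    rw [h.E_comm a haE e he]; group
  by_cases heF : e ∈ fix E a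
  · left
    rw [← (mem_fix.1 heF).2]; group
  have hwE : a * e * a⁻¹ * e⁻¹ ∈ E := mul_mem (h.E_conj a e he) (inv_mem he)
  refine s.AE _ ?_ hwE
  apply h.A_cent
  intro b hb
  have hab := h.A_comm a ha b hb
  have he' : b * e * b⁻¹ ∈ E := h.E_conj b e he
  have heF' : b * e * b⁻¹ ∉ fix E a := by
    intro hcon
    apply heF
    rw [mem_fix] at hcon ⊢
    refine ⟨he, ?_⟩
    have h1 := hcon.2
    have h2 : a * b⁻¹ = b⁻¹ * a := by
      rw [eq_inv_mul_iff_mul_eq, ← mul_assoc, ← hab, mul_assoc, mul_inv_cancel, mul_one]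
    have h3 : b * (e * a) * b⁻¹ = b * (a * e) * b⁻¹ := by
      calc b * (e * a) * b⁻¹ = b * e * (a * b⁻¹) := by group
        _ = b * e * b⁻¹ * a := by rw [h2]; group
        _ = a * (b * e * b⁻¹) := h1
        _ = (a * b) * e * b⁻¹ := by group
        _ = b * (a * e) * b⁻¹ := by rw [hab]; group
    exact mul_left_cancel (mul_right_cancel h3)
  have hf : (b * e * b⁻¹) * e⁻¹ ∈ fix E a :=
    mul_inv_mem_of_index_two (F := fix E a) inf_le_left
      (by rw [s.cardE, s.card_fix ha haE]) he' he heF' heF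
  set f := (b * e * b⁻¹) * e⁻¹ with hfdef
  have hfe : b * e * b⁻¹ = f * e := by rw [hfdef]; group
  rw [mem_fix] at hf
  have h5 : b * (a * e * a⁻¹ * e⁻¹) * b⁻¹ = a * e * a⁻¹ * e⁻¹ := by
    have h6 : b * a * b⁻¹ = a := by rw [← hab]; group
    calc b * (a * e * a⁻¹ * e⁻¹) * b⁻¹
        = (b * a * b⁻¹) * (b * e * b⁻¹) * (b * a * b⁻¹)⁻¹ * (b * e * b⁻¹)⁻¹ := by group
      _ = a * (f * e) * a⁻¹ * (f * e)⁻¹ := by rw [h6, hfe]
      _ = (a * f) * e * a⁻¹ * e⁻¹ * f⁻¹ := by group
      _ = f * (a * e * a⁻¹ * e⁻¹) * f⁻¹ := by rw [← hf.2]; group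
      _ = (a * e * a⁻¹ * e⁻¹) * f * f⁻¹ := by rw [h.E_comm f hf.1 _ hwE]
      _ = a * e * a⁻¹ * e⁻¹ := by group
  rw [mul_inv_eq_iff_eq_mul] at h5
  exact h5.symm

/-- some `e ∈ E` has `[a, e] = z`. -/
theorem exists_comm_eq_z (s : Sit A E z) {a : S} (ha : a ∈ A) (haE : a ∉ E) :
    ∃ e ∈ E, a * e * a⁻¹ * e⁻¹ = z := by
  by_contra hcon
  push Not at hcon
  have h1 : E ≤ fix E a := by
    intro e he
    rw [mem_fix]
    refine ⟨he, ?_⟩
    rcases s.comm_mem ha he with h2 | h2
    · rw [mul_inv_eq_one, mul_inv_eq_iff_eq_mul] at h2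
      exact h2.symm
    · exact absurd h2 (hcon e he)
  have h2 := Subgroup.card_le_of_le h1
  rw [s.cardE, s.card_fix ha haE] at h2
  omega

/-- `C_A(E) ≤ E`. -/
theorem mem_E_of_mem_A (s : Sit A E z) {x : S} (hx : ∀ e ∈ E, x * e = e * x) (hxA : x ∈ A) :
    x ∈ E := by
  by_contra hxE
  obtain ⟨e, he, h1⟩ := s.exists_comm_eq_z hxA hxE
  rw [hx e he] at h1
  apply s.z1
  rw [← h1]; group

/-- commutator with an involution is inverted by it -/
theorem comm_inv_of_sq {a x : S} (ha : a * a = 1) (hw : (a * x * a⁻¹ * x⁻¹) * (a * x * a⁻¹ * x⁻¹) = 1) :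
    (a * x * a⁻¹ * x⁻¹) * a = a * (a * x * a⁻¹ * x⁻¹) := by
  have ha' : a⁻¹ = a := inv_eq_of_mul_eq_one_left ha
  have hw' : (a * x * a⁻¹ * x⁻¹)⁻¹ = a * x * a⁻¹ * x⁻¹ := inv_eq_of_mul_eq_one_left hw
  have h1 : a * (a * x * a⁻¹ * x⁻¹) = (a * a) * x * a⁻¹ * x⁻¹ := by group
  rw [h1, ha, one_mul]
  have h2 : (a * x * a⁻¹ * x⁻¹) * a = (a * x * a⁻¹ * x⁻¹)⁻¹ * a := by rw [hw']
  rw [h2]
  have h3 : (a * x * a⁻¹ * x⁻¹)⁻¹ * a = x * a * x⁻¹ * (a⁻¹ * a) := by group
  rw [h3, inv_mul_cancel, mul_one, ha']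

/-- (b) `C_C(a) ≤ E` where `C = C_S(E)`. -/
theorem mem_E_of_comm (s : Sit A E z) {a : S} (ha : a ∈ A) (haE : a ∉ E) {x : S}
    (hxC : ∀ e ∈ E, x * e = e * x) (hxa : x * a = a * x) : x ∈ E := by
  have h := s.setup
  set D : Subgroup S := centralizer (E : Set S) ⊓ centralizer {a} with hD
  have hDmem : ∀ t, t ∈ D ↔ (∀ e ∈ E, t * e = e * t) ∧ t * a = a * t := by
    intro t
    rw [hD, mem_inf, mem_centralizer_singleton_iff, mem_centralizer_iff]
    constructor
    · rintro ⟨h1, h2⟩; exact ⟨fun e he => (h1 e he).symm, h2⟩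
    · rintro ⟨h1, h2⟩; exact ⟨fun e he => (h1 e he).symm, h2⟩
  suffices hle : D ≤ fix E a by
    exact (mem_fix.1 (hle ((hDmem x).2 ⟨hxC, hxa⟩))).1
  by_contra hne
  have hUD : fix E a ≤ D := by
    intro u hu
    rw [mem_fix] at hu
    rw [hDmem]
    exact ⟨fun e he => h.E_comm u hu.1 e he, hu.2⟩
  have hconjE : ∀ g : S, ∀ e ∈ E, ∃ e' ∈ E, e = g * e' * g⁻¹ := by
    intro g e he
    refine ⟨g⁻¹ * e * g, ?_, by group⟩
    have := h.E_conj g⁻¹ e he
    rwa [inv_inv] at this
  have hcommconj : ∀ b ∈ A, ∀ t, t * a = a * t → (b * t * b⁻¹) * a = a * (b * t * b⁻¹) := by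
    intro b hb t ht
    have h5 := h.A_comm a ha b hb
    have h6 : b⁻¹ * a = a * b⁻¹ := by
      rw [inv_mul_eq_iff_eq_mul, ← mul_assoc, ← h5, mul_assoc, mul_inv_cancel, mul_one]
    calc b * t * b⁻¹ * a = b * t * (b⁻¹ * a) := by group
      _ = b * (t * a) * b⁻¹ := by rw [h6]; group
      _ = (b * a) * t * b⁻¹ := by rw [ht]; group
      _ = a * (b * t * b⁻¹) := by rw [← h5]; group
  obtain ⟨y, hyD, hyU, hyA, -⟩ := exists_fixed h.pgroup A D (fix E a) hUD hne
    (by
      intro b hb c hc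
      rw [hDmem] at hc ⊢
      refine ⟨?_, hcommconj b hb c hc.2⟩
      intro e he
      obtain ⟨e', he', rfl⟩ := hconjE b e he
      calc b * c * b⁻¹ * (b * e' * b⁻¹) = b * (c * e') * b⁻¹ := by group
        _ = b * (e' * c) * b⁻¹ := by rw [hc.1 e' he']
        _ = b * e' * b⁻¹ * (b * c * b⁻¹) := by group)
    (by
      intro b hb n hn
      rw [mem_fix] at hn ⊢
      exact ⟨h.E_conj b n hn.1, hcommconj b hb n hn.2⟩)
    (by
      intro c hc n hn
      rw [hDmem] at hc
      rw [hc.1 n (mem_fix.1 hn).1, mul_assoc, mul_inv_cancel, mul_one]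
      exact hn)
  rw [hDmem] at hyD
  obtain ⟨hyE, hya⟩ := hyD
  obtain ⟨a', ha', -, -, h3⟩ := s.exists_third ha haE
  have hw := hyA a' ha'
  rw [mem_fix] at hw
  have hwa' := comm_inv_of_sq (h.A_sq a' ha') (h.E_sq _ hw.1)
  -- a general closing argument
  have close : ∀ t : S, (∀ e ∈ E, t * e = e * t) → t * a = a * t → t * a' = a' * t → t ∈ E := by
    intro t ht1 ht2 ht3
    apply s.mem_E_of_mem_A ht1
    apply h.A_cent
    exact h3 t (ht1 z s.zE) ht2 ht3
  rcases s.eq_of_comm h3 hw.1 hw.2 hwa' with hw1 | hwz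
  · apply hyU
    rw [mem_fix]
    refine ⟨close y hyE hya ?_, hya⟩
    rw [mul_inv_eq_one, mul_inv_eq_iff_eq_mul] at hw1
    exact hw1.symm
  · -- find `u ∈ fix E a` with `[a', u] = z`
    have hu : ∃ u ∈ fix E a, a' * u * a'⁻¹ * u⁻¹ = z := by
      by_contra hcon
      push Not at hcon
      have h5 : fix E a ≤ fix (fix E a) a' := by
        intro u hu
        rw [mem_fix]
        refine ⟨hu, ?_⟩
        rcases s.comm_mem ha' (mem_fix.1 hu).1 with h2 | h2
        · rw [mul_inv_eq_one, mul_inv_eq_iff_eq_mul] at h2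
          exact h2.symm
        · exact absurd h2 (hcon u hu)
      have h6 := Subgroup.card_le_of_le h5
      have h7 := s.card_fix_fix h3
      rw [s.card_fix ha haE] at h6
      omega
    obtain ⟨u, hu, hu2⟩ := hu
    rw [mem_fix] at hu
    apply hyU
    rw [mem_fix]
    refine ⟨?_, hya⟩
    have h8 : y * u ∈ E := by
      apply close
      · intro e he
        rw [mul_assoc, h.E_comm u hu.1 e he, ← mul_assoc, hyE e he, mul_assoc]
      · rw [mul_assoc, hu.2, ← mul_assoc, hya, mul_assoc]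
      · have h9 : a' * (y * u) * a'⁻¹ = y * u := by
          calc a' * (y * u) * a'⁻¹ = (a' * y * a'⁻¹ * y⁻¹) * y * (a' * u * a'⁻¹ * u⁻¹) * u := by group
            _ = z * (y * z) * u := by rw [hwz, hu2]; group
            _ = (z * z) * y * u := by rw [hyE z s.zE]; group
            _ = y * u := by rw [s.zz]; group
        rw [mul_inv_eq_iff_eq_mul] at h9
        exact h9.symm
    have := mul_mem h8 (inv_mem hu.1)
    rwa [mul_assoc, mul_inv_cancel, mul_one] at this

/-- (c) for `x ∈ C ∖ E`, `[a, x] ∉ {1, z}`. -/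
theorem comm_ne (s : Sit A E z) {a : S} (ha : a ∈ A) (haE : a ∉ E) {x : S}
    (hxC : ∀ e ∈ E, x * e = e * x) (hxE : x ∉ E) : ¬ (a * x * a⁻¹ * x⁻¹ = 1 ∨ a * x * a⁻¹ * x⁻¹ = z) := by
  rintro (h1 | h1)
  · apply hxE
    apply s.mem_E_of_comm ha haE hxC
    rw [mul_inv_eq_one, mul_inv_eq_iff_eq_mul] at h1
    exact h1.symm
  · obtain ⟨e, he, h2⟩ := s.exists_comm_eq_z ha haE
    apply hxE
    have h8 : x * e ∈ E := by
      apply s.mem_E_of_comm ha haE
      · intro f hf
        rw [mul_assoc, s.setup.E_comm e he f hf, ← mul_assoc, hxC f hf, mul_assoc]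
      · have h9 : a * (x * e) * a⁻¹ = x * e := by
          calc a * (x * e) * a⁻¹ = (a * x * a⁻¹ * x⁻¹) * x * (a * e * a⁻¹ * e⁻¹) * e := by group
            _ = z * (x * z) * e := by rw [h1, h2]; group
            _ = (z * z) * x * e := by rw [hxC z s.zE]; group
            _ = x * e := by rw [s.zz]; group
        rw [mul_inv_eq_iff_eq_mul] at h9
        exact h9.symm
    have := mul_mem h8 (inv_mem he)
    rwa [mul_assoc, mul_inv_cancel, mul_one] at this

/-- (c') `C_{C/E}(a)` has order at most two. -/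
theorem mem_of_two (s : Sit A E z) {a : S} (ha : a ∈ A) (haE : a ∉ E) {x y : S}
    (hxC : ∀ e ∈ E, x * e = e * x) (hyC : ∀ e ∈ E, y * e = e * y)
    (hx : a * x * a⁻¹ * x⁻¹ ∈ E) (hy : a * y * a⁻¹ * y⁻¹ ∈ E) (hxE : x ∉ E) (hyE : y ∉ E) :
    x * y⁻¹ ∈ E := by
  have h := s.setup
  by_contra hcon
  have hUx : a * x * a⁻¹ * x⁻¹ ∈ fix E a :=
    mem_fix.2 ⟨hx, comm_inv_of_sq (h.A_sq a ha) (h.E_sq _ hx)⟩
  have hUy : a * y * a⁻¹ * y⁻¹ ∈ fix E a :=
    mem_fix.2 ⟨hy, comm_inv_of_sq (h.A_sq a ha) (h.E_sq _ hy)⟩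
  have hZU : zpowers z ≤ fix E a := by
    intro t ht
    rw [s.mem_Z_iff] at ht
    rcases ht with rfl | rfl
    · exact one_mem _
    · exact mem_fix.2 ⟨s.zE, h.A_comm _ s.zA a ha⟩
  have h1 := mul_inv_mem_of_index_two hZU (by rw [s.cardZ, s.card_fix ha haE]) hUx hUy
    (fun hm => s.comm_ne ha haE hxC hxE (s.mem_Z_iff.1 hm))
    (fun hm => s.comm_ne ha haE hyC hyE (s.mem_Z_iff.1 hm))
  rw [s.mem_Z_iff] at h1
  have hxyC : ∀ e ∈ E, (x * y⁻¹) * e = e * (x * y⁻¹) := by
    intro e he
    have h2 : y⁻¹ * e = e * y⁻¹ := by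
      rw [inv_mul_eq_iff_eq_mul, ← mul_assoc, hyC e he, mul_assoc, mul_inv_cancel, mul_one]
    rw [mul_assoc, h2, ← mul_assoc, hxC e he, mul_assoc]
  apply s.comm_ne ha haE hxyC hcon
  have h2 : a * (x * y⁻¹) * a⁻¹ * (x * y⁻¹)⁻¹ =
      (a * x * a⁻¹ * x⁻¹) * (a * y * a⁻¹ * y⁻¹)⁻¹ := by
    have h3 : (a * y * a⁻¹ * y⁻¹)⁻¹ ∈ E := inv_mem hy
    calc a * (x * y⁻¹) * a⁻¹ * (x * y⁻¹)⁻¹
        = (a * x * a⁻¹ * x⁻¹) * ((x * y⁻¹) * (a * y * a⁻¹ * y⁻¹)⁻¹) * (x * y⁻¹)⁻¹ := by group
      _ = (a * x * a⁻¹ * x⁻¹) * ((a * y * a⁻¹ * y⁻¹)⁻¹ * (x * y⁻¹)) * (x * y⁻¹)⁻¹ := by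
          rw [hxyC _ h3]
      _ = (a * x * a⁻¹ * x⁻¹) * (a * y * a⁻¹ * y⁻¹)⁻¹ := by group
  rw [h2]
  exact h1

/-- (d) `|C : E| = 2`. -/
theorem exists_y (s : Sit A E z) (hC : ∃ g : S, (∀ e ∈ E, g * e = e * g) ∧ g ∉ E) :
    ∃ y : S, (∀ e ∈ E, y * e = e * y) ∧ y ∉ E ∧ y * y ∈ E ∧ (∀ a ∈ A, a * y * a⁻¹ * y⁻¹ ∈ E) ∧
      ∀ x : S, (∀ e ∈ E, x * e = e * x) → x ∉ E → x * y⁻¹ ∈ E := by
  have h := s.setup
  set C : Subgroup S := centralizer (E : Set S) with hCdef
  have hCmem : ∀ t, t ∈ C ↔ (∀ e ∈ E, t * e = e * t) := by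
    intro t
    rw [hCdef, mem_centralizer_iff]
    exact ⟨fun h1 e he => (h1 e he).symm, fun h1 e he => (h1 e he).symm⟩
  have hEC : E ≤ C := fun e he => (hCmem e).2 (fun f hf => h.E_comm e he f hf)
  have hnle : ¬ C ≤ E := by
    obtain ⟨g, hg1, hg2⟩ := hC
    exact fun hle => hg2 (hle ((hCmem g).2 hg1))
  have hconjC : ∀ g : S, ∀ c ∈ C, g * c * g⁻¹ ∈ C := by
    intro g c hc
    rw [hCmem] at hc ⊢
    intro e he
    have he' : g⁻¹ * e * g ∈ E := by
      have := h.E_conj g⁻¹ e he
      rwa [inv_inv] at this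
    calc g * c * g⁻¹ * e = g * (c * (g⁻¹ * e * g)) * g⁻¹ := by group
      _ = g * ((g⁻¹ * e * g) * c) * g⁻¹ := by rw [hc _ he']
      _ = e * (g * c * g⁻¹) := by group
  obtain ⟨y, hyC, hyE, hyS, hyy⟩ := exists_fixed h.pgroup ⊤ C E hEC hnle
    (fun a _ c hc => hconjC a c hc) (fun a _ n hn => h.E_conj a n hn)
    (fun c _ n hn => h.E_conj c n hn)
  have hyA : ∀ a ∈ A, a * y * a⁻¹ * y⁻¹ ∈ E := fun a _ => hyS a (mem_top a)
  have hyC' := (hCmem y).1 hyC
  refine ⟨y, hyC', hyE, hyy, hyA, ?_⟩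
  -- an element of `A` outside `E`
  obtain ⟨a, ha, haE⟩ : ∃ a ∈ A, a ∉ E := by
    by_contra hcon
    push Not at hcon
    have h1 : A ≤ zpowers z := fun t ht => mem_Z (s.AE t ht (hcon t ht))
    have h2 := Subgroup.card_le_of_le h1
    rw [h.A_card, s.cardZ] at h2
    omega
  obtain ⟨a', ha', haE', haaE, -⟩ := s.exists_third ha haE
  -- the subgroup `Y`
  let Y : Subgroup S :=
    { carrier := {x | x ∈ C ∧ ∀ b ∈ A, b * x * b⁻¹ * x⁻¹ ∈ E}
      one_mem' := ⟨one_mem _, fun b _ => by
        have : b * 1 * b⁻¹ * 1⁻¹ = 1 := by group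
        rw [this]; exact one_mem _⟩
      mul_mem' := by
        rintro x w ⟨hx1, hx2⟩ ⟨hw1, hw2⟩
        refine ⟨mul_mem hx1 hw1, fun b hb => ?_⟩
        have : b * (x * w) * b⁻¹ * (x * w)⁻¹ =
          (b * x * b⁻¹ * x⁻¹) * (x * (b * w * b⁻¹ * w⁻¹) * x⁻¹) := by group
        rw [this]
        exact mul_mem (hx2 b hb) (h.E_conj x _ (hw2 b hb))
      inv_mem' := by
        rintro x ⟨hx1, hx2⟩
        refine ⟨inv_mem hx1, fun b hb => ?_⟩
        have : b * x⁻¹ * b⁻¹ * x⁻¹⁻¹ = x⁻¹ * (b * x * b⁻¹ * x⁻¹)⁻¹ * x⁻¹⁻¹ := by group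
        rw [this]
        exact h.E_conj _ _ (inv_mem (hx2 b hb)) }
  have hYmem : ∀ t, t ∈ Y ↔ t ∈ C ∧ ∀ b ∈ A, b * t * b⁻¹ * t⁻¹ ∈ E := fun t => Iff.rfl
  have hEY : E ≤ Y := fun e he => (hYmem e).2
    ⟨hEC he, fun b _ => mul_mem (h.E_conj b e he) (inv_mem he)⟩
  have hyY : y ∈ Y := (hYmem y).2 ⟨hyC, hyA⟩
  -- elements of `Y` are in `E` or `E y`
  have hYcase : ∀ t ∈ Y, t ∉ E → t * y⁻¹ ∈ E := by
    intro t ht htE
    rw [hYmem] at ht
    exact s.mem_of_two ha haE ((hCmem t).1 ht.1) hyC' (ht.2 a ha) (hyA a ha) htE hyE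
  intro x0 hx0 hx0E
  by_contra hx0y
  have hCY : ¬ C ≤ Y := fun hle => hx0y (hYcase x0 (hle ((hCmem x0).2 hx0)) hx0E)
  have hYC : Y ≤ C := fun t ht => ((hYmem t).1 ht).1
  obtain ⟨w, hwC, hwY, hwA, -⟩ := exists_fixed h.pgroup A C Y hYC hCY
    (fun a _ c hc => hconjC a c hc)
    (by
      intro b hb n hn
      rw [hYmem] at hn ⊢
      refine ⟨hconjC b n hn.1, fun d hd => ?_⟩
      have hbd := h.A_comm b hb d hd
      have h6 : d * (b * n * b⁻¹) * d⁻¹ * (b * n * b⁻¹)⁻¹ = b * (d * n * d⁻¹ * n⁻¹) * b⁻¹ := by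
        have h7 : b * (d * n * d⁻¹ * n⁻¹) * b⁻¹ = (b * d) * n * (b * d)⁻¹ * (b * n⁻¹ * b⁻¹) := by
          group
        rw [h7, hbd]
        group
      rw [h6]
      exact h.E_conj b _ (hn.2 d hd))
    (by
      intro c _ n hn
      by_cases hnE : n ∈ E
      · exact hEY (h.E_conj c n hnE)
      · -- `n = e y`
        have h1 := hYcase n hn hnE
        have h2 : c * n * c⁻¹ = (c * (n * y⁻¹) * c⁻¹) * (c * y * c⁻¹ * y⁻¹) * y := by group
        rw [h2]
        exact mul_mem (mul_mem (hEY (h.E_conj c _ h1)) (hEY (hyS c (mem_top c)))) hyY)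
  have hwE : w ∉ E := fun hw => hwY (hEY hw)
  -- it suffices to find `d ∈ A ∖ E` with `[d, w] ∈ E`
  have key : ∀ d ∈ A, d ∉ E → d * w * d⁻¹ * w⁻¹ ∈ E → False := by
    intro d hd hdE hdw
    have h1 := s.mem_of_two hd hdE ((hCmem w).1 hwC) hyC' hdw (hyA d hd) hwE hyE
    apply hwY
    have h2 := mul_mem (hEY h1) hyY
    rwa [mul_assoc, inv_mul_cancel, mul_one] at h2
  by_cases h1 : a * w * a⁻¹ * w⁻¹ ∈ E
  · exact key a ha haE h1
  by_cases h2 : a' * w * a'⁻¹ * w⁻¹ ∈ E
  · exact key a' ha' haE' h2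
  apply key (a * a') (mul_mem ha ha') haaE
  have h3 := hYcase _ (hwA a ha) h1
  have h4 := hYcase _ (hwA a' ha') h2
  have h5 : a * (a' * w * a'⁻¹ * w⁻¹) * a⁻¹ * (a' * w * a'⁻¹ * w⁻¹)⁻¹ ∈ E :=
    ((hYmem _).1 (hwA a' ha')).2 a ha
  -- `[a a', w] = a [a', w] a⁻¹ [a, w]`
  have h6 : a * a' * w * (a * a')⁻¹ * w⁻¹ =
      (a * (a' * w * a'⁻¹ * w⁻¹) * a⁻¹ * (a' * w * a'⁻¹ * w⁻¹)⁻¹) *
      ((a' * w * a'⁻¹ * w⁻¹) * y⁻¹) * (y * ((a * w * a⁻¹ * w⁻¹) * y⁻¹) * y⁻¹) * (y * y) := by
    group
  rw [h6]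
  exact mul_mem (mul_mem (mul_mem h5 h4) (h.E_conj y _ h3)) hyy

/-- (e) all elements of `C ∖ E` square to `z`; `C` is commutative. -/
theorem structure_C (s : Sit A E z) (hC : ∃ g : S, (∀ e ∈ E, g * e = e * g) ∧ g ∉ E)
    (hmax : ∀ F : Subgroup S, E ≤ F → (∀ g : S, ∀ f ∈ F, g * f * g⁻¹ ∈ F) →
      (∀ a ∈ F, ∀ b ∈ F, a * b = b * a) → (∀ a ∈ F, a * a = 1) → Nat.card F ≤ 8) :
    ∃ y : S, (∀ e ∈ E, y * e = e * y) ∧ y ∉ E ∧ y * y = z ∧
      (∀ a ∈ A, a * y * a⁻¹ * y⁻¹ ∈ E) ∧
      ∀ x : S, (∀ e ∈ E, x * e = e * x) → x ∉ E → x * y⁻¹ ∈ E ∧ x * x = z := by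
  have h := s.setup
  obtain ⟨y, hyC, hyE, hyy, hyA, hy⟩ := s.exists_y hC
  have hsq : ∀ x : S, (∀ e ∈ E, x * e = e * x) → x ∉ E → x * x = y * y := by
    intro x hx hxE
    have h1 := hy x hx hxE
    set e := x * y⁻¹ with he
    have h2 : x = e * y := by rw [he]; group
    calc x * x = (e * y) * (e * y) := by rw [← h2]
      _ = e * (y * e) * y := by group
      _ = (e * e) * (y * y) := by rw [hyC e h1]; group
      _ = y * y := by rw [h.E_sq e h1, one_mul]
  have hcommC : ∀ x : S, (∀ e ∈ E, x * e = e * x) → ∀ w : S, (∀ e ∈ E, w * e = e * w) →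
      x * w = w * x := by
    intro x hx w hw
    by_cases hxE : x ∈ E
    · exact (hw x hxE).symm
    by_cases hwE : w ∈ E
    · exact hx w hwE
    have h1 := hy x hx hxE
    have h2 := hy w hw hwE
    set e := x * y⁻¹ with he
    set f := w * y⁻¹ with hf
    have h3 : x = e * y := by rw [he]; group
    have h4 : w = f * y := by rw [hf]; group
    rw [h3, h4]
    calc e * y * (f * y) = e * (y * f) * y := by group
      _ = (e * f) * (y * y) := by rw [hyC f h2]; group
      _ = (f * e) * (y * y) := by rw [h.E_comm e h1 f h2]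
      _ = f * (e * y) * y := by group
      _ = f * (y * e) * y := by rw [hyC e h1]
      _ = f * y * (e * y) := by group
  have hyy1 : y * y ≠ 1 := by
    intro hyy1
    have hCmem : ∀ t, t ∈ centralizer (E : Set S) ↔ (∀ e ∈ E, t * e = e * t) := by
      intro t
      rw [mem_centralizer_iff]
      exact ⟨fun h1 e he => (h1 e he).symm, fun h1 e he => (h1 e he).symm⟩
    have hEC : E ≤ centralizer (E : Set S) :=
      fun e he => (hCmem e).2 (fun f hf => h.E_comm e he f hf)
    have h1 := hmax (centralizer (E : Set S)) hEC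
      (by
        intro g c hc
        rw [hCmem] at hc ⊢
        intro e he
        have he' : g⁻¹ * e * g ∈ E := by
          have := h.E_conj g⁻¹ e he
          rwa [inv_inv] at this
        calc g * c * g⁻¹ * e = g * (c * (g⁻¹ * e * g)) * g⁻¹ := by group
          _ = g * ((g⁻¹ * e * g) * c) * g⁻¹ := by rw [hc _ he']
          _ = e * (g * c * g⁻¹) := by group)
      (fun a ha b hb => hcommC a ((hCmem a).1 ha) b ((hCmem b).1 hb))
      (by
        intro a ha
        by_cases haE : a ∈ E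
        · exact h.E_sq a haE
        · rw [hsq a ((hCmem a).1 ha) haE, hyy1])
    have h2 : E = centralizer (E : Set S) :=
      Subgroup.eq_of_le_of_card_ge hEC (by rw [s.cardE]; exact h1)
    apply hyE
    rw [h2]
    exact (hCmem y).2 hyC
  have hyz : y * y = z := by
    have h1 : y * y ∈ A := by
      apply h.A_cent
      intro b hb
      have hw := hyA b hb
      set w := b * y * b⁻¹ * y⁻¹ with hwdef
      have h2 : b * y * b⁻¹ = w * y := by rw [hwdef]; group
      have h3 : b * (y * y) * b⁻¹ = y * y := by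
        calc b * (y * y) * b⁻¹ = (b * y * b⁻¹) * (b * y * b⁻¹) := by group
          _ = w * (y * w) * y := by rw [h2]; group
          _ = (w * w) * (y * y) := by rw [hyC w hw]; group
          _ = y * y := by rw [h.E_sq w hw, one_mul]
      rw [mul_inv_eq_iff_eq_mul] at h3
      exact h3.symm
    exact (s.AE _ h1 hyy).resolve_left hyy1
  exact ⟨y, hyC, hyE, hyz, hyA, fun x hx hxE => ⟨hy x hx hxE, (hsq x hx hxE).trans hyz⟩⟩

end Sit

theorem case8_two (h : Setup A E) (hE : Nat.card E = 8)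
    (hmax : ∀ F : Subgroup S, E ≤ F → (∀ g : S, ∀ f ∈ F, g * f * g⁻¹ ∈ F) →
      (∀ a ∈ F, ∀ b ∈ F, a * b = b * a) → (∀ a ∈ F, a * a = 1) → Nat.card F ≤ 8)
    (hAE : Nat.card ↥(A ⊓ E) ≤ 2) (hC : ∃ g : S, (∀ e ∈ E, g * e = e * g) ∧ g ∉ E)
    (K : Subgroup S) : GenLE 4 K := by
  obtain ⟨z, s⟩ := exists_sit h hE hAE
  obtain ⟨y, hyC, hyE, hyz, hyA, hy⟩ := s.structure_C hC hmax
  set C : Subgroup S := centralizer (E : Set S) with hCdef
  have hCmem : ∀ t, t ∈ C ↔ (∀ e ∈ E, t * e = e * t) := by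
    intro t
    rw [hCdef, mem_centralizer_iff]
    exact ⟨fun h1 e he => (h1 e he).symm, fun h1 e he => (h1 e he).symm⟩
  have hEC : E ≤ C := fun e he => (hCmem e).2 (fun f hf => h.E_comm e he f hf)
  have hCn : C.Normal := by
    constructor
    intro c hc g
    rw [hCmem] at hc ⊢
    intro e he
    have he' : g⁻¹ * e * g ∈ E := by
      have := h.E_conj g⁻¹ e he
      rwa [inv_inv] at this
    calc g * c * g⁻¹ * e = g * (c * (g⁻¹ * e * g)) * g⁻¹ := by group
      _ = g * ((g⁻¹ * e * g) * c) * g⁻¹ := by rw [hc _ he']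
      _ = e * (g * c * g⁻¹) := by group
  -- `|C| = 16`
  have hcardC : Nat.card C ≤ 16 := by
    have h1 := card_mul_relIndex hEC
    have h2 : E.relIndex C ≤ 2 := by
      have h3 : E.relIndex C ∣ 2 := by
        rw [relIndex_dvd_two_iff]
        refine ⟨y⁻¹, inv_mem ((hCmem y).2 hyC), ?_⟩
        intro b hb
        by_cases hbE : b ∈ E
        · exact Or.inr hbE
        · exact Or.inl (hy b ((hCmem b).1 hb) hbE).1
      exact Nat.le_of_dvd (by norm_num) h3
    rw [← h1, hE]
    omega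
  intro N hN hsq
  have hfac := relIndex_eq_mul C hN
  have hq : (N.map (QuotientGroup.mk' C)).relIndex (K.map (QuotientGroup.mk' C)) ≤ 4 := by
    have h1 := genLE_two_map h.pgroup E C h.E_conj h.E_comm h.E_sq hE hCmem
      (K.map (QuotientGroup.mk' C))
    refine h1 _ (map_mono hN) ?_
    rintro _ ⟨k, hk, rfl⟩
    exact ⟨k * k, hsq k hk, map_mul _ _ _⟩
  have hr := card_mul_relIndex (inf_le_inf_right C hN)
  have hrpos : 0 < Nat.card ↥(N ⊓ C) := Nat.card_pos
  set r := (N ⊓ C).relIndex (K ⊓ C) with hrdef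
  set q := (N.map (QuotientGroup.mk' C)).relIndex (K.map (QuotientGroup.mk' C)) with hqdef
  have hgoal1 : r ≤ 4 → N.relIndex K ≤ 2 ^ 4 := by
    intro h1
    rw [hfac]
    calc q * r ≤ 4 * 4 := Nat.mul_le_mul hq h1
      _ = 2 ^ 4 := by norm_num
  have hgoal2 : q ≤ 2 → r ≤ 8 → N.relIndex K ≤ 2 ^ 4 := by
    intro h1 h2
    rw [hfac]
    calc q * r ≤ 2 * 8 := Nat.mul_le_mul h1 h2
      _ = 2 ^ 4 := by norm_num
  have hKCcard : Nat.card ↥(K ⊓ C) ≤ 16 := (Subgroup.card_le_of_le inf_le_right).trans hcardC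
  -- if `K ⊓ C` contains an element outside `E`, then `z ∈ N`
  have hzN : ∀ x ∈ K ⊓ C, x ∉ E → z ∈ N ⊓ C := by
    intro x hx hxE
    have h1 := (hy x ((hCmem x).1 hx.2) hxE).2
    have h2 := hsq x hx.1
    rw [h1] at h2
    exact ⟨h2, hEC s.zE⟩
  by_cases hKE : K ⊓ C ≤ E
  · by_cases hEK : E ≤ K
    · -- `K ⊓ C = E`
      by_cases hKC : K ≤ C
      · -- `K = E`
        have h1 : K ≤ E := fun k hk => hKE ⟨hk, hKC hk⟩
        have h2 : Nat.card K ≤ 8 := by
          rw [← hE]; exact Subgroup.card_le_of_le h1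
        have h3 := card_mul_relIndex hN
        have h4 : 0 < Nat.card N := Nat.card_pos
        calc N.relIndex K ≤ Nat.card N * N.relIndex K := Nat.le_mul_of_pos_left _ h4
          _ = Nat.card K := h3
          _ ≤ 2 ^ 4 := by omega
      · obtain ⟨k, hk, hkC⟩ := SetLike.not_le_iff_exists.1 hKC
        rw [hCmem] at hkC
        push Not at hkC
        obtain ⟨e, he, hke⟩ := hkC
        apply hgoal1
        have h1 : k * e * k⁻¹ * e⁻¹ ∈ N ⊓ C :=
          ⟨comm_mem_of_sq hN hsq hk (hEK he), hEC (mul_mem (h.E_conj k e he) (inv_mem he))⟩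
        have h2 : k * e * k⁻¹ * e⁻¹ ≠ 1 := by
          intro h3
          rw [mul_inv_eq_one, mul_inv_eq_iff_eq_mul] at h3
          exact hke h3
        have h3 := two_le_card_of_ne_one h1 h2
        have h4 : Nat.card ↥(K ⊓ C) ≤ 8 := by
          rw [← hE]; exact Subgroup.card_le_of_le hKE
        by_contra h5
        push Not at h5
        nlinarith
    · -- `K ⊓ C < E`
      apply hgoal1
      have h1 : Nat.card ↥(K ⊓ C) ≤ 4 := by
        by_contra h2
        push Not at h2
        have h3 := eq_of_four_lt hKE hE h2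
        apply hEK
        rw [← h3]
        exact inf_le_left
      calc r ≤ Nat.card ↥(N ⊓ C) * r := Nat.le_mul_of_pos_left _ hrpos
        _ = Nat.card ↥(K ⊓ C) := hr
        _ ≤ 4 := h1
  · obtain ⟨x, hx, hxE⟩ := SetLike.not_le_iff_exists.1 hKE
    have hz := hzN x hx hxE
    have h2 := two_le_card_of_ne_one hz s.z1
    have hr8 : r ≤ 8 := by
      by_contra h5
      push Not at h5
      nlinarith
    by_cases hq2 : q ≤ 2
    · exact hgoal2 hq2 hr8
    push Not at hq2
    apply hgoal1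
    by_contra hr4
    push Not at hr4
    -- now `|N ⊓ C| = 2` and `K ⊓ C = C`
    have hN3 : Nat.card ↥(N ⊓ C) ≤ 3 := by
      by_contra h5
      push Not at h5
      nlinarith
    have hNZ : ∀ t ∈ N ⊓ C, t = 1 ∨ t = z := by
      have h5 : zpowers z ≤ N ⊓ C := by rw [zpowers_le]; exact hz
      have h6 := card_dvd_of_le h5
      rw [s.cardZ] at h6
      have h7 : Nat.card ↥(N ⊓ C) ≤ Nat.card (zpowers z) := by rw [s.cardZ]; omega
      have h8 := Subgroup.eq_of_le_of_card_ge h5 h7
      intro t ht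
      rw [← h8] at ht
      exact s.mem_Z_iff.1 ht
    have hCK : C ≤ K := by
      have h5 := card_dvd_of_le (H := K ⊓ C) (K := C) inf_le_right
      have h6 : Nat.card ↥(K ⊓ C) = Nat.card C := by
        obtain ⟨m, hm⟩ := h5
        have h7 : 8 < Nat.card ↥(K ⊓ C) := by nlinarith
        have h8 : m < 2 := by
          by_contra h9
          push Not at h9
          nlinarith
        have h9 : 0 < Nat.card C := Nat.card_pos
        interval_cases m
        · omega
        · omega
      have h7 := Subgroup.eq_of_le_of_card_ge (inf_le_right : K ⊓ C ≤ C) h6.ge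
      rw [← h7]
      exact inf_le_left
    -- `K` acts on `C` with commutators in `{1, z}`
    have hKcomm : ∀ k ∈ K, ∀ c ∈ C, k * c * k⁻¹ * c⁻¹ = 1 ∨ k * c * k⁻¹ * c⁻¹ = z := by
      intro k hk c hc
      exact hNZ _ ⟨comm_mem_of_sq hN hsq hk (hCK hc),
        C.mul_mem (hCn.conj_mem c hc k) (C.inv_mem hc)⟩
    -- the subgroup of elements acting on `E` with commutators in `{1, z}`
    let W : Subgroup S :=
      { carrier := {w | ∀ e ∈ E, w * e * w⁻¹ * e⁻¹ ∈ zpowers z}
        one_mem' := fun e _ => by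
          have : (1 : S) * e * 1⁻¹ * e⁻¹ = 1 := by group
          rw [this]; exact one_mem _
        mul_mem' := by
          intro v w hv hw e he
          have h5 : v * w * e * (v * w)⁻¹ * e⁻¹ =
            (v * (w * e * w⁻¹) * v⁻¹ * (w * e * w⁻¹)⁻¹) * (w * e * w⁻¹ * e⁻¹) := by group
          rw [h5]
          exact mul_mem (hv _ (h.E_conj w e he)) (hw e he)
        inv_mem' := by
          intro w hw e he
          have he' : w⁻¹ * e * w⁻¹⁻¹ ∈ E := h.E_conj w⁻¹ e he
          have h5 := hw _ he'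
          have h6 : w⁻¹ * e * w⁻¹⁻¹ * e⁻¹ =
            (w * (w⁻¹ * e * w⁻¹⁻¹) * w⁻¹ * (w⁻¹ * e * w⁻¹⁻¹)⁻¹)⁻¹ := by group
          rw [h6]
          exact (zpowers z).inv_mem h5 }
    have hWmem : ∀ w, w ∈ W ↔ ∀ e ∈ E, w * e * w⁻¹ * e⁻¹ ∈ zpowers z := fun w => Iff.rfl
    have hKW : K ≤ W := fun k hk => (hWmem k).2 (fun e he => s.mem_Z_iff.2 (hKcomm k hk e (hEC he)))
    have hAW : A ≤ W := fun a ha => (hWmem a).2 (fun e he => s.mem_Z_iff.2 (s.comm_mem ha he))
    -- `|W : C| ≤ 4`
    have hWC : C.relIndex W ≤ 4 := by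
      classical
      -- elements of `W` centralize `z`
      have hWz : ∀ w ∈ W, w * z * w⁻¹ = z := by
        intro w hw
        rcases s.mem_Z_iff.1 ((hWmem w).1 hw z s.zE) with h5 | h5
        · rwa [mul_inv_eq_one] at h5
        · exfalso
          apply s.z1
          have h6 : w * z * w⁻¹ = z * z := by
            calc w * z * w⁻¹ = (w * z * w⁻¹ * z⁻¹) * z := by group
              _ = z * z := by rw [h5]
          rw [s.zz, mul_inv_eq_one] at h6
          have : w * z = w * 1 := by rw [mul_one]; exact h6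
          exact mul_left_cancel this
      -- each centralizer has index at most two in `W`
      have hidx : ∀ e ∈ E, (centralizer ({e} : Set S)).relIndex W ≤ 2 := by
        intro e he
        have h5 : (centralizer ({e} : Set S)).relIndex W ∣ 2 := by
          rw [relIndex_dvd_two_iff]
          by_cases hall : ∀ w ∈ W, w * e * w⁻¹ * e⁻¹ = 1
          · refine ⟨1, one_mem _, fun b hb => Or.inr ?_⟩
            rw [mem_centralizer_singleton_iff]
            have := hall b hb
            rw [mul_inv_eq_one, mul_inv_eq_iff_eq_mul] at this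
            exact this
          · push Not at hall
            obtain ⟨w, hw, hwe⟩ := hall
            have hwe' := (s.mem_Z_iff.1 ((hWmem w).1 hw e he)).resolve_left hwe
            refine ⟨w, hw, fun b hb => ?_⟩
            rcases s.mem_Z_iff.1 ((hWmem b).1 hb e he) with h6 | h6
            · right
              rw [mem_centralizer_singleton_iff]
              rw [mul_inv_eq_one, mul_inv_eq_iff_eq_mul] at h6
              exact h6
            · left
              rw [mem_centralizer_singleton_iff]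
              have h7 : (b * w) * e * (b * w)⁻¹ = e := by
                calc (b * w) * e * (b * w)⁻¹ = b * ((w * e * w⁻¹ * e⁻¹) * e) * b⁻¹ := by group
                  _ = b * (z * e) * b⁻¹ := by rw [hwe']
                  _ = (b * z * b⁻¹) * (b * e * b⁻¹ * e⁻¹) * e := by group
                  _ = (z * z) * e := by rw [hWz b hb, h6]
                  _ = e := by rw [s.zz, one_mul]
              rw [mul_inv_eq_iff_eq_mul] at h7
              exact h7
        exact Nat.le_of_dvd (by norm_num) h5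
      -- generators of `E`
      obtain ⟨e1, he1, he11, he1z⟩ : ∃ e1 ∈ E, e1 ≠ 1 ∧ e1 ≠ z := by
        by_contra hcon
        push Not at hcon
        have h5 : E ≤ zpowers z := by
          intro t ht
          by_cases h6 : t = 1
          · exact Sit.mem_Z (Or.inl h6)
          · exact Sit.mem_Z (Or.inr (hcon t ht h6))
        have h6 := Subgroup.card_le_of_le h5
        rw [hE, s.cardZ] at h6
        omega
      obtain ⟨e2, he2, he21, he2z, he2e, he2ez⟩ :
          ∃ e2 ∈ E, e2 ≠ 1 ∧ e2 ≠ z ∧ e2 ≠ e1 ∧ e2 ≠ e1 * z := by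
        by_contra hcon
        push Not at hcon
        have h4 := card_le_finset (H := E)
          (T := insert 1 (insert z (insert e1 (singleton (e1 * z) : Finset S)))) (by
            intro t ht
            simp only [Finset.mem_insert, Finset.mem_singleton]
            by_cases h1 : t = 1
            · exact Or.inl h1
            by_cases h2 : t = z
            · exact Or.inr (Or.inl h2)
            by_cases h3 : t = e1
            · exact Or.inr (Or.inr (Or.inl h3))
            exact Or.inr (Or.inr (Or.inr (hcon t ht h1 h2 h3))))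
        have h5 : (insert 1 (insert z (insert e1 (singleton (e1 * z) : Finset S)))).card ≤ 4 :=
          Finset.card_le_four
        rw [hE] at h4
        omega
      have hsub : (centralizer ({e1} : Set S) ⊓ centralizer ({e2} : Set S)) ⊓ W ≤ C := by
        rintro w ⟨⟨hw1, hw2⟩, hwW⟩
        have hw1' := mem_centralizer_singleton_iff.1 hw1
        have hw2' := mem_centralizer_singleton_iff.1 hw2
        have hwz : w * z = z * w := by
          have := hWz w hwW
          rwa [mul_inv_eq_iff_eq_mul] at this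
        have hB : E ⊓ centralizer {w} = E := by
          apply eq_of_four_lt inf_le_left hE
          have hmem : ∀ t ∈ insert 1 (insert z (insert e1 (insert (e1 * z) (singleton e2 : Finset S)))),
              t ∈ E ⊓ centralizer {w} := by
            intro t ht
            simp only [Finset.mem_insert, Finset.mem_singleton] at ht
            rw [mem_inf, mem_centralizer_singleton_iff]
            rcases ht with rfl | rfl | rfl | rfl | rfl
            · exact ⟨one_mem _, by group⟩
            · exact ⟨s.zE, hwz.symm⟩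
            · exact ⟨he1, hw1'.symm⟩
            · refine ⟨mul_mem he1 s.zE, ?_⟩
              rw [mul_assoc, ← hwz, ← mul_assoc, ← hw1', mul_assoc]
            · exact ⟨he2, hw2'.symm⟩
          have h5 := finset_card_le hmem
          have h6 : (insert 1 (insert z (insert e1 (insert (e1 * z)
              (singleton e2 : Finset S))))).card = 5 := by
            rw [Finset.card_insert_of_notMem, Finset.card_insert_of_notMem,
              Finset.card_insert_of_notMem, Finset.card_insert_of_notMem, Finset.card_singleton]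
            · rw [Finset.mem_singleton]; exact he2ez.symm
            · rw [Finset.mem_insert, Finset.mem_singleton]
              push Not
              exact ⟨fun e => s.z1 (by simpa using e.symm), he2e.symm⟩
            · simp only [Finset.mem_insert, Finset.mem_singleton]
              push Not
              exact ⟨he1z.symm, fun e => he11 (by simpa using e.symm), he2z.symm⟩
            · simp only [Finset.mem_insert, Finset.mem_singleton]
              push Not
              refine ⟨s.z1.symm, he11.symm, ?_, he21.symm⟩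
              intro e
              apply he1z
              calc e1 = e1 * (z * z) := by rw [s.zz, mul_one]
                _ = (e1 * z) * z := by group
                _ = z := by rw [← e, one_mul]
          omega
        rw [hCmem]
        intro e he
        have h7 : e ∈ E ⊓ centralizer {w} := by rw [hB]; exact he
        exact (mem_centralizer_singleton_iff.1 h7.2).symm
      have h5 := relIndex_dvd_of_le_left W hsub
      rw [inf_relIndex_right] at h5
      have h6 : (centralizer ({e1} : Set S) ⊓ centralizer ({e2} : Set S)).relIndex W ≤ 2 * 2 :=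
        (relIndex_inf_le).trans (Nat.mul_le_mul (hidx e1 he1) (hidx e2 he2))
      have h7 : (centralizer ({e1} : Set S) ⊓ centralizer ({e2} : Set S)).relIndex W ≠ 0 :=
        Subgroup.index_ne_zero_of_finite
      have h8 := Nat.le_of_dvd (Nat.pos_of_ne_zero h7) h5
      omega
    have hWK : W ≤ K := by
      have h5 := relIndex_mul_relIndex C K W hCK hKW
      have h6 : 3 ≤ C.relIndex K := by
        have h7 : Nat.card ↥(K.map (QuotientGroup.mk' C)) = C.relIndex K := by
          have := relIndex_ker (K := K) (QuotientGroup.mk' C)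
          rw [QuotientGroup.ker_mk'] at this
          exact this.symm
        rw [← h7]
        have h8 := card_mul_relIndex (map_mono (f := QuotientGroup.mk' C) hN)
        have h9 : 0 < Nat.card ↥(N.map (QuotientGroup.mk' C)) := Nat.card_pos
        calc 3 ≤ q := hq2
          _ ≤ Nat.card ↥(N.map (QuotientGroup.mk' C)) * q := Nat.le_mul_of_pos_left _ h9
          _ = _ := h8
      have h7 : K.relIndex W ≠ 0 := Subgroup.index_ne_zero_of_finite
      have h8 : K.relIndex W = 1 := by
        have h9 : C.relIndex K * K.relIndex W ≤ 4 := by rw [h5]; exact hWC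
        by_contra h10
        have h11 : 2 ≤ K.relIndex W := by omega
        nlinarith
      exact relIndex_eq_one.1 h8
    -- an element of `A` outside `E`
    obtain ⟨a, ha, haE⟩ : ∃ a ∈ A, a ∉ E := by
      by_contra hcon
      push Not at hcon
      have h1 : A ≤ zpowers z := fun t ht => Sit.mem_Z (s.AE t ht (hcon t ht))
      have h2 := Subgroup.card_le_of_le h1
      rw [h.A_card, s.cardZ] at h2
      omega
    exact s.comm_ne ha haE hyC hyE (hKcomm a (hWK (hAW ha)) y ((hCmem y).2 hyC))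

end Main

end Cfsg.Agent.TwoFusion.HaradaEightTwo
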