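import Mathlib
import Cfsg.Agent.TwoFusion.HaradaSetup
import Cfsg.Agent.Transfer.MaximalClass
import Cfsg.Agent.S0112

/-!
# Self-centralizing elementary abelian subgroups of order 8: the case of a normal `E_16`
-/

set_option autoImplicit false
set_option linter.unusedSectionVars false

namespace Cfsg.Agent.TwoFusion.HaradaSixteen

open Subgroup
open Cfsg.Agent.TwoFusion.SecRank
open Cfsg.Agent.TwoFusion.HaradaSetup

variable {S : Type*} [Group S] [Finite S] {A E : Subgroup S}

/-! ### Adjoining an element inside an elementary abelian group -/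

/-- adjoin `a` to `X` inside the elementary abelian group `A` -/
def adj (A : Subgroup S) (hc : ∀ a ∈ A, ∀ b ∈ A, a * b = b * a) (hs : ∀ a ∈ A, a * a = 1)
    (X : Subgroup S) (hX : X ≤ A) (a : S) (ha : a ∈ A) : Subgroup S where
  carrier := {g | g ∈ X ∨ g * a ∈ X}
  one_mem' := Or.inl X.one_mem
  mul_mem' := by
    intro g g' hg hg'
    have hgA : ∀ x : S, (x ∈ X ∨ x * a ∈ X) → x ∈ A := by
      rintro x (hx | hx)
      · exact hX hx
      · have := A.mul_mem (hX hx) (A.inv_mem ha)
        rwa [mul_inv_cancel_right] at this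
    have h1 := hgA g hg
    have h2 := hgA g' hg'
    rcases hg with hg | hg <;> rcases hg' with hg' | hg'
    · left; exact X.mul_mem hg hg'
    · right
      show g * g' * a ∈ X
      rw [mul_assoc]; exact X.mul_mem hg hg'
    · right
      show g * g' * a ∈ X
      have : g * g' * a = (g * a) * g' := by
        rw [mul_assoc, hc g' h2 a ha, mul_assoc]
      rw [this]; exact X.mul_mem hg hg'
    · left
      have : g * g' = (g * a) * (g' * a) := by
        have h3 := hs a ha
        calc g * g' = g * (a * a) * g' := by rw [h3, mul_one]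
          _ = (g * a) * (a * g') := by group
          _ = (g * a) * (g' * a) := by rw [hc a ha g' h2]
      show g * g' ∈ X
      rw [this]; exact X.mul_mem hg hg'
  inv_mem' := by
    intro g hg
    have hgA : g ∈ A := by
      rcases hg with hx | hx
      · exact hX hx
      · have := A.mul_mem (hX hx) (A.inv_mem ha)
        rwa [mul_inv_cancel_right] at this
    have h1 : g⁻¹ = g := inv_eq_of_mul_eq_one_left (hs g hgA)
    show g⁻¹ ∈ X ∨ g⁻¹ * a ∈ X
    rw [h1]; exact hg

theorem mem_adj {A : Subgroup S} {hc : ∀ a ∈ A, ∀ b ∈ A, a * b = b * a}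
    {hs : ∀ a ∈ A, a * a = 1} {X : Subgroup S} {hX : X ≤ A} {a : S} {ha : a ∈ A} {g : S} :
    g ∈ adj A hc hs X hX a ha ↔ g ∈ X ∨ g * a ∈ X := Iff.rfl

theorem adj_le {A : Subgroup S} {hc : ∀ a ∈ A, ∀ b ∈ A, a * b = b * a}
    {hs : ∀ a ∈ A, a * a = 1} {X : Subgroup S} {hX : X ≤ A} {a : S} {ha : a ∈ A} :
    adj A hc hs X hX a ha ≤ A := by
  rintro x (hx | hx)
  · exact hX hx
  · have := A.mul_mem (hX hx) (A.inv_mem ha)
    rwa [mul_inv_cancel_right] at this

theorem le_adj {A : Subgroup S} {hc : ∀ a ∈ A, ∀ b ∈ A, a * b = b * a}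
    {hs : ∀ a ∈ A, a * a = 1} {X : Subgroup S} {hX : X ≤ A} {a : S} {ha : a ∈ A} :
    X ≤ adj A hc hs X hX a ha := fun _ hx => Or.inl hx

theorem self_mem_adj {A : Subgroup S} {hc : ∀ a ∈ A, ∀ b ∈ A, a * b = b * a}
    {hs : ∀ a ∈ A, a * a = 1} {X : Subgroup S} {hX : X ≤ A} {a : S} {ha : a ∈ A} :
    a ∈ adj A hc hs X hX a ha := by
  right
  rw [hs a ha]; exact X.one_mem

theorem adj_comm {A : Subgroup S} {hc : ∀ a ∈ A, ∀ b ∈ A, a * b = b * a}
    {hs : ∀ a ∈ A, a * a = 1} {X : Subgroup S} {hX : X ≤ A} {a : S} {ha : a ∈ A} {g : S}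
    (hg : ∀ x ∈ X, g * x = x * g) (hga : g * a = a * g) :
    ∀ x ∈ adj A hc hs X hX a ha, g * x = x * g := by
  rintro x (hx | hx)
  · exact hg x hx
  · have h1 := hg _ hx
    have h2 : x = (x * a) * a⁻¹ := by group
    have h3 : g * a⁻¹ = a⁻¹ * g := by
      rw [eq_inv_mul_iff_mul_eq, ← mul_assoc, ← hga, mul_inv_cancel_right]
    rw [h2, ← mul_assoc, h1, mul_assoc, h3, ← mul_assoc]

theorem two_mul_card_le {X Y : Subgroup S} (hXY : X ≤ Y) {a : S} (ha : a ∈ Y) (haX : a ∉ X) :
    2 * Nat.card X ≤ Nat.card Y := by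
  have h1 := card_mul_relIndex hXY
  have h2 : X.relIndex Y ≠ 1 := by
    intro h
    rw [relIndex_eq_one] at h
    exact haX (h ha)
  have h3 : X.relIndex Y ≠ 0 := by
    intro h
    rw [h, mul_zero] at h1
    exact absurd h1.symm Nat.card_pos.ne'
  have h4 : 2 ≤ X.relIndex Y := by omega
  nlinarith [Nat.card_pos (α := X)]

/-- A nontrivial normal elementary abelian subgroup meets `A` in a central element of `S`. -/
theorem exists_central (h : Setup A E) (hE : E ≠ ⊥) :
    ∃ z ∈ A ⊓ E, z ≠ 1 ∧ ∀ s : S, s * z = z * s := by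
  obtain ⟨z, hz, hz1, hc, -⟩ := exists_fixed h.pgroup ⊤ E ⊥ bot_le (by rwa [le_bot_iff])
    (fun a _ => h.E_conj a) (by
      intro a _ n hn
      rw [mem_bot] at hn ⊢
      rw [hn]; group) (by
      intro a _ n hn
      rw [mem_bot] at hn ⊢
      rw [hn]; group)
  have hc' : ∀ s : S, s * z = z * s := by
    intro s
    have h1 := hc s (mem_top s)
    rw [mem_bot, mul_inv_eq_one, mul_inv_eq_iff_eq_mul] at h1
    exact h1
  refine ⟨z, ⟨h.A_cent z (fun a _ => (hc' a).symm), hz⟩, ?_, hc'⟩
  rwa [mem_bot] at hz1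

/-- The position of `A` relative to `E`. -/
theorem key (h : Setup A E) (hE : E ≠ ⊥) {a : S} (ha : a ∈ A) (haE : a ∉ E) :
    (∀ g : S, (∀ x ∈ A ⊓ E, g * x = x * g) → g * a = a * g → g ∈ A) ∨
    (Nat.card ↥(A ⊓ E) = 2 ∧ ∃ b ∈ A, ∀ g : S, (∀ x ∈ A ⊓ E, g * x = x * g) →
      g * a = a * g → g * b = b * g → g ∈ A) := by
  set X₁ := adj A h.A_comm h.A_sq (A ⊓ E) inf_le_left a ha with hX₁
  by_cases hX : X₁ = A
  · left
    intro g hg hga
    apply h.A_cent
    intro x hx
    rw [← hX] at hx
    exact adj_comm hg hga x hx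
  · right
    obtain ⟨b, hb, hbX⟩ : ∃ b ∈ A, b ∉ X₁ := by
      by_contra hcon
      push Not at hcon
      exact hX (le_antisymm adj_le hcon)
    set X₂ := adj A h.A_comm h.A_sq X₁ adj_le b hb with hX₂
    obtain ⟨z, hz, hz1, -⟩ := exists_central h hE
    have h0 : 2 ≤ Nat.card ↥(A ⊓ E) := by
      have := (one_lt_card_iff_ne_bot (A ⊓ E)).2 (by
        intro hbot
        rw [hbot, mem_bot] at hz
        exact hz1 hz)
      omega
    have h1 : 2 * Nat.card ↥(A ⊓ E) ≤ Nat.card X₁ :=
      two_mul_card_le le_adj self_mem_adj (fun h => haE h.2)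
    have h2 : 2 * Nat.card X₁ ≤ Nat.card X₂ := two_mul_card_le le_adj self_mem_adj hbX
    have h3 : Nat.card X₂ ≤ Nat.card A := card_le_of_le adj_le
    rw [h.A_card] at h3
    have h4 : X₂ = A := eq_of_le_of_card_ge adj_le (by rw [h.A_card]; omega)
    refine ⟨by omega, b, hb, ?_⟩
    intro g hg hga hgb
    apply h.A_cent
    intro x hx
    rw [← h4] at hx
    exact adj_comm (adj_comm hg hga) hgb x hx

theorem E_comm_inf (h : Setup A E) {g : S} (hg : g ∈ E) : ∀ x ∈ A ⊓ E, g * x = x * g :=
  fun x hx => h.E_comm g hg x hx.2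

theorem E_le_of_A_le (h : Setup A E) (hAE : A ≤ E) : E ≤ A := by
  intro e he
  exact h.A_cent e (fun a ha => h.E_comm e he a (hAE ha))

theorem card_fix_le (h : Setup A E) {a : S} (ha : a ∈ A) (haE : a ∉ E) :
    Nat.card (fix E a) ≤ 4 := by
  by_cases hE : E = ⊥
  · have h1 : fix E a ≤ E := inf_le_left
    have h2 := card_le_of_le h1
    rw [hE, card_bot] at h2
    rw [hE]
    omega
  have h3 : 2 * Nat.card ↥(A ⊓ E) ≤ 8 := by
    rw [← h.A_card]
    exact two_mul_card_le inf_le_left ha (fun h => haE h.2)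
  rcases key h hE ha haE with h1 | ⟨h2, b, hb, h1⟩
  · have h4 : fix E a ≤ A ⊓ E := by
      intro x hx
      rw [mem_fix] at hx
      exact ⟨h1 x (E_comm_inf h hx.1) hx.2, hx.1⟩
    have := card_le_of_le h4
    omega
  · have h4 : fix (fix E a) b ≤ A ⊓ E := by
      intro x hx
      rw [mem_fix, mem_fix] at hx
      exact ⟨h1 x (E_comm_inf h hx.1.1) hx.1.2 hx.2, hx.1.1⟩
    have h5 := card_le_of_le h4
    have h6 := card_le_card_fix_sq (fix E a) b (h.A_sq b hb) (by
      intro u hu
      rw [mem_fix] at hu ⊢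
      refine ⟨h.E_conj b u hu.1, ?_⟩
      have hab := h.A_comm a ha b hb
      have hab' : b⁻¹ * a = a * b⁻¹ := by
        rw [inv_mul_eq_iff_eq_mul, ← mul_assoc, ← hab, mul_inv_cancel_right]
      calc b * u * b⁻¹ * a = b * u * (b⁻¹ * a) := by group
        _ = b * (u * a) * b⁻¹ := by rw [hab']; group
        _ = b * a * u * b⁻¹ := by rw [hu.2]; group
        _ = a * (b * u * b⁻¹) := by rw [← hab]; group)
      (fun u hu v hv => h.E_comm u (mem_fix.1 hu).1 v (mem_fix.1 hv).1)
      (fun u hu => h.E_sq u (mem_fix.1 hu).1)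
    have h7 : Nat.card (fix (fix E a) b) ^ 2 ≤ 2 ^ 2 := Nat.pow_le_pow_left (by omega) 2
    omega

theorem card_E_le_sq (h : Setup A E) {a : S} (ha : a ∈ A) :
    Nat.card E ≤ Nat.card (fix E a) ^ 2 :=
  card_le_card_fix_sq E a (h.A_sq a ha) (h.E_conj a) h.E_comm h.E_sq

theorem card_E_le (h : Setup A E) : Nat.card E ≤ 16 := by
  by_cases hAE : A ≤ E
  · have := card_le_of_le (E_le_of_A_le h hAE)
    rw [h.A_card] at this
    omega
  · obtain ⟨a, ha, haE⟩ : ∃ a ∈ A, a ∉ E := by
      by_contra hcon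
      push Not at hcon
      exact hAE hcon
    have h1 := card_E_le_sq h ha
    have h2 := card_fix_le h ha haE
    have h3 : Nat.card (fix E a) ^ 2 ≤ 4 ^ 2 := Nat.pow_le_pow_left h2 2
    omega

/-! ### Lifting centralizers modulo `U` -/

/-- If `a` is an involution acting freely on `U` and `[a, s] ∈ U` then some `u * s` commutes with `a`. -/
theorem lift_comm {U : Subgroup S} {a s : S} (haa : a * a = 1) (hUa : ∀ u ∈ U, a * u * a⁻¹ ∈ U)
    (hcomm : ∀ u ∈ U, ∀ v ∈ U, u * v = v * u) (hsq : ∀ u ∈ U, u * u = 1)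
    (hfree : Nat.card (fix U a) ^ 2 ≤ Nat.card U) (hs : a * s * a⁻¹ * s⁻¹ ∈ U) :
    ∃ u ∈ U, (u * s) * a = a * (u * s) := by
  have hai : a⁻¹ = a := inv_eq_of_mul_eq_one_left haa
  set f := a * s * a⁻¹ * s⁻¹ with hf
  have hfi : f⁻¹ = f := inv_eq_of_mul_eq_one_left (hsq f hs)
  have h1 : a * f * a⁻¹ = f := by
    rw [← hfi]
    rw [hf]
    simp only [mul_inv_rev, inv_inv, hai]
    calc a * (s * (a * (s⁻¹ * a))) * a = a * s * a * s⁻¹ * (a * a) := by group
      _ = a * s * a * s⁻¹ := by rw [haa, mul_one]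
      _ = f := by rw [hf, hai]
      _ = f⁻¹ := hfi.symm
      _ = s * (a * (s⁻¹ * a)) := by
        rw [hf]; simp only [mul_inv_rev, inv_inv, hai]
  have h2 : f ∈ fix U a := by
    rw [mem_fix]
    refine ⟨hs, ?_⟩
    rw [mul_inv_eq_iff_eq_mul] at h1
    exact h1.symm
  obtain ⟨u, hu, huf⟩ := exists_comm_eq U a haa hUa hcomm hsq hfree f h2
  refine ⟨u, hu, ?_⟩
  have h3 : a * u = f * u * a := by rw [← huf]; group
  have h4 : a * s = f * s * a := by rw [hf]; group
  symm
  calc a * (u * s) = (a * u) * s := by group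
    _ = f * u * (a * s) := by rw [h3]; group
    _ = f * (u * f) * s * a := by rw [h4]; group
    _ = (f * f) * u * s * a := by rw [hcomm u hu f hs]; group
    _ = u * s * a := by rw [hsq f hs, one_mul]

section Sixteen

variable (h : Setup A E) (hE : Nat.card E = 16)

include h hE

theorem E_ne_bot : E ≠ ⊥ := by
  rintro rfl
  rw [card_bot] at hE
  omega

theorem exists_a : ∃ a ∈ A, a ∉ E := by
  by_contra hcon
  push Not at hcon
  have := card_le_of_le (E_le_of_A_le h hcon)
  rw [h.A_card] at this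
  omega

theorem card_fix {a : S} (ha : a ∈ A) (haE : a ∉ E) : Nat.card (fix E a) = 4 := by
  have h1 := card_E_le_sq h ha
  have h2 := card_fix_le h ha haE
  rw [hE] at h1
  have h3 : 4 ≤ Nat.card (fix E a) := by
    by_contra hlt
    push Not at hlt
    have h4 : Nat.card (fix E a) ^ 2 ≤ 3 ^ 2 := Nat.pow_le_pow_left (by omega) 2
    omega
  omega

/-- If `[A, s] ≤ E` and `s` centralizes `A ∩ E` then `s ∈ E A`. -/
theorem lift_mem {s : S} (hs : ∀ a ∈ A, a * s * a⁻¹ * s⁻¹ ∈ E)
    (hsAE : ∀ x ∈ A ⊓ E, s * x = x * s) : ∃ u ∈ E, u * s ∈ A := by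
  obtain ⟨a, ha, haE⟩ := exists_a h hE
  have hfa := card_fix h hE ha haE
  obtain ⟨u, hu, hua⟩ := lift_comm (h.A_sq a ha) (h.E_conj a) h.E_comm h.E_sq
    (by rw [hfa, hE]; norm_num) (hs a ha)
  have hucomm : ∀ v ∈ E, ∀ t : S, (∀ x ∈ A ⊓ E, t * x = x * t) →
      ∀ x ∈ A ⊓ E, (v * t) * x = x * (v * t) := by
    intro v hv t ht x hx
    rw [mul_assoc, ht x hx, ← mul_assoc, h.E_comm v hv x hx.2, mul_assoc]
  rcases key h (E_ne_bot h hE) ha haE with h1 | ⟨h2, b, hb, h1⟩
  · exact ⟨u, hu, h1 _ (hucomm u hu s hsAE) hua⟩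
  · have hab := h.A_comm a ha b hb
    have hab' : b⁻¹ * a = a * b⁻¹ := by
      rw [inv_mul_eq_iff_eq_mul, ← mul_assoc, ← hab, mul_inv_cancel_right]
    have hbU : ∀ v ∈ fix E a, b * v * b⁻¹ ∈ fix E a := by
      intro v hv
      rw [mem_fix] at hv ⊢
      refine ⟨h.E_conj b v hv.1, ?_⟩
      calc b * v * b⁻¹ * a = b * v * (b⁻¹ * a) := by group
        _ = b * (v * a) * b⁻¹ := by rw [hab']; group
        _ = b * a * v * b⁻¹ := by rw [hv.2]; group
        _ = a * (b * v * b⁻¹) := by rw [← hab]; group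
    have h4 : fix (fix E a) b ≤ A ⊓ E := by
      intro x hx
      rw [mem_fix, mem_fix] at hx
      exact ⟨h1 x (E_comm_inf h hx.1.1) hx.1.2 hx.2, hx.1.1⟩
    have h5 := card_le_of_le h4
    have h6 : Nat.card (fix (fix E a) b) ^ 2 ≤ Nat.card (fix E a) := by
      rw [hfa]
      calc Nat.card (fix (fix E a) b) ^ 2 ≤ 2 ^ 2 := Nat.pow_le_pow_left (by omega) 2
        _ = 4 := by norm_num
    -- the commutator `[b, u s]` lies in `C_E(a)`
    have hb2 : b * (u * s) * b⁻¹ * (u * s)⁻¹ ∈ fix E a := by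
      rw [mem_fix]
      constructor
      · have h7 : b * (u * s) * b⁻¹ * (u * s)⁻¹ =
            (b * u * b⁻¹) * (b * s * b⁻¹ * s⁻¹) * u⁻¹ := by group
        rw [h7]
        exact E.mul_mem (E.mul_mem (h.E_conj b u hu) (hs b hb)) (E.inv_mem hu)
      · have h8 : (u * s)⁻¹ * a = a * (u * s)⁻¹ := by
          rw [inv_mul_eq_iff_eq_mul, ← mul_assoc, hua, mul_inv_cancel_right]
        calc b * (u * s) * b⁻¹ * (u * s)⁻¹ * a = b * (u * s) * b⁻¹ * ((u * s)⁻¹ * a) := by group
          _ = b * (u * s) * (b⁻¹ * a) * (u * s)⁻¹ := by rw [h8]; group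
          _ = b * ((u * s) * a) * b⁻¹ * (u * s)⁻¹ := by rw [hab']; group
          _ = b * a * (u * s) * b⁻¹ * (u * s)⁻¹ := by rw [hua]; group
          _ = a * (b * (u * s) * b⁻¹ * (u * s)⁻¹) := by rw [← hab]; group
    obtain ⟨v, hv, hvb⟩ := lift_comm (U := fix E a) (h.A_sq b hb) hbU
      (fun x hx y hy => h.E_comm x (mem_fix.1 hx).1 y (mem_fix.1 hy).1)
      (fun x hx => h.E_sq x (mem_fix.1 hx).1) h6 hb2
    rw [mem_fix] at hv
    refine ⟨v * u, E.mul_mem hv.1 hu, ?_⟩
    rw [mul_assoc]
    refine h1 _ (hucomm v hv.1 _ (hucomm u hu s hsAE)) ?_ hvb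
    rw [mul_assoc, hua, ← mul_assoc, hv.2, mul_assoc]

/-- `C_S(E) = E`. -/
theorem cent_le (g : S) (hg : ∀ e ∈ E, g * e = e * g) : g ∈ E := by
  by_contra hgE
  have hmem : ∀ x : S, x ∈ centralizer (E : Set S) ↔ ∀ e ∈ E, x * e = e * x := by
    intro x
    rw [mem_centralizer_iff]
    exact ⟨fun hx e he => (hx e he).symm, fun hx e he => (hx e he).symm⟩
  obtain ⟨x, hx, hxE, hc, -⟩ := exists_fixed h.pgroup A (centralizer (E : Set S)) E
    (fun e he => (hmem e).2 (fun f hf => h.E_comm e he f hf))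
    (fun hle => hgE (hle ((hmem g).2 hg)))
    (by
      intro a _ c hc
      rw [hmem] at hc ⊢
      intro e he
      have h1 := hc _ (h.E_conj a⁻¹ e he)
      rw [inv_inv] at h1
      calc a * c * a⁻¹ * e = a * (c * (a⁻¹ * e * a)) * a⁻¹ := by group
        _ = a * ((a⁻¹ * e * a) * c) * a⁻¹ := by rw [h1]
        _ = e * (a * c * a⁻¹) := by group)
    (fun a _ => h.E_conj a) (fun a _ => h.E_conj a)
  rw [hmem] at hx
  obtain ⟨u, hu, huA⟩ := lift_mem h hE hc (fun y hy => hx y hy.2)
  have huxE : u * x ∉ E := by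
    intro hux
    apply hxE
    have := E.mul_mem (E.inv_mem hu) hux
    rwa [inv_mul_cancel_left] at this
  have h1 := card_fix h hE huA huxE
  have h2 : fix E (u * x) = E := by
    apply le_antisymm inf_le_left
    intro e he
    refine mem_fix.2 ⟨he, ?_⟩
    rw [← mul_assoc, h.E_comm e he u hu, mul_assoc, ← hx e he, mul_assoc]
  rw [h2, hE] at h1
  omega

end Sixteen

/-! ### Fourth powers -/

/-- iterated commutators `[s, [s, … [s, e]]]` -/
def itComm (s : S) (e : S) : ℕ → S
  | 0 => e
  | n + 1 => itComm s (s * e * s⁻¹ * e⁻¹) n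

theorem itComm_eq_one (hS : IsPGroup 2 S) (s : S) (m : ℕ) : ∀ U : Subgroup S,
    (∀ u ∈ U, s * u * s⁻¹ ∈ U) → (∀ u ∈ U, ∀ v ∈ U, u * v = v * u) → Nat.card U ≤ 2 ^ m →
    ∀ u ∈ U, itComm s u m = 1 := by
  induction m with
  | zero =>
    intro U _ _ hc u hu
    have h1 : U = ⊥ := by
      rw [← card_le_one_iff_eq_bot]
      simpa using hc
    rw [h1, mem_bot] at hu
    exact hu
  | succ m ih =>
    intro U hs hcomm hc u hu
    by_cases hU : U = ⊥
    · rw [hU, mem_bot] at hu
      have h1 : itComm s u (m + 1) = itComm s 1 m := by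
        show itComm s (s * u * s⁻¹ * u⁻¹) m = _
        rw [hu]; congr 1; group
      rw [h1]
      refine ih ⊥ ?_ ?_ ?_ 1 (one_mem _)
      · intro v hv
        rw [mem_bot] at hv ⊢
        rw [hv]; group
      · intro v hv w hw
        rw [mem_bot] at hv hw
        rw [hv, hw]
      · rw [card_bot]; exact Nat.one_le_two_pow
    · have hz : ∀ g ∈ zpowers s, ∀ v ∈ U, g * v * g⁻¹ ∈ U := by
        intro g hg
        have h1 : g ∈ normalizer (U : Set S) := by
          have h2 : s ∈ normalizer (U : Set S) := by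
            have h3 : ∀ n, n ∈ U → s * n * s⁻¹ ∈ U := hs
            rw [mem_normalizer_iff]
            intro v
            constructor
            · exact h3 v
            · intro hv
              let f : U → U := fun d => ⟨s * d * s⁻¹, hs d d.2⟩
              have hf : Function.Injective f := by
                intro d d' hdd
                have h1 : s * (d : S) * s⁻¹ = s * (d' : S) * s⁻¹ := congrArg Subtype.val hdd
                exact Subtype.ext (mul_left_cancel (mul_right_cancel h1))
              obtain ⟨d, hd⟩ := (Finite.injective_iff_surjective.1 hf) ⟨_, hv⟩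
              have h4 : s * (d : S) * s⁻¹ = s * v * s⁻¹ := congrArg Subtype.val hd
              have h5 : (d : S) = v := mul_left_cancel (mul_right_cancel h4)
              rw [← h5]; exact d.2
          exact (zpowers_le.2 h2) hg
        intro v hv
        exact (mem_normalizer_iff.1 h1 v).1 hv
      obtain ⟨x, hx, hx1, hxc, -⟩ := exists_fixed hS (zpowers s) U ⊥ bot_le
        (by rwa [le_bot_iff]) hz (by
          intro a _ n hn
          rw [mem_bot] at hn ⊢
          rw [hn]; group) (by
          intro a _ n hn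
          rw [mem_bot] at hn ⊢
          rw [hn]; group)
      have hxf : x ∈ fix U s := by
        rw [mem_fix]
        refine ⟨hx, ?_⟩
        have h1 := hxc s (mem_zpowers s)
        rw [mem_bot, mul_inv_eq_one, mul_inv_eq_iff_eq_mul] at h1
        exact h1.symm
      have hf2 : 2 ≤ Nat.card (fix U s) := by
        have := (one_lt_card_iff_ne_bot (fix U s)).2 (by
          intro hbot
          rw [hbot] at hxf
          exact hx1 hxf)
        omega
      have hcard := card_eq_fix_mul_range U s hs hcomm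
      set V : Subgroup S := (commHom U s hs hcomm).range.map U.subtype with hV
      have hVc : Nat.card V = Nat.card (commHom U s hs hcomm).range :=
        (Nat.card_congr (equivMapOfInjective _ _ U.subtype_injective).toEquiv).symm
      have hV2 : Nat.card V ≤ 2 ^ m := by
        rw [hVc]
        rw [hcard, pow_succ] at hc
        nlinarith
      have hVU : V ≤ U := by
        rintro _ ⟨v, _, rfl⟩
        exact v.2
      have hmem : ∀ v ∈ U, s * v * s⁻¹ * v⁻¹ ∈ V := by
        intro v hv
        exact ⟨commHom U s hs hcomm ⟨v, hv⟩, ⟨⟨v, hv⟩, rfl⟩, rfl⟩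
      show itComm s (s * u * s⁻¹ * u⁻¹) m = 1
      refine ih V ?_ (fun a ha b hb => hcomm a (hVU ha) b (hVU hb)) hV2 _ (hmem u hu)
      rintro _ ⟨_, ⟨w, rfl⟩, rfl⟩
      have h6 : s * (commHom U s hs hcomm w : S) * s⁻¹ =
          s * (s * w * s⁻¹) * s⁻¹ * (s * w * s⁻¹)⁻¹ := by
        rw [commHom_coe]; group
      show s * (commHom U s hs hcomm w : S) * s⁻¹ ∈ V
      rw [h6]
      exact hmem _ (hs w w.2)

theorem sq_comm (h : Setup A E) (s : S) {e : S} (he : e ∈ E) :
    (s * s) * e * (s * s)⁻¹ * e⁻¹ = itComm s e 2 := by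
  show _ = s * (s * e * s⁻¹ * e⁻¹) * s⁻¹ * (s * e * s⁻¹ * e⁻¹)⁻¹
  have h1 : s * e * s⁻¹ ∈ E := h.E_conj s e he
  obtain ⟨x, hx⟩ : ∃ x, x = s * e * s⁻¹ := ⟨_, rfl⟩
  rw [← hx] at h1
  have h3 : (s * s) * e * (s * s)⁻¹ = s * x * s⁻¹ := by rw [hx]; group
  have h4 : s * (s * e * s⁻¹ * e⁻¹) * s⁻¹ = s * x * s⁻¹ * x⁻¹ := by rw [hx]; group
  rw [h3, h4, ← hx, mul_inv_rev, inv_inv]
  have hxi : x⁻¹ = x := inv_eq_of_mul_eq_one_left (h.E_sq x h1)
  have hei : e⁻¹ = e := inv_eq_of_mul_eq_one_left (h.E_sq e he)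
  rw [hxi, hei]
  obtain ⟨y, hy⟩ : ∃ y, y = s * x * s⁻¹ := ⟨_, rfl⟩
  rw [← hy]
  calc y * e = y * e * (x * x) := by rw [h.E_sq x h1, mul_one]
    _ = y * ((e * x) * x) := by group
    _ = y * ((x * e) * x) := by rw [h.E_comm e he x h1]
    _ = y * x * (e * x) := by group

theorem pow_four_mem (h : Setup A E) (hE : Nat.card E = 16) (s : S) : s ^ 4 ∈ E := by
  apply cent_le h hE
  intro e he
  have h1 : itComm s e 4 = 1 :=
    itComm_eq_one h.pgroup s 4 E (h.E_conj s) h.E_comm (by rw [hE]; norm_num) e he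
  have hmem : ∀ e ∈ E, s * e * s⁻¹ * e⁻¹ ∈ E := fun e he =>
    E.mul_mem (h.E_conj s e he) (E.inv_mem he)
  have h2 : itComm s e 4 = itComm s (itComm s e 2) 2 := rfl
  have he2 : itComm s e 2 ∈ E := hmem _ (hmem e he)
  rw [h2, ← sq_comm h s he2, ← sq_comm h s he] at h1
  -- now `[s², [s², e]] = 1`
  have h3 := sq_comm h (s * s) he
  have h4 : itComm (s * s) e 2 = (s * s) * ((s * s) * e * (s * s)⁻¹ * e⁻¹) * (s * s)⁻¹ *
      ((s * s) * e * (s * s)⁻¹ * e⁻¹)⁻¹ := rfl
  rw [h4, h1, mul_inv_eq_one, mul_inv_eq_iff_eq_mul] at h3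
  have h5 : s ^ 4 = (s * s) * (s * s) := by rw [pow_succ, pow_succ, pow_two]; group
  rw [h5, h3]

/-! ### A lemma on 2-groups of exponent 4 -/

theorem card_le_eight {Q : Type*} [Group Q] [Finite Q] (hQ : IsPGroup 2 Q)
    (hexp : ∀ x : Q, x ^ 4 = 1) (W : Subgroup Q) (hW : Nat.card W = 4)
    (hC : centralizer (W : Set Q) = W) : Nat.card Q ≤ 8 := by
  have hfact : Fact (Nat.Prime 2) := ⟨Nat.prime_two⟩
  obtain ⟨n, hn⟩ := hQ.exists_card_eq
  by_cases h3 : n < 3
  · rw [hn]
    calc 2 ^ n ≤ 2 ^ 3 := Nat.pow_le_pow_right (by norm_num) (by omega)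
      _ = 8 := by norm_num
  · push Not at h3
    have hcl := Cfsg.Agent.S0112.result (p := 2) n hn W (by rw [hW]; norm_num) hC
    obtain ⟨C, hC1, hC2⟩ :=
      Cfsg.Agent.Transfer.MaximalClass.exists_isCyclic_index_two_of_maxClass n h3 Q hn hcl
    obtain ⟨g, hg⟩ := (isCyclic_iff_exists_zpowers_eq_top (α := C)).1 hC1
    have h4 : Nat.card C ≤ 4 := by
      have h5 : Nat.card C = orderOf g := by
        rw [← Nat.card_zpowers, hg, card_top]
      rw [h5]
      have h6 : g ^ 4 = 1 := by
        apply Subtype.ext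
        rw [SubgroupClass.coe_pow, hexp]; rfl
      exact Nat.le_of_dvd (by norm_num) (orderOf_dvd_of_pow_eq_one h6)
    have h7 := C.index_mul_card
    rw [hC2] at h7
    omega

/-! ### The subgroup `W` of `S / E` -/

section Quotient

variable (h : Setup A E) (hE : Nat.card E = 16) [hEn : E.Normal]

include h hE

theorem mk_comm_iff (a s : S) : (QuotientGroup.mk' E a) * (QuotientGroup.mk' E s) =
    (QuotientGroup.mk' E s) * (QuotientGroup.mk' E a) ↔ a * s * a⁻¹ * s⁻¹ ∈ E := by
  have h1 : a * s = (a * s * a⁻¹ * s⁻¹) * (s * a) := by group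
  have h2 : QuotientGroup.mk' E (a * s * a⁻¹ * s⁻¹) = 1 ↔ a * s * a⁻¹ * s⁻¹ ∈ E := by
    rw [QuotientGroup.mk'_apply, QuotientGroup.eq_one_iff]
  rw [← h2, ← map_mul, ← map_mul]
  conv_lhs => rw [h1, map_mul]
  exact mul_eq_right

theorem isPGroup_quot : IsPGroup 2 (S ⧸ E) := h.pgroup.to_quotient E

theorem exponent_quot (q : S ⧸ E) : q ^ 4 = 1 := by
  obtain ⟨s, rfl⟩ := QuotientGroup.mk'_surjective E q
  rw [← map_pow, QuotientGroup.mk'_apply, QuotientGroup.eq_one_iff]
  exact pow_four_mem h hE s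

theorem fix_mul {s e : S} (he : e ∈ E) : fix E (s * e) = fix E s := by
  ext x
  rw [mem_fix, mem_fix]
  refine and_congr_right fun hx => ?_
  have h1 := h.E_comm x hx e he
  constructor
  · intro h2
    have : x * s * e = s * x * e := by
      calc x * s * e = x * (s * e) := by group
        _ = s * (e * x) := by rw [h2]; group
        _ = s * x * e := by rw [← h1]; group
    exact mul_right_cancel this
  · intro h2
    calc x * (s * e) = (x * s) * e := by group
      _ = s * (x * e) := by rw [h2]; group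
      _ = s * e * x := by rw [h1]; group

omit h hE hEn in
theorem four_elements (B : Subgroup S) (hB : Nat.card B = 4) {z x : S} (hz : z ∈ B) (hx : x ∈ B)
    (hzz : z * z = 1) (hxx : x * x = 1) (hz1 : z ≠ 1) (hx1 : x ≠ 1) (hxz : x ≠ z) :
    ∀ y ∈ B, y = 1 ∨ y = z ∨ y = x ∨ y = x * z := by
  classical
  have hxi : x⁻¹ = x := inv_eq_of_mul_eq_one_left hxx
  have h1 : x * z ≠ 1 := by
    intro h
    apply hxz
    rw [mul_eq_one_iff_inv_eq, hxi] at h
    exact h
  have h2 : x * z ≠ z := fun h => hx1 (mul_eq_right.1 h)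
  have h3 : x * z ≠ x := fun h => hz1 (mul_eq_left.1 h)
  have hcard : ({1, z, x, x * z} : Finset S).card = 4 := by
    rw [Finset.card_insert_of_notMem, Finset.card_insert_of_notMem, Finset.card_insert_of_notMem,
      Finset.card_singleton]
    · simp only [Finset.mem_singleton]; exact h3.symm
    · simp only [Finset.mem_insert, Finset.mem_singleton, not_or]; exact ⟨hxz.symm, h2.symm⟩
    · simp only [Finset.mem_insert, Finset.mem_singleton, not_or]
      exact ⟨hz1.symm, hx1.symm, h1.symm⟩
  have hsub : ((({1, z, x, x * z} : Finset S) : Set S)) ⊆ (B : Set S) := by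
    intro y hy
    simp only [Finset.coe_insert, Finset.coe_singleton, Set.mem_insert_iff,
      Set.mem_singleton_iff] at hy
    rcases hy with rfl | rfl | rfl | rfl
    · exact B.one_mem
    · exact hz
    · exact hx
    · exact B.mul_mem hx hz
  have heq := Set.eq_of_subset_of_ncard_le hsub (by
    rw [Set.ncard_coe_finset, hcard]
    have : (B : Set S).ncard = Nat.card B := rfl
    rw [this, hB]) (Set.toFinite _)
  intro y hy
  have : y ∈ (B : Set S) := hy
  rw [← heq] at this
  simpa using this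

theorem exists_W : ∃ W : Subgroup (S ⧸ E),
    (Nat.card (S ⧸ E) ≤ 2 ∨ (Nat.card W = 4 ∧ centralizer (W : Set (S ⧸ E)) = W)) ∧
    ∀ s : S, QuotientGroup.mk' E s ∈ W → s ∉ E → Nat.card (fix E s) ≤ 4 := by
  have hfact : Fact (Nat.Prime 2) := ⟨Nat.prime_two⟩
  obtain ⟨a, ha, haE⟩ := exists_a h hE
  have hfa := card_fix h hE ha haE
  have hker : ∀ s : S, QuotientGroup.mk' E s = 1 ↔ s ∈ E := by
    intro s
    rw [QuotientGroup.mk'_apply, QuotientGroup.eq_one_iff]
  obtain ⟨z, hz, hz1, hzc⟩ := exists_central h (E_ne_bot h hE)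
  rcases key h (E_ne_bot h hE) ha haE with h1 | ⟨h2, b, hb, h1⟩
  · -- the case `A ∩ E = C_E(a)` of order 4
    have hAE : A ⊓ E = fix E a := by
      apply le_antisymm
      · intro x hx
        exact mem_fix.2 ⟨hx.2, h.A_comm x hx.1 a ha⟩
      · intro x hx
        rw [mem_fix] at hx
        exact ⟨h1 x (E_comm_inf h hx.1) hx.2, hx.1⟩
    set Ca := centralizer ({a} : Set S) with hCa
    have hmemCa : ∀ x, x ∈ Ca ↔ x * a = a * x := by
      intro x; rw [hCa, mem_centralizer_singleton_iff]
    set W := Ca.map (QuotientGroup.mk' E) with hW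
    have hWmem : ∀ s : S, a * s * a⁻¹ * s⁻¹ ∈ E → QuotientGroup.mk' E s ∈ W := by
      intro s hs
      obtain ⟨u, hu, hua⟩ := lift_comm (h.A_sq a ha) (h.E_conj a) h.E_comm h.E_sq
        (by rw [hfa, hE]; norm_num) hs
      refine ⟨u * s, (hmemCa _).2 hua, ?_⟩
      rw [map_mul, (hker u).2 hu, one_mul]
    have haW : QuotientGroup.mk' E a ∈ W := ⟨a, (hmemCa a).2 rfl, rfl⟩
    have hcW : centralizer (W : Set (S ⧸ E)) ≤ W := by
      intro q hq
      obtain ⟨s, rfl⟩ := QuotientGroup.mk'_surjective E q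
      apply hWmem
      rw [← mk_comm_iff h hE]
      exact (mem_centralizer_iff.1 hq) _ haW
    have hACa : A ≤ Ca := fun x hx => (hmemCa x).2 (h.A_comm x hx a ha)
    -- `Ca` acts on `A ∩ E` with kernel `A`
    have hker2 : ∀ c ∈ Ca, (∀ x ∈ A ⊓ E, c * x = x * c) → c ∈ A := fun c hc hx =>
      h1 c hx ((hmemCa c).1 hc)
    have hact : ∀ c ∈ Ca, c ∉ A → ∀ x ∈ A ⊓ E, x ≠ 1 → x ≠ z → c * x = x * z * c := by
      intro c hc hcA x hx hx1 hxz
      have hset := four_elements (A ⊓ E) (by rw [hAE, hfa]) hz hx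
        (h.A_sq z hz.1) (h.A_sq x hx.1) hz1 hx1 hxz
      have hyAE : c * x * c⁻¹ ∈ A ⊓ E := by
        rw [hAE] at hx ⊢
        rw [mem_fix] at hx ⊢
        refine ⟨h.E_conj c x hx.1, ?_⟩
        have hca := (hmemCa c).1 hc
        have hca' : c⁻¹ * a = a * c⁻¹ := by
          rw [inv_mul_eq_iff_eq_mul, ← mul_assoc, hca, mul_inv_cancel_right]
        calc c * x * c⁻¹ * a = c * x * (c⁻¹ * a) := by group
          _ = c * (x * a) * c⁻¹ := by rw [hca']; group
          _ = c * a * x * c⁻¹ := by rw [hx.2]; group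
          _ = a * (c * x * c⁻¹) := by rw [hca]; group
      rcases hset _ hyAE with h3 | h3 | h3 | h3
      · exfalso
        apply hx1
        rw [mul_inv_eq_one] at h3
        exact mul_left_cancel (h3.trans (mul_one c).symm)
      · exfalso
        apply hxz
        rw [mul_inv_eq_iff_eq_mul, ← hzc c] at h3
        exact mul_left_cancel h3
      · exfalso
        apply hcA
        apply hker2 c hc
        rw [mul_inv_eq_iff_eq_mul] at h3
        intro y hy
        rcases hset y hy with h4 | h4 | h4 | h4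
        · rw [h4, mul_one, one_mul]
        · rw [h4, hzc]
        · rw [h4, h3]
        · rw [h4, ← mul_assoc, h3, mul_assoc, hzc c, mul_assoc]
      · rw [mul_inv_eq_iff_eq_mul] at h3
        exact h3
    have hCacard : Nat.card Ca ≤ 16 := by
      have h2 := card_mul_relIndex hACa
      have h3 : A.relIndex Ca ∣ 2 := by
        rw [relIndex_dvd_two_iff]
        by_cases hex : ∃ c ∈ Ca, c ∉ A
        · obtain ⟨c, hc, hcA⟩ := hex
          refine ⟨c, hc, ?_⟩
          intro d hd
          by_cases hdA : d ∈ A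
          · right; exact hdA
          · left
            apply hker2 _ (Ca.mul_mem hd hc)
            intro x hx
            by_cases hx1 : x = 1
            · rw [hx1, one_mul, mul_one]
            by_cases hxz : x = z
            · rw [hxz, hzc]
            have h4 := hact c hc hcA x hx hx1 hxz
            have h5 := hact d hd hdA x hx hx1 hxz
            have hzz := h.A_sq z hz.1
            calc d * c * x = d * (x * z * c) := by rw [mul_assoc, h4]
              _ = (d * x) * z * c := by group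
              _ = x * z * (d * z) * c := by rw [h5]; group
              _ = x * (z * z) * d * c := by rw [hzc d]; group
              _ = x * (d * c) := by rw [hzz]; group
        · push Not at hex
          refine ⟨1, Ca.one_mem, fun b hb => Or.inr (hex b hb)⟩
      have h4 := Nat.le_of_dvd (by norm_num) h3
      rw [h.A_card] at h2
      nlinarith
    have hcard := card_eq_mul_card_map E Ca
    have hCaE : Ca ⊓ E = fix E a := by
      rw [inf_comm]; rfl
    rw [hCaE, hfa] at hcard
    have hW4 : Nat.card W ≤ 4 := by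
      change Nat.card Ca = 4 * Nat.card W at hcard
      omega
    refine ⟨W, ?_, ?_⟩
    · have hWne : W ≠ ⊥ := by
        intro hbot
        rw [hbot, mem_bot, hker] at haW
        exact haE haW
      have hW2 : 2 ≤ Nat.card W := by
        have := (one_lt_card_iff_ne_bot W).2 hWne
        omega
      obtain ⟨k, hk⟩ := ((isPGroup_quot h hE).to_subgroup W).exists_card_eq
      have hk12 : k = 1 ∨ k = 2 := by
        have hk0 : k ≠ 0 := by rintro rfl; rw [hk] at hW2; norm_num at hW2
        have hk3 : k < 3 := by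
          by_contra hlt
          push Not at hlt
          have : 2 ^ 3 ≤ 2 ^ k := Nat.pow_le_pow_right (by norm_num) hlt
          omega
        omega
      rcases hk12 with rfl | rfl
      · -- `|W| = 2`
        left
        -- the centre is nontrivial and contained in `W`
        have hntr : Nontrivial (S ⧸ E) := by
          refine ⟨⟨QuotientGroup.mk' E a, 1, ?_⟩⟩
          intro h0
          exact haE ((hker a).1 h0)
        have hZ := (isPGroup_quot h hE).bot_lt_center
        have hZW : center (S ⧸ E) ≤ W := (center_le_centralizer _).trans hcW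
        have hZeq : center (S ⧸ E) = W := by
          apply eq_of_le_of_card_ge hZW
          have := (one_lt_card_iff_ne_bot (center (S ⧸ E))).2 hZ.ne'
          rw [hk]; omega
        have htop : W = ⊤ := by
          rw [eq_top_iff]
          intro q _
          obtain ⟨s, rfl⟩ := QuotientGroup.mk'_surjective E q
          apply hWmem
          rw [← mk_comm_iff h hE]
          rw [← hZeq] at haW
          exact (mem_center_iff.1 haW _).symm
        rw [← card_top (G := S ⧸ E), ← htop, hk]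
        norm_num
      · right
        refine ⟨by rw [hk]; norm_num, le_antisymm hcW ?_⟩
        have hcomm := IsPGroup.isMulCommutative_of_card_eq_prime_sq (p := 2) hk
        intro x hx
        rw [mem_centralizer_iff]
        intro y hy
        exact congrArg Subtype.val (hcomm.is_comm.comm (⟨y, hy⟩ : W) ⟨x, hx⟩)
    · rintro s ⟨c, hc, hcs⟩ hsE
      have h3 : c⁻¹ * s ∈ E := by
        rw [← hker, map_mul, map_inv, hcs, inv_mul_cancel]
      have h4 : s = c * (c⁻¹ * s) := by group
      rw [h4, fix_mul h hE h3]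
      have hcE : c ∉ E := by
        intro hcE
        apply hsE
        rw [h4]; exact E.mul_mem hcE h3
      by_cases hcA : c ∈ A
      · exact (card_fix h hE hcA hcE).le
      · have h5 := card_le_card_fix_sq (fix E c) a (h.A_sq a ha) (by
          intro u hu
          rw [mem_fix] at hu ⊢
          refine ⟨h.E_conj a u hu.1, ?_⟩
          have hac := (hmemCa c).1 hc
          have hac' : a⁻¹ * c = c * a⁻¹ := by
            rw [inv_mul_eq_iff_eq_mul, ← mul_assoc, ← hac, mul_inv_cancel_right]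
          calc a * u * a⁻¹ * c = a * u * (a⁻¹ * c) := by group
            _ = a * (u * c) * a⁻¹ := by rw [hac']; group
            _ = a * c * u * a⁻¹ := by rw [hu.2]; group
            _ = c * (a * u * a⁻¹) := by rw [← hac]; group)
          (fun u hu v hv => h.E_comm u (mem_fix.1 hu).1 v (mem_fix.1 hv).1)
          (fun u hu => h.E_sq u (mem_fix.1 hu).1)
        have h6 : fix (fix E c) a ≤ A ⊓ E := by
          rw [hAE]
          intro x hx
          rw [mem_fix, mem_fix] at hx
          exact mem_fix.2 ⟨hx.1.1, hx.2⟩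
        obtain ⟨x, hx, hxc⟩ : ∃ x ∈ A ⊓ E, c * x ≠ x * c := by
          by_contra hcon
          push Not at hcon
          exact hcA (hker2 c hc hcon)
        have h7 := two_mul_card_le h6 hx (by
          intro hx2
          rw [mem_fix, mem_fix] at hx2
          exact hxc hx2.1.2.symm)
        rw [hAE, hfa] at h7
        have h8 : Nat.card (fix (fix E c) a) ^ 2 ≤ 2 ^ 2 := Nat.pow_le_pow_left (by omega) 2
        omega
  · -- the case `|A ∩ E| = 2`
    have hAE : ∀ x ∈ A ⊓ E, ∀ s : S, s * x = x * s := by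
      intro x hx s
      by_cases hx1 : x = 1
      · rw [hx1, mul_one, one_mul]
      · have h3 : zpowers z = A ⊓ E := by
          apply eq_of_le_of_card_ge
          · rw [zpowers_le]; exact hz
          · rw [h2]
            have := (one_lt_card_iff_ne_bot (zpowers z)).2 (by rwa [Ne, zpowers_eq_bot])
            omega
        rw [← h3, mem_zpowers_iff] at hx
        obtain ⟨k, rfl⟩ := hx
        exact (Commute.zpow_right (hzc s) k)
    set W := A.map (QuotientGroup.mk' E) with hW
    have hWcard : Nat.card W = 4 := by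
      have := card_eq_mul_card_map E A
      rw [h2, h.A_card] at this
      change 8 = 2 * Nat.card W at this
      omega
    refine ⟨W, Or.inr ⟨hWcard, ?_⟩, ?_⟩
    · apply le_antisymm
      · intro q hq
        obtain ⟨s, rfl⟩ := QuotientGroup.mk'_surjective E q
        rw [mem_centralizer_iff] at hq
        obtain ⟨u, hu, huA⟩ := lift_mem h hE (s := s) (fun x hx => by
          rw [← mk_comm_iff h hE]
          exact hq _ ⟨x, hx, rfl⟩) (fun x hx => hAE x hx s)
        refine ⟨u * s, huA, ?_⟩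
        rw [map_mul, (hker u).2 hu, one_mul]
      · rintro _ ⟨x, hx, rfl⟩
        rw [mem_centralizer_iff]
        rintro _ ⟨y, hy, rfl⟩
        rw [← map_mul, ← map_mul, h.A_comm x hx y hy]
    · rintro s ⟨c, hc, hcs⟩ hsE
      have h3 : c⁻¹ * s ∈ E := by
        rw [← hker, map_mul, map_inv, hcs, inv_mul_cancel]
      have h4 : s = c * (c⁻¹ * s) := by group
      rw [h4, fix_mul h hE h3]
      have hcE : c ∉ E := by
        intro hcE
        apply hsE
        rw [h4]; exact E.mul_mem hcE h3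
      exact (card_fix h hE hc hcE).le

/-- The case `|E| = 16`. -/
theorem case16_aux (K : Subgroup S) : GenLE 4 K := by
  have hfact : Fact (Nat.Prime 2) := ⟨Nat.prime_two⟩
  obtain ⟨W, hW, hfix⟩ := exists_W h hE
  have hker : ∀ s : S, QuotientGroup.mk' E s = 1 ↔ s ∈ E := by
    intro s
    rw [QuotientGroup.mk'_apply, QuotientGroup.eq_one_iff]
  have hQ8 : Nat.card (S ⧸ E) ≤ 8 := by
    rcases hW with hW | ⟨hW4, hWc⟩
    · omega
    · exact card_le_eight (isPGroup_quot h hE) (exponent_quot h hE) W hW4 hWc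
  set K' := K.map (QuotientGroup.mk' E) with hK'
  have hK'8 : Nat.card K' ≤ 8 := (card_le_card_group K').trans hQ8
  intro N hN hsq
  rw [relIndex_eq_mul E hN]
  have hmono : N.map (QuotientGroup.mk' E) ≤ K' := map_mono hN
  have hsq' : ∀ k ∈ K', k * k ∈ N.map (QuotientGroup.mk' E) := by
    rintro _ ⟨k, hk, rfl⟩
    exact ⟨k * k, hsq k hk, map_mul _ _ _⟩
  have hc1 := card_mul_relIndex (inf_le_inf_right E hN)
  have hNE : 1 ≤ Nat.card ↥(N ⊓ E) := Nat.card_pos
  have hKE16 : Nat.card ↥(K ⊓ E) ≤ 16 := by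
    rw [← hE]; exact card_le_of_le inf_le_right
  have hr2 : (N.map (QuotientGroup.mk' E)).relIndex K' ≤ Nat.card K' := by
    have := card_mul_relIndex hmono
    have h2 : 1 ≤ Nat.card ↥(N.map (QuotientGroup.mk' E)) := Nat.card_pos
    nlinarith
  by_cases hK2 : Nat.card K' ≤ 2
  · -- `|KE/E| ≤ 2`
    by_cases hKE : Nat.card ↥(K ⊓ E) ≤ 8
    · calc _ ≤ 2 * 8 := Nat.mul_le_mul (hr2.trans hK2) (by nlinarith)
        _ = 2 ^ 4 := by norm_num
    · -- then `E ≤ K`
      push Not at hKE
      have hEK : K ⊓ E = E := by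
        apply eq_of_le_of_card_ge inf_le_right
        have := card_dvd_of_le (inf_le_right : K ⊓ E ≤ E)
        rw [hE] at this ⊢
        obtain ⟨c, hc⟩ := this
        have hc1 : c < 2 := by
          by_contra hlt
          push Not at hlt
          nlinarith
        interval_cases c
        · omega
        · omega
      by_cases hK1 : Nat.card K' = 1
      · have : (N.map (QuotientGroup.mk' E)).relIndex K' ≤ 1 := by rw [← hK1]; exact hr2
        calc _ ≤ 1 * 16 := Nat.mul_le_mul this (by nlinarith)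
          _ = 2 ^ 4 := by norm_num
      · -- some `k ∈ K` does not centralize `E`
        obtain ⟨k, hk, hkE⟩ : ∃ k ∈ K, k ∉ E := by
          by_contra hcon
          push Not at hcon
          apply hK1
          rw [card_eq_one, eq_bot_iff]
          rintro _ ⟨k, hk, rfl⟩
          rw [mem_bot, hker]
          exact hcon k hk
        obtain ⟨e, he, hke⟩ : ∃ e ∈ E, k * e ≠ e * k := by
          by_contra hcon
          push Not at hcon
          exact hkE (cent_le h hE k hcon)
        have heK : e ∈ K := by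
          have : e ∈ K ⊓ E := by rw [hEK]; exact he
          exact this.1
        have hcomm := comm_mem_of_sq hN hsq hk heK
        have hcommE : k * e * k⁻¹ * e⁻¹ ∈ E := E.mul_mem (h.E_conj k e he) (E.inv_mem he)
        have h2 : 2 ≤ Nat.card ↥(N ⊓ E) := by
          have := (one_lt_card_iff_ne_bot (N ⊓ E)).2 (by
            intro hbot
            have h3 : k * e * k⁻¹ * e⁻¹ ∈ N ⊓ E := ⟨hcomm, hcommE⟩
            rw [hbot, mem_bot, mul_inv_eq_one, mul_inv_eq_iff_eq_mul] at h3
            exact hke h3)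
          omega
        have h3 : (N ⊓ E).relIndex (K ⊓ E) ≤ 8 := by nlinarith
        calc _ ≤ 2 * 8 := Nat.mul_le_mul (hr2.trans hK2) h3
          _ = 2 ^ 4 := by norm_num
  · -- `|KE/E| ≥ 4`
    push Not at hK2
    obtain ⟨hW4, hWc⟩ : Nat.card W = 4 ∧ centralizer (W : Set (S ⧸ E)) = W := by
      rcases hW with hW | hW
      · have := card_le_card_group K'
        omega
      · exact hW
    obtain ⟨m, hm⟩ := ((isPGroup_quot h hE).to_subgroup K').exists_card_eq
    have hm2 : 2 ≤ m := by
      by_contra hlt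
      push Not at hlt
      have : 2 ^ m ≤ 2 ^ 1 := Nat.pow_le_pow_right (by norm_num) (by omega)
      omega
    have hK4 : 4 ≤ Nat.card K' := by
      rw [hm]
      calc 4 = 2 ^ 2 := by norm_num
        _ ≤ 2 ^ m := Nat.pow_le_pow_right (by norm_num) hm2
    -- `K' ∩ W ≠ 1`
    have hinf : K' ⊓ W ≠ ⊥ := by
      intro hbot
      have h1 : Nat.card K' * Nat.card W ≤ Nat.card (S ⧸ E) := by
        have hinj : Function.Injective (fun p : K' × W => (p.1 : S ⧸ E) * p.2) := by
          rintro ⟨x, y⟩ ⟨x', y'⟩ hxy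
          have h2 : (x : S ⧸ E) * y = x' * y' := hxy
          have h3 : (x' : S ⧸ E)⁻¹ * x = y' * (y : S ⧸ E)⁻¹ := by
            rw [inv_mul_eq_iff_eq_mul, ← mul_assoc, ← h2, mul_inv_cancel_right]
          have h4 : (x' : S ⧸ E)⁻¹ * x ∈ K' ⊓ W :=
            ⟨K'.mul_mem (K'.inv_mem x'.2) x.2, by rw [h3]; exact W.mul_mem y'.2 (W.inv_mem y.2)⟩
          rw [hbot, mem_bot] at h4
          have h5 : (x : S ⧸ E) = x' := (inv_mul_eq_one.1 h4).symm
          rw [h4] at h3
          have h6 : (y' : S ⧸ E) = y := mul_inv_eq_one.1 h3.symm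
          exact Prod.ext (Subtype.ext h5) (Subtype.ext h6.symm)
        have h7 := Nat.card_le_card_of_injective _ hinj
        rwa [Nat.card_prod] at h7
      rw [hW4] at h1
      nlinarith
    obtain ⟨q, hq, hq1⟩ : ∃ q ∈ K' ⊓ W, q ≠ 1 := by
      by_contra hcon
      push Not at hcon
      exact hinf ((eq_bot_iff_forall _).2 hcon)
    obtain ⟨⟨k, hk, hkq⟩, hqW⟩ := hq
    have hkE : k ∉ E := by
      intro hkE
      apply hq1
      rw [← hkq]; exact (hker k).2 hkE
    have hfk := hfix k (by rw [hkq]; exact hqW) hkE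
    -- `K'` is generated by two elements
    have hgen : GenLE 2 K' := by
      by_cases hK'4 : Nat.card K' ≤ 4
      · exact genLE_of_card_le (by simpa using hK'4)
      · have hm3 : Nat.card K' = 8 := by
          have hm3 : 3 ≤ m := by
            by_contra hlt
            push Not at hlt
            have : 2 ^ m ≤ 2 ^ 2 := Nat.pow_le_pow_right (by norm_num) (by omega)
            omega
          have : 2 ^ 3 ≤ 2 ^ m := Nat.pow_le_pow_right (by norm_num) hm3
          omega
        have htop : K' = ⊤ := by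
          apply eq_top_of_le_card
          omega
        -- some element does not centralize `W`
        obtain ⟨x, hx, y, hy⟩ : ∃ x ∈ W, ∃ y : S ⧸ E, x * y ≠ y * x := by
          by_contra hcon
          push Not at hcon
          have h1 : (⊤ : Subgroup (S ⧸ E)) ≤ W := by
            rw [← hWc]
            intro y _
            rw [mem_centralizer_iff]
            exact fun x hx => hcon x hx y
          have := card_le_of_le h1
          rw [← htop] at this
          omega
        exact genLE_two_of_card_le_eight hK'8 x y (by rw [htop]; trivial) (by rw [htop]; trivial) hy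
    have h1 := hgen _ hmono hsq'
    have h2 := card_le_inf_mul_fix (K ⊓ E) N k (fun u hu => ⟨K.mul_mem (K.mul_mem hk hu.1)
      (K.inv_mem hk), h.E_conj k u hu.2⟩) (fun u hu v hv => h.E_comm u hu.2 v hv.2)
      (fun u hu => comm_mem_of_sq hN hsq hk hu.1)
    have h3 : Nat.card (fix (K ⊓ E) k) ≤ 4 := by
      refine le_trans (card_le_of_le ?_) hfk
      intro x hx
      rw [mem_fix] at hx ⊢
      exact ⟨hx.1.2, hx.2⟩
    have h4 : N ⊓ (K ⊓ E) = N ⊓ E := by
      rw [← inf_assoc, inf_eq_left.2 hN]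
    rw [h4] at h2
    have h5 : (N ⊓ E).relIndex (K ⊓ E) ≤ 4 := by
      by_contra hlt
      push Not at hlt
      have h6 : Nat.card ↥(K ⊓ E) ≤ Nat.card ↥(N ⊓ E) * 4 :=
        h2.trans (Nat.mul_le_mul_left _ h3)
      nlinarith
    calc _ ≤ 2 ^ 2 * 4 := Nat.mul_le_mul h1 h5
      _ = 2 ^ 4 := by norm_num

end Quotient

/-- The case `|E| = 16` of the theorem on self-centralizing elementary abelian subgroups of order 8. -/
theorem case16 (h : Setup A E) (hE : Nat.card E = 16) (K : Subgroup S) : GenLE 4 K := by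
  have hEn : E.Normal := ⟨fun n hn g => h.E_conj g n hn⟩
  exact case16_aux h hE K

end Cfsg.Agent.TwoFusion.HaradaSixteen
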