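import Mathlib
import Cfsg.Prelude.Def_CaseTheorems
import Cfsg.Agent.TwoFusion.SectionalRank
import Cfsg.Agent.Transfer.PGroupNormal

/-!
# 2-groups with an elementary abelian subgroup of order 16 which is the centralizer of many involutions

Let `S` be a finite 2-group, `T ≤ S` elementary abelian of order 16, `B ≤ T` of order 4, such that
`C_S(b) = T` for all `b ∈ B`, `b ≠ 1`. Then `|S| ≤ 128` and `S` has sectional 2-rank at most 4
(`sectional_le_four`).
-/

set_option autoImplicit false
set_option linter.unusedSectionVars false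

namespace Cfsg.Agent.TwoFusion.SelfCentSixteen

open Subgroup
open Cfsg.Agent.TwoFusion.SectionalRank

variable {G : Type*} [Group G]

/-! ### Counting lemmas -/

theorem card_eq_mul_relIndex {H K : Subgroup G} (h : H ≤ K) :
    Nat.card K = Nat.card H * H.relIndex K := by
  have h1 := Subgroup.relIndex_mul_relIndex ⊥ H K bot_le h
  rw [Subgroup.relIndex_bot_left, Subgroup.relIndex_bot_left] at h1
  exact h1.symm

/-- `#H * #K ≤ #L * #(H ⊓ K)` for subgroups `H, K ≤ L`. -/
theorem card_mul_le [Finite G] {H K L : Subgroup G} (hH : H ≤ L) (hK : K ≤ L) :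
    Nat.card H * Nat.card K ≤ Nat.card L * Nat.card (H ⊓ K : Subgroup G) := by
  have h1 : (H ⊓ K).relIndex L ≤ H.relIndex L * K.relIndex L := Subgroup.relIndex_inf_le
  have h2 := card_eq_mul_relIndex hH
  have h3 := card_eq_mul_relIndex hK
  have h4 := card_eq_mul_relIndex (inf_le_left.trans hH : H ⊓ K ≤ L)
  have hL : 0 < Nat.card L := Nat.card_pos
  set h := Nat.card H
  set k := Nat.card K
  set l := Nat.card L
  set i := Nat.card (H ⊓ K : Subgroup G)
  have h5 : l * (h * k) ≤ l * (l * i) := by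
    calc l * (h * k) = (i * (H ⊓ K).relIndex L) * (h * k) := by rw [← h4]
      _ ≤ (i * (H.relIndex L * K.relIndex L)) * (h * k) :=
          Nat.mul_le_mul_right _ (Nat.mul_le_mul_left _ h1)
      _ = (h * H.relIndex L) * (k * K.relIndex L) * i := by ring
      _ = l * l * i := by rw [← h2, ← h3]
      _ = l * (l * i) := by ring
  exact Nat.le_of_mul_le_mul_left h5 hL

/-- If `x e x⁻¹ e⁻¹ ∈ K` for all `x ∈ X`, then `#X ≤ #C_X(e) * #K`. -/
theorem card_le_mul_of_comm [Finite G] (X C K : Subgroup G) (e : G)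
    (hC : ∀ x ∈ X, x * e = e * x → x ∈ C) (h : ∀ x ∈ X, x * e * x⁻¹ * e⁻¹ ∈ K) :
    Nat.card X ≤ Nat.card C * Nat.card K := by
  set D : Subgroup G := X ⊓ centralizer ({e} : Set G) with hD
  have h1 : Nat.card X = Nat.card D * D.relIndex X := card_eq_mul_relIndex inf_le_left
  have hDC : D ≤ C := fun x hx => hC x hx.1 (mem_centralizer_singleton_iff.mp hx.2)
  have h2 : D.relIndex X ≤ Nat.card K := by
    rw [Subgroup.relIndex, Subgroup.index]
    let f : X → K := fun x => ⟨x * e * (x : G)⁻¹ * e⁻¹, h x x.2⟩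
    have hf : ∀ x y : X, f x = f y ↔ x⁻¹ * y ∈ D.subgroupOf X := by
      intro x y
      rw [mem_subgroupOf, hD, mem_inf, mem_centralizer_singleton_iff]
      simp only [f, Subtype.mk.injEq, mul_left_inj]
      constructor
      · intro hxy
        refine ⟨(x⁻¹ * y).2, ?_⟩
        show ((x : G)⁻¹ * y) * e = e * ((x : G)⁻¹ * y)
        calc ((x : G)⁻¹ * y) * e = (x : G)⁻¹ * (y * e * (y : G)⁻¹) * y := by group
          _ = (x : G)⁻¹ * (x * e * (x : G)⁻¹) * y := by rw [hxy]
          _ = e * ((x : G)⁻¹ * y) := by group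
      · rintro ⟨-, hxy⟩
        have hxy' : ((x : G)⁻¹ * y) * e = e * ((x : G)⁻¹ * y) := hxy
        calc (x : G) * e * (x : G)⁻¹ = x * (e * ((x : G)⁻¹ * y)) * (y : G)⁻¹ := by group
          _ = x * (((x : G)⁻¹ * y) * e) * (y : G)⁻¹ := by rw [hxy']
          _ = y * e * (y : G)⁻¹ := by group
    refine Nat.card_le_card_of_injective
      (Quotient.lift f (fun x y hxy => (hf x y).mpr (QuotientGroup.leftRel_apply.mp hxy))) ?_
    rintro ⟨x⟩ ⟨y⟩ hxy
    exact Quotient.sound (QuotientGroup.leftRel_apply.mpr ((hf x y).mp hxy))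
  rw [h1]
  exact Nat.mul_le_mul (card_le_of_le hDC) h2

/-- In a 2-group, orders of subgroups are powers of two. -/
theorem exists_card_eq [Finite G] (hG : IsPGroup 2 G) (H : Subgroup G) :
    ∃ n, Nat.card H = 2 ^ n :=
  IsPGroup.iff_card.mp (hG.to_subgroup H)

/-- A proper inclusion of 2-groups at least doubles the order. -/
theorem two_mul_card_le [Finite G] (hG : IsPGroup 2 G) {H K : Subgroup G} (h : H < K) :
    2 * Nat.card H ≤ Nat.card K := by
  obtain ⟨m, hm⟩ := exists_card_eq hG H
  obtain ⟨n, hn⟩ := exists_card_eq hG K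
  have h1 : Nat.card H < Nat.card K := by
    refine lt_of_le_of_ne (card_le_of_le h.le) fun h2 => h.ne ?_
    exact Subgroup.eq_of_le_of_card_ge h.le h2.ge
  rw [hm, hn] at h1 ⊢
  have h2 : m < n := (Nat.pow_lt_pow_iff_right (by norm_num)).mp h1
  calc 2 * 2 ^ m = 2 ^ (m + 1) := by ring
    _ ≤ 2 ^ n := Nat.pow_le_pow_right (by norm_num) h2

/-- For `Y ≤ X` in a 2-group with `#X > 16 * #Y` we have `#X ≥ 32 * #Y`. -/
theorem thirtytwo_le [Finite G] (hG : IsPGroup 2 G) {X Y : Subgroup G}
    (h : 16 * Nat.card Y < Nat.card X) : 32 * Nat.card Y ≤ Nat.card X := by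
  obtain ⟨m, hm⟩ := exists_card_eq hG Y
  obtain ⟨n, hn⟩ := exists_card_eq hG X
  rw [hm, hn] at h ⊢
  have h1 : 2 ^ (4 + m) < 2 ^ n := by rw [pow_add]; exact h
  have h2 : 4 + m < n := (Nat.pow_lt_pow_iff_right (by norm_num)).mp h1
  calc 32 * 2 ^ m = 2 ^ (5 + m) := by rw [pow_add]; norm_num
    _ ≤ 2 ^ n := Nat.pow_le_pow_right (by norm_num) (by omega)

/-! ### The set-up -/

/-- Elementary abelian subgroups of order 16. -/
structure IsE16 (R : Subgroup G) : Prop where
  card : Nat.card R = 16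
  comm : ∀ a ∈ R, ∀ b ∈ R, a * b = b * a
  sq : ∀ a ∈ R, a * a = 1

/-- The conjugate `g R g⁻¹`. -/
def cj (g : G) (R : Subgroup G) : Subgroup G := R.map (MulAut.conj g).toMonoidHom

theorem mem_cj {g : G} {R : Subgroup G} {x : G} : x ∈ cj g R ↔ g⁻¹ * x * g ∈ R := by
  constructor
  · rintro ⟨y, hy, rfl⟩
    have : g⁻¹ * (MulAut.conj g).toMonoidHom y * g = y := by
      simp [mul_assoc]
    rw [this]
    exact hy
  · intro h
    refine ⟨_, h, ?_⟩
    simp [mul_assoc]

theorem conj_mem_cj {g : G} {R : Subgroup G} {x : G} (h : x ∈ R) : g * x * g⁻¹ ∈ cj g R :=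
  ⟨x, h, rfl⟩

theorem cj_mono {g : G} {R R' : Subgroup G} (h : R ≤ R') : cj g R ≤ cj g R' := Subgroup.map_mono h

theorem card_cj (g : G) (R : Subgroup G) : Nat.card (cj g R) = Nat.card R :=
  Subgroup.card_map_of_injective (MulAut.conj g).injective

theorem cj_injective (g : G) : Function.Injective (cj g) :=
  Subgroup.map_injective (MulAut.conj g).injective

theorem IsE16.cj {R : Subgroup G} (h : IsE16 R) (g : G) : IsE16 (cj g R) where
  card := by rw [card_cj, h.card]
  comm := by
    rintro _ ⟨a, ha, rfl⟩ _ ⟨b, hb, rfl⟩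
    rw [← map_mul, ← map_mul, h.comm a ha b hb]
  sq := by
    rintro _ ⟨a, ha, rfl⟩
    rw [← map_mul, h.sq a ha, map_one]

theorem cj_eq_iff_mem_normalizer [Finite G] {g : G} {R : Subgroup G} :
    cj g R = R ↔ g ∈ normalizer (R : Set G) := by
  rw [Subgroup.mem_normalizer_iff]
  constructor
  · intro h x
    constructor
    · intro hx
      have := conj_mem_cj (g := g) hx
      rwa [h] at this
    · intro hx
      rw [← h] at hx
      have hx' : g * x * g⁻¹ ∈ cj g R := hx
      rw [mem_cj] at hx'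
      have : g⁻¹ * (g * x * g⁻¹) * g = x := by group
      rwa [this] at hx'
  · intro h
    apply Subgroup.eq_of_le_of_card_ge
    · rintro _ ⟨a, ha, rfl⟩
      exact (h a).mp ha
    · rw [card_cj]

theorem mem_normalizer_of_cj_le [Finite G] {g : G} {R : Subgroup G} (h : cj g R ≤ R) :
    g ∈ normalizer (R : Set G) := by
  rw [← cj_eq_iff_mem_normalizer]
  exact Subgroup.eq_of_le_of_card_ge h (by rw [card_cj])

/-- The hypotheses: `T` elementary abelian of order 16, `B ≤ T` of order 4 and `C_S(b) = T` for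
`1 ≠ b ∈ B`. -/
structure Setup (T B : Subgroup G) : Prop where
  e16 : IsE16 T
  le : B ≤ T
  card : Nat.card B = 4
  cent : ∀ b ∈ B, b ≠ 1 → ∀ s : G, s * b = b * s → s ∈ T

section

variable [Finite G] {T B : Subgroup G}

theorem Setup.exists_ne {T B : Subgroup G} (h : Setup T B) : ∃ b ∈ B, b ≠ 1 := by
  by_contra hcon
  push Not at hcon
  have : B = ⊥ := by
    rw [eq_bot_iff]
    intro b hb
    exact Subgroup.mem_bot.mpr (hcon b hb)
  have h1 := h.card
  rw [this, Subgroup.card_bot] at h1
  omega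

/-- A subgroup of `T` centralized by an element outside `T` has order at most 4. -/
theorem Setup.card_le_four (h : Setup T B) {R : Subgroup G} (hR : R ≤ T) {n : G} (hn : n ∉ T)
    (hc : ∀ r ∈ R, n * r = r * n) : Nat.card R ≤ 4 := by
  have h1 := card_mul_le hR h.le
  have h2 : R ⊓ B = ⊥ := by
    rw [eq_bot_iff]
    intro b hb
    rw [Subgroup.mem_bot]
    by_contra hb1
    exact hn (h.cent b hb.2 hb1 n (hc b hb.1))
  rw [h2, h.card, h.e16.card, Subgroup.card_bot] at h1
  omega

/-- The normalizer of `T` has order at most 64. -/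
theorem Setup.card_normalizer_le (hG : IsPGroup 2 G) (h : Setup T B) :
    Nat.card (normalizer (T : Set G)) ≤ 64 := by
  set N : Subgroup G := normalizer (T : Set G) with hN
  have hTN : T ≤ N := Subgroup.le_normalizer
  have hTn : (T.subgroupOf N).Normal := Subgroup.normal_in_normalizer
  have hNp : IsPGroup 2 N := hG.to_subgroup N
  have hcT : Nat.card (T.subgroupOf N) = 16 := by
    rw [Nat.card_congr (Subgroup.subgroupOfEquivOfLe hTN).toEquiv, h.e16.card]
  obtain ⟨K3, hK3n, -, hK3T, hK3c⟩ := Cfsg.Agent.Transfer.PGroupNormal.exists_normal_between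
    (p := 2) hNp (N := ⊥) (K := T.subgroupOf N) inferInstance hTn bot_le (k := 3)
    (by rw [Subgroup.card_bot]; norm_num) (by rw [hcT]; norm_num)
  obtain ⟨K2, hK2n, -, hK23, hK2c⟩ := Cfsg.Agent.Transfer.PGroupNormal.exists_normal_between
    (p := 2) hNp (N := ⊥) (K := K3) inferInstance hK3n bot_le (k := 2)
    (by rw [Subgroup.card_bot]; norm_num) (by rw [hK3c]; norm_num)
  -- commutators of `N` with `K3` lie in `K2`
  have hidx : K2.relIndex K3 = 2 := by
    have := card_eq_mul_relIndex hK23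
    rw [hK3c, hK2c] at this
    omega
  have hcomm : ∀ x : N, ∀ k ∈ K3, x * k * x⁻¹ * k⁻¹ ∈ K2 := by
    intro x k hk
    by_cases hk2 : k ∈ K2
    · exact K2.mul_mem (hK2n.conj_mem k hk2 x) (K2.inv_mem hk2)
    · have hxk : x * k * x⁻¹ ∈ K3 := hK3n.conj_mem k hk x
      have hxk2 : x * k * x⁻¹ ∉ K2 := by
        intro hcon
        apply hk2
        have := hK2n.conj_mem _ hcon x⁻¹
        have e : x⁻¹ * (x * k * x⁻¹) * x⁻¹⁻¹ = k := by group
        rwa [e] at this
      have h2 := Subgroup.mul_mem_iff_of_index_two (H := K2.subgroupOf K3) hidx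
        (a := ⟨x * k * x⁻¹, hxk⟩) (b := ⟨k⁻¹, K3.inv_mem hk⟩)
      rw [mem_subgroupOf, mem_subgroupOf, mem_subgroupOf] at h2
      exact h2.mpr ⟨fun h3 => absurd h3 hxk2, fun h3 => absurd (by simpa using h3) hk2⟩
  -- an element of `B` in `K3`
  set L3 : Subgroup G := K3.map N.subtype with hL3
  set L2 : Subgroup G := K2.map N.subtype with hL2
  have hL3T : L3 ≤ T := by
    rintro _ ⟨x, hx, rfl⟩
    exact hK3T hx
  have hL3c : Nat.card L3 = 8 := by
    rw [hL3, Subgroup.card_map_of_injective N.subtype_injective, hK3c]; norm_num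
  have hL2c : Nat.card L2 = 4 := by
    rw [hL2, Subgroup.card_map_of_injective N.subtype_injective, hK2c]; norm_num
  have h4 := card_mul_le h.le hL3T
  rw [h.card, hL3c, h.e16.card] at h4
  have h5 : ∃ b ∈ B ⊓ L3, b ≠ 1 := by
    by_contra hcon
    push Not at hcon
    have : B ⊓ L3 = ⊥ := by
      rw [eq_bot_iff]
      intro b hb
      exact Subgroup.mem_bot.mpr (hcon b hb)
    rw [this, Subgroup.card_bot] at h4
    omega
  obtain ⟨b, hb, hb1⟩ := h5
  have h6 := card_le_mul_of_comm N T L2 b (fun x _ hx => h.cent b hb.1 hb1 x hx) (by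
    intro x hx
    obtain ⟨k, hk, hkb⟩ := hb.2
    refine ⟨⟨x, hx⟩ * k * ⟨x, hx⟩⁻¹ * k⁻¹, hcomm ⟨x, hx⟩ k hk, ?_⟩
    rw [← hkb]
    simp)
  rw [h.e16.card, hL2c] at h6
  exact h6

/-- A second elementary abelian subgroup of order 16 in the normalizer. -/
theorem Setup.second (hG : IsPGroup 2 G) (h : Setup T B) {R : Subgroup G} (hR : IsE16 R)
    (hRN : R ≤ normalizer (T : Set G)) (hne : R ≠ T) :
    Nat.card (T ⊓ R : Subgroup G) = 4 ∧ T ⊔ R = normalizer (T : Set G) ∧
      Nat.card (normalizer (T : Set G)) = 64 := by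
  have hN := h.card_normalizer_le hG
  have hTN : T ≤ normalizer (T : Set G) := Subgroup.le_normalizer
  have h1 : ∃ r ∈ R, r ∉ T := by
    by_contra hcon
    push Not at hcon
    exact hne (Subgroup.eq_of_le_of_card_ge hcon (by rw [hR.card, h.e16.card]))
  obtain ⟨r, hr, hrT⟩ := h1
  have h2 : Nat.card (T ⊓ R : Subgroup G) ≤ 4 :=
    h.card_le_four inf_le_left hrT (fun x hx => hR.comm r hr x hx.2)
  have h3 := card_mul_le hTN hRN
  have h4 := card_mul_le (le_sup_left : T ≤ T ⊔ R) (le_sup_right : R ≤ T ⊔ R)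
  rw [h.e16.card, hR.card] at h3 h4
  have h5 : Nat.card (T ⊓ R : Subgroup G) = 4 := by
    by_contra h5
    have : Nat.card (T ⊓ R : Subgroup G) ≤ 3 := by omega
    have := Nat.mul_le_mul hN this
    omega
  rw [h5] at h3 h4
  have h6 : T ⊔ R ≤ normalizer (T : Set G) := sup_le hTN hRN
  have h7 := card_le_of_le h6
  refine ⟨h5, Subgroup.eq_of_le_of_card_ge h6 (by omega), by omega⟩

/-- The case `X ≤ N` of the bound, where `N` normalizes `T`. -/
theorem Setup.small (hG : IsPGroup 2 G) (h : Setup T B) {X Y : Subgroup G}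
    (hXN : X ≤ normalizer (T : Set G)) (hXY : ElemSection 2 X Y) :
    Nat.card X ≤ 16 * Nat.card Y := by
  by_contra hcon
  push Not at hcon
  have h32 := thirtytwo_le hG hcon
  have hN := h.card_normalizer_le hG
  have hTN : T ≤ normalizer (T : Set G) := Subgroup.le_normalizer
  have hXle := card_le_of_le hXN
  have hY : 0 < Nat.card Y := Nat.card_pos
  have hXT : ¬ X ≤ T := by
    intro hXT
    have := card_le_of_le hXT
    rw [h.e16.card] at this
    omega
  obtain ⟨x, hx, hxT⟩ := SetLike.not_le_iff_exists.mp hXT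
  have hY2 : Nat.card Y = 1 ∨ Nat.card Y = 2 := by omega
  rcases hY2 with hY1 | hY2
  · have hYb : Y = ⊥ := Subgroup.card_eq_one.mp hY1
    have hcomm : ∀ a ∈ X, ∀ b ∈ X, a * b = b * a := by
      intro a ha b hb
      have := hXY.comm a ha b hb
      rw [hYb, Subgroup.mem_bot, mul_inv_eq_one, mul_inv_eq_iff_eq_mul] at this
      exact this
    have h1 : Nat.card (T ⊓ X : Subgroup G) ≤ 4 :=
      h.card_le_four inf_le_left hxT (fun r hr => hcomm x hx r hr.2)
    have h2 := card_mul_le hTN hXN
    rw [h.e16.card] at h2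
    have h3 := Nat.mul_le_mul hN h1
    omega
  · obtain ⟨b, hb, hb1⟩ := h.exists_ne
    have hXeq : X = normalizer (T : Set G) := Subgroup.eq_of_le_of_card_ge hXN (by omega)
    have hbX : b ∈ X := by rw [hXeq]; exact hTN (h.le hb)
    have h2 := card_le_mul_of_comm X T Y b (fun y _ hy => h.cent b hb hb1 y hy)
      (fun y hy => hXY.comm y hy b hbX)
    rw [h.e16.card, hY2] at h2
    omega

/-- The main theorem: sectional rank at most 4. -/
theorem Setup.sectional_le_four (hG : IsPGroup 2 G) (h : Setup T B) :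
    Cfsg.SectionalPRankLE 2 4 G := by
  have hnil : Group.IsNilpotent G := hG.isNilpotent
  have hnc : ∀ H : Subgroup G, normalizer (H : Set G) = H → H = ⊤ :=
    normalizerCondition_iff_only_full_group_self_normalizing.mp
      Group.normalizerCondition_of_isNilpotent
  rw [sectionalPRankLE_iff]
  intro X Y hXY
  change Nat.card X ≤ 16 * Nat.card Y
  set N : Subgroup G := normalizer (T : Set G) with hN
  have hTN : T ≤ N := Subgroup.le_normalizer
  by_cases hA : ∀ R : Subgroup G, IsE16 R → R ≤ N → R = T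
  · -- `T` is the only such subgroup in its normalizer
    have hNN : normalizer (N : Set G) = N := by
      refine le_antisymm ?_ Subgroup.le_normalizer
      intro g hg
      rw [hN, ← cj_eq_iff_mem_normalizer]
      apply hA _ (h.e16.cj g)
      rw [← cj_eq_iff_mem_normalizer] at hg
      rw [← hg]
      exact cj_mono hTN
    have hNtop : N = ⊤ := hnc N hNN
    exact h.small hG (by rw [← hN, hNtop]; exact le_top) hXY
  push Not at hA
  obtain ⟨R, hR, hRN, hRT⟩ := hA
  obtain ⟨hZ4, hTR, hN64⟩ := h.second hG hR hRN hRT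
  set Z : Subgroup G := T ⊓ R with hZ
  -- `Z` is central in `N`
  have hZc : ∀ z ∈ Z, ∀ n ∈ N, n * z = z * n := by
    intro z hz n hn
    rw [hN, ← hTR] at hn
    have hle : T ⊔ R ≤ centralizer ({z} : Set G) := by
      refine sup_le (fun t ht => ?_) (fun r hr => ?_)
      · exact mem_centralizer_singleton_iff.mpr (h.e16.comm t ht z hz.1)
      · exact mem_centralizer_singleton_iff.mpr (hR.comm r hr z hz.2)
    exact mem_centralizer_singleton_iff.mp (hle hn)
  have h1 : ∃ r ∈ R, r ∉ T := by
    by_contra hcon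
    push Not at hcon
    exact hRT (Subgroup.eq_of_le_of_card_ge hcon (by rw [hR.card, h.e16.card]))
  obtain ⟨r₀, hr₀, hr₀T⟩ := h1
  have hBZ : B ⊓ Z = ⊥ := by
    rw [eq_bot_iff]
    intro b hb
    rw [Subgroup.mem_bot]
    by_contra hb1
    exact hr₀T (h.cent b hb.1 hb1 r₀ (hR.comm r₀ hr₀ b hb.2.2))
  have hTBZ : B ⊔ Z = T := by
    have hle : B ⊔ Z ≤ T := sup_le h.le inf_le_left
    have := card_mul_le (le_sup_left : B ≤ B ⊔ Z) (le_sup_right : Z ≤ B ⊔ Z)
    rw [hBZ, Subgroup.card_bot, h.card, hZ4] at this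
    apply Subgroup.eq_of_le_of_card_ge hle
    rw [h.e16.card]
    omega
  -- centralizers of elements of `T \ Z`
  have hcT : ∀ t ∈ T, t ∉ Z → ∀ n ∈ N, n * t = t * n → n ∈ T := by
    intro t ht htZ n hn hnt
    have ht' : t ∈ B ⊔ Z := by rw [hTBZ]; exact ht
    have hZn : (Z.subgroupOf N).Normal := by
      constructor
      intro z hz x
      rw [mem_subgroupOf] at hz ⊢
      have := hZc _ hz x x.2
      have e : ((x * z * x⁻¹ : N) : G) = z := by
        simp only [Subgroup.coe_mul, Subgroup.coe_inv]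
        rw [this]
        group
      rw [e]
      exact hz
    -- write `t = b z`
    have hex : ∃ b ∈ B, ∃ z ∈ Z, b * z = t := by
      have hcomm : ∀ b ∈ B, ∀ z ∈ Z, b * z = z * b := fun b hb z hz =>
        h.e16.comm b (h.le hb) z hz.1
      let P : Subgroup G :=
        { carrier := {t | ∃ b ∈ B, ∃ z ∈ Z, b * z = t}
          one_mem' := ⟨1, B.one_mem, 1, Z.one_mem, by simp⟩
          mul_mem' := by
            rintro _ _ ⟨b, hb, z, hz, rfl⟩ ⟨b', hb', z', hz', rfl⟩
            refine ⟨b * b', B.mul_mem hb hb', z * z', Z.mul_mem hz hz', ?_⟩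
            have := hcomm b' hb' z hz
            calc b * b' * (z * z') = b * (b' * z) * z' := by group
              _ = b * (z * b') * z' := by rw [this]
              _ = b * z * (b' * z') := by group
          inv_mem' := by
            rintro _ ⟨b, hb, z, hz, rfl⟩
            refine ⟨b⁻¹, B.inv_mem hb, z⁻¹, Z.inv_mem hz, ?_⟩
            have := hcomm b⁻¹ (B.inv_mem hb) z⁻¹ (Z.inv_mem hz)
            rw [mul_inv_rev, this] }
      have hle : B ⊔ Z ≤ P := sup_le (fun b hb => ⟨b, hb, 1, Z.one_mem, by simp⟩)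
        (fun z hz => ⟨1, B.one_mem, z, hz, by simp⟩)
      exact hle ht'
    obtain ⟨b, hb, z, hz, rfl⟩ := hex
    have hb1 : b ≠ 1 := by
      rintro rfl
      apply htZ
      simpa using hz
    apply h.cent b hb hb1
    have h2 := hZc z hz n hn
    have h3 : n * b * z = b * n * z := by
      calc n * b * z = n * (b * z) := by group
        _ = (b * z) * n := hnt
        _ = b * (z * n) := by group
        _ = b * (n * z) := by rw [h2]
        _ = b * n * z := by group
    exact mul_right_cancel h3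
  -- `T` and `R` are normal in `N`
  have hTnorm : ∀ n ∈ N, ∀ t ∈ T, n * t * n⁻¹ ∈ T := fun n hn t ht =>
    (Subgroup.mem_normalizer_iff.mp hn t).mp ht
  have hRidx : R.relIndex N = 4 := by
    have := card_eq_mul_relIndex hRN
    rw [hN64, hR.card] at this
    omega
  -- every element of `N` is a product
  have hprod : ∀ n ∈ N, ∃ t ∈ T, ∃ r ∈ R, t * r = n := by
    let P : Subgroup G :=
      { carrier := {n | ∃ t ∈ T, ∃ r ∈ R, t * r = n}
        one_mem' := ⟨1, T.one_mem, 1, R.one_mem, by simp⟩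
        mul_mem' := by
          rintro _ _ ⟨t, ht, r, hr, rfl⟩ ⟨t', ht', r', hr', rfl⟩
          refine ⟨t * (r * t' * r⁻¹), T.mul_mem ht (hTnorm r (hRN hr) t' ht'), r * r',
            R.mul_mem hr hr', by group⟩
        inv_mem' := by
          rintro _ ⟨t, ht, r, hr, rfl⟩
          refine ⟨r⁻¹ * t⁻¹ * r⁻¹⁻¹, hTnorm _ (hRN (R.inv_mem hr)) _ (T.inv_mem ht), r⁻¹,
            R.inv_mem hr, by group⟩ }
    have hle : T ⊔ R ≤ P := sup_le (fun b hb => ⟨b, hb, 1, R.one_mem, by simp⟩)
      (fun z hz => ⟨1, T.one_mem, z, hz, by simp⟩)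
    intro n hn
    rw [hN, ← hTR] at hn
    exact hle hn
  -- involutions of `N`
  have hinv : ∀ n ∈ N, n * n = 1 → n ∈ T ∨ n ∈ R := by
    intro n hn hn2
    obtain ⟨t, ht, r, hr, rfl⟩ := hprod n hn
    by_cases htZ : t ∈ Z
    · exact Or.inr (R.mul_mem htZ.2 hr)
    · left
      have h2 : r * t = t * r := by
        have ht2 := h.e16.sq t ht
        have hr2 := hR.sq r hr
        calc r * t = (t * t) * (r * t) * (r * r) := by rw [ht2, hr2]; group
          _ = t * ((t * r) * (t * r)) * r := by group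
          _ = t * r := by rw [hn2]; group
      exact T.mul_mem ht (hcT t ht htZ r (hRN hr) h2)
  -- elementary abelian subgroups of order 16 in `N`
  have honly : ∀ R' : Subgroup G, IsE16 R' → R' ≤ N → R' = T ∨ R' = R := by
    intro R' hR' hR'N
    by_cases h2 : R' ≤ T
    · left
      exact Subgroup.eq_of_le_of_card_ge h2 (by rw [hR'.card, h.e16.card])
    · right
      obtain ⟨a, ha, haT⟩ := SetLike.not_le_iff_exists.mp h2
      have haR : a ∈ R := (hinv a (hR'N ha) (hR'.sq a ha)).resolve_left haT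
      refine Subgroup.eq_of_le_of_card_ge ?_ (by rw [hR'.card, hR.card])
      intro c hc
      by_contra hcR
      have hcT' : c ∈ T := (hinv c (hR'N hc) (hR'.sq c hc)).resolve_right hcR
      rcases hinv (a * c) (hR'N (R'.mul_mem ha hc)) (hR'.sq _ (R'.mul_mem ha hc)) with h3 | h3
      · apply haT
        have := T.mul_mem h3 (T.inv_mem hcT')
        simpa using this
      · apply hcR
        have := R.mul_mem (R.inv_mem haR) h3
        simpa using this
  -- the normalizer of `N`
  set S1 : Subgroup G := normalizer (N : Set G) with hS1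
  have hNS1 : N ≤ S1 := Subgroup.le_normalizer
  have hswap : ∀ y ∈ S1, y ∉ N → cj y T = R ∧ cj y R = T := by
    intro y hy hyN
    have hyN' : cj y N = N := cj_eq_iff_mem_normalizer.mpr hy
    have h2 : cj y T ≠ T := fun h3 => hyN (cj_eq_iff_mem_normalizer.mp h3)
    have h3 : cj y T = R := (honly _ (h.e16.cj y) (by
      conv_rhs => rw [← hyN']
      exact cj_mono hTN)).resolve_left h2
    refine ⟨h3, (honly _ (hR.cj y) (by
      conv_rhs => rw [← hyN']
      exact cj_mono hRN)).resolve_right fun h4 => ?_⟩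
    exact hRT (cj_injective y (h4.trans h3.symm))
  -- index of `N` in `S1`
  have hidx : ∀ X' : Subgroup G, X' ≤ S1 → Nat.card X' ≤ 2 * Nat.card (X' ⊓ N : Subgroup G) := by
    intro X' hX'
    have h2 : N.relIndex X' ∣ 2 := by
      rw [relIndex_dvd_two_iff]
      by_cases hX'N : X' ≤ N
      · exact ⟨1, X'.one_mem, fun b hb => Or.inr (hX'N hb)⟩
      · obtain ⟨y, hy, hyN⟩ := SetLike.not_le_iff_exists.mp hX'N
        refine ⟨y, hy, fun b hb => ?_⟩
        by_cases hbN : b ∈ N
        · exact Or.inr hbN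
        · left
          rw [hN, ← cj_eq_iff_mem_normalizer]
          obtain ⟨h3, h4⟩ := hswap y (hX' hy) hyN
          obtain ⟨h5, h6⟩ := hswap b (hX' hb) hbN
          have h7 : cj (b * y) T = cj b (cj y T) := by
            ext g
            rw [mem_cj, mem_cj, mem_cj]
            have : (b * y)⁻¹ * g * (b * y) = y⁻¹ * (b⁻¹ * g * b) * y := by group
            rw [this]
          rw [h7, h3, h6]
    have h3 := card_eq_mul_relIndex (inf_le_left : X' ⊓ N ≤ X')
    rw [Subgroup.inf_relIndex_left] at h3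
    have h4 := Nat.le_of_dvd (by norm_num) h2
    rw [h3, mul_comm]
    exact Nat.mul_le_mul_right _ h4
  -- `Z` is normalized by `S1`
  have hZS1 : ∀ y ∈ S1, ∀ z ∈ Z, y * z * y⁻¹ ∈ Z := by
    intro y hy z hz
    by_cases hyN : y ∈ N
    · have := hZc z hz y hyN
      have e : y * z * y⁻¹ = z := by rw [this]; group
      rw [e]; exact hz
    · obtain ⟨h3, h4⟩ := hswap y hy hyN
      constructor
      · have := conj_mem_cj (g := y) hz.2
        rwa [h4] at this
      · have := conj_mem_cj (g := y) hz.1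
        rwa [h3] at this
  -- elementary abelian subgroups of order `≥ 16` in `S1` lie in `N`
  have hin : ∀ R' : Subgroup G, 16 ≤ Nat.card R' → (∀ a ∈ R', ∀ b ∈ R', a * b = b * a) →
      (∀ a ∈ R', a * a = 1) → R' ≤ S1 → R' ≤ N := by
    intro R' hc' hcomm' hsq' hR'S
    by_contra hcon
    obtain ⟨y, hy, hyN⟩ := SetLike.not_le_iff_exists.mp hcon
    obtain ⟨h3, h4⟩ := hswap y (hR'S hy) hyN
    have h5 : R' ⊓ N ≤ Z := by
      intro r hr
      have hyr : y * r * y⁻¹ = r := by
        rw [hcomm' y hy r hr.1]; group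
      rcases hinv r hr.2 (hsq' r hr.1) with h6 | h6
      · refine ⟨h6, ?_⟩
        have := conj_mem_cj (g := y) h6
        rwa [h3, hyr] at this
      · refine ⟨?_, h6⟩
        have := conj_mem_cj (g := y) h6
        rwa [h4, hyr] at this
    have h6 := hidx R' hR'S
    have h7 := card_le_of_le h5
    rw [hZ4] at h7
    omega
  -- hence `S1` is self-normalizing
  have hS1top : S1 = ⊤ := by
    apply hnc
    refine le_antisymm ?_ Subgroup.le_normalizer
    intro g hg
    rw [← cj_eq_iff_mem_normalizer] at hg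
    have hle : ∀ R' : Subgroup G, IsE16 R' → R' ≤ N → cj g R' ≤ N := by
      intro R' hR' hR'N
      have h2 := hR'.cj g
      apply hin _ h2.card.ge h2.comm h2.sq
      rw [← hg]
      exact cj_mono (hR'N.trans hNS1)
    rw [hS1]
    apply mem_normalizer_of_cj_le
    have h2 : cj g N = cj g T ⊔ cj g R := by
      have : N = T ⊔ R := by rw [hTR]
      rw [this]
      exact Subgroup.map_sup _ _ _
    rw [h2]
    exact sup_le (hle T h.e16 hTN) (hle R hR hRN)
  -- final count
  by_cases hXN : X ≤ N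
  · exact h.small hG hXN hXY
  by_contra hcon
  push Not at hcon
  have h32 := thirtytwo_le hG hcon
  have hYpos : 0 < Nat.card Y := Nat.card_pos
  obtain ⟨y, hy, hyN⟩ := SetLike.not_le_iff_exists.mp hXN
  have hXS1 : X ≤ S1 := by rw [hS1top]; exact le_top
  obtain ⟨h3, h4⟩ := hswap y (hXS1 hy) hyN
  by_cases hX64 : 64 ≤ Nat.card X
  · have h5 := hidx X hXS1
    -- `X ⊓ T` and `X ⊓ R` are big
    have h6 := card_mul_le (inf_le_right : X ⊓ N ≤ N) hTN
    have h7 := card_mul_le (inf_le_right : X ⊓ N ≤ N) hRN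
    rw [hN64, h.e16.card] at h6
    rw [hN64, hR.card] at h7
    have h8 : Nat.card (X ⊓ N ⊓ T : Subgroup G) ≤ Nat.card (X ⊓ T : Subgroup G) :=
      card_le_of_le (inf_le_inf_right T inf_le_left)
    have h9 : Nat.card (X ⊓ N ⊓ R : Subgroup G) ≤ Nat.card (X ⊓ R : Subgroup G) :=
      card_le_of_le (inf_le_inf_right R inf_le_left)
    have h10 : ∃ t ∈ X ⊓ T, t ∉ Z := by
      by_contra hcon2
      push Not at hcon2
      have := card_le_of_le (show X ⊓ T ≤ Z from hcon2)
      rw [hZ4] at this
      omega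
    obtain ⟨t, ht, htZ⟩ := h10
    have h11 := card_le_mul_of_comm (X ⊓ R) Z (Y ⊓ Z) t (by
      intro x hx hxt
      exact ⟨hcT t ht.2 htZ x (hRN hx.2) hxt, hx.2⟩) (by
      intro x hx
      refine ⟨hXY.comm x hx.1 t ht.1, ?_, ?_⟩
      · exact T.mul_mem (hTnorm x (hRN hx.2) t ht.2) (T.inv_mem ht.2)
      · -- `R` is normalized by `t`
        have htN : t ∈ N := hTN ht.2
        have h12 : cj t R = R := by
          rcases honly _ (hR.cj t) (by
            have := cj_mono (g := t) hRN
            rwa [cj_eq_iff_mem_normalizer.mpr (hNS1 htN : t ∈ normalizer (N : Set G))] at this)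
            with h13 | h13
          · exfalso
            apply hRT
            apply cj_injective t
            rw [h13]
            exact (cj_eq_iff_mem_normalizer.mpr htN).symm
          · exact h13
        have h14 : t * x⁻¹ * t⁻¹ ∈ R := by
          have := conj_mem_cj (g := t) (R.inv_mem hx.2)
          rwa [h12] at this
        have e : x * t * x⁻¹ * t⁻¹ = x * (t * x⁻¹ * t⁻¹) := by group
        rw [e]
        exact R.mul_mem hx.2 h14)
    rw [hZ4] at h11
    -- an element of `Y` outside `Z`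
    have h12 : Y ⊓ Z < Y := by
      refine lt_of_le_of_ne inf_le_left fun h13 => ?_
      have h14 : Y ≤ Z := inf_eq_left.mp h13
      have h15 : y * t * y⁻¹ * t⁻¹ ∈ Z := h14 (hXY.comm y hy t ht.1)
      have h16 : y * t * y⁻¹ ∈ T := by
        have := T.mul_mem h15.1 ht.2
        simpa using this
      have h17 : y * t * y⁻¹ ∈ R := by
        have := conj_mem_cj (g := y) ht.2
        rwa [h3] at this
      have h18 := hZS1 y⁻¹ (S1.inv_mem (hXS1 hy)) _ ⟨h16, h17⟩
      apply htZ
      have e : y⁻¹ * (y * t * y⁻¹) * y⁻¹⁻¹ = t := by group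
      rwa [e] at h18
    have h13 := two_mul_card_le hG h12
    omega
  · -- `X` has order 32 and is elementary abelian
    have hY1 : Nat.card Y = 1 := by omega
    have hYb : Y = ⊥ := Subgroup.card_eq_one.mp hY1
    apply hXN
    apply hin X (by omega) ?_ ?_ hXS1
    · intro a ha b hb
      have := hXY.comm a ha b hb
      rw [hYb, Subgroup.mem_bot, mul_inv_eq_one, mul_inv_eq_iff_eq_mul] at this
      exact this
    · intro a ha
      have := hXY.pow a ha
      rwa [hYb, Subgroup.mem_bot, pow_two] at this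

end

end Cfsg.Agent.TwoFusion.SelfCentSixteen
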