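import Cfsg.Agent.TwoFusion.GoldSetup
import Cfsg.Agent.Lib.ComponentSolvable

/-!
# Goldschmidt's theorem: the induction

`tprop`: if simple groups with a strongly embedded subgroup satisfy `TCon` and every `Setup` leads to `TCon`, then
every finite simple nonabelian group satisfies `TProp`.
`goldschmidt`: the statement of S1169 from `TProp`.
-/

set_option autoImplicit false
set_option linter.style.haveILetI false

namespace Cfsg.Agent.TwoFusion.GoldMain

open Subgroup
open Cfsg.Agent.TwoFusion.ClosedFam Cfsg.Agent.TwoFusion.Gold Cfsg.Agent.TwoFusion.GoldSetup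

universe u

/-- The induction. -/
theorem tprop_aux
    (hBen : ∀ (G : Type u) [Group G] [Finite G], IsSimpleGroup G → (∃ a b : G, a * b ≠ b * a) →
      (∃ H : Subgroup G, Cfsg.IsStronglyEmbedded H) → TCon G)
    (hCase : ∀ (G : Type u) [Group G] [Finite G] (𝒜 : Set G), Setup 𝒜 → TCon G) :
    ∀ (n : ℕ) (G : Type u) [Group G] [Finite G], Nat.card G ≤ n → IsSimpleGroup G →
      (∃ a b : G, a * b ≠ b * a) → TProp G := by
  intro n
  induction n with
  | zero =>
    intro G _ _ hn
    exact absurd (Nat.card_pos (α := G)) (by omega)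
  | succ n ih =>
    intro G _ _ hn hsimple hnonab 𝒜 h𝒜 hne
    by_cases hSE : ∃ H : Subgroup G, Cfsg.IsStronglyEmbedded H
    · exact hBen G hsimple hnonab hSE
    -- a minimal subfamily
    obtain ⟨ℬ, ⟨hB1, hB2, hB3⟩, hmin⟩ := Set.Finite.exists_minimal
      (Set.toFinite {ℬ : Set G | IsElemFam ℬ ∧ ℬ ⊆ 𝒜 ∧ ∃ x ∈ ℬ, x ≠ 1}) ⟨𝒜, h𝒜, subset_rfl, hne⟩
    have hctx : ∀ H : Subgroup G, H ≠ ⊤ → Ctx (push ℬ H) := by
      intro H hH
      refine ⟨hB1.push H, ?_, ?_⟩
      · exact Cfsg.Agent.Lib.Cores.pPrimeCore_quotient_pPrimeCore 2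
      · intro K hK
        have hKq : Cfsg.IsQuasisimple ↥K := hK.2
        have hcard : Nat.card (↥K ⧸ center ↥K) ≤ n := by
          have h1 : Nat.card (↥K ⧸ center ↥K) ≤ Nat.card ↥K :=
            Nat.card_le_card_of_surjective _ (QuotientGroup.mk'_surjective _)
          have h2 : Nat.card ↥K ≤ Nat.card (↥H ⧸ Cfsg.oddCore ↥H) :=
            Nat.card_le_card_of_injective _ Subtype.val_injective
          have h3 : Nat.card (↥H ⧸ Cfsg.oddCore ↥H) ≤ Nat.card ↥H :=
            Nat.card_le_card_of_surjective _ (QuotientGroup.mk'_surjective _)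
          have h4 : Nat.card ↥H < Nat.card G := by
            refine lt_of_le_of_ne (Nat.card_le_card_of_injective _ Subtype.val_injective) ?_
            intro e
            exact hH (Subgroup.eq_top_of_card_eq H e)
          omega
        apply ih (↥K ⧸ center ↥K) hcard hKq.2
        by_contra hcon
        push Not at hcon
        apply Cfsg.Agent.Lib.ComponentSolvable.quasisimple_not_solvable hKq
        haveI h1 : Group.IsSolvable (↥K ⧸ center ↥K) := Group.isSolvable_of_comm hcon
        haveI h2 : Group.IsSolvable ↥(center ↥K) := Group.isSolvable_of_comm (fun a b => by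
          apply Subtype.ext
          exact (mem_center_iff.1 b.2 a))
        exact Group.isSolvable_of_ker_le_range (center ↥K).subtype (QuotientGroup.mk' (center ↥K))
          (by rw [QuotientGroup.ker_mk', Subgroup.range_subtype])
    refine hCase G ℬ ⟨hsimple, hnonab, hB1, hB3, ?_, ?_, hctx, hSE⟩
    · intro 𝒞 h1 h2 h3
      exact subset_antisymm h2 (hmin ⟨h1, h2.trans hB2, h3⟩ h2)
    · intro w _ hw1
      apply hctx
      intro ht
      have hc : w ∈ center G := by
        rw [mem_center_iff]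
        intro g
        have hg : g ∈ centralizer ({w} : Set G) := by rw [ht]; exact mem_top g
        exact mem_centralizer_singleton_iff.1 hg
      rcases IsSimpleGroup.eq_bot_or_eq_top_of_normal (center G) inferInstance with hb | hb
      · rw [hb, mem_bot] at hc; exact hw1 hc
      · obtain ⟨a, b, hab⟩ := hnonab
        have : b ∈ center G := by rw [hb]; exact mem_top b
        exact hab (mem_center_iff.1 this a)

/-- The conclusion for all simple groups. -/
theorem tprop
    (hBen : ∀ (G : Type u) [Group G] [Finite G], IsSimpleGroup G → (∃ a b : G, a * b ≠ b * a) →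
      (∃ H : Subgroup G, Cfsg.IsStronglyEmbedded H) → TCon G)
    (hCase : ∀ (G : Type u) [Group G] [Finite G] (𝒜 : Set G), Setup 𝒜 → TCon G)
    (G : Type u) [Group G] [Finite G] (hsimple : IsSimpleGroup G) (hnonab : ∃ a b : G, a * b ≠ b * a) :
    TProp G :=
  tprop_aux hBen hCase _ G le_rfl hsimple hnonab

/-- The statement of S1169. -/
theorem goldschmidt {G : Type u} [Group G] [Finite G] [IsSimpleGroup G]
    (hT : (∃ a b : G, a * b ≠ b * a) → TProp G) (S : Sylow 2 G) (A : Subgroup G) (hA : A ≠ ⊥)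
    (hAcomm : IsMulCommutative A) (hsc : Cfsg.IsStronglyClosed A (S : Subgroup G)) :
    IsMulCommutative (S : Subgroup G) ∨ ∃ H : Subgroup G, Cfsg.IsStronglyEmbedded H := by
  haveI : Fact (Nat.Prime 2) := ⟨Nat.prime_two⟩
  by_cases hab : ∃ a b : G, a * b ≠ b * a
  swap
  · push Not at hab
    exact Or.inl ⟨⟨fun x y => Subtype.ext (hab x y)⟩⟩
  have hcomm : ∀ a ∈ A, ∀ b ∈ A, a * b = b * a := fun a ha b hb =>
    congrArg Subtype.val (hAcomm.is_comm.comm ⟨a, ha⟩ ⟨b, hb⟩)
  obtain ⟨B, hBA, hB, hBmem⟩ := GoldBasic.exists_omega (p := 2) hsc hcomm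
  have hfam : IsElemFam {x : G | ∃ g : G, g * x * g⁻¹ ∈ B} := by
    refine { toIsClosedFam := isClosedFam_of_isStronglyClosed S B hB, sq := ?_ }
    rintro x ⟨g, hg⟩
    have h1 := ((hBmem _).1 hg).2
    rw [conj_pow, mul_inv_eq_one, mul_eq_left, pow_two] at h1
    exact h1
  have hne : ∃ x ∈ {x : G | ∃ g : G, g * x * g⁻¹ ∈ B}, x ≠ 1 := by
    -- an involution of `A`
    haveI : Nontrivial A := (Subgroup.nontrivial_iff_ne_bot A).2 hA
    have hAp : IsPGroup 2 A := S.isPGroup'.to_le hsc.1
    obtain ⟨n, hn0, hn⟩ := hAp.nontrivial_iff_card.1 inferInstance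
    obtain ⟨x, hx⟩ := exists_prime_orderOf_dvd_card' (G := A) 2 (by
      rw [hn]; exact dvd_pow_self 2 hn0.ne')
    refine ⟨(x : G), ⟨1, ?_⟩, ?_⟩
    · rw [one_mul, inv_one, mul_one, hBmem]
      refine ⟨x.2, ?_⟩
      have := pow_orderOf_eq_one x
      rw [hx] at this
      exact congrArg Subtype.val this
    · intro e
      have : x = 1 := Subtype.ext e
      rw [this, orderOf_one] at hx
      omega
  have hT' := hT hab _ hfam hne
  rcases hT'.alt with h1 | h1
  · left
    refine ⟨⟨fun x y => ?_⟩⟩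
    apply Subtype.ext
    exact hT'.central S y y.2 (h1 S y y.2) x x.2
  · exact Or.inr h1.se

end Cfsg.Agent.TwoFusion.GoldMain
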