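import Mathlib

/-!
Herzog's counting theorem: if a finite group has a four-subgroup `V` with `8 ∣ |C_G(V)|`, the number
of solutions of `x * x = 1` is divisible by `4` (so the number of involutions is `3` modulo `4`).
-/

set_option autoImplicit false

namespace Cfsg.Agent.TwoFusion.InvolutionCount

/-- If `α` is an involution and `β ^ 2` is `1` or `α` on `s`, `α` and `β` commute and `α`, `β`, `αβ`
have no fixed point on `s`, then `4 ∣ |s|`. -/
theorem four_dvd_card {X : Type*} [DecidableEq X] (s : Finset X) (α β : X → X)
    (hαs : ∀ x ∈ s, α x ∈ s) (hβs : ∀ x ∈ s, β x ∈ s) (hαα : ∀ x ∈ s, α (α x) = x)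
    (hαβ : ∀ x ∈ s, α (β x) = β (α x))
    (hββ : (∀ x ∈ s, β (β x) = x) ∨ (∀ x ∈ s, β (β x) = α x))
    (h1 : ∀ x ∈ s, α x ≠ x) (h2 : ∀ x ∈ s, β x ≠ x) (h3 : ∀ x ∈ s, α (β x) ≠ x) :
    4 ∣ s.card := by
  induction s using Finset.strongInduction with
  | H s ih =>
    rcases s.eq_empty_or_nonempty with rfl | ⟨x, hx⟩
    · simp
    · set t : Finset X := {x, α x, β x, α (β x)} with ht
      have hts : t ⊆ s := by
        intro y hy
        simp only [ht, Finset.mem_insert, Finset.mem_singleton] at hy
        rcases hy with rfl | rfl | rfl | rfl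
        · exact hx
        · exact hαs _ hx
        · exact hβs _ hx
        · exact hαs _ (hβs _ hx)
      have htα : ∀ y ∈ t, α y ∈ t := by
        intro y hy
        simp only [ht, Finset.mem_insert, Finset.mem_singleton] at hy ⊢
        rcases hy with rfl | rfl | rfl | rfl
        · tauto
        · rw [hαα _ hx]; tauto
        · tauto
        · rw [hαα _ (hβs _ hx)]; tauto
      have htβ : ∀ y ∈ t, β y ∈ t := by
        intro y hy
        simp only [ht, Finset.mem_insert, Finset.mem_singleton] at hy ⊢
        rcases hββ with hb | hb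
        · rcases hy with rfl | rfl | rfl | rfl
          · tauto
          · rw [← hαβ _ hx]; tauto
          · rw [hb _ hx]; tauto
          · rw [← hαβ _ (hβs _ hx), hb _ hx]; tauto
        · rcases hy with rfl | rfl | rfl | rfl
          · tauto
          · rw [← hαβ _ hx]; tauto
          · rw [hb _ hx]; tauto
          · rw [← hαβ _ (hβs _ hx), hb _ hx, hαα _ hx]; tauto
      have hcard : t.card = 4 := by
        have e1 : α x ≠ x := h1 x hx
        have e2 : β x ≠ x := h2 x hx
        have e3 : α (β x) ≠ x := h3 x hx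
        have e4 : α x ≠ β x := by
          intro h
          apply e3
          rw [← h, hαα _ hx]
        have e5 : α (β x) ≠ α x := by
          intro h
          apply e2
          have := congrArg α h
          rwa [hαα _ hx, hαα _ (hβs _ hx)] at this
        have e6 : α (β x) ≠ β x := h1 _ (hβs _ hx)
        rw [ht, Finset.card_insert_of_notMem, Finset.card_insert_of_notMem,
          Finset.card_insert_of_notMem, Finset.card_singleton]
        · simp only [Finset.mem_singleton]; exact e6.symm
        · simp only [Finset.mem_insert, Finset.mem_singleton, not_or]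
          exact ⟨e4, e5.symm⟩
        · simp only [Finset.mem_insert, Finset.mem_singleton, not_or]
          exact ⟨e1.symm, e2.symm, e3.symm⟩
      have hsd : s \ t ⊂ s := by
        refine Finset.ssubset_iff_subset_ne.2 ⟨Finset.sdiff_subset, ?_⟩
        intro h
        have : x ∈ s \ t := by rw [h]; exact hx
        simp [ht] at this
      have hin : ∀ y, y ∈ s \ t → y ∈ s := fun y hy => (Finset.mem_sdiff.1 hy).1
      have h4 : 4 ∣ (s \ t).card := by
        refine ih (s \ t) hsd ?_ ?_ (fun y hy => hαα y (hin y hy)) (fun y hy => hαβ y (hin y hy))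
          ?_ (fun y hy => h1 y (hin y hy)) (fun y hy => h2 y (hin y hy))
          (fun y hy => h3 y (hin y hy))
        · intro y hy
          rw [Finset.mem_sdiff] at hy ⊢
          refine ⟨hαs y hy.1, fun hc => hy.2 ?_⟩
          have := htα _ hc
          rwa [hαα y hy.1] at this
        · intro y hy
          rw [Finset.mem_sdiff] at hy ⊢
          refine ⟨hβs y hy.1, fun hc => hy.2 ?_⟩
          have h5 := htβ _ hc
          rcases hββ with hb | hb
          · rwa [hb y hy.1] at h5
          · rw [hb y hy.1] at h5
            have := htα _ h5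
            rwa [hαα y hy.1] at this
        · rcases hββ with hb | hb
          · exact Or.inl fun y hy => hb y (hin y hy)
          · exact Or.inr fun y hy => hb y (hin y hy)
      have h5 := Finset.card_sdiff_add_card_eq_card hts
      omega

section Count

variable {G : Type*} [Group G] [Fintype G] [DecidableEq G]

theorem L1 (a b : G) (ha : a * a = 1) (hb : b * b = 1) (hab : a * b = b * a) (ha1 : a ≠ 1)
    (hb1 : b ≠ 1) (hne : a ≠ b) :
    4 ∣ (Finset.univ.filter fun x : G => x * x = 1 ∧ x * a = a * x ∧ x * b = b * x).card := by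
  apply four_dvd_card _ (fun x => a * x) (fun x => b * x)
  · intro x hx
    simp only [Finset.mem_filter, Finset.mem_univ, true_and] at hx ⊢
    obtain ⟨h1, h2, h3⟩ := hx
    refine ⟨?_, ?_, ?_⟩
    · calc a * x * (a * x) = a * (x * a) * x := by group
        _ = (a * a) * (x * x) := by rw [h2]; group
        _ = 1 := by rw [ha, h1, one_mul]
    · rw [mul_assoc, h2]
    · rw [mul_assoc, h3, ← mul_assoc, hab, mul_assoc]
  · intro x hx
    simp only [Finset.mem_filter, Finset.mem_univ, true_and] at hx ⊢
    obtain ⟨h1, h2, h3⟩ := hx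
    refine ⟨?_, ?_, ?_⟩
    · calc b * x * (b * x) = b * (x * b) * x := by group
        _ = (b * b) * (x * x) := by rw [h3]; group
        _ = 1 := by rw [hb, h1, one_mul]
    · rw [mul_assoc, h2, ← mul_assoc, ← hab, mul_assoc]
    · rw [mul_assoc, h3]
  · intro x _; rw [← mul_assoc, ha, one_mul]
  · intro x _; rw [← mul_assoc, hab, mul_assoc]
  · left; intro x _; rw [← mul_assoc, hb, one_mul]
  · intro x _ h; exact ha1 (mul_eq_right.1 h)
  · intro x _ h; exact hb1 (mul_eq_right.1 h)
  · intro x _ h
    simp only [← mul_assoc] at h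
    have h1 : a * b = 1 := mul_eq_right.1 h
    apply hne
    calc a = a * (b * b) := by rw [hb, mul_one]
      _ = b := by rw [← mul_assoc, h1, one_mul]

theorem L2 (a b : G) (ha : a * a = 1) (hb : b * b = 1) (hab : a * b = b * a) :
    4 ∣ (Finset.univ.filter fun x : G => x * x = 1 ∧ x * a ≠ a * x ∧ x * b ≠ b * x ∧
      x * (a * b) ≠ (a * b) * x).card := by
  have hai : a⁻¹ = a := inv_eq_of_mul_eq_one_left ha
  have hbi : b⁻¹ = b := inv_eq_of_mul_eq_one_left hb
  have key : ∀ u v x : G, u * v = v * u → (u * x * u⁻¹) * v = v * (u * x * u⁻¹) → x * v = v * x := by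
    intro u v x huv h
    have h1 : u * (x * v) * u⁻¹ = u * (v * x) * u⁻¹ := by
      calc u * (x * v) * u⁻¹ = (u * x * u⁻¹) * (u * v * u⁻¹) := by group
        _ = (u * x * u⁻¹) * v := by rw [huv]; group
        _ = v * (u * x * u⁻¹) := h
        _ = (v * u) * x * u⁻¹ := by group
        _ = u * (v * x) * u⁻¹ := by rw [← huv]; group
    have h2 := mul_right_cancel h1
    exact mul_left_cancel h2
  have hsq : ∀ u x : G, x * x = 1 → (u * x * u⁻¹) * (u * x * u⁻¹) = 1 := by
    intro u x h
    calc (u * x * u⁻¹) * (u * x * u⁻¹) = u * (x * x) * u⁻¹ := by group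
      _ = 1 := by rw [h]; group
  apply four_dvd_card _ (fun x => a * x * a⁻¹) (fun x => b * x * b⁻¹)
  · intro x hx
    simp only [Finset.mem_filter, Finset.mem_univ, true_and] at hx ⊢
    obtain ⟨h1, h2, h3, h4⟩ := hx
    refine ⟨hsq _ _ h1, fun h => h2 (key a a x rfl h), fun h => h3 (key a b x hab h),
      fun h => h4 (key a (a * b) x ?_ h)⟩
    rw [mul_assoc, hab]
  · intro x hx
    simp only [Finset.mem_filter, Finset.mem_univ, true_and] at hx ⊢
    obtain ⟨h1, h2, h3, h4⟩ := hx
    refine ⟨hsq _ _ h1, fun h => h2 (key b a x hab.symm h), fun h => h3 (key b b x rfl h),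
      fun h => h4 (key b (a * b) x ?_ h)⟩
    rw [← mul_assoc, ← hab]
  · intro x _
    simp only [hai]
    calc a * (a * x * a) * a = (a * a) * x * (a * a) := by group
      _ = x := by rw [ha]; group
  · intro x _
    calc a * (b * x * b⁻¹) * a⁻¹ = (a * b) * x * (a * b)⁻¹ := by group
      _ = b * (a * x * a⁻¹) * b⁻¹ := by rw [hab]; group
  · left
    intro x _
    simp only [hbi]
    calc b * (b * x * b) * b = (b * b) * x * (b * b) := by group
      _ = x := by rw [hb]; group
  · intro x hx h
    simp only [Finset.mem_filter, Finset.mem_univ, true_and] at hx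
    exact hx.2.1 (eq_mul_inv_iff_mul_eq.1 h.symm)
  · intro x hx h
    simp only [Finset.mem_filter, Finset.mem_univ, true_and] at hx
    exact hx.2.2.1 (eq_mul_inv_iff_mul_eq.1 h.symm)
  · intro x hx h
    simp only [Finset.mem_filter, Finset.mem_univ, true_and] at hx
    apply hx.2.2.2
    have h1 : (a * b) * x * (a * b)⁻¹ = x := by
      calc (a * b) * x * (a * b)⁻¹ = a * (b * x * b⁻¹) * a⁻¹ := by group
        _ = x := h
    exact eq_mul_inv_iff_mul_eq.1 h1.symm

theorem L3 (a b : G) (ha : a * a = 1) (hb : b * b = 1) (hab : a * b = b * a) (ha1 : a ≠ 1) :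
    4 ∣ (Finset.univ.filter fun x : G => x * x = 1 ∧ x * a = a * x ∧ x * b ≠ b * x ∧
      x * b ≠ a * (b * x)).card := by
  apply four_dvd_card _ (fun x => a * x) (fun x => b * x * b)
  · intro x hx
    simp only [Finset.mem_filter, Finset.mem_univ, true_and] at hx ⊢
    obtain ⟨h1, h2, h3, h4⟩ := hx
    refine ⟨?_, ?_, ?_, ?_⟩
    · calc a * x * (a * x) = a * (x * a) * x := by group
        _ = (a * a) * (x * x) := by rw [h2]; group
        _ = 1 := by rw [ha, h1, one_mul]
    · rw [mul_assoc, h2]
    · intro h
      apply h3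
      have : a * (x * b) = a * (b * x) := by
        rw [← mul_assoc, h, ← mul_assoc, ← hab, mul_assoc]
      exact mul_left_cancel this
    · intro h
      apply h4
      have : a * (x * b) = a * (a * (b * x)) := by
        rw [← mul_assoc, h, ← mul_assoc b a x, ← hab, mul_assoc a b x]
      exact mul_left_cancel this
  · intro x hx
    simp only [Finset.mem_filter, Finset.mem_univ, true_and] at hx ⊢
    obtain ⟨h1, h2, h3, h4⟩ := hx
    refine ⟨?_, ?_, ?_, ?_⟩
    · calc b * x * b * (b * x * b) = b * x * (b * b) * x * b := by group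
        _ = b * (x * x) * b := by rw [hb]; group
        _ = 1 := by rw [h1, mul_one, hb]
    · calc b * x * b * a = b * x * (b * a) := by group
        _ = b * (x * a) * b := by rw [← hab]; group
        _ = (b * a) * x * b := by rw [h2]; group
        _ = a * (b * x * b) := by rw [← hab]; group
    · intro h
      apply h3
      have h5 : b * x * b * b = b * x := by rw [mul_assoc, hb, mul_one]
      have h6 : b * (b * x * b) = x * b := by
        rw [← mul_assoc, ← mul_assoc, hb, one_mul]
      rw [h5, h6] at h
      exact h.symm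
    · intro h
      apply h4
      have h5 : b * x * b * b = b * x := by rw [mul_assoc, hb, mul_one]
      have h6 : b * (b * x * b) = x * b := by
        rw [← mul_assoc, ← mul_assoc, hb, one_mul]
      rw [h5, h6] at h
      rw [h, ← mul_assoc, ha, one_mul]
  · intro x _; rw [← mul_assoc, ha, one_mul]
  · intro x _
    calc a * (b * x * b) = (a * b) * x * b := by group
      _ = b * (a * x) * b := by rw [hab]; group
  · left; intro x _
    calc b * (b * x * b) * b = (b * b) * x * (b * b) := by group
      _ = x := by rw [hb]; group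
  · intro x _ h; exact ha1 (mul_eq_right.1 h)
  · intro x hx h
    simp only [Finset.mem_filter, Finset.mem_univ, true_and] at hx
    apply hx.2.2.1
    calc x * b = b * x * b * b := by rw [h]
      _ = b * x := by rw [mul_assoc, hb, mul_one]
  · intro x hx h
    simp only [Finset.mem_filter, Finset.mem_univ, true_and] at hx
    apply hx.2.2.2
    calc x * b = a * (b * x * b) * b := by rw [h]
      _ = a * (b * x) * (b * b) := by group
      _ = a * (b * x) := by rw [hb, mul_one]

/-- The part of `R_a` commuting with `c`. -/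
theorem L4a (a b c : G) (ha : a * a = 1) (hb : b * b = 1) (hab : a * b = b * a) (ha1 : a ≠ 1)
    (hca : c * a = a * c) (hcb : c * b = b * c) (h1c : c ≠ 1) (hac : c ≠ a) (hbc : c ≠ b)
    (habc : c ≠ a * b)
    (hcc : c * c = 1 ∨ c * c = a ∨ c * c = b ∨ c * c = a * b) :
    4 ∣ (Finset.univ.filter fun x : G => x * x = 1 ∧ x * a = a * x ∧ x * b = a * (b * x) ∧
      c * x = x * c).card := by
  have hbb : ∀ x : G, x * a = a * x → x * b = a * (b * x) → b * x * b = a * x := by
    intro x h1 h2
    calc b * x * b = b * (x * b) := by group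
      _ = (b * a) * (b * x) := by rw [h2]; group
      _ = a * (b * b) * x := by rw [← hab]; group
      _ = a * x := by rw [hb]; group
  have hnb : ∀ x : G, x * b = a * (b * x) → x * b ≠ b * x := by
    intro x h1 h2
    rw [h2] at h1
    exact ha1 (mul_eq_right.1 h1.symm)
  rcases hcc with hcc | hcc | hcc | hcc
  · apply four_dvd_card _ (fun x => a * x) (fun x => c * x)
    · intro x hx
      simp only [Finset.mem_filter, Finset.mem_univ, true_and] at hx ⊢
      obtain ⟨h1, h2, h3, h4⟩ := hx
      refine ⟨?_, ?_, ?_, ?_⟩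
      · calc a * x * (a * x) = a * (x * a) * x := by group
          _ = (a * a) * (x * x) := by rw [h2]; group
          _ = 1 := by rw [ha, h1, one_mul]
      · rw [mul_assoc, h2]
      · rw [mul_assoc, h3, ← mul_assoc b a x, ← hab, mul_assoc a b x]
      · rw [← mul_assoc, hca, mul_assoc, h4, mul_assoc]
    · intro x hx
      simp only [Finset.mem_filter, Finset.mem_univ, true_and] at hx ⊢
      obtain ⟨h1, h2, h3, h4⟩ := hx
      refine ⟨?_, ?_, ?_, ?_⟩
      · calc c * x * (c * x) = c * (x * c) * x := by group
          _ = (c * c) * (x * x) := by rw [← h4]; group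
          _ = 1 := by rw [hcc, h1, one_mul]
      · rw [mul_assoc, h2, ← mul_assoc, hca, mul_assoc]
      · calc c * x * b = c * (x * b) := by group
          _ = (c * a) * (b * x) := by rw [h3]; group
          _ = a * (c * b) * x := by rw [hca]; group
          _ = a * (b * (c * x)) := by rw [hcb]; group
      · rw [mul_assoc, ← h4]
    · intro x _; rw [← mul_assoc, ha, one_mul]
    · intro x _; rw [← mul_assoc, ← hca, mul_assoc]
    · left; intro x _; rw [← mul_assoc, hcc, one_mul]
    · intro x _ h; exact ha1 (mul_eq_right.1 h)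
    · intro x _ h; exact h1c (mul_eq_right.1 h)
    · intro x _ h
      simp only [← mul_assoc] at h
      have h1 : a * c = 1 := mul_eq_right.1 h
      apply hac
      calc c = (a * a) * c := by rw [ha, one_mul]
        _ = a := by rw [mul_assoc, h1, mul_one]
  · apply four_dvd_card _ (fun x => a * x) (fun x => c * b * x)
    · intro x hx
      simp only [Finset.mem_filter, Finset.mem_univ, true_and] at hx ⊢
      obtain ⟨h1, h2, h3, h4⟩ := hx
      refine ⟨?_, ?_, ?_, ?_⟩
      · calc a * x * (a * x) = a * (x * a) * x := by group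
          _ = (a * a) * (x * x) := by rw [h2]; group
          _ = 1 := by rw [ha, h1, one_mul]
      · rw [mul_assoc, h2]
      · rw [mul_assoc, h3, ← mul_assoc b a x, ← hab, mul_assoc a b x]
      · rw [← mul_assoc, hca, mul_assoc, h4, mul_assoc]
    · intro x hx
      simp only [Finset.mem_filter, Finset.mem_univ, true_and] at hx ⊢
      obtain ⟨h1, h2, h3, h4⟩ := hx
      have h5 := hbb x h2 h3
      refine ⟨?_, ?_, ?_, ?_⟩
      · calc c * b * x * (c * b * x) = c * b * (x * c) * b * x := by group
          _ = c * (b * c) * x * b * x := by rw [← h4]; group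
          _ = (c * c) * (b * x * b) * x := by rw [← hcb]; group
          _ = a * (a * x) * x := by rw [hcc, h5]
          _ = (a * a) * (x * x) := by group
          _ = 1 := by rw [ha, h1, one_mul]
      · calc c * b * x * a = c * b * (x * a) := by group
          _ = c * (b * a) * x := by rw [h2]; group
          _ = (c * a) * b * x := by rw [← hab]; group
          _ = a * (c * b * x) := by rw [hca]; group
      · calc c * b * x * b = c * (b * x * b) := by group
          _ = (c * a) * x := by rw [h5]; group
          _ = a * (c * (b * b) * x) := by rw [hca, hb]; group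
          _ = a * ((c * b) * (b * x)) := by group
          _ = a * ((b * c) * (b * x)) := by rw [← hcb]
          _ = a * (b * (c * b * x)) := by group
      · calc c * (c * b * x) = c * (c * b) * x := by group
          _ = c * (b * c) * x := by rw [← hcb]
          _ = c * b * (c * x) := by group
          _ = c * b * x * c := by rw [h4]; group
    · intro x _; rw [← mul_assoc, ha, one_mul]
    · intro x _
      calc a * (c * b * x) = (a * c) * b * x := by group
        _ = c * (a * b) * x := by rw [← hca]; group
        _ = c * b * (a * x) := by rw [hab]; group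
    · right; intro x _
      calc c * b * (c * b * x) = c * (b * c) * b * x := by group
        _ = (c * c) * (b * b) * x := by rw [← hcb]; group
        _ = a * x := by rw [hcc, hb]; group
    · intro x _ h; exact ha1 (mul_eq_right.1 h)
    · intro x _ h
      have h1 : c * b = 1 := mul_eq_right.1 h
      apply hbc
      calc c = c * b * b := by rw [mul_assoc, hb, mul_one]
        _ = b := by rw [h1, one_mul]
    · intro x _ h
      simp only [← mul_assoc] at h
      have h1 : a * c * b = 1 := mul_eq_right.1 h
      apply habc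
      calc c = (a * a) * c * (b * b) := by rw [ha, hb]; group
        _ = a * (a * c * b) * b := by group
        _ = a * b := by rw [h1]; group
  · have : (Finset.univ.filter fun x : G => x * x = 1 ∧ x * a = a * x ∧ x * b = a * (b * x) ∧
      c * x = x * c) = ∅ := by
      apply Finset.filter_eq_empty_iff.2
      rintro x _ ⟨h1, h2, h3, h4⟩
      apply hnb x h3
      calc x * b = (x * c) * c := by rw [← hcc]; group
        _ = (c * x) * c := by rw [← h4]
        _ = c * (x * c) := by group
        _ = (c * c) * x := by rw [← h4]; group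
        _ = b * x := by rw [hcc]
    rw [this]; simp
  · have : (Finset.univ.filter fun x : G => x * x = 1 ∧ x * a = a * x ∧ x * b = a * (b * x) ∧
      c * x = x * c) = ∅ := by
      apply Finset.filter_eq_empty_iff.2
      rintro x _ ⟨h1, h2, h3, h4⟩
      apply hnb x h3
      have h5 : x * (a * b) = (a * b) * x := by
        calc x * (a * b) = (x * c) * c := by rw [← hcc]; group
          _ = (c * x) * c := by rw [← h4]
          _ = c * (x * c) := by group
          _ = (c * c) * x := by rw [← h4]; group
          _ = (a * b) * x := by rw [hcc]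
      have h6 : a * (x * b) = a * (b * x) := by
        rw [← mul_assoc, ← h2, mul_assoc, h5, mul_assoc]
      exact mul_left_cancel h6
    rw [this]; simp

/-- The whole of `R_a`. -/
theorem L4 (a b c : G) (ha : a * a = 1) (hb : b * b = 1) (hab : a * b = b * a) (ha1 : a ≠ 1)
    (hca : c * a = a * c) (hcb : c * b = b * c) (h1c : c ≠ 1) (hac : c ≠ a) (hbc : c ≠ b)
    (habc : c ≠ a * b)
    (hcc : c * c = 1 ∨ c * c = a ∨ c * c = b ∨ c * c = a * b) :
    4 ∣ (Finset.univ.filter fun x : G => x * x = 1 ∧ x * a = a * x ∧
      x * b = a * (b * x)).card := by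
  have hbb : ∀ x : G, x * a = a * x → x * b = a * (b * x) → b * x * b = a * x := by
    intro x h1 h2
    calc b * x * b = b * (x * b) := by group
      _ = (b * a) * (b * x) := by rw [h2]; group
      _ = a * (b * b) * x := by rw [← hab]; group
      _ = a * x := by rw [hb]; group
  have hnb : ∀ x : G, x * b = a * (b * x) → x * b ≠ b * x := by
    intro x h1 h2
    rw [h2] at h1
    exact ha1 (mul_eq_right.1 h1.symm)
  set s := (Finset.univ.filter fun x : G => x * x = 1 ∧ x * a = a * x ∧ x * b = a * (b * x))
    with hs
  have e1 := Finset.card_filter_add_card_filter_not (s := s) (fun x => c * x = x * c)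
  have e2 := Finset.card_filter_add_card_filter_not
    (s := s.filter fun x => ¬ (c * x = x * c)) (fun x => c * b * x = x * (c * b))
  have d1 : 4 ∣ (s.filter fun x => c * x = x * c).card := by
    have := L4a a b c ha hb hab ha1 hca hcb h1c hac hbc habc hcc
    rw [hs, Finset.filter_filter]
    simpa only [and_assoc] using this
  have d2 : 4 ∣ ((s.filter fun x => ¬ (c * x = x * c)).filter
      fun x => c * b * x = x * (c * b)).card := by
    have hcc' : c * b * (c * b) = c * c := by
      calc c * b * (c * b) = c * (b * c) * b := by group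
        _ = (c * c) * (b * b) := by rw [← hcb]; group
        _ = c * c := by rw [hb, mul_one]
    have := L4a a b (c * b) ha hb hab ha1
      (by rw [mul_assoc, ← hab, ← mul_assoc, hca, mul_assoc])
      (by rw [← mul_assoc, hcb]) 
      (fun h => hbc (by
        calc c = c * b * b := by rw [mul_assoc, hb, mul_one]
          _ = b := by rw [h, one_mul]))
      (fun h => habc (by
        calc c = c * b * b := by rw [mul_assoc, hb, mul_one]
          _ = a * b := by rw [h]))
      (fun h => h1c (mul_eq_right.1 h))
      (fun h => hac (mul_right_cancel h))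
      (by rw [hcc']; exact hcc)
    have he : ((s.filter fun x => ¬ (c * x = x * c)).filter
      fun x => c * b * x = x * (c * b)) = (Finset.univ.filter fun x : G => x * x = 1 ∧
        x * a = a * x ∧ x * b = a * (b * x) ∧ c * b * x = x * (c * b)) := by
      ext x
      simp only [hs, Finset.mem_filter, Finset.mem_univ, true_and]
      constructor
      · rintro ⟨⟨⟨h1, h2, h3⟩, h4⟩, h5⟩
        exact ⟨h1, h2, h3, h5⟩
      · rintro ⟨h1, h2, h3, h5⟩
        refine ⟨⟨⟨h1, h2, h3⟩, ?_⟩, h5⟩
        intro h4
        apply hnb x h3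
        have h6 : c * (b * x) = c * (x * b) := by
          rw [← mul_assoc, h5, ← mul_assoc x c b, ← h4, mul_assoc]
        exact (mul_left_cancel h6).symm
    rw [he]; exact this
  have d3 : 4 ∣ ((s.filter fun x => ¬ (c * x = x * c)).filter
      fun x => ¬ (c * b * x = x * (c * b))).card := by
    apply four_dvd_card _ (fun x => a * x) (fun x => c * x * c⁻¹)
    · intro x hx
      simp only [hs, Finset.mem_filter, Finset.mem_univ, true_and] at hx ⊢
      obtain ⟨⟨⟨h1, h2, h3⟩, h4⟩, h5⟩ := hx
      refine ⟨⟨⟨?_, ?_, ?_⟩, ?_⟩, ?_⟩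
      · calc a * x * (a * x) = a * (x * a) * x := by group
          _ = (a * a) * (x * x) := by rw [h2]; group
          _ = 1 := by rw [ha, h1, one_mul]
      · rw [mul_assoc, h2]
      · rw [mul_assoc, h3, ← mul_assoc b a x, ← hab, mul_assoc a b x]
      · intro h
        apply h4
        have : a * (c * x) = a * (x * c) := by
          rw [← mul_assoc, ← hca, mul_assoc, h, mul_assoc]
        exact mul_left_cancel this
      · intro h
        apply h5
        have : a * (c * b * x) = a * (x * (c * b)) := by
          calc a * (c * b * x) = (a * c) * b * x := by group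
            _ = c * (a * b) * x := by rw [← hca]; group
            _ = c * b * (a * x) := by rw [hab]; group
            _ = a * (x * (c * b)) := by rw [h]; group
        exact mul_left_cancel this
    · intro x hx
      simp only [hs, Finset.mem_filter, Finset.mem_univ, true_and] at hx ⊢
      obtain ⟨⟨⟨h1, h2, h3⟩, h4⟩, h5⟩ := hx
      have key : ∀ v y : G, c * v = v * c → c * y * c⁻¹ * v = c * (y * v) * c⁻¹ := by
        intro v y h
        have h' : c⁻¹ * v = v * c⁻¹ := by
          rw [inv_mul_eq_iff_eq_mul, ← mul_assoc, h, mul_assoc, mul_inv_cancel, mul_one]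
        calc c * y * c⁻¹ * v = c * y * (c⁻¹ * v) := by group
          _ = c * (y * v) * c⁻¹ := by rw [h']; group
      have key' : ∀ v y : G, c * v = v * c → v * (c * y * c⁻¹) = c * (v * y) * c⁻¹ := by
        intro v y h
        calc v * (c * y * c⁻¹) = (v * c) * y * c⁻¹ := by group
          _ = c * (v * y) * c⁻¹ := by rw [← h]; group
      refine ⟨⟨⟨?_, ?_, ?_⟩, ?_⟩, ?_⟩
      · calc c * x * c⁻¹ * (c * x * c⁻¹) = c * (x * x) * c⁻¹ := by group
          _ = 1 := by rw [h1]; group
      · rw [key a x hca, key' a x hca, h2]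
      · rw [key b x hcb, key' b x hcb, key' a (b * x) hca, h3]
      · intro h
        apply h4
        rw [key' c x rfl, key c x rfl] at h
        exact mul_left_cancel (mul_right_cancel h)
      · intro h
        apply h5
        rw [key' (c * b) x (by rw [mul_assoc, ← hcb]), key (c * b) x (by rw [mul_assoc, ← hcb])] at h
        exact mul_left_cancel (mul_right_cancel h)
    · intro x _; rw [← mul_assoc, ha, one_mul]
    · intro x _
      calc a * (c * x * c⁻¹) = (a * c) * x * c⁻¹ := by group
        _ = c * (a * x) * c⁻¹ := by rw [← hca]; group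
    · have e3 : ∀ x : G, c * (c * x * c⁻¹) * c⁻¹ = (c * c) * x * (c * c)⁻¹ := by
        intro x; group
      have hai : a⁻¹ = a := inv_eq_of_mul_eq_one_left ha
      have hbi : b⁻¹ = b := inv_eq_of_mul_eq_one_left hb
      rcases hcc with hcc | hcc | hcc | hcc
      · left; intro x hx
        rw [e3, hcc]; group
      · left; intro x hx
        simp only [hs, Finset.mem_filter, Finset.mem_univ, true_and] at hx
        obtain ⟨⟨⟨h1, h2, h3⟩, h4⟩, h5⟩ := hx
        rw [e3, hcc, ← h2]; group
      · right; intro x hx
        simp only [hs, Finset.mem_filter, Finset.mem_univ, true_and] at hx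
        obtain ⟨⟨⟨h1, h2, h3⟩, h4⟩, h5⟩ := hx
        rw [e3, hcc, hbi]; exact hbb x h2 h3
      · right; intro x hx
        simp only [hs, Finset.mem_filter, Finset.mem_univ, true_and] at hx
        obtain ⟨⟨⟨h1, h2, h3⟩, h4⟩, h5⟩ := hx
        rw [e3, hcc, mul_inv_rev, hai, hbi]
        calc a * b * x * (b * a) = a * (b * x * b) * a := by group
          _ = a * a * (x * a) := by rw [hbb x h2 h3]; group
          _ = a * x := by rw [ha, one_mul, h2]
    · intro x _ h; exact ha1 (mul_eq_right.1 h)
    · intro x hx h
      simp only [hs, Finset.mem_filter, Finset.mem_univ, true_and] at hx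
      exact hx.1.2 (eq_mul_inv_iff_mul_eq.1 h.symm).symm
    · intro x hx h
      simp only [hs, Finset.mem_filter, Finset.mem_univ, true_and] at hx
      obtain ⟨⟨⟨h1, h2, h3⟩, h4⟩, h5⟩ := hx
      apply h5
      have h6 : b * x = a * x * b := by
        calc b * x = b * x * (b * b) := by rw [hb, mul_one]
          _ = (b * x * b) * b := by group
          _ = a * x * b := by rw [hbb x h2 h3]
      have h7 : a * (c * x) = x * c := by
        have h8 : a * (c * x * c⁻¹) * c = x * c := congrArg (· * c) h
        calc a * (c * x) = a * (c * x * c⁻¹) * c := by group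
          _ = x * c := h8
      calc c * b * x = c * (b * x) := by group
        _ = (c * a) * x * b := by rw [h6]; group
        _ = a * (c * x) * b := by rw [hca]; group
        _ = x * (c * b) := by rw [h7]; group
  omega

/-- The solutions of `x * x = 1` commuting with `a` and not with `b`. -/
theorem M (a b : G) (ha : a * a = 1) (hb : b * b = 1) (hab : a * b = b * a) (ha1 : a ≠ 1)
    (hR : (∀ x : G, x * x = 1 → x * a = a * x → x * b ≠ a * (b * x)) ∨
      ∃ c : G, c * a = a * c ∧ c * b = b * c ∧ c ≠ 1 ∧ c ≠ a ∧ c ≠ b ∧ c ≠ a * b ∧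
        (c * c = 1 ∨ c * c = a ∨ c * c = b ∨ c * c = a * b)) :
    4 ∣ (Finset.univ.filter fun x : G => x * x = 1 ∧ x * a = a * x ∧ x * b ≠ b * x).card := by
  set s := (Finset.univ.filter fun x : G => x * x = 1 ∧ x * a = a * x ∧ x * b ≠ b * x) with hs
  have e1 := Finset.card_filter_add_card_filter_not (s := s) (fun x => x * b = a * (b * x))
  have d1 : 4 ∣ (s.filter fun x => ¬ (x * b = a * (b * x))).card := by
    have := L3 a b ha hb hab ha1
    rw [hs, Finset.filter_filter]
    simpa only [and_assoc] using this
  have he : (s.filter fun x => (x * b = a * (b * x))) =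
      (Finset.univ.filter fun x : G => x * x = 1 ∧ x * a = a * x ∧ x * b = a * (b * x)) := by
    ext x
    simp only [hs, Finset.mem_filter, Finset.mem_univ, true_and]
    constructor
    · rintro ⟨⟨h1, h2, h3⟩, h4⟩
      exact ⟨h1, h2, h4⟩
    · rintro ⟨h1, h2, h3⟩
      refine ⟨⟨h1, h2, ?_⟩, h3⟩
      intro h4
      rw [h4] at h3
      exact ha1 (mul_eq_right.1 h3.symm)
  have d2 : 4 ∣ (s.filter fun x => (x * b = a * (b * x))).card := by
    rw [he]
    rcases hR with hR | ⟨c, hca, hcb, h1c, hac, hbc, habc, hcc⟩
    · have : (Finset.univ.filter fun x : G => x * x = 1 ∧ x * a = a * x ∧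
          x * b = a * (b * x)) = ∅ := by
        apply Finset.filter_eq_empty_iff.2
        rintro x _ ⟨h1, h2, h3⟩
        exact hR x h1 h2 h3
      rw [this]; simp
    · exact L4 a b c ha hb hab ha1 hca hcb h1c hac hbc habc hcc
  omega

/-- The counting theorem, elementwise form. -/
theorem four_dvd_card_sq_one (a b : G) (ha : a * a = 1) (hb : b * b = 1) (hab : a * b = b * a)
    (ha1 : a ≠ 1) (hb1 : b ≠ 1) (hne : a ≠ b)
    (hR : (∀ x : G, x * x = 1 → (x * a = a * x → x * b ≠ a * (b * x)) ∧
        (x * b = b * x → x * a ≠ b * (a * x)) ∧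
        (x * (a * b) = (a * b) * x → x * b ≠ (a * b) * (b * x))) ∨
      ∃ c : G, c * a = a * c ∧ c * b = b * c ∧ c ≠ 1 ∧ c ≠ a ∧ c ≠ b ∧ c ≠ a * b ∧
        (c * c = 1 ∨ c * c = a ∨ c * c = b ∨ c * c = a * b)) :
    4 ∣ (Finset.univ.filter fun x : G => x * x = 1).card := by
  have hab1 : a * b ≠ 1 := by
    intro h
    apply hne
    calc a = a * (b * b) := by rw [hb, mul_one]
      _ = b := by rw [← mul_assoc, h, one_mul]
  have habab : a * b * (a * b) = 1 := by
    calc a * b * (a * b) = a * (b * a) * b := by group
      _ = (a * a) * (b * b) := by rw [← hab]; group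
      _ = 1 := by rw [ha, hb, one_mul]
  have habb : a * b * b = a := by rw [mul_assoc, hb, mul_one]
  have m1 : 4 ∣ (Finset.univ.filter fun x : G => x * x = 1 ∧ x * a = a * x ∧
      x * b ≠ b * x).card := by
    apply M a b ha hb hab ha1
    rcases hR with hR | ⟨c, hca, hcb, h1c, hac, hbc, habc, hcc⟩
    · left; intro x h1 h2; exact (hR x h1).1 h2
    · right; exact ⟨c, hca, hcb, h1c, hac, hbc, habc, hcc⟩
  have m2 : 4 ∣ (Finset.univ.filter fun x : G => x * x = 1 ∧ x * b = b * x ∧
      x * a ≠ a * x).card := by
    apply M b a hb ha hab.symm hb1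
    rcases hR with hR | ⟨c, hca, hcb, h1c, hac, hbc, habc, hcc⟩
    · left; intro x h1 h2; exact (hR x h1).2.1 h2
    · right; refine ⟨c, hcb, hca, h1c, hbc, hac, ?_, ?_⟩
      · rwa [← hab]
      · rw [← hab]; tauto
  have m3 : 4 ∣ (Finset.univ.filter fun x : G => x * x = 1 ∧ x * (a * b) = (a * b) * x ∧
      x * b ≠ b * x).card := by
    apply M (a * b) b habab hb (by rw [← mul_assoc, ← hab]) hab1
    rcases hR with hR | ⟨c, hca, hcb, h1c, hac, hbc, habc, hcc⟩
    · left; intro x h1 h2; exact (hR x h1).2.2 h2
    · right; refine ⟨c, ?_, hcb, h1c, habc, hbc, ?_, ?_⟩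
      · rw [← mul_assoc, hca, mul_assoc, hcb, mul_assoc]
      · rwa [habb]
      · rw [habb]; tauto
  have e0 := Finset.card_filter_add_card_filter_not
    (s := (Finset.univ.filter fun x : G => x * x = 1)) (fun x => x * a = a * x)
  have e1 := Finset.card_filter_add_card_filter_not
    (s := (Finset.univ.filter fun x : G => x * x = 1).filter (fun x => x * a = a * x))
    (fun x => x * b = b * x)
  have e2 := Finset.card_filter_add_card_filter_not
    (s := (Finset.univ.filter fun x : G => x * x = 1).filter (fun x => ¬ (x * a = a * x)))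
    (fun x => x * b = b * x)
  have e3 := Finset.card_filter_add_card_filter_not
    (s := ((Finset.univ.filter fun x : G => x * x = 1).filter (fun x => ¬ (x * a = a * x))).filter
      (fun x => ¬ (x * b = b * x)))
    (fun x => x * (a * b) = (a * b) * x)
  simp only [Finset.filter_filter] at e0 e1 e2 e3
  have f1 := L1 a b ha hb hab ha1 hb1 hne
  have f2 := L2 a b ha hb hab
  have g1 : (Finset.univ.filter fun x : G => (x * x = 1 ∧ x * a = a * x) ∧ x * b = b * x) =
      (Finset.univ.filter fun x : G => x * x = 1 ∧ x * a = a * x ∧ x * b = b * x) := by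
    ext x; simp only [Finset.mem_filter, Finset.mem_univ, true_and]; tauto
  have g2 : (Finset.univ.filter fun x : G => (x * x = 1 ∧ x * a = a * x) ∧ ¬ (x * b = b * x)) =
      (Finset.univ.filter fun x : G => x * x = 1 ∧ x * a = a * x ∧ x * b ≠ b * x) := by
    ext x; simp only [Finset.mem_filter, Finset.mem_univ, true_and]; tauto
  have g3 : (Finset.univ.filter fun x : G => (x * x = 1 ∧ ¬ (x * a = a * x)) ∧ x * b = b * x) =
      (Finset.univ.filter fun x : G => x * x = 1 ∧ x * b = b * x ∧ x * a ≠ a * x) := by
    ext x; simp only [Finset.mem_filter, Finset.mem_univ, true_and]; tauto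
  have g4 : (Finset.univ.filter fun x : G => ((x * x = 1 ∧ ¬ (x * a = a * x)) ∧
        ¬ (x * b = b * x)) ∧ x * (a * b) = (a * b) * x) =
      (Finset.univ.filter fun x : G => x * x = 1 ∧ x * (a * b) = (a * b) * x ∧
        x * b ≠ b * x) := by
    ext x; simp only [Finset.mem_filter, Finset.mem_univ, true_and]
    constructor
    · rintro ⟨⟨⟨h1, h2⟩, h3⟩, h4⟩
      exact ⟨h1, h4, h3⟩
    · rintro ⟨h1, h4, h3⟩
      refine ⟨⟨⟨h1, ?_⟩, h3⟩, h4⟩
      intro h5
      apply h3
      have : a * (x * b) = a * (b * x) := by
        rw [← mul_assoc, ← h5, mul_assoc, h4, mul_assoc]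
      exact mul_left_cancel this
  have g5 : (Finset.univ.filter fun x : G => ((x * x = 1 ∧ ¬ (x * a = a * x)) ∧
        ¬ (x * b = b * x)) ∧ ¬ (x * (a * b) = (a * b) * x)) =
      (Finset.univ.filter fun x : G => x * x = 1 ∧ x * a ≠ a * x ∧ x * b ≠ b * x ∧
        x * (a * b) ≠ (a * b) * x) := by
    ext x; simp only [Finset.mem_filter, Finset.mem_univ, true_and]; tauto
  rw [g1, g2] at e1
  rw [g3] at e2
  rw [g4, g5] at e3
  omega

end Count

/-- Generators of a Klein four-subgroup. -/
theorem exists_gens {G : Type*} [Group G] (V : Subgroup G) (hV : IsKleinFour V) :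
    ∃ a b : G, a ∈ V ∧ b ∈ V ∧ a * a = 1 ∧ b * b = 1 ∧ a * b = b * a ∧ a ≠ 1 ∧ b ≠ 1 ∧ a ≠ b ∧
      ∀ x ∈ V, x = 1 ∨ x = a ∨ x = b ∨ x = a * b := by
  classical
  have hfin : Finite V := IsKleinFour.instFinite
  have hcard := hV.card_four
  have hcomm : IsMulCommutative V := IsKleinFour.isMulCommutative
  have : Fintype V := Fintype.ofFinite V
  rw [Nat.card_eq_fintype_card] at hcard
  obtain ⟨a, ha⟩ : ∃ a : V, a ≠ 1 := by
    by_contra hcon
    push Not at hcon
    have : Fintype.card V ≤ 1 := Fintype.card_le_one_iff.2 (fun x y => by rw [hcon x, hcon y])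
    omega
  obtain ⟨b, hb1, hba⟩ : ∃ b : V, b ≠ 1 ∧ b ≠ a := by
    by_contra hcon
    push Not at hcon
    have hsub : (Finset.univ : Finset V) ⊆ {1, a} := by
      intro x _
      by_cases hx : x = 1
      · simp [hx]
      · simp [hcon x hx]
    have h1 := Finset.card_le_card hsub
    have h2 : ({1, a} : Finset V).card ≤ 2 := Finset.card_le_two
    rw [Finset.card_univ] at h1
    omega
  refine ⟨a, b, a.2, b.2, ?_, ?_, ?_, ?_, ?_, ?_, ?_⟩
  · exact congrArg Subtype.val (IsKleinFour.mul_self a)
  · exact congrArg Subtype.val (IsKleinFour.mul_self b)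
  · exact congrArg Subtype.val (hcomm.is_comm.comm a b)
  · intro h; exact ha (Subtype.ext h)
  · intro h; exact hb1 (Subtype.ext h)
  · intro h; exact hba (Subtype.ext h.symm)
  · intro x hx
    have hu := IsKleinFour.eq_finset_univ ha hb1 hba.symm
    have h1 : (⟨x, hx⟩ : V) ∈ ({a * b, a, b, 1} : Finset V) := by rw [hu]; exact Finset.mem_univ _
    simp only [Finset.mem_insert, Finset.mem_singleton] at h1
    rcases h1 with h1 | h1 | h1 | h1
    · right; right; right; exact congrArg Subtype.val h1
    · right; left; exact congrArg Subtype.val h1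
    · right; right; left; exact congrArg Subtype.val h1
    · left; exact congrArg Subtype.val h1

/-- `|{x | x * x = 1}| = |{t | orderOf t = 2}| + 1`. -/
theorem card_sq_one {G : Type*} [Group G] [Fintype G] [DecidableEq G] :
    (Finset.univ.filter fun x : G => x * x = 1).card =
      Nat.card {t : G // orderOf t = 2} + 1 := by
  classical
  have h1 : (Finset.univ.filter fun x : G => x * x = 1) =
      insert 1 (Finset.univ.filter fun x : G => orderOf x = 2) := by
    ext x
    simp only [Finset.mem_filter, Finset.mem_univ, true_and, Finset.mem_insert]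
    constructor
    · intro h
      by_cases hx : x = 1
      · left; exact hx
      · right; exact orderOf_eq_prime (by rw [pow_two]; exact h) hx
    · rintro (rfl | h)
      · simp
      · rw [← pow_two, ← h]; exact pow_orderOf_eq_one x
  rw [h1, Finset.card_insert_of_notMem, Nat.card_eq_fintype_card, Fintype.card_subtype]
  simp

theorem four_dvd_card_involutions_add_one {G : Type*} [Group G] [Finite G] (a b : G)
    (ha : a * a = 1) (hb : b * b = 1) (hab : a * b = b * a)
    (ha1 : a ≠ 1) (hb1 : b ≠ 1) (hne : a ≠ b)
    (hR : (∀ x : G, x * x = 1 → (x * a = a * x → x * b ≠ a * (b * x)) ∧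
        (x * b = b * x → x * a ≠ b * (a * x)) ∧
        (x * (a * b) = (a * b) * x → x * b ≠ (a * b) * (b * x))) ∨
      ∃ c : G, c * a = a * c ∧ c * b = b * c ∧ c ≠ 1 ∧ c ≠ a ∧ c ≠ b ∧ c ≠ a * b ∧
        (c * c = 1 ∨ c * c = a ∨ c * c = b ∨ c * c = a * b)) :
    4 ∣ Nat.card {t : G // orderOf t = 2} + 1 := by
  classical
  have : Fintype G := Fintype.ofFinite G
  have h1 := four_dvd_card_sq_one a b ha hb hab ha1 hb1 hne hR
  have h2 := card_sq_one (G := G)
  rw [← h2]
  exact h1

/-- **Counting theorem.** A finite group with a four-subgroup `V` such that `8 ∣ |C_G(V)|`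
has `3` modulo `4` involutions. -/
theorem card_involutions_mod_four {G : Type*} [Group G] [Finite G] (V : Subgroup G)
    (hV : IsKleinFour V) (h8 : 8 ∣ Nat.card (Subgroup.centralizer (V : Set G))) :
    Nat.card {t : G // orderOf t = 2} % 4 = 3 := by
  classical
  have : Fintype G := Fintype.ofFinite G
  obtain ⟨a, b, haV, hbV, ha, hb, hab, ha1, hb1, hne, hall⟩ := exists_gens V hV
  have hcomm : ∀ x ∈ V, ∀ y ∈ V, x * y = y * x := by
    intro x hx y hy
    have hcomm : IsMulCommutative V := IsKleinFour.isMulCommutative
    exact congrArg Subtype.val (hcomm.is_comm.comm (⟨x, hx⟩ : V) ⟨y, hy⟩)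
  set C := Subgroup.centralizer (V : Set G) with hC
  have hVC : V ≤ C := by
    intro x hx
    rw [hC, Subgroup.mem_centralizer_iff]
    intro y hy
    exact hcomm y hy x hx
  have hcardVC : Nat.card (V.subgroupOf C) = 2 ^ 2 := by
    rw [Nat.card_congr (Subgroup.subgroupOfEquivOfLe hVC).toEquiv, hV.card_four]; norm_num
  obtain ⟨K, hK, hVK⟩ := Sylow.exists_subgroup_card_pow_succ (p := 2) (n := 2)
    (by rw [show 2 ^ (2 + 1) = 8 from rfl]; exact h8) hcardVC
  -- `c ∈ K \ V`
  obtain ⟨c, hcK, hcV⟩ : ∃ c ∈ K, c ∉ V.subgroupOf C := by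
    by_contra hcon
    push Not at hcon
    have hle : K ≤ V.subgroupOf C := hcon
    have := Subgroup.card_le_of_le hle
    rw [hK, hcardVC] at this
    omega
  have hind : ((V.subgroupOf C).subgroupOf K).index = 2 := by
    have h1 := ((V.subgroupOf C).subgroupOf K).card_mul_index
    rw [Nat.card_congr (Subgroup.subgroupOfEquivOfLe hVK).toEquiv, hK, hcardVC] at h1
    omega
  have hcc : (c : G) * c ∈ V := by
    have := Subgroup.mul_self_mem_of_index_two hind ⟨c, hcK⟩
    rw [Subgroup.mem_subgroupOf] at this
    exact this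
  have hcC : ∀ v ∈ V, (c : G) * v = v * c := by
    intro v hv
    have h9 : ∀ h ∈ (V : Set G), h * (c : G) = c * h := Subgroup.mem_centralizer_iff.1 c.2
    exact (h9 v hv).symm
  have hcV' : (c : G) ∉ V := fun h => hcV h
  have h4 := four_dvd_card_involutions_add_one a b ha hb hab ha1 hb1 hne
    (Or.inr ⟨(c : G), hcC a haV, hcC b hbV,
    fun h => hcV' (h ▸ V.one_mem), fun h => hcV' (h ▸ haV), fun h => hcV' (h ▸ hbV),
    fun h => hcV' (h ▸ V.mul_mem haV hbV), hall _ hcc⟩)
  omega

/-- A finite group with a Sylow 2-subgroup that is a four-group has `3` modulo `4` involutions. -/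
theorem card_involutions_mod_four' {G : Type*} [Group G] [Finite G] (S : Sylow 2 G)
    (hS : IsKleinFour S) : Nat.card {t : G // orderOf t = 2} % 4 = 3 := by
  classical
  have : Fintype G := Fintype.ofFinite G
  obtain ⟨a, b, haV, hbV, ha, hb, hab, ha1, hb1, hne, hall⟩ := exists_gens (S : Subgroup G) hS
  have hcomm : ∀ x ∈ (S : Subgroup G), ∀ y ∈ (S : Subgroup G), x * y = y * x := by
    intro x hx y hy
    have hcomm : IsMulCommutative S := IsKleinFour.isMulCommutative
    exact congrArg Subtype.val (hcomm.is_comm.comm (⟨x, hx⟩ : S) ⟨y, hy⟩)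
  -- involutions normalizing `S` lie in `S`
  have hnorm : ∀ x : G, x * x = 1 → x ∈ Subgroup.normalizer ((S : Subgroup G) : Set G) →
      x ∈ (S : Subgroup G) := by
    intro x hx hxN
    have hxp : IsPGroup 2 (Subgroup.zpowers x) := by
      intro y
      obtain ⟨k, hk⟩ := Subgroup.mem_zpowers_iff.1 y.2
      refine ⟨1, ?_⟩
      apply Subtype.ext
      rw [Subgroup.coe_pow, ← hk]
      simp only [pow_one, Subgroup.coe_one]
      rw [← zpow_natCast, ← zpow_mul, mul_comm, zpow_mul]
      have : x ^ ((2 : ℕ) : ℤ) = 1 := by rw [zpow_natCast, pow_two]; exact hx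
      rw [this, one_zpow]
    have h1 := hxp.inf_normalizer_sylow S
    have h2 : x ∈ Subgroup.zpowers x ⊓ Subgroup.normalizer ((S : Subgroup G) : Set G) :=
      ⟨Subgroup.mem_zpowers x, hxN⟩
    have h3 : x ∈ Subgroup.zpowers x ⊓ (S : Subgroup G) := by rw [← h1]; exact h2
    exact h3.2
  -- `N(S)` membership
  have hmemN : ∀ x : G, x * x = 1 → x * a * x⁻¹ ∈ (S : Subgroup G) →
      x * b * x⁻¹ ∈ (S : Subgroup G) → x ∈ (S : Subgroup G) := by
    intro x hx h1 h2
    apply hnorm x hx
    rw [Subgroup.mem_normalizer_iff]
    have h3 : ∀ y ∈ (S : Subgroup G), x * y * x⁻¹ ∈ (S : Subgroup G) := by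
      intro y hy
      rcases hall y hy with rfl | rfl | rfl | rfl
      · simp
      · exact h1
      · exact h2
      · have : x * (a * b) * x⁻¹ = (x * a * x⁻¹) * (x * b * x⁻¹) := by group
        rw [this]; exact mul_mem h1 h2
    intro y
    refine ⟨h3 y, fun hy => ?_⟩
    have h4 := h3 _ hy
    have hxi : x⁻¹ = x := inv_eq_of_mul_eq_one_left hx
    have h5 : x * (x * y * x⁻¹) * x⁻¹ = y := by
      rw [hxi]
      calc x * (x * y * x) * x = (x * x) * y * (x * x) := by group
        _ = y := by rw [hx]; group
    rw [h5] at h4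
    exact h4
  have habS : a * b ∈ (S : Subgroup G) := mul_mem haV hbV
  have h4 := four_dvd_card_involutions_add_one a b ha hb hab ha1 hb1 hne (Or.inl ?_)
  · omega
  · intro x hx
    refine ⟨?_, ?_, ?_⟩
    · intro h1 h2
      have h3 : x ∈ (S : Subgroup G) := by
        apply hmemN x hx
        · rw [h1, mul_inv_cancel_right]; exact haV
        · rw [h2, ← mul_assoc, mul_inv_cancel_right]; exact habS
      rw [hcomm x h3 b hbV] at h2
      exact ha1 (mul_eq_right.1 h2.symm)
    · intro h1 h2
      have h3 : x ∈ (S : Subgroup G) := by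
        apply hmemN x hx
        · rw [h2, ← mul_assoc, mul_inv_cancel_right, ← hab]; exact habS
        · rw [h1, mul_inv_cancel_right]; exact hbV
      rw [hcomm x h3 a haV] at h2
      exact hb1 (mul_eq_right.1 h2.symm)
    · intro h1 h2
      have h5 : a * b * (b * x) = a * x := by
        calc a * b * (b * x) = a * (b * b) * x := by group
          _ = a * x := by rw [hb]; group
      rw [h5] at h2
      have h6 : x * a * x⁻¹ = b := by
        have h7 : x * a * b = a * b * x := by rw [mul_assoc]; exact h1
        have h8 : x * a = a * b * x * b := by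
          calc x * a = x * a * (b * b) := by rw [hb, mul_one]
            _ = (x * a * b) * b := by group
            _ = a * b * x * b := by rw [h7]
        calc x * a * x⁻¹ = a * b * (x * b) * x⁻¹ := by rw [h8]; group
          _ = a * b * a := by rw [h2]; group
          _ = b * (a * a) := by rw [hab]; group
          _ = b := by rw [ha, mul_one]
      have h3 : x ∈ (S : Subgroup G) := by
        apply hmemN x hx
        · rw [h6]; exact hbV
        · rw [h2, mul_inv_cancel_right]; exact haV
      rw [hcomm x h3 b hbV] at h2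
      exact hne (mul_right_cancel h2).symm

end Cfsg.Agent.TwoFusion.InvolutionCount
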