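import Mathlib
import Cfsg.Agent.TwoFusion.InvolutionCount
import Cfsg.Agent.TwoFusion.LocalIndex
import Cfsg.Agent.TwoFusion.DihedralFour
import Cfsg.Agent.SmallSimple.OrderEight
import Cfsg.Agent.S0016
import Cfsg.Agent.S0519

/-!
If the number of involutions of a finite group is `1` modulo `4`, its Sylow 2-subgroups are cyclic,
generalized quaternion, dihedral of order at least `8`, or quasi-dihedral.
-/

set_option autoImplicit false

namespace Cfsg.Agent.TwoFusion.InvolutionCountSylow

open Cfsg.Agent.TwoFusion.InvolutionCount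

/-- The four-subgroup generated by two commuting involutions. -/
theorem exists_klein {P : Type*} [Group P] (z w : P) (hz2 : z * z = 1) (hw2 : w * w = 1)
    (hz1 : z ≠ 1) (hw1 : w ≠ 1) (hwz : w ≠ z) (hcwz : w * z = z * w) :
    ∃ W : Subgroup P, IsKleinFour W ∧ z ∈ W ∧ w ∈ W := by
  classical
  let W : Subgroup P :=
    { carrier := {x | x = 1 ∨ x = z ∨ x = w ∨ x = z * w}
      one_mem' := Or.inl rfl
      mul_mem' := by
        have e1 : z * (z * w) = w := by rw [← mul_assoc, hz2, one_mul]
        have e2 : w * (z * w) = z := by rw [← hcwz, ← mul_assoc, hw2, one_mul]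
        have e3 : z * w * z = w := by rw [mul_assoc, hcwz, e1]
        have e4 : z * w * w = z := by rw [mul_assoc, hw2, mul_one]
        have e5 : z * w * (z * w) = 1 := by rw [mul_assoc, e2, hz2]
        rintro x y (rfl | rfl | rfl | rfl) (rfl | rfl | rfl | rfl) <;>
          simp only [Set.mem_ofPred_eq, one_mul, mul_one, hz2, hw2, hcwz, e1, e2, e3, e4, e5,
            true_or, or_true]
      inv_mem' := by
        have e0 : z⁻¹ = z := inv_eq_of_mul_eq_one_left hz2
        have e1 : w⁻¹ = w := inv_eq_of_mul_eq_one_left hw2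
        rintro x (rfl | rfl | rfl | rfl)
        · left; simp
        · right; left; exact e0
        · right; right; left; exact e1
        · right; right; right; rw [mul_inv_rev, e0, e1, hcwz] }
  have hWmem : ∀ x, x ∈ W ↔ (x = 1 ∨ x = z ∨ x = w ∨ x = z * w) := fun x => Iff.rfl
  have hWsq : ∀ x ∈ W, x * x = 1 := by
    intro x hx
    rcases (hWmem x).mp hx with rfl | rfl | rfl | rfl
    · simp
    · exact hz2
    · exact hw2
    · calc z * w * (z * w) = z * (w * z) * w := by group
        _ = z * (z * w) * w := by rw [hcwz]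
        _ = (z * z) * (w * w) := by group
        _ = 1 := by rw [hz2, hw2, one_mul]
  have hzw1 : z * w ≠ 1 := by
    intro h
    apply hwz
    calc w = (z * z) * w := by rw [hz2, one_mul]
      _ = z := by rw [mul_assoc, h, mul_one]
  have hcard : Nat.card W = 4 := by
    have h1 : (W : Set P) = (({1, z, w, z * w} : Finset P) : Set P) := by
      ext x
      simp only [Finset.coe_insert, Finset.coe_singleton, Set.mem_insert_iff,
        Set.mem_singleton_iff, SetLike.mem_coe]
      exact hWmem x
    have h2 : Nat.card W = Nat.card (W : Set P) := rfl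
    rw [h2, h1, Nat.card_coe_set_eq, Set.ncard_coe_finset, Finset.card_insert_of_notMem,
      Finset.card_insert_of_notMem, Finset.card_insert_of_notMem, Finset.card_singleton]
    · simp only [Finset.mem_singleton]
      intro h; exact hz1 (mul_eq_right.1 h.symm)
    · simp only [Finset.mem_insert, Finset.mem_singleton, not_or]
      refine ⟨hwz.symm, fun h => hw1 (mul_eq_left.1 h.symm)⟩
    · simp only [Finset.mem_insert, Finset.mem_singleton, not_or]
      exact ⟨hz1.symm, hw1.symm, hzw1.symm⟩
  refine ⟨W, ⟨hcard, ?_⟩, Or.inr (Or.inl rfl), Or.inr (Or.inr (Or.inl rfl))⟩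
  have hdvd : Monoid.exponent W ∣ 2 := by
    rw [Monoid.exponent_dvd_iff_forall_pow_eq_one]
    rintro ⟨x, hx⟩
    ext
    rw [Subgroup.coe_pow, pow_two]
    exact hWsq x hx
  rcases (Nat.dvd_prime Nat.prime_two).1 hdvd with h1 | h1
  · rw [Monoid.exp_eq_one_iff] at h1
    have h2 : Nat.card W ≤ 1 := Finite.card_le_one_iff_subsingleton.2 h1
    omega
  · exact h1

/-- A subgroup of order two consists of `1` and an involution. -/
theorem exists_of_card_two {P : Type*} [Group P] (H : Subgroup P) (hH : Nat.card H = 2) :
    ∃ h : P, h ≠ 1 ∧ h * h = 1 ∧ ∀ x : P, x ∈ H ↔ (x = 1 ∨ x = h) := by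
  have hfin : Finite H := Nat.finite_of_card_ne_zero (by omega)
  have : Nontrivial H := Finite.one_lt_card_iff_nontrivial.1 (by omega)
  obtain ⟨⟨h, hh⟩, hne⟩ := exists_ne (1 : H)
  have hne' : h ≠ 1 := fun h1 => hne (Subtype.ext h1)
  have hsq : h * h = 1 := by
    have : (⟨h, hh⟩ : H) ^ Nat.card H = 1 := pow_card_eq_one'
    rw [hH, pow_two] at this
    exact congrArg Subtype.val this
  refine ⟨h, hne', hsq, ?_⟩
  intro x
  constructor
  · intro hx
    by_contra hcon
    push Not at hcon
    have h3 : Function.Injective (![⟨1, H.one_mem⟩, ⟨h, hh⟩, ⟨x, hx⟩] : Fin 3 → H) := by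
      intro i j hij
      fin_cases i <;> fin_cases j <;> simp_all
    have h4 := Nat.card_le_card_of_injective _ h3
    rw [hH, Nat.card_eq_fintype_card, Fintype.card_fin] at h4
    omega
  · rintro (rfl | rfl)
    · exact H.one_mem
    · exact hh

/-- A finite 2-group that is neither cyclic nor generalized quaternion has a four-subgroup. -/
theorem exists_klein_of_not {P : Type*} [Group P] [Finite P] (hP : IsPGroup 2 P)
    (h : ¬ (IsCyclic P ∨ ∃ n : ℕ, Nonempty (P ≃* QuaternionGroup (2 ^ n)))) :
    ∃ V : Subgroup P, IsKleinFour V := by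
  by_contra hcon
  push Not at hcon
  apply h
  have key : ∀ H K : Subgroup P, Nat.card H = 2 → Nat.card K = 2 → H = K := by
    intro H K hH hK
    obtain ⟨a, ha1, haa, ha⟩ := exists_of_card_two H hH
    obtain ⟨b, hb1, hbb, hb⟩ := exists_of_card_two K hK
    by_cases hab : a = b
    · subst hab
      ext x
      rw [ha, hb]
    · exfalso
      have hnt : Nontrivial P := ⟨a, 1, ha1⟩
      have hcn : Nontrivial (Subgroup.center P) := hP.center_nontrivial
      have hcp : IsPGroup 2 (Subgroup.center P) := hP.to_subgroup _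
      obtain ⟨z, hz⟩ : ∃ z : Subgroup.center P, orderOf z = 2 := by
        apply exists_prime_orderOf_dvd_card'
        obtain ⟨k, hk⟩ := IsPGroup.iff_card.1 hcp
        rw [hk]
        have hk0 : k ≠ 0 := by
          rintro rfl
          have := Finite.one_lt_card (α := Subgroup.center P)
          omega
        exact dvd_pow_self 2 hk0
      have hz1 : (z : P) ≠ 1 := by
        intro h1
        have : z = 1 := Subtype.ext h1
        rw [this, orderOf_one] at hz
        omega
      have hzz : (z : P) * z = 1 := by
        have : z ^ 2 = 1 := by rw [← hz]; exact pow_orderOf_eq_one z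
        rw [pow_two] at this
        exact congrArg Subtype.val this
      have hzc : ∀ x : P, x * z = z * x := fun x => Subgroup.mem_center_iff.1 z.2 x
      by_cases haz : a = z
      · have hbz : b ≠ z := fun h2 => hab (haz.trans h2.symm)
        obtain ⟨W, hW, -, -⟩ := exists_klein (z : P) b hzz hbb hz1 hb1 hbz (hzc b)
        exact hcon W hW
      · obtain ⟨W, hW, -, -⟩ := exists_klein (z : P) a hzz haa hz1 ha1 haz (hzc a)
        exact hcon W hW
  rcases Cfsg.Agent.S0016.result 2 hP key with h1 | ⟨-, h1⟩
  · exact Or.inl h1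
  · exact Or.inr h1

/-- A finite 2-group in which every four-subgroup `V` has `8 ∤ |C(V)|`, and which is not itself a
four-group, is cyclic, generalized quaternion, dihedral or quasi-dihedral. -/
theorem two_group_cases {P : Type*} [Group P] [Finite P] (hP : IsPGroup 2 P)
    (hnk : ¬ IsKleinFour P)
    (hself : ∀ V : Subgroup P, IsKleinFour V → ¬ 8 ∣ Nat.card (Subgroup.centralizer (V : Set P))) :
    IsCyclic P ∨ (∃ n : ℕ, Nonempty (P ≃* QuaternionGroup (2 ^ (n + 1)))) ∨
      (∃ n : ℕ, 4 ≤ n ∧ Nonempty (P ≃* DihedralGroup n)) ∨ Cfsg.IsQuasiDihedral P := by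
  obtain ⟨k, hk⟩ := IsPGroup.iff_card.1 hP
  by_cases hcq : IsCyclic P ∨ ∃ n : ℕ, Nonempty (P ≃* QuaternionGroup (2 ^ n))
  · rcases hcq with h1 | ⟨n, ⟨e⟩⟩
    · exact Or.inl h1
    · rcases n with _ | n
      · left
        have h2 : IsCyclic (QuaternionGroup (2 ^ 0)) := QuaternionGroup.quaternionGroup_one_isCyclic
        exact isCyclic_of_surjective e.symm e.symm.surjective
      · exact Or.inr (Or.inl ⟨n, ⟨e⟩⟩)
  obtain ⟨V, hV⟩ := exists_klein_of_not hP hcq
  have hVfin : Finite V := IsKleinFour.instFinite
  have hVcomm : IsMulCommutative V := IsKleinFour.isMulCommutative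
  have hk2 : 2 ≤ k := by
    by_contra hcon
    have h1 := Subgroup.card_le_card_group V
    rw [hV.card_four, hk] at h1
    have h2 : 2 ^ k ≤ 2 ^ 1 := Nat.pow_le_pow_right (by norm_num) (by omega)
    omega
  have hk3 : 3 ≤ k := by
    by_contra hcon
    have hk' : k = 2 := by omega
    subst hk'
    have h1 : V = ⊤ := Subgroup.eq_top_of_card_eq V (by rw [hV.card_four, hk]; norm_num)
    apply hnk
    subst h1
    exact Cfsg.Agent.TwoFusion.DihedralFour.isKleinFour_of_mulEquiv Subgroup.topEquiv hV
  by_cases hk3' : k = 3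
  · subst hk3'
    have hna : ¬ IsMulCommutative P := by
      intro hc
      apply hself V hV
      have : Subgroup.centralizer (V : Set P) = ⊤ := by
        rw [eq_top_iff]
        intro x _
        rw [Subgroup.mem_centralizer_iff]
        intro y _
        exact hc.is_comm.comm y x
      rw [this, Subgroup.card_top, hk]
      norm_num
    rcases Cfsg.Agent.SmallSimple.OrderEight.dihedral_or_quaternion_of_card_eight
      (by rw [hk]; norm_num) hna with h1 | h1
    · exact Or.inr (Or.inr (Or.inl ⟨4, le_rfl, h1⟩))
    · exact Or.inr (Or.inl ⟨0, h1⟩)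
  have hk4 : 4 ≤ k := by omega
  have hncyc : ∀ W : Subgroup P, IsKleinFour W → ¬ IsCyclic W := by
    intro W hW
    exact IsKleinFour.not_isCyclic
  have hn : ∀ A : Subgroup P, A.Normal → IsMulCommutative A → IsCyclic A := by
    intro A hAn hAc
    by_contra hAcyc
    have hAp : IsPGroup 2 A := hP.to_subgroup A
    have h1 : ¬ (IsCyclic A ∨ ∃ n : ℕ, Nonempty (A ≃* QuaternionGroup (2 ^ n))) := by
      rintro (h1 | ⟨n, ⟨e⟩⟩)
      · exact hAcyc h1
      · rcases n with _ | n
        · apply hAcyc
          have h2 : IsCyclic (QuaternionGroup (2 ^ 0)) :=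
            QuaternionGroup.quaternionGroup_one_isCyclic
          exact isCyclic_of_surjective e.symm e.symm.surjective
        · -- the quaternion group is not commutative
          have h3 : (QuaternionGroup.a 1 : QuaternionGroup (2 ^ (n + 1))) * QuaternionGroup.xa 0 =
              QuaternionGroup.xa 0 * QuaternionGroup.a 1 := by
            have := hAc.is_comm.comm (e.symm (QuaternionGroup.a 1)) (e.symm (QuaternionGroup.xa 0))
            have h4 := congrArg e this
            rwa [map_mul, map_mul, e.apply_symm_apply, e.apply_symm_apply] at h4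
          rw [QuaternionGroup.a_mul_xa, QuaternionGroup.xa_mul_a, QuaternionGroup.xa.injEq] at h3
          have h5 : ((2 : ℕ) : ZMod (2 * 2 ^ (n + 1))) = 0 := by
            push_cast
            linear_combination -h3
          rw [ZMod.natCast_eq_zero_iff] at h5
          have h6 := Nat.le_of_dvd (by norm_num) h5
          have h7 : 2 ^ 1 ≤ 2 ^ (n + 1) := Nat.pow_le_pow_right (by norm_num) (by omega)
          omega
    obtain ⟨W, hW⟩ := exists_klein_of_not hAp h1
    -- the image of `W` in `P`
    set T : Subgroup P := W.map A.subtype with hT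
    have hTk : IsKleinFour T :=
      Cfsg.Agent.TwoFusion.DihedralFour.isKleinFour_map A.subtype A.subtype_injective W hW
    have hTA : T ≤ A := Subgroup.map_subtype_le W
    have hAC : A ≤ Subgroup.centralizer (T : Set P) := by
      intro x hx
      rw [Subgroup.mem_centralizer_iff]
      intro y hy
      exact congrArg Subtype.val (hAc.is_comm.comm (⟨y, hTA hy⟩ : A) ⟨x, hx⟩)
    have hC4 : Nat.card (Subgroup.centralizer (T : Set P)) = 4 := by
      obtain ⟨j, hj⟩ := IsPGroup.iff_card.1 (hP.to_subgroup (Subgroup.centralizer (T : Set P)))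
      have h2 := Subgroup.card_dvd_of_le (hTA.trans hAC)
      rw [hTk.card_four, hj] at h2
      have h3 := hself T hTk
      rw [hj] at h3
      have h4 : j ≤ 2 := by
        by_contra hcon
        apply h3
        exact pow_dvd_pow 2 (show 3 ≤ j by omega)
      have h5 : 2 ≤ j := by
        have h6 := Nat.le_of_dvd (by positivity) h2
        by_contra hcon
        have h7 : 2 ^ j ≤ 2 ^ 1 := Nat.pow_le_pow_right (by norm_num) (by omega)
        omega
      have : j = 2 := by omega
      rw [hj, this]; norm_num
    have hTeq : T = Subgroup.centralizer (T : Set P) :=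
      Subgroup.eq_of_le_of_card_ge (hTA.trans hAC) (by rw [hC4, hTk.card_four])
    have hTA' : T = A := le_antisymm hTA (by rw [hTeq]; rw [← hTeq]; exact hAC.trans hTeq.ge)
    have hTn : T.Normal := by rw [hTA']; exact hAn
    have hdvd := Cfsg.Agent.TwoFusion.LocalIndex.relIndex_kleinFour_dvd T hTk
    rw [Subgroup.normalizer_eq_top_iff.2 hTn, Subgroup.relIndex_top_right] at hdvd
    have hmul := (Subgroup.centralizer (T : Set P)).card_mul_index
    rw [hC4, hk] at hmul
    obtain ⟨l, rfl⟩ := Nat.exists_eq_add_of_le hk4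
    have h8 : (Subgroup.centralizer (T : Set P)).index = 2 ^ (l + 2) := by
      have : 4 * (Subgroup.centralizer (T : Set P)).index = 4 * 2 ^ (l + 2) := by
        rw [hmul]; ring
      omega
    rw [h8] at hdvd
    have h9 : 2 ^ 2 ∣ 6 := dvd_trans (pow_dvd_pow 2 (by omega)) hdvd
    omega
  obtain ⟨-, h1⟩ := Cfsg.Agent.S0519.result 2 hP hn ⟨V, hVcomm, hncyc V hV⟩
  rcases h1 with ⟨n, ⟨e⟩⟩ | ⟨n, hn8, h1⟩ | h1
  · -- quaternion: `n` is a power of two
    have h2 : Nat.card P = 4 * n := by
      rw [Nat.card_congr e.toEquiv]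
      have hn0 : n ≠ 0 := by
        rintro rfl
        have : Infinite (QuaternionGroup 0) := by
          apply Infinite.of_injective (fun i : ℤ => (QuaternionGroup.a i : QuaternionGroup 0))
          intro i j hij
          exact (QuaternionGroup.a.inj hij)
        have : Finite (QuaternionGroup 0) := Finite.of_equiv P e.toEquiv
        exact not_finite (QuaternionGroup 0)
      have : NeZero n := ⟨hn0⟩
      rw [Nat.card_eq_fintype_card, QuaternionGroup.card]
    rw [hk] at h2
    obtain ⟨l, rfl⟩ := Nat.exists_eq_add_of_le hk4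
    have h3 : n = 2 ^ (l + 1 + 1) := by
      have : 4 * n = 4 * 2 ^ (l + 1 + 1) := by rw [← h2]; ring
      omega
    subst h3
    exact Or.inr (Or.inl ⟨l + 1, ⟨e⟩⟩)
  · exact Or.inr (Or.inr (Or.inl ⟨n, by omega, h1⟩))
  · exact Or.inr (Or.inr (Or.inr h1))

/-- If the number of involutions of a finite group is `1` modulo `4`, its Sylow 2-subgroups are
cyclic, generalized quaternion, dihedral of order at least `8`, or quasi-dihedral. -/
theorem sylow_cases {G : Type*} [Group G] [Finite G]
    (hI : Nat.card {t : G // orderOf t = 2} % 4 = 1) (S : Sylow 2 G) :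
    IsCyclic S ∨ (∃ n : ℕ, Nonempty ((S : Subgroup G) ≃* QuaternionGroup (2 ^ (n + 1)))) ∨
      (∃ n : ℕ, 4 ≤ n ∧ Nonempty ((S : Subgroup G) ≃* DihedralGroup n)) ∨
      Cfsg.IsQuasiDihedral (S : Subgroup G) := by
  apply two_group_cases S.isPGroup'
  · intro h
    have := card_involutions_mod_four' S h
    omega
  · intro V hV h8
    have hVk : IsKleinFour (V.map (S : Subgroup G).subtype) :=
      Cfsg.Agent.TwoFusion.DihedralFour.isKleinFour_map _ (S : Subgroup G).subtype_injective V hV
    have hle : (Subgroup.centralizer (V : Set S)).map (S : Subgroup G).subtype ≤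
        Subgroup.centralizer ((V.map (S : Subgroup G).subtype : Subgroup G) : Set G) := by
      rintro x ⟨y, hy, rfl⟩
      rw [Subgroup.mem_centralizer_iff]
      rintro w ⟨v, hv, rfl⟩
      exact congrArg Subtype.val (Subgroup.mem_centralizer_iff.1 hy v hv)
    have h1 := Subgroup.card_dvd_of_le hle
    rw [← Nat.card_congr ((Subgroup.centralizer (V : Set S)).equivMapOfInjective _
      (S : Subgroup G).subtype_injective).toEquiv] at h1
    have := card_involutions_mod_four _ hVk (dvd_trans h8 h1)
    omega

end Cfsg.Agent.TwoFusion.InvolutionCountSylow
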