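import Mathlib

/-!
# One class of involutions from the centraliser of a `2`-central involution

If `C_G(t) ≤ H` has odd index in `H`, then every involution of `H` is `H`-conjugate to an involution
of `C_G(t)`; so `H` has one class of involutions as soon as every involution of `C_G(t)` is
`H`-conjugate to `t`.
-/

set_option autoImplicit false

namespace Cfsg.Agent.TwoFusion.OneClassOddIndex

open scoped Pointwise

/-- A `p`-subgroup of a finite group is conjugate into every subgroup of index prime to `p`. -/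
theorem exists_conj_mem {H : Type*} [Group H] [Finite H] (p : ℕ) [hp : Fact p.Prime] (C : Subgroup H)
    (hC : ¬ p ∣ C.index) (y : H) (hy : orderOf y = p) : ∃ h : H, h * y * h⁻¹ ∈ C := by
  have hpy : IsPGroup p (Subgroup.zpowers y) :=
    IsPGroup.of_card (n := 1) (by rw [Nat.card_zpowers, hy, pow_one])
  obtain ⟨Q⟩ : Nonempty (Sylow p C) := inferInstance
  -- the image of `Q` is a Sylow subgroup of `H`
  have hQp : IsPGroup p ((Q : Subgroup C).map C.subtype) := Q.isPGroup'.map _
  obtain ⟨R, hR⟩ := hQp.exists_le_sylow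
  have hRQ : (R : Subgroup H) = (Q : Subgroup C).map C.subtype := by
    symm
    apply Subgroup.eq_of_le_of_card_ge hR
    have h1 : Nat.card (R : Subgroup H) = p ^ (Nat.card H).factorization p := R.card_eq_multiplicity
    have h2 : Nat.card (Q : Subgroup C) = p ^ (Nat.card C).factorization p := Q.card_eq_multiplicity
    have h3 : Nat.card ((Q : Subgroup C).map C.subtype) = Nat.card (Q : Subgroup C) :=
      (Nat.card_congr ((Q : Subgroup C).equivMapOfInjective C.subtype C.subtype_injective).toEquiv).symm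
    rw [h1, h3, h2]
    have h4 : Nat.card H = Nat.card C * C.index := (C.card_mul_index).symm
    rw [h4, Nat.factorization_mul Nat.card_pos.ne' (Subgroup.index_ne_zero_of_finite)]
    rw [Finsupp.add_apply, Nat.factorization_eq_zero_of_not_dvd hC, add_zero]
  obtain ⟨S, hS⟩ := hpy.exists_le_sylow
  obtain ⟨g, hg⟩ := MulAction.exists_smul_eq H S R
  have hyS : y ∈ (S : Subgroup H) := hS (Subgroup.mem_zpowers y)
  refine ⟨g, ?_⟩
  have h1 : g * y * g⁻¹ ∈ (R : Subgroup H) := by
    rw [← hg]
    have h2 : MulAut.conj g • y ∈ MulAut.conj g • (S : Subgroup H) :=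
      Subgroup.smul_mem_pointwise_smul _ _ _ hyS
    exact h2
  rw [hRQ] at h1
  obtain ⟨z, _, hz⟩ := h1
  rw [← hz]
  exact z.2

theorem one_class {G : Type*} [Group G] [Finite G] {t : G} {H : Subgroup G}
    (_hC : Subgroup.centralizer ({t} : Set G) ≤ H)
    (hodd : ¬ 2 ∣ (Subgroup.centralizer ({t} : Set G)).relIndex H)
    (hinv : ∀ y : G, y * t = t * y → orderOf y = 2 → ∃ k ∈ H, k * t * k⁻¹ = y) :
    ∀ y ∈ H, orderOf y = 2 → ∃ k ∈ H, k * t * k⁻¹ = y := by
  have : Fact (Nat.Prime 2) := ⟨Nat.prime_two⟩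
  intro y hy hy2
  obtain ⟨h, hh⟩ := exists_conj_mem 2 ((Subgroup.centralizer ({t} : Set G)).subgroupOf H) hodd
    (⟨y, hy⟩ : H) (by rw [Subgroup.orderOf_mk]; exact hy2)
  rw [Subgroup.mem_subgroupOf, Subgroup.mem_centralizer_singleton_iff] at hh
  have h2 : orderOf ((h : G) * y * (h : G)⁻¹) = 2 := by
    have : orderOf (MulAut.conj (h : G) y) = orderOf y := MulEquiv.orderOf_eq _ _
    rw [MulAut.conj_apply] at this
    rw [this, hy2]
  obtain ⟨k, hk, hkt⟩ := hinv ((h : G) * y * (h : G)⁻¹) hh h2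
  refine ⟨(h : G)⁻¹ * k, H.mul_mem (H.inv_mem h.2) hk, ?_⟩
  rw [mul_inv_rev, inv_inv]
  calc (h : G)⁻¹ * k * t * (k⁻¹ * h) = (h : G)⁻¹ * (k * t * k⁻¹) * h := by group
    _ = y := by rw [hkt]; group

end Cfsg.Agent.TwoFusion.OneClassOddIndex
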