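import Mathlib
import Cfsg.Agent.TwoFusion.HaradaSetup

/-!
# Self-centralizing `Q₈ * Q₈` in a 2-group with a normal elementary abelian subgroup of order `≥ 8`

`XS z Q`: `Q ≤ S` has order 32, commutators and squares of `Q` lie in `{1, z}`, and `C_S(Q) = {1, z}`.
-/

set_option autoImplicit false

namespace Cfsg.Agent.TwoFusion.SelfCentQQ

open Subgroup

/-- `x` and `y` commute with `z` and commute up to `z`. -/
def R {S : Type*} [Group S] (z x y : S) : Prop :=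
  x * z = z * x ∧ y * z = z * y ∧ (x * y = y * x ∨ x * y = z * (y * x))

theorem R_symm {S : Type*} [Group S] {z x y : S} (hzz : z * z = 1) (h : R z x y) : R z y x := by
  obtain ⟨h1, h2, h3⟩ := h
  refine ⟨h2, h1, ?_⟩
  rcases h3 with h3 | h3
  · exact Or.inl h3.symm
  · right
    rw [h3, ← mul_assoc, hzz, one_mul]

theorem not_comm_iff {S : Type*} [Group S] {z x y : S} (hz1 : z ≠ 1) (h : R z x y) :
    ¬ (x * y = y * x) ↔ x * y = z * (y * x) := by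
  obtain ⟨h1, h2, h3⟩ := h
  constructor
  · intro hn
    exact h3.resolve_left hn
  · intro h4 h5
    rw [h5] at h4
    exact hz1 (mul_eq_right.mp h4.symm)

theorem R_mul {S : Type*} [Group S] {z x x' y : S} (hzz : z * z = 1)
    (h : R z x y) (h' : R z x' y) : R z (x * x') y := by
  obtain ⟨h1, h2, h3⟩ := h
  obtain ⟨h1', h2', h3'⟩ := h'
  refine ⟨by rw [mul_assoc, h1', ← mul_assoc, h1, mul_assoc], h2, ?_⟩
  rcases h3 with h3 | h3 <;> rcases h3' with h3' | h3'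
  · left
    rw [mul_assoc, h3', ← mul_assoc, h3, mul_assoc]
  · right
    rw [mul_assoc, h3', ← mul_assoc, h1, mul_assoc z x, ← mul_assoc x y, h3, mul_assoc y x]
  · right
    rw [mul_assoc, h3', ← mul_assoc, h3, mul_assoc z, mul_assoc y x]
  · left
    rw [mul_assoc, h3', ← mul_assoc, h1, mul_assoc z x, ← mul_assoc x y, h3, mul_assoc z,
      ← mul_assoc z z, hzz, one_mul, mul_assoc y x]

theorem comm_mul {S : Type*} [Group S] {z x x' y : S} (hzz : z * z = 1) (hz1 : z ≠ 1)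
    (h : R z x y) (h' : R z x' y) :
    (x * x') * y = y * (x * x') ↔ (x * y = y * x ↔ x' * y = y * x') := by
  have hR := R_mul hzz h h'
  have n1 := not_comm_iff hz1 h
  have n2 := not_comm_iff hz1 h'
  have n3 := not_comm_iff hz1 hR
  obtain ⟨h1, h2, h3⟩ := h
  obtain ⟨h1', h2', h3'⟩ := h'
  rcases h3 with h3 | h3 <;> rcases h3' with h3' | h3'
  · have : (x * x') * y = y * (x * x') := by
      rw [mul_assoc, h3', ← mul_assoc, h3, mul_assoc]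
    tauto
  · have : (x * x') * y = z * (y * (x * x')) := by
      rw [mul_assoc, h3', ← mul_assoc, h1, mul_assoc z x, ← mul_assoc x y, h3, mul_assoc y x]
    tauto
  · have : (x * x') * y = z * (y * (x * x')) := by
      rw [mul_assoc, h3', ← mul_assoc, h3, mul_assoc z, mul_assoc y x]
    tauto
  · have : (x * x') * y = y * (x * x') := by
      rw [mul_assoc, h3', ← mul_assoc, h1, mul_assoc z x, ← mul_assoc x y, h3, mul_assoc z,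
        ← mul_assoc z z, hzz, one_mul, mul_assoc y x]
    tauto

structure XS {S : Type*} [Group S] (z : S) (Q : Subgroup S) : Prop where
  hz1 : z ≠ 1
  hzz : z * z = 1
  hzQ : z ∈ Q
  hR : ∀ x ∈ Q, ∀ y ∈ Q, R z x y
  hs : ∀ x ∈ Q, x * x = 1 ∨ x * x = z
  hcent : ∀ s : S, (∀ q ∈ Q, s * q = q * s) → s = 1 ∨ s = z
  hcard : Nat.card Q = 32

section XSec

variable {S : Type*} [Group S] {z : S} {Q : Subgroup S}

theorem XS.comm_mul (X : XS z Q) {x x' y : S} (hx : x ∈ Q) (hx' : x' ∈ Q) (hy : y ∈ Q) :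
    (x * x') * y = y * (x * x') ↔ (x * y = y * x ↔ x' * y = y * x') :=
  SelfCentQQ.comm_mul X.hzz X.hz1 (X.hR x hx y hy) (X.hR x' hx' y hy)

/-- squares of products -/
theorem XS.sq_mul (X : XS z Q) {x y : S} (hx : x ∈ Q) (hy : y ∈ Q) :
    (x * y) * (x * y) = 1 ↔ ((x * x = 1 ↔ y * y = 1) ↔ x * y = y * x) := by
  have n := not_comm_iff X.hz1 (X.hR x hx y hy)
  have hzx : x * z = z * x := (X.hR x hx y hy).1
  have hxs := X.hs x hx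
  have hys := X.hs y hy
  have hz1 := X.hz1
  have hzz := X.hzz
  by_cases hc : x * y = y * x
  · have h1 : (x * y) * (x * y) = (x * x) * (y * y) := by
      calc (x * y) * (x * y) = x * (y * x) * y := by group
        _ = (x * x) * (y * y) := by rw [← hc]; group
    rw [h1]
    rcases hxs with h2 | h2 <;> rcases hys with h3 | h3 <;> rw [h2, h3] <;> simp [hz1, hzz, hc]
  · have hc' := n.mp hc
    have h0 : y * x = z * (x * y) := by rw [hc', ← mul_assoc, hzz, one_mul]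
    have h1 : (x * y) * (x * y) = z * ((x * x) * (y * y)) := by
      calc (x * y) * (x * y) = x * (y * x) * y := by group
        _ = x * z * (x * y) * y := by rw [h0]; group
        _ = z * ((x * x) * (y * y)) := by rw [hzx]; group
    rw [h1]
    rcases hxs with h2 | h2 <;> rcases hys with h3 | h3 <;> rw [h2, h3] <;> simp [hz1, hzz, hc]

/-- an element of `Q` outside `{1, z}` does not commute with all of `Q` -/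
theorem XS.exists_not_comm (X : XS z Q) {f : S} (hf1 : f ≠ 1) (hfz : f ≠ z) :
    ∃ q ∈ Q, ¬ (q * f = f * q) := by
  by_contra hcon
  push Not at hcon
  rcases X.hcent f (fun q hq => (hcon q hq).symm) with h | h
  · exact hf1 h
  · exact hfz h

theorem XS.exists_dual (X : XS z Q) {f₁ f₂ : S} (h₁ : f₁ ∈ Q) (h₂ : f₂ ∈ Q)
    (h11 : f₁ ≠ 1) (h1z : f₁ ≠ z) (h21 : f₂ ≠ 1) (h2z : f₂ ≠ z)
    (h121 : f₁ * f₂ ≠ 1) (h12z : f₁ * f₂ ≠ z) :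
    ∃ g ∈ Q, ¬ (g * f₁ = f₁ * g) ∧ g * f₂ = f₂ * g := by
  by_contra hcon
  have hcon' : ∀ g ∈ Q, g * f₂ = f₂ * g → g * f₁ = f₁ * g := by
    intro g hg h
    by_contra h'
    exact hcon ⟨g, hg, h', h⟩
  obtain ⟨q₀, hq₀, hq₀f⟩ := X.exists_not_comm h21 h2z
  by_cases h01 : q₀ * f₁ = f₁ * q₀
  · obtain ⟨q, hq, hqf⟩ := X.exists_not_comm h11 h1z
    have h3 : ¬ (q * f₂ = f₂ * q) := fun h => hqf (hcon' q hq h)
    have h4 := (X.comm_mul hq hq₀ h₂).mpr (by tauto)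
    have h5 := hcon' _ (Q.mul_mem hq hq₀) h4
    have h6 := (X.comm_mul hq hq₀ h₁).mp h5
    tauto
  · obtain ⟨q, hq, hqf⟩ := X.exists_not_comm h121 h12z
    have h2 : ¬ ((f₁ * f₂) * q = q * (f₁ * f₂)) := fun h => hqf h.symm
    rw [X.comm_mul h₁ h₂ hq] at h2
    have e1 : f₁ * q = q * f₁ ↔ q * f₁ = f₁ * q := eq_comm
    have e2 : f₂ * q = q * f₂ ↔ q * f₂ = f₂ * q := eq_comm
    rw [e1, e2] at h2
    have h3 := hcon' q hq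
    by_cases h4 : q * f₂ = f₂ * q
    · tauto
    · have h5 := (X.comm_mul hq hq₀ h₂).mpr (by tauto)
      have h6 := hcon' _ (Q.mul_mem hq hq₀) h5
      have h7 := (X.comm_mul hq hq₀ h₁).mp h6
      tauto

/-- hyperbolic basis `f₁, g₁, f₂, g₂` of `Q` modulo `z` -/
structure Hyp (z : S) (Q : Subgroup S) (f₁ g₁ f₂ g₂ : S) : Prop where
  f₁Q : f₁ ∈ Q
  g₁Q : g₁ ∈ Q
  f₂Q : f₂ ∈ Q
  g₂Q : g₂ ∈ Q
  fg₁ : ¬ (f₁ * g₁ = g₁ * f₁)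
  fg₂ : ¬ (f₂ * g₂ = g₂ * f₂)
  ff : f₁ * f₂ = f₂ * f₁
  gg : g₁ * g₂ = g₂ * g₁
  c1 : f₁ * g₂ = g₂ * f₁
  c2 : g₁ * f₂ = f₂ * g₁

theorem XS.exists_hyp (X : XS z Q) {f₁ f₂ : S} (h₁ : f₁ ∈ Q) (h₂ : f₂ ∈ Q)
    (h11 : f₁ ≠ 1) (h1z : f₁ ≠ z) (h21 : f₂ ≠ 1) (h2z : f₂ ≠ z)
    (h121 : f₁ * f₂ ≠ 1) (h12z : f₁ * f₂ ≠ z) (hff : f₁ * f₂ = f₂ * f₁)
    (hs₁ : f₁ * f₁ = 1) (hs₂ : f₂ * f₂ = 1) :
    ∃ g₁ g₂ : S, Hyp z Q f₁ g₁ f₂ g₂ ∧ g₁ * g₁ = 1 ∧ g₂ * g₂ = 1 := by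
  obtain ⟨a, ha, ha1, ha2⟩ := X.exists_dual h₁ h₂ h11 h1z h21 h2z h121 h12z
  obtain ⟨b, hb, hb1, hb2⟩ := X.exists_dual h₂ h₁ h21 h2z h11 h1z (by rwa [← hff]) (by rwa [← hff])
  -- adjust the squares
  obtain ⟨a', ha', ha1', ha2', has⟩ : ∃ a' ∈ Q, ¬ (a' * f₁ = f₁ * a') ∧ a' * f₂ = f₂ * a' ∧
      a' * a' = 1 := by
    by_cases h : a * a = 1
    · exact ⟨a, ha, ha1, ha2, h⟩
    · refine ⟨a * f₁, Q.mul_mem ha h₁, ?_, ?_, ?_⟩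
      · rw [X.comm_mul ha h₁ h₁]; simp [ha1]
      · rw [X.comm_mul ha h₁ h₂]; simp [ha2, hff]
      · rw [X.sq_mul ha h₁]; simp [h, hs₁, ha1]
  obtain ⟨b', hb', hb1', hb2', hbs⟩ : ∃ b' ∈ Q, ¬ (b' * f₂ = f₂ * b') ∧ b' * f₁ = f₁ * b' ∧
      b' * b' = 1 := by
    by_cases h : b * b = 1
    · exact ⟨b, hb, hb1, hb2, h⟩
    · refine ⟨b * f₂, Q.mul_mem hb h₂, ?_, ?_, ?_⟩
      · rw [X.comm_mul hb h₂ h₂]; simp [hb1]
      · rw [X.comm_mul hb h₂ h₁]; simp [hb2, hff]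
      · rw [X.sq_mul hb h₂]; simp [h, hs₂, hb1]
  obtain ⟨c, hc, hc1, hc2, hcs, hcb⟩ : ∃ c ∈ Q, ¬ (c * f₁ = f₁ * c) ∧ c * f₂ = f₂ * c ∧
      c * c = 1 ∧ c * b' = b' * c := by
    by_cases h : a' * b' = b' * a'
    · exact ⟨a', ha', ha1', ha2', has, h⟩
    · refine ⟨a' * f₂, Q.mul_mem ha' h₂, ?_, ?_, ?_, ?_⟩
      · rw [X.comm_mul ha' h₂ h₁]; simp [ha1', hff]
      · rw [X.comm_mul ha' h₂ h₂]; simp [ha2']
      · rw [X.sq_mul ha' h₂]; simp [has, hs₂, ha2']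
      · rw [X.comm_mul ha' h₂ hb']
        have : ¬ (f₂ * b' = b' * f₂) := fun h => hb1' h.symm
        simp [h, this]
  exact ⟨c, b', ⟨h₁, hc, h₂, hb', fun h => hc1 h.symm, fun h => hb1' h.symm, hff, hcb, hb2'.symm,
    hc2⟩, hcs, hbs⟩

/-- index at least two when an element is lost -/
theorem two_mul_card_le [Finite S] {H K : Subgroup S} (hKH : K ≤ H) {x : S} (hx : x ∈ H)
    (hxK : x ∉ K) : 2 * Nat.card K ≤ Nat.card H := by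
  obtain ⟨c, hc⟩ := card_dvd_of_le hKH
  have h1 : Nat.card K ≠ Nat.card H := by
    intro h
    have := eq_of_le_of_card_ge hKH h.ge
    exact hxK (this ▸ hx)
  have h2 : 0 < Nat.card H := Nat.card_pos
  rcases c with _ | _ | c
  · omega
  · omega
  · rw [hc]
    nlinarith [Nat.card_pos (α := K)]

theorem mem_inf_cent {T : Subgroup S} {x f : S} : x ∈ T ⊓ centralizer {f} ↔ x ∈ T ∧ x * f = f * x := by
  rw [mem_inf, mem_centralizer_singleton_iff]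

theorem XS.eq_of_comm [Finite S] (X : XS z Q) {f₁ g₁ f₂ g₂ : S} (H : Hyp z Q f₁ g₁ f₂ g₂)
    {q : S} (hq : q ∈ Q) (h1 : q * f₁ = f₁ * q) (h2 : q * g₁ = g₁ * q) (h3 : q * f₂ = f₂ * q)
    (h4 : q * g₂ = g₂ * q) : q = 1 ∨ q = z := by
  set T1 : Subgroup S := Q ⊓ centralizer {f₁} with hT1
  set T2 : Subgroup S := T1 ⊓ centralizer {g₁} with hT2
  set T3 : Subgroup S := T2 ⊓ centralizer {f₂} with hT3
  set T4 : Subgroup S := T3 ⊓ centralizer {g₂} with hT4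
  have m1 : ∀ x, x ∈ T1 ↔ x ∈ Q ∧ x * f₁ = f₁ * x := fun x => mem_inf_cent
  have m2 : ∀ x, x ∈ T2 ↔ x ∈ T1 ∧ x * g₁ = g₁ * x := fun x => mem_inf_cent
  have m3 : ∀ x, x ∈ T3 ↔ x ∈ T2 ∧ x * f₂ = f₂ * x := fun x => mem_inf_cent
  have m4 : ∀ x, x ∈ T4 ↔ x ∈ T3 ∧ x * g₂ = g₂ * x := fun x => mem_inf_cent
  have k1 := two_mul_card_le (H := Q) (K := T1) inf_le_left H.g₁Q
    (by rw [m1]; exact fun h => H.fg₁ h.2.symm)
  have k2 := two_mul_card_le (H := T1) (K := T2) inf_le_left (x := f₁) (by rw [m1]; exact ⟨H.f₁Q, rfl⟩)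
    (by rw [m2]; exact fun h => H.fg₁ h.2)
  have k3 := two_mul_card_le (H := T2) (K := T3) inf_le_left (x := g₂)
    (by rw [m2, m1]; exact ⟨⟨H.g₂Q, H.c1.symm⟩, H.gg.symm⟩)
    (by rw [m3]; exact fun h => H.fg₂ h.2.symm)
  have k4 := two_mul_card_le (H := T3) (K := T4) inf_le_left (x := f₂)
    (by rw [m3, m2, m1]; exact ⟨⟨⟨H.f₂Q, H.ff.symm⟩, H.c2.symm⟩, rfl⟩)
    (by rw [m4]; exact fun h => H.fg₂ h.2)
  have hc := X.hcard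
  have k5 : Nat.card T4 ≤ 2 := by omega
  have hz4 : z ∈ T4 := by
    rw [m4, m3, m2, m1]
    exact ⟨⟨⟨⟨X.hzQ, (X.hR _ H.f₁Q _ X.hzQ).1.symm⟩, (X.hR _ H.g₁Q _ X.hzQ).1.symm⟩,
      (X.hR _ H.f₂Q _ X.hzQ).1.symm⟩, (X.hR _ H.g₂Q _ X.hzQ).1.symm⟩
  have hq4 : q ∈ T4 := by
    rw [m4, m3, m2, m1]
    exact ⟨⟨⟨⟨hq, h1⟩, h2⟩, h3⟩, h4⟩
  by_contra hcon
  push Not at hcon
  have k6 : 2 < Nat.card T4 := by
    have : Fintype T4 := Fintype.ofFinite _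
    rw [Nat.card_eq_fintype_card, Fintype.two_lt_card_iff]
    exact ⟨1, ⟨z, hz4⟩, ⟨q, hq4⟩, fun h => X.hz1 (congrArg Subtype.val h).symm,
      fun h => hcon.1 (congrArg Subtype.val h).symm, fun h => hcon.2 (congrArg Subtype.val h).symm⟩
  omega

/-- what commutes with `z` and a hyperbolic basis commutes with `Q` -/
theorem XS.le_of_hyp [Finite S] (X : XS z Q) {f₁ g₁ f₂ g₂ : S} (H : Hyp z Q f₁ g₁ f₂ g₂)
    {M : Subgroup S} (hz : z ∈ M) (hf₁ : f₁ ∈ M) (hg₁ : g₁ ∈ M) (hf₂ : f₂ ∈ M) (hg₂ : g₂ ∈ M) :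
    Q ≤ M := by
  intro q hq
  obtain ⟨q1, hq1, m1, c1⟩ : ∃ q1 ∈ Q, (q1 ∈ M ↔ q ∈ M) ∧ q1 * f₁ = f₁ * q1 := by
    by_cases h : q * f₁ = f₁ * q
    · exact ⟨q, hq, Iff.rfl, h⟩
    · refine ⟨q * g₁, Q.mul_mem hq H.g₁Q, M.mul_mem_cancel_right hg₁, ?_⟩
      rw [X.comm_mul hq H.g₁Q H.f₁Q]
      have := H.fg₁
      have : ¬ (g₁ * f₁ = f₁ * g₁) := fun h => H.fg₁ h.symm
      simp [h, this]
  obtain ⟨q2, hq2, m2, c2, c2'⟩ : ∃ q2 ∈ Q, (q2 ∈ M ↔ q ∈ M) ∧ q2 * f₁ = f₁ * q2 ∧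
      q2 * g₁ = g₁ * q2 := by
    by_cases h : q1 * g₁ = g₁ * q1
    · exact ⟨q1, hq1, m1, c1, h⟩
    · refine ⟨q1 * f₁, Q.mul_mem hq1 H.f₁Q, (M.mul_mem_cancel_right hf₁).trans m1, ?_, ?_⟩
      · rw [X.comm_mul hq1 H.f₁Q H.f₁Q]; simp [c1]
      · rw [X.comm_mul hq1 H.f₁Q H.g₁Q]; simp [h, H.fg₁]
  obtain ⟨q3, hq3, m3, c3, c3', c3''⟩ : ∃ q3 ∈ Q, (q3 ∈ M ↔ q ∈ M) ∧ q3 * f₁ = f₁ * q3 ∧
      q3 * g₁ = g₁ * q3 ∧ q3 * f₂ = f₂ * q3 := by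
    by_cases h : q2 * f₂ = f₂ * q2
    · exact ⟨q2, hq2, m2, c2, c2', h⟩
    · refine ⟨q2 * g₂, Q.mul_mem hq2 H.g₂Q, (M.mul_mem_cancel_right hg₂).trans m2, ?_, ?_, ?_⟩
      · rw [X.comm_mul hq2 H.g₂Q H.f₁Q]; simp [c2, H.c1.symm]
      · rw [X.comm_mul hq2 H.g₂Q H.g₁Q]; simp [c2', H.gg.symm]
      · rw [X.comm_mul hq2 H.g₂Q H.f₂Q]
        have : ¬ (g₂ * f₂ = f₂ * g₂) := fun h => H.fg₂ h.symm
        simp [h, this]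
  obtain ⟨q4, hq4, m4, c4, c4', c4'', c4'''⟩ : ∃ q4 ∈ Q, (q4 ∈ M ↔ q ∈ M) ∧ q4 * f₁ = f₁ * q4 ∧
      q4 * g₁ = g₁ * q4 ∧ q4 * f₂ = f₂ * q4 ∧ q4 * g₂ = g₂ * q4 := by
    by_cases h : q3 * g₂ = g₂ * q3
    · exact ⟨q3, hq3, m3, c3, c3', c3'', h⟩
    · refine ⟨q3 * f₂, Q.mul_mem hq3 H.f₂Q, (M.mul_mem_cancel_right hf₂).trans m3, ?_, ?_, ?_, ?_⟩
      · rw [X.comm_mul hq3 H.f₂Q H.f₁Q]; simp [c3, H.ff.symm]
      · rw [X.comm_mul hq3 H.f₂Q H.g₁Q]; simp [c3', H.c2.symm]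
      · rw [X.comm_mul hq3 H.f₂Q H.f₂Q]; simp [c3'']
      · rw [X.comm_mul hq3 H.f₂Q H.g₂Q]; simp [h, H.fg₂]
  rcases X.eq_of_comm H hq4 c4 c4' c4'' c4''' with h | h
  · rw [← m4, h]; exact M.one_mem
  · rw [← m4, h]; exact hz

/-- duality: an element commuting up to `z` with a hyperbolic basis lies in `Q` -/
theorem XS.mem_of_R [Finite S] (X : XS z Q) {f₁ g₁ f₂ g₂ : S} (H : Hyp z Q f₁ g₁ f₂ g₂)
    {s : S} (h1 : R z s f₁) (h2 : R z s g₁) (h3 : R z s f₂) (h4 : R z s g₂) : s ∈ Q := by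
  have key : ∀ {u v w : S}, u ∈ Q → v ∈ Q → ¬ (v * w = w * v) → R z u w → R z v w →
      ¬ (u * w = w * u) → (u * v) * w = w * (u * v) := by
    intro u v w hu hv hvw r1 r2 h
    rw [SelfCentQQ.comm_mul X.hzz X.hz1 r1 r2]
    tauto
  have cm : ∀ {u v w : S}, R z u w → v ∈ Q → w ∈ Q →
      ((u * v) * w = w * (u * v) ↔ (u * w = w * u ↔ v * w = w * v)) :=
    fun r hv hw => SelfCentQQ.comm_mul X.hzz X.hz1 r (X.hR _ hv _ hw)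
  have Rm : ∀ {u v w : S}, R z u w → v ∈ Q → w ∈ Q → R z (u * v) w :=
    fun r hv hw => R_mul X.hzz r (X.hR _ hv _ hw)
  have fg₁' : ¬ (g₁ * f₁ = f₁ * g₁) := fun h => H.fg₁ h.symm
  have fg₂' : ¬ (g₂ * f₂ = f₂ * g₂) := fun h => H.fg₂ h.symm
  -- step 1
  obtain ⟨s1, hs1, r1, r2, r3, r4, c1⟩ : ∃ s1 : S, (s1 ∈ Q ↔ s ∈ Q) ∧ R z s1 f₁ ∧ R z s1 g₁ ∧
      R z s1 f₂ ∧ R z s1 g₂ ∧ s1 * f₁ = f₁ * s1 := by
    by_cases h : s * f₁ = f₁ * s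
    · exact ⟨s, Iff.rfl, h1, h2, h3, h4, h⟩
    · refine ⟨s * g₁, Q.mul_mem_cancel_right H.g₁Q, Rm h1 H.g₁Q H.f₁Q, Rm h2 H.g₁Q H.g₁Q,
        Rm h3 H.g₁Q H.f₂Q, Rm h4 H.g₁Q H.g₂Q, ?_⟩
      rw [cm h1 H.g₁Q H.f₁Q]; simp [h, fg₁']
  obtain ⟨s2, hs2, r1, r2, r3, r4, c1, c2⟩ : ∃ s2 : S, (s2 ∈ Q ↔ s ∈ Q) ∧ R z s2 f₁ ∧ R z s2 g₁ ∧
      R z s2 f₂ ∧ R z s2 g₂ ∧ s2 * f₁ = f₁ * s2 ∧ s2 * g₁ = g₁ * s2 := by
    by_cases h : s1 * g₁ = g₁ * s1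
    · exact ⟨s1, hs1, r1, r2, r3, r4, c1, h⟩
    · refine ⟨s1 * f₁, (Q.mul_mem_cancel_right H.f₁Q).trans hs1, Rm r1 H.f₁Q H.f₁Q,
        Rm r2 H.f₁Q H.g₁Q, Rm r3 H.f₁Q H.f₂Q, Rm r4 H.f₁Q H.g₂Q, ?_, ?_⟩
      · rw [cm r1 H.f₁Q H.f₁Q]; simp [c1]
      · rw [cm r2 H.f₁Q H.g₁Q]; simp [h, H.fg₁]
  obtain ⟨s3, hs3, r1, r2, r3, r4, c1, c2, c3⟩ : ∃ s3 : S, (s3 ∈ Q ↔ s ∈ Q) ∧ R z s3 f₁ ∧
      R z s3 g₁ ∧ R z s3 f₂ ∧ R z s3 g₂ ∧ s3 * f₁ = f₁ * s3 ∧ s3 * g₁ = g₁ * s3 ∧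
      s3 * f₂ = f₂ * s3 := by
    by_cases h : s2 * f₂ = f₂ * s2
    · exact ⟨s2, hs2, r1, r2, r3, r4, c1, c2, h⟩
    · refine ⟨s2 * g₂, (Q.mul_mem_cancel_right H.g₂Q).trans hs2, Rm r1 H.g₂Q H.f₁Q,
        Rm r2 H.g₂Q H.g₁Q, Rm r3 H.g₂Q H.f₂Q, Rm r4 H.g₂Q H.g₂Q, ?_, ?_, ?_⟩
      · rw [cm r1 H.g₂Q H.f₁Q]; simp [c1, H.c1.symm]
      · rw [cm r2 H.g₂Q H.g₁Q]; simp [c2, H.gg.symm]
      · rw [cm r3 H.g₂Q H.f₂Q]; simp [h, fg₂']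
  obtain ⟨s4, hs4, c1, c2, c3, c4, cz⟩ : ∃ s4 : S, (s4 ∈ Q ↔ s ∈ Q) ∧
      s4 * f₁ = f₁ * s4 ∧ s4 * g₁ = g₁ * s4 ∧
      s4 * f₂ = f₂ * s4 ∧ s4 * g₂ = g₂ * s4 ∧ s4 * z = z * s4 := by
    by_cases h : s3 * g₂ = g₂ * s3
    · exact ⟨s3, hs3, c1, c2, c3, h, r1.1⟩
    · refine ⟨s3 * f₂, (Q.mul_mem_cancel_right H.f₂Q).trans hs3, ?_, ?_, ?_, ?_,
        (Rm r1 H.f₂Q H.f₁Q).1⟩
      · rw [cm r1 H.f₂Q H.f₁Q]; simp [c1, H.ff.symm]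
      · rw [cm r2 H.f₂Q H.g₁Q]; simp [c2, H.c2.symm]
      · rw [cm r3 H.f₂Q H.f₂Q]; simp [c3]
      · rw [cm r4 H.f₂Q H.g₂Q]; simp [h, H.fg₂]
  have hM : Q ≤ centralizer {s4} := X.le_of_hyp H
    (mem_centralizer_singleton_iff.2 cz.symm) (mem_centralizer_singleton_iff.2 c1.symm)
    (mem_centralizer_singleton_iff.2 c2.symm) (mem_centralizer_singleton_iff.2 c3.symm)
    (mem_centralizer_singleton_iff.2 c4.symm)
  rcases X.hcent s4 (fun q hq => (mem_centralizer_singleton_iff.1 (hM hq)).symm) with h | h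
  · rw [← hs4, h]; exact Q.one_mem
  · rw [← hs4, h]; exact X.hzQ

end XSec

end Cfsg.Agent.TwoFusion.SelfCentQQ
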