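import Mathlib
import Cfsg.Agent.TwoFusion.SelfCentQQ
import Cfsg.Agent.OddOrderLocal.CommProd

/-!
# Self-centralizing `Q₈ * Q₈`, main construction

If `S` is a finite 2-group, `Q ≤ S` is extraspecial of order 32 with `C_S(Q) = Z(Q)` and `S` has a normal
elementary abelian subgroup of order `> 4`, then `Q` contains an elementary abelian subgroup `A` of order 8 with
`C_S(A) = A`.
-/

set_option autoImplicit false

namespace Cfsg.Agent.TwoFusion.SelfCentQQMain

open Subgroup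
open Cfsg.Agent.TwoFusion.SelfCentQQ

/-- elementary abelian 2-subgroup (bare form) -/
structure Elem {S : Type*} [Group S] (A : Subgroup S) : Prop where
  comm : ∀ a ∈ A, ∀ b ∈ A, a * b = b * a
  sq : ∀ a ∈ A, a * a = 1

section

variable {S : Type*} [Group S]

/-- adjoin an involution to an elementary abelian subgroup -/
theorem Elem.adjoin {A : Subgroup S} (hA : Elem A) {w : S} (hw : w * w = 1)
    (hwA : ∀ a ∈ A, a * w = w * a) (hwn : w ∉ A) :
    Elem (A ⊔ zpowers w) ∧ Nat.card ↥(A ⊔ zpowers w) = 2 * Nat.card A ∧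
      (∀ t, t ∈ A ⊔ zpowers w ↔ t ∈ A ∨ ∃ a ∈ A, t = a * w) := by
  have hz : ∀ b ∈ zpowers w, b = 1 ∨ b = w := by
    intro b hb
    obtain ⟨k, rfl⟩ := mem_zpowers_iff.1 hb
    rcases Int.even_or_odd' k with ⟨m, rfl | rfl⟩
    · left
      rw [zpow_mul, zpow_two, hw, one_zpow]
    · right
      rw [zpow_add, zpow_mul, zpow_two, hw, one_zpow, one_mul, zpow_one]
  have hcomm : ∀ a ∈ A, ∀ b ∈ zpowers w, a * b = b * a := by
    intro a ha b hb
    rcases hz b hb with rfl | rfl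
    · simp
    · exact hwA a ha
  have hmem : ∀ t, t ∈ A ⊔ zpowers w ↔ t ∈ A ∨ ∃ a ∈ A, t = a * w := by
    intro t
    rw [Cfsg.Agent.OddOrderLocal.CommProd.mem_sup_of_comm hcomm]
    constructor
    · rintro ⟨a, ha, b, hb, rfl⟩
      rcases hz b hb with rfl | rfl
      · left; simpa using ha
      · right; exact ⟨a, ha, rfl⟩
    · rintro (h | ⟨a, ha, rfl⟩)
      · exact ⟨t, h, 1, one_mem _, by simp⟩
      · exact ⟨a, ha, w, mem_zpowers w, rfl⟩
  have hinf : A ⊓ zpowers w = ⊥ := by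
    rw [eq_bot_iff]
    rintro b ⟨hb1, hb2⟩
    rcases hz b hb2 with rfl | rfl
    · exact one_mem _
    · exact absurd hb1 hwn
  have hw1 : w ≠ 1 := fun h => hwn (h ▸ A.one_mem)
  have hord : Nat.card (zpowers w) = 2 := by
    rw [Nat.card_zpowers, orderOf_eq_prime (by rw [pow_two, hw]) hw1]
  refine ⟨⟨?_, ?_⟩, ?_, hmem⟩
  · intro a ha b hb
    rcases (hmem a).1 ha with ha | ⟨a', ha', rfl⟩ <;> rcases (hmem b).1 hb with hb | ⟨b', hb', rfl⟩
    · exact hA.comm a ha b hb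
    · rw [← mul_assoc, hA.comm a ha b' hb', mul_assoc, hwA a ha, mul_assoc]
    · rw [mul_assoc, ← hwA b hb, ← mul_assoc, hA.comm a' ha' b hb, mul_assoc]
    · have key : ∀ u v : S, v ∈ A → u * w * (v * w) = (u * v) * (w * w) := by
        intro u v hv
        calc u * w * (v * w) = u * (w * v) * w := by group
          _ = (u * v) * (w * w) := by rw [← hwA v hv]; group
      rw [key a' b' hb', key b' a' ha', hA.comm a' ha' b' hb']
  · intro a ha
    rcases (hmem a).1 ha with ha | ⟨a', ha', rfl⟩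
    · exact hA.sq a ha
    · calc a' * w * (a' * w) = a' * (w * a') * w := by group
        _ = (a' * a') * (w * w) := by rw [← hwA a' ha']; group
        _ = 1 := by rw [hA.sq a' ha', hw, one_mul]
  · rw [Cfsg.Agent.OddOrderLocal.CommProd.card_sup_of_comm hcomm hinf, hord, mul_comm]

/-- an elementary abelian group of order 8 from three independent commuting involutions -/
theorem exists_elem_eight {x y w : S} (hx : x * x = 1) (hy : y * y = 1) (hw : w * w = 1)
    (hxy : x * y = y * x) (hxw : x * w = w * x) (hyw : y * w = w * y)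
    (h1 : x ≠ 1) (h2 : y ≠ 1) (h3 : w ≠ 1) (h4 : y ≠ x) (h5 : w ≠ x) (h6 : w ≠ y)
    (h7 : w ≠ x * y) :
    ∃ A : Subgroup S, Nat.card A = 8 ∧ Elem A ∧ x ∈ A ∧ y ∈ A ∧ w ∈ A ∧
      ∀ t : S, (t * x = x * t) → (t * y = y * t) → (t * w = w * t) → ∀ a ∈ A, t * a = a * t := by
  have h0 : Elem (⊥ : Subgroup S) := ⟨by
    intro a ha b hb
    rw [mem_bot] at ha hb
    rw [ha, hb], by
    intro a ha
    rw [mem_bot] at ha
    rw [ha, one_mul]⟩
  obtain ⟨e1, c1, m1⟩ := h0.adjoin hx (by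
    intro a ha
    rw [mem_bot] at ha
    rw [ha, one_mul, mul_one]) (by rwa [mem_bot])
  have m1' : ∀ t, t ∈ (⊥ ⊔ zpowers x : Subgroup S) ↔ t = 1 ∨ t = x := by
    intro t
    rw [m1, mem_bot]
    constructor
    · rintro (h | ⟨a, ha, rfl⟩)
      · exact Or.inl h
      · rw [mem_bot] at ha
        right; rw [ha, one_mul]
    · rintro (h | h)
      · exact Or.inl h
      · exact Or.inr ⟨1, one_mem _, by rw [h, one_mul]⟩
  obtain ⟨e2, c2, m2⟩ := e1.adjoin hy (by
    intro a ha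
    rcases (m1' a).1 ha with rfl | rfl
    · rw [one_mul, mul_one]
    · exact hxy) (by
    intro h
    rcases (m1' y).1 h with h | h
    · exact h2 h
    · exact h4 h)
  have m2' : ∀ t, t ∈ (⊥ ⊔ zpowers x ⊔ zpowers y : Subgroup S) ↔ t = 1 ∨ t = x ∨ t = y ∨ t = x * y := by
    intro t
    rw [m2, m1']
    constructor
    · rintro ((h | h) | ⟨a, ha, rfl⟩)
      · exact Or.inl h
      · exact Or.inr (Or.inl h)
      · rcases (m1' a).1 ha with rfl | rfl
        · right; right; left; rw [one_mul]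
        · right; right; right; rfl
    · rintro (h | h | h | h)
      · exact Or.inl (Or.inl h)
      · exact Or.inl (Or.inr h)
      · exact Or.inr ⟨1, one_mem _, by rw [h, one_mul]⟩
      · exact Or.inr ⟨x, (m1' x).2 (Or.inr rfl), h⟩
  obtain ⟨e3, c3, m3⟩ := e2.adjoin hw (by
    intro a ha
    rcases (m2' a).1 ha with rfl | rfl | rfl | rfl
    · rw [one_mul, mul_one]
    · exact hxw
    · exact hyw
    · rw [mul_assoc, hyw, ← mul_assoc, hxw, mul_assoc]) (by
    intro h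
    rcases (m2' w).1 h with h | h | h | h
    · exact h3 h
    · exact h5 h
    · exact h6 h
    · exact h7 h)
  refine ⟨_, ?_, e3, ?_, ?_, ?_, ?_⟩
  · rw [c3, c2, c1, card_bot]
  · exact (m3 x).2 (Or.inl ((m2' x).2 (Or.inr (Or.inl rfl))))
  · exact (m3 y).2 (Or.inl ((m2' y).2 (Or.inr (Or.inr (Or.inl rfl)))))
  · exact (m3 w).2 (Or.inr ⟨1, one_mem _, by rw [one_mul]⟩)
  · intro t t1 t2 t3 a ha
    have key : ∀ b, b ∈ (⊥ ⊔ zpowers x ⊔ zpowers y : Subgroup S) → t * b = b * t := by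
      intro b hb
      rcases (m2' b).1 hb with rfl | rfl | rfl | rfl
      · rw [one_mul, mul_one]
      · exact t1
      · exact t2
      · rw [← mul_assoc, t1, mul_assoc, t2, mul_assoc]
    rcases (m3 a).1 ha with h | ⟨b, hb, rfl⟩
    · exact key a h
    · rw [← mul_assoc, key b hb, mul_assoc, t3, mul_assoc]

/-- more than two / four elements -/
theorem exists_not_mem_pair [Finite S] {F : Subgroup S} (h : 2 < Nat.card F) (a b : S) :
    ∃ f ∈ F, f ≠ a ∧ f ≠ b := by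
  classical
  by_contra hcon
  push Not at hcon
  have h1 : (F : Set S) ⊆ (({a, b} : Finset S) : Set S) := by
    intro f hf
    simp only [Finset.coe_insert, Finset.coe_singleton, Set.mem_insert_iff, Set.mem_singleton_iff]
    by_cases h : f = a
    · exact Or.inl h
    · exact Or.inr (hcon f hf h)
  have h2 := Set.ncard_le_ncard h1 (Finset.finite_toSet _)
  rw [Set.ncard_coe_finset] at h2
  have h3 : Nat.card F = (F : Set S).ncard := rfl
  have h4 := Finset.card_le_two (a := a) (b := b)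
  omega

theorem exists_not_mem_four [Finite S] {F : Subgroup S} (h : 4 < Nat.card F) (a b c d : S) :
    ∃ f ∈ F, f ≠ a ∧ f ≠ b ∧ f ≠ c ∧ f ≠ d := by
  classical
  by_contra hcon
  push Not at hcon
  have h1 : (F : Set S) ⊆ (({a, b, c, d} : Finset S) : Set S) := by
    intro f hf
    simp only [Finset.coe_insert, Finset.coe_singleton, Set.mem_insert_iff, Set.mem_singleton_iff]
    by_cases h : f = a
    · exact Or.inl h
    by_cases h' : f = b
    · exact Or.inr (Or.inl h')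
    by_cases h'' : f = c
    · exact Or.inr (Or.inr (Or.inl h''))
    · exact Or.inr (Or.inr (Or.inr (hcon f hf h h' h'')))
  have h2 := Set.ncard_le_ncard h1 (Finset.finite_toSet _)
  rw [Set.ncard_coe_finset] at h2
  have h3 : Nat.card F = (F : Set S).ncard := rfl
  have h4 := Finset.card_le_four (a := a) (b := b) (c := c) (d := d)
  omega

variable {z : S} {Q : Subgroup S}

/-- normal elementary abelian subgroup meets `Q` in more than 4 elements -/
theorem four_lt_card_inf [Finite S] (hS : IsPGroup 2 S) (X : XS z Q)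
    {i₁ j₁ i₂ j₂ : S} (H : Hyp z Q i₁ j₁ i₂ j₂)
    {E : Subgroup S} (hE : Elem E) (hEn : ∀ g : S, ∀ e ∈ E, g * e * g⁻¹ ∈ E)
    (hE4 : 4 < Nat.card E) : z ∈ E ∧ 4 < Nat.card ↥(E ⊓ Q) := by
  have hzE : z ∈ E := by
    obtain ⟨x, hxE, hx1, hxc, -⟩ := HaradaSetup.exists_fixed hS Q E ⊥ bot_le (by
        intro h
        have := card_le_of_le h
        rw [card_bot] at this
        omega) (fun a _ => hEn a) (by
        intro a _ n hn
        rw [mem_bot] at hn ⊢
        rw [hn]; group) (by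
        intro a _ n hn
        rw [mem_bot] at hn ⊢
        rw [hn]; group)
    have h1 : ∀ q ∈ Q, x * q = q * x := by
      intro q hq
      have := hxc q hq
      rw [mem_bot] at this
      have h2 : q * x * q⁻¹ = x := mul_inv_eq_one.1 this
      rw [mul_inv_eq_iff_eq_mul] at h2
      exact h2.symm
    rcases X.hcent x h1 with h | h
    · exact absurd (mem_bot.2 h) hx1
    · exact h ▸ hxE
  refine ⟨hzE, ?_⟩
  by_contra hle
  push Not at hle
  -- fixed point of `Q` on `E / (E ∩ Q)`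
  obtain ⟨e, heE, heF, hec, -⟩ := HaradaSetup.exists_fixed hS Q E (E ⊓ Q) inf_le_left (by
      intro h
      have := card_le_of_le h
      omega) (fun a _ => hEn a)
      (fun a ha n hn => ⟨hEn a n hn.1, Q.mul_mem (Q.mul_mem ha hn.2) (Q.inv_mem ha)⟩)
      (by
        intro c hc n hn
        have : c * n * c⁻¹ = n := by rw [hE.comm c hc n hn.1]; group
        rw [this]; exact hn)
  have heQ : e ∉ Q := fun h => heF ⟨heE, h⟩
  have hez : e * z = z * e := hE.comm e heE z hzE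
  apply heQ
  -- the commutators `c q = q e q⁻¹ e⁻¹`
  have hcQ : ∀ q ∈ Q, q * e * q⁻¹ * e⁻¹ ∈ Q := fun q hq => (hec q hq).2
  have hcE : ∀ q ∈ Q, q * e * q⁻¹ * e⁻¹ ∈ E := fun q hq => (hec q hq).1
  have hee : e⁻¹ = e := inv_eq_of_mul_eq_one_left (hE.sq e heE)
  have hqc : ∀ q ∈ Q, q * (q * e * q⁻¹ * e⁻¹) = (q * e * q⁻¹ * e⁻¹) * q := by
    intro q hq
    have hq2 : q * q * e = e * (q * q) := by
      rcases X.hs q hq with h | h <;> rw [h]
      · rw [one_mul, mul_one]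
      · exact hez.symm
    have hu : q * (q * e * q⁻¹) * q⁻¹ = e := by
      calc q * (q * e * q⁻¹) * q⁻¹ = (q * q * e) * (q * q)⁻¹ := by group
        _ = e := by rw [hq2]; group
    have hcomm : (q * e * q⁻¹) * e = e * (q * e * q⁻¹) := hE.comm _ (hEn q e heE) _ heE
    rw [hee]
    calc q * (q * e * q⁻¹ * e) = (q * (q * e * q⁻¹) * q⁻¹) * (q * e * q⁻¹) * q := by group
      _ = (q * e * q⁻¹ * e) * q := by rw [hu, hcomm]
  have hc1z : ∀ q ∈ Q, q * e * q⁻¹ * e⁻¹ = 1 ∨ q * e * q⁻¹ * e⁻¹ = z := by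
    by_contra hcon
    push Not at hcon
    obtain ⟨q, hq, hx1, hxz⟩ := hcon
    set x := q * e * q⁻¹ * e⁻¹ with hx
    have hxE : x ∈ E := hcE q hq
    have hxQ : x ∈ Q := hcQ q hq
    have hxx : x * x = 1 := hE.sq x hxE
    have hzx : z * x = x * z := hE.comm z hzE x hxE
    -- `E ⊓ Q = {1, z, x, z x}`
    have h0 : Elem (⊥ : Subgroup S) := ⟨by
      intro a ha b hb
      rw [mem_bot] at ha hb
      rw [ha, hb], by
      intro a ha
      rw [mem_bot] at ha
      rw [ha, one_mul]⟩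
    obtain ⟨e1, c1, m1⟩ := h0.adjoin X.hzz (by
      intro a ha
      rw [mem_bot] at ha
      rw [ha, one_mul, mul_one]) (by rw [mem_bot]; exact X.hz1)
    have m1' : ∀ t, t ∈ (⊥ ⊔ zpowers z : Subgroup S) ↔ t = 1 ∨ t = z := by
      intro t
      rw [m1, mem_bot]
      constructor
      · rintro (h | ⟨a, ha, rfl⟩)
        · exact Or.inl h
        · rw [mem_bot] at ha
          right; rw [ha, one_mul]
      · rintro (h | h)
        · exact Or.inl h
        · exact Or.inr ⟨1, one_mem _, by rw [h, one_mul]⟩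
    obtain ⟨e2, c2, m2⟩ := e1.adjoin hxx (by
      intro a ha
      rcases (m1' a).1 ha with rfl | rfl
      · rw [one_mul, mul_one]
      · exact hzx) (by
      intro h
      rcases (m1' x).1 h with h | h
      · exact hx1 h
      · exact hxz h)
    have hle2 : (⊥ ⊔ zpowers z ⊔ zpowers x : Subgroup S) ≤ E ⊓ Q := by
      refine sup_le (sup_le bot_le ?_) ?_
      · rw [zpowers_le]; exact ⟨hzE, X.hzQ⟩
      · rw [zpowers_le]; exact ⟨hxE, hxQ⟩
    have heq : (⊥ ⊔ zpowers z ⊔ zpowers x : Subgroup S) = E ⊓ Q := by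
      apply eq_of_le_of_card_ge hle2
      rw [c2, c1, card_bot]
      exact hle
    have hF : ∀ f ∈ E ⊓ Q, f = 1 ∨ f = z ∨ f = x ∨ f = z * x := by
      intro f hf
      rw [← heq] at hf
      rcases (m2 f).1 hf with h | ⟨a, ha, rfl⟩
      · rcases (m1' f).1 h with h | h
        · exact Or.inl h
        · exact Or.inr (Or.inl h)
      · rcases (m1' a).1 ha with rfl | rfl
        · right; right; left; rw [one_mul]
        · right; right; right; rfl
    have hp : ∀ p ∈ Q, ¬ (p * x = x * p) → p * e * p⁻¹ * e⁻¹ = 1 ∨ p * e * p⁻¹ * e⁻¹ = z := by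
      intro p hp hpx
      rcases hF _ (hec p hp) with h | h | h | h
      · exact Or.inl h
      · exact Or.inr h
      · exfalso
        apply hpx
        have := hqc p hp
        rwa [h] at this
      · exfalso
        apply hpx
        have h1 := hqc p hp
        rw [h] at h1
        have h2 : p * z = z * p := (X.hR p hp p hp).1
        have h3 : z * (p * x) = z * (x * p) := by
          rw [← mul_assoc, ← h2, mul_assoc, h1, mul_assoc]
        exact mul_left_cancel h3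
    obtain ⟨q', hq', hq'x⟩ := X.exists_not_comm hx1 hxz
    have hqx : q * x = x * q := hqc q hq
    have hqq'x : ¬ ((q * q') * x = x * (q * q')) := by
      rw [X.comm_mul hq hq' hxQ]
      tauto
    have r1 := hp q' hq' hq'x
    have r2 := hp _ (Q.mul_mem hq hq') hqq'x
    have h2 : q * z = z * q := (X.hR q hq q hq).1
    have h3 : (q * q') * e * (q * q')⁻¹ * e⁻¹ = (q * (q' * e * q'⁻¹ * e⁻¹) * q⁻¹) * x := by
      rw [hx]; group
    have h4 : q * (q' * e * q'⁻¹ * e⁻¹) * q⁻¹ = q' * e * q'⁻¹ * e⁻¹ := by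
      rcases r1 with r | r <;> rw [r]
      · group
      · rw [h2]; group
    rw [h3, h4] at r2
    rcases r1 with r | r <;> rw [r] at r2 <;> rcases r2 with r' | r'
    · rw [one_mul] at r'; exact hx1 r'
    · rw [one_mul] at r'; exact hxz r'
    · apply hxz
      have : z * x = z * z := by rw [r', X.hzz]
      exact mul_left_cancel this
    · apply hx1
      exact mul_eq_left.mp r'
  have hRe : ∀ q ∈ Q, R z e q := by
    intro q hq
    refine ⟨hez, (X.hR q hq q hq).1, ?_⟩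
    rcases hc1z q hq with h | h
    · left
      have h2 : q * e * q⁻¹ = e := mul_inv_eq_one.1 h
      rw [mul_inv_eq_iff_eq_mul] at h2
      exact h2.symm
    · right
      rw [mul_inv_eq_iff_eq_mul, mul_inv_eq_iff_eq_mul] at h
      rw [h, mul_assoc, ← mul_assoc z z, X.hzz, one_mul]
  exact X.mem_of_R H (hRe _ H.f₁Q) (hRe _ H.g₁Q) (hRe _ H.f₂Q) (hRe _ H.g₂Q)

/-- the self-centralizing elementary abelian subgroup of order 8 -/
theorem exists_selfcent [Finite S] (hS : IsPGroup 2 S) (X : XS z Q)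
    {i₁ j₁ i₂ j₂ : S} (H : Hyp z Q i₁ j₁ i₂ j₂)
    {E : Subgroup S} (hE : Elem E) (hEn : ∀ g : S, ∀ e ∈ E, g * e * g⁻¹ ∈ E)
    (hE4 : 4 < Nat.card E) :
    ∃ A : Subgroup S, Nat.card A = 8 ∧ Elem A ∧ ∀ s : S, (∀ a ∈ A, s * a = a * s) → s ∈ A := by
  obtain ⟨hzE, hF4⟩ := four_lt_card_inf hS X H hE hEn hE4
  obtain ⟨f₁, hf₁, h11, h1z⟩ := exists_not_mem_pair (F := E ⊓ Q) (by omega) 1 z
  obtain ⟨f₂, hf₂, h21, h2z, h2f, h2zf⟩ := exists_not_mem_four hF4 1 z f₁ (z * f₁)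
  have hs₁ : f₁ * f₁ = 1 := hE.sq f₁ hf₁.1
  have hs₂ : f₂ * f₂ = 1 := hE.sq f₂ hf₂.1
  have hff : f₁ * f₂ = f₂ * f₁ := hE.comm f₁ hf₁.1 f₂ hf₂.1
  have h121 : f₁ * f₂ ≠ 1 := by
    intro h
    apply h2f
    have : f₁ * f₂ = f₁ * f₁ := by rw [h, hs₁]
    exact mul_left_cancel this
  have h12z : f₁ * f₂ ≠ z := by
    intro h
    apply h2zf
    rw [← h, mul_assoc, ← hff, ← mul_assoc, hs₁, one_mul]
  obtain ⟨g₁, g₂, HH, hg₁, hg₂⟩ := X.exists_hyp hf₁.2 hf₂.2 h11 h1z h21 h2z h121 h12z hff hs₁ hs₂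
  have fg₁' : ¬ (g₁ * f₁ = f₁ * g₁) := fun h => HH.fg₁ h.symm
  have fg₂' : ¬ (g₂ * f₂ = f₂ * g₂) := fun h => HH.fg₂ h.symm
  have hzf₁ : z * f₁ = f₁ * z := (X.hR f₁ HH.f₁Q f₁ HH.f₁Q).1.symm
  have hzf₂ : z * f₂ = f₂ * z := (X.hR f₂ HH.f₂Q f₂ HH.f₂Q).1.symm
  have hzg₁ : z * g₁ = g₁ * z := (X.hR g₁ HH.g₁Q g₁ HH.g₁Q).1.symm
  have hzg₂ : z * g₂ = g₂ * z := (X.hR g₂ HH.g₂Q g₂ HH.g₂Q).1.symm
  obtain ⟨A, hA8, hAe, hzA, hg₁A, hg₂A, hAc⟩ := exists_elem_eight X.hzz hg₁ hg₂ hzg₁ hzg₂ HH.gg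
    X.hz1 (by rintro rfl; apply fg₁'; rw [one_mul, mul_one])
    (by rintro rfl; apply fg₂'; rw [one_mul, mul_one])
    (by rintro rfl; exact fg₁' hzf₁)
    (by rintro rfl; exact fg₂' hzf₂)
    (by rintro rfl; exact fg₂' HH.c2)
    (by
      rintro h
      apply fg₂'
      rw [h, mul_assoc, HH.c2, ← mul_assoc, hzf₂, mul_assoc])
  refine ⟨A, hA8, hAe, ?_⟩
  intro s hs
  have sz : s * z = z * s := hs z hzA
  have sg₁ : s * g₁ = g₁ * s := hs g₁ hg₁A
  have sg₂ : s * g₂ = g₂ * s := hs g₂ hg₂A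
  have hsf : ∀ f ∈ E ⊓ Q, R z s f := by
    intro f hf
    have hfz : f * z = z * f := (X.hR f hf.2 f hf.2).1
    set c := s * f * s⁻¹ * f⁻¹ with hc
    have hcE : c ∈ E := E.mul_mem (hEn s f hf.1) (E.inv_mem hf.1)
    have hcz : c * z = z * c := hE.comm c hcE z hzE
    have hcg : ∀ g ∈ Q, s * g = g * s → g * c = c * g := by
      intro g hg hsg
      have hsg' : g * s * g⁻¹ = s := by rw [← hsg]; group
      have h1 : g * c * g⁻¹ = (g * s * g⁻¹) * (g * f * g⁻¹) * (g * s * g⁻¹)⁻¹ * (g * f * g⁻¹)⁻¹ := by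
        rw [hc]; group
      rw [hsg'] at h1
      have h2 : g * c * g⁻¹ = c := by
        rcases (X.hR g hg f hf.2).2.2 with h | h
        · rw [h1, h, hc]; group
        · have h3 : g * f * g⁻¹ = z * f := by rw [h]; group
          rw [h1, h3]
          calc s * (z * f) * s⁻¹ * (z * f)⁻¹ = (s * z) * f * s⁻¹ * f⁻¹ * z⁻¹ := by group
            _ = z * c * z⁻¹ := by rw [sz, hc]; group
            _ = c := by rw [← hcz]; group
      rw [mul_inv_eq_iff_eq_mul] at h2
      exact h2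
    have hM : Q ≤ centralizer {c} := X.le_of_hyp HH
      (mem_centralizer_singleton_iff.2 hcz.symm)
      (mem_centralizer_singleton_iff.2 (hE.comm f₁ hf₁.1 c hcE))
      (mem_centralizer_singleton_iff.2 (hcg g₁ HH.g₁Q sg₁))
      (mem_centralizer_singleton_iff.2 (hE.comm f₂ hf₂.1 c hcE))
      (mem_centralizer_singleton_iff.2 (hcg g₂ HH.g₂Q sg₂))
    have h5 := X.hcent c (fun q hq => (mem_centralizer_singleton_iff.1 (hM hq)).symm)
    refine ⟨sz, hfz, ?_⟩
    rcases h5 with h | h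
    · left
      rw [hc, mul_inv_eq_one, mul_inv_eq_iff_eq_mul] at h
      exact h
    · right
      rw [hc, mul_inv_eq_iff_eq_mul, mul_inv_eq_iff_eq_mul] at h
      rw [h, mul_assoc]
  have r1 := hsf f₁ hf₁
  have r2 := hsf f₂ hf₂
  obtain ⟨s1, hs1A, s1z, s1g₁, s1g₂, s1f₁, r3⟩ : ∃ s1 : S, (s1 ∈ A ↔ s ∈ A) ∧ s1 * z = z * s1 ∧
      s1 * g₁ = g₁ * s1 ∧ s1 * g₂ = g₂ * s1 ∧ s1 * f₁ = f₁ * s1 ∧ R z s1 f₂ := by
    by_cases h : s * f₁ = f₁ * s
    · exact ⟨s, Iff.rfl, sz, sg₁, sg₂, h, r2⟩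
    · refine ⟨s * g₁, A.mul_mem_cancel_right hg₁A, ?_, ?_, ?_, ?_,
        R_mul X.hzz r2 (X.hR _ HH.g₁Q _ HH.f₂Q)⟩
      · rw [mul_assoc, ← hzg₁, ← mul_assoc, sz, mul_assoc]
      · rw [sg₁, mul_assoc, sg₁]
      · rw [mul_assoc, HH.gg, ← mul_assoc, sg₂, mul_assoc]
      · rw [SelfCentQQ.comm_mul X.hzz X.hz1 r1 (X.hR _ HH.g₁Q _ HH.f₁Q)]
        simp [h, fg₁']
  obtain ⟨s2, hs2A, s2z, s2g₁, s2g₂, s2f₁, s2f₂⟩ : ∃ s2 : S, (s2 ∈ A ↔ s ∈ A) ∧ s2 * z = z * s2 ∧
      s2 * g₁ = g₁ * s2 ∧ s2 * g₂ = g₂ * s2 ∧ s2 * f₁ = f₁ * s2 ∧ s2 * f₂ = f₂ * s2 := by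
    by_cases h : s1 * f₂ = f₂ * s1
    · exact ⟨s1, hs1A, s1z, s1g₁, s1g₂, s1f₁, h⟩
    · refine ⟨s1 * g₂, (A.mul_mem_cancel_right hg₂A).trans hs1A, ?_, ?_, ?_, ?_, ?_⟩
      · rw [mul_assoc, ← hzg₂, ← mul_assoc, s1z, mul_assoc]
      · rw [mul_assoc, ← HH.gg, ← mul_assoc, s1g₁, mul_assoc]
      · rw [s1g₂, mul_assoc, s1g₂]
      · rw [mul_assoc, ← HH.c1, ← mul_assoc, s1f₁, mul_assoc]
      · rw [SelfCentQQ.comm_mul X.hzz X.hz1 r3 (X.hR _ HH.g₂Q _ HH.f₂Q)]
        simp [h, fg₂']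
  have hM : Q ≤ centralizer {s2} := X.le_of_hyp HH
    (mem_centralizer_singleton_iff.2 s2z.symm) (mem_centralizer_singleton_iff.2 s2f₁.symm)
    (mem_centralizer_singleton_iff.2 s2g₁.symm) (mem_centralizer_singleton_iff.2 s2f₂.symm)
    (mem_centralizer_singleton_iff.2 s2g₂.symm)
  rw [← hs2A]
  rcases X.hcent s2 (fun q hq => (mem_centralizer_singleton_iff.1 (hM hq)).symm) with h | h
  · rw [h]; exact A.one_mem
  · rw [h]; exact hzA

end

end Cfsg.Agent.TwoFusion.SelfCentQQMain
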