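import Mathlib
import Cfsg.Agent.TwoFusion.PSLTwoGood
import Cfsg.Agent.S0105
import Cfsg.Agent.S0223
import Cfsg.Agent.S0280
import Cfsg.Agent.Classification.PSLTwoEvenSylow
import Cfsg.Prelude.Def_TwoFusion
import Cfsg.Prelude.Def_Exceptional

/-!
# Simple groups with abelian Sylow 2-subgroups and `C(t) = ⟨t⟩ × E`, `PSL₂(q) ≤ E ≤ Aut PSL₂(q)`

`C(t)` is a maximal subgroup (modulo Glauberman's Z*-theorem and Bender's theorem on strongly embedded
subgroups, which are hypotheses here).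
-/

set_option autoImplicit false

namespace Cfsg.Agent.TwoFusion.AbelianJanko

open Subgroup
open Cfsg.Agent.TwoFusion.PSLTwoGood (Good klein_comm klein_sq orderOf_two)

universe u

/-- Statement of the Z*-theorem. -/
def ZStar : Prop := ∀ (Γ : Type u) [Group Γ] [Finite Γ] (P : Sylow 2 Γ) (w : Γ), orderOf w = 2 → w ∈ P →
  (∀ g : Γ, g * w * g⁻¹ ∈ P → g * w * g⁻¹ = w) →
  ∃ N : Subgroup Γ, N.Normal ∧ Odd (Nat.card N) ∧ ∀ g : Γ, (w * g * w⁻¹ * g⁻¹) ∈ N

theorem comm_of {G : Type*} [Group G] {H : Subgroup G} (hH : IsMulCommutative H) {x y : G} (hx : x ∈ H)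
    (hy : y ∈ H) : x * y = y * x :=
  congrArg Subtype.val (hH.is_comm.comm (⟨x, hx⟩ : H) ⟨y, hy⟩)

section avg

variable {Γ : Type*} [Group Γ] [Finite Γ] {p : ℕ} [Fact p.Prime]

open Cfsg.Agent.S0105 (cj coe_cj cjQ cjQ_mk)

/-- If no nontrivial element of the abelian Sylow `p`-subgroup `P` is central in `N(P)`, then `P` lies in the
kernel of every homomorphism to an abelian group. -/
theorem sylow_le_ker (P : Sylow p Γ) (hP : IsMulCommutative P) {A : Type*} [CommGroup A] (f : Γ →* A)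
    (hfix : ∀ x ∈ P, (∀ n ∈ Subgroup.normalizer ((P : Subgroup Γ) : Set Γ), n * x * n⁻¹ = x) → x = 1)
    {x : Γ} (hx : x ∈ P) : f x = 1 := by
  classical
  have hPc : IsMulCommutative (P : Subgroup Γ) := hP
  let _ : CommGroup (P : Subgroup Γ) := { (inferInstance : Group (P : Subgroup Γ)) with mul_comm := hP.is_comm.comm }
  let N := Subgroup.normalizer (P : Set Γ)
  let Q := N ⧸ (P : Subgroup Γ).subgroupOf N
  have : Fintype Q := Fintype.ofFinite _
  let y : P := ∏ q : Q, cjQ P ⟨x, hx⟩ q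
  have hy : ∀ n : N, cj P n y = y := by
    intro n
    change cj P n (∏ q : Q, cjQ P ⟨x, hx⟩ q) = ∏ q : Q, cjQ P ⟨x, hx⟩ q
    rw [map_prod]
    apply Fintype.prod_equiv (MulAction.toPerm n)
    intro q
    induction q using QuotientGroup.induction_on with
    | H m =>
      have : (MulAction.toPerm n : Equiv.Perm Q) (m : Q) = ((n * m : N) : Q) := rfl
      rw [this, cjQ_mk P hP, cjQ_mk P hP]
      apply Subtype.ext
      rw [coe_cj, coe_cj, coe_cj]
      push_cast
      group
  have hy1 : (y : Γ) = 1 := by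
    apply hfix _ y.2
    intro n hn
    exact congrArg Subtype.val (hy ⟨n, hn⟩)
  have hf : f y = f x ^ Fintype.card Q := by
    let g : P →* A := f.comp (P : Subgroup Γ).subtype
    change g (∏ q : Q, cjQ P ⟨x, hx⟩ q) = _
    rw [map_prod, Finset.prod_congr rfl (g := fun _ => f x)]
    · simp
    · intro q _
      change f (cjQ P ⟨x, hx⟩ q : Γ) = f x
      unfold cjQ
      rw [coe_cj, map_mul, map_mul, map_inv]
      rw [mul_comm (f _) (f x), mul_assoc, mul_inv_cancel, mul_one]
  rw [hy1, map_one] at hf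
  have hcop : (Fintype.card Q).Coprime p := by
    rw [← Nat.card_eq_fintype_card]
    have h1 : Nat.card Q = (P : Subgroup Γ).relIndex N := rfl
    rw [h1, Nat.coprime_comm, Nat.Prime.coprime_iff_not_dvd (Fact.out)]
    intro h
    exact P.not_dvd_index (h.trans (Subgroup.relIndex_dvd_index_of_le (Subgroup.le_normalizer)))
  obtain ⟨k, hk⟩ := P.isPGroup' ⟨x, hx⟩
  have hk' : f x ^ p ^ k = 1 := by
    have h2 : x ^ p ^ k = 1 := congrArg Subtype.val hk
    rw [← map_pow, h2, map_one]
  have h3 : orderOf (f x) ∣ Fintype.card Q := orderOf_dvd_of_pow_eq_one hf.symm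
  have h4 : orderOf (f x) ∣ p ^ k := orderOf_dvd_of_pow_eq_one hk'
  have h5 : orderOf (f x) ∣ 1 := by
    have : (Fintype.card Q).Coprime (p ^ k) := Nat.Coprime.pow_right _ hcop
    rw [← this]
    exact Nat.dvd_gcd h3 h4
  exact orderOf_eq_one_iff.1 (Nat.dvd_one.1 h5)

end avg

/-- An element whose commutator with the involution `e` has odd order and commutes with `e` commutes with `e`. -/
theorem comm_of_commutator {G : Type*} [Group G] {e x k : G} (he : e * e = 1)
    (hk : k = e * x * e⁻¹ * x⁻¹) (hc : k * e = e * k) {n : ℕ} (hn : Odd n) (hkn : k ^ n = 1) :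
    e * x = x * e := by
  have he' : e⁻¹ = e := inv_eq_of_mul_eq_one_left he
  have h1 : e * k = x * e * x⁻¹ := by
    rw [hk, he', ← mul_assoc, ← mul_assoc, ← mul_assoc, he, one_mul]
  have h2 : k * k = 1 := by
    have h3 : (e * k) * (e * k) = 1 := by
      rw [h1]
      have : x * e * x⁻¹ * (x * e * x⁻¹) = x * (e * e) * x⁻¹ := by group
      rw [this, he]; group
    calc k * k = (e * e) * (k * k) := by rw [he, one_mul]
      _ = e * (e * k) * k := by group
      _ = e * (k * e) * k := by rw [hc]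
      _ = (e * k) * (e * k) := by group
      _ = 1 := h3
  have h3 : k = 1 := by
    obtain ⟨m, rfl⟩ := hn
    rw [pow_succ, pow_mul, pow_two, h2, one_pow, one_mul] at hkn
    exact hkn
  rw [h3] at hk
  have := hk.symm
  rw [mul_inv_eq_one, mul_inv_eq_iff_eq_mul] at this
  exact this

/-- In `K` with `K₀ ⊴ K` good and `C_K(K₀) = 1`, abelian Sylow 2-subgroups of `K` lie in `K₀`. -/
theorem sylow_le (zs : ZStar.{u}) {K : Type u} [Group K] [Finite K] (K₀ : Subgroup K) (hn : K₀.Normal)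
    (hgood : ∀ X : Subgroup K, X ≤ K₀ → (∀ c ∈ K₀, ∀ x ∈ X, c * x * c⁻¹ ∈ X) → Odd (Nat.card X) → X = ⊥)
    (hC : Subgroup.centralizer (K₀ : Set K) = ⊥) (P : Sylow 2 K) (hP : IsMulCommutative (P : Subgroup K)) :
    (P : Subgroup K) ≤ K₀ := by
  have h2 : Fact (Nat.Prime 2) := ⟨Nat.prime_two⟩
  let M : Subgroup K := K₀ ⊔ P
  have hPM : (P : Subgroup K) ≤ M := le_sup_right
  let R : Sylow 2 M := P.subtype hPM
  have hR : (R : Subgroup M) = (P : Subgroup K).subgroupOf M := rfl
  have hRc : IsMulCommutative (R : Subgroup M) := by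
    refine ⟨⟨fun x y => Subtype.ext (Subtype.ext ?_)⟩⟩
    have hx : ((x : M) : K) ∈ (P : Subgroup K) := x.2
    have hy : ((y : M) : K) ∈ (P : Subgroup K) := y.2
    exact comm_of hP hx hy
  -- no fixed points
  have hfix : ∀ x ∈ R, (∀ n ∈ Subgroup.normalizer ((R : Subgroup M) : Set M), n * x * n⁻¹ = x) → x = 1 := by
    intro x hx hxf
    by_contra hx1
    -- an involution in `⟨x⟩`
    obtain ⟨k, hk⟩ : ∃ k : ℕ, orderOf x = 2 ^ k := by
      obtain ⟨k, hk⟩ := R.isPGroup' ⟨x, hx⟩
      have hk' : x ^ 2 ^ k = 1 := congrArg Subtype.val hk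
      obtain ⟨j, -, hj⟩ := (Nat.dvd_prime_pow Nat.prime_two).1 (orderOf_dvd_of_pow_eq_one hk')
      exact ⟨j, hj⟩
    have hk0 : k ≠ 0 := by
      rintro rfl
      rw [pow_zero, orderOf_eq_one_iff] at hk
      exact hx1 hk
    obtain ⟨j, rfl⟩ := Nat.exists_eq_succ_of_ne_zero hk0
    let w : M := x ^ 2 ^ j
    have hw2 : orderOf w = 2 := by
      have : orderOf (x ^ 2 ^ j) = orderOf x / 2 ^ j := by
        apply orderOf_pow_of_dvd (by positivity)
        rw [hk]; exact pow_dvd_pow 2 (Nat.le_succ j)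
      rw [show w = x ^ 2 ^ j from rfl, this, hk, Nat.pow_succ, Nat.mul_div_cancel_left _ (by positivity)]
    have hwR : w ∈ R := Subgroup.pow_mem (R : Subgroup M) hx _
    have hwf : ∀ n ∈ Subgroup.normalizer ((R : Subgroup M) : Set M), n * w * n⁻¹ = w := by
      intro n hn
      have h3 := hxf n hn
      calc n * w * n⁻¹ = (n * x * n⁻¹) ^ 2 ^ j := by rw [conj_pow]
        _ = w := by rw [h3]
    have hiso : ∀ g : M, g * w * g⁻¹ ∈ R → g * w * g⁻¹ = w := by
      intro g hg
      obtain ⟨n, hn, h⟩ := R.conj_eq_normalizer_conj_of_mem w g⁻¹ hwR (by rwa [inv_inv])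
      rw [inv_inv] at h
      rw [h]
      have := hwf n⁻¹ (inv_mem hn)
      rwa [inv_inv] at this
    obtain ⟨N, hNn, hNo, hN⟩ := zs M R w hw2 hwR hiso
    -- the intersection with `K₀`
    let X : Subgroup K := (N.map M.subtype) ⊓ K₀
    have hX : X = ⊥ := by
      apply hgood X inf_le_right
      · rintro c hc _ ⟨⟨y, hy, rfl⟩, hy0⟩
        have hcM : c ∈ M := (le_sup_left : K₀ ≤ M) hc
        refine ⟨⟨(⟨c, hcM⟩ : M) * y * (⟨c, hcM⟩ : M)⁻¹, hNn.conj_mem y hy _, rfl⟩, ?_⟩
        exact K₀.mul_mem (K₀.mul_mem hc hy0) (K₀.inv_mem hc)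
      · have h5 : Nat.card X ∣ Nat.card N := by
          have h6 : Nat.card (N.map M.subtype) = Nat.card N :=
            Subgroup.card_map_of_injective M.subtype_injective
          rw [← h6]
          exact Subgroup.card_dvd_of_le inf_le_left
        exact Odd.of_dvd_nat hNo h5
    have hwC : (w : K) ∈ Subgroup.centralizer (K₀ : Set K) := by
      rw [Subgroup.mem_centralizer_iff]
      intro c hc
      have hcM : c ∈ M := (le_sup_left : K₀ ≤ M) hc
      have h7 : (w : K) * c * (w : K)⁻¹ * c⁻¹ ∈ X := by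
        refine ⟨⟨w * ⟨c, hcM⟩ * w⁻¹ * (⟨c, hcM⟩ : M)⁻¹, hN ⟨c, hcM⟩, rfl⟩, ?_⟩
        exact K₀.mul_mem (hn.conj_mem c hc _) (K₀.inv_mem hc)
      rw [hX, Subgroup.mem_bot, mul_inv_eq_one, mul_inv_eq_iff_eq_mul] at h7
      exact h7.symm
    rw [hC, Subgroup.mem_bot] at hwC
    have hw1 : w = 1 := Subtype.ext hwC
    rw [hw1, orderOf_one] at hw2
    omega
  -- the abelian quotient
  let K₁ : Subgroup M := K₀.subgroupOf M
  have hK₁n : K₁.Normal := hn.subgroupOf M
  have hrep : ∀ a : M ⧸ K₁, ∃ z : M, (z : K) ∈ (P : Subgroup K) ∧ (z : M ⧸ K₁) = a := by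
    intro a
    obtain ⟨m, rfl⟩ := QuotientGroup.mk_surjective a
    obtain ⟨c, hc, z, hz, hcz⟩ := Subgroup.mem_sup_of_normal_left.1 m.2
    refine ⟨⟨z, hPM hz⟩, hz, ?_⟩
    rw [QuotientGroup.eq]
    change (z : K)⁻¹ * (m : K) ∈ K₀
    rw [← hcz, ← mul_assoc]
    have := hn.conj_mem c hc z⁻¹
    rwa [inv_inv] at this
  let _ : CommGroup (M ⧸ K₁) := { (inferInstance : Group (M ⧸ K₁)) with
    mul_comm := by
      intro a b
      obtain ⟨y, hy, rfl⟩ := hrep a
      obtain ⟨z, hz, rfl⟩ := hrep b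
      have h8 : y * z = z * y := by
        apply Subtype.ext
        exact comm_of hP hy hz
      change ((y * z : M) : M ⧸ K₁) = ((z * y : M) : M ⧸ K₁)
      rw [h8] }
  intro x hx
  have h9 := sylow_le_ker R hRc (QuotientGroup.mk' K₁) hfix (x := ⟨x, hPM hx⟩) hx
  have h10 : (⟨x, hPM hx⟩ : M) ∈ K₁ := (QuotientGroup.eq_one_iff _).1 h9
  exact h10

/-- Index two criterion. -/
theorem card_eq_two_mul {G : Type*} [Group G] [Finite G] {A B : Subgroup G} (hAB : A ≤ B) {t : G}
    (htB : t ∈ B) (htA : t ∉ A) (ht : t * t = 1) (hdec : ∀ x ∈ B, x ∈ A ∨ t * x ∈ A) :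
    Nat.card B = 2 * Nat.card A := by
  have hti : t⁻¹ = t := inv_eq_of_mul_eq_one_left ht
  have hidx : (A.subgroupOf B).index = 2 := by
    rw [Subgroup.index_eq_two_iff]
    refine ⟨⟨t, htB⟩, ?_⟩
    intro b
    rw [Subgroup.mem_subgroupOf, Subgroup.mem_subgroupOf]
    change Xor ((b : G) * t ∈ A) ((b : G) ∈ A)
    by_cases hb : (b : G) ∈ A
    · right
      refine ⟨hb, fun h => htA ?_⟩
      have := A.mul_mem (A.inv_mem hb) h
      rwa [inv_mul_cancel_left] at this
    · left
      refine ⟨?_, hb⟩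
      rcases hdec _ (B.inv_mem b.2) with h | h
      · exact absurd (by simpa using A.inv_mem h) hb
      · have := A.inv_mem h
        rwa [mul_inv_rev, inv_inv, hti] at this
  have h1 := (A.subgroupOf B).index_mul_card
  rw [hidx, Nat.card_congr (Subgroup.subgroupOfEquivOfLe hAB).toEquiv] at h1
  exact h1.symm

/-- The number of `K`-conjugates of `x`. -/
theorem ncard_orbit {G : Type*} [Group G] (K : Subgroup G) (x : G) :
    ({y | ∃ k ∈ K, k * x * k⁻¹ = y} : Set G).ncard = (Subgroup.centralizer {x}).relIndex K := by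
  let _ : MulAction K G := MulAction.compHom G ((MulAut.conj (G := G)).comp K.subtype)
  have hsm : ∀ (k : K) (y : G), k • y = (k : G) * y * (k : G)⁻¹ := fun k y => rfl
  have h1 : ({y | ∃ k ∈ K, k * x * k⁻¹ = y} : Set G) = MulAction.orbit K x := by
    ext y
    constructor
    · rintro ⟨k, hk, rfl⟩
      exact ⟨⟨k, hk⟩, rfl⟩
    · rintro ⟨k, rfl⟩
      exact ⟨k, k.2, rfl⟩
  have h2 : MulAction.stabilizer K x = (Subgroup.centralizer {x}).subgroupOf K := by
    ext k
    rw [MulAction.mem_stabilizer_iff, hsm, Subgroup.mem_subgroupOf, Subgroup.mem_centralizer_singleton_iff,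
      mul_inv_eq_iff_eq_mul]
  rw [h1, ← MulAction.index_stabilizer, h2]
  rfl

/-- The configuration. -/
structure Setup {G : Type u} [Group G] (t : G) (E E₀ : Subgroup G) : Prop where
  ht : orderOf t = 2
  hEC : ∀ e ∈ E, t * e = e * t
  htE : t ∉ E
  dec : ∀ x, x * t = t * x → x ∈ E ∨ t * x ∈ E
  hle : E₀ ≤ E
  hn : ∀ c ∈ E, ∀ x ∈ E₀, c * x * c⁻¹ ∈ E₀
  good : Good E₀
  hCE : ∀ x ∈ E, (∀ y ∈ E₀, x * y = y * x) → x = 1
  hcomm : ∀ Q : Subgroup G, IsPGroup 2 Q → IsMulCommutative Q
  zs : ZStar.{u}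

namespace Setup

variable {G : Type u} [Group G] [Finite G] {t : G} {E E₀ : Subgroup G} (S : Setup t E E₀)
include S

omit [Finite G] in
theorem tt : t * t = 1 := by
  have := pow_orderOf_eq_one t
  rwa [S.ht, pow_two] at this

omit [Finite G] in
theorem t_ne : t ≠ 1 := by
  intro h
  have := S.ht
  rw [h, orderOf_one] at this
  omega

omit [Finite G] in
/-- Elements of odd order of `C(t)` lie in `E`. -/
theorem mem_of_odd {x : G} (hx : x * t = t * x) {n : ℕ} (hn : Odd n) (hxn : x ^ n = 1) : x ∈ E := by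
  rcases S.dec x hx with h | h
  · exact h
  · exfalso
    have h1 : (t * x) ^ n = t := by
      have hc : Commute t x := hx.symm
      rw [hc.mul_pow, hxn, mul_one]
      obtain ⟨m, rfl⟩ := hn
      rw [pow_succ, pow_mul, pow_two, S.tt, one_pow, one_mul]
    apply S.htE
    rw [← h1]
    exact E.pow_mem h n

/-- Every Sylow 2-subgroup of `E` lies in `E₀`. -/
theorem sylow_E_le (P : Sylow 2 E) : (P : Subgroup E).map E.subtype ≤ E₀ := by
  have h2 : Fact (Nat.Prime 2) := ⟨Nat.prime_two⟩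
  have hP : IsMulCommutative (P : Subgroup E) := by
    have h1 := S.hcomm _ (P.isPGroup'.map E.subtype)
    refine ⟨⟨fun x y => Subtype.ext (Subtype.ext ?_)⟩⟩
    exact comm_of h1 (x := ((x : E) : G)) (y := ((y : E) : G)) ⟨x, x.2, rfl⟩ ⟨y, y.2, rfl⟩
  have h3 : (P : Subgroup E) ≤ E₀.subgroupOf E := by
    apply sylow_le S.zs (E₀.subgroupOf E) _ _ _ P hP
    · refine ⟨fun x hx c => ?_⟩
      exact S.hn c c.2 x hx
    · intro X hX hXn hXo
      -- transport to `E₀`
      let X₀ : Subgroup E₀ := (X.map E.subtype).subgroupOf E₀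
      have h4 : X₀ = ⊥ := by
        apply S.good.normal_odd_eq_bot
        · rintro c x ⟨y, hy, hyx⟩
          refine ⟨⟨c, S.hle c.2⟩ * y * (⟨c, S.hle c.2⟩ : E)⁻¹, hXn _ c.2 y hy, ?_⟩
          change (c : G) * (y : G) * (c : G)⁻¹ = (c : G) * (x : G) * (c : G)⁻¹
          have : (y : G) = (x : G) := hyx
          rw [this]
        · have h5 : Nat.card X₀ ∣ Nat.card (X.map E.subtype) := by
            have : X.map E.subtype ≤ E₀ := by
              rintro _ ⟨y, hy, rfl⟩
              exact hX hy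
            rw [Nat.card_congr (Subgroup.subgroupOfEquivOfLe this).toEquiv]
          rw [Subgroup.card_map_of_injective E.subtype_injective] at h5
          exact Odd.of_dvd_nat hXo h5
      rw [Subgroup.eq_bot_iff_forall]
      intro x hx
      have h6 : (⟨(x : G), hX hx⟩ : E₀) ∈ X₀ := ⟨x, hx, rfl⟩
      rw [h4, Subgroup.mem_bot] at h6
      have h7 : (x : G) = 1 := congrArg Subtype.val h6
      exact Subtype.ext h7
    · rw [Subgroup.eq_bot_iff_forall]
      intro x hx
      rw [Subgroup.mem_centralizer_iff] at hx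
      apply Subtype.ext
      apply S.hCE x x.2
      intro y hy
      exact (congrArg Subtype.val (hx ⟨y, S.hle hy⟩ hy)).symm
  rintro _ ⟨x, hx, rfl⟩
  exact h3 hx

/-- Involutions of `E` lie in `E₀`. -/
theorem mem_of_sq {e : G} (he : e ∈ E) (he2 : e * e = 1) : e ∈ E₀ := by
  have h2 : Fact (Nat.Prime 2) := ⟨Nat.prime_two⟩
  obtain ⟨P, hP⟩ : ∃ P : Sylow 2 E, Subgroup.zpowers (⟨e, he⟩ : E) ≤ P := by
    apply IsPGroup.exists_le_sylow
    rw [IsPGroup.iff_orderOf]
    rintro ⟨x, hx⟩
    have h3 : orderOf (⟨x, hx⟩ : Subgroup.zpowers (⟨e, he⟩ : E)) ∣ 2 := by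
      obtain ⟨k, rfl⟩ := hx
      apply orderOf_dvd_of_pow_eq_one
      apply Subtype.ext
      change ((⟨e, he⟩ : E) ^ k) ^ 2 = 1
      rw [← zpow_natCast, ← zpow_mul, mul_comm, zpow_mul]
      have : (⟨e, he⟩ : E) ^ ((2 : ℕ) : ℤ) = 1 := by
        rw [zpow_natCast, pow_two]; exact Subtype.ext he2
      rw [this, one_zpow]
    have h4 : orderOf (⟨x, hx⟩ : Subgroup.zpowers (⟨e, he⟩ : E)) ∣ 2 ^ 1 := by rw [pow_one]; exact h3
    obtain ⟨k, -, hk⟩ := (Nat.dvd_prime_pow Nat.prime_two).1 h4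
    exact ⟨k, hk⟩
  exact S.sylow_E_le P ⟨⟨e, he⟩, hP (Subgroup.mem_zpowers _), rfl⟩

/-- Main local lemma: if `v = g t g⁻¹ ≠ t` commutes with `t` and `K` has odd order and is normalised by
`C(t)`, then `t` centralises `C_K(v)`. -/
theorem centralizes (K : Subgroup G) (hK : Odd (Nat.card K))
    (hnK : ∀ c, c * t = t * c → ∀ k ∈ K, c * k * c⁻¹ ∈ K) {g : G} (hgt : g * t * g⁻¹ ≠ t)
    (hcomm : (g * t * g⁻¹) * t = t * (g * t * g⁻¹)) {x : G} (hx : x ∈ K)
    (hxv : x * (g * t * g⁻¹) = (g * t * g⁻¹) * x) : t * x = x * t := by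
  have htt := S.tt
  have htti : t⁻¹ = t := inv_eq_of_mul_eq_one_left htt
  -- conjugate back by `g`
  set s : G := g⁻¹ * t * g with hs
  have hst : s * t = t * s := by
    rw [hs]
    calc g⁻¹ * t * g * t = g⁻¹ * (t * (g * t * g⁻¹)) * g := by group
      _ = g⁻¹ * (g * t * g⁻¹ * t) * g := by rw [hcomm]
      _ = t * (g⁻¹ * t * g) := by group
  have hss : s * s = 1 := by
    rw [hs]
    calc g⁻¹ * t * g * (g⁻¹ * t * g) = g⁻¹ * (t * t) * g := by group
      _ = 1 := by rw [htt]; group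
  have hs1 : s ≠ 1 := by
    intro h
    rw [hs, mul_eq_one_iff_eq_inv, inv_mul_eq_iff_eq_mul, mul_inv_cancel] at h
    exact S.t_ne h
  have hsne : s ≠ t := by
    intro h
    apply hgt
    rw [← h] 
    conv_rhs => rw [h]
    rw [hs]; group
  -- the involution `e` of `E`
  obtain ⟨e, heE, hes⟩ : ∃ e ∈ E, e = s ∨ e = t * s := by
    rcases S.dec s hst with h | h
    · exact ⟨s, h, Or.inl rfl⟩
    · exact ⟨t * s, h, Or.inr rfl⟩
  have he1 : e ≠ 1 := by
    rcases hes with rfl | rfl
    · exact hs1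
    · intro h
      apply hsne
      rw [mul_eq_one_iff_eq_inv] at h
      have := congrArg (fun y => y⁻¹) h
      simp only [inv_inv] at this
      rw [← this, htti]
  have hee : e * e = 1 := by
    rcases hes with rfl | rfl
    · exact hss
    · calc t * s * (t * s) = t * (s * t) * s := by group
        _ = (t * t) * (s * s) := by rw [hst]; group
        _ = 1 := by rw [htt, hss, one_mul]
  have heE₀ : e ∈ E₀ := S.mem_of_sq heE hee
  have he2 : orderOf (⟨e, heE₀⟩ : E₀) = 2 :=
    orderOf_two (fun h => he1 (congrArg Subtype.val h)) (Subtype.ext hee)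
  -- elements commuting with `t` and `e` commute with `s`
  have hcs : ∀ c, c * t = t * c → c * e = e * c → c * s = s * c := by
    intro c hct hce
    rcases hes with rfl | h
    · exact hce
    · have : s = t * e := by rw [h, ← mul_assoc, htt, one_mul]
      rw [this, ← mul_assoc, hct, mul_assoc, hce, mul_assoc]
  have hconj : ∀ c, c * s = s * c → (g * c * g⁻¹) * t = t * (g * c * g⁻¹) := by
    intro c hc
    have h3 : t = g * s * g⁻¹ := by rw [hs]; group
    rw [h3]
    calc g * c * g⁻¹ * (g * s * g⁻¹) = g * (c * s) * g⁻¹ := by group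
      _ = g * s * g⁻¹ * (g * c * g⁻¹) := by rw [hc]; group
  have hEt : ∀ c ∈ E, c * t = t * c := fun c hc => (S.hEC c hc).symm
  -- apply the Hall property
  let X : Subgroup E₀ := (K.comap (MulAut.conj g).toMonoidHom).subgroupOf E₀
  have hmemX : ∀ y : E₀, y ∈ X ↔ g * (y : G) * g⁻¹ ∈ K := by
    intro y; exact Iff.rfl
  have hXo : Odd (Nat.card X) := by
    have h4 : Nat.card (K.comap (MulAut.conj g).toMonoidHom) = Nat.card K := by
      refine Nat.card_congr ⟨fun y => ⟨_, y.2⟩, fun k => ⟨g⁻¹ * k * g, ?_⟩, ?_, ?_⟩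
      · change g * (g⁻¹ * (k : G) * g) * g⁻¹ ∈ K
        have : g * (g⁻¹ * (k : G) * g) * g⁻¹ = k := by group
        rw [this]; exact k.2
      · intro y; apply Subtype.ext
        change g⁻¹ * (g * (y : G) * g⁻¹) * g = y
        group
      · intro k; apply Subtype.ext
        change g * (g⁻¹ * (k : G) * g) * g⁻¹ = k
        group
    have h5 : Nat.card X ∣ Nat.card (K.comap (MulAut.conj g).toMonoidHom) := by
      have : Nat.card X = Nat.card (X.map E₀.subtype) :=
        (Subgroup.card_map_of_injective E₀.subtype_injective).symm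
      rw [this]
      apply Subgroup.card_dvd_of_le
      rintro _ ⟨y, hy, rfl⟩
      exact hy
    rw [h4] at h5
    exact Odd.of_dvd_nat hK h5
  have hXle := S.good.le_centralizer he2 X hXo (by
    intro c hc y hy
    rw [Subgroup.mem_centralizer_singleton_iff] at hc
    rw [hmemX] at hy ⊢
    have hce : (c : G) * e = e * c := congrArg Subtype.val hc
    have hct := hEt c (S.hle c.2)
    have h6 := hnK _ (hconj c (hcs c hct hce)) _ hy
    have h7 : g * ((c * y * c⁻¹ : E₀) : G) * g⁻¹ = g * c * g⁻¹ * (g * y * g⁻¹) * (g * c * g⁻¹)⁻¹ := by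
      push_cast; group
    rw [h7]; exact h6)
  have hkey : ∀ y ∈ E₀, g * y * g⁻¹ ∈ K → y * e = e * y := by
    intro y hy hyK
    have := hXle (x := ⟨y, hy⟩) hyK
    rw [Subgroup.mem_centralizer_singleton_iff] at this
    exact congrArg Subtype.val this
  -- the element `x'`
  set x' : G := g⁻¹ * x * g with hx'
  have hgx' : g * x' * g⁻¹ = x := by rw [hx']; group
  have hx't : x' * t = t * x' := by
    rw [hx']
    calc g⁻¹ * x * g * t = g⁻¹ * (x * (g * t * g⁻¹)) * g := by group
      _ = g⁻¹ * ((g * t * g⁻¹) * x) * g := by rw [hxv]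
      _ = t * (g⁻¹ * x * g) := by group
  have hxo : x ^ Nat.card K = 1 := by
    have : (⟨x, hx⟩ : K) ^ Nat.card K = 1 := pow_card_eq_one'
    exact congrArg Subtype.val this
  have hx'o : x' ^ Nat.card K = 1 := by
    rw [hx']
    have : (g⁻¹ * x * g⁻¹⁻¹) ^ Nat.card K = g⁻¹ * x ^ Nat.card K * g⁻¹⁻¹ := conj_pow
    rw [inv_inv] at this
    rw [this, hxo]; group
  have hx'E : x' ∈ E := S.mem_of_odd hx't hK hx'o
  -- the commutator
  have hge : (g * e * g⁻¹) * t = t * (g * e * g⁻¹) := by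
    apply hconj
    rcases hes with h | h
    · rw [h]
    · rw [h]
      rw [← mul_assoc s t s, hst]
  have hkE₀ : e * x' * e⁻¹ * x'⁻¹ ∈ E₀ := by
    have h8 : x' * e⁻¹ * x'⁻¹ ∈ E₀ := S.hn x' hx'E _ (E₀.inv_mem heE₀)
    have h9 : e * x' * e⁻¹ * x'⁻¹ = e * (x' * e⁻¹ * x'⁻¹) := by group
    rw [h9]
    exact E₀.mul_mem heE₀ h8
  have hkK : g * (e * x' * e⁻¹ * x'⁻¹) * g⁻¹ ∈ K := by
    have h10 := hnK _ hge x hx
    have h11 : g * (e * x' * e⁻¹ * x'⁻¹) * g⁻¹ = (g * e * g⁻¹ * x * (g * e * g⁻¹)⁻¹) * x⁻¹ := by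
      rw [hx']; group
    rw [h11]
    exact K.mul_mem h10 (K.inv_mem hx)
  have hkc := hkey _ hkE₀ hkK
  have hko : (e * x' * e⁻¹ * x'⁻¹) ^ Nat.card K = 1 := by
    have h12 : (⟨_, hkK⟩ : K) ^ Nat.card K = 1 := pow_card_eq_one'
    have h13 : (g * (e * x' * e⁻¹ * x'⁻¹) * g⁻¹) ^ Nat.card K = 1 := congrArg Subtype.val h12
    rw [conj_pow, mul_inv_eq_one, mul_eq_left] at h13
    exact h13
  have hex : e * x' = x' * e := comm_of_commutator hee rfl hkc hK hko
  have hsx := hconj x' (hcs x' hx't hex.symm)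
  rw [hgx'] at hsx
  exact hsx.symm

/-- A Sylow 2-subgroup `V` of `E₀`: a Klein four-group, and `T = ⟨t⟩ V`. -/
theorem exists_V : ∃ V : Subgroup G, V ≤ E₀ ∧ IsKleinFour V ∧
    (∀ v ∈ V, ∀ w ∈ V, v ≠ 1 → w ≠ 1 → ∃ n ∈ E₀, (∀ x ∈ V, n * x * n⁻¹ ∈ V) ∧
      (∀ x ∈ V, n⁻¹ * x * n ∈ V) ∧ n * v * n⁻¹ = w) ∧
    ∃ P : Sylow 2 G, ∀ x, x ∈ (P : Subgroup G) ↔ (x ∈ V ∨ t * x ∈ V) := by
  have h2 : Fact (Nat.Prime 2) := ⟨Nat.prime_two⟩
  have htt := S.tt
  have htti : t⁻¹ = t := inv_eq_of_mul_eq_one_left htt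
  obtain ⟨P₀⟩ : Nonempty (Sylow 2 E₀) := inferInstance
  have hP₀ := S.good.klein P₀
  let V : Subgroup G := (P₀ : Subgroup E₀).map E₀.subtype
  have hVE₀ : V ≤ E₀ := Subgroup.map_subtype_le _
  have eV : (P₀ : Subgroup E₀) ≃* V := (P₀ : Subgroup E₀).equivMapOfInjective _ E₀.subtype_injective
  have hV : IsKleinFour V := by
    refine ⟨?_, ?_⟩
    · rw [← Nat.card_congr eV.toEquiv]; exact hP₀.card_four
    · rw [← Monoid.exponent_eq_of_mulEquiv eV]; exact hP₀.exponent_two
  have hV4 : Nat.card V = 4 := hV.card_four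
  have htV : t ∉ V := fun h => S.htE (S.hle (hVE₀ h))
  have hVt : ∀ v ∈ V, t * v = v * t := fun v hv => S.hEC v (S.hle (hVE₀ hv))
  -- the group `T`
  let T : Subgroup G :=
    { carrier := {x | x ∈ V ∨ t * x ∈ V}
      one_mem' := Or.inl V.one_mem
      mul_mem' := by
        rintro a b (ha | ha) (hb | hb)
        · exact Or.inl (V.mul_mem ha hb)
        · right
          rw [← mul_assoc, hVt a ha, mul_assoc]
          exact V.mul_mem ha hb
        · right
          rw [← mul_assoc]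
          exact V.mul_mem ha hb
        · left
          have h3 : a * b = (t * a) * (t * b) := by
            rw [← mul_assoc, ← hVt _ ha, ← mul_assoc, htt, one_mul]
          rw [h3]
          exact V.mul_mem ha hb
      inv_mem' := by
        rintro a (ha | ha)
        · exact Or.inl (V.inv_mem ha)
        · right
          have h3 := V.inv_mem ha
          have h4 := hVt _ h3
          rw [mul_inv_rev, htti] at h3 h4
          have h5 : t * a⁻¹ = a⁻¹ * t := by
            have h6 : t * (a⁻¹ * t) * t = a⁻¹ * t * t * t := by rw [h4]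
            rw [mul_assoc, mul_assoc a⁻¹, htt, mul_one] at h6
            exact h6
          change t * a⁻¹ ∈ V
          rw [h5]; exact h3 }
  have hVT : V ≤ T := fun x hx => Or.inl hx
  have htT : t ∈ T := Or.inr (by rw [htt]; exact V.one_mem)
  have hT8 : Nat.card T = 8 := by
    rw [card_eq_two_mul hVT htT htV htt (fun x hx => hx), hV4]
  -- the 2-part of the order of `E`
  obtain ⟨PE⟩ : Nonempty (Sylow 2 E) := inferInstance
  have hPE4 : Nat.card PE ∣ 4 := by
    have h3 := S.sylow_E_le PE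
    have h4 : Nat.card PE = Nat.card ((PE : Subgroup E).map E.subtype) :=
      (Subgroup.card_map_of_injective E.subtype_injective).symm
    have h5 : IsPGroup 2 (((PE : Subgroup E).map E.subtype).subgroupOf E₀) := by
      have h6 : IsPGroup 2 ((PE : Subgroup E).map E.subtype) := PE.isPGroup'.map _
      exact h6.of_equiv (Subgroup.subgroupOfEquivOfLe h3).symm
    obtain ⟨Q, hQ⟩ := h5.exists_le_sylow
    have h7 := Subgroup.card_dvd_of_le hQ
    rw [Nat.card_congr (Subgroup.subgroupOfEquivOfLe h3).toEquiv, ← h4] at h7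
    have h8 : Nat.card (Q : Subgroup E₀) = 4 := (S.good.klein Q).card_four
    rwa [h8] at h7
  have hE : ∃ m, Nat.card E = 4 * m ∧ Odd m := by
    have h3 := PE.card_mul_index
    have hV4' : 4 ∣ Nat.card E := by
      rw [← hV4]; exact Subgroup.card_dvd_of_le (hVE₀.trans S.hle)
    have h4 : ¬ 2 ∣ (PE : Subgroup E).index := PE.not_dvd_index
    have h5 : 4 ∣ Nat.card PE := by
      have h6 : Nat.Coprime 4 (PE : Subgroup E).index := by
        have : Nat.Coprime (2 ^ 2) (PE : Subgroup E).index :=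
          Nat.Coprime.pow_left _ ((Nat.Prime.coprime_iff_not_dvd Nat.prime_two).2 h4)
        exact this
      rw [← h3] at hV4'
      exact h6.dvd_of_dvd_mul_right hV4'
    have h7 : Nat.card PE = 4 := Nat.dvd_antisymm hPE4 h5
    refine ⟨(PE : Subgroup E).index, ?_, ?_⟩
    · rw [← h3, ← h7]
    · rwa [← Nat.not_even_iff_odd, even_iff_two_dvd]
  -- order of the centraliser
  have hC : Nat.card (Subgroup.centralizer ({t} : Set G)) = 2 * Nat.card E := by
    apply card_eq_two_mul _ _ S.htE htt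
    · intro x hx
      exact S.dec x (Subgroup.mem_centralizer_singleton_iff.1 hx)
    · intro x hx
      rw [Subgroup.mem_centralizer_singleton_iff]
      exact (S.hEC x hx).symm
    · rw [Subgroup.mem_centralizer_singleton_iff]
  -- a Sylow 2-subgroup containing `t`
  obtain ⟨S₀, hS₀⟩ : ∃ P : Sylow 2 G, Subgroup.zpowers t ≤ P := by
    apply IsPGroup.exists_le_sylow
    apply IsPGroup.of_card (n := 1)
    rw [Nat.card_zpowers, S.ht, pow_one]
  have htS₀ : t ∈ (S₀ : Subgroup G) := hS₀ (Subgroup.mem_zpowers t)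
  have hS₀C : (S₀ : Subgroup G) ≤ Subgroup.centralizer ({t} : Set G) := by
    intro x hx
    rw [Subgroup.mem_centralizer_singleton_iff]
    exact comm_of (S.hcomm _ S₀.isPGroup') hx htS₀
  have hS₀8 : Nat.card S₀ ∣ 8 := by
    obtain ⟨m, hm, hmo⟩ := hE
    have h3 := Subgroup.card_dvd_of_le hS₀C
    rw [hC, hm, show 2 * (4 * m) = 8 * m by ring] at h3
    obtain ⟨k, hk⟩ := IsPGroup.iff_card.1 S₀.isPGroup'
    have h4 : Nat.card (S₀ : Subgroup G) = 2 ^ k := hk
    rw [h4] at h3
    have h5 : Nat.Coprime (2 ^ k) m := Nat.Coprime.pow_left _ ((Nat.coprime_two_left).2 hmo)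
    have h6 := h5.dvd_of_dvd_mul_right h3
    rw [← h4] at h6
    exact h6
  have hTp : IsPGroup 2 T := IsPGroup.of_card (n := 3) (by rw [hT8]; norm_num)
  obtain ⟨S₁, hS₁⟩ := hTp.exists_le_sylow
  have hS₁T : (S₁ : Subgroup G) = T := by
    symm
    apply Subgroup.eq_of_le_of_card_ge hS₁
    have h3 : Nat.card S₁ = Nat.card S₀ := Nat.card_congr (Sylow.equiv S₁ S₀).toEquiv
    have h4 : Nat.card (S₁ : Subgroup G) ∣ 8 := by
      have : Nat.card (S₁ : Subgroup G) = Nat.card S₁ := rfl
      rw [this, h3]; exact hS₀8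
    rw [hT8]
    exact Nat.le_of_dvd (by norm_num) h4
  refine ⟨V, hVE₀, hV, ?_, S₁, ?_⟩
  · rintro _ ⟨v, hv, rfl⟩ _ ⟨w, hw, rfl⟩ hv1 hw1
    obtain ⟨n, hn, hnv⟩ := S.good.trans P₀ hv hw (fun h => hv1 (by rw [h]; rfl)) (fun h => hw1 (by rw [h]; rfl))
    refine ⟨n, n.2, ?_, ?_, congrArg Subtype.val hnv⟩
    · rintro _ ⟨x, hx, rfl⟩
      exact ⟨n * x * n⁻¹, (Subgroup.mem_normalizer_iff.1 hn x).1 hx, rfl⟩
    · rintro _ ⟨x, hx, rfl⟩
      refine ⟨n⁻¹ * x * n, ?_, rfl⟩
      have := (Subgroup.mem_normalizer_iff.1 (inv_mem hn) x).1 hx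
      rwa [inv_inv] at this
  · intro x
    rw [hS₁T]
    exact Iff.rfl

end Setup

/-- The configuration with `V` and the Sylow 2-subgroup `⟨t⟩ V`. -/
structure Setup' {G : Type u} [Group G] (t : G) (E E₀ V : Subgroup G) (P : Sylow 2 G) : Prop extends
    Setup t E E₀ where
  hVE₀ : V ≤ E₀
  hV : IsKleinFour V
  hVtr : ∀ v ∈ V, ∀ w ∈ V, v ≠ 1 → w ≠ 1 → ∃ n ∈ E₀, (∀ x ∈ V, n * x * n⁻¹ ∈ V) ∧
      (∀ x ∈ V, n⁻¹ * x * n ∈ V) ∧ n * v * n⁻¹ = w
  hP : ∀ x, x ∈ (P : Subgroup G) ↔ (x ∈ V ∨ t * x ∈ V)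

namespace Setup'

variable {G : Type u} [Group G] [Finite G] {t : G} {E E₀ V : Subgroup G} {P : Sylow 2 G}
  (S : Setup' t E E₀ V P)
include S

omit [Finite G] in
theorem t_notMem : t ∉ V := fun h => S.htE (S.hle (S.hVE₀ h))

omit [Finite G] in
theorem t_mem : t ∈ P := (S.hP t).2 (Or.inr (by rw [S.tt]; exact V.one_mem))

omit [Finite G] in
theorem V_le : V ≤ P := fun x hx => (S.hP x).2 (Or.inl hx)

omit [Finite G] in
theorem comm_V {v : G} (hv : v ∈ V) : t * v = v * t := S.hEC v (S.hle (S.hVE₀ hv))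

/-- The orbit of `t` under `H ∩ N(P)`. -/
theorem dichotomy (H : Subgroup G) (hH : Subgroup.centralizer ({t} : Set G) ≤ H) :
    (∀ h ∈ H, h ∈ Subgroup.normalizer ((P : Subgroup G) : Set G) → h * t * h⁻¹ = t) ∨
    ((∀ x ∈ P, x ≠ 1 → ∃ h ∈ H, h * t * h⁻¹ = x) ∧ 7 ∣ Nat.card H) := by
  classical
  have h2 : Fact (Nat.Prime 2) := ⟨Nat.prime_two⟩
  have htt := S.tt
  have htti : t⁻¹ = t := inv_eq_of_mul_eq_one_left htt
  have hPc : IsMulCommutative (P : Subgroup G) := S.hcomm _ P.isPGroup'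
  set K : Subgroup G := H ⊓ Subgroup.normalizer ((P : Subgroup G) : Set G) with hK
  set O : Set G := {y | ∃ k ∈ K, k * t * k⁻¹ = y} with hO
  have hOcard : O.ncard = (Subgroup.centralizer {t}).relIndex K := ncard_orbit K t
  have hPC : (P : Subgroup G) ≤ Subgroup.centralizer {t} := by
    intro x hx
    rw [Subgroup.mem_centralizer_singleton_iff]
    exact comm_of hPc hx S.t_mem
  have hPK : (P : Subgroup G) ≤ K := le_inf (hPC.trans hH) Subgroup.le_normalizer
  have hOodd : Odd O.ncard := by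
    rw [hOcard, ← Nat.not_even_iff_odd, even_iff_two_dvd]
    intro h
    exact P.not_dvd_index ((h.trans (Subgroup.relIndex_dvd_of_le_left K hPC)).trans
      (Subgroup.relIndex_dvd_index_of_le hPK))
  have htO : t ∈ O := ⟨1, K.one_mem, by group⟩
  have hOP : O ⊆ (P : Subgroup G) := by
    rintro _ ⟨k, hk, rfl⟩
    exact (Subgroup.mem_normalizer_iff.1 hk.2 t).1 S.t_mem
  have hO1 : (1 : G) ∉ O := by
    rintro ⟨k, -, hk⟩
    rw [mul_inv_eq_one, mul_eq_left] at hk
    exact S.t_ne hk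
  have hOconj : ∀ n ∈ K, ∀ y ∈ O, n * y * n⁻¹ ∈ O := by
    rintro n hn _ ⟨k, hk, rfl⟩
    exact ⟨n * k, K.mul_mem hn hk, by group⟩
  -- elements of `N_{E₀}(V)` lie in `K`
  have hNK : ∀ n ∈ E₀, (∀ x ∈ V, n * x * n⁻¹ ∈ V) → (∀ x ∈ V, n⁻¹ * x * n ∈ V) → n ∈ K := by
    intro n hn h3 h4
    have hnt : t * n = n * t := S.hEC n (S.hle hn)
    have hntt : n * t * n⁻¹ = t := by rw [← hnt]; group
    have hntt' : n⁻¹ * t * n = t := by rw [mul_assoc, hnt]; group
    refine ⟨hH ?_, Subgroup.mem_normalizer_iff.2 fun x => ?_⟩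
    · rw [Subgroup.mem_centralizer_singleton_iff]; exact hnt.symm
    · rw [S.hP, S.hP]
      have e1 : t * (n * x * n⁻¹) = n * (t * x) * n⁻¹ := by
        rw [← mul_assoc, ← mul_assoc, hnt]; group
      rw [e1]
      constructor
      · rintro (h | h)
        · exact Or.inl (h3 _ h)
        · exact Or.inr (h3 _ h)
      · rintro (h | h)
        · left
          have := h4 _ h
          have e2 : n⁻¹ * (n * x * n⁻¹) * n = x := by group
          rwa [e2] at this
        · right
          have := h4 _ h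
          have e2 : n⁻¹ * (n * (t * x) * n⁻¹) * n = t * x := by group
          rwa [e2] at this
  -- the two pieces
  have hA : ∀ v ∈ V, v ≠ 1 → v ∈ O → ∀ w ∈ V, w ≠ 1 → w ∈ O := by
    intro v hv hv1 hvO w hw hw1
    obtain ⟨n, hn, h3, h4, h5⟩ := S.hVtr v hv w hw hv1 hw1
    rw [← h5]
    exact hOconj n (hNK n hn h3 h4) v hvO
  have hB : ∀ v ∈ V, v ≠ 1 → t * v ∈ O → ∀ w ∈ V, w ≠ 1 → t * w ∈ O := by
    intro v hv hv1 hvO w hw hw1
    obtain ⟨n, hn, h3, h4, h5⟩ := S.hVtr v hv w hw hv1 hw1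
    have hnt : t * n = n * t := S.hEC n (S.hle hn)
    have e1 : t * w = n * (t * v) * n⁻¹ := by
      rw [← h5, ← mul_assoc, ← mul_assoc, hnt]; group
    rw [e1]
    exact hOconj n (hNK n hn h3 h4) _ hvO
  have hVcard : ((V : Set G)).ncard = 4 := by
    rw [← Nat.card_coe_set_eq]; exact S.hV.card_four
  have hV1card : ((V : Set G) \ {1}).ncard = 3 := by
    rw [Set.ncard_sdiff_singleton_of_mem (show (1 : G) ∈ (V : Set G) from V.one_mem), hVcard]
  by_cases hc1 : ∃ v ∈ V, v ≠ 1 ∧ v ∈ O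
  · obtain ⟨v, hv, hv1, hvO⟩ := hc1
    by_cases hc2 : ∃ v ∈ V, v ≠ 1 ∧ t * v ∈ O
    · obtain ⟨v', hv', hv1', hvO'⟩ := hc2
      right
      have hall : ∀ x ∈ P, x ≠ 1 → x ∈ O := by
        intro x hx hx1
        rcases (S.hP x).1 hx with h | h
        · exact hA v hv hv1 hvO x h hx1
        · by_cases htx : t * x = 1
          · have : x = t := by
              rw [← htti]; exact (eq_inv_of_mul_eq_one_right htx)
            rw [this]; exact htO
          · have := hB v' hv' hv1' hvO' (t * x) h htx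
            rwa [← mul_assoc, htt, one_mul] at this
      refine ⟨fun x hx hx1 => ?_, ?_⟩
      · obtain ⟨k, hk, h⟩ := hall x hx hx1
        exact ⟨k, hk.1, h⟩
      · have hOeq : O = ((P : Subgroup G) : Set G) \ {1} := by
          ext x
          constructor
          · intro hx
            exact ⟨hOP hx, fun h => hO1 (by rw [Set.mem_singleton_iff] at h; rwa [h] at hx)⟩
          · rintro ⟨hx, hx1⟩
            exact hall x hx hx1
        have hP8 : (((P : Subgroup G) : Set G)).ncard = 8 := by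
          rw [← Nat.card_coe_set_eq]
          have := card_eq_two_mul S.V_le S.t_mem S.t_notMem htt (fun x hx => (S.hP x).1 hx)
          rw [S.hV.card_four] at this
          exact this
        have h7 : O.ncard = 7 := by
          rw [hOeq, Set.ncard_sdiff_singleton_of_mem (show (1 : G) ∈ ((P : Subgroup G) : Set G) from
            (P : Subgroup G).one_mem), hP8]
        rw [hOcard] at h7
        rw [← h7]
        exact (Subgroup.relIndex_dvd_card _ _).trans (Subgroup.card_dvd_of_le inf_le_left)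
    · exfalso
      have hOeq : O = insert t ((V : Set G) \ {1}) := by
        ext x
        constructor
        · intro hx
          rcases (S.hP x).1 (hOP hx) with h | h
          · right
            exact ⟨h, fun h' => hO1 (by rw [Set.mem_singleton_iff] at h'; rwa [h'] at hx)⟩
          · left
            by_contra hxt
            apply hc2
            refine ⟨t * x, h, fun h' => hxt ?_, ?_⟩
            · rw [← htti]; exact (eq_inv_of_mul_eq_one_right h')
            · rwa [← mul_assoc, htt, one_mul]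
        · rintro (rfl | ⟨hx, hx1⟩)
          · exact htO
          · exact hA v hv hv1 hvO x hx hx1
      have h4 : O.ncard = 4 := by
        rw [hOeq, Set.ncard_insert_of_notMem (fun h => S.t_notMem h.1), hV1card]
      rw [h4] at hOodd
      exact absurd hOodd (by decide)
  · by_cases hc2 : ∃ v ∈ V, v ≠ 1 ∧ t * v ∈ O
    · exfalso
      obtain ⟨v', hv', hv1', hvO'⟩ := hc2
      have hOeq : O = (fun x => t * x) '' (V : Set G) := by
        ext x
        constructor
        · intro hx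
          rcases (S.hP x).1 (hOP hx) with h | h
          · exfalso
            exact hc1 ⟨x, h, fun h' => hO1 (by rwa [h'] at hx), hx⟩
          · exact ⟨t * x, h, by simp only; rw [← mul_assoc, htt, one_mul]⟩
        · rintro ⟨v, hv, rfl⟩
          by_cases hv1 : v = 1
          · simp only [hv1, mul_one]; exact htO
          · exact hB v' hv' hv1' hvO' v hv hv1
      have h4 : O.ncard = 4 := by
        rw [hOeq, Set.ncard_image_of_injective _ (mul_right_injective t), hVcard]
      rw [h4] at hOodd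
      exact absurd hOodd (by decide)
    · left
      intro h hh hn
      have hmem : h * t * h⁻¹ ∈ O := ⟨h, ⟨hh, hn⟩, rfl⟩
      rcases (S.hP _).1 (hOP hmem) with h3 | h3
      · exfalso
        exact hc1 ⟨_, h3, fun h' => hO1 (by rwa [h'] at hmem), hmem⟩
      · by_contra hne
        apply hc2
        refine ⟨_, h3, fun h' => hne ?_, ?_⟩
        · rw [eq_inv_of_mul_eq_one_right h', htti]
        · rwa [← mul_assoc, htt, one_mul]

/-- `3` divides the order of `E₀`. -/
theorem three_dvd : 3 ∣ Nat.card E₀ := by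
  classical
  let K : Subgroup G := E₀ ⊓ Subgroup.normalizer (V : Set G)
  have hVcard : ((V : Set G)).ncard = 4 := by
    rw [← Nat.card_coe_set_eq]; exact S.hV.card_four
  have hV1card : ((V : Set G) \ {1}).ncard = 3 := by
    rw [Set.ncard_sdiff_singleton_of_mem (show (1 : G) ∈ (V : Set G) from V.one_mem), hVcard]
  obtain ⟨v, hv⟩ : ((V : Set G) \ {1}).Nonempty := by
    rw [← Set.ncard_pos]; omega
  have h1 := ncard_orbit K v
  have h2 : ({y | ∃ k ∈ K, k * v * k⁻¹ = y} : Set G) = (V : Set G) \ {1} := by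
    ext y
    constructor
    · rintro ⟨k, hk, rfl⟩
      refine ⟨(Subgroup.mem_normalizer_iff.1 hk.2 v).1 hv.1, fun h => hv.2 ?_⟩
      rw [Set.mem_singleton_iff, mul_inv_eq_one, mul_eq_left] at h
      exact h
    · rintro ⟨hy, hy1⟩
      obtain ⟨n, hn, h3, h4, h5⟩ := S.hVtr v hv.1 y hy hv.2 hy1
      refine ⟨n, ⟨hn, Subgroup.mem_normalizer_iff.2 fun x => ⟨fun h => h3 x h, fun h => ?_⟩⟩, h5⟩
      have := h4 _ h
      have e2 : n⁻¹ * (n * x * n⁻¹) * n = x := by group
      rwa [e2] at this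
  rw [h2, hV1card] at h1
  rw [h1]
  exact (Subgroup.relIndex_dvd_card _ _).trans (Subgroup.card_dvd_of_le inf_le_left)

theorem card_P : Nat.card (P : Subgroup G) = 8 := by
  have := card_eq_two_mul S.V_le S.t_mem S.t_notMem S.tt (fun x hx => (S.hP x).1 hx)
  rw [S.hV.card_four] at this
  exact this

/-- Case A: `t` is central in `N_H(P)`. -/
theorem le_of_fixed (hconj : ∀ v ∈ V, v ≠ 1 → ∃ g : G, g * t * g⁻¹ = v) (H : Subgroup G)
    (hH : Subgroup.centralizer ({t} : Set G) ≤ H)
    (hfix : ∀ h ∈ H, h ∈ Subgroup.normalizer ((P : Subgroup G) : Set G) → h * t * h⁻¹ = t) :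
    H ≤ Subgroup.centralizer ({t} : Set G) := by
  have h2 : Fact (Nat.Prime 2) := ⟨Nat.prime_two⟩
  have htt := S.tt
  have hPc : IsMulCommutative (P : Subgroup G) := S.hcomm _ P.isPGroup'
  have hPC : (P : Subgroup G) ≤ Subgroup.centralizer {t} := by
    intro x hx
    rw [Subgroup.mem_centralizer_singleton_iff]
    exact comm_of hPc hx S.t_mem
  have hPH : (P : Subgroup G) ≤ H := hPC.trans hH
  let R : Sylow 2 H := P.subtype hPH
  have hRc : IsMulCommutative (R : Subgroup H) := by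
    refine ⟨⟨fun x y => Subtype.ext (Subtype.ext ?_)⟩⟩
    have hx : ((x : H) : G) ∈ (P : Subgroup G) := x.2
    have hy : ((y : H) : G) ∈ (P : Subgroup G) := y.2
    exact comm_of hPc hx hy
  have htH : t ∈ H := hPH S.t_mem
  have hiso : ∀ g : H, g * (⟨t, htH⟩ : H) * g⁻¹ ∈ R → g * (⟨t, htH⟩ : H) * g⁻¹ = ⟨t, htH⟩ := by
    intro g hg
    obtain ⟨n, hn, h⟩ := R.conj_eq_normalizer_conj_of_mem (⟨t, htH⟩ : H) g⁻¹ S.t_mem (by rwa [inv_inv])
    rw [inv_inv] at h
    rw [h]
    have hn' : (n : G)⁻¹ ∈ Subgroup.normalizer ((P : Subgroup G) : Set G) := by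
      apply inv_mem
      refine Subgroup.mem_normalizer_iff.2 fun x => ?_
      constructor
      · intro hx
        exact (Subgroup.mem_normalizer_iff.1 hn ⟨x, hPH hx⟩).1 hx
      · intro hx
        have hxH : x ∈ H := by
          have h5 := H.mul_mem (H.mul_mem (H.inv_mem n.2) (hPH hx)) n.2
          have h6 : (n : G)⁻¹ * ((n : G) * x * (n : G)⁻¹) * (n : G) = x := by group
          rwa [h6] at h5
        exact (Subgroup.mem_normalizer_iff.1 hn ⟨x, hxH⟩).2 hx
    have h7 := hfix _ (H.inv_mem n.2) hn'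
    apply Subtype.ext
    rw [inv_inv] at h7
    exact h7
  obtain ⟨N, hNn, hNo, hN⟩ := S.zs H R ⟨t, htH⟩ (by rw [Subgroup.orderOf_mk]; exact S.ht) S.t_mem hiso
  let K : Subgroup G := N.map H.subtype
  have hKo : Odd (Nat.card K) := by
    rw [show Nat.card K = Nat.card N from Subgroup.card_map_of_injective H.subtype_injective]
    exact hNo
  have hKn : ∀ c ∈ H, ∀ k ∈ K, c * k * c⁻¹ ∈ K := by
    rintro c hc _ ⟨k, hk, rfl⟩
    exact ⟨⟨c, hc⟩ * k * (⟨c, hc⟩ : H)⁻¹, hNn.conj_mem k hk _, rfl⟩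
  have hVH : V ≤ H := S.V_le.trans hPH
  have hgen : (⨆ a ∈ {a : G | a ∈ V ∧ a ≠ 1}, K ⊓ Subgroup.centralizer {a}) = K := by
    have hVk := S.hV
    have hVc : IsMulCommutative V := ⟨⟨fun x y => Subtype.ext (klein_comm S.hV x.2 y.2)⟩⟩
    apply Cfsg.Agent.S0058.result V K IsKleinFour.not_isCyclic
    · intro c hc
      refine Subgroup.mem_normalizer_iff.2 fun x => ⟨fun h => hKn c (hVH hc) x h, fun h => ?_⟩
      have := hKn c⁻¹ (H.inv_mem (hVH hc)) _ h
      have h3 : c⁻¹ * (c * x * c⁻¹) * c⁻¹⁻¹ = x := by group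
      rwa [h3] at this
    · rw [IsKleinFour.card_four]
      have : Nat.Coprime (2 ^ 2) (Nat.card K) := Nat.Coprime.pow_left _ ((Nat.coprime_two_left).2 hKo)
      exact this
  have hKC : K ≤ Subgroup.centralizer ({t} : Set G) := by
    rw [← hgen]
    apply iSup_le; intro v
    apply iSup_le; rintro ⟨hv, hv1⟩
    rintro x ⟨hxK, hxv⟩
    obtain ⟨g, hg⟩ := hconj v hv hv1
    have h8 := S.centralizes K hKo (fun c hc k hk => hKn c (hH (Subgroup.mem_centralizer_singleton_iff.2 hc)) k hk)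
      (g := g) (by rw [hg]; rintro rfl; exact S.t_notMem hv) (by rw [hg]; exact (S.comm_V hv).symm)
      hxK (by rw [hg]; exact Subgroup.mem_centralizer_singleton_iff.1 hxv)
    rw [Subgroup.mem_centralizer_singleton_iff]
    exact h8.symm
  intro h hh
  have hk : t * h * t⁻¹ * h⁻¹ ∈ K := ⟨_, hN ⟨h, hh⟩, rfl⟩
  have hkc := Subgroup.mem_centralizer_singleton_iff.1 (hKC hk)
  have hko : (t * h * t⁻¹ * h⁻¹) ^ Nat.card K = 1 := by
    have h12 : (⟨_, hk⟩ : K) ^ Nat.card K = 1 := pow_card_eq_one'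
    exact congrArg Subtype.val h12
  rw [Subgroup.mem_centralizer_singleton_iff]
  exact (comm_of_commutator htt rfl hkc hKo hko).symm

/-- Case B: strongly embedded. -/
theorem strongly (H : Subgroup G) (hH : Subgroup.centralizer ({t} : Set G) ≤ H) (hne : H ≠ ⊤)
    (hfus : ∀ x ∈ P, x ≠ 1 → ∃ h ∈ H, h * t * h⁻¹ = x) : Cfsg.IsStronglyEmbedded H := by
  have h2 : Fact (Nat.Prime 2) := ⟨Nat.prime_two⟩
  have hPc : IsMulCommutative (P : Subgroup G) := S.hcomm _ P.isPGroup'
  have hPC : (P : Subgroup G) ≤ Subgroup.centralizer {t} := by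
    intro x hx
    rw [Subgroup.mem_centralizer_singleton_iff]
    exact comm_of hPc hx S.t_mem
  have hPH : (P : Subgroup G) ≤ H := hPC.trans hH
  let R : Sylow 2 H := P.subtype hPH
  -- all involutions of `H` are conjugate to `t`
  have key : ∀ s ∈ H, orderOf s = 2 → ∃ h ∈ H, h * t * h⁻¹ = s := by
    intro s hs hs2
    obtain ⟨Q, hQ⟩ : ∃ Q : Sylow 2 H, Subgroup.zpowers (⟨s, hs⟩ : H) ≤ Q := by
      apply IsPGroup.exists_le_sylow
      apply IsPGroup.of_card (n := 1)
      rw [Nat.card_zpowers, Subgroup.orderOf_mk, hs2, pow_one]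
    obtain ⟨g, hg⟩ := MulAction.exists_smul_eq H Q R
    have h3 : g * (⟨s, hs⟩ : H) * g⁻¹ ∈ R := by
      have h4 : (⟨s, hs⟩ : H) ∈ (Q : Subgroup H) := hQ (Subgroup.mem_zpowers _)
      rw [← hg]
      exact Subgroup.smul_mem_pointwise_smul _ (MulAut.conj g) _ h4
    have h5 : (g : G) * s * (g : G)⁻¹ ∈ P := h3
    obtain ⟨h, hh, h6⟩ := hfus _ h5 (by
      intro h
      rw [mul_inv_eq_one, mul_eq_left] at h
      rw [h, orderOf_one] at hs2
      omega)
    refine ⟨(g : G)⁻¹ * h, H.mul_mem (H.inv_mem g.2) hh, ?_⟩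
    calc (g : G)⁻¹ * h * t * ((g : G)⁻¹ * h)⁻¹ = (g : G)⁻¹ * (h * t * h⁻¹) * g := by group
      _ = s := by rw [h6]; group
  have heven : Even (Nat.card H) := by
    rw [even_iff_two_dvd]
    have h3 := Subgroup.card_dvd_of_le hPH
    rw [S.card_P] at h3
    exact (by norm_num : 2 ∣ 8).trans h3
  rw [Cfsg.Agent.S0223.result H hne heven]
  refine ⟨?_, ?_⟩
  · intro s hs hs2 x hx
    obtain ⟨h, hh, h6⟩ := key s hs hs2
    rw [Subgroup.mem_centralizer_singleton_iff] at hx
    have h7 : h⁻¹ * x * h ∈ H := by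
      apply hH
      rw [Subgroup.mem_centralizer_singleton_iff]
      have h8 : t = h⁻¹ * s * h := by rw [← h6]; group
      rw [h8]
      calc h⁻¹ * x * h * (h⁻¹ * s * h) = h⁻¹ * (x * s) * h := by group
        _ = h⁻¹ * s * h * (h⁻¹ * x * h) := by rw [hx]; group
    have h9 := H.mul_mem (H.mul_mem hh h7) (H.inv_mem hh)
    have h10 : h * (h⁻¹ * x * h) * h⁻¹ = x := by group
    rwa [h10] at h9
  · intro a ha b hb ha2 hb2 _
    obtain ⟨h, hh, h6⟩ := key a ha ha2
    obtain ⟨k, hk, h7⟩ := key b hb hb2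
    refine ⟨k * h⁻¹, H.mul_mem hk (H.inv_mem hh), ?_⟩
    rw [← h6, ← h7]; group

end Setup'

/-- A simple group of order `504` has no proper subgroup of order divisible by `168`. -/
theorem no_168 {G : Type*} [Group G] [Finite G] [IsSimpleGroup G] (hG : Nat.card G = 504) (H : Subgroup G)
    (hne : H ≠ ⊤) (h : 168 ∣ Nat.card H) : False := by
  classical
  have h1 := H.card_mul_index
  rw [hG] at h1
  obtain ⟨k, hk⟩ := h
  have h2 : k * H.index = 3 := by
    rw [hk] at h1
    have : 168 * (k * H.index) = 168 * 3 := by rw [← mul_assoc, h1]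
    exact Nat.eq_of_mul_eq_mul_left (by norm_num) this
  have h3 : H.index ∣ 3 := Dvd.intro_left k h2
  have h4 : H.index = 3 := by
    rcases (Nat.dvd_prime Nat.prime_three).1 h3 with h | h
    · exact absurd (Subgroup.index_eq_one.1 h) hne
    · exact h
  have hker : (MulAction.toPermHom G (G ⧸ H)).ker = ⊥ := by
    rcases (MulAction.toPermHom G (G ⧸ H)).normal_ker.eq_bot_or_eq_top with h5 | h5
    · exact h5
    · exfalso
      apply hne
      rw [eq_top_iff]
      have : (MulAction.toPermHom G (G ⧸ H)).ker = H.normalCore := (Subgroup.normalCore_eq_ker H).symm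
      rw [← h5, this]
      exact Subgroup.normalCore_le H
  have hinj := (MonoidHom.ker_eq_bot_iff _).1 hker
  have : Fintype (G ⧸ H) := Fintype.ofFinite _
  have h6 : Nat.card G ≤ Nat.card (Equiv.Perm (G ⧸ H)) := Nat.card_le_card_of_injective _ hinj
  have h7 : Fintype.card (G ⧸ H) = 3 := by
    rw [← Nat.card_eq_fintype_card]; exact h4
  rw [Nat.card_eq_fintype_card (α := Equiv.Perm (G ⧸ H)), Fintype.card_perm, h7, hG] at h6
  revert h6
  decide

/-- The conclusion of Bender's theorem is impossible. -/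
theorem bender_false {G : Type*} [Group G] [Finite G] [IsSimpleGroup G] (h8 : 8 ∣ Nat.card G)
    (h16 : ¬ 16 ∣ Nat.card G) (H : Subgroup G) (hne : H ≠ ⊤) (h168 : 168 ∣ Nat.card H)
    (hB : (∃ (F : Type) (_ : Field F) (_ : Fintype F), CharP F 2 ∧ 4 ≤ Fintype.card F ∧
      Nonempty (G ≃* Matrix.ProjectiveSpecialLinearGroup (Fin 2) F)) ∨ Cfsg.IsSuzuki G ∨
      (∃ (F : Type) (_ : Field F) (_ : Fintype F) (q : ℕ), Fintype.card F = q ^ 2 ∧ Even q ∧ 4 ≤ q ∧
        Nonempty (G ≃* Cfsg.PSU 3 F q))) : False := by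
  rcases hB with ⟨F, _, _, hF, h4, ⟨e⟩⟩ | ⟨-, m, hm, hc⟩ | ⟨F, _, _, q, hF, hq, hq4, ⟨e⟩⟩
  · have hc := Cfsg.Agent.Classification.PSLTwoEvenSylow.card_psl (F := F)
    rw [← Nat.card_congr e.toEquiv] at hc
    obtain ⟨n, _, hn⟩ := FiniteField.card F 2
    set q := Fintype.card F with hqdef
    have hqodd : ¬ 2 ∣ (q ^ 2 - 1) := by
      have h1 : 2 ∣ q ^ 2 := by
        rw [hn, ← pow_mul]; exact dvd_pow_self 2 (by have := n.pos; positivity)
      have h2 : 1 ≤ q ^ 2 := Nat.one_le_iff_ne_zero.mpr (by positivity)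
      omega
    have hq8 : q = 8 := by
      have hcop : Nat.Coprime (2 ^ 3) (q ^ 2 - 1) :=
        Nat.Coprime.pow_left _ ((Nat.Prime.coprime_iff_not_dvd Nat.prime_two).2 hqodd)
      have h1 : 2 ^ 3 ∣ q := by
        rw [hc] at h8
        exact hcop.dvd_of_dvd_mul_right h8
      have h2 : ¬ 2 ^ 4 ∣ q := fun h => h16 (by rw [hc]; exact h.mul_right _)
      rw [hn] at h1 h2 ⊢
      have h3 : 3 ≤ (n : ℕ) := (Nat.pow_dvd_pow_iff_le_right (by norm_num)).1 h1
      have h5 : ¬ 4 ≤ (n : ℕ) := fun h => h2 (pow_dvd_pow 2 h)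
      have h6 : (n : ℕ) = 3 := by omega
      rw [h6]; norm_num
    rw [hq8] at hc
    exact no_168 (by rw [hc]; norm_num) H hne h168
  · apply h16
    rw [hc]
    have : (2 ^ (2 * m + 1)) ^ 2 = 16 * 2 ^ (4 * m - 2) := by
      rw [← pow_mul, show (2 * m + 1) * 2 = 4 + (4 * m - 2) by omega, pow_add]; norm_num
    rw [this, mul_assoc, mul_assoc]
    exact Dvd.intro _ rfl
  · apply h16
    have hc := Cfsg.Agent.S0280.result (F := F) hF 3 (by norm_num)
    rw [← Nat.card_congr e.toEquiv] at hc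
    have hq2 : 2 ∣ q := even_iff_two_dvd.1 hq
    -- `q` is a power of two
    have h4q : 4 ∣ q := by
      obtain ⟨p, hpc⟩ := CharP.exists F
      obtain ⟨n, hp, hn⟩ := FiniteField.card F p
      have h1 : 2 ∣ Fintype.card F := by rw [hF]; exact Dvd.dvd.pow hq2 (by norm_num)
      rw [hn] at h1
      have hp2 : p = 2 := ((Nat.prime_dvd_prime_iff_eq Nat.prime_two hp).1 (Nat.prime_two.dvd_of_dvd_pow h1)).symm
      subst hp2
      have h2 : q ∣ 2 ^ (n : ℕ) := by rw [← hn, hF]; exact dvd_pow_self q (by norm_num)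
      obtain ⟨k, -, hk⟩ := (Nat.dvd_prime_pow Nat.prime_two).1 h2
      have h3 : 2 ≤ k := by
        by_contra hcon
        have : k ≤ 1 := by omega
        have h5 : 2 ^ k ≤ 2 ^ 1 := Nat.pow_le_pow_right (by norm_num) this
        omega
      rw [hk]
      exact pow_dvd_pow 2 h3
    have h64 : 16 ∣ q ^ (3 * (3 - 1) / 2) := by
      have : (3 * (3 - 1) / 2) = 3 := by norm_num
      rw [this]
      exact (by norm_num : 16 ∣ 4 ^ 3).trans (pow_dvd_pow_of_dvd h4q 3)
    have h1 : 16 ∣ Nat.gcd 3 (q + 1) * ((q + 1) * Nat.card G) := by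
      rw [hc]; exact h64.mul_right _
    have hcop1 : Nat.Coprime 16 (Nat.gcd 3 (q + 1)) := by
      have : Nat.Coprime 16 3 := by norm_num
      exact Nat.Coprime.coprime_dvd_right (Nat.gcd_dvd_left _ _) this
    have hcop2 : Nat.Coprime 16 (q + 1) := by
      have : Nat.Coprime (2 ^ 4) (q + 1) := by
        apply Nat.Coprime.pow_left
        rw [Nat.Prime.coprime_iff_not_dvd Nat.prime_two]
        omega
      exact this
    exact hcop2.dvd_of_dvd_mul_left (hcop1.dvd_of_dvd_mul_left h1)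

/-- **S1245** modulo the Z*-theorem and Bender's theorem. -/
theorem main {G : Type u} [Group G] [Finite G] [IsSimpleGroup G] (zs : ZStar.{u})
    (bender : ∀ H : Subgroup G, Cfsg.IsStronglyEmbedded H →
      (∃ (F : Type) (_ : Field F) (_ : Fintype F), CharP F 2 ∧ 4 ≤ Fintype.card F ∧
        Nonempty (G ≃* Matrix.ProjectiveSpecialLinearGroup (Fin 2) F)) ∨ Cfsg.IsSuzuki G ∨
        (∃ (F : Type) (_ : Field F) (_ : Fintype F) (q : ℕ), Fintype.card F = q ^ 2 ∧ Even q ∧ 4 ≤ q ∧
          Nonempty (G ≃* Cfsg.PSU 3 F q)))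
    (hna : ¬ IsMulCommutative G) (S : Sylow 2 G) (hS : IsMulCommutative (S : Subgroup G)) (t : G)
    (ht : orderOf t = 2) (E E₀ : Subgroup G)
    (hprod : Cfsg.IsInternalDirectProduct (Subgroup.zpowers t) E (Subgroup.centralizer ({t} : Set G)))
    (hE₀E : E₀ ≤ E) (hE₀n : (E₀.subgroupOf E).Normal)
    (hE₀ : ∃ (F : Type) (_ : Field F) (_ : Fintype F), Odd (Fintype.card F) ∧
      Nonempty (E₀ ≃* Matrix.ProjectiveSpecialLinearGroup (Fin 2) F))
    (hCE : E ⊓ Subgroup.centralizer (E₀ : Set G) = ⊥) :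
    IsCoatom (Subgroup.centralizer ({t} : Set G)) := by
  have h2 : Fact (Nat.Prime 2) := ⟨Nat.prime_two⟩
  have htt : t * t = 1 := by
    have := pow_orderOf_eq_one t
    rwa [ht, pow_two] at this
  have ht1 : t ≠ 1 := by
    intro h
    rw [h, orderOf_one] at ht
    omega
  have hcomm : ∀ Q : Subgroup G, IsPGroup 2 Q → IsMulCommutative Q := by
    intro Q hQ
    obtain ⟨P, hP⟩ := hQ.exists_le_sylow
    let e : P ≃* S := Sylow.equiv P S
    refine ⟨⟨fun x y => Subtype.ext ?_⟩⟩
    have h1 : (⟨x, hP x.2⟩ : P) * ⟨y, hP y.2⟩ = ⟨y, hP y.2⟩ * ⟨x, hP x.2⟩ := by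
      apply e.injective
      rw [map_mul, map_mul]
      exact hS.is_comm.comm _ _
    have h2 : (x : G) * y = y * x := congrArg Subtype.val h1
    exact h2
  obtain ⟨-, hEC, hcom, hinf, hsup⟩ := hprod
  have hEt : ∀ e ∈ E, t * e = e * t := fun e he => hcom t (Subgroup.mem_zpowers t) e he
  have htE : t ∉ E := by
    intro h
    have : t ∈ (Subgroup.zpowers t ⊓ E : Subgroup G) := ⟨Subgroup.mem_zpowers t, h⟩
    rw [hinf, Subgroup.mem_bot] at this
    exact ht1 this
  have good : Good E₀ := by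
    obtain ⟨F, _, _, hodd, ⟨e⟩⟩ := hE₀
    obtain ⟨P⟩ : Nonempty (Sylow 2 (Matrix.ProjectiveSpecialLinearGroup (Fin 2) F)) := inferInstance
    refine Good.of_mulEquiv e (PSLTwoGood.good_psl hodd P ?_)
    let f : Matrix.ProjectiveSpecialLinearGroup (Fin 2) F →* G := E₀.subtype.comp e.symm.toMonoidHom
    have hf : Function.Injective f := E₀.subtype_injective.comp e.symm.injective
    have h3 := hcomm _ (P.isPGroup'.map f)
    refine ⟨⟨fun x y => Subtype.ext (hf ?_)⟩⟩
    change f ((x : Matrix.ProjectiveSpecialLinearGroup (Fin 2) F) * y) = f (y * x)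
    rw [map_mul, map_mul]
    exact comm_of h3 ⟨x, x.2, rfl⟩ ⟨y, y.2, rfl⟩
  have S₁ : Setup t E E₀ :=
    { ht := ht
      hEC := hEt
      htE := htE
      dec := by
        intro x hx
        have hxC : x ∈ Subgroup.zpowers t ⊔ E := by
          rw [hsup]; exact Subgroup.mem_centralizer_singleton_iff.2 hx
        have hcl : Subgroup.zpowers t ⊔ E = Subgroup.closure ({t} ∪ (E : Set G)) := by
          rw [Subgroup.closure_union, Subgroup.closure_eq, Subgroup.zpowers_eq_closure]
        rw [hcl] at hxC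
        induction hxC using Subgroup.closure_induction with
        | mem y hy =>
          rcases hy with hy | hy
          · rw [Set.mem_singleton_iff] at hy
            right; rw [hy, htt]; exact E.one_mem
          · exact Or.inl hy
        | one => exact Or.inl E.one_mem
        | mul a b ha hb iha ihb =>
          have hac : a * t = t * a := by
            rw [← hcl, hsup] at ha
            exact Subgroup.mem_centralizer_singleton_iff.1 ha
          have hbc : b * t = t * b := by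
            rw [← hcl, hsup] at hb
            exact Subgroup.mem_centralizer_singleton_iff.1 hb
          rcases iha hac with h3 | h3 <;> rcases ihb hbc with h4 | h4
          · exact Or.inl (E.mul_mem h3 h4)
          · right
            rw [← mul_assoc, ← hac, mul_assoc]
            exact E.mul_mem h3 h4
          · right
            rw [← mul_assoc]
            exact E.mul_mem h3 h4
          · left
            have h5 : a * b = (t * a) * (t * b) := by
              rw [← hac, mul_assoc, ← mul_assoc t t b, htt, one_mul]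
            rw [h5]
            exact E.mul_mem h3 h4
        | inv a ha iha =>
          have hac : a * t = t * a := by
            rw [← hcl, hsup] at ha
            exact Subgroup.mem_centralizer_singleton_iff.1 ha
          rcases iha hac with h3 | h3
          · exact Or.inl (E.inv_mem h3)
          · right
            have h4 := E.inv_mem h3
            rw [← hac, mul_inv_rev, inv_eq_of_mul_eq_one_left htt] at h4
            exact h4
      hle := hE₀E
      hn := by
        intro c hc x hx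
        exact hE₀n.conj_mem ⟨x, hE₀E hx⟩ hx ⟨c, hc⟩
      good := good
      hCE := by
        intro x hx hxy
        have : x ∈ E ⊓ Subgroup.centralizer (E₀ : Set G) :=
          ⟨hx, Subgroup.mem_centralizer_iff.2 fun y hy => (hxy y hy).symm⟩
        rwa [hCE, Subgroup.mem_bot] at this
      hcomm := hcomm
      zs := zs }
  obtain ⟨V, hV1, hV2, hV3, P, hP⟩ := S₁.exists_V
  have S₂ : Setup' t E E₀ V P := { S₁ with hVE₀ := hV1, hV := hV2, hVtr := hV3, hP := hP }
  have hPc : IsMulCommutative (P : Subgroup G) := hcomm _ P.isPGroup'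
  -- one class of involutions
  have hconj : ∀ v ∈ V, v ≠ 1 → ∃ g : G, g * t * g⁻¹ = v := by
    rcases S₂.dichotomy ⊤ le_top with h3 | ⟨h3, -⟩
    · exfalso
      obtain ⟨N, hN, ⟨e⟩⟩ := Cfsg.Agent.S0105.result P hPc
      have htD : t ∈ ((P : Subgroup G) ⊓ Subgroup.centralizer
          (Subgroup.normalizer (P : Set G) : Set G) : Subgroup G) := by
        refine ⟨S₂.t_mem, Subgroup.mem_centralizer_iff.2 fun n hn => ?_⟩
        have := h3 n (Subgroup.mem_top n) hn
        rwa [mul_inv_eq_iff_eq_mul] at this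
      rcases hN.eq_bot_or_eq_top with h4 | h4
      · apply hna
        refine ⟨⟨fun x y => ?_⟩⟩
        have h5 : ((x * y : G) : G ⧸ N) = ((y * x : G) : G ⧸ N) := by
          apply e.injective
          have : ((x * y : G) : G ⧸ N) = (x : G ⧸ N) * (y : G ⧸ N) := rfl
          rw [this]
          have : ((y * x : G) : G ⧸ N) = (y : G ⧸ N) * (x : G ⧸ N) := rfl
          rw [this, map_mul, map_mul]
          apply Subtype.ext
          exact comm_of hPc (e x).2.1 (e y).2.1
        rw [QuotientGroup.eq, h4, Subgroup.mem_bot, inv_mul_eq_one] at h5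
        exact h5
      · obtain ⟨a, ha⟩ := e.surjective ⟨t, htD⟩
        obtain ⟨b, hb⟩ := e.surjective 1
        have h5 : a = b := by
          obtain ⟨a', rfl⟩ := QuotientGroup.mk_surjective a
          obtain ⟨b', rfl⟩ := QuotientGroup.mk_surjective b
          rw [QuotientGroup.eq, h4]; exact Subgroup.mem_top _
        rw [h5, hb] at ha
        exact ht1 (congrArg Subtype.val ha).symm
    · intro v hv hv1
      obtain ⟨h, -, h4⟩ := h3 v (S₂.V_le hv) hv1
      exact ⟨h, h4⟩
  refine ⟨?_, ?_⟩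
  · -- `C(t)` is proper
    intro htop
    have hcen : t ∈ Subgroup.center G := by
      rw [Subgroup.mem_center_iff]
      intro g
      have : g ∈ Subgroup.centralizer ({t} : Set G) := by rw [htop]; exact Subgroup.mem_top g
      exact Subgroup.mem_centralizer_singleton_iff.1 this
    rcases (inferInstance : (Subgroup.center G).Normal).eq_bot_or_eq_top with h3 | h3
    · rw [h3, Subgroup.mem_bot] at hcen
      exact ht1 hcen
    · apply hna
      refine ⟨⟨fun x y => ?_⟩⟩
      have : y ∈ Subgroup.center G := by rw [h3]; exact Subgroup.mem_top y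
      exact Subgroup.mem_center_iff.1 this x
  · intro H hH
    by_contra hne
    rcases S₂.dichotomy H hH.le with h3 | ⟨h3, h7⟩
    · exact absurd (S₂.le_of_fixed hconj H hH.le h3) (not_le_of_gt hH)
    · have hse := S₂.strongly H hH.le hne h3
      have hPC : (P : Subgroup G) ≤ Subgroup.centralizer {t} := by
        intro x hx
        rw [Subgroup.mem_centralizer_singleton_iff]
        exact comm_of hPc hx S₂.t_mem
      have h8 : 8 ∣ Nat.card H := by
        rw [← S₂.card_P]; exact Subgroup.card_dvd_of_le (hPC.trans hH.le)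
      have h3' : 3 ∣ Nat.card H := S₂.three_dvd.trans (Subgroup.card_dvd_of_le
        ((hE₀E.trans hEC).trans hH.le))
      have h168 : 168 ∣ Nat.card H := by
        have h24 : 24 ∣ Nat.card H := by
          have := Nat.Coprime.mul_dvd_of_dvd_of_dvd (by norm_num : Nat.Coprime 8 3) h8 h3'
          exact this
        have := Nat.Coprime.mul_dvd_of_dvd_of_dvd (by norm_num : Nat.Coprime 24 7) h24 h7
        exact this
      refine bender_false (h8.trans (Subgroup.card_subgroup_dvd_card H)) ?_ H hne h168 (bender H hse)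
      intro h16
      have h9 : (2 : ℕ) ^ 4 ∣ Nat.card (P : Subgroup G) := by
        have h10 := (P : Subgroup G).card_mul_index
        have h11 : Nat.Coprime (2 ^ 4) (P : Subgroup G).index :=
          Nat.Coprime.pow_left _ ((Nat.Prime.coprime_iff_not_dvd Nat.prime_two).2 P.not_dvd_index)
        apply h11.dvd_of_dvd_mul_right
        rw [h10]; exact h16
      rw [S₂.card_P] at h9
      revert h9
      norm_num

end Cfsg.Agent.TwoFusion.AbelianJanko
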