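import Cfsg.Agent.TwoFusion.LargestSylowNormal
import Cfsg.Agent.TwoFusion.ClosedFunctor
import Cfsg.Agent.S0280
import Cfsg.Prelude.Def_Exceptional

/-!
# The centre of the normal closure of a strongly closed subgroup

Modulo Foote's theorem (S1252, here the hypothesis `Foote`): if `A` is strongly closed in a Sylow `2`-subgroup of
`G` and `Z ≤ ⟨A^G⟩` is a normal `2`-subgroup of `G` centralising `⟨A^G⟩`, then `Z ≤ A`.  Consequence: for two
disjoint strongly closed subgroups with commuting normal closures, the normal closures intersect trivially.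
-/

set_option autoImplicit false
set_option linter.style.haveILetI false

namespace Cfsg.Agent.TwoFusion.ClosedCenter

open Subgroup
open Cfsg.Agent.TwoFusion.LargestSylowNormal

universe u

/-- What is used of Foote's theorem (S1252): the normal closure of `A` is centreless. -/
def Foote (X : Type u) [Group X] [Finite X] : Prop :=
  ∀ (S : Sylow 2 X) (A : Subgroup X), Cfsg.IsStronglyClosed A (S : Subgroup X) →
    Even (A.relIndex (normalClosure (A : Set X))) →
    (∀ N : Subgroup X, N.Normal → N ≠ ⊥ → Even ((A ⊓ N).relIndex N)) →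
    ∀ z ∈ normalClosure (A : Set X), (∀ y ∈ normalClosure (A : Set X), z * y = y * z) → z = 1

/-- the centre of a product of pairwise commuting centreless groups is trivial -/
theorem center_eq_one_of_product {X : Type u} [Group X] {ι : Type*} [Finite ι] (L : ι → Subgroup X)
    (hcomm : ∀ i j, i ≠ j → ∀ a ∈ L i, ∀ b ∈ L j, a * b = b * a)
    (hcen : ∀ i, ∀ z ∈ L i, (∀ y ∈ L i, z * y = y * z) → z = 1) {z : X} (hz : z ∈ ⨆ i, L i)
    (hzc : ∀ i, ∀ y ∈ L i, z * y = y * z) : z = 1 := by
  classical
  haveI := Fintype.ofFinite ι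
  have key : ∀ J : Finset ι, z ∈ (⨆ j ∈ J, L j) → z = 1 := by
    intro J
    induction J using Finset.induction_on with
    | empty => intro h; simpa using h
    | insert i J hi ih =>
      intro h
      rw [Finset.iSup_insert] at h
      have hM : ∀ a ∈ L i, ∀ b ∈ (⨆ j ∈ J, L j), a * b = b * a := by
        intro a ha b hb
        have h : (⨆ j ∈ J, L j) ≤ centralizer ({a} : Set X) := by
          refine iSup₂_le fun j hj x hx => ?_
          rw [mem_centralizer_singleton_iff]
          exact (hcomm i j (by rintro rfl; exact hi hj) a ha x hx).symm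
        have := h hb
        rw [mem_centralizer_singleton_iff] at this
        exact this.symm
      obtain ⟨a, ha, b, hb, hab⟩ := (Cfsg.Agent.TwoFusion.ClosedFunctor.mem_sup_of_comm hM).1 h
      have ha1 : a = 1 := by
        refine hcen i a ha fun y hy => ?_
        have h1 := hzc i y hy
        rw [hab] at h1
        have h2 := hM y hy b hb
        have h3 : a * y * b = y * a * b := by
          calc a * y * b = a * (y * b) := by group
            _ = a * (b * y) := by rw [h2]
            _ = a * b * y := by group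
            _ = y * (a * b) := h1
            _ = y * a * b := by group
        exact mul_right_cancel h3
      refine ih ?_
      rw [hab, ha1, one_mul]
      exact hb
  refine key Finset.univ ?_
  simpa using hz

/-- S1252 implies `Foote`. -/
theorem foote_of_product {X : Type u} [Group X] [Finite X] {K : Subgroup X} {r : ℕ} (L : Fin r → Subgroup X)
    (hcomm : ∀ i j, i ≠ j → ∀ a ∈ L i, ∀ b ∈ L j, a * b = b * a) (hsup : (⨆ i, L i) = K)
    (hsimp : ∀ i, IsSimpleGroup (L i)) (hna : ∀ i, ∃ a b : L i, a * b ≠ b * a) {z : X} (hz : z ∈ K)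
    (hzc : ∀ y ∈ K, z * y = y * z) : z = 1 := by
  subst hsup
  refine center_eq_one_of_product L hcomm ?_ hz fun i y hy => hzc y (le_iSup L i hy)
  intro i w hw hwc
  haveI := hsimp i
  rcases (inferInstance : (center (L i)).Normal).eq_bot_or_eq_top with h | h
  · have : (⟨w, hw⟩ : L i) ∈ center (L i) := by
      rw [mem_center_iff]
      rintro ⟨y, hy⟩
      exact Subtype.ext (hwc y hy).symm
    rw [h, mem_bot] at this
    exact congrArg Subtype.val this
  · exfalso
    obtain ⟨a, b, hab⟩ := hna i
    have : b ∈ center (L i) := by rw [h]; exact mem_top b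
    rw [mem_center_iff] at this
    exact hab (this a)

variable {G : Type u} [Group G] [Finite G]

/-- **The centre of `⟨A^G⟩` lies in `A`** (2-part). -/
theorem le_of_centralizes (hF : ∀ (X : Type u) [Group X] [Finite X], Foote X) (S : Sylow 2 G) (A : Subgroup G)
    (hA : Cfsg.IsStronglyClosed A (S : Subgroup G)) {Z : Subgroup G} [Z.Normal] (hZ2 : IsPGroup 2 Z)
    (hZ : Z ≤ normalClosure (A : Set G))
    (hZc : ∀ z ∈ Z, ∀ y ∈ normalClosure (A : Set G), z * y = y * z) : Z ≤ A := by
  obtain ⟨N₀, hN₀n, hodd, hmax⟩ := exists_largest A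
  have hA2 : IsPGroup 2 A := S.2.to_le hA.1
  set π := QuotientGroup.mk' N₀ with hπ
  have hsurj : Function.Surjective π := QuotientGroup.mk'_surjective N₀
  have hclmap : (normalClosure (A : Set G)).map π = normalClosure ((A.map π : Subgroup (G ⧸ N₀)) : Set (G ⧸ N₀)) := by
    rw [Subgroup.map_normalClosure _ _ hsurj, Subgroup.coe_map]
  -- `Z ≤ N₀`
  have hZN : Z ≤ N₀ := by
    by_cases hAN : A ≤ N₀
    · exact hZ.trans (normalClosure_le_normal hAN)
    let S' : Sylow 2 (G ⧸ N₀) := S.mapSurjective hsurj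
    have hS' : (S' : Subgroup (G ⧸ N₀)) = (S : Subgroup G).map π := rfl
    have hA' : Cfsg.IsStronglyClosed (A.map π) (S' : Subgroup (G ⧸ N₀)) := by
      rw [hS']
      exact Cfsg.Agent.S1250.result S A hA N₀
    have hev : ∀ M : Subgroup (G ⧸ N₀), M.Normal → M ≠ ⊥ → Even ((A.map π).relIndex M) := by
      intro M hM hM1
      exact even_relIndex_quotient A hodd hmax M hM hM1
    have hne : normalClosure ((A.map π : Subgroup (G ⧸ N₀)) : Set (G ⧸ N₀)) ≠ ⊥ := by
      intro h
      refine hAN ?_
      have : A.map π ≤ ⊥ := by rw [← h]; exact subset_normalClosure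
      rw [le_bot_iff, Subgroup.map_eq_bot_iff, hπ, QuotientGroup.ker_mk'] at this
      exact this
    intro z hz
    have h1 : π z = 1 := by
      refine hF (G ⧸ N₀) S' (A.map π) hA' (hev _ inferInstance hne) ?_ (π z) ?_ ?_
      · intro M hM hM1
        rw [inf_relIndex_right]
        exact hev M hM hM1
      · rw [← hclmap]
        exact mem_map_of_mem π (hZ hz)
      · rw [← hclmap]
        rintro _ ⟨y, hy, rfl⟩
        rw [← map_mul, ← map_mul, hZc z hz y hy]
    rw [hπ, QuotientGroup.mk'_apply, QuotientGroup.eq_one_iff] at h1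
    exact h1
  exact le_of_isPGroup hA2 hZ2 hZN hodd

/-- **Part C2 of S1171**: two disjoint strongly closed subgroups whose normal closures commute have disjoint
normal closures. -/
theorem inf_eq_bot (hF : ∀ (X : Type u) [Group X] [Finite X], Foote X) (hO : Cfsg.oddCore G = ⊥) (S : Sylow 2 G)
    (A B : Subgroup G) (hA : Cfsg.IsStronglyClosed A (S : Subgroup G))
    (hB : Cfsg.IsStronglyClosed B (S : Subgroup G)) (hdisj : A ⊓ B = ⊥)
    (hc : ⁅normalClosure (A : Set G), normalClosure (B : Set G)⁆ = ⊥) :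
    normalClosure (A : Set G) ⊓ normalClosure (B : Set G) = ⊥ := by
  set Z := normalClosure (A : Set G) ⊓ normalClosure (B : Set G) with hZ
  have hcomm : ∀ x ∈ normalClosure (A : Set G), ∀ y ∈ normalClosure (B : Set G), x * y = y * x := by
    intro x hx y hy
    have h := Subgroup.commutator_mem_commutator hx hy
    rw [hc, mem_bot, commutatorElement_eq_one_iff_mul_comm] at h
    exact h
  haveI : Z.Normal := by rw [hZ]; infer_instance
  have hZ2 : IsPGroup 2 Z := isPGroup_of_abelian_normal hO fun x hx y hy => hcomm x hx.1 y hy.2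
  have hZA : Z ≤ A := le_of_centralizes hF S A hA hZ2 inf_le_left
    fun z hz y hy => (hcomm y hy z hz.2).symm
  have hZB : Z ≤ B := le_of_centralizes hF S B hB hZ2 inf_le_right
    fun z hz y hy => hcomm z hz.1 y hy
  rw [eq_bot_iff, ← hdisj]
  exact le_inf hZA hZB

theorem exists_not_comm {X : Type*} [Group X] [Finite X] [IsSimpleGroup X] (h4 : 4 ∣ Nat.card X) :
    ∃ a b : X, a * b ≠ b * a := by
  by_contra hcon
  push Not at hcon
  letI : CommGroup X := { (inferInstance : Group X) with mul_comm := hcon }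
  have h : (Nat.card X).Prime := IsSimpleGroup.prime_card
  have h2 : 2 ∣ Nat.card X := dvd_trans (by norm_num) h4
  rw [Nat.prime_dvd_prime_iff_eq Nat.prime_two h] at h2
  rw [← h2] at h4
  exact absurd (Nat.le_of_dvd (by norm_num) h4) (by norm_num)

theorem four_dvd_card_PSU {F : Type*} [Field F] [Fintype F] {q : ℕ} (hF : Fintype.card F = q ^ 2) (hq : Even q)
    (hq4 : 4 ≤ q) : 4 ∣ Nat.card (Cfsg.PSU 3 F q) := by
  have h := Cfsg.Agent.S0280.result hF 3 (by norm_num)
  have h8 : 4 ∣ Nat.gcd 3 (q + 1) * ((q + 1) * Nat.card (Cfsg.PSU 3 F q)) := by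
    rw [h]
    refine dvd_mul_of_dvd_left ?_ _
    obtain ⟨k, rfl⟩ := hq
    refine ⟨(k + k) * k * k, ?_⟩
    norm_num
    ring
  have hodd : Nat.Coprime 4 (Nat.gcd 3 (q + 1) * (q + 1)) := by
    have h1 : Odd (q + 1) := hq.add_one
    have h2 : Odd (Nat.gcd 3 (q + 1)) := Odd.of_dvd_nat (by decide : Odd 3) (Nat.gcd_dvd_left _ _)
    have h3 : Nat.Coprime 2 (Nat.gcd 3 (q + 1) * (q + 1)) := Nat.coprime_two_left.2 (h2.mul h1)
    exact Nat.Coprime.pow_left 2 h3
  rw [← mul_assoc] at h8
  exact hodd.dvd_of_dvd_mul_left h8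

/-- Foote's theorem (the statement of S1252) implies `Foote`. -/
theorem foote_of {X : Type u} [Group X] [Finite X]
    (h : ∀ (S : Sylow 2 X) (A : Subgroup X), Cfsg.IsStronglyClosed A (S : Subgroup X) →
      Even (A.relIndex (normalClosure (A : Set X))) →
      (∀ N : Subgroup X, N.Normal → N ≠ ⊥ → Even ((A ⊓ N).relIndex N)) →
      ∃ (r : ℕ) (L : Fin r → Subgroup X), (∀ i j, i ≠ j → ∀ a ∈ L i, ∀ b ∈ L j, a * b = b * a) ∧
        (⨆ i, L i) = normalClosure (A : Set X) ∧
        (∀ i, IsSimpleGroup ↥(L i) ∧ ((∃ (F : Type) (_ : Field F) (_ : Fintype F) (q : ℕ),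
          Fintype.card F = q ^ 2 ∧ Even q ∧ 4 ≤ q ∧ Nonempty (↥(L i) ≃* Cfsg.PSU 3 F q)) ∨
          Cfsg.IsSuzuki ↥(L i)))) : Foote X := by
  intro S A hA hev hN z hz hzc
  obtain ⟨r, L, hcomm, hsup, hL⟩ := h S A hA hev hN
  refine foote_of_product L hcomm hsup (fun i => (hL i).1) (fun i => ?_) hz hzc
  haveI := (hL i).1
  refine exists_not_comm ?_
  rcases (hL i).2 with ⟨F, _, _, q, hF, hq, hq4, ⟨e⟩⟩ | ⟨-, m, hm, hcard⟩
  · rw [Nat.card_congr e.toEquiv]
    exact four_dvd_card_PSU hF hq hq4
  · rw [hcard]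
    refine dvd_mul_of_dvd_left (dvd_mul_of_dvd_left ?_ _) _
    rw [← pow_mul]
    exact pow_dvd_pow 2 (show 2 ≤ (2 * m + 1) * 2 by omega)

end Cfsg.Agent.TwoFusion.ClosedCenter
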