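import Cfsg.Prelude.Def_TwoFusion
import Cfsg.Prelude.Def_CaseTheorems
import Cfsg.Agent.TwoFusion.TransferIndex
import Cfsg.Agent.Lib.Cores

/-!
# Product fusion: from commuting normal closures to a direct product

Let `S = S₁ × S₂` be a Sylow 2-subgroup, `S₁`, `S₂` strongly closed, `N₁`, `N₂` their normal closures.
If `[N₁, N₂] = 1` and `N₁ N₂ = G`, then `S ∩ Nᵢ = Sᵢ` (transfer); if moreover `O(G) = 1`, then
`N₁ ∩ N₂ = 1`.
-/

set_option autoImplicit false

namespace Cfsg.Agent.TwoFusion.ProdFromComm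

open Subgroup
open scoped commutatorElement

variable {G : Type*} [Group G]

/-- Elementwise commuting from a trivial commutator subgroup. -/
theorem comm_of_commutator_eq_bot {A B : Subgroup G} (h : ⁅A, B⁆ = ⊥) :
    ∀ a ∈ A, ∀ b ∈ B, a * b = b * a := by
  intro a ha b hb
  have h1 := Subgroup.commutator_mem_commutator ha hb
  rw [h, Subgroup.mem_bot] at h1
  exact commutatorElement_eq_one_iff_mul_comm.mp h1

/-- Elements of an internal direct product are products. -/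
theorem exists_mul_of_prod {S₁ S₂ S : Subgroup G}
    (hprod : Cfsg.IsInternalDirectProduct S₁ S₂ S) :
    ∀ x ∈ S, ∃ a ∈ S₁, ∃ b ∈ S₂, a * b = x := by
  obtain ⟨hS₁, hS₂, hcomm, hdisj, hsup⟩ := hprod
  intro x hx
  have hcc : ∀ (m : S₁) (n : S₂), Commute (S₁.subtype m) (S₂.subtype n) :=
    fun m n => hcomm m m.2 n n.2
  have hr : (MonoidHom.noncommCoprod S₁.subtype S₂.subtype hcc).range = S₁ ⊔ S₂ := by
    rw [MonoidHom.noncommCoprod_range, Subgroup.range_subtype, Subgroup.range_subtype]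
  rw [← hsup, ← hr] at hx
  obtain ⟨⟨a, b⟩, h⟩ := hx
  exact ⟨a, a.2, b, b.2, h⟩

/-- The transfer step: `S ∩ N₁ = S₁`. -/
theorem sylow_inf_normalClosure_eq [Finite G] (S : Sylow 2 G) {S₁ S₂ : Subgroup G}
    (hprod : Cfsg.IsInternalDirectProduct S₁ S₂ (S : Subgroup G))
    (hcl₁ : Cfsg.IsStronglyClosed S₁ (S : Subgroup G))
    (hc : ⁅normalClosure (S₁ : Set G), normalClosure (S₂ : Set G)⁆ = ⊥)
    (htop : normalClosure (S₁ : Set G) ⊔ normalClosure (S₂ : Set G) = ⊤) :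
    (S : Subgroup G) ⊓ normalClosure (S₁ : Set G) = S₁ := by
  have hmul := exists_mul_of_prod hprod
  obtain ⟨hS₁, hS₂, hcomm, hdisj, hsup⟩ := hprod
  have hcomm' := comm_of_commutator_eq_bot hc
  set N₁ := normalClosure (S₁ : Set G) with hN₁
  set N₂ := normalClosure (S₂ : Set G) with hN₂
  have hN₁n : N₁.Normal := normalClosure_normal
  have hle₁ : S₁ ≤ N₁ := le_normalClosure
  have hle₂ : S₂ ≤ N₂ := le_normalClosure
  have : Fact (Nat.Prime 2) := ⟨Nat.prime_two⟩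
  -- the Sylow subgroup of `N₁`
  have hPp : IsPGroup 2 ((S : Subgroup G).subgroupOf N₁) :=
    S.isPGroup'.comap_of_injective _ N₁.subtype_injective
  have hPi : ¬ 2 ∣ ((S : Subgroup G).subgroupOf N₁).index := by
    have h := TransferIndex.not_dvd_relIndex_inf S N₁
    rwa [inf_comm, inf_relIndex_right, relIndex] at h
  set P : Sylow 2 N₁ := hPp.toSylow hPi with hP
  have hPS : (P : Subgroup N₁) = (S : Subgroup G).subgroupOf N₁ := rfl
  have hD : S₁.subgroupOf N₁ ≤ (P : Subgroup N₁) := by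
    rw [hPS]; exact comap_mono hS₁
  obtain ⟨K, hK, hKi, hKP⟩ := TransferIndex.exists_normal_of_fusion P (S₁.subgroupOf N₁) hD (by
    intro s hs g hg
    have hs' : (s : G) ∈ (S : Subgroup G) := hs
    obtain ⟨a, ha, b, hb, hab⟩ := hmul _ hs'
    have hg' : (g : G) * s * (g : G)⁻¹ ∈ (S : Subgroup G) := hg
    have hgb : (g : G) * b = b * g := hcomm' _ g.2 _ (hle₂ hb)
    have hconj : (g : G) * s * (g : G)⁻¹ = ((g : G) * a * (g : G)⁻¹) * b := by
      rw [← hab]
      calc (g : G) * (a * b) * (g : G)⁻¹ = g * a * (b * (g : G)⁻¹) := by group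
        _ = g * a * ((g : G)⁻¹ * b) := by
            congr 1
            have : b * (g : G)⁻¹ = (g : G)⁻¹ * b := by
              rw [eq_inv_mul_iff_mul_eq, ← mul_assoc, hgb, mul_assoc, mul_inv_cancel, mul_one]
            exact this
        _ = (g : G) * a * (g : G)⁻¹ * b := by group
    have h1 : (g : G) * a * (g : G)⁻¹ ∈ (S : Subgroup G) := by
      rw [hconj] at hg'
      exact (Subgroup.mul_mem_cancel_right _ (hS₂ hb)).mp hg'
    have h2 : (g : G) * a * (g : G)⁻¹ ∈ S₁ := hcl₁.2 a ha g h1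
    rw [mem_subgroupOf]
    have h3 : ((s⁻¹ * (g * s * g⁻¹) : N₁) : G) = a⁻¹ * ((g : G) * a * (g : G)⁻¹) := by
      have h4 : ((s⁻¹ * (g * s * g⁻¹) : N₁) : G) = (s : G)⁻¹ * ((g : G) * s * (g : G)⁻¹) := rfl
      rw [h4, hconj, ← hab]
      have h5 : (a * b)⁻¹ = a⁻¹ * b⁻¹ := by rw [← hcomm a ha b hb |>.symm, mul_inv_rev]
      rw [h5]
      have h6 : ((g : G) * a * (g : G)⁻¹) * b = b * ((g : G) * a * (g : G)⁻¹) :=
        hcomm _ h2 _ hb
      rw [h6]; group
    rw [h3]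
    exact mul_mem (inv_mem ha) h2)
  -- `K` is normal in `G`
  have hKn : (K.map N₁.subtype).Normal := by
    refine ⟨?_⟩
    rintro _ ⟨k, hk, rfl⟩ g
    have hg : g ∈ N₁ ⊔ N₂ := by rw [htop]; trivial
    rw [sup_comm] at hg
    have : N₂.Normal := normalClosure_normal
    obtain ⟨y, hy, x, hx, rfl⟩ := Subgroup.mem_sup_of_normal_left.mp hg
    have h1 : x * (N₁.subtype k) * x⁻¹ ∈ K.map N₁.subtype :=
      ⟨⟨x, hx⟩ * k * ⟨x, hx⟩⁻¹, hK.conj_mem k hk ⟨x, hx⟩, rfl⟩
    have h2 : x * (N₁.subtype k) * x⁻¹ ∈ N₁ := map_subtype_le _ h1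
    have h3 : y * x * (N₁.subtype k) * (y * x)⁻¹ = x * (N₁.subtype k) * x⁻¹ := by
      have h4 := hcomm' _ h2 _ hy
      calc y * x * (N₁.subtype k) * (y * x)⁻¹ = y * (x * (N₁.subtype k) * x⁻¹) * y⁻¹ := by group
        _ = x * (N₁.subtype k) * x⁻¹ := by rw [← h4, mul_assoc, mul_inv_cancel, mul_one]
    rw [h3]; exact h1
  have hKtop : K = ⊤ := by
    have h1 : S₁ ≤ K.map N₁.subtype := by
      intro a ha
      have h2 : (⟨a, hle₁ ha⟩ : N₁) ∈ K ⊓ P := by rw [hKP]; exact ha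
      exact ⟨⟨a, hle₁ ha⟩, h2.1, rfl⟩
    have h2 : N₁ ≤ K.map N₁.subtype := normalClosure_le_normal h1
    rw [eq_top_iff]
    intro x _
    obtain ⟨k, hk, hkx⟩ := h2 x.2
    have : k = x := Subtype.ext hkx
    rw [← this]; exact hk
  rw [hKtop, top_inf_eq] at hKP
  apply le_antisymm
  · rintro x ⟨hxS, hxN⟩
    have h1 : (⟨x, hxN⟩ : N₁) ∈ (P : Subgroup N₁) := hxS
    rw [hKP] at h1
    exact h1
  · exact le_inf hS₁ hle₁

/-- Symmetry of `IsInternalDirectProduct`. -/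
theorem prod_symm {S₁ S₂ S : Subgroup G} (h : Cfsg.IsInternalDirectProduct S₁ S₂ S) :
    Cfsg.IsInternalDirectProduct S₂ S₁ S := by
  obtain ⟨hS₁, hS₂, hcomm, hdisj, hsup⟩ := h
  exact ⟨hS₂, hS₁, fun a ha b hb => (hcomm b hb a ha).symm, by rw [inf_comm, hdisj],
    by rw [sup_comm, hsup]⟩

/-- The intersection of the two normal closures is trivial. -/
theorem normalClosure_inf_eq_bot [Finite G] (hO : Cfsg.oddCore G = ⊥) (S : Sylow 2 G)
    {S₁ S₂ : Subgroup G}
    (hprod : Cfsg.IsInternalDirectProduct S₁ S₂ (S : Subgroup G))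
    (hcl₁ : Cfsg.IsStronglyClosed S₁ (S : Subgroup G))
    (hcl₂ : Cfsg.IsStronglyClosed S₂ (S : Subgroup G))
    (hc : ⁅normalClosure (S₁ : Set G), normalClosure (S₂ : Set G)⁆ = ⊥)
    (htop : normalClosure (S₁ : Set G) ⊔ normalClosure (S₂ : Set G) = ⊤) :
    normalClosure (S₁ : Set G) ⊓ normalClosure (S₂ : Set G) = ⊥ := by
  have h1 := sylow_inf_normalClosure_eq S hprod hcl₁ hc htop
  have h2 := sylow_inf_normalClosure_eq S (prod_symm hprod) hcl₂
    (by rw [commutator_comm, hc]) (by rw [sup_comm, htop])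
  have : Fact (Nat.Prime 2) := ⟨Nat.prime_two⟩
  set N₁ := normalClosure (S₁ : Set G) with hN₁
  set N₂ := normalClosure (S₂ : Set G) with hN₂
  have hN₁n : N₁.Normal := normalClosure_normal
  have hN₂n : N₂.Normal := normalClosure_normal
  have h3 : (N₁ ⊓ N₂) ⊓ (S : Subgroup G) = ⊥ := by
    rw [eq_bot_iff, ← hprod.2.2.2.1]
    rintro x ⟨⟨hx1, hx2⟩, hxS⟩
    refine ⟨?_, ?_⟩
    · rw [← h1]; exact ⟨hxS, hx1⟩
    · rw [← h2]; exact ⟨hxS, hx2⟩
  have h4 := TransferIndex.not_dvd_relIndex_inf S (N₁ ⊓ N₂)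
  rw [h3, relIndex_bot_left] at h4
  rw [eq_bot_iff, ← hO]
  refine Cfsg.Agent.Lib.Cores.le_pPrimeCore inferInstance ?_
  rw [Nat.coprime_comm]
  exact (Nat.Prime.coprime_iff_not_dvd Nat.prime_two).2 h4

/-- The conclusion of the dihedral-by-dihedral product theorem, from the commutator statement. -/
theorem product_of_commutator [Finite G] (hO : Cfsg.oddCore G = ⊥)
    (hO' : ∀ N : Subgroup G, N.Normal → Odd N.index → N = ⊤) (S : Sylow 2 G)
    {S₁ S₂ : Subgroup G}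
    (hprod : Cfsg.IsInternalDirectProduct S₁ S₂ (S : Subgroup G))
    (hcl₁ : Cfsg.IsStronglyClosed S₁ (S : Subgroup G))
    (hcl₂ : Cfsg.IsStronglyClosed S₂ (S : Subgroup G))
    (hc : ⁅normalClosure (S₁ : Set G), normalClosure (S₂ : Set G)⁆ = ⊥) :
    Cfsg.IsInternalDirectProduct (normalClosure (S₁ : Set G)) (normalClosure (S₂ : Set G)) ⊤ ∧
      Odd (S₁.relIndex (normalClosure (S₁ : Set G))) ∧
      Odd (S₂.relIndex (normalClosure (S₂ : Set G))) := by
  have hodd : Odd (S : Subgroup G).index := by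
    rw [← Nat.not_even_iff_odd, even_iff_two_dvd]; exact S.not_dvd_index
  set N₁ := normalClosure (S₁ : Set G) with hN₁
  set N₂ := normalClosure (S₂ : Set G) with hN₂
  have hN₁n : N₁.Normal := normalClosure_normal
  have hN₂n : N₂.Normal := normalClosure_normal
  have hle₁ : S₁ ≤ N₁ := le_normalClosure
  have hle₂ : S₂ ≤ N₂ := le_normalClosure
  have hSle : (S : Subgroup G) ≤ N₁ ⊔ N₂ := by
    rw [← hprod.2.2.2.2]; exact sup_le_sup hle₁ hle₂
  have htop : N₁ ⊔ N₂ = ⊤ := by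
    apply hO' _ (Subgroup.sup_normal N₁ N₂)
    exact Odd.of_dvd_nat hodd (Subgroup.index_dvd_of_le hSle)
  have hi := normalClosure_inf_eq_bot hO S hprod hcl₁ hcl₂ hc htop
  have h1 := sylow_inf_normalClosure_eq S hprod hcl₁ hc htop
  have h2 := sylow_inf_normalClosure_eq S (prod_symm hprod) hcl₂
    (by rw [commutator_comm, hc]) (by rw [sup_comm, htop])
  have : Fact (Nat.Prime 2) := ⟨Nat.prime_two⟩
  refine ⟨⟨le_top, le_top, comm_of_commutator_eq_bot hc, hi, htop⟩, ?_, ?_⟩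
  · have h := TransferIndex.not_dvd_relIndex_inf S N₁
    rw [inf_comm, h1] at h
    rwa [← Nat.not_even_iff_odd, even_iff_two_dvd]
  · have h := TransferIndex.not_dvd_relIndex_inf S N₂
    rw [inf_comm, h2] at h
    rwa [← Nat.not_even_iff_odd, even_iff_two_dvd]

end Cfsg.Agent.TwoFusion.ProdFromComm
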