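import Mathlib
import Cfsg.Agent.TwoFusion.QDBasic

/-!
The cyclic maximal subgroup and the derived subgroup of a quasi-dihedral 2-group.
-/

set_option autoImplicit false

namespace Cfsg.Agent.TwoFusion.QDMax

/-- A subgroup of index two is a coatom. -/
theorem isCoatom_of_index_two {G : Type*} [Group G] (N : Subgroup G) (h : N.index = 2) :
    IsCoatom N := by
  constructor
  · rintro rfl
    rw [Subgroup.index_top] at h
    omega
  · intro K hK
    have h1 := Subgroup.relIndex_mul_index hK.le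
    have h2 : N.relIndex K ≠ 1 := by
      rw [ne_eq, Subgroup.relIndex_eq_one]
      exact fun hle => absurd hle (not_le_of_gt hK)
    rw [h] at h1
    have h3 : N.relIndex K ∣ 2 := ⟨_, h1.symm⟩
    rcases (Nat.dvd_prime Nat.prime_two).1 h3 with h4 | h4
    · exact absurd h4 h2
    · rw [h4] at h1
      exact Subgroup.index_eq_one.1 (by omega)

end Cfsg.Agent.TwoFusion.QDMax

namespace Cfsg.Agent.TwoFusion.QDBasic

open Cfsg.Agent.TwoFusion.QDMax

namespace IsQDCoord

variable {S : Type*} [Group S] {n : ℕ} {u : ZMod (2 ^ n) → S} {y : S}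

/-- The cyclic maximal subgroup. -/
def cyc (h : IsQDCoord n u y) : Subgroup S where
  carrier := {s | ∃ a, s = u a}
  one_mem' := ⟨0, h.u_zero.symm⟩
  mul_mem' := by
    rintro _ _ ⟨a, rfl⟩ ⟨b, rfl⟩
    exact ⟨a + b, h.u_mul a b⟩
  inv_mem' := by
    rintro _ ⟨a, rfl⟩
    exact ⟨-a, h.u_inv a⟩

theorem mem_cyc (h : IsQDCoord n u y) (s : S) : s ∈ h.cyc ↔ ∃ a, s = u a := Iff.rfl

theorem u_mem_cyc (h : IsQDCoord n u y) (a : ZMod (2 ^ n)) : u a ∈ h.cyc := ⟨a, rfl⟩

theorem uy_not_mem_cyc (h : IsQDCoord n u y) (a : ZMod (2 ^ n)) : u a * y ∉ h.cyc := by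
  rintro ⟨c, e⟩
  exact h.u_ne c a e.symm

theorem not_mem_cyc (h : IsQDCoord n u y) (s : S) : s ∉ h.cyc ↔ ∃ a, s = u a * y := by
  constructor
  · intro hs
    rcases h.cases s with e | e
    · exact absurd e hs
    · exact e
  · rintro ⟨a, rfl⟩
    exact h.uy_not_mem_cyc a

/-- The cyclic maximal subgroup is isomorphic to `ZMod (2 ^ n)`. -/
noncomputable def cycEquiv (h : IsQDCoord n u y) :
    Multiplicative (ZMod (2 ^ n)) ≃* h.cyc :=
  MulEquiv.ofBijective
    ({ toFun := fun p => ⟨u (Multiplicative.toAdd p), h.u_mem_cyc _⟩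
       map_one' := Subtype.ext h.u_zero
       map_mul' := fun p q => Subtype.ext (h.u_mul _ _).symm } :
      Multiplicative (ZMod (2 ^ n)) →* h.cyc)
    (by
      constructor
      · intro p q e
        exact Multiplicative.toAdd.injective (h.u_inj _ _ (congrArg Subtype.val e))
      · rintro ⟨s, a, rfl⟩
        exact ⟨Multiplicative.ofAdd a, rfl⟩)

theorem cyc_isCyclic (h : IsQDCoord n u y) : IsCyclic h.cyc :=
  isCyclic_of_surjective h.cycEquiv h.cycEquiv.surjective

theorem card_cyc (h : IsQDCoord n u y) : Nat.card h.cyc = 2 ^ n := by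
  rw [← Nat.card_congr h.cycEquiv.toEquiv, Nat.card_congr Multiplicative.toAdd, Nat.card_zmod]

theorem index_cyc (h : IsQDCoord n u y) : h.cyc.index = 2 := by
  have h1 := h.cyc.card_mul_index
  rw [h.card_cyc, h.card, pow_succ] at h1
  exact Nat.eq_of_mul_eq_mul_left (by positivity) h1

theorem cyc_normal (h : IsQDCoord n u y) : h.cyc.Normal :=
  Subgroup.normal_of_index_eq_two h.index_cyc

/-- A subgroup with an odd element contains the cyclic maximal subgroup. -/
theorem cyc_le_of_odd_mem (h : IsQDCoord n u y) (N : Subgroup S) (b : ZMod (2 ^ n))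
    (hb : u (2 * b + 1) ∈ N) : h.cyc ≤ N := by
  rintro s ⟨a, rfl⟩
  obtain ⟨c, hc⟩ := (isUnit_odd n b).exists_right_inv
  have h1 := N.pow_mem hb (c * a).val
  rw [h.u_pow, ZMod.natCast_zmod_val] at h1
  have h2 : c * a * (2 * b + 1) = a := by
    calc c * a * (2 * b + 1) = ((2 * b + 1) * c) * a := by ring
      _ = a := by rw [hc, one_mul]
  rwa [h2] at h1

/-- Even elements form a subgroup. -/
def evenCyc (h : IsQDCoord n u y) : Subgroup S where
  carrier := {s | ∃ a, s = u (2 * a)}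
  one_mem' := ⟨0, by rw [mul_zero, h.u_zero]⟩
  mul_mem' := by
    rintro _ _ ⟨a, rfl⟩ ⟨b, rfl⟩
    exact ⟨a + b, by rw [h.u_mul]; congr 1; ring⟩
  inv_mem' := by
    rintro _ ⟨a, rfl⟩
    exact ⟨-a, by rw [h.u_inv]; congr 1; ring⟩

theorem mem_evenCyc (h : IsQDCoord n u y) (s : S) : s ∈ h.evenCyc ↔ ∃ a, s = u (2 * a) := Iff.rfl

/-- `2 ^ (n - 1) = 2 * 2 ^ (n - 2)`. -/
theorem half_eq (h : IsQDCoord n u y) : (2 : ZMod (2 ^ n)) ^ (n - 1) = 2 * 2 ^ (n - 2) := by
  have h4 : n - 1 = (n - 2) + 1 := by have := h.three_le; omega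
  rw [h4, pow_succ']

/-- `1 - 2 ^ (n - 2)` is a unit. -/
theorem isUnit_one_sub (h : IsQDCoord n u y) : IsUnit (1 - (2 : ZMod (2 ^ n)) ^ (n - 2)) := by
  have h4 : n - 2 = (n - 3) + 1 := by have := h.three_le; omega
  have h5 : 1 - (2 : ZMod (2 ^ n)) ^ (n - 2) = 2 * (-2 ^ (n - 3)) + 1 := by
    rw [h4, pow_succ']; ring
  rw [h5]
  exact isUnit_odd n _

/-- A normal subgroup (or just a subgroup normalized by the cyclic maximal subgroup) with an
element outside the cyclic maximal subgroup contains all even elements. -/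
theorem evenCyc_le_of_outer_mem (h : IsQDCoord n u y) (N : Subgroup S) (c : ZMod (2 ^ n))
    (hN : u 1 * (u c * y) * (u 1)⁻¹ ∈ N) (hc : u c * y ∈ N) : h.evenCyc ≤ N := by
  have h1 := N.mul_mem hN (N.inv_mem hc)
  have h2 : u 1 * (u c * y) * (u 1)⁻¹ * (u c * y)⁻¹ = u (2 * (1 - 2 ^ (n - 2))) := by
    rw [h.u_conj_uy, mul_one]
    have h3 : u (c + (2 - 2 ^ (n - 1))) * y * (u c * y)⁻¹ =
        u (c + (2 - 2 ^ (n - 1))) * (u c)⁻¹ := by group
    rw [h3, h.u_inv, h.u_mul, h.half_eq]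
    congr 1; ring
  rw [h2] at h1
  obtain ⟨v, hv⟩ := h.isUnit_one_sub.exists_right_inv
  rintro s ⟨a, rfl⟩
  have h4 := N.pow_mem h1 (v * a).val
  rw [h.u_pow, ZMod.natCast_zmod_val] at h4
  have h5 : v * a * (2 * (1 - 2 ^ (n - 2))) = 2 * a := by
    calc v * a * (2 * (1 - 2 ^ (n - 2))) = 2 * a * ((1 - 2 ^ (n - 2)) * v) := by ring
      _ = 2 * a := by rw [hv, mul_one]
  rwa [h5] at h4

theorem evenCyc_normal (h : IsQDCoord n u y) : h.evenCyc.Normal := by
  constructor
  rintro _ ⟨a, rfl⟩ g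
  rcases h.cases g with ⟨c, rfl⟩ | ⟨c, rfl⟩
  · exact ⟨a, h.u_conj_u _ _⟩
  · refine ⟨(2 ^ (n - 1) - 1) * a, ?_⟩
    rw [h.uy_conj_u]; congr 1; ring

/-- The derived subgroup consists of the even elements. -/
theorem commutator_eq (h : IsQDCoord n u y) : commutator S = h.evenCyc := by
  apply le_antisymm
  · rw [commutator_def, Subgroup.commutator_le]
    rintro g - k -
    rw [commutatorElement_def]
    rcases h.cases g with ⟨a, rfl⟩ | ⟨a, rfl⟩ <;> rcases h.cases k with ⟨b, rfl⟩ | ⟨b, rfl⟩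
    · refine ⟨0, ?_⟩
      rw [h.u_conj_u, mul_inv_cancel, mul_zero, h.u_zero]
    · refine ⟨(1 - 2 ^ (n - 2)) * a, ?_⟩
      rw [h.u_conj_uy]
      have h3 : u (b + (2 - 2 ^ (n - 1)) * a) * y * (u b * y)⁻¹ =
        u (b + (2 - 2 ^ (n - 1)) * a) * (u b)⁻¹ := by group
      rw [h3, h.u_inv, h.u_mul, h.half_eq]
      congr 1; ring
    · refine ⟨(2 ^ (n - 2) - 1) * b, ?_⟩
      rw [h.uy_conj_u, h.u_inv, h.u_mul, h.half_eq]
      congr 1; ring
    · have h3 : (u a * y) * (u b * y) * (u a * y)⁻¹ * (u b * y)⁻¹ =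
        ((u a * y) * (u b * y)) * ((u b * y) * (u a * y))⁻¹ := by group
      refine ⟨(1 - 2 ^ (n - 2)) * (a - b), ?_⟩
      rw [h3, h.uy_mul_uy, h.uy_mul_uy, h.u_inv, h.u_mul, h.half_eq]
      congr 1; ring
  · have hnorm : (commutator S).Normal := inferInstance
    rintro s ⟨a, rfl⟩
    obtain ⟨v, hv⟩ := h.isUnit_one_sub.exists_right_inv
    have h1 : u (v * a) * y * (u (v * a))⁻¹ * y⁻¹ ∈ commutator S := by
      rw [← commutatorElement_def]
      exact Subgroup.commutator_mem_commutator (Subgroup.mem_top _) (Subgroup.mem_top _)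
    have h2 : u (v * a) * y * (u (v * a))⁻¹ * y⁻¹ = u (2 * a) := by
      have h3 := h.u_conj_uy (v * a) 0
      rw [h.u_zero, one_mul, zero_add] at h3
      rw [h3, mul_assoc, mul_inv_cancel, mul_one]
      congr 1
      rw [h.half_eq]
      linear_combination (2 * a) * hv
    rwa [h2] at h1

theorem mem_commutator_iff (h : IsQDCoord n u y) (s : S) :
    s ∈ commutator S ↔ ∃ a, s = u (2 * a) := by
  rw [h.commutator_eq]; exact Iff.rfl

theorem commutator_le_of_outer_mem (h : IsQDCoord n u y) (N : Subgroup S) [hN : N.Normal]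
    (c : ZMod (2 ^ n)) (hc : u c * y ∈ N) : commutator S ≤ N := by
  rw [h.commutator_eq]
  exact h.evenCyc_le_of_outer_mem N c (hN.conj_mem _ hc _) hc

end IsQDCoord

end Cfsg.Agent.TwoFusion.QDBasic
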