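import Cfsg.Agent.Lib.GoldschmidtFusion
import Cfsg.Prelude.Def_TwoFusion

/-!
# The normalizer of an abelian strongly closed subgroup controls fusion

`control`: if `A` is an abelian subgroup strongly closed in the Sylow `p`-subgroup `S` of `G`, then
`N_G(A)` controls the `G`-fusion of subgroups of `S`.
-/

set_option autoImplicit false

namespace Cfsg.Agent.TwoFusion.GoldControl

open Subgroup Cfsg.Agent.Lib.GoldschmidtFusion

variable {G : Type*} [Group G]

/-! ### Weak closure -/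

/-- A strongly closed subgroup of `S` is normalized by `S`. -/
theorem le_normalizer_of_sc {A S : Subgroup G} (h : Cfsg.IsStronglyClosed A S) :
    S ≤ normalizer (A : Set G) := by
  rw [le_normalizer_iff]
  intro s hs a ha
  exact h.2 a ha s (S.mul_mem (S.mul_mem hs (h.1 ha)) (S.inv_mem hs))

/-- A strongly closed subgroup is weakly closed. -/
theorem map_conj_eq_of_sc [Finite G] {A S : Subgroup G} (h : Cfsg.IsStronglyClosed A S) {g : G}
    (hg : A.map (MulAut.conj g).toMonoidHom ≤ S) : A.map (MulAut.conj g).toMonoidHom = A := by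
  apply map_conj_le_of_le_normalizer
  rintro _ ⟨a, ha, rfl⟩
  exact h.2 a ha g (hg (mem_map_of_mem _ ha))

/-- If `A ≤ E ≤ S` then `N_G(E)` normalizes the strongly closed subgroup `A`. -/
theorem normalizer_le_normalizer_of_sc [Finite G] {A S E : Subgroup G} (h : Cfsg.IsStronglyClosed A S)
    (hAE : A ≤ E) (hES : E ≤ S) : normalizer (E : Set G) ≤ normalizer (A : Set G) := by
  intro g hg
  rw [mem_normalizer_iff_map_conj] at hg ⊢
  apply map_conj_eq_of_sc h
  exact (map_conj_mono hAE g).trans (hg.le.trans hES)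

/-! ### A factorization lemma -/

section Factor

variable [Finite G] {p : ℕ} [hp : Fact p.Prime]

/-- If `C` is normalized by `Q`, `Q/C` is a `p`-group and `T ≤ Q` has index prime to `p` in `Q` then
`Q = T C`. -/
theorem exists_mul_of_pPower {Q C T : Subgroup G} (hCQ : C ≤ Q) (hTQ : T ≤ Q)
    (hnorm : Q ≤ normalizer (C : Set G)) (hpg : ∀ x ∈ Q, ∃ k : ℕ, x ^ p ^ k ∈ C)
    (hT : ¬ p ∣ T.relIndex Q) {x : G} (hx : x ∈ Q) : ∃ t ∈ T, ∃ c ∈ C, x = t * c := by
  have hnorm' : (C.subgroupOf Q).Normal := (normal_subgroupOf_iff_le_normalizer hCQ).2 hnorm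
  have hpg' : IsPGroup p (Q ⧸ C.subgroupOf Q) := by
    intro x
    obtain ⟨y, rfl⟩ := QuotientGroup.mk_surjective x
    obtain ⟨k, hk⟩ := hpg y y.2
    refine ⟨k, ?_⟩
    rw [← QuotientGroup.mk_pow, QuotientGroup.eq_one_iff, mem_subgroupOf]
    simpa using hk
  have hTC : T ⊔ C = Q := by
    apply le_antisymm (sup_le hTQ hCQ)
    rw [← relIndex_eq_one]
    obtain ⟨j, hj⟩ := (IsPGroup.iff_card.1 hpg')
    have h1 : (T ⊔ C).relIndex Q ∣ p ^ j := by
      rw [← hj]
      exact relIndex_dvd_of_le_left Q le_sup_right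
    have h2 : (T ⊔ C).relIndex Q ∣ T.relIndex Q := relIndex_dvd_of_le_left Q le_sup_left
    obtain ⟨i, -, hi⟩ := (Nat.dvd_prime_pow hp.out).1 h1
    rcases Nat.eq_zero_or_pos i with h0 | h0
    · rw [hi, h0, pow_zero]
    · exfalso
      apply hT
      refine dvd_trans ?_ h2
      rw [hi]
      exact dvd_pow_self p h0.ne'
  have hmem : x ∈ (((T ⊔ C : Subgroup G)) : Set G) := by
    rw [hTC]; exact hx
  rw [coe_mul_of_left_le_normalizer_right _ _ (hTQ.trans hnorm)] at hmem
  obtain ⟨s, hs, c, hc, rfl⟩ := Set.mem_mul.1 hmem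
  exact ⟨s, hs, c, hc, rfl⟩

omit hp in
/-- Sylow subgroups of normal subgroups. -/
theorem not_dvd_relIndex_of_normal {N Q P : Subgroup G} (hQN : Q ≤ N) (hnorm : N ≤ normalizer (Q : Set G))
    (hP : ¬ p ∣ (P ⊓ N).relIndex N) : ¬ p ∣ (P ⊓ Q).relIndex Q := by
  have hn : (Q.subgroupOf N).Normal := (normal_subgroupOf_iff_le_normalizer hQN).2 hnorm
  have h1 : (P ⊓ N).relIndex Q ∣ (P ⊓ N).relIndex N := by
    have e1 : (P ⊓ N).relIndex Q = ((P ⊓ N).subgroupOf N).relIndex (Q.subgroupOf N) := by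
      rw [relIndex_subgroupOf hQN]
    have e2 : (P ⊓ N).relIndex N = ((P ⊓ N).subgroupOf N).index := rfl
    rw [e1, e2]
    exact relIndex_dvd_index_of_normal_right _ _
  intro h
  apply hP
  refine dvd_trans ?_ h1
  have : (P ⊓ Q).relIndex Q = (P ⊓ N).relIndex Q := by
    rw [← inf_relIndex_right (P ⊓ N) Q]
    congr 1
    ext x
    simp only [mem_inf]
    constructor
    · rintro ⟨a, b⟩; exact ⟨⟨a, hQN b⟩, b⟩
    · rintro ⟨⟨a, _⟩, b⟩; exact ⟨a, b⟩
  rw [← this]
  exact h

end Factor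

/-! ### Control of fusion -/

section Control

variable [Finite G] {p : ℕ} [hp : Fact p.Prime]

/-- All the fusion of `X` into `S` is induced by `N_G(A)`. -/
def Con (S A X : Subgroup G) : Prop :=
  ∀ g : G, X.map (MulAut.conj g).toMonoidHom ≤ S →
    ∃ n ∈ normalizer (A : Set G), ∀ x ∈ X, g * x * g⁻¹ = n * x * n⁻¹

/-- `N_G(X)` acts on `X` like elements of `N_G(A)`. -/
def Ctl (A X : Subgroup G) : Prop :=
  ∀ g ∈ normalizer (X : Set G), ∃ n ∈ normalizer (A : Set G), ∀ x ∈ X, g * x * g⁻¹ = n * x * n⁻¹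

omit [Finite G] in
theorem Con.ctl {S A X : Subgroup G} (hX : X ≤ S) (h : Con S A X) : Ctl A X := by
  intro g hg
  apply h g
  rw [mem_normalizer_iff_map_conj.1 hg]
  exact hX

theorem ctl_of_gen {S A : Subgroup G} {F : Subgroup G → Prop} {X : Subgroup G} {g : G}
    (hgen : Gen S F X g) (hF : ∀ Y : Subgroup G, Y ≤ S → F Y → Nat.card X ≤ Nat.card Y → Ctl A Y) :
    ∃ n ∈ normalizer (A : Set G), ∀ x ∈ X, g * x * g⁻¹ = n * x * n⁻¹ := by
  induction hgen with
  | cent hA hc =>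
    refine ⟨1, one_mem _, fun x hx => ?_⟩
    rw [conj_eq_of_mem_centralizer hc hx]; simp
  | base hX hFX hAX hg =>
    obtain ⟨n, hn, h⟩ := hF _ hX hFX (Nat.card_le_card_of_injective _ (inclusion_injective hAX)) _ hg
    exact ⟨n, hn, fun x hx => h x (hAX hx)⟩
  | @mul X g h _ _ ih1 ih2 =>
    obtain ⟨n, hn, h1⟩ := ih1 hF
    obtain ⟨m, hm, h2⟩ := ih2 (by
      intro Y hY hFY hc
      rw [card_map_conj] at hc
      exact hF Y hY hFY hc)
    refine ⟨m * n, mul_mem hm hn, fun x hx => ?_⟩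
    have e1 := h2 _ (conj_mem_map_conj hx g)
    have e2 : h * g * x * (h * g)⁻¹ = h * (g * x * g⁻¹) * h⁻¹ := by group
    rw [e2, e1, h1 x hx]; group

/-- The key step: if `A` is not contained in `Y`, `N_S(Y)` is Sylow in `N_G(Y)`, `C_S(Y) ≤ Y` and the fusion of
all larger subgroups is controlled, then `N_G(Y)` acts on `Y` like elements of `N_G(A)`. -/
theorem ctl_of_larger (S : Sylow p G) {A : Subgroup G} (hA : Cfsg.IsStronglyClosed A (S : Subgroup G))
    (hcomm : ∀ a ∈ A, ∀ b ∈ A, a * b = b * a) {Y : Subgroup G} (hYS : Y ≤ S)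
    (hfn : ¬ p ∣ ((S : Subgroup G) ⊓ normalizer (Y : Set G)).relIndex (normalizer (Y : Set G)))
    (hlarge : ∀ R : Subgroup G, R ≤ S → Y < R → Con (S : Subgroup G) A R) : Ctl A Y := by
  classical
  by_cases hAY : A ≤ Y
  · intro g hg
    exact ⟨g, normalizer_le_normalizer_of_sc hA hAY hYS hg, fun x _ => rfl⟩
  have hSp : IsPGroup p (S : Subgroup G) := S.isPGroup'
  have hSA := le_normalizer_of_sc hA
  -- the group `Q` of elements stabilizing the chain `1 ≤ A ⊓ Y ≤ Y`
  let Q : Subgroup G :=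
    { carrier := {g | g ∈ normalizer (Y : Set G) ∧ (∀ y ∈ Y, g * y * g⁻¹ * y⁻¹ ∈ A) ∧ ∀ y ∈ A ⊓ Y, g * y = y * g}
      one_mem' := ⟨one_mem _, fun y _ => by simp, fun y _ => by simp⟩
      mul_mem' := by
        rintro g h ⟨hg1, hg2, hg3⟩ ⟨hh1, hh2, hh3⟩
        refine ⟨mul_mem hg1 hh1, ?_, ?_⟩
        · intro y hy
          have hhy : h * y * h⁻¹ ∈ Y := (mem_normalizer_iff.1 hh1 y).1 hy
          have e : g * h * y * (g * h)⁻¹ * y⁻¹ =
              (g * (h * y * h⁻¹) * g⁻¹ * (h * y * h⁻¹)⁻¹) * (h * y * h⁻¹ * y⁻¹) := by group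
          rw [e]
          exact mul_mem (hg2 _ hhy) (hh2 y hy)
        · intro y hy
          rw [mul_assoc, hh3 y hy, ← mul_assoc, hg3 y hy, mul_assoc]
      inv_mem' := by
        rintro g ⟨hg1, hg2, hg3⟩
        refine ⟨inv_mem hg1, ?_, ?_⟩
        · intro y hy
          have hgy : g⁻¹ * y * g ∈ Y := by
            have := (mem_normalizer_iff.1 (inv_mem hg1) y).1 hy
            simpa using this
          have h1 := hg2 _ hgy
          have e : g⁻¹ * y * g⁻¹⁻¹ * y⁻¹ = (g * (g⁻¹ * y * g) * g⁻¹ * (g⁻¹ * y * g)⁻¹)⁻¹ := by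
            group
          rw [e]
          exact inv_mem h1
        · intro y hy
          rw [inv_mul_eq_iff_eq_mul, ← mul_assoc, hg3 y hy]; group }
  have hQN : Q ≤ normalizer (Y : Set G) := fun g hg => hg.1
  have hCQ : centralizer (Y : Set G) ≤ Q := by
    intro c hc
    refine ⟨centralizer_le_normalizer _ hc, fun y hy => ?_, fun y hy => ?_⟩
    · rw [conj_eq_of_mem_centralizer hc hy]; simp
    · exact ((mem_centralizer_iff.1 hc) y hy.2).symm
  have hAYn : ∀ g ∈ normalizer (Y : Set G), ∀ y ∈ A ⊓ Y, g * y * g⁻¹ ∈ A ⊓ Y := by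
    intro g hg y hy
    have h1 : g * y * g⁻¹ ∈ Y := (mem_normalizer_iff.1 hg y).1 hy.2
    exact ⟨hA.2 y hy.1 g (hYS h1), h1⟩
  have hcomY : ∀ q ∈ Q, ∀ y ∈ Y, q * y * q⁻¹ * y⁻¹ ∈ A ⊓ Y := by
    intro q hq y hy
    exact ⟨hq.2.1 y hy, Y.mul_mem ((mem_normalizer_iff.1 hq.1 y).1 hy) (Y.inv_mem hy)⟩
  have hnQ : normalizer (Y : Set G) ≤ normalizer (Q : Set G) := by
    rw [le_normalizer_iff]
    intro g hg q hq
    have hginv : g⁻¹ ∈ normalizer (Y : Set G) := inv_mem hg
    refine ⟨mul_mem (mul_mem hg hq.1) (inv_mem hg), fun y hy => ?_, fun y hy => ?_⟩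
    · have hy' : g⁻¹ * y * g ∈ Y := by
        have := (mem_normalizer_iff.1 hginv y).1 hy
        simpa using this
      have h1 := hAYn g hg _ (hcomY q hq _ hy')
      have e : g * q * g⁻¹ * y * (g * q * g⁻¹)⁻¹ * y⁻¹ =
          g * (q * (g⁻¹ * y * g) * q⁻¹ * (g⁻¹ * y * g)⁻¹) * g⁻¹ := by group
      rw [e]; exact h1.1
    · have hy' : g⁻¹ * y * g ∈ A ⊓ Y := by
        have := hAYn g⁻¹ hginv y hy
        simpa using this
      have h1 := hq.2.2 _ hy'
      calc g * q * g⁻¹ * y = g * (q * (g⁻¹ * y * g)) * g⁻¹ := by group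
        _ = g * ((g⁻¹ * y * g) * q) * g⁻¹ := by rw [h1]
        _ = y * (g * q * g⁻¹) := by group
  have hpg : ∀ q ∈ Q, ∃ k : ℕ, q ^ p ^ k ∈ centralizer (Y : Set G) := by
    intro q hq
    obtain ⟨k, hk⟩ := IsPGroup.iff_card.1 (hSp.to_le hYS)
    refine ⟨k, ?_⟩
    rw [mem_centralizer_iff]
    intro y hy
    have hy' : y ∈ Y := hy
    set a := q * y * q⁻¹ * y⁻¹ with ha
    have haAY : a ∈ A ⊓ Y := hcomY q hq y hy'
    have hqa : q * a = a * q := hq.2.2 a haAY
    have hqy : q * y = a * (y * q) := by rw [ha]; group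
    have key : ∀ n : ℕ, q ^ n * y = a ^ n * (y * q ^ n) := by
      intro n
      induction n with
      | zero => simp
      | succ n ih =>
        have hc : Commute (q ^ n) a := (show Commute q a from hqa).pow_left n
        calc q ^ (n + 1) * y = q ^ n * (q * y) := by rw [pow_succ]; group
          _ = q ^ n * a * (y * q) := by rw [hqy]; group
          _ = a * q ^ n * (y * q) := by rw [hc.eq]
          _ = a * (q ^ n * y) * q := by group
          _ = a * (a ^ n * (y * q ^ n)) * q := by rw [ih]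
          _ = a ^ (n + 1) * (y * q ^ (n + 1)) := by rw [pow_succ' a, pow_succ q]; group
    have hak : a ^ p ^ k = 1 := by
      rw [← hk]
      have h2 : ((⟨a, haAY.2⟩ : Y) ^ Nat.card Y : Y) = 1 := pow_card_eq_one'
      exact congrArg Subtype.val h2
    rw [key, hak, one_mul]
  set T : Subgroup G := (S : Subgroup G) ⊓ Q with hT
  have hTi : ¬ p ∣ T.relIndex Q := not_dvd_relIndex_of_normal hQN hnQ hfn
  have hTp : IsPGroup p T := hSp.to_le inf_le_left
  -- an element of `A` normalizing `Y` but outside of `Y`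
  obtain ⟨a, haA, haN, haY⟩ : ∃ a ∈ A, a ∈ normalizer (Y : Set G) ∧ a ∉ Y := by
    have hYYA : Y < A ⊔ Y := by
      refine lt_of_le_of_ne le_sup_right ?_
      intro h
      exact hAY (h ▸ le_sup_left)
    have h1 := lt_inf_normalizer (hSp.to_le (sup_le hA.1 hYS)) hYYA
    obtain ⟨x, hx, hxY⟩ := SetLike.exists_of_lt h1
    have hx1 : x ∈ ((A ⊔ Y : Subgroup G) : Set G) := hx.1
    rw [coe_mul_of_right_le_normalizer_left _ _ (hYS.trans hSA)] at hx1
    obtain ⟨a, ha, y, hy, hay⟩ := Set.mem_mul.1 hx1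
    have hy' : y ∈ Y := hy
    refine ⟨a, ha, ?_, ?_⟩
    · have e : a = x * y⁻¹ := by rw [← hay]; group
      rw [e]
      exact mul_mem hx.2 (inv_mem (le_normalizer hy'))
    · intro haY
      exact hxY (hay ▸ mul_mem haY hy')
  have haT : a ∈ T := by
    refine ⟨hA.1 haA, haN, fun y hy => ?_, fun y hy => hcomm a haA y hy.1⟩
    have h1 : y * a⁻¹ * y⁻¹ ∈ A := (mem_normalizer_iff.1 (hSA (hYS hy)) _).1 (inv_mem haA)
    have e : a * y * a⁻¹ * y⁻¹ = a * (y * a⁻¹ * y⁻¹) := by group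
    rw [e]
    exact mul_mem haA h1
  have hYR : Y < T ⊔ Y := by
    refine lt_of_le_of_ne le_sup_right ?_
    intro h
    exact haY (h ▸ (le_sup_left (a := T) (b := Y)) haT)
  have hRS : T ⊔ Y ≤ S := sup_le inf_le_left hYS
  intro g hg
  -- Frattini argument
  have hTg : T.map (MulAut.conj g).toMonoidHom ≤ Q := by
    rintro _ ⟨t, ht, rfl⟩
    exact (mem_normalizer_iff.1 (hnQ hg) t).1 ht.2
  obtain ⟨n, hn, hnT⟩ := exists_conj_le_in (p := p) hTp hTi hTg (hTp.map _)
  rw [map_conj_map_conj] at hnT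
  have hnT' : n * g ∈ normalizer (T : Set G) :=
    mem_normalizer_iff_map_conj.2 (map_conj_le_of_le_normalizer hnT)
  obtain ⟨t, ht, c, hc, htc⟩ := exists_mul_of_pPower hCQ inf_le_right
    (hQN.trans (by
      rw [le_normalizer_iff]
      intro h hh k hk
      rw [← mem_normalizer_iff_map_conj.1 hh, mem_centralizer_map_conj]
      simpa [mul_assoc] using hk)) hpg hTi hn
  have hcg : c * g ∈ normalizer (T : Set G) := by
    have e : c * g = t⁻¹ * (n * g) := by rw [htc]; group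
    rw [e]
    exact mul_mem (inv_mem (le_normalizer ht)) hnT'
  have hcgY : c * g ∈ normalizer (Y : Set G) := mul_mem (centralizer_le_normalizer _ hc) hg
  have hcgR : (T ⊔ Y).map (MulAut.conj (c * g)).toMonoidHom ≤ S := by
    rw [Subgroup.map_sup, mem_normalizer_iff_map_conj.1 hcg, mem_normalizer_iff_map_conj.1 hcgY]
    exact hRS
  obtain ⟨m, hm, h⟩ := hlarge _ hRS hYR (c * g) hcgR
  refine ⟨m, hm, fun x hx => ?_⟩
  rw [← h x ((le_sup_right (a := T) (b := Y)) hx)]
  have h1 : g * x * g⁻¹ ∈ Y := (mem_normalizer_iff.1 hg x).1 hx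
  have h2 := conj_eq_of_mem_centralizer hc h1
  calc g * x * g⁻¹ = c * (g * x * g⁻¹) * c⁻¹ := h2.symm
    _ = c * g * x * (c * g)⁻¹ := by group

/-- **Control of fusion**: if `A` is abelian and strongly closed in the Sylow subgroup `S` then every
conjugation between subgroups of `S` is induced by an element of `N_G(A)`. -/
theorem control (S : Sylow p G) {A : Subgroup G} (hA : Cfsg.IsStronglyClosed A (S : Subgroup G))
    (hcomm : ∀ a ∈ A, ∀ b ∈ A, a * b = b * a) {X : Subgroup G} (hX : X ≤ S) {g : G}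
    (hg : X.map (MulAut.conj g).toMonoidHom ≤ S) :
    ∃ n ∈ normalizer (A : Set G), ∀ x ∈ X, g * x * g⁻¹ = n * x * n⁻¹ := by
  have key : ∀ k : ℕ, ∀ X : Subgroup G, X ≤ S → Nat.card S ≤ Nat.card X + k → Con (S : Subgroup G) A X := by
    intro k
    induction k with
    | zero =>
      intro X hX hk g hg
      have hXS : X = S := Subgroup.eq_of_le_of_card_ge hX (by simpa using hk)
      subst hXS
      have hgN : g ∈ normalizer ((S : Subgroup G) : Set G) :=
        mem_normalizer_iff_map_conj.2 (map_conj_le_of_le_normalizer hg)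
      exact ⟨g, normalizer_le_normalizer_of_sc hA hA.1 le_rfl hgN, fun x _ => rfl⟩
    | succ k ih =>
      intro X hX hk g hg
      have hgen := gen_of_conj S (fun Y => Nat.card X ≤ Nat.card Y → Ctl A Y) (by
        intro _ g hg
        exact ⟨g, normalizer_le_normalizer_of_sc hA hA.1 le_rfl hg, fun x _ => rfl⟩) (by
        intro Y hYS hfn _ _ hXY
        apply ctl_of_larger S hA hcomm hYS.le hfn
        intro R hRS hYR
        apply ih R hRS
        have h1 : Nat.card Y < Nat.card R := by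
          refine lt_of_le_of_ne (Nat.card_le_card_of_injective _ (inclusion_injective hYR.le)) ?_
          intro h
          exact hYR.ne (Subgroup.eq_of_le_of_card_ge hYR.le h.ge)
        omega) hX hg
      exact ctl_of_gen hgen (fun Y _ hF hc => hF hc)
  exact key (Nat.card S) X hX (by omega) g hg

/-- Control of fusion of elements. -/
theorem control_elem (S : Sylow p G) {A : Subgroup G} (hA : Cfsg.IsStronglyClosed A (S : Subgroup G))
    (hcomm : ∀ a ∈ A, ∀ b ∈ A, a * b = b * a) {x g : G} (hx : x ∈ (S : Subgroup G))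
    (hg : g * x * g⁻¹ ∈ (S : Subgroup G)) :
    ∃ n ∈ normalizer (A : Set G), g * x * g⁻¹ = n * x * n⁻¹ := by
  obtain ⟨n, hn, h⟩ := control S hA hcomm (X := zpowers x) (by rwa [zpowers_le]) (g := g) (by
    rw [MonoidHom.map_zpowers, zpowers_le]
    simpa using hg)
  exact ⟨n, hn, h x (mem_zpowers x)⟩

/-- If `X` is normal in `N_G(A)` then `S ⊓ X` is strongly closed in `S`. -/
theorem sc_inf_of_normal (S : Sylow p G) {A : Subgroup G} (hA : Cfsg.IsStronglyClosed A (S : Subgroup G))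
    (hcomm : ∀ a ∈ A, ∀ b ∈ A, a * b = b * a) {X : Subgroup G}
    (hX : ∀ n ∈ normalizer (A : Set G), ∀ x ∈ X, n * x * n⁻¹ ∈ X) :
    Cfsg.IsStronglyClosed ((S : Subgroup G) ⊓ X) (S : Subgroup G) := by
  refine ⟨inf_le_left, fun x hx g hg => ⟨hg, ?_⟩⟩
  obtain ⟨n, hn, h⟩ := control_elem S hA hcomm hx.1 hg
  rw [h]
  exact hX n hn x hx.2

/-- An `N_G(A)`-invariant subgroup of `A` is strongly closed. -/
theorem sc_of_le_of_invariant (S : Sylow p G) {A : Subgroup G}
    (hA : Cfsg.IsStronglyClosed A (S : Subgroup G)) (hcomm : ∀ a ∈ A, ∀ b ∈ A, a * b = b * a)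
    {B : Subgroup G} (hBA : B ≤ A) (hB : ∀ n ∈ normalizer (A : Set G), ∀ x ∈ B, n * x * n⁻¹ ∈ B) :
    Cfsg.IsStronglyClosed B (S : Subgroup G) := by
  have h := sc_inf_of_normal S hA hcomm hB
  rwa [inf_eq_right.2 (hBA.trans hA.1)] at h

end Control

end Cfsg.Agent.TwoFusion.GoldControl
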