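import Mathlib

/-!
# An integrality lemma on odd order subgroups transitive on the involutions

`exists_prime_dvd_relIndex`: let `H` be a finite group with two distinct commuting involutions `s, t`.
Then there is a prime `p` dividing `|D : D ∩ D^t|` for EVERY subgroup `D` of odd order of `H` that
permutes transitively (by conjugation) all the involutions of `H`.
-/

set_option autoImplicit false

namespace Cfsg.Agent.TwoFusion.BenderE

open Finset

/-- The integral elements of the rational group algebra. -/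
def integral (H : Type*) [Group H] : AddSubgroup (MonoidAlgebra ℚ H) where
  carrier := {x | ∀ h, ∃ z : ℤ, x.coeff h = z}
  add_mem' := by
    intro x y hx hy h
    obtain ⟨a, ha⟩ := hx h
    obtain ⟨b, hb⟩ := hy h
    exact ⟨a + b, by rw [MonoidAlgebra.coeff_add, Finsupp.add_apply, ha, hb]; push_cast; ring⟩
  zero_mem' := fun h => ⟨0, by simp⟩
  neg_mem' := by
    intro x hx h
    obtain ⟨a, ha⟩ := hx h
    exact ⟨-a, by simp [ha]⟩

variable {H : Type*} [Group H]

theorem mem_integral {x : MonoidAlgebra ℚ H} :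
    x ∈ integral H ↔ ∀ h, ∃ z : ℤ, x.coeff h = z := Iff.rfl

theorem of_mem (g : H) : (MonoidAlgebra.of ℚ H g) ∈ integral H := by
  classical
  intro h
  by_cases hg : g = h
  · exact ⟨1, by rw [hg]; simp⟩
  · exact ⟨0, by simp [hg]⟩

theorem one_mem_integral : (1 : MonoidAlgebra ℚ H) ∈ integral H := by
  have := of_mem (1 : H)
  rwa [map_one] at this

theorem exists_int_sum {α : Type*} (s : Finset α) (f : α → ℚ) (hf : ∀ a ∈ s, ∃ z : ℤ, f a = z) :
    ∃ z : ℤ, ∑ a ∈ s, f a = z := by
  classical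
  induction s using Finset.induction_on with
  | empty => exact ⟨0, by simp⟩
  | insert a s ha ih =>
    obtain ⟨z1, hz1⟩ := hf a (mem_insert_self _ _)
    obtain ⟨z2, hz2⟩ := ih (fun b hb => hf b (mem_insert_of_mem hb))
    exact ⟨z1 + z2, by rw [sum_insert ha, hz1, hz2]; push_cast; ring⟩

theorem mul_mem_integral {x y : MonoidAlgebra ℚ H} (hx : x ∈ integral H) (hy : y ∈ integral H) :
    x * y ∈ integral H := by
  classical
  intro h
  rw [MonoidAlgebra.coeff_mul]
  simp only [Finsupp.sum]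
  apply exists_int_sum
  intro a _
  apply exists_int_sum
  intro b _
  obtain ⟨z1, hz1⟩ := hx a
  obtain ⟨z2, hz2⟩ := hy b
  split_ifs with hab
  · exact ⟨z1 * z2, by rw [hz1, hz2]; push_cast; ring⟩
  · exact ⟨0, by simp⟩

/-- augmentation -/
noncomputable def aug : MonoidAlgebra ℚ H →ₐ[ℚ] ℚ := MonoidAlgebra.lift ℚ ℚ H 1

theorem aug_of (g : H) : aug (MonoidAlgebra.of ℚ H g) = 1 := by
  simp [aug]

theorem aug_eq_sum [Fintype H] (x : MonoidAlgebra ℚ H) : aug x = ∑ h, x.coeff h := by
  rw [aug, MonoidAlgebra.lift_apply, Finsupp.sum_fintype]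
  · simp
  · simp

theorem coeff_of_mul (g h : H) (x : MonoidAlgebra ℚ H) :
    (MonoidAlgebra.of ℚ H g * x).coeff h = x.coeff (g⁻¹ * h) := by
  rw [MonoidAlgebra.of_apply, MonoidAlgebra.coeff_single_mul_apply, one_mul]

section Idem

variable [Fintype H]

open Classical in
/-- elements of a subgroup as a finset -/
noncomputable def elts (D : Subgroup H) : Finset H := univ.filter fun x => x ∈ D

theorem mem_elts {D : Subgroup H} {x : H} : x ∈ elts D ↔ x ∈ D := by simp [elts]

theorem card_elts (D : Subgroup H) : (elts D).card = Nat.card D := by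
  exact (Nat.subtype_card (elts D) (fun x => mem_elts)).symm

/-- idempotent of a subgroup -/
noncomputable def idem (D : Subgroup H) : MonoidAlgebra ℚ H :=
  ((Nat.card D : ℚ)⁻¹) • ∑ d ∈ elts D, MonoidAlgebra.of ℚ H d

theorem card_ne_zero (D : Subgroup H) : (Nat.card D : ℚ) ≠ 0 := by
  have : 0 < Nat.card D := Nat.card_pos
  exact_mod_cast this.ne'

theorem card_smul_idem (D : Subgroup H) : ((Nat.card D : ℚ)) • idem D ∈ integral H := by
  rw [idem, smul_smul, mul_inv_cancel₀ (card_ne_zero D), one_smul]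
  exact AddSubgroup.sum_mem _ fun d _ => of_mem _

theorem aug_idem (D : Subgroup H) : aug (idem D) = 1 := by
  rw [idem, map_smul, map_sum]
  simp only [aug_of, sum_const, nsmul_eq_mul, mul_one, smul_eq_mul]
  rw [card_elts]
  exact inv_mul_cancel₀ (card_ne_zero D)

theorem of_mul_idem {D : Subgroup H} {d : H} (hd : d ∈ D) :
    MonoidAlgebra.of ℚ H d * idem D = idem D := by
  rw [idem, mul_smul_comm, mul_sum]
  congr 1
  refine Finset.sum_bij' (fun x _ => d * x) (fun x _ => d⁻¹ * x) ?_ ?_ ?_ ?_ ?_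
  · intro x hx
    rw [mem_elts] at hx ⊢
    exact D.mul_mem hd hx
  · intro x hx
    rw [mem_elts] at hx ⊢
    exact D.mul_mem (D.inv_mem hd) hx
  · intro x _; simp
  · intro x _; simp
  · intro x _; rw [map_mul]

theorem idem_mul_of {D : Subgroup H} {d : H} (hd : d ∈ D) :
    idem D * MonoidAlgebra.of ℚ H d = idem D := by
  rw [idem, smul_mul_assoc, sum_mul]
  congr 1
  refine Finset.sum_bij' (fun x _ => x * d) (fun x _ => x * d⁻¹) ?_ ?_ ?_ ?_ ?_
  · intro x hx
    rw [mem_elts] at hx ⊢
    exact D.mul_mem hx hd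
  · intro x hx
    rw [mem_elts] at hx ⊢
    exact D.mul_mem hx (D.inv_mem hd)
  · intro x _; simp
  · intro x _; simp
  · intro x _; rw [map_mul]

theorem sum_elts_mul_idem (D : Subgroup H) :
    (∑ d ∈ elts D, MonoidAlgebra.of ℚ H d) * idem D = (Nat.card D : ℚ) • idem D := by
  rw [sum_mul, sum_congr rfl (fun d hd => of_mul_idem (mem_elts.1 hd)), sum_const, card_elts,
    ← Nat.cast_smul_eq_nsmul ℚ]

theorem idem_mul_idem (D : Subgroup H) : idem D * idem D = idem D := by
  have h : idem D = ((Nat.card D : ℚ)⁻¹) • ∑ d ∈ elts D, MonoidAlgebra.of ℚ H d := rfl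
  calc idem D * idem D = ((Nat.card D : ℚ)⁻¹) • ((∑ d ∈ elts D, MonoidAlgebra.of ℚ H d) * idem D) := by
        rw [← smul_mul_assoc, ← h]
    _ = idem D := by rw [sum_elts_mul_idem, smul_smul, inv_mul_cancel₀ (card_ne_zero D), one_smul]

end Idem

section Main

variable [Fintype H]

/-- square norm -/
noncomputable def nrm (x : MonoidAlgebra ℚ H) : ℚ := ∑ h, x.coeff h ^ 2

open Classical in
/-- the set of involutions -/
noncomputable def invs (H : Type*) [Group H] [Fintype H] : Finset H :=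
  univ.filter fun u => orderOf u = 2

theorem mem_invs {u : H} : u ∈ invs H ↔ orderOf u = 2 := by
  simp [invs]

/-- normalised class sum of the involutions -/
noncomputable def cc (H : Type*) [Group H] [Fintype H] : MonoidAlgebra ℚ H :=
  (((invs H).card : ℚ)⁻¹) • ∑ u ∈ invs H, MonoidAlgebra.of ℚ H u

theorem orderOf_conj' (g a : H) : orderOf (g * a * g⁻¹) = orderOf a := by
  have := orderOf_injective (MulAut.conj g).toMonoidHom (MulAut.conj g).injective a
  simpa using this

theorem of_comm_cc (g : H) :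
    MonoidAlgebra.of ℚ H g * cc H = cc H * MonoidAlgebra.of ℚ H g := by
  classical
  rw [cc, mul_smul_comm, smul_mul_assoc, mul_sum, sum_mul]
  congr 1
  refine Finset.sum_bij' (fun u _ => g * u * g⁻¹) (fun u _ => g⁻¹ * u * g) ?_ ?_ ?_ ?_ ?_
  · intro u hu
    rw [mem_invs] at hu ⊢
    rw [orderOf_conj', hu]
  · intro u hu
    rw [mem_invs] at hu ⊢
    have := orderOf_conj' g⁻¹ u
    rw [inv_inv] at this
    rw [this, hu]
  · intro u _; group
  · intro u _; group
  · intro u _
    rw [← map_mul, ← map_mul]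
    congr 1
    group

theorem comm_cc (x : MonoidAlgebra ℚ H) : x * cc H = cc H * x := by
  induction x using MonoidAlgebra.induction_on with
  | of g => exact of_comm_cc g
  | add x y hx hy => rw [add_mul, mul_add, hx, hy]
  | smul r x hx => rw [smul_mul_assoc, mul_smul_comm, hx]


theorem idem_of_idem {D : Subgroup H} {t u : H} (h : ∃ d ∈ D, d * t * d⁻¹ = u) :
    idem D * MonoidAlgebra.of ℚ H u * idem D = idem D * MonoidAlgebra.of ℚ H t * idem D := by
  obtain ⟨d, hd, rfl⟩ := h
  rw [map_mul, map_mul, ← mul_assoc, ← mul_assoc, idem_mul_of hd, mul_assoc _ _ (idem D),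
    of_mul_idem (D.inv_mem hd)]

theorem card_invs_ne_zero {t : H} (ht : orderOf t = 2) : ((invs H).card : ℚ) ≠ 0 := by
  have : 0 < (invs H).card := Finset.card_pos.2 ⟨t, mem_invs.2 ht⟩
  exact_mod_cast this.ne'

theorem cc_mul_idem {D : Subgroup H} {t : H} (ht : orderOf t = 2)
    (htr : ∀ u : H, orderOf u = 2 → ∃ d ∈ D, d * t * d⁻¹ = u) :
    cc H * idem D = idem D * MonoidAlgebra.of ℚ H t * idem D := by
  calc cc H * idem D = idem D * cc H * idem D := by
        rw [comm_cc, mul_assoc, idem_mul_idem]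
    _ = ((invs H).card : ℚ)⁻¹ • ∑ u ∈ invs H, idem D * MonoidAlgebra.of ℚ H u * idem D := by
        rw [cc, mul_smul_comm, smul_mul_assoc, mul_sum, sum_mul]
    _ = ((invs H).card : ℚ)⁻¹ • ∑ u ∈ invs H, idem D * MonoidAlgebra.of ℚ H t * idem D := by
        rw [sum_congr rfl (fun u hu => idem_of_idem (htr u (mem_invs.1 hu)))]
    _ = _ := by
        rw [sum_const, ← Nat.cast_smul_eq_nsmul ℚ, smul_smul,
          inv_mul_cancel₀ (card_invs_ne_zero ht), one_smul]

/-- `f c e ∈ O e` where `f = |D : D ∩ D^t|`. -/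
theorem exists_integral {D : Subgroup H} {t : H} (ht : orderOf t = 2)
    (htr : ∀ u : H, orderOf u = 2 → ∃ d ∈ D, d * t * d⁻¹ = u) :
    ∃ b ∈ integral H,
      (((D.map (MulAut.conj t).toMonoidHom).relIndex D : ℕ) : ℚ) • (cc H * idem D) = b * idem D := by
  classical
  set K : Subgroup H := D.map (MulAut.conj t).toMonoidHom ⊓ D with hK
  have hKD : K ≤ D := inf_le_right
  have ht' : t⁻¹ = t := by
    rw [inv_eq_iff_mul_eq_one]; have := pow_orderOf_eq_one t; rwa [ht, pow_two] at this
  -- the summand depends only on the left coset of `K` in `D`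
  have key : ∀ d k : H, k ∈ K → MonoidAlgebra.of ℚ H (d * k * t) * idem D =
      MonoidAlgebra.of ℚ H (d * t) * idem D := by
    intro d k hk
    obtain ⟨⟨y, hy, hy2⟩, _⟩ := Subgroup.mem_inf.1 hk
    have h1 : k = t * y * t⁻¹ := by rw [← hy2]; simp
    have h2 : d * k * t = d * t * y := by rw [h1]; group
    rw [h2, map_mul, mul_assoc, of_mul_idem hy]
  have hout : ∀ d : H, MonoidAlgebra.of ℚ H (((d : H ⧸ K)).out * t) * idem D =
      MonoidAlgebra.of ℚ H (d * t) * idem D := by
    intro d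
    obtain ⟨k, hk⟩ := QuotientGroup.mk_out_eq_mul K d
    rw [hk]
    exact key d k k.2
  have hfib : ∀ q ∈ (elts D).image (fun d : H => (d : H ⧸ K)),
      ((elts D).filter (fun d : H => (d : H ⧸ K) = q)).card = Nat.card K := by
    intro q hq
    obtain ⟨d0, hd0, rfl⟩ := Finset.mem_image.1 hq
    rw [← card_elts K]
    refine Finset.card_bij' (fun d _ => d0⁻¹ * d) (fun k _ => d0 * k) ?_ ?_ ?_ ?_
    · intro d hd
      rw [mem_elts]
      exact QuotientGroup.eq.1 (Finset.mem_filter.1 hd).2.symm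
    · intro k hk
      rw [mem_elts] at hk
      rw [Finset.mem_filter, mem_elts]
      refine ⟨D.mul_mem (mem_elts.1 hd0) (hKD hk), ?_⟩
      rw [QuotientGroup.eq]
      simpa using K.inv_mem hk
    · intro d _; simp
    · intro k _; simp
  set b : MonoidAlgebra ℚ H :=
    ∑ q ∈ (elts D).image (fun d : H => (d : H ⧸ K)), MonoidAlgebra.of ℚ H (q.out * t) with hb
  refine ⟨b, AddSubgroup.sum_mem _ fun q _ => of_mem _, ?_⟩
  have hsum : ∑ d ∈ elts D, MonoidAlgebra.of ℚ H (d * t) * idem D =
      (Nat.card K : ℚ) • (b * idem D) := by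
    calc ∑ d ∈ elts D, MonoidAlgebra.of ℚ H (d * t) * idem D
        = ∑ d ∈ elts D, (fun q : H ⧸ K => MonoidAlgebra.of ℚ H (q.out * t) * idem D) (d : H ⧸ K) :=
          Finset.sum_congr rfl fun d _ => (hout d).symm
      _ = ∑ q ∈ (elts D).image (fun d : H => (d : H ⧸ K)),
            ((elts D).filter (fun d : H => (d : H ⧸ K) = q)).card •
              (MonoidAlgebra.of ℚ H (q.out * t) * idem D) :=
          Finset.sum_comp (fun q : H ⧸ K => MonoidAlgebra.of ℚ H (q.out * t) * idem D)
            (fun d : H => (d : H ⧸ K))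
      _ = ∑ q ∈ (elts D).image (fun d : H => (d : H ⧸ K)),
            (Nat.card K : ℚ) • (MonoidAlgebra.of ℚ H (q.out * t) * idem D) := by
          refine Finset.sum_congr rfl fun q hq => ?_
          rw [hfib q hq, ← Nat.cast_smul_eq_nsmul ℚ]
      _ = _ := by rw [← Finset.smul_sum, hb, Finset.sum_mul]
  have hid : idem D * MonoidAlgebra.of ℚ H t * idem D =
      ((Nat.card D : ℚ)⁻¹ * Nat.card K) • (b * idem D) := by
    rw [← smul_smul, ← hsum]
    have h : ∀ x, idem D * x = ((Nat.card D : ℚ)⁻¹) • ((∑ d ∈ elts D, MonoidAlgebra.of ℚ H d) * x) := by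
      intro x; rw [← smul_mul_assoc]; rfl
    rw [mul_assoc, h, sum_mul]
    congr 1
    refine Finset.sum_congr rfl fun d _ => ?_
    rw [← mul_assoc, ← map_mul]
  rw [cc_mul_idem ht htr, hid, smul_smul]
  have hrel : ((D.map (MulAut.conj t).toMonoidHom).relIndex D) * Nat.card K = Nat.card D := by
    have h3 := Subgroup.relIndex_mul_relIndex (⊥ : Subgroup H) K D bot_le hKD
    rw [Subgroup.relIndex_bot_left, Subgroup.relIndex_bot_left] at h3
    rw [← Subgroup.inf_relIndex_right, mul_comm]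
    exact h3
  have h1 : ((((D.map (MulAut.conj t).toMonoidHom).relIndex D : ℕ) : ℚ)) *
      ((Nat.card D : ℚ)⁻¹ * Nat.card K) = 1 := by
    have h2 : (((D.map (MulAut.conj t).toMonoidHom).relIndex D : ℕ) : ℚ) * (Nat.card K : ℚ) =
        Nat.card D := by exact_mod_cast hrel
    calc _ = (Nat.card D : ℚ)⁻¹ * ((((D.map (MulAut.conj t).toMonoidHom).relIndex D : ℕ) : ℚ) *
            (Nat.card K : ℚ)) := by ring
      _ = 1 := by rw [h2, inv_mul_cancel₀ (card_ne_zero D)]
  rw [h1, one_smul]

/-- The lattice `O e₁ O e₂ ⋯ O e_k O`. -/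
noncomputable def lat : List (Subgroup H) → AddSubgroup (MonoidAlgebra ℚ H)
  | [] => integral H
  | D :: l => AddSubgroup.closure {x | ∃ a ∈ integral H, ∃ y ∈ lat l, x = a * idem D * y}

/-- product of the orders -/
noncomputable def prodCard : List (Subgroup H) → ℕ
  | [] => 1
  | D :: l => Nat.card D * prodCard l

/-- product of the idempotents -/
noncomputable def prodIdem : List (Subgroup H) → MonoidAlgebra ℚ H
  | [] => 1
  | D :: l => idem D * prodIdem l

theorem prodIdem_mem (l : List (Subgroup H)) : prodIdem l ∈ lat l := by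
  induction l with
  | nil => exact one_mem_integral
  | cons D l ih =>
    exact AddSubgroup.subset_closure ⟨1, one_mem_integral, prodIdem l, ih, by rw [one_mul]; rfl⟩

theorem aug_prodIdem (l : List (Subgroup H)) : aug (prodIdem l) = 1 := by
  induction l with
  | nil => exact map_one _
  | cons D l ih =>
    show aug (idem D * prodIdem l) = 1
    rw [map_mul, aug_idem, ih, one_mul]

theorem odd_prodCard {l : List (Subgroup H)} (h : ∀ D ∈ l, Odd (Nat.card D)) :
    Odd (prodCard l) := by
  induction l with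
  | nil => exact odd_one
  | cons D l ih =>
    exact (h D List.mem_cons_self).mul (ih fun D' hD' => h D' (List.mem_cons_of_mem _ hD'))

theorem prodCard_smul_mem (l : List (Subgroup H)) :
    ∀ x ∈ lat l, (prodCard l : ℚ) • x ∈ integral H := by
  induction l with
  | nil =>
    intro x hx
    have : ((prodCard ([] : List (Subgroup H)) : ℕ) : ℚ) = 1 := by simp [prodCard]
    rw [this, one_smul]; exact hx
  | cons D l ih =>
    intro x hx
    refine AddSubgroup.closure_induction (p := fun x _ => (prodCard (D :: l) : ℚ) • x ∈ integral H)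
      ?_ ?_ ?_ ?_ hx
    · rintro _ ⟨a, ha, y, hy, rfl⟩
      have : ((prodCard (D :: l) : ℕ) : ℚ) • (a * idem D * y) =
          a * ((Nat.card D : ℚ) • idem D) * ((prodCard l : ℚ) • y) := by
        have h1 : ((prodCard (D :: l) : ℕ) : ℚ) = (Nat.card D : ℚ) * (prodCard l : ℚ) := by
          simp [prodCard]
        rw [h1, mul_smul_comm, mul_smul_comm, smul_mul_assoc, smul_smul, mul_comm (Nat.card D : ℚ)]
      rw [this]
      exact mul_mem_integral (mul_mem_integral ha (card_smul_idem D)) (ih y hy)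
    · rw [smul_zero]; exact (integral H).zero_mem
    · intro x y _ _ hx hy
      rw [smul_add]; exact (integral H).add_mem hx hy
    · intro x _ hx
      rw [smul_neg]; exact (integral H).neg_mem hx

/-- `m c Λ ⊆ Λ` -/
def Stab (l : List (Subgroup H)) (m : ℤ) : Prop := ∀ x ∈ lat l, m • (cc H * x) ∈ lat l

theorem stab_cons {D : Subgroup H} {l : List (Subgroup H)} {m : ℤ} (h : Stab l m) :
    Stab (D :: l) m := by
  intro x hx
  refine AddSubgroup.closure_induction (p := fun x _ => m • (cc H * x) ∈ lat (D :: l))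
      ?_ ?_ ?_ ?_ hx
  · rintro _ ⟨a, ha, y, hy, rfl⟩
    refine AddSubgroup.subset_closure ⟨a, ha, m • (cc H * y), h y hy, ?_⟩
    rw [mul_smul_comm, ← mul_assoc, ← mul_assoc, ← mul_assoc, comm_cc (a * idem D)]
    simp only [mul_assoc]
  · rw [mul_zero, smul_zero]; exact (lat (D :: l)).zero_mem
  · intro x y _ _ hx hy
    rw [mul_add, smul_add]; exact (lat (D :: l)).add_mem hx hy
  · intro x _ hx
    rw [mul_neg, smul_neg]; exact (lat (D :: l)).neg_mem hx

theorem stab_head {D : Subgroup H} {l : List (Subgroup H)} {t : H} (ht : orderOf t = 2)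
    (htr : ∀ u : H, orderOf u = 2 → ∃ d ∈ D, d * t * d⁻¹ = u) :
    Stab (D :: l) (((D.map (MulAut.conj t).toMonoidHom).relIndex D : ℕ) : ℤ) := by
  obtain ⟨b, hb, hbe⟩ := exists_integral ht htr
  intro x hx
  refine AddSubgroup.closure_induction (p := fun x _ =>
    (((D.map (MulAut.conj t).toMonoidHom).relIndex D : ℕ) : ℤ) • (cc H * x) ∈ lat (D :: l))
      ?_ ?_ ?_ ?_ hx
  · rintro _ ⟨a, ha, y, hy, rfl⟩
    refine AddSubgroup.subset_closure ⟨a * b, mul_mem_integral ha hb, y, hy, ?_⟩
    rw [mul_assoc a b, ← hbe, mul_smul_comm, smul_mul_assoc, ← Int.cast_smul_eq_zsmul ℚ]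
    push_cast
    congr 1
    rw [← mul_assoc, ← mul_assoc, ← mul_assoc, comm_cc a]
  · rw [mul_zero, smul_zero]; exact (lat (D :: l)).zero_mem
  · intro x y _ _ hx hy
    rw [mul_add, smul_add]; exact (lat (D :: l)).add_mem hx hy
  · intro x _ hx
    rw [mul_neg, smul_neg]; exact (lat (D :: l)).neg_mem hx

theorem stab_of_mem {t : H} (ht : orderOf t = 2) (l : List (Subgroup H))
    (htr : ∀ D ∈ l, ∀ u : H, orderOf u = 2 → ∃ d ∈ D, d * t * d⁻¹ = u) (D : Subgroup H)
    (hD : D ∈ l) : Stab l (((D.map (MulAut.conj t).toMonoidHom).relIndex D : ℕ) : ℤ) := by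
  induction l with
  | nil => simp at hD
  | cons D' l ih =>
    rcases List.mem_cons.1 hD with rfl | hD
    · exact stab_head ht (htr D List.mem_cons_self)
    · exact stab_cons (ih (fun E hE => htr E (List.mem_cons_of_mem _ hE)) hD)

/-- the set of `m` with `m c Λ ⊆ Λ` -/
noncomputable def stabGroup (l : List (Subgroup H)) : AddSubgroup ℤ where
  carrier := {m | Stab l m}
  add_mem' := by
    intro a b ha hb x hx
    rw [add_smul]; exact (lat l).add_mem (ha x hx) (hb x hx)
  zero_mem' := by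
    intro x _
    rw [zero_smul]; exact (lat l).zero_mem
  neg_mem' := by
    intro a ha x hx
    rw [neg_smul]; exact (lat l).neg_mem (ha x hx)

theorem nrm_nonneg (x : MonoidAlgebra ℚ H) : 0 ≤ nrm x :=
  Finset.sum_nonneg fun _ _ => sq_nonneg _

theorem coeff_cc_mul (x : MonoidAlgebra ℚ H) (h : H) :
    (cc H * x).coeff h = ((invs H).card : ℚ)⁻¹ * ∑ u ∈ invs H, x.coeff (u⁻¹ * h) := by
  rw [cc, smul_mul_assoc, MonoidAlgebra.coeff_smul, Finsupp.smul_apply, smul_eq_mul, Finset.sum_mul,
    MonoidAlgebra.coeff_sum, Finsupp.finset_sum_apply]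
  congr 1
  exact Finset.sum_congr rfl fun u _ => coeff_of_mul u h x

theorem nrm_of_mul (u : H) (x : MonoidAlgebra ℚ H) : nrm (MonoidAlgebra.of ℚ H u * x) = nrm x := by
  rw [nrm, nrm]
  refine Fintype.sum_equiv (Equiv.mulLeft u⁻¹) _ _ fun h => ?_
  rw [coeff_of_mul]; rfl

/-- the variance identity -/
theorem sum_nrm_sub {t : H} (ht : orderOf t = 2) (y : MonoidAlgebra ℚ H) :
    ∑ u ∈ invs H, nrm (MonoidAlgebra.of ℚ H u * y - cc H * y) =
      ((invs H).card : ℚ) * (nrm y - nrm (cc H * y)) := by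
  have hc := card_invs_ne_zero ht
  have h1 : ∀ u : H, nrm (MonoidAlgebra.of ℚ H u * y - cc H * y) =
      nrm y + (∑ h, (-2 * (cc H * y).coeff h) * y.coeff (u⁻¹ * h)) + nrm (cc H * y) := by
    intro u
    rw [← nrm_of_mul u y, nrm, nrm, nrm, ← Finset.sum_add_distrib, ← Finset.sum_add_distrib]
    refine Finset.sum_congr rfl fun h _ => ?_
    rw [MonoidAlgebra.coeff_sub, Finsupp.sub_apply, coeff_of_mul]
    ring
  rw [Finset.sum_congr rfl fun u _ => h1 u, Finset.sum_add_distrib, Finset.sum_add_distrib,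
    Finset.sum_comm]
  have h2 : ∀ h : H, ∑ u ∈ invs H, (-2 * (cc H * y).coeff h) * y.coeff (u⁻¹ * h) =
      (-2 * ((invs H).card : ℚ)) * ((cc H * y).coeff h) ^ 2 := by
    intro h
    have h3 : ∑ u ∈ invs H, y.coeff (u⁻¹ * h) = ((invs H).card : ℚ) * (cc H * y).coeff h := by
      rw [coeff_cc_mul, ← mul_assoc, mul_inv_cancel₀ hc, one_mul]
    rw [← Finset.mul_sum, h3]
    ring
  rw [Finset.sum_congr rfl fun h _ => h2 h, ← Finset.mul_sum, Finset.sum_const, Finset.sum_const,
    nsmul_eq_mul, nsmul_eq_mul]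
  have h4 : ∑ h, ((cc H * y).coeff h) ^ 2 = nrm (cc H * y) := rfl
  rw [h4]
  ring

theorem of_mul_eq_cc_mul {t : H} (ht : orderOf t = 2) {y : MonoidAlgebra ℚ H}
    (hy : nrm y ≤ nrm (cc H * y)) {u : H} (hu : orderOf u = 2) :
    MonoidAlgebra.of ℚ H u * y = cc H * y := by
  have h1 := sum_nrm_sub ht y
  have hc : (0 : ℚ) ≤ ((invs H).card : ℚ) := by positivity
  have h2 : ∑ u ∈ invs H, nrm (MonoidAlgebra.of ℚ H u * y - cc H * y) ≤ 0 := by
    rw [h1]
    exact mul_nonpos_of_nonneg_of_nonpos hc (by linarith)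
  have h3 : nrm (MonoidAlgebra.of ℚ H u * y - cc H * y) ≤ 0 :=
    le_trans (Finset.single_le_sum (f := fun u => nrm (MonoidAlgebra.of ℚ H u * y - cc H * y))
      (fun _ _ => nrm_nonneg _) (mem_invs.2 hu)) h2
  have h4 : nrm (MonoidAlgebra.of ℚ H u * y - cc H * y) = 0 := le_antisymm h3 (nrm_nonneg _)
  rw [nrm, Finset.sum_eq_zero_iff_of_nonneg fun _ _ => sq_nonneg _] at h4
  rw [← sub_eq_zero]
  ext h
  have := h4 h (Finset.mem_univ h)
  simpa using this

theorem aug_cc {t : H} (ht : orderOf t = 2) : aug (cc H) = 1 := by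
  rw [cc, map_smul, map_sum]
  simp only [aug_of, sum_const, nsmul_eq_mul, mul_one, smul_eq_mul]
  exact inv_mul_cancel₀ (card_invs_ne_zero ht)

theorem false_of_stab {s t : H} (hs : orderOf s = 2) (ht : orderOf t = 2) (hst : s ≠ t)
    (hcomm : s * t = t * s) (l : List (Subgroup H)) (hodd : ∀ D ∈ l, Odd (Nat.card D))
    (h1 : Stab l 1) : False := by
  classical
  set N : ℕ := prodCard l with hN
  have hNodd : Odd N := odd_prodCard hodd
  -- integer valued norm
  have hint : ∀ x ∈ lat l, ∃ n : ℕ, (N : ℚ) ^ 2 * nrm x = n := by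
    intro x hx
    have hx' := prodCard_smul_mem l x hx
    obtain ⟨z, hz⟩ := exists_int_sum Finset.univ (fun h : H => ((N : ℚ) * x.coeff h) ^ 2) (by
      intro h _
      obtain ⟨z, hz⟩ := hx' h
      rw [MonoidAlgebra.coeff_smul, Finsupp.smul_apply, smul_eq_mul, ← hN] at hz
      exact ⟨z ^ 2, by rw [hz]; push_cast; rfl⟩)
    have hz' : (N : ℚ) ^ 2 * nrm x = z := by
      rw [← hz, nrm, Finset.mul_sum]
      exact Finset.sum_congr rfl fun h _ => by ring
    have hz0 : 0 ≤ z := by
      have : (0 : ℚ) ≤ z := by rw [← hz']; exact mul_nonneg (sq_nonneg _) (nrm_nonneg _)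
      exact_mod_cast this
    exact ⟨z.toNat, by rw [hz']; exact_mod_cast (Int.toNat_of_nonneg hz0).symm⟩
  -- minimal norm element of augmentation one
  have hex : ∃ n : ℕ, ∃ x ∈ lat l, aug x = 1 ∧ (N : ℚ) ^ 2 * nrm x = n := by
    obtain ⟨n, hn⟩ := hint _ (prodIdem_mem l)
    exact ⟨n, _, prodIdem_mem l, aug_prodIdem l, hn⟩
  obtain ⟨y, hyl, hya, hyn⟩ := Nat.find_spec hex
  have hcy : cc H * y ∈ lat l := by simpa using h1 y hyl
  have hcya : aug (cc H * y) = 1 := by rw [map_mul, aug_cc ht, hya, one_mul]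
  have hmin : nrm y ≤ nrm (cc H * y) := by
    obtain ⟨n, hn⟩ := hint _ hcy
    have h2 : Nat.find hex ≤ n := Nat.find_min' hex ⟨_, hcy, hcya, hn⟩
    have h3 : (N : ℚ) ^ 2 * nrm y ≤ (N : ℚ) ^ 2 * nrm (cc H * y) := by
      rw [hyn, hn]; exact_mod_cast h2
    have h4 : (0 : ℚ) < (N : ℚ) ^ 2 := by
      have : 0 < N := hNodd.pos
      positivity
    exact le_of_mul_le_mul_left h3 h4
  have hu := fun u (hu : orderOf u = 2) => of_mul_eq_cc_mul ht hmin (u := u) hu
  have ht2 : t * t = 1 := by have := pow_orderOf_eq_one t; rwa [ht, pow_two] at this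
  have hs2 : s * s = 1 := by have := pow_orderOf_eq_one s; rwa [hs, pow_two] at this
  have hts : orderOf (t * s) = 2 := by
    apply orderOf_eq_prime
    · rw [pow_two]
      calc t * s * (t * s) = t * (s * t) * s := by group
        _ = (t * t) * (s * s) := by rw [hcomm]; group
        _ = 1 := by rw [ht2, hs2, one_mul]
    · intro h
      apply hst
      calc s = t * t * s := by rw [ht2, one_mul]
        _ = t * (t * s) := by group
        _ = t := by rw [h, mul_one]
  have hty : MonoidAlgebra.of ℚ H t * y = y := by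
    have e1 : MonoidAlgebra.of ℚ H t * y = MonoidAlgebra.of ℚ H s * y := by
      rw [hu t ht, hu s hs]
    calc MonoidAlgebra.of ℚ H t * y = MonoidAlgebra.of ℚ H (t * s) * y := by
          rw [hu t ht, hu _ hts]
      _ = MonoidAlgebra.of ℚ H t * (MonoidAlgebra.of ℚ H s * y) := by
          rw [map_mul, mul_assoc]
      _ = MonoidAlgebra.of ℚ H t * (MonoidAlgebra.of ℚ H t * y) := by rw [e1]
      _ = y := by rw [← mul_assoc, ← map_mul, ht2, map_one, one_mul]
  -- parity
  choose z hz using prodCard_smul_mem l y hyl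
  have hz' : ∀ h, (N : ℚ) * y.coeff h = z h := by
    intro h
    have := hz h
    rwa [MonoidAlgebra.coeff_smul, Finsupp.smul_apply, smul_eq_mul, ← hN] at this
  have hzt : ∀ h, z (t * h) = z h := by
    intro h
    have e2 : y.coeff (t * h) = y.coeff h := by
      have := coeff_of_mul t (t * h) y
      rw [hty, inv_mul_cancel_left] at this
      exact this
    have : (z (t * h) : ℚ) = z h := by rw [← hz', ← hz', e2]
    exact_mod_cast this
  have hsumN : (∑ h, z h : ℤ) = N := by
    have : ((∑ h, z h : ℤ) : ℚ) = N := by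
      push_cast
      rw [← Finset.sum_congr rfl fun h _ => hz' h, ← Finset.mul_sum, ← aug_eq_sum, hya, mul_one]
    exact_mod_cast this
  have hsum0 : ∑ h, ((z h : ℤ) : ZMod 2) = 0 := by
    refine Finset.sum_involution (fun h _ => t * h) ?_ ?_ ?_ ?_
    · intro h _
      show ((z h : ℤ) : ZMod 2) + ((z (t * h) : ℤ) : ZMod 2) = 0
      rw [hzt h]
      exact CharTwo.add_self_eq_zero _
    · intro h _ _ he
      have : t = 1 := by simpa using he
      rw [this, orderOf_one] at ht
      exact absurd ht (by norm_num)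
    · intro h _; exact Finset.mem_univ _
    · intro h _
      show t * (t * h) = h
      rw [← mul_assoc, ht2, one_mul]
  have hN2 : ((N : ℕ) : ZMod 2) = 0 := by
    have : ((∑ h, z h : ℤ) : ZMod 2) = ((N : ℤ) : ZMod 2) := by rw [hsumN]
    push_cast at this
    rw [← this]
    exact hsum0
  rw [ZMod.natCast_eq_zero_iff] at hN2
  exact (Nat.not_even_iff_odd.2 hNodd) (even_iff_two_dvd.2 hN2)

end Main

/-- **Lemma E**. Let `H` be a finite group with two distinct commuting involutions `s, t`. Then there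
is a prime `p` dividing `|D : D ∩ D^t|` for every odd order subgroup `D` of `H` transitive (by
conjugation) on the involutions of `H`. -/
theorem exists_prime_dvd_relIndex [Finite H] {s t : H} (hs : orderOf s = 2) (ht : orderOf t = 2)
    (hst : s ≠ t) (hcomm : s * t = t * s) :
    ∃ p : ℕ, p.Prime ∧ ∀ D : Subgroup H, Odd (Nat.card D) →
      (∀ u : H, orderOf u = 2 → ∃ d ∈ D, d * t * d⁻¹ = u) →
      p ∣ (D.map (MulAut.conj t).toMonoidHom).relIndex D := by
  classical
  haveI := Fintype.ofFinite H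
  let P : Subgroup H → Prop := fun D => Odd (Nat.card D) ∧
    ∀ u : H, orderOf u = 2 → ∃ d ∈ D, d * t * d⁻¹ = u
  haveI : Finite (Subgroup H) := inferInstance
  have hfin : {D : Subgroup H | P D}.Finite := Set.toFinite _
  set l : List (Subgroup H) := hfin.toFinset.toList with hl
  have hmem : ∀ D, D ∈ l ↔ P D := by intro D; simp [hl, P]
  obtain ⟨g, hg⟩ := Int.subgroup_cyclic (stabGroup l)
  have hg1 : g.natAbs ≠ 1 := by
    intro h
    apply false_of_stab hs ht hst hcomm l (fun D hD => ((hmem D).1 hD).1)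
    show (1 : ℤ) ∈ stabGroup l
    rw [hg]
    rcases Int.natAbs_eq g with h' | h'
    · rw [h', h]; exact AddSubgroup.subset_closure (by simp)
    · rw [h', h]
      have := AddSubgroup.neg_mem _ (AddSubgroup.subset_closure
        (show (-((1 : ℕ) : ℤ)) ∈ ({-((1 : ℕ) : ℤ)} : Set ℤ) from rfl))
      simpa using this
  obtain ⟨p, hp, hpg⟩ := Nat.exists_prime_and_dvd hg1
  refine ⟨p, hp, fun D h1 h2 => ?_⟩
  have h3 := stab_of_mem ht l (fun D hD => ((hmem D).1 hD).2) D ((hmem D).2 ⟨h1, h2⟩)
  have h4 : (((D.map (MulAut.conj t).toMonoidHom).relIndex D : ℕ) : ℤ) ∈ stabGroup l := h3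
  rw [hg, AddSubgroup.mem_closure_singleton] at h4
  obtain ⟨k, hk⟩ := h4
  have h5 : (p : ℤ) ∣ (((D.map (MulAut.conj t).toMonoidHom).relIndex D : ℕ) : ℤ) := by
    rw [← hk, smul_eq_mul]
    exact Dvd.dvd.mul_left (Int.natCast_dvd.2 hpg) _
  exact_mod_cast h5

end Cfsg.Agent.TwoFusion.BenderE
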