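import Cfsg.Agent.TwoFusion.CentSimple
import Cfsg.Agent.TwoFusion.PerfectOnTwo
import Cfsg.Agent.TwoFusion.GoldNorm

/-!
# The residual of the centralizer of a strongly closed 2-subgroup: the end

`hend_of_tprop`: the hypothesis `hend` of `CentSimple.good_of_end` follows from the structure theorem `TProp` for
strongly closed elementary abelian subgroups of simple groups.
-/

set_option autoImplicit false
set_option linter.style.haveILetI false

namespace Cfsg.Agent.TwoFusion.CentEndT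

open Subgroup
open scoped commutatorElement
open Cfsg.Agent.TwoFusion.ClosedFam
open Cfsg.Agent.TwoFusion.CentResidual
open Cfsg.Agent.TwoFusion.Gold (TProp TCon IsElemFam BenPack exists_sylow_subgroupOf)
open Cfsg.Agent.Lib.GoldschmidtFusion (mem_map_conj conj_mem_map_conj card_map_conj
  mem_normalizer_iff_map_conj map_conj_map_conj)

universe u

/-- The facts on `T ≤ P = S ∩ X` which are used. -/
structure Facts {G : Type u} [Group G] (S : Sylow 2 G) (X T : Subgroup G) : Prop where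
  normal : X.Normal
  le : T ≤ X
  sc : Cfsg.IsStronglyClosed T (S : Subgroup G)
  mem : ∀ x ∈ (S : Subgroup G), x ∈ X → x * x = 1 → x ∈ T
  sq : ∀ t ∈ T, t * t = 1
  comm : ∀ t ∈ T, ∀ s ∈ (S : Subgroup G), s ∈ X → s * t = t * s
  conj : ∀ x ∈ T, ∀ y ∈ T, x ≠ 1 → y ≠ 1 → ∃ g ∈ X, g * x * g⁻¹ = y
  norm : centralizer (T : Set G) ≤ normalizer (((S : Subgroup G) ⊓ X : Subgroup G) : Set G)

theorem facts_of_tprop {G : Type u} [Group G] [Finite G] (S : Sylow 2 G) (X T : Subgroup G) (hX : X.Normal)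
    (hTX : T ≤ X) (hT : Cfsg.IsStronglyClosed T (S : Subgroup G)) (hT1 : T ≠ ⊥) (hsq : ∀ t ∈ T, t * t = 1)
    (hprop : TProp X) : Facts S X T := by
  classical
  haveI : Fact (Nat.Prime 2) := ⟨Nat.prime_two⟩
  obtain ⟨t₀, ht₀, ht₀1⟩ := (T.bot_or_exists_ne_one).resolve_left hT1
  have hfam : IsElemFam {x : G | ∃ g : G, g * x * g⁻¹ ∈ T} := by
    refine { toIsClosedFam := isClosedFam_of_isStronglyClosed S T hT, sq := ?_ }
    rintro x ⟨g, hg⟩
    have h1 := hsq _ hg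
    have e : g * x * g⁻¹ * (g * x * g⁻¹) = g * (x * x) * g⁻¹ := by group
    rw [e, mul_inv_eq_one, mul_eq_left] at h1
    exact h1
  have htc : TCon X := by
    refine hprop _ (hfam.restrict X) ⟨⟨t₀, hTX ht₀⟩, ⟨1, ?_⟩, fun e => ht₀1 (congrArg Subtype.val e)⟩
    rw [one_mul, inv_one, mul_one]
    exact ht₀
  obtain ⟨P₀, hP₀⟩ := exists_sylow_subgroupOf S (Normal.isSubnormal hX)
  have hP₀m : ∀ {x : X}, x ∈ (P₀ : Subgroup X) ↔ (x : G) ∈ (S : Subgroup G) := by
    intro x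
    rw [hP₀, mem_subgroupOf]
  have ord : ∀ (x : G) (hx : x ∈ X), x * x = 1 → x ≠ 1 → orderOf (⟨x, hx⟩ : X) = 2 := by
    intro x hx h1 h2
    exact orderOf_eq_prime (Subtype.ext (by rw [pow_two]; exact h1)) (fun e => h2 (congrArg Subtype.val e))
  have hconj : ∀ x y : G, x ∈ X → y ∈ X → x * x = 1 → y * y = 1 → x ≠ 1 → y ≠ 1 →
      ∃ g ∈ X, g * x * g⁻¹ = y := by
    intro x y hx hy hx2 hy2 hx1 hy1
    obtain ⟨g, hg⟩ := htc.conj ⟨x, hx⟩ ⟨y, hy⟩ (ord x hx hx2 hx1) (ord y hy hy2 hy1)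
    exact ⟨g, g.2, congrArg Subtype.val hg⟩
  have hmem : ∀ x ∈ (S : Subgroup G), x ∈ X → x * x = 1 → x ∈ T := by
    intro x hxS hxX hx2
    by_cases hx1 : x = 1
    · rw [hx1]; exact one_mem _
    obtain ⟨g, -, hg⟩ := hconj t₀ x (hTX ht₀) hxX (hsq t₀ ht₀) hx2 ht₀1 hx1
    have h1 := hT.2 t₀ ht₀ g (by rw [hg]; exact hxS)
    rwa [hg] at h1
  refine ⟨hX, hTX, hT, hmem, hsq, ?_, ?_, ?_⟩
  · intro t ht s hs hsX
    have h1 := htc.central P₀ ⟨t, hTX ht⟩ (hP₀m.2 (hT.1 ht)) (Subtype.ext (hsq t ht)) ⟨s, hsX⟩ (hP₀m.2 hs)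
    exact congrArg Subtype.val h1
  · intro x hx y hy hx1 hy1
    exact hconj x y (hTX hx) (hTX hy) (hsq x hx) (hsq y hy) hx1 hy1
  · intro g hg
    have hgT : ∀ t ∈ T, g * t * g⁻¹ = t := by
      intro t ht
      have := mem_centralizer_iff.1 hg t ht
      rw [← this]; group
    rcases htc.alt with h1 | h1
    · -- `P = T`
      have h2 : ((S : Subgroup G) ⊓ X : Subgroup G) = T := by
        apply le_antisymm
        · intro x hx
          obtain ⟨hxS, hxX⟩ := mem_inf.1 hx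
          exact hmem x hxS hxX (congrArg Subtype.val (h1 P₀ ⟨x, hxX⟩ (hP₀m.2 hxS)))
        · exact fun x hx => mem_inf.2 ⟨hT.1 hx, hTX hx⟩
      rw [h2]
      exact (centralizer_le_normalizer _) hg
    · obtain ⟨P₁, hP₁⟩ := exists_sylow_subgroupOf (g • S) (Normal.isSubnormal hX)
      have hP₁m : ∀ {x : X}, x ∈ (P₁ : Subgroup X) ↔ g⁻¹ * (x : G) * g ∈ (S : Subgroup G) := by
        intro x
        rw [hP₁, mem_subgroupOf]
        have : ((g • S : Sylow 2 G) : Subgroup G) = (S : Subgroup G).map (MulAut.conj g).toMonoidHom := rfl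
        rw [this, mem_map_conj]
      have h2 : P₀ = P₁ := by
        by_contra hne
        have h3 := h1.ti P₀ P₁ hne
        have h4 : (⟨t₀, hTX ht₀⟩ : X) ∈ (P₀ : Subgroup X) ⊓ P₁ := by
          rw [mem_inf]
          refine ⟨hP₀m.2 (hT.1 ht₀), hP₁m.2 ?_⟩
          have h5 : g⁻¹ * t₀ * g = t₀ := by
            calc g⁻¹ * t₀ * g = g⁻¹ * (g * t₀ * g⁻¹) * g := by rw [hgT t₀ ht₀]
              _ = t₀ := by group
          change g⁻¹ * t₀ * g ∈ (S : Subgroup G)
          rw [h5]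
          exact hT.1 ht₀
        rw [h3, mem_bot] at h4
        exact ht₀1 (congrArg Subtype.val h4)
      rw [mem_normalizer_iff]
      intro x
      constructor
      · intro hx
        obtain ⟨hxS, hxX⟩ := mem_inf.1 hx
        have h3 : g * x * g⁻¹ ∈ X := hX.conj_mem x hxX g
        refine mem_inf.2 ⟨?_, h3⟩
        have h4 : (⟨g * x * g⁻¹, h3⟩ : X) ∈ (P₁ : Subgroup X) := by
          rw [hP₁m]
          have e : g⁻¹ * (g * x * g⁻¹) * g = x := by group
          change g⁻¹ * (g * x * g⁻¹) * g ∈ (S : Subgroup G)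
          rw [e]; exact hxS
        rw [← h2, hP₀m] at h4
        exact h4
      · intro hx
        obtain ⟨hxS, hxX⟩ := mem_inf.1 hx
        have h3 : (⟨g * x * g⁻¹, hxX⟩ : X) ∈ (P₀ : Subgroup X) := hP₀m.2 hxS
        rw [h2, hP₁m] at h3
        have e : g⁻¹ * (g * x * g⁻¹) * g = x := by group
        change g⁻¹ * (g * x * g⁻¹) * g ∈ (S : Subgroup G) at h3
        rw [e] at h3
        have h4 := hX.conj_mem _ hxX g⁻¹
        have e2 : g⁻¹ * (g * x * g⁻¹) * g⁻¹⁻¹ = x := by group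
        rw [e2] at h4
        exact mem_inf.2 ⟨h3, h4⟩

namespace Facts

variable {G : Type u} [Group G] [Finite G] {S : Sylow 2 G} {X T : Subgroup G} (h : Facts S X T)
include h

theorem isSyl : IsSyl ((S : Subgroup G) ⊓ X) X :=
  (isSyl_top S).inf le_top (by
    haveI := h.normal
    rw [Subgroup.normalizer_eq_top])

omit [Finite G] in
theorem le_P : T ≤ (S : Subgroup G) ⊓ X := fun _ ht => mem_inf.2 ⟨h.sc.1 ht, h.le ht⟩

omit [Finite G] in
theorem normalizer_le : normalizer (((S : Subgroup G) ⊓ X : Subgroup G) : Set G) ≤ normalizer (T : Set G) := by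
  have key : ∀ g ∈ normalizer (((S : Subgroup G) ⊓ X : Subgroup G) : Set G), ∀ t ∈ T, g * t * g⁻¹ ∈ T := by
    intro g hg t ht
    have h1 := (mem_normalizer_iff.1 hg t).1 (h.le_P ht)
    exact h.sc.2 t ht g (mem_inf.1 h1).1
  intro g hg
  rw [mem_normalizer_iff]
  intro x
  refine ⟨key g hg x, fun hx => ?_⟩
  have h1 := key g⁻¹ (inv_mem hg) _ hx
  have e : g⁻¹ * (g * x * g⁻¹) * g⁻¹⁻¹ = x := by group
  rwa [e] at h1

/-- `N_X(P)` is transitive on `T#`. -/
theorem exists_conj {x y : G} (hx : x ∈ T) (hy : y ∈ T) {g : G} (hg : g ∈ X) (hgx : g * x * g⁻¹ = y) :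
    ∃ n ∈ X, n ∈ normalizer (((S : Subgroup G) ⊓ X : Subgroup G) : Set G) ∧ n * x * n⁻¹ = y := by
  set P : Subgroup G := (S : Subgroup G) ⊓ X with hP
  have hP2 : IsPGroup 2 P := S.2.to_le inf_le_left
  set C : Subgroup G := X ⊓ centralizer ({y} : Set G) with hC
  have hmemC : ∀ {z : G}, z ∈ centralizer ({y} : Set G) ↔ z * y = y * z := by
    intro z
    rw [mem_centralizer_iff]
    simp only [Set.mem_singleton_iff, forall_eq]
    exact eq_comm
  have hPC : P ≤ C := by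
    intro s hs
    obtain ⟨hsS, hsX⟩ := mem_inf.1 hs
    exact mem_inf.2 ⟨hsX, hmemC.2 (h.comm y hy s hsS hsX)⟩
  obtain ⟨R, hPR, hR⟩ := exists_isSyl hP2 hPC
  have hRP : P = R := h.isSyl.eq_of_le hR.two (hR.le.trans inf_le_left) hPR
  subst hRP
  obtain ⟨c, hc, hcP⟩ := hR.conj (P.map (MulAut.conj g).toMonoidHom) (hP2.map _) (by
    rintro _ ⟨s, hs, rfl⟩
    obtain ⟨hsS, hsX⟩ := mem_inf.1 hs
    refine mem_inf.2 ⟨h.normal.conj_mem s hsX g, ?_⟩
    change g * s * g⁻¹ ∈ centralizer ({y} : Set G)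
    rw [hmemC, ← hgx]
    have h1 := h.comm x hx s hsS hsX
    calc g * s * g⁻¹ * (g * x * g⁻¹) = g * (s * x) * g⁻¹ := by group
      _ = g * (x * s) * g⁻¹ := by rw [h1]
      _ = g * x * g⁻¹ * (g * s * g⁻¹) := by group)
  obtain ⟨hcX, hcC⟩ := mem_inf.1 hc
  refine ⟨c * g, mul_mem hcX hg, ?_, ?_⟩
  · rw [mem_normalizer_iff_map_conj]
    have h1 : P.map (MulAut.conj (c * g)).toMonoidHom ≤ P := by
      rw [← map_conj_map_conj]
      rintro _ ⟨_, ⟨r, hr, rfl⟩, rfl⟩
      exact hcP _ ⟨r, hr, rfl⟩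
    exact Subgroup.eq_of_le_of_card_ge h1 (by rw [card_map_conj])
  · have h1 := hmemC.1 hcC
    calc c * g * x * (c * g)⁻¹ = c * (g * x * g⁻¹) * c⁻¹ := by group
      _ = y * c * c⁻¹ := by rw [hgx, h1]
      _ = y := by group

/-- 2-elements of `X` which centralize `P` lie in `P`. -/
theorem mem_of_comm {z : G} (hz : z ∈ X) (hc : ∀ s ∈ (S : Subgroup G), s ∈ X → s * z = z * s)
    {k : ℕ} (hk : z ^ 2 ^ k = 1) : z ∈ (S : Subgroup G) ⊓ X := by
  haveI : Fact (Nat.Prime 2) := ⟨Nat.prime_two⟩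
  set P : Subgroup G := (S : Subgroup G) ⊓ X with hP
  have hP2 : IsPGroup 2 P := S.2.to_le inf_le_left
  have hZ2 : IsPGroup 2 (zpowers z) := by
    rintro ⟨y, hy⟩
    obtain ⟨n, rfl⟩ := mem_zpowers_iff.1 hy
    refine ⟨k, Subtype.ext ?_⟩
    change (z ^ n) ^ 2 ^ k = 1
    rw [← zpow_natCast, ← zpow_mul, mul_comm, zpow_mul, zpow_natCast, hk, one_zpow]
  have hZP : zpowers z ≤ normalizer (P : Set G) := by
    rw [zpowers_le]
    refine centralizer_le_normalizer _ ?_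
    rw [mem_centralizer_iff]
    intro s hs
    obtain ⟨hsS, hsX⟩ := mem_inf.1 hs
    exact hc s hsS hsX
  have h1 : IsPGroup 2 (zpowers z ⊔ P : Subgroup G) := IsPGroup.to_sup_of_normal_right' hZ2 hP2 hZP
  have h2 : P = zpowers z ⊔ P :=
    h.isSyl.eq_of_le h1 (sup_le (by rw [zpowers_le]; exact hz) inf_le_right) le_sup_right
  rw [h2]
  exact mem_sup_left (mem_zpowers z)

/-- A perfect subgroup of `C_G(T)` normalized by `N_G(P)` centralizes `P`. -/
theorem comm_of_perfect (hFT : ∀ (K : Type u) [Group K] [Finite K], Odd (Nat.card K) → Group.IsSolvable K)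
    {L : Subgroup G} (hL : L ≤ ⁅L, L⁆) (hLT : L ≤ centralizer (T : Set G))
    (hLn : normalizer (((S : Subgroup G) ⊓ X : Subgroup G) : Set G) ≤ normalizer (L : Set G)) :
    ∀ l ∈ L, ∀ s ∈ (S : Subgroup G), s ∈ X → l * s = s * l := by
  classical
  set P : Subgroup G := (S : Subgroup G) ⊓ X with hP
  have hP2 : IsPGroup 2 P := S.2.to_le inf_le_left
  set Γ : Subgroup G := normalizer (P : Set G) with hΓ
  have hLΓ : L ≤ Γ := hLT.trans h.norm
  letI : MulDistribMulAction Γ P := MulDistribMulAction.compHom P (normalizerMonoidHom P)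
  have hsmul : ∀ (g : Γ) (x : P), ((g • x : P) : G) = (g : G) * x * (g : G)⁻¹ := fun g x => rfl
  haveI hAn : (L.subgroupOf Γ).Normal := normal_subgroupOf_of_le_normalizer hLn
  have hA : ⁅L.subgroupOf Γ, L.subgroupOf Γ⁆ = L.subgroupOf Γ := by
    apply Subgroup.map_injective Γ.subtype_injective
    rw [map_commutator, subgroupOf_map_subtype, inf_eq_left.2 hLΓ]
    refine le_antisymm ?_ hL
    rw [commutator_le]
    intro a ha b hb
    rw [commutatorElement_def]
    exact mul_mem (mul_mem (mul_mem ha hb) (inv_mem ha)) (inv_mem hb)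
  intro l hl s hsS hsX
  have h1 := Cfsg.Agent.TwoFusion.PerfectOnTwo.smul_eq (Γ := Γ) (L.subgroupOf Γ) hA hFT (P := P) hP2
    (T.subgroupOf P) (by
      intro x
      rw [mem_subgroupOf]
      constructor
      · intro hx
        exact Subtype.ext (h.sq _ hx)
      · intro hx
        obtain ⟨hxS, hxX⟩ := mem_inf.1 x.2
        exact h.mem x hxS hxX (congrArg Subtype.val hx)) (by
      intro a ha x hx
      apply Subtype.ext
      rw [hsmul]
      have h2 := mem_centralizer_iff.1 (hLT (mem_subgroupOf.1 ha)) x (mem_subgroupOf.1 hx)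
      rw [← h2]; group) (by
      intro x hx y hy hx1 hy1
      obtain ⟨g, hgX, hg⟩ := h.conj x (mem_subgroupOf.1 hx) y (mem_subgroupOf.1 hy)
        (fun e => hx1 (Subtype.ext e)) (fun e => hy1 (Subtype.ext e))
      obtain ⟨n, -, hn, hnx⟩ := h.exists_conj (mem_subgroupOf.1 hx) (mem_subgroupOf.1 hy) hgX hg
      exact ⟨⟨n, hn⟩, Subtype.ext hnx⟩) ⟨l, hLΓ hl⟩ hl ⟨s, mem_inf.2 ⟨hsS, hsX⟩⟩
  have h2 := congrArg Subtype.val h1
  rw [hsmul] at h2
  exact mul_inv_eq_iff_eq_mul.1 h2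

/-- `N_X(P)` centralizes `T` (if `T` lies in a perfect subgroup of `C_G(T)` normalized by `N_G(P)`). -/
theorem comm_normalizer (hFT : ∀ (K : Type u) [Group K] [Finite K], Odd (Nat.card K) → Group.IsSolvable K)
    {L : Subgroup G} (hL : L ≤ ⁅L, L⁆) (hLT : L ≤ centralizer (T : Set G))
    (hLn : normalizer (((S : Subgroup G) ⊓ X : Subgroup G) : Set G) ≤ normalizer (L : Set G)) (hTL : T ≤ L)
    {n : G} (hn : n ∈ normalizer (((S : Subgroup G) ⊓ X : Subgroup G) : Set G)) (hnX : n ∈ X) :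
    ∀ t ∈ T, n * t * n⁻¹ = t := by
  classical
  haveI : Fact (Nat.Prime 2) := ⟨Nat.prime_two⟩
  have hLP := h.comm_of_perfect hFT hL hLT hLn
  set P : Subgroup G := (S : Subgroup G) ⊓ X with hP
  have hP2 : IsPGroup 2 P := S.2.to_le inf_le_left
  have hLΓ : L ≤ normalizer (P : Set G) := hLT.trans h.norm
  set C₀ : Subgroup G := L ⊓ X with hC₀
  -- the index of the centre of `C₀` is odd
  have hCP : ∀ x ∈ C₀, ∀ s ∈ P, x * s = s * x := by
    intro x hx s hs
    exact hLP x (mem_inf.1 hx).1 s (mem_inf.1 hs).1 (mem_inf.1 hs).2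
  have hPC₀ : P ≤ normalizer (C₀ : Set G) := by
    intro s hs
    refine centralizer_le_normalizer _ ?_
    rw [mem_centralizer_iff]
    intro x hx
    exact hCP x hx s hs
  obtain ⟨R, hPR, hR⟩ := exists_isSyl hP2 (le_sup_right : P ≤ C₀ ⊔ P)
  have hRP : P = R := h.isSyl.eq_of_le hR.two (hR.le.trans (sup_le inf_le_right inf_le_right)) hPR
  have hsylC : IsSyl (P ⊓ C₀) C₀ := by
    rw [← hRP] at hR
    exact hR.inf le_sup_left (sup_le le_normalizer hPC₀)
  have hodd : Odd (center C₀).index := by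
    have h1 : (P ⊓ C₀).subgroupOf C₀ ≤ center C₀ := by
      intro x hx
      rw [mem_center_iff]
      intro y
      apply Subtype.ext
      exact (hCP y y.2 x (mem_inf.1 (mem_subgroupOf.1 hx)).1)
    have h2 := hsylC.odd_relIndex
    have h3 : (center C₀).index ∣ (P ⊓ C₀).relIndex C₀ := Subgroup.index_dvd_of_le h1
    exact h2.of_dvd_nat h3
  set c := (center C₀).index with hc
  obtain ⟨k, m, hm, hkm⟩ := Nat.exists_eq_two_pow_mul_odd (n := Nat.card G) Nat.card_pos.ne'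
  set M := c * m with hM
  have hModd : Odd M := hodd.mul hm
  -- the `M`-th power
  have hpow : ∀ x ∈ C₀, ∀ y ∈ C₀, (x * y) ^ M = x ^ M * y ^ M := by
    intro x hx y hy
    have h1 : ((⟨x, hx⟩ * ⟨y, hy⟩ : C₀)) ^ c = (⟨x, hx⟩ : C₀) ^ c * (⟨y, hy⟩ : C₀) ^ c := by
      have h2 := (MonoidHom.transferCenterPow C₀).map_mul ⟨x, hx⟩ ⟨y, hy⟩
      have h3 := congrArg Subtype.val h2
      rw [Subgroup.coe_mul, MonoidHom.transferCenterPow_apply, MonoidHom.transferCenterPow_apply,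
        MonoidHom.transferCenterPow_apply] at h3
      exact h3
    have h2 : (⟨x, hx⟩ : C₀) ^ c ∈ center C₀ := by
      have h3 := (MonoidHom.transferCenterPow C₀ ⟨x, hx⟩).2
      rw [MonoidHom.transferCenterPow_apply] at h3
      exact h3
    have h3 : ((x * y) ^ c : G) = x ^ c * y ^ c := congrArg Subtype.val h1
    have h4 : Commute (x ^ c) (y ^ c) := by
      have := mem_center_iff.1 h2 ((⟨y, hy⟩ : C₀) ^ c)
      exact (congrArg Subtype.val this).symm
    rw [hM, pow_mul, pow_mul, pow_mul, h3, h4.mul_pow]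
  have hpP : ∀ x ∈ C₀, x ^ M ∈ P := by
    intro x hx
    refine h.mem_of_comm (k := k) (pow_mem (mem_inf.1 hx).2 M) ?_ ?_
    · intro s hs hsX
      exact (hCP _ (pow_mem hx M) s (mem_inf.2 ⟨hs, hsX⟩)).symm
    · rw [← pow_mul, hM, mul_assoc, mul_comm m, ← hkm, mul_comm, pow_mul, pow_card_eq_one', one_pow]
  have hnL : ∀ l ∈ L, n * l * n⁻¹ ∈ L := fun l hl => (mem_normalizer_iff.1 (hLn hn) l).1 hl
  have hcm : ∀ l ∈ L, l * n * l⁻¹ * n⁻¹ ∈ C₀ := by
    intro l hl
    refine mem_inf.2 ⟨?_, mul_mem (h.normal.conj_mem n hnX l) (inv_mem hnX)⟩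
    have e : l * n * l⁻¹ * n⁻¹ = l * (n * l⁻¹ * n⁻¹) := by group
    rw [e]
    exact mul_mem hl (hnL _ (inv_mem hl))
  haveI hPs : Group.IsSolvable P := by
    haveI := hP2.isNilpotent
    exact IsNilpotent.to_isSolvable
  let f : L →* P :=
    { toFun := fun l => ⟨((l : G) * n * (l : G)⁻¹ * n⁻¹) ^ M, hpP _ (hcm l l.2)⟩
      map_one' := by
        apply Subtype.ext
        change ((1 : G) * n * (1 : G)⁻¹ * n⁻¹) ^ M = 1
        have e : (1 : G) * n * (1 : G)⁻¹ * n⁻¹ = 1 := by group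
        rw [e, one_pow]
      map_mul' := by
        intro a b
        apply Subtype.ext
        change ((a * b : G) * n * (a * b : G)⁻¹ * n⁻¹) ^ M =
          ((a : G) * n * (a : G)⁻¹ * n⁻¹) ^ M * ((b : G) * n * (b : G)⁻¹ * n⁻¹) ^ M
        have hb := hcm b b.2
        have ha := hcm a a.2
        have e : (a * b : G) * n * (a * b : G)⁻¹ * n⁻¹ =
            ((a : G) * ((b : G) * n * (b : G)⁻¹ * n⁻¹) * (a : G)⁻¹) * ((a : G) * n * (a : G)⁻¹ * n⁻¹) := by
          group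
        have hab : (a : G) * ((b : G) * n * (b : G)⁻¹ * n⁻¹) * (a : G)⁻¹ ∈ C₀ :=
          mem_inf.2 ⟨mul_mem (mul_mem a.2 (mem_inf.1 hb).1) (inv_mem a.2),
            h.normal.conj_mem _ (mem_inf.1 hb).2 a⟩
        rw [e, hpow _ hab _ ha, conj_pow]
        have h1 := hpP _ hb
        have h2 := hLP a a.2 _ (mem_inf.1 h1).1 (mem_inf.1 h1).2
        rw [h2, mul_inv_cancel_right]
        exact (hCP _ (pow_mem ha M) _ h1).symm }
  have hcomm : commutator L = ⊤ := by
    apply Cfsg.Agent.TwoFusion.PerfectOnTwo.commutator_eq_top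
    refine le_antisymm ?_ hL
    rw [commutator_le]
    intro a ha b hb
    rw [commutatorElement_def]
    exact mul_mem (mul_mem (mul_mem ha hb) (inv_mem ha)) (inv_mem hb)
  intro t ht
  have h1 : ((t * n * t⁻¹ * n⁻¹) ^ M : G) = 1 :=
    congrArg Subtype.val (Cfsg.Agent.TwoFusion.PerfectOnTwo.hom_eq_one hcomm f ⟨t, hTL ht⟩)
  have h2 : t * n * t⁻¹ * n⁻¹ ∈ T := by
    have e : t * n * t⁻¹ * n⁻¹ = t * (n * t⁻¹ * n⁻¹) := by group
    rw [e]
    exact mul_mem ht ((mem_normalizer_iff.1 (h.normalizer_le hn) _).1 (inv_mem ht))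
  have h3 := h.sq _ h2
  have h4 : t * n * t⁻¹ * n⁻¹ = 1 := by
    obtain ⟨j, hj⟩ := hModd
    rw [hj, pow_succ, pow_mul, pow_two, h3, one_pow, one_mul] at h1
    exact h1
  have h5 : t * n * t⁻¹ = n := mul_inv_eq_one.1 h4
  have h6 : t * n = n * t := mul_inv_eq_iff_eq_mul.1 h5
  rw [← h6, mul_inv_cancel_right]

/-- The contradiction. -/
theorem false_of_perfect (hFT : ∀ (K : Type u) [Group K] [Finite K], Odd (Nat.card K) → Group.IsSolvable K)
    (hXs : IsSimpleGroup X) (hnab : ∃ a b : X, a * b ≠ b * a) (hT1 : T ≠ ⊥)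
    {L : Subgroup G} (hL : L ≤ ⁅L, L⁆) (hLT : L ≤ centralizer (T : Set G))
    (hLn : normalizer (((S : Subgroup G) ⊓ X : Subgroup G) : Set G) ≤ normalizer (L : Set G)) (hTL : T ≤ L) :
    False := by
  classical
  haveI : Fact (Nat.Prime 2) := ⟨Nat.prime_two⟩
  obtain ⟨t₀, ht₀, ht₀1⟩ := (T.bot_or_exists_ne_one).resolve_left hT1
  obtain ⟨P₀, hP₀⟩ := exists_sylow_subgroupOf S (Normal.isSubnormal h.normal)
  have hP₀m : ∀ {x : X}, x ∈ (P₀ : Subgroup X) ↔ (x : G) ∈ (S : Subgroup G) := by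
    intro x
    rw [hP₀, mem_subgroupOf]
  have ho : orderOf (⟨t₀, h.le ht₀⟩ : X) = 2 :=
    orderOf_eq_prime (Subtype.ext (by rw [pow_two]; exact h.sq t₀ ht₀)) (fun e => ht₀1 (congrArg Subtype.val e))
  obtain ⟨N, hN, hNodd, hNc⟩ := Cfsg.Agent.S0215.result P₀ ⟨t₀, h.le ht₀⟩ ho (hP₀m.2 (h.sc.1 ht₀)) (by
    intro g hg
    have hg' : (g : G) * t₀ * (g : G)⁻¹ ∈ (S : Subgroup G) := hP₀m.1 hg
    have h1 := h.sc.2 t₀ ht₀ g hg'
    obtain ⟨n, hnX, hn, hnt⟩ := h.exists_conj ht₀ h1 g.2 rfl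
    rw [h.comm_normalizer hFT hL hLT hLn hTL hn hnX t₀ ht₀] at hnt
    exact Subtype.ext hnt.symm)
  have hN1 : N = ⊥ := by
    rcases hXs.eq_bot_or_eq_top_of_normal N hN with h1 | h1
    · exact h1
    · exfalso
      rw [h1, Subgroup.card_top] at hNodd
      have h2 : 2 ∣ Nat.card X := by rw [← ho]; exact orderOf_dvd_natCard _
      exact (Nat.not_even_iff_odd.2 hNodd) (even_iff_two_dvd.2 h2)
  have hcen : (⟨t₀, h.le ht₀⟩ : X) ∈ center X := by
    rw [mem_center_iff]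
    intro g
    have h1 := hNc g
    rw [hN1, mem_bot, mul_inv_eq_one, mul_inv_eq_iff_eq_mul] at h1
    exact h1.symm
  rcases hXs.eq_bot_or_eq_top_of_normal (center X) inferInstance with h1 | h1
  · rw [h1, mem_bot] at hcen
    exact ht₀1 (congrArg Subtype.val hcen)
  · obtain ⟨a, b, hab⟩ := hnab
    have : b ∈ center X := by rw [h1]; exact mem_top b
    exact hab (mem_center_iff.1 this a)

end Facts

/-- **The end**: the hypothesis `hend` of `good_of_end` from `TProp`. -/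
theorem hend_of_tprop (hFT : ∀ (K : Type u) [Group K] [Finite K], Odd (Nat.card K) → Group.IsSolvable K)
    (hT : ∀ (G : Type u) [Group G] [Finite G], IsSimpleGroup G → (∃ a b : G, a * b ≠ b * a) → TProp G)
    (G : Type u) [Group G] [Finite G] (S : Sylow 2 G) (X T A : Subgroup G) (hX : X.Normal)
    (hXs : IsSimpleGroup X) (hTX : T ≤ X) (hsc : Cfsg.IsStronglyClosed T (S : Subgroup G)) (hT1 : T ≠ ⊥)
    (hsq : ∀ t ∈ T, t * t = 1) (hA : A ≤ ⁅A, A⁆) (hAT : ∀ a ∈ A, ∀ t ∈ T, a * t = t * a) (hTA : T ≤ A)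
    (_ : X ⊔ A = ⊤) (hCX : centralizer (X : Set G) = ⊥) : ⁅X, A⁆ = ⊥ := by
  exfalso
  have hnab : ∃ a b : X, a * b ≠ b * a := by
    by_contra hcon
    push Not at hcon
    have h1 : X ≤ centralizer (X : Set G) := by
      intro x hx
      rw [mem_centralizer_iff]
      intro y hy
      exact congrArg Subtype.val (hcon ⟨y, hy⟩ ⟨x, hx⟩)
    rw [hCX, le_bot_iff] at h1
    obtain ⟨x, y, hxy⟩ := hXs.exists_pair_ne
    have hone : ∀ z ∈ X, z = 1 := fun z hz => mem_bot.1 (h1.le hz)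
    exact hxy (Subtype.ext ((hone _ x.2).trans (hone _ y.2).symm))
  have h := facts_of_tprop S X T hX hTX hsc hT1 hsq (hT X hXs hnab)
  refine h.false_of_perfect hFT hXs hnab hT1 (L := PR (centralizer (T : Set G))) (PR_perfect _) (PR_le _) ?_ ?_
  · exact h.normalizer_le.trans (normalizer_le_normalizer_PR_centralizer T)
  · refine hTA.trans (le_PR ?_ hA)
    intro a ha
    rw [mem_centralizer_iff]
    intro t ht
    exact (hAT a ha t ht).symm

end Cfsg.Agent.TwoFusion.CentEndT
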