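import Cfsg.Agent.TwoFusion.CentEndT

/-!
# The residual of the centralizer of a strongly closed 2-subgroup: assembly

`normal`: the statement of S1173 from the Odd Order Theorem, the product theorem for closed families and `TProp`.
-/

set_option autoImplicit false
set_option linter.style.haveILetI false

namespace Cfsg.Agent.TwoFusion.CentMain

open Subgroup
open scoped commutatorElement
open Cfsg.Agent.TwoFusion.ClosedFam
open Cfsg.Agent.TwoFusion.CentResidual
open Cfsg.Agent.TwoFusion.Gold (TProp)

universe u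

/-- The statement of S1173. -/
theorem normal (hFT : ∀ (K : Type u) [Group K] [Finite K], Odd (Nat.card K) → Group.IsSolvable K)
    (hC1 : ∀ (G : Type u) [Group G] [Finite G] (𝒜 ℬ : Set G), Pair 𝒜 ℬ →
      ⁅fam 𝒜 ⊤, fam ℬ ⊤⁆ ≤ Cfsg.oddCore G)
    (hT : ∀ (G : Type u) [Group G] [Finite G], IsSimpleGroup G → (∃ a b : G, a * b ≠ b * a) → TProp G)
    {G : Type u} [Group G] [Finite G] (hO : Cfsg.oddCore G = ⊥) (S : Sylow 2 G) (T : Subgroup G)
    (hsc : Cfsg.IsStronglyClosed T (S : Subgroup G)) :
    ((⨅ n : ℕ, derivedSeries ↥(Subgroup.centralizer (T : Set G)) n).map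
      (Subgroup.centralizer (T : Set G)).subtype).Normal :=
  normal_of_good (good_of_end hFT hC1 (CentEndT.hend_of_tprop hFT hT) G) hO S T hsc

end Cfsg.Agent.TwoFusion.CentMain
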