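import Cfsg.Agent.TwoFusion.CentResidualClosed

/-!
# The residual of the centralizer of a strongly closed 2-subgroup: reduction to the central configuration

`CMin 𝒜 P`: the closed family `𝒜` consists of involutions (and `1`), it avoids `O_2(G)`, it is minimal, and
`T = fam 𝒜 P` lies in (hence in the centre of) the perfect residual of `C_G(T)`; the claim holds in all smaller
groups.

`good_of_cmin`: the claim holds for all finite groups if there are no central configurations (given the product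
theorem for disjoint closed families and the Odd Order Theorem).
-/

set_option autoImplicit false
set_option linter.style.haveILetI false

namespace Cfsg.Agent.TwoFusion.CentResidual

open Subgroup
open scoped commutatorElement
open Cfsg.Agent.TwoFusion.ClosedFam
open Cfsg.Agent.TwoFusion.ClosedLocal (core_le conj_mem_core odd_core exists_mul_of_mem_sup
  eq_one_of_odd_of_isPGroup exists_conj_of_le_sup exists_central)

universe u

/-- The central configuration. -/
structure CMin {G : Type u} [Group G] (𝒜 : Set G) (P : Sylow 2 G) : Prop where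
  closed : IsClosedFam 𝒜
  oddCore : Cfsg.oddCore G = ⊥
  two : ∀ a ∈ 𝒜, a ∈ Cfsg.pCore 2 G → a = 1
  nontriv : ∃ a ∈ 𝒜, a ≠ 1
  le : fam 𝒜 (P : Subgroup G) ≤ PR (centralizer (fam 𝒜 (P : Subgroup G) : Set G))
  sq : ∀ a ∈ 𝒜, a * a = 1
  min : ∀ ℬ : Set G, ℬ ⊆ 𝒜 → IsClosedFam ℬ → (∃ b ∈ ℬ, b ≠ 1) → ℬ = 𝒜
  good : ∀ (K : Type u) [Group K] [Finite K], Nat.card K < Nat.card G → Good K

theorem isClosedFam_inter {G : Type*} [Group G] {𝒜 ℬ : Set G} (h : IsClosedFam 𝒜) (h' : IsClosedFam ℬ) :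
    IsClosedFam (𝒜 ∩ ℬ) where
  one_mem := ⟨h.one_mem, h'.one_mem⟩
  conj_mem x hx g := ⟨h.conj_mem x hx.1 g, h'.conj_mem x hx.2 g⟩
  two x hx := h.two x hx.1
  mul_mem Q hQ x hxQ y hyQ hx hy := ⟨h.mul_mem Q hQ x hxQ y hyQ hx.1 hy.1, h'.mul_mem Q hQ x hxQ y hyQ hx.2 hy.2⟩

/-- A closed family is determined by its elements in a Sylow 2-subgroup. -/
theorem subset_of_fam_le {G : Type*} [Group G] [Finite G] {𝒜 ℬ : Set G} (h : IsClosedFam 𝒜)
    (h' : IsClosedFam ℬ) (P : Sylow 2 G) (hle : fam 𝒜 (P : Subgroup G) ≤ fam ℬ (P : Subgroup G)) : 𝒜 ⊆ ℬ := by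
  intro a ha
  obtain ⟨k, hk⟩ := ClosedLocal.exists_conj_sylow (h.isPGroup_zpowers ha) P
  have h1 : k * a * k⁻¹ ∈ fam 𝒜 (P : Subgroup G) := mem_fam (h.conj_mem a ha k) (hk a (mem_zpowers a))
  have h2 := ((h'.mem_fam_iff P.2).1 (hle h1)).1
  exact (h'.conj_mem_iff k).1 h2

theorem exists_mem_fam_ne_one {G : Type*} [Group G] [Finite G] {𝒜 : Set G} (h : IsClosedFam 𝒜)
    (P : Sylow 2 G) (hne : ∃ a ∈ 𝒜, a ≠ 1) : ∃ a ∈ fam 𝒜 (P : Subgroup G), a ≠ 1 := by
  obtain ⟨a, ha, ha1⟩ := hne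
  obtain ⟨k, hk⟩ := ClosedLocal.exists_conj_sylow (h.isPGroup_zpowers ha) P
  refine ⟨k * a * k⁻¹, mem_fam (h.conj_mem a ha k) (hk a (mem_zpowers a)), fun he => ?_⟩
  have e : a = k⁻¹ * (k * a * k⁻¹) * k := by group
  rw [he] at e
  apply ha1; rw [e]; group

/-- Step 3. -/
theorem step3 (hFT : ∀ (K : Type u) [Group K] [Finite K], Odd (Nat.card K) → Group.IsSolvable K)
    (hC1 : ∀ (G : Type u) [Group G] [Finite G] (𝒜 ℬ : Set G), Pair 𝒜 ℬ →
      ⁅fam 𝒜 ⊤, fam ℬ ⊤⁆ ≤ Cfsg.oddCore G)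
    {G : Type u} [Group G] [Finite G]
    (hC : ∀ (𝒜 : Set G) (P : Sylow 2 G), CMin 𝒜 P → False)
    (hgood : ∀ (K : Type u) [Group K] [Finite K], Nat.card K < Nat.card G → Good K)
    (hO : Cfsg.oddCore G = ⊥) (P : Sylow 2 G) :
    ∀ (n : ℕ) (𝒜 : Set G), Nat.card (fam 𝒜 (P : Subgroup G)) = n → IsClosedFam 𝒜 →
      (PR (centralizer (fam 𝒜 (P : Subgroup G) : Set G))).Normal := by
  classical
  haveI : Fact (Nat.Prime 2) := ⟨Nat.prime_two⟩
  intro n
  induction n using Nat.strong_induction_on with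
  | _ n ih =>
  intro 𝒜 hn h
  by_cases hl : ∀ a ∈ 𝒜, a ∈ Cfsg.pCore 2 G → a = 1
  swap
  · push Not at hl
    exact normal_of_left_two hgood h hO P hl
  by_cases hne : ∃ a ∈ 𝒜, a ≠ 1
  swap
  · push Not at hne
    have h1 : fam 𝒜 (P : Subgroup G) = ⊥ := by
      rw [eq_bot_iff, fam_le_iff]
      intro x hx _
      rw [mem_bot]; exact hne x hx
    have h2 : centralizer (fam 𝒜 (P : Subgroup G) : Set G) = ⊤ := by
      rw [eq_top_iff]
      intro x _
      rw [mem_centralizer_iff, h1]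
      intro y hy
      rw [SetLike.mem_coe, mem_bot] at hy
      rw [hy, one_mul, mul_one]
    rw [h2]
    exact PR_normal ⊤
  set T := fam 𝒜 (P : Subgroup G) with hT
  set L := PR (centralizer (T : Set G)) with hL
  have ind : Ind 𝒜 := ind_of_good h hgood
  -- the sub-family lemma
  have sub : ∀ ℬ : Set G, ℬ ⊆ 𝒜 → IsClosedFam ℬ → (∃ b ∈ ℬ, b ≠ 1) → fam ℬ (P : Subgroup G) ≤ L →
      ℬ = 𝒜 := by
    intro ℬ hsub hB hBne hBL
    have hle : fam ℬ (P : Subgroup G) ≤ T := by
      rw [fam_le_iff]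
      intro x hx hxP
      exact mem_fam (hsub hx) hxP
    have hcard : Nat.card T ≤ Nat.card (fam ℬ (P : Subgroup G)) := by
      by_contra hlt
      push Not at hlt
      rw [hn] at hlt
      have hnorm := ih _ hlt ℬ rfl hB
      set M := PR (centralizer (fam ℬ (P : Subgroup G) : Set G)) with hM
      have hLM : L ≤ M := PR_mono (centralizer_le hle)
      obtain ⟨b, hb, hb1⟩ := exists_mem_fam_ne_one hB P hBne
      have hbM : b ∈ M ⊓ centralizer (M : Set G) := by
        refine mem_inf.2 ⟨hLM (hBL hb), ?_⟩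
        rw [mem_centralizer_iff]
        intro m hm
        exact PR_centralizer_comm hm hb
      haveI := hnorm
      obtain ⟨k, hk⟩ := hB.two b ((hB.mem_fam_iff P.2).1 hb).1
      have h1 : b ∈ Cfsg.pCore 2 G := by
        refine mem_pCore_of_abelian (N := M ⊓ centralizer (M : Set G)) inferInstance ?_ hbM hk
        intro x hx y hy
        exact mem_centralizer_comm (mem_inf.1 hx).2 (mem_inf.1 hy).1
      exact hb1 (hl b (hsub ((hB.mem_fam_iff P.2).1 hb).1) h1)
    have heq : fam ℬ (P : Subgroup G) = T := Subgroup.eq_of_le_of_card_ge hle hcard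
    exact Set.Subset.antisymm hsub (subset_of_fam_le h hB P heq.ge)
  -- the strongly closed subgroup `Q = P ∩ L`
  have hstep2 := step2 h ind P hl hne
  rw [← hT, ← hL] at hstep2
  have hQsc : Cfsg.IsStronglyClosed ((P : Subgroup G) ⊓ L) (P : Subgroup G) := by
    refine ⟨inf_le_left, ?_⟩
    intro x hx g hg
    exact mem_inf.2 ⟨hg, hstep2 x (mem_inf.1 hx).2 (mem_inf.1 hx).1 g hg⟩
  have hQ := isClosedFam_of_isStronglyClosed P _ hQsc
  set 𝒬 : Set G := {x : G | ∃ g : G, g * x * g⁻¹ ∈ (P : Subgroup G) ⊓ L} with h𝒬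
  by_cases hpair : ∀ x ∈ 𝒜, x ∈ 𝒬 → x = 1
  · -- Case A
    have hp : Pair 𝒜 𝒬 := ⟨h, hQ, hpair⟩
    have h1 := hC1 G 𝒜 𝒬 hp
    rw [hO, le_bot_iff, commutator_eq_bot_iff_le_centralizer] at h1
    set M := fam 𝒬 (⊤ : Subgroup G) with hM
    haveI hMn : M.Normal := hQ.fam_normal ⊤
    have hMT : M ≤ centralizer (T : Set G) := by
      intro m hm
      rw [mem_centralizer_iff]
      intro t ht
      have h2 : t ∈ fam 𝒜 (⊤ : Subgroup G) := fam_mono 𝒜 le_top ht
      exact (mem_centralizer_comm (h1 h2) hm)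
    have hQM : (P : Subgroup G) ⊓ L ≤ M := by
      intro x hx
      exact mem_fam ⟨1, by simpa using hx⟩ (mem_top x)
    have hPN : (P : Subgroup G) ≤ normalizer (T : Set G) := h.le_normalizer_fam _
    have hLN : L ≤ normalizer (T : Set G) := (PR_le _).trans (centralizer_le_normalizer _)
    have hsyl : IsSyl ((P : Subgroup G) ⊓ L) L :=
      (isSyl_of_le hPN).inf hLN (normalizer_le_normalizer_PR_centralizer T)
    have hodd : Odd (M.relIndex L) := by
      have h2 : M.relIndex L ∣ ((P : Subgroup G) ⊓ L).relIndex L := relIndex_dvd_of_le_left L hQM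
      exact hsyl.odd_relIndex.of_dvd_nat h2
    have hLM : L ≤ M := by
      refine perfect_le_of_odd hFT (PR_perfect _) ?_ hodd
      rw [Subgroup.normalizer_eq_top]; exact le_top
    have e : L = PR M := le_antisymm (le_PR hLM (PR_perfect _)) (PR_mono hMT)
    rw [e]
    exact PR_normal M
  · -- Case B
    exfalso
    push Not at hpair
    obtain ⟨b, hbA, hbQ, hb1⟩ := hpair
    have h1 : 𝒜 ∩ 𝒬 = 𝒜 := by
      refine sub _ Set.inter_subset_left (isClosedFam_inter h hQ) ⟨b, ⟨hbA, hbQ⟩, hb1⟩ ?_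
      rw [fam_le_iff]
      rintro x ⟨-, g, hg⟩ hxP
      have h2 := hstep2 _ (mem_inf.1 hg).2 (mem_inf.1 hg).1 g⁻¹
      have e : g⁻¹ * (g * x * g⁻¹) * g⁻¹⁻¹ = x := by group
      rw [e] at h2
      exact h2 hxP
    have hTL : T ≤ L := by
      rw [hT, fam_le_iff]
      intro x hx hxP
      rw [← h1] at hx
      obtain ⟨-, g, hg⟩ := hx
      have h2 := hstep2 _ (mem_inf.1 hg).2 (mem_inf.1 hg).1 g⁻¹
      have e : g⁻¹ * (g * x * g⁻¹) * g⁻¹⁻¹ = x := by group
      rw [e] at h2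
      exact h2 hxP
    have hcomm : ∀ Q : Subgroup G, IsPGroup 2 Q → ∀ x ∈ Q, ∀ y ∈ Q, x ∈ 𝒜 → y ∈ 𝒜 → x * y = y * x := by
      intro Q hQ2 x hxQ y hyQ hx hy
      obtain ⟨k, hk⟩ := ClosedLocal.exists_conj_sylow hQ2 P
      have h2 : k * x * k⁻¹ ∈ T := mem_fam (h.conj_mem x hx k) (hk x hxQ)
      have h3 : k * y * k⁻¹ ∈ T := mem_fam (h.conj_mem y hy k) (hk y hyQ)
      have h4 := PR_centralizer_comm (hTL h2) h3
      have h5 : k⁻¹ * (k * x * k⁻¹ * (k * y * k⁻¹)) * k = k⁻¹ * (k * y * k⁻¹ * (k * x * k⁻¹)) * k := by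
        rw [h4]
      have e1 : k⁻¹ * (k * x * k⁻¹ * (k * y * k⁻¹)) * k = x * y := by group
      have e2 : k⁻¹ * (k * y * k⁻¹ * (k * x * k⁻¹)) * k = y * x := by group
      rwa [e1, e2] at h5
    have hC2 : IsClosedFam {x : G | x ∈ 𝒜 ∧ x * x = 1} :=
      { one_mem := ⟨h.one_mem, one_mul 1⟩
        conj_mem := by
          rintro x ⟨hx, hxx⟩ g
          refine ⟨h.conj_mem x hx g, ?_⟩
          have e : g * x * g⁻¹ * (g * x * g⁻¹) = g * (x * x) * g⁻¹ := by group
          rw [e, hxx]; group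
        two := fun x hx => h.two x hx.1
        mul_mem := by
          rintro Q hQ2 x hxQ y hyQ ⟨hx, hxx⟩ ⟨hy, hyy⟩
          refine ⟨h.mul_mem Q hQ2 x hxQ y hyQ hx hy, ?_⟩
          have h2 := hcomm Q hQ2 x hxQ y hyQ hx hy
          calc x * y * (x * y) = x * (y * x) * y := by group
            _ = x * (x * y) * y := by rw [h2]
            _ = (x * x) * (y * y) := by group
            _ = 1 := by rw [hxx, hyy, one_mul] }
    have hsq : {x : G | x ∈ 𝒜 ∧ x * x = 1} = 𝒜 := by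
      refine sub _ (fun x hx => hx.1) hC2 ?_ ?_
      · obtain ⟨a, ha, ha1⟩ := hne
        obtain ⟨n, hn, hn2⟩ := ClosedZ.exists_involution_pow h ha ha1
        refine ⟨a ^ n, ⟨hn, ClosedLocal.mul_self hn2⟩, ClosedLocal.ne_one hn2⟩
      · rw [fam_le_iff]
        intro x hx hxP
        exact hTL (mem_fam hx.1 hxP)
    refine hC 𝒜 P ?_
    exact
      { closed := h
        oddCore := hO
        two := hl
        nontriv := hne
        le := hTL
        sq := fun a ha => by rw [← hsq] at ha; exact ha.2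
        min := fun ℬ hsub hB hBne => sub ℬ hsub hB hBne (by
          rw [fam_le_iff]
          intro x hx hxP
          exact hTL (mem_fam (hsub hx) hxP))
        good := hgood }

/-- The claim holds for all finite groups if there is no central configuration. -/
theorem good_of_cmin (hFT : ∀ (K : Type u) [Group K] [Finite K], Odd (Nat.card K) → Group.IsSolvable K)
    (hC1 : ∀ (G : Type u) [Group G] [Finite G] (𝒜 ℬ : Set G), Pair 𝒜 ℬ →
      ⁅fam 𝒜 ⊤, fam ℬ ⊤⁆ ≤ Cfsg.oddCore G)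
    (hC : ∀ (G : Type u) [Group G] [Finite G] (𝒜 : Set G) (P : Sylow 2 G), CMin 𝒜 P → False) :
    ∀ (n : ℕ) (G : Type u) [Group G] [Finite G], Nat.card G = n → Good G := by
  intro n
  induction n using Nat.strong_induction_on with
  | _ n ih =>
  intro G _ _ hn 𝒜 P h hO
  refine step3 hFT hC1 (hC G) ?_ hO P _ 𝒜 rfl h
  intro K _ _ hK
  exact ih _ (by rw [← hn]; exact hK) K rfl

theorem fam_conjugates_sylow {G : Type*} [Group G] (P : Sylow 2 G) (A : Subgroup G)
    (hA : Cfsg.IsStronglyClosed A (P : Subgroup G)) :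
    fam {x : G | ∃ g : G, g * x * g⁻¹ ∈ A} (P : Subgroup G) = A := by
  apply le_antisymm
  · rw [fam_le_iff]
    rintro x ⟨g, hg⟩ hxP
    have h1 := hA.2 _ hg g⁻¹
    have e : g⁻¹ * (g * x * g⁻¹) * g⁻¹⁻¹ = x := by group
    rw [e] at h1
    exact h1 hxP
  · intro x hx
    exact mem_fam ⟨1, by simpa using hx⟩ (hA.1 hx)

/-- The conclusion for strongly closed subgroups. -/
theorem normal_of_good {G : Type u} [Group G] [Finite G] (hgood : Good G) (hO : Cfsg.oddCore G = ⊥)
    (S : Sylow 2 G) (T : Subgroup G) (hT : Cfsg.IsStronglyClosed T (S : Subgroup G)) :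
    ((⨅ n : ℕ, derivedSeries ↥(centralizer (T : Set G)) n).map
      (centralizer (T : Set G)).subtype).Normal := by
  have h1 := hgood _ S (isClosedFam_of_isStronglyClosed S T hT) hO
  rw [fam_conjugates_sylow S T hT] at h1
  rw [map_iInf_derivedSeries]
  exact h1

end Cfsg.Agent.TwoFusion.CentResidual
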