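import Cfsg.Agent.TwoFusion.CentResidualReduce

/-!
# The residual of the centralizer of a strongly closed 2-subgroup: the Sylow subgroup is strongly closed

If the closed family avoids `O_2(G)` and the claim holds modulo the core in the proper subgroups, then a Sylow
2-subgroup of the residual `L` of the centralizer of `T = fam 𝒜 P` is strongly closed.
-/

set_option autoImplicit false
set_option linter.style.haveILetI false

namespace Cfsg.Agent.TwoFusion.CentResidual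

open Subgroup
open scoped commutatorElement
open Cfsg.Agent.TwoFusion.ClosedFam
open Cfsg.Agent.TwoFusion.ClosedLocal (core_le conj_mem_core odd_core exists_mul_of_mem_sup
  eq_one_of_odd_of_isPGroup exists_conj_of_le_sup exists_central)
open Cfsg.Agent.Lib.GoldschmidtFusion (mem_map_conj conj_mem_map_conj card_map_conj lt_inf_normalizer
  mem_normalizer_iff_map_conj map_conj_map_conj)

variable {G : Type*} [Group G]

/-- Step 2: `P ∩ L` is strongly closed. -/
theorem step2 [Finite G] {𝒜 : Set G} (h : IsClosedFam 𝒜) (ind : Ind 𝒜) (P : Sylow 2 G)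
    (hl : ∀ a ∈ 𝒜, a ∈ Cfsg.pCore 2 G → a = 1) (hne : ∃ a ∈ 𝒜, a ≠ 1) :
    ∀ x ∈ PR (centralizer (fam 𝒜 (P : Subgroup G) : Set G)), x ∈ (P : Subgroup G) →
      ∀ g : G, g * x * g⁻¹ ∈ (P : Subgroup G) →
        g * x * g⁻¹ ∈ PR (centralizer (fam 𝒜 (P : Subgroup G) : Set G)) := by
  classical
  haveI : Fact (Nat.Prime 2) := ⟨Nat.prime_two⟩
  set T := fam 𝒜 (P : Subgroup G) with hT
  set L := PR (centralizer (T : Set G)) with hL
  have hT2 : IsPGroup 2 T := isPGroup_fam 𝒜 P.2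
  have hLT : ∀ x ∈ L, ∀ t ∈ T, x * t = t * x := fun x hx t ht => PR_centralizer_comm hx ht
  have hLn : normalizer (T : Set G) ≤ normalizer (L : Set G) := normalizer_le_normalizer_PR_centralizer T
  by_contra hcon
  push Not at hcon
  obtain ⟨x₀, hx₀L, hx₀P, g₀, hg₀P, hg₀L⟩ := hcon
  -- a bad element with maximal centralizer in `T`
  obtain ⟨y, hy, hmax⟩ := Set.Finite.exists_maximalFor (fun y => Nat.card (T ⊓ centralizer ({y} : Set G) : Subgroup G))
    {y : G | y ∈ (P : Subgroup G) ∧ y ∉ L ∧ ∃ g : G, g⁻¹ * y * g ∈ L} (Set.toFinite _)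
    ⟨g₀ * x₀ * g₀⁻¹, hg₀P, hg₀L, g₀, by
      have e : g₀⁻¹ * (g₀ * x₀ * g₀⁻¹) * g₀ = x₀ := by group
      rw [e]; exact hx₀L⟩
  obtain ⟨hyP, hyL, g, hgL⟩ := hy
  set T₂ : Subgroup G := T ⊓ centralizer ({y} : Set G) with hT₂
  -- (a)
  have ha : ∀ (c : G) (W : Subgroup G), c * y * c⁻¹ ∈ (P : Subgroup G) → W ≤ T →
      (∀ w ∈ W, w * (c * y * c⁻¹) = c * y * c⁻¹ * w) → Nat.card T₂ < Nat.card W → c * y * c⁻¹ ∈ L := by
    intro c W hc hW hWc hlt
    by_contra hnot
    have h1 := hmax (j := c * y * c⁻¹) ⟨hc, hnot, c * g, by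
      have e : (c * g)⁻¹ * (c * y * c⁻¹) * (c * g) = g⁻¹ * y * g := by group
      rw [e]; exact hgL⟩
    have h2 : W ≤ T ⊓ centralizer ({c * y * c⁻¹} : Set G) := by
      refine le_inf hW fun w hw => ?_
      rw [mem_centralizer_singleton_iff]
      exact hWc w hw
    have h3 : Nat.card T₂ < Nat.card (T ⊓ centralizer ({c * y * c⁻¹} : Set G) : Subgroup G) :=
      lt_of_lt_of_le hlt (Subgroup.card_le_of_le h2)
    exact absurd (h1 h3.le) (not_le_of_gt h3)
  have hT₂T : T₂ ≤ T := inf_le_left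
  have hT₂y : ∀ t ∈ T₂, t * y = y * t := fun t ht => by
    have := (mem_inf.1 ht).2
    rwa [mem_centralizer_singleton_iff] at this
  have hT₂2 : IsPGroup 2 T₂ := hT2.to_le hT₂T
  have hT₂A : ∀ t ∈ T₂, t ∈ 𝒜 := fun t ht => ((h.mem_fam_iff P.2).1 (hT₂T ht)).1
  -- (c)
  obtain ⟨b, hb, hb1⟩ := hne
  obtain ⟨k, hk⟩ := ClosedLocal.exists_conj_sylow (h.isPGroup_zpowers hb) P
  obtain ⟨a, haA, haP, ha2, hac⟩ := exists_central h P.2 (h.conj_mem b hb k) (hk b (mem_zpowers b)) (by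
    intro he
    have e : b = k⁻¹ * (k * b * k⁻¹) * k := by group
    rw [he] at e
    apply hb1; rw [e]; group)
  have haT₂ : a ∈ T₂ := by
    refine mem_inf.2 ⟨mem_fam haA haP, ?_⟩
    rw [mem_centralizer_singleton_iff]
    exact hac y hyP
  have ha1 : a ≠ 1 := ClosedLocal.ne_one ha2
  -- Lemma A: replace `g` by `g'` with `T₂ ≤ g' T g'⁻¹`
  obtain ⟨g', hg'L, hg'T⟩ : ∃ g' : G, g'⁻¹ * y * g' ∈ L ∧ T₂ ≤ T.map (MulAut.conj g').toMonoidHom := by
    have h1 : T.map (MulAut.conj g).toMonoidHom ≤ centralizer ({y} : Set G) := by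
      rintro _ ⟨t, ht, rfl⟩
      rw [mem_centralizer_singleton_iff]
      have h2 := hLT _ hgL t ht
      have e1 : (MulAut.conj g).toMonoidHom t * y = g * (t * (g⁻¹ * y * g)) * g⁻¹ := by
        change g * t * g⁻¹ * y = _
        group
      have e2 : y * (MulAut.conj g).toMonoidHom t = g * ((g⁻¹ * y * g) * t) * g⁻¹ := by
        change y * (g * t * g⁻¹) = _
        group
      rw [e1, e2, h2]
    obtain ⟨R, hTR, hR⟩ := exists_isSyl (hT2.map (MulAut.conj g).toMonoidHom) h1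
    obtain ⟨c, hc, hcR⟩ := hR.conj T₂ hT₂2 inf_le_right
    have hTgR : T.map (MulAut.conj g).toMonoidHom = fam 𝒜 R := by
      refine Subgroup.eq_of_le_of_card_ge ?_ ?_
      · rintro _ ⟨t, ht, rfl⟩
        exact mem_fam (h.conj_mem t ((h.mem_fam_iff P.2).1 ht).1 g) (hTR ⟨t, ht, rfl⟩)
      · rw [card_map_conj]
        exact card_fam_le h P hR.two
    rw [mem_centralizer_singleton_iff] at hc
    refine ⟨c⁻¹ * g, ?_, ?_⟩
    · have e : (c⁻¹ * g)⁻¹ * y * (c⁻¹ * g) = g⁻¹ * (c * y * c⁻¹) * g := by group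
      have e2 : c * y * c⁻¹ = y := by rw [hc]; group
      rw [e, e2]; exact hgL
    · intro t ht
      have h3 : c * t * c⁻¹ ∈ T.map (MulAut.conj g).toMonoidHom := by
        rw [hTgR]
        exact mem_fam (h.conj_mem t (hT₂A t ht) c) (hcR t ht)
      rw [mem_map_conj] at h3 ⊢
      have e : (c⁻¹ * g)⁻¹ * t * (c⁻¹ * g) = g⁻¹ * (c * t * c⁻¹) * g := by group
      rw [e]; exact h3
  set Tg : Subgroup G := T.map (MulAut.conj g').toMonoidHom with hTg
  have hTgy : ∀ t ∈ Tg, t * y = y * t := by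
    rintro _ ⟨t, ht, rfl⟩
    have h2 := hLT _ hg'L t ht
    have e1 : (MulAut.conj g').toMonoidHom t * y = g' * (t * (g'⁻¹ * y * g')) * g'⁻¹ := by
      change g' * t * g'⁻¹ * y = _
      group
    have e2 : y * (MulAut.conj g').toMonoidHom t = g' * ((g'⁻¹ * y * g') * t) * g'⁻¹ := by
      change y * (g' * t * g'⁻¹) = _
      group
    rw [e1, e2, h2]
  have hTg2 : IsPGroup 2 Tg := hT2.map _
  have hTgA : ∀ t ∈ Tg, t ∈ 𝒜 := by
    rintro _ ⟨t, ht, rfl⟩
    exact h.conj_mem t ((h.mem_fam_iff P.2).1 ht).1 g'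
  -- (d) `T₂ < T`
  have hlt : T₂ < T := by
    refine lt_of_le_of_ne hT₂T fun he => ?_
    have h1 : T ≤ Tg := by rw [← he]; exact hg'T
    have h2 : T = Tg := Subgroup.eq_of_le_of_card_ge h1 (by rw [hTg, card_map_conj])
    have h3 : g' ∈ normalizer (T : Set G) := mem_normalizer_iff_map_conj.2 h2.symm
    have h4 := (mem_normalizer_iff.1 (hLn h3) _).1 hg'L
    have e : g' * (g'⁻¹ * y * g') * g'⁻¹ = y := by group
    rw [e] at h4
    exact hyL h4
  have hlt' : T₂ < Tg := by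
    refine lt_of_le_of_ne hg'T fun he => ?_
    have h1 : Nat.card T₂ = Nat.card T := by rw [he, hTg, card_map_conj]
    have h2 := Subgroup.eq_of_le_of_card_ge hT₂T h1.ge
    exact hlt.ne h2
  -- (e)
  set N := normalizer (T₂ : Set G) with hN
  have hNtop : N ≠ ⊤ := by
    intro he
    have h1 : T₂.Normal := Subgroup.normalizer_eq_top_iff.1 he
    exact ha1 (hl a haA (Cfsg.Agent.Lib.Cores.le_pCore h1 hT₂2 haT₂))
  -- (f), (g)
  have h4 : T₂ < T ⊓ N := lt_inf_normalizer hT2 hlt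
  have h5 : T₂ < Tg ⊓ N := lt_inf_normalizer hTg2 hlt'
  set W := Tg ⊓ N with hW
  have hWcard : Nat.card T₂ < Nat.card W := 
    lt_of_le_of_ne (Subgroup.card_le_of_le h5.le) fun he => h5.ne (Subgroup.eq_of_le_of_card_ge h5.le he.ge)
  have hyN : y ∈ N := by
    rw [hN, mem_normalizer_iff]
    intro t
    have hc : ∀ t ∈ T₂, y * t * y⁻¹ = t := fun t ht => by rw [← hT₂y t ht]; group
    constructor
    · intro ht; rw [hc t ht]; exact ht
    · intro ht
      have h6 := hc _ ht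
      have h7 : y * t * y⁻¹ = t := by
        have := congrArg (fun s => y⁻¹ * s * y) h6
        simpa [mul_assoc] using this
      rwa [h7] at ht
  -- (h)
  have hy2 : IsPGroup 2 (zpowers y) := P.2.to_le (by rw [zpowers_le]; exact hyP)
  have hWy : IsPGroup 2 (W ⊔ zpowers y : Subgroup G) := by
    refine (hTg2.to_le inf_le_left : IsPGroup 2 W).to_sup_of_normal_left' hy2 ?_
    rw [zpowers_le, mem_normalizer_iff]
    intro t
    have hc : ∀ t ∈ W, y * t * y⁻¹ = t := fun t ht => by rw [← hTgy t (mem_inf.1 ht).1]; group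
    constructor
    · intro ht; rw [hc t ht]; exact ht
    · intro ht
      have h6 := hc _ ht
      have h7 : y * t * y⁻¹ = t := by
        have := congrArg (fun s => y⁻¹ * s * y) h6
        simpa [mul_assoc] using this
      rwa [h7] at ht
  have hWyN : (W ⊔ zpowers y : Subgroup G) ≤ N := sup_le inf_le_right (by rw [zpowers_le]; exact hyN)
  -- (i)
  obtain ⟨R, hPR, hR⟩ := exists_isSyl (Q := (P : Subgroup G) ⊓ N) (P.2.to_le inf_le_left) inf_le_right
  obtain ⟨k, hkN, hkR⟩ := hR.conj _ hWy hWyN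
  obtain ⟨m, hm⟩ := ClosedLocal.exists_conj_sylow hR.two P
  -- (k)
  have hkyR : k * y * k⁻¹ ∈ R := hkR y (mem_sup_right (mem_zpowers y))
  have hmL : m * (k * y * k⁻¹) * m⁻¹ ∈ L := by
    have e : m * (k * y * k⁻¹) * m⁻¹ = m * k * y * (m * k)⁻¹ := by group
    rw [e]
    refine ha (m * k) (W.map (MulAut.conj (m * k)).toMonoidHom) ?_ ?_ ?_ ?_
    · rw [← e]; exact hm _ hkyR
    · rintro _ ⟨w, hw, rfl⟩
      have e2 : (MulAut.conj (m * k)).toMonoidHom w = m * (k * w * k⁻¹) * m⁻¹ := by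
        change m * k * w * (m * k)⁻¹ = _
        group
      rw [e2]
      refine mem_fam (h.conj_mem _ (h.conj_mem _ (hTgA w (mem_inf.1 hw).1) k) m) (hm _ (hkR w (mem_sup_left hw)))
    · rintro _ ⟨w, hw, rfl⟩
      change m * k * w * (m * k)⁻¹ * (m * k * y * (m * k)⁻¹) = m * k * y * (m * k)⁻¹ * (m * k * w * (m * k)⁻¹)
      have h6 := hTgy w (mem_inf.1 hw).1
      calc m * k * w * (m * k)⁻¹ * (m * k * y * (m * k)⁻¹) = m * k * (w * y) * (m * k)⁻¹ := by group
        _ = m * k * (y * w) * (m * k)⁻¹ := by rw [h6]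
        _ = _ := by group
    · rw [card_map_conj]; exact hWcard
  -- (l)
  set T₃ := fam 𝒜 R with hT₃
  have hmT₃ : ∀ t ∈ T₃, m * t * m⁻¹ ∈ T := by
    intro t ht
    rw [hT₃, h.mem_fam_iff hR.two] at ht
    exact mem_fam (h.conj_mem t ht.1 m) (hm t ht.2)
  have hT₂T₃ : T₂ ≤ T₃ := by
    intro t ht
    refine mem_fam (hT₂A t ht) (hPR (mem_inf.2 ⟨fam_le _ _ (hT₂T ht), ?_⟩))
    exact le_normalizer ht
  set L' : Subgroup G := L.map (MulAut.conj m⁻¹).toMonoidHom with hL'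
  have hL'T₃ : L' ≤ centralizer (T₃ : Set G) := by
    intro x hx
    rw [hL', mem_map_conj, inv_inv] at hx
    rw [mem_centralizer_iff]
    intro t ht
    have h6 := hLT _ hx _ (hmT₃ t ht)
    have h7 : m⁻¹ * (m * x * m⁻¹ * (m * t * m⁻¹)) * m = m⁻¹ * (m * t * m⁻¹ * (m * x * m⁻¹)) * m := by
      rw [h6]
    have e1 : m⁻¹ * (m * x * m⁻¹ * (m * t * m⁻¹)) * m = x * t := by group
    have e2 : m⁻¹ * (m * t * m⁻¹ * (m * x * m⁻¹)) * m = t * x := by group
    rw [e1, e2] at h7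
    exact h7.symm
  have hL'N : L' ≤ N := by
    refine hL'T₃.trans ((centralizer_le hT₂T₃).trans ?_)
    exact centralizer_le_normalizer _
  have hL'p : L' ≤ ⁅L', L'⁆ := by
    rw [hL', ← map_commutator]
    exact Subgroup.map_mono (PR_perfect _)
  set J := PR (centralizer (T₃ : Set G) ⊓ N) ⊔ core N with hJ
  have hNJ : N ≤ normalizer (J : Set G) := ind N hNtop R hR
  have hL'J : L' ≤ J := (le_PR (le_inf hL'T₃ hL'N) hL'p).trans le_sup_left
  have hkyJ : k * y * k⁻¹ ∈ J := by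
    apply hL'J
    rw [hL', mem_map_conj, inv_inv]
    exact hmL
  have hyJ : y ∈ J := by
    have h6 := (mem_normalizer_iff.1 (hNJ (inv_mem hkN)) _).1 hkyJ
    have e : k⁻¹ * (k * y * k⁻¹) * k⁻¹⁻¹ = y := by group
    rwa [e] at h6
  -- (m)
  have hfin : T ⊓ N ≤ T₂ := by
    intro t ht
    have htT : t ∈ T := (mem_inf.1 ht).1
    have htN : t ∈ N := (mem_inf.1 ht).2
    refine mem_inf.2 ⟨htT, ?_⟩
    rw [mem_centralizer_singleton_iff]
    have htT₃ : t ∈ T₃ := by
      refine mem_fam ((h.mem_fam_iff P.2).1 htT).1 (hPR (mem_inf.2 ⟨fam_le _ _ htT, htN⟩))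
    have hnA : PR (centralizer (T₃ : Set G) ⊓ N) ≤ normalizer (core N : Set G) := by
      refine ((PR_le _).trans inf_le_right).trans ?_
      intro n hn
      rw [mem_normalizer_iff]
      intro x
      refine ⟨fun hx => conj_mem_core hn hx, fun hx => ?_⟩
      have h6 := conj_mem_core (inv_mem hn) hx
      have e : n⁻¹ * (n * x * n⁻¹) * n⁻¹⁻¹ = x := by group
      rwa [e] at h6
    have hyJ' : y ∈ core N ⊔ PR (centralizer (T₃ : Set G) ⊓ N) := by rw [sup_comm]; exact hyJ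
    obtain ⟨l, hl', o, ho, e⟩ := exists_mul_of_mem_sup hnA hyJ'
    have hlt3 : l * t = t * l := mem_centralizer_comm ((mem_inf.1 (PR_le _ hl')).1) htT₃
    have hlN : l ∈ N := (mem_inf.1 (PR_le _ hl')).2
    have h6 : y * t * y⁻¹ * t⁻¹ ∈ core N := by
      have e2 : y * t * y⁻¹ * t⁻¹ = l * (o * (t * o⁻¹ * t⁻¹)) * l⁻¹ := by
        rw [e]
        have h7 : l⁻¹ * t⁻¹ = t⁻¹ * l⁻¹ := by
          rw [← mul_inv_rev, ← mul_inv_rev, hlt3]
        calc l * o * t * (l * o)⁻¹ * t⁻¹ = l * o * t * o⁻¹ * (l⁻¹ * t⁻¹) := by group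
          _ = l * (o * (t * o⁻¹ * t⁻¹)) * l⁻¹ := by rw [h7]; group
      rw [e2]
      exact conj_mem_core hlN (mul_mem ho (conj_mem_core htN (inv_mem ho)))
    have h7 : y * t * y⁻¹ * t⁻¹ ∈ (P : Subgroup G) :=
      mul_mem (mul_mem (mul_mem hyP (fam_le _ _ htT)) (inv_mem hyP)) (inv_mem (fam_le _ _ htT))
    have h8 := eq_one_of_odd_of_isPGroup (odd_core N) P.2 h6 h7
    have h9 : y * t * y⁻¹ = t := mul_inv_eq_one.1 h8
    calc t * y = y * t * y⁻¹ * y := by rw [h9]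
      _ = y * t := by group
  exact absurd hfin (not_le_of_gt h4)

end Cfsg.Agent.TwoFusion.CentResidual
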