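import Cfsg.Agent.TwoFusion.CentResidualBasic
import Cfsg.Agent.TwoFusion.ClosedZ
import Cfsg.Agent.PLocal.PConstrained

/-!
# The residual of the centralizer of a strongly closed 2-subgroup: first reductions

`Good G`: the claim for the group `G`; `Ind 𝒜`: the claim modulo the core for all proper subgroups.
`normal_of_left_two`: the case in which the closed family meets `O_2(G)` nontrivially.
-/

set_option autoImplicit false
set_option linter.style.haveILetI false

namespace Cfsg.Agent.TwoFusion.CentResidual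

open Subgroup
open scoped commutatorElement
open Cfsg.Agent.TwoFusion.ClosedFam
open Cfsg.Agent.TwoFusion.ClosedLocal (core_le conj_mem_core odd_core exists_mul_of_mem_sup
  eq_one_of_odd_of_isPGroup exists_conj_of_le_sup)
open Cfsg.Agent.Lib.GoldschmidtFusion (mem_map_conj conj_mem_map_conj card_map_conj lt_inf_normalizer
  mem_normalizer_iff_map_conj map_conj_map_conj)

universe u

variable {G : Type*} [Group G]

/-- The claim: the perfect residual of the centralizer of a strongly closed subgroup is normal. -/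
def Good (G : Type*) [Group G] : Prop :=
  ∀ (𝒜 : Set G) (P : Sylow 2 G), IsClosedFam 𝒜 → Cfsg.oddCore G = ⊥ →
    (PR (centralizer (fam 𝒜 (P : Subgroup G) : Set G))).Normal

/-- The claim modulo the core in the proper subgroups. -/
def Ind (𝒜 : Set G) : Prop :=
  ∀ H : Subgroup G, H ≠ ⊤ → ∀ R : Subgroup G, IsSyl R H →
    H ≤ normalizer ((PR (centralizer (fam 𝒜 R : Set G) ⊓ H) ⊔ core H : Subgroup G) : Set G)

/-- The closed family in the Sylow 2-subgroup of a quotient by a normal subgroup of odd order. -/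
theorem map_fam_of_odd [Finite G] {K : Type*} [Group K] {𝒜 : Set G} (h : IsClosedFam 𝒜) {f : G →* K}
    (hodd : Odd (Nat.card f.ker)) (P : Sylow 2 G) :
    (fam 𝒜 (P : Subgroup G)).map f = fam (f '' 𝒜) ((P : Subgroup G).map f) := by
  apply le_antisymm
  · rintro _ ⟨x, hx, rfl⟩
    rw [SetLike.mem_coe, h.mem_fam_iff P.2] at hx
    exact mem_fam ⟨x, hx.1, rfl⟩ ⟨x, hx.2, rfl⟩
  · rw [fam_le_iff]
    rintro _ ⟨a, ha, rfl⟩ ⟨p, hp, hpa⟩
    have hnp : (P : Subgroup G) ≤ normalizer (f.ker : Set G) := by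
      rw [Subgroup.normalizer_eq_top]; exact le_top
    obtain ⟨v, hv, hvr⟩ := exists_conj_of_le_sup (R := zpowers a) hodd P.2 hnp (h.isPGroup_zpowers ha) (by
      rw [zpowers_le]
      have e : a = (a * p⁻¹) * p := by group
      rw [e]
      refine mul_mem (mem_sup_left ?_) (mem_sup_right hp)
      rw [MonoidHom.mem_ker, map_mul, map_inv, hpa]; group)
    refine ⟨v * a * v⁻¹, mem_fam (h.conj_mem a ha v) (hvr a (mem_zpowers a)), ?_⟩
    rw [MonoidHom.mem_ker] at hv
    simp [hv]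

theorem normal_sup_of_good [Finite G] {𝒜 : Set G} (h : IsClosedFam 𝒜) (P : Sylow 2 G)
    (hG : Good (G ⧸ Cfsg.oddCore G)) :
    (PR (centralizer (fam 𝒜 (P : Subgroup G) : Set G)) ⊔ Cfsg.oddCore G).Normal := by
  haveI : Fact (Nat.Prime 2) := ⟨Nat.prime_two⟩
  haveI hOn : (Cfsg.oddCore G).Normal := Cfsg.Agent.Lib.Cores.pPrimeCore_normal 2
  set π : G →* G ⧸ Cfsg.oddCore G := QuotientGroup.mk' (Cfsg.oddCore G) with hπ
  have hπs : Function.Surjective π := QuotientGroup.mk'_surjective _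
  have hker : π.ker = Cfsg.oddCore G := QuotientGroup.ker_mk' _
  have hcop : (Nat.card π.ker).Coprime 2 := by
    rw [hker]; exact Cfsg.Agent.Lib.Cores.pPrimeCore_coprime 2
  have hodd : Odd (Nat.card π.ker) := Nat.coprime_two_right.1 hcop
  have h1 := hG (π '' 𝒜) (P.mapSurjective hπs) (h.image hπs)
    (Cfsg.Agent.Lib.Cores.pPrimeCore_quotient_pPrimeCore 2)
  rw [Sylow.coe_mapSurjective, ← map_fam_of_odd h hodd P,
    ← Cfsg.Agent.PLocal.PConstrained.map_centralizer_eq π hπs hcop (isPGroup_fam 𝒜 P.2), ← map_PR] at h1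
  have h2 := h1.comap π
  rwa [Subgroup.comap_map_eq, hker] at h2

theorem map_centralizer_subtype (H : Subgroup G) (K : Subgroup H) :
    (centralizer (K : Set H)).map H.subtype = centralizer ((K.map H.subtype : Subgroup G) : Set G) ⊓ H := by
  ext x
  constructor
  · rintro ⟨x, hx, rfl⟩
    refine mem_inf.2 ⟨?_, x.2⟩
    rw [SetLike.mem_coe, mem_centralizer_iff] at hx
    rw [mem_centralizer_iff]
    rintro _ ⟨k, hk, rfl⟩
    exact congrArg Subtype.val (hx k hk)
  · intro hx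
    obtain ⟨hx, hxH⟩ := mem_inf.1 hx
    refine ⟨⟨x, hxH⟩, ?_, rfl⟩
    rw [mem_centralizer_iff] at hx
    rw [SetLike.mem_coe, mem_centralizer_iff]
    intro k hk
    exact Subtype.ext (hx k ⟨k, hk, rfl⟩)

theorem le_normalizer_map_subtype {H : Subgroup G} {M : Subgroup H} (hM : M.Normal) :
    H ≤ normalizer (M.map H.subtype : Set G) := by
  have h1 : ∀ h ∈ H, ∀ x ∈ M.map H.subtype, h * x * h⁻¹ ∈ M.map H.subtype := by
    rintro h hh _ ⟨x, hx, rfl⟩
    exact ⟨⟨h, hh⟩ * x * ⟨h, hh⟩⁻¹, hM.conj_mem x hx _, rfl⟩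
  intro h hh
  rw [mem_normalizer_iff]
  intro x
  refine ⟨h1 h hh x, fun hx => ?_⟩
  have h2 := h1 _ (inv_mem hh) _ hx
  have e : h⁻¹ * (h * x * h⁻¹) * h⁻¹⁻¹ = x := by group
  rwa [e] at h2

theorem ind_of_good {G : Type u} [Group G] [Finite G] {𝒜 : Set G} (h : IsClosedFam 𝒜)
    (hgood : ∀ (K : Type u) [Group K] [Finite K], Nat.card K < Nat.card G → Good K) : Ind 𝒜 := by
  intro H hH R hR
  obtain ⟨S, rfl⟩ := hR.exists_sylow
  have hlt : Nat.card H < Nat.card G :=
    lt_of_le_of_ne (Subgroup.card_le_card_group H) fun he => hH (Subgroup.eq_top_of_card_eq H he)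
  have hlt' : Nat.card (H ⧸ Cfsg.oddCore H) < Nat.card G := by
    refine lt_of_le_of_lt ?_ hlt
    rw [Subgroup.card_eq_card_quotient_mul_card_subgroup (Cfsg.oddCore H)]
    exact Nat.le_mul_of_pos_right _ Nat.card_pos
  have h1 := normal_sup_of_good (h.restrict H) S (hgood _ hlt')
  have h2 := le_normalizer_map_subtype h1
  rw [Subgroup.map_sup, map_subtype_PR, map_centralizer_subtype, map_fam_restrict] at h2
  exact h2

theorem normal_of_forall_mem_normalizer {N : Subgroup G} (h : ∀ g : G, g ∈ normalizer (N : Set G)) :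
    N.Normal := by
  rw [← Subgroup.normalizer_eq_top_iff, eq_top_iff]
  exact fun g _ => h g

/-- In a proper normal subgroup. -/
theorem Ind.normal {G : Type u} [Group G] [Finite G] {𝒜 : Set G} (ind : Ind 𝒜) (h : IsClosedFam 𝒜)
    (hO : Cfsg.oddCore G = ⊥) {N : Subgroup G} (hNn : N.Normal) (hN : N ≠ ⊤) {R : Subgroup G}
    (hR : IsSyl R N) : (PR (centralizer (fam 𝒜 R : Set G) ⊓ N)).Normal := by
  have h1 := ind N hN R hR
  have h2 : core N = ⊥ := by
    unfold core
    rw [ClosedZ.oddCore_eq_bot_of_normal hO N hNn, Subgroup.map_bot]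
  rw [h2, sup_bot_eq] at h1
  apply normal_of_forall_mem_normalizer
  intro g
  have hn : (⊤ : Subgroup G) ≤ normalizer (N : Set G) := by
    rw [Subgroup.normalizer_eq_top]
  obtain ⟨n, hn, hng⟩ := hR.frattini hn (mem_top g)
  have h3 : n * g ∈ normalizer (PR (centralizer (fam 𝒜 R : Set G) ⊓ N) : Set G) := by
    apply normalizer_le_normalizer_PR
    have h4 := normalizer_le_normalizer_centralizer _ (h.normalizer_le_normalizer_fam R hng)
    refine inf_normalizer_le_normalizer_inf ⟨h4, ?_⟩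
    rw [Subgroup.normalizer_eq_top]; exact mem_top _
  have h5 := mul_mem (inv_mem (h1 hn)) h3
  have e : n⁻¹ * (n * g) = g := by group
  rwa [e] at h5

/-- If `Z` is a normal 2-subgroup central in the normal subgroup `L`, then `O(G/Z)` meets `L/Z` trivially. -/
theorem map_inf_oddCore_eq_bot [Finite G] (hO : Cfsg.oddCore G = ⊥) {L Z : Subgroup G} (hL : L.Normal)
    [hZn : Z.Normal] (hZ2 : IsPGroup 2 Z) (hcent : ∀ z ∈ Z, ∀ l ∈ L, z * l = l * z) :
    L.map (QuotientGroup.mk' Z) ⊓ Cfsg.oddCore (G ⧸ Z) = ⊥ := by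
  set π : G →* G ⧸ Z := QuotientGroup.mk' Z with hπ
  have hπs : Function.Surjective π := QuotientGroup.mk'_surjective Z
  have hker : π.ker = Z := QuotientGroup.ker_mk' Z
  haveI hOn : (Cfsg.oddCore (G ⧸ Z)).Normal := Cfsg.Agent.Lib.Cores.pPrimeCore_normal 2
  set D : Subgroup G := L ⊓ (Cfsg.oddCore (G ⧸ Z)).comap π with hD
  haveI : ((Cfsg.oddCore (G ⧸ Z)).comap π).Normal := hOn.comap π
  haveI hDn : D.Normal := inferInstance
  have hDZ : D ≤ Z := by
    refine ClosedZ.le_of_central_odd_index hO D Z hDn hZ2 (fun z hz d hd => hcent z hz d hd.1) ?_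
    have h1 : Z.relIndex D = Nat.card (D.map π) := by
      have h2 : Z.subgroupOf D = (π.comp D.subtype).ker := by
        ext x
        rw [mem_subgroupOf, MonoidHom.mem_ker, MonoidHom.comp_apply]
        exact (QuotientGroup.eq_one_iff (x : G)).symm
      rw [relIndex, h2, Subgroup.index_ker, MonoidHom.range_eq_map, ← Subgroup.map_map,
        ← MonoidHom.range_eq_map, Subgroup.range_subtype]
    rw [h1]
    have h3 : D.map π ≤ Cfsg.oddCore (G ⧸ Z) := by
      rw [map_le_iff_le_comap]; exact inf_le_right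
    have h4 : Nat.Coprime (Nat.card (Cfsg.oddCore (G ⧸ Z))) 2 :=
      Cfsg.Agent.Lib.Cores.pPrimeCore_coprime 2
    exact Nat.coprime_two_right.1 (h4.coprime_dvd_left (card_dvd_of_le h3))
  rw [eq_bot_iff]
  rintro _ ⟨⟨x, hx, rfl⟩, hx2⟩
  rw [mem_bot]
  have h5 : x ∈ Z := hDZ ⟨hx, hx2⟩
  rw [← hker] at h5
  exact h5

/-- A normal 2-subgroup consisting of elements of the family lies in `fam 𝒜 P`. -/
theorem le_fam_of_normal [Finite G] {𝒜 : Set G} (P : Sylow 2 G) {U : Subgroup G} (hU : U.Normal)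
    (hU2 : IsPGroup 2 U) (hUA : ∀ x ∈ U, x ∈ 𝒜) : U ≤ fam 𝒜 (P : Subgroup G) := by
  intro x hx
  exact mem_fam (hUA x hx) (Cfsg.Agent.Lib.Cores.pCore_le_sylow P (Cfsg.Agent.Lib.Cores.le_pCore hU hU2 hx))

/-- Step 1a: `U ≤ fam 𝒜 P` is a normal 2-subgroup which is not central. -/
theorem step1a {G : Type u} [Group G] [Finite G] {𝒜 : Set G} (h : IsClosedFam 𝒜)
    (hO : Cfsg.oddCore G = ⊥) (ind : Ind 𝒜) (P : Sylow 2 G) (U : Subgroup G) [hU : U.Normal]
    (hU2 : IsPGroup 2 U) (hUA : ∀ x ∈ U, x ∈ 𝒜) (hC : centralizer (U : Set G) ≠ ⊤) :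
    (PR (centralizer (fam 𝒜 (P : Subgroup G) : Set G))).Normal := by
  classical
  haveI : Fact (Nat.Prime 2) := ⟨Nat.prime_two⟩
  set T := fam 𝒜 (P : Subgroup G) with hT
  set C := centralizer (U : Set G) with hCdef
  have hUT : U ≤ T := le_fam_of_normal P hU hU2 hUA
  haveI hCn : C.Normal := inferInstance
  have hnC : (⊤ : Subgroup G) ≤ normalizer (C : Set G) := by rw [Subgroup.normalizer_eq_top]
  have hR : IsSyl ((P : Subgroup G) ⊓ C) C := (isSyl_top P).inf le_top hnC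
  set R := (P : Subgroup G) ⊓ C with hRdef
  set T₁ := fam 𝒜 R with hT₁
  have hT₁T : T₁ ≤ T := fam_mono 𝒜 inf_le_left
  set L₁ := PR (centralizer (T₁ : Set G) ⊓ C) with hL₁
  haveI hL₁n : L₁.Normal := ind.normal h hO hCn hC hR
  have hL₁C : L₁ ≤ C := (PR_le _).trans inf_le_right
  have hL₁T : L₁ ≤ centralizer (T₁ : Set G) := (PR_le _).trans inf_le_left
  haveI hQn : (Cfsg.pCore 2 G).Normal := Cfsg.Agent.Lib.Cores.pCore_normal 2
  -- elements of the family in `L₁` are central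
  have claim : ∀ a ∈ 𝒜, a ∈ L₁ → ∀ l ∈ L₁, a * l = l * a := by
    intro a ha haL l hl
    obtain ⟨c, hc, hcR⟩ := hR.conj (zpowers a) (h.isPGroup_zpowers ha) (by
      rw [zpowers_le]; exact hL₁C haL)
    have h1 : c * a * c⁻¹ ∈ T₁ := mem_fam (h.conj_mem a ha c) (hcR a (mem_zpowers a))
    have h2 : c * l * c⁻¹ ∈ L₁ := hL₁n.conj_mem l hl c
    have h3 := mem_centralizer_comm (hL₁T h2) h1
    have h4 : c⁻¹ * (c * l * c⁻¹ * (c * a * c⁻¹)) * c = c⁻¹ * (c * a * c⁻¹ * (c * l * c⁻¹)) * c := by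
      rw [h3]
    have e1 : c⁻¹ * (c * l * c⁻¹ * (c * a * c⁻¹)) * c = l * a := by group
    have e2 : c⁻¹ * (c * a * c⁻¹ * (c * l * c⁻¹)) * c = a * l := by group
    rw [e1, e2] at h4
    exact h4.symm
  set Z : Subgroup G := L₁ ⊓ centralizer (L₁ : Set G) ⊓ Cfsg.pCore 2 G with hZ
  haveI hZn : Z.Normal := inferInstance
  have hZL : Z ≤ L₁ := inf_le_left.trans inf_le_left
  have hZ2 : IsPGroup 2 Z := (Cfsg.Agent.Lib.Cores.pCore_isPGroup 2).to_le inf_le_right
  have hcent : ∀ z ∈ Z, ∀ l ∈ L₁, z * l = l * z := by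
    intro z hz l hl
    exact mem_centralizer_comm hz.1.2 hl
  have hAZ : ∀ a ∈ 𝒜, a ∈ L₁ → a ∈ Z := by
    intro a ha haL
    have h1 : a ∈ L₁ ⊓ centralizer (L₁ : Set G) := by
      refine mem_inf.2 ⟨haL, ?_⟩
      rw [mem_centralizer_iff]
      intro l hl
      exact (claim a ha haL l hl).symm
    obtain ⟨k, hk⟩ := h.two a ha
    refine ⟨h1, mem_pCore_of_abelian (N := L₁ ⊓ centralizer (L₁ : Set G)) inferInstance ?_ h1 hk⟩
    intro x hx y hy
    exact mem_centralizer_comm hx.2 hy.1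
  -- pass to the quotient
  set π : G →* G ⧸ Z := QuotientGroup.mk' Z with hπ
  have hπs : Function.Surjective π := QuotientGroup.mk'_surjective Z
  have hker : π.ker = Z := QuotientGroup.ker_mk' Z
  haveI hNn : (L₁.map π).Normal := hL₁n.map π hπs
  have hbot := map_inf_oddCore_eq_bot hO hL₁n hZ2 hcent
  have hON : Cfsg.oddCore ↥(L₁.map π) = ⊥ := by
    have h1 := Cfsg.Agent.Lib.Cores.map_subtype_pPrimeCore 2 hNn
    have h2 : (Cfsg.pPrimeCore 2 ↥(L₁.map π)).map (L₁.map π).subtype = ⊥ := by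
      rw [h1]; exact hbot
    exact (Subgroup.map_eq_bot_iff_of_injective _ (Subgroup.subtype_injective _)).1 h2
  have hcz := ClosedZ.centralize (h.image hπs) (L₁.map π) hON (by
    rintro _ ⟨a, ha, rfl⟩ ⟨l, hl, hla⟩
    have h1 : a * l⁻¹ ∈ Z := by
      rw [← hker, MonoidHom.mem_ker, map_mul, map_inv, hla]; group
    have h2 : a ∈ L₁ := by
      have := mul_mem (hZL h1) hl
      have e : a * l⁻¹ * l = a := by group
      rwa [e] at this
    have h3 := hAZ a ha h2
    rw [← hker] at h3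
    exact h3)
  have hTL : ∀ t ∈ T, ∀ l ∈ L₁, t * l = l * t := by
    intro t ht
    have htA : t ∈ 𝒜 := ((h.mem_fam_iff P.2).1 ht).1
    refine comm_of_perfect (PR_perfect _) ?_
    intro l hl
    have h1 := hcz (π t) ⟨t, htA, rfl⟩ (π l) ⟨l, hl, rfl⟩
    have h2 : l⁻¹ * (t * l * t⁻¹) ∈ Z := by
      rw [← hker, MonoidHom.mem_ker]
      simp only [map_mul, map_inv]
      rw [h1]; group
    exact ⟨l⁻¹ * (t * l * t⁻¹), hcent _ h2, hZL h2, by group⟩
  have e : PR (centralizer (T : Set G)) = L₁ := by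
    apply le_antisymm
    · refine le_PR ?_ (PR_perfect _)
      refine (PR_le _).trans (le_inf ?_ ?_)
      · exact centralizer_le hT₁T
      · exact centralizer_le hUT
    · refine le_PR ?_ (PR_perfect _)
      intro l hl
      rw [mem_centralizer_iff]
      intro t ht
      exact hTL t ht l hl
  rw [e]
  exact hL₁n

/-- Step 1b: `U ≤ fam 𝒜 P` is a central 2-subgroup. -/
theorem step1b {G : Type u} [Group G] [Finite G] {𝒜 : Set G} (h : IsClosedFam 𝒜)
    (hO : Cfsg.oddCore G = ⊥) (P : Sylow 2 G) (U : Subgroup G) [hU : U.Normal]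
    (hU2 : IsPGroup 2 U) (hUA : ∀ x ∈ U, x ∈ 𝒜) (hC : ∀ z ∈ U, ∀ g : G, z * g = g * z)
    (hgood : Good (G ⧸ U)) :
    (PR (centralizer (fam 𝒜 (P : Subgroup G) : Set G))).Normal := by
  classical
  haveI : Fact (Nat.Prime 2) := ⟨Nat.prime_two⟩
  set T := fam 𝒜 (P : Subgroup G) with hT
  have hUT : U ≤ T := le_fam_of_normal P hU hU2 hUA
  have hUP : U ≤ (P : Subgroup G) := hUT.trans (fam_le _ _)
  set π : G →* G ⧸ U := QuotientGroup.mk' U with hπ
  have hπs : Function.Surjective π := QuotientGroup.mk'_surjective U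
  have hker : π.ker = U := QuotientGroup.ker_mk' U
  have hbot := map_inf_oddCore_eq_bot (L := ⊤) (Z := U) hO inferInstance hU2
    (fun z hz l _ => hC z hz l)
  rw [Subgroup.map_top_of_surjective _ hπs, top_inf_eq] at hbot
  have hT' : fam (π '' 𝒜) ((P : Subgroup G).map π) = T.map π := by
    apply le_antisymm
    · rw [fam_le_iff]
      rintro _ ⟨a, ha, rfl⟩ ⟨p, hp, hpa⟩
      refine ⟨a, mem_fam ha ?_, rfl⟩
      have h1 : a * p⁻¹ ∈ U := by
        rw [← hker, MonoidHom.mem_ker, map_mul, map_inv, hpa]; group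
      have h2 := mul_mem (hUP h1) hp
      have e : a * p⁻¹ * p = a := by group
      rwa [e] at h2
    · rintro _ ⟨x, hx, rfl⟩
      rw [SetLike.mem_coe, h.mem_fam_iff P.2] at hx
      exact mem_fam ⟨x, hx.1, rfl⟩ ⟨x, hx.2, rfl⟩
  have h1 := hgood (π '' 𝒜) (P.mapSurjective hπs) (h.image hπs) hbot
  rw [Sylow.coe_mapSurjective, hT'] at h1
  set L' := PR (centralizer ((T.map π : Subgroup (G ⧸ U)) : Set (G ⧸ U))) with hL'
  haveI : (L'.comap π).Normal := h1.comap π
  set L₂ := PR (L'.comap π) with hL₂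
  haveI hL₂n : L₂.Normal := PR_normal _
  have hL₂L' : ∀ l ∈ L₂, π l ∈ L' := fun l hl => PR_le (L'.comap π) hl
  have hTL : ∀ t ∈ T, ∀ l ∈ L₂, t * l = l * t := by
    intro t ht
    refine comm_of_perfect (PR_perfect _) ?_
    intro l hl
    have h2 : π l * π t = π t * π l := PR_centralizer_comm (hL₂L' l hl) ⟨t, ht, rfl⟩
    have h3 : l⁻¹ * (t * l * t⁻¹) ∈ U := by
      rw [← hker, MonoidHom.mem_ker]
      simp only [map_mul, map_inv]
      rw [← h2]; group
    exact ⟨l⁻¹ * (t * l * t⁻¹), fun l' _ => hC _ h3 l',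
      mul_mem (inv_mem hl) (hL₂n.conj_mem l hl t), by group⟩
  have e : PR (centralizer (T : Set G)) = L₂ := by
    apply le_antisymm
    · refine le_PR ?_ (PR_perfect _)
      rw [← map_le_iff_le_comap]
      refine (map_PR_le π _).trans (PR_mono ?_)
      rintro _ ⟨x, hx, rfl⟩
      rw [mem_centralizer_iff]
      rintro _ ⟨t, ht, rfl⟩
      rw [← map_mul, ← map_mul, mem_centralizer_comm hx ht]
    · refine le_PR ?_ (PR_perfect _)
      intro l hl
      rw [mem_centralizer_iff]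
      intro t ht
      exact hTL t ht l hl
  rw [e]
  exact hL₂n

/-- Step 1: the family meets `O_2(G)` nontrivially. -/
theorem normal_of_left_two {G : Type u} [Group G] [Finite G]
    (hgood : ∀ (K : Type u) [Group K] [Finite K], Nat.card K < Nat.card G → Good K)
    {𝒜 : Set G} (h : IsClosedFam 𝒜) (hO : Cfsg.oddCore G = ⊥) (P : Sylow 2 G)
    (hl : ∃ a ∈ 𝒜, a ∈ Cfsg.pCore 2 G ∧ a ≠ 1) :
    (PR (centralizer (fam 𝒜 (P : Subgroup G) : Set G))).Normal := by
  obtain ⟨a, ha, haQ, ha1⟩ := hl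
  haveI hQn : (Cfsg.pCore 2 G).Normal := Cfsg.Agent.Lib.Cores.pCore_normal 2
  have hQp : IsPGroup 2 (Cfsg.pCore 2 G) := Cfsg.Agent.Lib.Cores.pCore_isPGroup 2
  haveI hUn : (fam 𝒜 (Cfsg.pCore 2 G)).Normal := h.fam_normal _
  have hU2 : IsPGroup 2 (fam 𝒜 (Cfsg.pCore 2 G)) := isPGroup_fam 𝒜 hQp
  have hUA : ∀ x ∈ fam 𝒜 (Cfsg.pCore 2 G), x ∈ 𝒜 := fun x hx => ((h.mem_fam_iff hQp).1 hx).1
  have hUne : fam 𝒜 (Cfsg.pCore 2 G) ≠ ⊥ := by
    intro he
    have h1 : a ∈ fam 𝒜 (Cfsg.pCore 2 G) := mem_fam ha haQ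
    rw [he, mem_bot] at h1
    exact ha1 h1
  by_cases hC : centralizer (fam 𝒜 (Cfsg.pCore 2 G) : Set G) = ⊤
  · refine step1b h hO P (fam 𝒜 (Cfsg.pCore 2 G)) hU2 hUA ?_ ?_
    · intro z hz g
      have h1 : g ∈ centralizer (fam 𝒜 (Cfsg.pCore 2 G) : Set G) := by rw [hC]; exact mem_top g
      exact (mem_centralizer_comm h1 hz).symm
    · apply hgood
      rw [Subgroup.card_eq_card_quotient_mul_card_subgroup (fam 𝒜 (Cfsg.pCore 2 G))]
      have h1 : 1 < Nat.card (fam 𝒜 (Cfsg.pCore 2 G)) := by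
        rw [Subgroup.one_lt_card_iff_ne_bot]; exact hUne
      exact lt_mul_of_one_lt_right Nat.card_pos h1
  · exact step1a h hO (ind_of_good h hgood) P _ hU2 hUA hC

end Cfsg.Agent.TwoFusion.CentResidual
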