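import Mathlib
import Cfsg.Agent.Lib.GoldschmidtFusion

/-!
# Fusion is controlled by the radical subgroups

`IsRadical p X`: every `p`-subgroup contained in a normal subgroup `D ≥ C_G(X)` of `N_G(X)` such that
`D / C_G(X)` is a `p`-group lies in `X`.

`mem_of_radical`: if `R ∩ X` is normalised by `N_G(X)` for all radical subgroups `X` of the Sylow subgroup `P`
with `N_P(X)` Sylow in `N_G(X)`, then `R` is strongly closed in `P`.
-/

set_option autoImplicit false

namespace Cfsg.Agent.TwoFusion.RadicalFusion

open Subgroup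
open Cfsg.Agent.Lib.GoldschmidtFusion

variable {G : Type*} [Group G]

/-- Radical subgroups (this includes: `X` contains each `p`-subgroup of `C_G(X)`). -/
def IsRadical (p : ℕ) (X : Subgroup G) : Prop :=
  ∀ D : Subgroup G, D ≤ normalizer (X : Set G) → normalizer (X : Set G) ≤ normalizer (D : Set G) →
    centralizer (X : Set G) ≤ D → (∀ d ∈ D, ∃ k : ℕ, d ^ p ^ k ∈ centralizer (X : Set G)) →
    ∀ Q : Subgroup G, IsPGroup p Q → Q ≤ D → Q ≤ X

variable [Finite G] {p : ℕ} [hp : Fact p.Prime]

/-- If `N_P(X)` is Sylow in `N = N_G(X)` and `D` is normal in `N` then `P ∩ D` is Sylow in `D`. -/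
theorem not_dvd_relIndex_of_normal (P : Sylow p G) {N D : Subgroup G} (hDN : D ≤ N)
    (hND : N ≤ normalizer (D : Set G))
    (hN : ¬ p ∣ ((P : Subgroup G) ⊓ N).relIndex N) : ¬ p ∣ ((P : Subgroup G) ⊓ D).relIndex D := by
  have hnorm : (D.subgroupOf N).Normal := by
    rwa [normal_subgroupOf_iff_le_normalizer hDN]
  have h1 : ((P : Subgroup G) ⊓ N).relIndex D ∣ ((P : Subgroup G) ⊓ N).relIndex N := by
    have e1 : ((P : Subgroup G) ⊓ N).relIndex D =
        (((P : Subgroup G) ⊓ N).subgroupOf N).relIndex (D.subgroupOf N) := by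
      rw [relIndex_subgroupOf hDN]
    have e2 : ((P : Subgroup G) ⊓ N).relIndex N = (((P : Subgroup G) ⊓ N).subgroupOf N).index := rfl
    rw [e1, e2]
    exact relIndex_dvd_index_of_normal_right _ _
  intro h
  apply hN
  refine dvd_trans ?_ h1
  have : ((P : Subgroup G) ⊓ D).relIndex D = ((P : Subgroup G) ⊓ N).relIndex D := by
    rw [← inf_relIndex_right ((P : Subgroup G) ⊓ N) D]
    congr 1
    ext x
    simp only [mem_inf]
    constructor
    · rintro ⟨a, b⟩; exact ⟨⟨a, hDN b⟩, b⟩
    · rintro ⟨⟨a, _⟩, b⟩; exact ⟨a, b⟩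
  rw [← this]
  exact h

/-- If `D / C` is a `p`-group and `P ∩ D` is Sylow in `D` then `D = (P ∩ D) C`. -/
theorem exists_mul_of_pow_mem {S C D : Subgroup G} (hSD : S ≤ D) (hCD : C ≤ D)
    (hDC : D ≤ normalizer (C : Set G)) (hS : ¬ p ∣ S.relIndex D)
    (hpow : ∀ d ∈ D, ∃ k : ℕ, d ^ p ^ k ∈ C) : ∀ d ∈ D, ∃ s ∈ S, ∃ c ∈ C, d = s * c := by
  have hCn : (C.subgroupOf D).Normal := by
    rwa [normal_subgroupOf_iff_le_normalizer hCD]
  have hq : IsPGroup p (D ⧸ C.subgroupOf D) := by
    intro x
    obtain ⟨d, rfl⟩ := QuotientGroup.mk_surjective x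
    obtain ⟨k, hk⟩ := hpow d d.2
    refine ⟨k, ?_⟩
    rw [← QuotientGroup.mk_pow, QuotientGroup.eq_one_iff, mem_subgroupOf]
    simpa using hk
  obtain ⟨n, hn⟩ := IsPGroup.iff_card.1 hq
  have hCi : C.relIndex D = p ^ n := by
    rw [← hn]; rfl
  have h1 : (S ⊔ C).relIndex D ∣ C.relIndex D := relIndex_dvd_of_le_left D le_sup_right
  have h2 : (S ⊔ C).relIndex D ∣ S.relIndex D := relIndex_dvd_of_le_left D le_sup_left
  have h3 : (S ⊔ C).relIndex D = 1 := by
    rw [hCi] at h1
    obtain ⟨m, -, hm⟩ := (Nat.dvd_prime_pow hp.1).1 h1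
    rcases m with _ | m
    · rw [hm, pow_zero]
    · exact absurd (dvd_trans (by rw [hm]; exact dvd_pow_self p (Nat.succ_ne_zero m)) h2) hS
  have h4 : D ≤ S ⊔ C := relIndex_eq_one.1 h3
  intro d hd
  have h5 : d ∈ ((S ⊔ C : Subgroup G) : Set G) := h4 hd
  rw [coe_mul_of_left_le_normalizer_right _ _ (hSD.trans hDC)] at h5
  obtain ⟨s, hs, c, hc, rfl⟩ := Set.mem_mul.1 h5
  exact ⟨s, hs, c, hc, rfl⟩

/-- Fusion theorem in the form of an invariance principle. -/
theorem mem_iff_of_radical (P : Sylow p G) (R : Set G)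
    (h : ∀ X : Subgroup G, X ≤ P → IsRadical p X →
      ∀ g ∈ normalizer (X : Set G), ∀ x ∈ X, (g * x * g⁻¹ ∈ R ↔ x ∈ R)) :
    ∀ A : Subgroup G, A ≤ P → ∀ g : G, A.map (MulAut.conj g).toMonoidHom ≤ P →
      ∀ a ∈ A, (g * a * g⁻¹ ∈ R ↔ a ∈ R) := by
  -- downward induction on the order of `A`
  have key : ∀ k : ℕ, ∀ A : Subgroup G, A ≤ P → Nat.card P < Nat.card A + k → ∀ g : G,
      A.map (MulAut.conj g).toMonoidHom ≤ P → ∀ a ∈ A, (g * a * g⁻¹ ∈ R ↔ a ∈ R) := by
    intro k
    induction k with
    | zero =>
      intro A hA hk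
      exact absurd hk (not_lt.2 (by simpa using Subgroup.card_le_of_le hA))
    | succ k ih =>
      intro A hA hk g hg
      set F : Subgroup G → Prop := fun X =>
        ¬ p ∣ ((P : Subgroup G) ⊓ normalizer (X : Set G)).relIndex (normalizer (X : Set G)) with hF
      have hFP : F P := by
        rw [hF]
        intro hd
        have h1 : ((P : Subgroup G) ⊓ normalizer ((P : Subgroup G) : Set G)).relIndex
            (normalizer ((P : Subgroup G) : Set G)) ∣ (P : Subgroup G).index := by
          have h2 : (P : Subgroup G) ⊓ normalizer ((P : Subgroup G) : Set G) = P := by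
            rw [inf_eq_left]; exact le_normalizer
          rw [h2]
          exact relIndex_dvd_index_of_le le_normalizer
        exact P.not_dvd_index (hd.trans h1)
      have hgen : Gen (P : Subgroup G) F A g :=
        gen_of_conj P F hFP (fun X _ hX _ _ => hX) hA hg
      clear hg hA
      revert hk
      induction hgen with
      | cent hA hc =>
        intro _ a ha
        rw [conj_eq_of_mem_centralizer hc ha]
      | @mul A g h' _ _ ih1 ih2 =>
        intro hk a ha
        have h1 := ih1 hk a ha
        have h2 := ih2 (by rw [card_map_conj]; exact hk) _ (conj_mem_map_conj ha g)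
        have e : h' * g * a * (h' * g)⁻¹ = h' * (g * a * g⁻¹) * h'⁻¹ := by group
        rw [e, h2, h1]
      | @base A X g hX hFX hAX hg =>
        intro hk a ha
        by_cases hlt : Nat.card A < Nat.card X
        · refine ih X hX (by omega) g ?_ a (hAX ha)
          rw [mem_normalizer_iff_map_conj.1 hg]
          exact hX
        · have hAXeq : A = X := Subgroup.eq_of_le_of_card_ge hAX (not_lt.1 hlt)
          subst hAXeq
          by_cases hrad : IsRadical p A
          · exact h A hX hrad g hg a ha
          · unfold IsRadical at hrad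
            push Not at hrad
            obtain ⟨D, hDN, hND, hCD, hpow, Q, hQ, hQD, hQA⟩ := hrad
            set S : Subgroup G := (P : Subgroup G) ⊓ D with hS
            have hSD : S ≤ D := inf_le_right
            have hSp : IsPGroup p S := P.2.to_le inf_le_left
            have hSi : ¬ p ∣ S.relIndex D := not_dvd_relIndex_of_normal P hDN hND hFX
            have hCn : normalizer (A : Set G) ≤ normalizer (centralizer (A : Set G) : Set G) := by
              intro n hn
              rw [mem_normalizer_iff_map_conj]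
              apply map_conj_le_of_le_normalizer
              rintro _ ⟨c, hc, rfl⟩
              have : (MulAut.conj n).toMonoidHom c ∈
                  centralizer ((A.map (MulAut.conj n).toMonoidHom : Subgroup G) : Set G) := by
                rw [mem_centralizer_map_conj]
                simpa [mul_assoc] using hc
              rwa [mem_normalizer_iff_map_conj.1 hn] at this
            have hdec := exists_mul_of_pow_mem (p := p) hSD hCD (hDN.trans hCn) hSi hpow
            -- `S` is not contained in `A`
            have hSA : ¬ S ≤ A := by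
              intro hSA
              apply hQA
              obtain ⟨n, hn, hnle⟩ := exists_conj_le_in (p := p) hSp hSi hQD hQ
              intro q hq
              have h1 : n * q * n⁻¹ ∈ A := hSA (hnle ⟨q, hq, by simp⟩)
              exact (mem_normalizer_iff.1 (hDN hn) q).2 h1
            -- Frattini argument
            have hgS : S.map (MulAut.conj g).toMonoidHom ≤ D := by
              rintro _ ⟨s, hs, rfl⟩
              exact (mem_normalizer_iff.1 (hND hg) s).1 (hSD hs)
            obtain ⟨d, hd, hdle⟩ := exists_conj_le_in (p := p) hSp hSi hgS (hSp.map _)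
            obtain ⟨s, hs, c, hc, rfl⟩ := hdec d hd
            set n₁ := c * g with hn₁
            have hn₁S : ∀ y ∈ S, n₁ * y * n₁⁻¹ ∈ S := by
              intro y hy
              have h1 : s * c * (g * y * g⁻¹) * (s * c)⁻¹ ∈ S := hdle ⟨g * y * g⁻¹, ⟨y, hy, rfl⟩, rfl⟩
              have h2 : s⁻¹ * (s * c * (g * y * g⁻¹) * (s * c)⁻¹) * s ∈ S :=
                mul_mem (mul_mem (inv_mem hs) h1) hs
              have e : s⁻¹ * (s * c * (g * y * g⁻¹) * (s * c)⁻¹) * s = n₁ * y * n₁⁻¹ := by
                rw [hn₁]; group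
              rwa [e] at h2
            have hn₁A : ∀ y ∈ A, n₁ * y * n₁⁻¹ ∈ A := by
              intro y hy
              exact (mem_normalizer_iff.1 (mul_mem (centralizer_le_normalizer _ hc) hg) y).1 hy
            set X₁ : Subgroup G := A ⊔ S with hX₁
            have hX₁P : X₁ ≤ P := sup_le hX inf_le_left
            have hcard : Nat.card A < Nat.card X₁ := by
              refine Set.Finite.card_lt_card (Set.toFinite _) ?_
              have : A < X₁ := left_lt_sup.2 hSA
              exact this
            have hX₁n : X₁.map (MulAut.conj n₁).toMonoidHom ≤ P := by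
              rw [hX₁, Subgroup.map_sup]
              refine sup_le ?_ ?_
              · rintro _ ⟨y, hy, rfl⟩; exact hX (hn₁A y hy)
              · rintro _ ⟨y, hy, rfl⟩; exact (hn₁S y hy).1
            have h1 := ih X₁ hX₁P (by omega) n₁ hX₁n a (mem_sup_left ha)
            have h2 : n₁ * a * n₁⁻¹ = g * a * g⁻¹ := by
              have h3 : g * a * g⁻¹ ∈ A := (mem_normalizer_iff.1 hg a).1 ha
              have h4 := conj_eq_of_mem_centralizer hc h3
              rw [← h4, hn₁]; group
            rwa [h2] at h1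
  intro A hA g hg
  exact key (Nat.card P + 1) A hA (by omega) g hg

/-- If `R ∩ X` is normalised by `N_G(X)` for the radical subgroups `X` of `P` then `R` is strongly closed. -/
theorem mem_of_radical (P : Sylow p G) (R : Subgroup G) (hRP : R ≤ P)
    (h : ∀ X : Subgroup G, X ≤ P → IsRadical p X →
      ∀ g ∈ normalizer (X : Set G), ∀ x ∈ X, x ∈ R → g * x * g⁻¹ ∈ R) :
    ∀ x ∈ R, ∀ g : G, g * x * g⁻¹ ∈ P → g * x * g⁻¹ ∈ R := by
  intro x hx g hg
  have h1 := mem_iff_of_radical P (R : Set G) (fun X hX hrad g hg y hy => by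
    refine ⟨fun hr => ?_, fun hr => h X hX hrad g hg y hy hr⟩
    have h2 := h X hX hrad g⁻¹ (inv_mem hg) _ ((mem_normalizer_iff.1 hg y).1 hy) hr
    have e : g⁻¹ * (g * y * g⁻¹) * g⁻¹⁻¹ = y := by group
    rwa [e] at h2) (zpowers x) (zpowers_le.2 (hRP hx)) g (zpowers_map_conj_le hg) x (mem_zpowers x)
  exact h1.2 hx

end Cfsg.Agent.TwoFusion.RadicalFusion
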