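import Mathlib
import Cfsg.Agent.TwoFusion.PerfCore
import Cfsg.Agent.TwoFusion.RadicalFusion
import Cfsg.Agent.TwoFusion.ClosedLocal
import Cfsg.Agent.TwoFusion.ClosedZ
import Cfsg.Agent.Lib.CoprimeCommutator

/-!
# The perfect core of the centralizer of a strongly closed subgroup

Let `T` be strongly closed in the Sylow 2-subgroup `S` and `L` the perfect core of `C_G(T)`.  Then `S ∩ L` is
strongly closed in `S` (`isStronglyClosed_perf`).
-/

set_option autoImplicit false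
set_option linter.style.haveILetI false

namespace Cfsg.Agent.TwoFusion.CoreStrong

open Subgroup
open Cfsg.Agent.TwoFusion.ClosedFam
open Cfsg.Agent.TwoFusion.PerfCore

universe u

/-! ### Normal subgroups with a central 2-subgroup of odd index modulo the core -/

theorem core_eq {G : Type*} [Group G] [Finite G] (C : Subgroup G) (hC : C.Normal) :
    core C = C ⊓ Cfsg.oddCore G := Cfsg.Agent.Lib.Cores.map_subtype_pPrimeCore 2 hC

theorem sup_inf_eq {G : Type*} [Group G] {Z O Y : Subgroup G} (hZY : Z ≤ Y) (hO : O.Normal) :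
    (Z ⊔ O) ⊓ Y = Z ⊔ (Y ⊓ O) := by
  apply le_antisymm
  · intro y hy
    obtain ⟨hy, hyY⟩ := mem_inf.1 hy
    rw [← SetLike.mem_coe, Subgroup.mul_normal] at hy
    obtain ⟨z, hz, o, ho, rfl⟩ := Set.mem_mul.1 hy
    have h1 : o ∈ Y := by
      have : o = z⁻¹ * (z * o) := by group
      rw [this]
      exact mul_mem (inv_mem (hZY hz)) hyY
    exact mul_mem (mem_sup_left hz) (mem_sup_right ⟨h1, ho⟩)
  · refine sup_le (le_inf le_sup_left hZY) (le_inf (inf_le_right.trans le_sup_right) inf_le_left)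

/-- A normal subgroup `Y` with a central 2-subgroup `Z` such that `|Y : Z (Y ∩ O(G))|` is odd is equal to
`Z (Y ∩ O(G))`. -/
theorem le_sup_of_odd_relIndex {G : Type*} [Group G] [Finite G] (Y Z : Subgroup G) (hY : Y.Normal)
    (hZY : Z ≤ Y) (hZ : IsPGroup 2 Z) (hcent : ∀ z ∈ Z, ∀ y ∈ Y, z * y = y * z)
    (hodd : Odd ((Z ⊔ (Y ⊓ Cfsg.oddCore G)).relIndex Y)) : Y ≤ Z ⊔ (Y ⊓ Cfsg.oddCore G) := by
  classical
  set O : Subgroup G := Cfsg.oddCore G with hO
  set g : G →* G ⧸ O := QuotientGroup.mk' O with hg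
  have hker : g.ker = O := QuotientGroup.ker_mk' O
  have hsurj : Function.Surjective g := QuotientGroup.mk'_surjective O
  have hO' : Cfsg.oddCore (G ⧸ O) = ⊥ := Cfsg.Agent.Lib.Cores.pPrimeCore_quotient_pPrimeCore 2
  have hYn : (Y.map g).Normal := hY.map g hsurj
  have h1 : Odd ((Z.map g).relIndex (Y.map g)) := by
    rw [← relIndex_comap, comap_map_eq, hker]
    have h2 : (Z ⊔ O).relIndex Y = ((Z ⊔ O) ⊓ Y).relIndex Y := (inf_relIndex_right _ _).symm
    rw [h2, sup_inf_eq hZY inferInstance]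
    exact hodd
  have h4 := Cfsg.Agent.TwoFusion.ClosedZ.le_of_central_odd_index hO' (Y.map g) (Z.map g) hYn (hZ.map g)
    (by
      rintro _ ⟨z, hz, rfl⟩ _ ⟨y, hy, rfl⟩
      rw [← map_mul, ← map_mul, hcent z hz y hy]) h1
  have h5 : Y ≤ Z ⊔ O := by
    rw [map_le_iff_le_comap, comap_map_eq, hker] at h4
    exact h4
  intro y hy
  have h6 : y ∈ (Z ⊔ O) ⊓ Y := ⟨h5 hy, hy⟩
  rwa [sup_inf_eq hZY inferInstance] at h6

/-! ### Closed families and central 2-subgroups -/

/-- A closed family which meets the normal subgroup `C` in a central 2-subgroup `Z` of `C` centralizes `C`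
modulo `Z O(C)`. -/
theorem comm_mem_of_closedFam {G : Type u} [Group G] [Finite G] {𝒜 : Set G} (h : IsClosedFam 𝒜)
    (C Z : Subgroup G) (hC : C.Normal) (hZn : Z.Normal) (hZC : Z ≤ C) (hZ : IsPGroup 2 Z)
    (hcent : ∀ z ∈ Z, ∀ c ∈ C, z * c = c * z) (hA : ∀ a ∈ 𝒜, a ∈ C → a ∈ Z) :
    ∀ a ∈ 𝒜, ∀ c ∈ C, a * c * a⁻¹ * c⁻¹ ∈ Z ⊔ (C ⊓ Cfsg.oddCore G) := by
  classical
  set K₀ : Subgroup G := Z ⊔ (C ⊓ Cfsg.oddCore G) with hK₀
  haveI hK₀n : K₀.Normal := by rw [hK₀]; infer_instance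
  have hK₀C : K₀ ≤ C := sup_le hZC inf_le_left
  set f : G →* G ⧸ K₀ := QuotientGroup.mk' K₀ with hf
  have hker : f.ker = K₀ := QuotientGroup.ker_mk' K₀
  have hsurj : Function.Surjective f := QuotientGroup.mk'_surjective K₀
  haveI hNn : (C.map f).Normal := hC.map f hsurj
  -- the odd core of the image of `C` is trivial
  have hNO : Cfsg.oddCore ↥(C.map f) = ⊥ := by
    set L' : Subgroup (G ⧸ K₀) := core (C.map f) with hL'
    have hL'eq : L' = C.map f ⊓ Cfsg.oddCore (G ⧸ K₀) := core_eq _ hNn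
    have hL'n : L'.Normal := by rw [hL'eq]; infer_instance
    have hL'odd : Odd (Nat.card L') := Cfsg.Agent.TwoFusion.ClosedLocal.odd_core _
    have hL'le : L' ≤ C.map f := Cfsg.Agent.TwoFusion.ClosedLocal.core_le _
    set Y : Subgroup G := L'.comap f with hY
    have hYn : Y.Normal := hL'n.comap f
    have hK₀Y : K₀ ≤ Y := by
      rw [← hker]
      intro x hx
      rw [hY, mem_comap, (MonoidHom.mem_ker).1 hx]
      exact one_mem _
    have hYC : Y ≤ C := by
      have h1 : Y ≤ (C.map f).comap f := comap_mono hL'le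
      rw [comap_map_eq, hker, sup_eq_left.2 hK₀C] at h1
      exact h1
    have hYO : Y ⊓ Cfsg.oddCore G = C ⊓ Cfsg.oddCore G := by
      apply le_antisymm
      · exact inf_le_inf_right _ hYC
      · exact le_inf (le_sup_right.trans hK₀Y) inf_le_right
    have hidx : Odd ((Z ⊔ (Y ⊓ Cfsg.oddCore G)).relIndex Y) := by
      rw [hYO, ← hK₀]
      have h1 : ((⊥ : Subgroup (G ⧸ K₀)).comap f).relIndex Y = K₀.relIndex Y :=
        congrArg (fun W => W.relIndex Y) hker
      rw [← h1, relIndex_comap, hY, map_comap_eq_self_of_surjective hsurj, relIndex_bot_left]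
      exact hL'odd
    have h2 := le_sup_of_odd_relIndex Y Z hYn ((le_sup_left).trans hK₀Y) hZ
      (fun z hz y hy => hcent z hz y (hYC hy)) hidx
    rw [hYO, ← hK₀] at h2
    have h3 : L' = ⊥ := by
      rw [eq_bot_iff]
      intro x hx
      obtain ⟨y, rfl⟩ := hsurj x
      have h4 : y ∈ K₀ := h2 hx
      rw [mem_bot]
      rwa [← hker] at h4
    exact (Subgroup.map_eq_bot_iff_of_injective _ (C.map f).subtype_injective).1 h3
  have key := Cfsg.Agent.TwoFusion.ClosedZ.centralize (h.image hsurj) (C.map f) hNO (by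
    rintro _ ⟨a, ha, rfl⟩ haC
    obtain ⟨c, hc, hca⟩ := haC
    have h1 : a ∈ C := by
      have h2 : c⁻¹ * a ∈ f.ker := by rw [MonoidHom.mem_ker, map_mul, map_inv, hca]; group
      rw [hker] at h2
      have h3 : a = c * (c⁻¹ * a) := by group
      rw [h3]
      exact mul_mem hc (hK₀C h2)
    have h2 : a ∈ K₀ := le_sup_left (a := Z) (hA a ha h1)
    rwa [← hker] at h2)
  intro a ha c hc
  have h1 := key (f a) ⟨a, ha, rfl⟩ (f c) ⟨c, hc, rfl⟩
  rw [← hker, MonoidHom.mem_ker, map_mul, map_mul, map_mul, h1, map_inv, map_inv]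
  group

/-- In the situation of `comm_mem_of_closedFam` the closed family centralizes the perfect core of `C`
modulo `O(C)`. -/
theorem comm_mem_core_of_closedFam {G : Type u} [Group G] [Finite G] {𝒜 : Set G} (h : IsClosedFam 𝒜)
    (C Z : Subgroup G) (hC : C.Normal) (hZn : Z.Normal) (hZC : Z ≤ C) (hZ : IsPGroup 2 Z)
    (hcent : ∀ z ∈ Z, ∀ c ∈ C, z * c = c * z) (hA : ∀ a ∈ 𝒜, a ∈ C → a ∈ Z) :
    ∀ a ∈ 𝒜, ∀ c ∈ perf C, a * c * a⁻¹ * c⁻¹ ∈ C ⊓ Cfsg.oddCore G := by
  classical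
  have h0 := comm_mem_of_closedFam h C Z hC hZn hZC hZ hcent hA
  set O : Subgroup G := C ⊓ Cfsg.oddCore G with hO
  haveI hOn : O.Normal := by rw [hO]; infer_instance
  set g : G →* G ⧸ O := QuotientGroup.mk' O with hg
  have hker : g.ker = O := QuotientGroup.ker_mk' O
  intro a ha c hc
  have hperf : ⁅(perf C).map g, (perf C).map g⁆ = (perf C).map g := map_perfect (perf_perfect C) g
  have key := commute_of_perfect (X := zpowers (g a)) hperf (by
    rintro _ ⟨p, hp, rfl⟩ x hx _ ⟨q, hq, rfl⟩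
    obtain ⟨k, rfl⟩ := mem_zpowers_iff.1 hx
    rw [← map_zpow]
    have h1 := h0 _ (h.zpow_mem ha k) p⁻¹ (inv_mem (perf_le C hp))
    have h2 : p * a ^ k * p⁻¹ * (a ^ k)⁻¹ ∈ Z ⊔ O := by
      have e : p * a ^ k * p⁻¹ * (a ^ k)⁻¹ = p * (a ^ k * p⁻¹ * (a ^ k)⁻¹ * p⁻¹⁻¹) * p⁻¹ := by group
      rw [e]
      have hn : (Z ⊔ O).Normal := inferInstance
      exact hn.conj_mem _ h1 p
    rw [← SetLike.mem_coe, Subgroup.mul_normal] at h2
    obtain ⟨z, hz, o, ho, hzo⟩ := Set.mem_mul.1 h2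
    have h3 : g (p * a ^ k * p⁻¹ * (a ^ k)⁻¹) = g z := by
      rw [← hzo, map_mul]
      have : g o = 1 := by rw [← MonoidHom.mem_ker, hker]; exact ho
      rw [this, mul_one]
    have h4 : g p * g (a ^ k) * (g p)⁻¹ * (g (a ^ k))⁻¹ = g z := by
      rw [← h3]; simp
    rw [h4, ← map_mul, ← map_mul, hcent z hz q (perf_le C hq)])
  have h1 := key (g c) ⟨c, hc, rfl⟩ (g a) (mem_zpowers _)
  rw [← hker, MonoidHom.mem_ker, map_mul, map_mul, map_mul, ← h1, map_inv, map_inv]
  group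

end Cfsg.Agent.TwoFusion.CoreStrong
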