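import Mathlib
import Cfsg.Agent.TwoFusion.CoreStrong

/-!
# The perfect core of the centralizer of a strongly closed subgroup: strong closure

Let `T` be strongly closed in the Sylow 2-subgroup `S` and `L` the perfect core of `C_G(T)`.  Then `S ∩ L` is
strongly closed in `S` (`mem_of_perf_centralizer`).
-/

set_option autoImplicit false
set_option linter.style.haveILetI false

namespace Cfsg.Agent.TwoFusion.CoreStrongMain

open Subgroup
open Cfsg.Agent.TwoFusion.ClosedFam
open Cfsg.Agent.TwoFusion.PerfCore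
open Cfsg.Agent.TwoFusion.CoreStrong
open Cfsg.Agent.Lib.GoldschmidtFusion

universe u

variable {G : Type u} [Group G] [Finite G] {𝒜 : Set G}

theorem normalizer_le_normalizer_centralizer {G : Type*} [Group G] (V : Subgroup G) :
    normalizer (V : Set G) ≤ normalizer (centralizer (V : Set G) : Set G) := by
  intro n hn
  rw [mem_normalizer_iff]
  intro x
  have key : ∀ m ∈ normalizer (V : Set G), ∀ c ∈ centralizer (V : Set G),
      m * c * m⁻¹ ∈ centralizer (V : Set G) := by
    intro m hm c hc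
    rw [mem_centralizer_iff] at hc ⊢
    intro v hv
    have h1 : m⁻¹ * v * m ∈ V := by
      have h2 := (mem_normalizer_iff.1 (inv_mem hm) v).1 hv
      simpa using h2
    have h2 := hc _ h1
    calc v * (m * c * m⁻¹) = m * ((m⁻¹ * v * m) * c) * m⁻¹ := by group
      _ = m * (c * (m⁻¹ * v * m)) * m⁻¹ := by rw [h2]
      _ = m * c * m⁻¹ * v := by group
  refine ⟨fun hx => key n hn x hx, fun hx => ?_⟩
  have h3 := key n⁻¹ (inv_mem hn) _ hx
  have e : n⁻¹ * (n * x * n⁻¹) * n⁻¹⁻¹ = x := by group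
  rwa [e] at h3

/-- If `K` is normal and `H K = M` then `|M : H|` divides `|K|`. -/
theorem index_dvd_card_of_sup_eq_top {M : Type*} [Group M] [Finite M] (H K : Subgroup M) (hK : K.Normal)
    (h : H ⊔ K = ⊤) : H.index ∣ Nat.card K := by
  have key : ∀ A B : Subgroup M, A ≤ B → Nat.card A * A.relIndex B = Nat.card B := by
    intro A B hAB
    have := card_mul_index (A.subgroupOf B)
    rwa [Nat.card_congr (subgroupOfEquivOfLe hAB).toEquiv] at this
  have h1 : Nat.card K * K.relIndex H = Nat.card M := by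
    have h2 := key K (H ⊔ K) le_sup_right
    rw [relIndex_sup_right] at h2
    rw [h2, h, card_top]
  have h2 : Nat.card (H ⊓ K : Subgroup M) * K.relIndex H = Nat.card H := by
    have h3 := key (H ⊓ K) H inf_le_left
    rwa [inf_relIndex_left] at h3
  have h3 : Nat.card H * H.index = Nat.card M := card_mul_index H
  have hpos : 0 < K.relIndex H := Nat.pos_of_ne_zero (FiniteIndex.index_ne_zero)
  have h4 : Nat.card (H ⊓ K : Subgroup M) * H.index = Nat.card K := by
    apply Nat.eq_of_mul_eq_mul_right hpos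
    rw [h1, ← h3, ← h2]; ring
  exact Dvd.intro_left _ h4

/-- Lemma A: if `V` contains all members of the closed family centralizing it, then the members normalising
`V` centralize the perfect core of `C_G(V)` modulo a normal subgroup of odd order. -/
theorem exists_odd_of_centric (h : IsClosedFam 𝒜) (V : Subgroup G) (hV2 : IsPGroup 2 V)
    (hVc : ∀ t ∈ 𝒜, t ∈ centralizer (V : Set G) → t ∈ V) :
    ∃ O : Subgroup G, O ≤ centralizer (V : Set G) ∧ Odd (Nat.card O) ∧
      normalizer (V : Set G) ≤ normalizer (O : Set G) ∧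
      ∀ t ∈ 𝒜, t ∈ normalizer (V : Set G) → ∀ c ∈ perf (centralizer (V : Set G)),
        t * c * t⁻¹ * c⁻¹ ∈ O := by
  classical
  set N : Subgroup G := normalizer (V : Set G) with hN
  set C' : Subgroup G := centralizer (V : Set G) with hC'
  have hCN : C' ≤ N := centralizer_le_normalizer _
  set C : Subgroup N := C'.subgroupOf N with hC
  have hCn : C.Normal := by
    rw [hC, normal_subgroupOf_iff_le_normalizer hCN]
    exact normalizer_le_normalizer_centralizer V
  set Z : Subgroup N := (V ⊓ C').subgroupOf N with hZ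
  have hZn : Z.Normal := by
    refine ⟨fun z hz g => ?_⟩
    rw [hZ, mem_subgroupOf] at hz ⊢
    refine ⟨?_, ?_⟩
    · exact (mem_normalizer_iff.1 g.2 z).1 hz.1
    · exact (mem_normalizer_iff.1 (normalizer_le_normalizer_centralizer V g.2) z).1 hz.2
  have hZC : Z ≤ C := by
    intro z hz
    exact (mem_subgroupOf.1 hz).2
  have hZ2 : IsPGroup 2 Z := by
    have h1 : IsPGroup 2 (V ⊓ C' : Subgroup G) := hV2.to_le inf_le_left
    exact h1.comap_of_injective N.subtype N.subtype_injective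
  have hcent : ∀ z ∈ Z, ∀ c ∈ C, z * c = c * z := by
    intro z hz c hc
    apply Subtype.ext
    exact (mem_centralizer_iff.1 (mem_subgroupOf.1 hc)) z (mem_subgroupOf.1 hz).1
  have hA : ∀ a ∈ {x : N | (x : G) ∈ 𝒜}, a ∈ C → a ∈ Z := by
    intro a ha haC
    exact ⟨hVc a ha haC, haC⟩
  have key := comm_mem_core_of_closedFam (h.restrict N) C Z hCn hZn hZC hZ2 hcent hA
  haveI hOn : (C ⊓ Cfsg.oddCore N).Normal := inferInstance
  refine ⟨(C ⊓ Cfsg.oddCore N).map N.subtype, ?_, ?_, ?_, ?_⟩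
  · rintro _ ⟨x, hx, rfl⟩
    exact (mem_subgroupOf.1 hx.1)
  · rw [Subgroup.card_map_of_injective N.subtype_injective, ← core_eq C hCn]
    exact Cfsg.Agent.TwoFusion.ClosedLocal.odd_core C
  · intro g hg
    rw [mem_normalizer_iff]
    intro x
    constructor
    · rintro ⟨y, hy, rfl⟩
      exact ⟨⟨g, hg⟩ * y * ⟨g, hg⟩⁻¹, hOn.conj_mem y hy _, rfl⟩
    · rintro ⟨y, hy, hyx⟩
      refine ⟨⟨g, hg⟩⁻¹ * y * ⟨g, hg⟩⁻¹⁻¹, hOn.conj_mem y hy _, ?_⟩
      change g⁻¹ * (y : G) * g⁻¹⁻¹ = x
      have : (y : G) = g * x * g⁻¹ := hyx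
      rw [this]; group
  · intro t ht htN c hc
    have hperf : (perf C).map N.subtype = perf C' := by
      rw [map_perf, hC, map_subgroupOf_eq_of_le hCN]
    rw [← hperf] at hc
    obtain ⟨c', hc', rfl⟩ := hc
    exact ⟨_, key ⟨t, htN⟩ ht c' hc', rfl⟩

/-- One step of Lemma B. -/
theorem odd_relIndex_step (h : IsClosedFam 𝒜) {V V₁ : Subgroup G} (hV2 : IsPGroup 2 V)
    (hV₁2 : IsPGroup 2 V₁) (hVV₁ : V ≤ V₁) (hV₁N : V₁ ≤ normalizer (V : Set G)) (hV₁ : ∀ v ∈ V₁, v ∈ 𝒜)
    (hVc : ∀ t ∈ 𝒜, t ∈ centralizer (V : Set G) → t ∈ V) :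
    Odd ((perf (centralizer (V₁ : Set G))).relIndex (perf (centralizer (V : Set G)))) := by
  classical
  haveI : Fact (Nat.Prime 2) := ⟨Nat.prime_two⟩
  obtain ⟨O, hOC, hOodd, hON, hO⟩ := exists_odd_of_centric h V hV2 hVc
  set L : Subgroup G := perf (centralizer (V : Set G)) with hL
  have hLC : L ≤ centralizer (V : Set G) := perf_le _
  have hCC : centralizer (V₁ : Set G) ≤ centralizer (V : Set G) := centralizer_le (by exact_mod_cast hVV₁)
  have hNL : normalizer (V : Set G) ≤ normalizer (L : Set G) :=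
    (normalizer_le_normalizer_centralizer V).trans (normalizer_le_normalizer_perf _)
  have hCN : centralizer (V : Set G) ≤ normalizer (V : Set G) := centralizer_le_normalizer _
  set O₀ : Subgroup G := L ⊓ O with hO₀
  have hO₀odd : Odd (Nat.card O₀) := hOodd.of_dvd_nat (Subgroup.card_dvd_of_le inf_le_right)
  have hNO₀ : normalizer (V : Set G) ≤ normalizer (O₀ : Set G) := by
    intro g hg
    rw [mem_normalizer_iff]
    intro x
    have e1 := mem_normalizer_iff.1 (hNL hg) x
    have e2 := mem_normalizer_iff.1 (hON hg) x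
    rw [hO₀, mem_inf, mem_inf, ← e1, ← e2]
  -- the elements of `L` are products of elements centralizing `V₁` and elements of `O₀`
  have hfix : ∀ l ∈ L, ∃ c ∈ L ⊓ centralizer (V₁ : Set G), ∃ o ∈ O₀, l = c * o := by
    intro l hl
    obtain ⟨c, hc, hlc⟩ := Cfsg.Agent.Lib.CoprimeCommutator.exists_fixed_in_coset 2 V₁ O₀ hV₁2
      (hV₁N.trans hNO₀) (by
        intro h2
        exact (Nat.not_even_iff_odd.2 hO₀odd) (even_iff_two_dvd.2 h2)) l (by
        intro a ha
        have h1 := hO a (hV₁ a ha) (hV₁N ha) l hl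
        have h2 : a * l * a⁻¹ ∈ L := (mem_normalizer_iff.1 (hNL (hV₁N ha)) l).1 hl
        have h3 : l⁻¹ * (a * l * a⁻¹) = l⁻¹ * (a * l * a⁻¹ * l⁻¹) * l⁻¹⁻¹ := by group
        refine mem_inf.2 ⟨mul_mem (inv_mem hl) h2, ?_⟩
        rw [h3]
        exact (mem_normalizer_iff.1 (hON (hCN (hLC (inv_mem hl)))) _).1 h1)
    have hcL : c ∈ L := by
      have : c = l * (l⁻¹ * c) := by group
      rw [this]
      exact mul_mem hl hlc.1
    refine ⟨c, ⟨hcL, hc⟩, (l⁻¹ * c)⁻¹, inv_mem hlc, by group⟩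
  set C₁ : Subgroup G := L ⊓ centralizer (V₁ : Set G) with hC₁
  -- `L = perf C₁ * O₀`
  have hLeq : L ≤ perf C₁ ⊔ O₀ := by
    set H : Subgroup L := C₁.subgroupOf L with hH
    set K : Subgroup L := O₀.subgroupOf L with hK
    haveI hKn : K.Normal := by
      refine ⟨fun x hx g => ?_⟩
      exact (mem_normalizer_iff.1 (hNO₀ (hCN (hLC g.2))) x).1 hx
    have hHK : H ⊔ K = ⊤ := by
      rw [eq_top_iff]
      rintro ⟨l, hl⟩ -
      obtain ⟨c, hc, o, ho, rfl⟩ := hfix l hl
      have h1 : (⟨c * o, hl⟩ : L) = ⟨c, hc.1⟩ * ⟨o, ho.1⟩ := rfl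
      rw [h1]
      exact mul_mem (mem_sup_left hc) (mem_sup_right ho)
    set f : L →* L ⧸ K := QuotientGroup.mk' K with hf
    have hker : f.ker = K := QuotientGroup.ker_mk' K
    have htop : (⊤ : Subgroup L).map f = H.map f := by
      rw [← hHK, Subgroup.map_sup]
      have h1 : K.map f = ⊥ := by
        rw [Subgroup.map_eq_bot_iff, hker]
      rw [h1, sup_bot_eq]
    have hLperf : ⁅(⊤ : Subgroup L), (⊤ : Subgroup L)⁆ = (⊤ : Subgroup L) := by
      apply (Subgroup.map_injective L.subtype_injective)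
      rw [map_commutator, ← MonoidHom.range_eq_map, Subgroup.range_subtype]
      exact perf_perfect _
    have h2 : (perf H).map f = (⊤ : Subgroup L).map f := by
      rw [map_perf, ← htop, ← map_perf, perf_eq_self hLperf]
    have h3 : perf H ⊔ K = ⊤ := by
      have h4 : (⊤ : Subgroup L) ≤ ((perf H).map f).comap f := by
        rw [h2]; exact le_comap_map f (⊤ : Subgroup L)
      rw [comap_map_eq, hker] at h4
      exact top_le_iff.1 h4
    have h5 : (perf H).map L.subtype = perf C₁ := by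
      rw [map_perf, hH, map_subgroupOf_eq_of_le inf_le_left]
    have h6 : K.map L.subtype = O₀ := by
      rw [hK, map_subgroupOf_eq_of_le inf_le_left]
    have h7 : (⊤ : Subgroup L).map L.subtype = L := by
      rw [← MonoidHom.range_eq_map, Subgroup.range_subtype]
    rw [← h5, ← h6, ← Subgroup.map_sup, h3, h7]
  have hle1 : perf C₁ ≤ perf (centralizer (V₁ : Set G)) := perf_mono inf_le_right
  have hle2 : perf (centralizer (V₁ : Set G)) ≤ L := perf_mono hCC
  have hO₀L : O₀ ≤ L := inf_le_left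
  -- the index divides `|O₀|`
  have h1 : (perf (centralizer (V₁ : Set G))).relIndex L ∣ (perf C₁).relIndex L :=
    relIndex_dvd_of_le_left L hle1
  have hLeq' : L = perf C₁ ⊔ O₀ := le_antisymm hLeq (sup_le (hle1.trans hle2) hO₀L)
  have hn : perf C₁ ≤ normalizer (O₀ : Set G) := (hle1.trans hle2).trans (hLC.trans (hCN.trans hNO₀))
  have h2 : (perf C₁).relIndex L ∣ Nat.card O₀ := by
    set H : Subgroup L := (perf C₁).subgroupOf L with hH
    set K : Subgroup L := O₀.subgroupOf L with hK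
    haveI hKn : K.Normal := by
      refine ⟨fun x hx g => ?_⟩
      exact (mem_normalizer_iff.1 (hNO₀ (hCN (hLC g.2))) x).1 hx
    have hKc : Nat.card K = Nat.card O₀ := Nat.card_congr (subgroupOfEquivOfLe hO₀L).toEquiv
    have hHK : H ⊔ K = ⊤ := by
      have h3 : (H ⊔ K).map L.subtype = L := by
        rw [Subgroup.map_sup, hH, hK, map_subgroupOf_eq_of_le inf_le_left,
          map_subgroupOf_eq_of_le (hle1.trans hle2), ← hLeq']
      apply (Subgroup.map_injective L.subtype_injective)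
      rw [h3, ← MonoidHom.range_eq_map, Subgroup.range_subtype]
    change H.index ∣ Nat.card O₀
    rw [← hKc]
    exact index_dvd_card_of_sup_eq_top H K hKn hHK
  exact hO₀odd.of_dvd_nat (h1.trans h2)

/-- Lemma B: the index of the perfect core of `C_G(T)` in that of `C_G(V)` is odd, for `V ≤ T` as in
Lemma A and `T` a 2-subgroup consisting of members of the family. -/
theorem odd_relIndex_perf (h : IsClosedFam 𝒜) {T : Subgroup G} (hT2 : IsPGroup 2 T)
    (hT : ∀ v ∈ T, v ∈ 𝒜) : ∀ (n : ℕ) (V : Subgroup G), Nat.card T ≤ Nat.card V + n → V ≤ T →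
    (∀ t ∈ 𝒜, t ∈ centralizer (V : Set G) → t ∈ V) →
    Odd ((perf (centralizer (T : Set G))).relIndex (perf (centralizer (V : Set G)))) := by
  haveI : Fact (Nat.Prime 2) := ⟨Nat.prime_two⟩
  intro n
  induction n with
  | zero =>
    intro V hn hVT _
    have : V = T := Subgroup.eq_of_le_of_card_ge hVT (by simpa using hn)
    subst this
    rw [relIndex_self]
    exact odd_one
  | succ n ih =>
    intro V hn hVT hVc
    by_cases hVT' : V = T
    · subst hVT'
      rw [relIndex_self]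
      exact odd_one
    · have hlt : V < T := lt_of_le_of_ne hVT hVT'
      have h1 := lt_inf_normalizer hT2 hlt
      set V₁ : Subgroup G := T ⊓ normalizer (V : Set G) with hV₁
      have hcard : Nat.card V < Nat.card V₁ := Set.Finite.card_lt_card (Set.toFinite _) h1
      have hV₁c : ∀ t ∈ 𝒜, t ∈ centralizer (V₁ : Set G) → t ∈ V₁ := by
        intro t ht htc
        exact h1.le (hVc t ht (centralizer_le (by exact_mod_cast h1.le) htc))
      have h2 := ih V₁ (by omega) inf_le_left hV₁c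
      have h3 := odd_relIndex_step h (hT2.to_le hVT) (hT2.to_le inf_le_left) h1.le inf_le_right
        (fun v hv => hT v hv.1) hVc
      have hle1 : perf (centralizer (T : Set G)) ≤ perf (centralizer (V₁ : Set G)) :=
        perf_mono (centralizer_le (by exact_mod_cast (inf_le_left : V₁ ≤ T)))
      have hle2 : perf (centralizer (V₁ : Set G)) ≤ perf (centralizer (V : Set G)) :=
        perf_mono (centralizer_le (by exact_mod_cast h1.le))
      rw [← relIndex_mul_relIndex _ _ _ hle1 hle2]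
      exact h2.mul h3

/-- Lemma C: the intersection of a closed family with a radical 2-subgroup `X` is centric. -/
theorem mem_fam_of_radical (h : IsClosedFam 𝒜) {X : Subgroup G} (hX2 : IsPGroup 2 X)
    (hX : RadicalFusion.IsRadical 2 X) :
    ∀ t ∈ 𝒜, t ∈ centralizer (fam 𝒜 X : Set G) → t ∈ fam 𝒜 X := by
  classical
  haveI : Fact (Nat.Prime 2) := ⟨Nat.prime_two⟩
  set V : Subgroup G := fam 𝒜 X with hV
  have hVX : V ≤ X := fam_le _ _
  have hV2 : IsPGroup 2 V := hX2.to_le hVX
  have hXV : X ≤ normalizer (V : Set G) := h.le_normalizer_fam X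
  have hNV : normalizer (X : Set G) ≤ normalizer (V : Set G) := h.normalizer_le_normalizer_fam X
  set C : Subgroup G := centralizer (V : Set G) with hC
  have hXC : X ≤ normalizer (C : Set G) := hXV.trans (normalizer_le_normalizer_centralizer V)
  -- a Sylow subgroup of `X C` containing `X`
  obtain ⟨P₂, hXP₂, hP₂le, hP₂, hP₂i⟩ := exists_sylow_in (p := 2) (N := X ⊔ C) (D := X) le_sup_left hX2
  set P₁ : Subgroup G := P₂ ⊓ C with hP₁
  have hP₁2 : IsPGroup 2 P₁ := hP₂.to_le inf_le_left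
  have hXP₁ : X ≤ normalizer (P₁ : Set G) := by
    intro x hx
    rw [mem_normalizer_iff]
    intro y
    have e1 := mem_normalizer_iff.1 (hXC hx) y
    have e2 : y ∈ P₂ ↔ x * y * x⁻¹ ∈ P₂ :=
      mem_normalizer_iff.1 (le_normalizer (hXP₂ hx)) y
    rw [hP₁, mem_inf, mem_inf, ← e1, ← e2]
  set W : Subgroup G := fam 𝒜 P₁ with hW
  have hXW : X ≤ normalizer (W : Set G) := hXP₁.trans (h.normalizer_le_normalizer_fam P₁)
  -- the stability group
  let D : Subgroup G :=
    { carrier := {n | n ∈ normalizer (X : Set G) ∧ n ∈ C ∧ ∀ x ∈ X, n * x * n⁻¹ * x⁻¹ ∈ V}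
      one_mem' := ⟨one_mem _, one_mem _, fun x _ => by simp [V.one_mem]⟩
      mul_mem' := by
        rintro m n ⟨hm1, hm2, hm3⟩ ⟨hn1, hn2, hn3⟩
        refine ⟨mul_mem hm1 hn1, mul_mem hm2 hn2, fun x hx => ?_⟩
        have h1 : n * x * n⁻¹ ∈ X := (mem_normalizer_iff.1 hn1 x).1 hx
        have h2 := hm3 _ h1
        have h3 := hn3 x hx
        have e : m * n * x * (m * n)⁻¹ * x⁻¹ =
            (m * (n * x * n⁻¹) * m⁻¹ * (n * x * n⁻¹)⁻¹) * (n * x * n⁻¹ * x⁻¹) := by group
        rw [e]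
        exact mul_mem h2 h3
      inv_mem' := by
        rintro n ⟨hn1, hn2, hn3⟩
        refine ⟨inv_mem hn1, inv_mem hn2, fun x hx => ?_⟩
        have h1 : n⁻¹ * x * n ∈ X := by
          have := (mem_normalizer_iff.1 (inv_mem hn1) x).1 hx
          simpa using this
        have h2 := hn3 _ h1
        have h3 : n⁻¹ * x * n⁻¹⁻¹ * x⁻¹ = (n * (n⁻¹ * x * n) * n⁻¹ * (n⁻¹ * x * n)⁻¹)⁻¹ := by group
        rw [h3]
        exact inv_mem h2 }
  have hDX : ∀ Q : Subgroup G, IsPGroup 2 Q → Q ≤ D → Q ≤ X := by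
    refine hX D (fun n hn => hn.1) ?_ ?_ ?_
    · -- `D` is normalised by `N_G(X)`
      have key : ∀ g ∈ normalizer (X : Set G), ∀ n ∈ D, g * n * g⁻¹ ∈ D := by
        rintro g hg n ⟨hn1, hn2, hn3⟩
        refine ⟨mul_mem (mul_mem hg hn1) (inv_mem hg), ?_, fun x hx => ?_⟩
        · exact (mem_normalizer_iff.1 (normalizer_le_normalizer_centralizer V (hNV hg)) n).1 hn2
        · have h1 : g⁻¹ * x * g ∈ X := by
            have := (mem_normalizer_iff.1 (inv_mem hg) x).1 hx
            simpa using this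
          have h2 := hn3 _ h1
          have h3 := (mem_normalizer_iff.1 (hNV hg) _).1 h2
          have e : g * n * g⁻¹ * x * (g * n * g⁻¹)⁻¹ * x⁻¹ =
              g * (n * (g⁻¹ * x * g) * n⁻¹ * (g⁻¹ * x * g)⁻¹) * g⁻¹ := by group
          rw [e]
          exact h3
      intro g hg
      rw [mem_normalizer_iff]
      intro n
      refine ⟨fun hn => key g hg n hn, fun hn => ?_⟩
      have h1 := key g⁻¹ (inv_mem hg) _ hn
      have e : g⁻¹ * (g * n * g⁻¹) * g⁻¹⁻¹ = n := by group
      rwa [e] at h1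
    · intro c hc
      refine ⟨centralizer_le_normalizer _ hc, centralizer_le (by exact_mod_cast hVX) hc, fun x hx => ?_⟩
      have h1 : c * x * c⁻¹ = x := conj_eq_of_mem_centralizer hc hx
      rw [h1, mul_inv_cancel]
      exact V.one_mem
    · -- `D / C_G(X)` is a 2-group
      rintro d ⟨hd1, hd2, hd3⟩
      have hpow : ∀ m : ℕ, ∀ x ∈ X, d ^ m * x * (d ^ m)⁻¹ = (d * x * d⁻¹ * x⁻¹) ^ m * x := by
        intro m
        induction m with
        | zero => intro x hx; simp
        | succ m ihm =>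
          intro x hx
          have h1 := ihm x hx
          have h2 : Commute d (d * x * d⁻¹ * x⁻¹) := by
            have h3 := mem_centralizer_iff.1 hd2 _ (hd3 x hx)
            exact h3.symm
          have e : d ^ (m + 1) * x * (d ^ (m + 1))⁻¹ = d * (d ^ m * x * (d ^ m)⁻¹) * d⁻¹ := by
            rw [pow_succ']; group
          rw [e, h1]
          have h4 : d * ((d * x * d⁻¹ * x⁻¹) ^ m * x) * d⁻¹ = (d * x * d⁻¹ * x⁻¹) ^ m * (d * x * d⁻¹) := by
            have h5 : d * (d * x * d⁻¹ * x⁻¹) ^ m = (d * x * d⁻¹ * x⁻¹) ^ m * d := (h2.pow_right m).eq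
            calc d * ((d * x * d⁻¹ * x⁻¹) ^ m * x) * d⁻¹
                = (d * (d * x * d⁻¹ * x⁻¹) ^ m) * x * d⁻¹ := by group
              _ = (d * x * d⁻¹ * x⁻¹) ^ m * d * x * d⁻¹ := by rw [h5]
              _ = _ := by group
          rw [h4, pow_succ]
          group
      obtain ⟨k, hk⟩ := IsPGroup.iff_card.1 hV2
      refine ⟨k, ?_⟩
      rw [← hk, mem_centralizer_iff]
      intro x hx
      have h1 := hpow (Nat.card V) x hx
      have h2 : (d * x * d⁻¹ * x⁻¹) ^ Nat.card V = 1 := by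
        have h3 : (⟨_, hd3 x hx⟩ : V) ^ Nat.card V = 1 := pow_card_eq_one'
        exact congrArg Subtype.val h3
      rw [h2, one_mul] at h1
      exact (mul_inv_eq_iff_eq_mul.1 h1).symm
  -- `W ≤ X`
  have hWX : W ≤ X := by
    by_contra hWX
    have hlt : X < X ⊔ W := left_lt_sup.2 hWX
    have hWP₂ : W ≤ P₂ := (fam_le _ _).trans inf_le_left
    have hXW2 : IsPGroup 2 (X ⊔ W : Subgroup G) := hP₂.to_le (sup_le hXP₂ hWP₂)
    have h1 := lt_inf_normalizer hXW2 hlt
    obtain ⟨x, hx, hxX⟩ := SetLike.exists_of_lt h1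
    obtain ⟨hx1, hx2⟩ := mem_inf.1 hx
    rw [← SetLike.mem_coe, coe_mul_of_left_le_normalizer_right _ _ hXW] at hx1
    obtain ⟨y, hy, w, hw, rfl⟩ := Set.mem_mul.1 hx1
    have hwN : w ∈ normalizer (X : Set G) := by
      have : w = y⁻¹ * (y * w) := by group
      rw [this]
      exact mul_mem (inv_mem (le_normalizer hy)) hx2
    have hwX : w ∉ X := fun hwX => hxX (mul_mem hy hwX)
    apply hwX
    have hwA : w ∈ 𝒜 := ((h.mem_fam_iff hP₁2).1 hw).1
    have hwC : w ∈ C := (((h.mem_fam_iff hP₁2).1 hw).2).2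
    have hwD : w ∈ D := by
      refine ⟨hwN, hwC, fun z hz => ?_⟩
      have h3 : w * z * w⁻¹ * z⁻¹ ∈ X := mul_mem ((mem_normalizer_iff.1 hwN z).1 hz) (inv_mem hz)
      have h4 : w * z * w⁻¹ * z⁻¹ ∈ W := by
        have h5 : z * w⁻¹ * z⁻¹ ∈ W := (mem_normalizer_iff.1 (hXW hz) _).1 (inv_mem hw)
        have e : w * z * w⁻¹ * z⁻¹ = w * (z * w⁻¹ * z⁻¹) := by group
        rw [e]
        exact mul_mem hw h5
      exact mem_fam ((h.mem_fam_iff hP₁2).1 h4).1 h3
    exact hDX (zpowers w) (h.isPGroup_zpowers hwA) (zpowers_le.2 hwD) (mem_zpowers w)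
  -- conclusion: `P₁` is Sylow in `C`
  intro t ht htC
  have hP₁i : ¬ 2 ∣ P₁.relIndex C := by
    have hn : X ⊔ C ≤ normalizer (C : Set G) := sup_le hXC le_normalizer
    have hnorm : (C.subgroupOf (X ⊔ C)).Normal := by
      rwa [normal_subgroupOf_iff_le_normalizer le_sup_right]
    have h1 : P₂.relIndex C ∣ P₂.relIndex (X ⊔ C) := by
      have e1 : P₂.relIndex C = (P₂.subgroupOf (X ⊔ C)).relIndex (C.subgroupOf (X ⊔ C)) := by
        rw [relIndex_subgroupOf le_sup_right]
      rw [e1]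
      exact relIndex_dvd_index_of_normal_right _ _
    intro h2
    rw [hP₁, inf_relIndex_right] at h2
    exact hP₂i (h2.trans h1)
  obtain ⟨c, hc, hcle⟩ := exists_conj_le_in (p := 2) hP₁2 hP₁i (zpowers_le.2 htC) (h.isPGroup_zpowers ht)
  have h1 : c * t * c⁻¹ ∈ P₁ := hcle ⟨t, mem_zpowers t, rfl⟩
  have h2 : c * t * c⁻¹ ∈ X := hWX (mem_fam (h.conj_mem t ht c) h1)
  have h3 : c * t * c⁻¹ ∈ V := mem_fam (h.conj_mem t ht c) h2
  have h4 : c⁻¹ * (c * t * c⁻¹) * c⁻¹⁻¹ = c * t * c⁻¹ := conj_eq_of_mem_centralizer (inv_mem hc) h3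
  have h5 : t = c * t * c⁻¹ := by
    rw [← h4]; group
  rw [h5]
  exact h3

/-- **Theorem** (Part I of the proof of S1173).  Let `T = 𝒜 ∩ S` be strongly closed in the Sylow 2-subgroup
`S`, and `L` the perfect core of `C_G(T)`.  Then `S ∩ L` is strongly closed in `S`. -/
theorem mem_of_perf_centralizer (h : IsClosedFam 𝒜) (S : Sylow 2 G) :
    ∀ x ∈ (S : Subgroup G) ⊓ perf (centralizer (fam 𝒜 (S : Subgroup G) : Set G)), ∀ g : G,
      g * x * g⁻¹ ∈ (S : Subgroup G) →
      g * x * g⁻¹ ∈ (S : Subgroup G) ⊓ perf (centralizer (fam 𝒜 (S : Subgroup G) : Set G)) := by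
  haveI : Fact (Nat.Prime 2) := ⟨Nat.prime_two⟩
  set T : Subgroup G := fam 𝒜 (S : Subgroup G) with hT
  set L : Subgroup G := perf (centralizer (T : Set G)) with hL
  set R : Subgroup G := (S : Subgroup G) ⊓ L with hR
  have hTS : T ≤ S := fam_le _ _
  have hT2 : IsPGroup 2 T := S.2.to_le hTS
  have hSN : (S : Subgroup G) ≤ normalizer (T : Set G) := h.le_normalizer_fam _
  have hLn : normalizer (T : Set G) ≤ normalizer (L : Set G) :=
    (normalizer_le_normalizer_centralizer T).trans (normalizer_le_normalizer_perf _)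
  refine RadicalFusion.mem_of_radical S R inf_le_left ?_
  intro X hXS hX g hg x hx hxR
  have hX2 : IsPGroup 2 X := S.2.to_le hXS
  set V : Subgroup G := fam 𝒜 X with hV
  have hVT : V ≤ T := fam_mono 𝒜 hXS
  have hVc := mem_fam_of_radical h hX2 hX
  have hodd := odd_relIndex_perf h hT2 (fun v hv => ((h.mem_fam_iff S.2).1 hv).1) (Nat.card T) V
    (by omega) hVT hVc
  set L₀ : Subgroup G := perf (centralizer (V : Set G)) with hL₀
  have hLL₀ : L ≤ L₀ := perf_mono (centralizer_le (by exact_mod_cast hVT))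
  -- `R` is a Sylow 2-subgroup of `L₀`
  have hRL : ¬ 2 ∣ R.relIndex L := by
    have h1 : R.relIndex L = (S : Subgroup G).relIndex L := by rw [hR, inf_relIndex_right]
    rw [h1]
    have h2 : ¬ 2 ∣ ((S : Subgroup G) ⊓ normalizer (T : Set G)).relIndex (normalizer (T : Set G)) := by
      rw [inf_eq_left.2 hSN]
      intro h3
      exact S.not_dvd_index (h3.trans (relIndex_dvd_index_of_le hSN))
    have h3 := RadicalFusion.not_dvd_relIndex_of_normal S (N := normalizer (T : Set G)) (D := L)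
      ((perf_le _).trans (centralizer_le_normalizer _)) hLn h2
    rwa [inf_relIndex_right] at h3
  have hRL₀ : ¬ 2 ∣ R.relIndex L₀ := by
    rw [← relIndex_mul_relIndex _ _ _ (inf_le_right : R ≤ L) hLL₀, Nat.prime_two.dvd_mul]
    rintro (h1 | h1)
    · exact hRL h1
    · exact (Nat.not_even_iff_odd.2 hodd) (even_iff_two_dvd.2 h1)
  have hSL₀ : (S : Subgroup G) ⊓ L₀ ≤ R := by
    have h1 : R ≤ (S : Subgroup G) ⊓ L₀ := inf_le_inf_left _ hLL₀
    have h2 : IsPGroup 2 ((S : Subgroup G) ⊓ L₀ : Subgroup G) := S.2.to_le inf_le_left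
    have h3 : R.relIndex ((S : Subgroup G) ⊓ L₀) ∣ R.relIndex L₀ := by
      rw [← relIndex_mul_relIndex _ _ _ h1 inf_le_right]
      exact Dvd.intro _ rfl
    obtain ⟨k, hk⟩ := IsPGroup.iff_card.1 h2
    have h4 : R.relIndex ((S : Subgroup G) ⊓ L₀) ∣ 2 ^ k := by
      rw [← hk]; exact relIndex_dvd_card _ _
    obtain ⟨m, -, hm⟩ := (Nat.dvd_prime_pow Nat.prime_two).1 h4
    rcases m with _ | m
    · exact relIndex_eq_one.1 (by rw [hm, pow_zero])
    · exact absurd ((Dvd.intro_left _ (by rw [hm, pow_succ])).trans h3) hRL₀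
  have hNL₀ : normalizer (X : Set G) ≤ normalizer (L₀ : Set G) :=
    ((h.normalizer_le_normalizer_fam X).trans (normalizer_le_normalizer_centralizer V)).trans
      (normalizer_le_normalizer_perf _)
  have h1 : g * x * g⁻¹ ∈ X := (mem_normalizer_iff.1 hg x).1 hx
  have h2 : g * x * g⁻¹ ∈ L₀ := (mem_normalizer_iff.1 (hNL₀ hg) x).1 (hLL₀ hxR.2)
  exact hSL₀ ⟨hXS h1, h2⟩

end Cfsg.Agent.TwoFusion.CoreStrongMain
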