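import Mathlib
import Cfsg.Agent.TwoFusion.CoreStrongMain

/-!
# Closed families: utilities for the normality of the perfect core of `C_G(T)`
-/

set_option autoImplicit false
set_option linter.style.haveILetI false

namespace Cfsg.Agent.TwoFusion.CoreReduction

open Subgroup
open Cfsg.Agent.TwoFusion.ClosedFam
open Cfsg.Agent.TwoFusion.PerfCore
open Cfsg.Agent.TwoFusion.CoreStrong
open Cfsg.Agent.TwoFusion.CoreStrongMain
open Cfsg.Agent.Lib.GoldschmidtFusion

universe u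

section Basic

variable {G : Type*} [Group G] {𝒜 ℬ : Set G}

theorem inter_isClosedFam (h1 : IsClosedFam 𝒜) (h2 : IsClosedFam ℬ) : IsClosedFam (𝒜 ∩ ℬ) where
  one_mem := ⟨h1.one_mem, h2.one_mem⟩
  conj_mem x hx g := ⟨h1.conj_mem x hx.1 g, h2.conj_mem x hx.2 g⟩
  two x hx := h1.two x hx.1
  mul_mem Q hQ x hx y hy hxA hyA :=
    ⟨h1.mul_mem Q hQ x hx y hy hxA.1 hyA.1, h2.mul_mem Q hQ x hx y hy hxA.2 hyA.2⟩

theorem inter_normal (h : IsClosedFam 𝒜) (N : Subgroup G) (hN : N.Normal) :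
    IsClosedFam (𝒜 ∩ (N : Set G)) where
  one_mem := ⟨h.one_mem, N.one_mem⟩
  conj_mem x hx g := ⟨h.conj_mem x hx.1 g, hN.conj_mem x hx.2 g⟩
  two x hx := h.two x hx.1
  mul_mem Q hQ x hx y hy hxA hyA :=
    ⟨h.mul_mem Q hQ x hx y hy hxA.1 hyA.1, N.mul_mem hxA.2 hyA.2⟩

theorem fam_inter (h1 : IsClosedFam 𝒜) (h2 : IsClosedFam ℬ) {Q : Subgroup G} (hQ : IsPGroup 2 Q) :
    fam (𝒜 ∩ ℬ) Q = fam 𝒜 Q ⊓ fam ℬ Q := by
  ext x
  rw [(inter_isClosedFam h1 h2).mem_fam_iff hQ, mem_inf, h1.mem_fam_iff hQ, h2.mem_fam_iff hQ]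
  constructor
  · rintro ⟨⟨a, b⟩, c⟩; exact ⟨⟨a, c⟩, ⟨b, c⟩⟩
  · rintro ⟨⟨a, c⟩, ⟨b, _⟩⟩; exact ⟨⟨a, b⟩, c⟩

theorem fam_inter_normal (h : IsClosedFam 𝒜) (N : Subgroup G) (hN : N.Normal) {Q : Subgroup G}
    (hQ : IsPGroup 2 Q) : fam (𝒜 ∩ (N : Set G)) Q = fam 𝒜 Q ⊓ N := by
  ext x
  rw [(inter_normal h N hN).mem_fam_iff hQ, mem_inf, h.mem_fam_iff hQ]
  constructor
  · rintro ⟨⟨a, b⟩, c⟩; exact ⟨⟨a, c⟩, b⟩
  · rintro ⟨⟨a, c⟩, b⟩; exact ⟨⟨a, b⟩, c⟩

end Basic

section Finite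

variable {G : Type u} [Group G] [Finite G] {𝒜 : Set G}

/-- The image of `𝒜 ∩ S` is the intersection of the image of `𝒜` with the image of `S`. -/
theorem map_fam_sylow {K : Type*} [Group K] (h : IsClosedFam 𝒜) (S : Sylow 2 G) {f : G →* K}
    (hf : Function.Surjective f) : fam (f '' 𝒜) ((S : Subgroup G).map f) = (fam 𝒜 (S : Subgroup G)).map f := by
  haveI : Fact (Nat.Prime 2) := ⟨Nat.prime_two⟩
  ext y
  rw [(h.image hf).mem_fam_iff (S.2.map f)]
  constructor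
  · rintro ⟨⟨a, ha, rfl⟩, ⟨s, hs, hsa⟩⟩
    have hi : ¬ 2 ∣ (S : Subgroup G).relIndex ((S : Subgroup G) ⊔ f.ker) := by
      intro h2
      exact S.not_dvd_index (h2.trans (relIndex_dvd_index_of_le le_sup_left))
    have haH : zpowers a ≤ (S : Subgroup G) ⊔ f.ker := by
      rw [zpowers_le]
      have h1 : a = s * (s⁻¹ * a) := by group
      rw [h1]
      refine mul_mem (mem_sup_left hs) (mem_sup_right ?_)
      rw [MonoidHom.mem_ker, map_mul, map_inv, hsa]; group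
    obtain ⟨n, hn, hnle⟩ := exists_conj_le_in (p := 2) S.2 hi haH (h.isPGroup_zpowers ha)
    have h1 : n * a * n⁻¹ ∈ (S : Subgroup G) := hnle ⟨a, mem_zpowers a, rfl⟩
    rw [← SetLike.mem_coe, Subgroup.mul_normal] at hn
    obtain ⟨s', hs', k, hk, rfl⟩ := Set.mem_mul.1 hn
    have h2 : k * a * k⁻¹ ∈ (S : Subgroup G) := by
      have e : k * a * k⁻¹ = s'⁻¹ * (s' * k * a * (s' * k)⁻¹) * s' := by group
      rw [e]
      exact mul_mem (mul_mem (inv_mem hs') h1) hs'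
    refine ⟨k * a * k⁻¹, mem_fam (h.conj_mem a ha k) h2, ?_⟩
    have hk1 : f k = 1 := hk
    rw [map_mul, map_mul, map_inv, hk1]; simp
  · rintro ⟨x, hx, rfl⟩
    have hx' := (h.mem_fam_iff S.2).1 hx
    exact ⟨⟨x, hx'.1, rfl⟩, ⟨x, hx'.2, rfl⟩⟩

theorem not_dvd_relIndex_inf (S : Sylow 2 G) (K : Subgroup G) (hK : K.Normal) :
    ¬ 2 ∣ ((S : Subgroup G) ⊓ K).relIndex K := by
  haveI : Fact (Nat.Prime 2) := ⟨Nat.prime_two⟩
  refine RadicalFusion.not_dvd_relIndex_of_normal S (N := ⊤) le_top ?_ ?_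
  · rw [Subgroup.normalizer_eq_top]
  · rw [inf_top_eq, relIndex_top_right]
    exact S.not_dvd_index

/-- A member of the family in a normal subgroup `K` is conjugate in `K` into `S`. -/
theorem exists_conj_mem_fam (h : IsClosedFam 𝒜) (S : Sylow 2 G) (K : Subgroup G) (hK : K.Normal) {a : G}
    (ha : a ∈ 𝒜) (haK : a ∈ K) : ∃ k ∈ K, k * a * k⁻¹ ∈ fam 𝒜 (S : Subgroup G) := by
  haveI : Fact (Nat.Prime 2) := ⟨Nat.prime_two⟩
  obtain ⟨k, hk, hle⟩ := exists_conj_le_in (p := 2) (S.2.to_le inf_le_left) (not_dvd_relIndex_inf S K hK)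
    (zpowers_le.2 haK) (h.isPGroup_zpowers ha)
  have h1 : k * a * k⁻¹ ∈ (S : Subgroup G) ⊓ K := hle ⟨a, mem_zpowers a, rfl⟩
  exact ⟨k, hk, mem_fam (h.conj_mem a ha k) h1.1⟩

/-- Frattini argument. -/
theorem exists_mul_mem_normalizer (h : IsClosedFam 𝒜) (S : Sylow 2 G) (K : Subgroup G) (hK : K.Normal)
    (hT : fam 𝒜 (S : Subgroup G) ≤ K) (g : G) :
    ∃ k ∈ K, k * g ∈ normalizer (fam 𝒜 (S : Subgroup G) : Set G) := by
  haveI : Fact (Nat.Prime 2) := ⟨Nat.prime_two⟩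
  have hD : ((S : Subgroup G) ⊓ K).map (MulAut.conj g).toMonoidHom ≤ K := by
    rintro _ ⟨x, hx, rfl⟩
    exact hK.conj_mem x hx.2 g
  have hP : IsPGroup 2 ((S : Subgroup G) ⊓ K : Subgroup G) := S.2.to_le inf_le_left
  obtain ⟨k, hk, hle⟩ := exists_conj_le_in (p := 2) hP (not_dvd_relIndex_inf S K hK) hD (hP.map _)
  refine ⟨k, hk, ?_⟩
  rw [mem_normalizer_iff_map_conj]
  apply map_conj_le_of_le_normalizer
  rintro _ ⟨t, ht, rfl⟩
  have ht' := (h.mem_fam_iff S.2).1 ht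
  have h1 : k * (g * t * g⁻¹) * k⁻¹ ∈ (S : Subgroup G) ⊓ K :=
    hle ⟨g * t * g⁻¹, ⟨t, ⟨ht'.2, hT ht⟩, rfl⟩, rfl⟩
  have e : k * (g * t * g⁻¹) * k⁻¹ = k * g * t * (k * g)⁻¹ := by group
  rw [e] at h1
  exact mem_fam (h.conj_mem t ht'.1 _) h1.1

theorem fam_top_le (h : IsClosedFam 𝒜) (S : Sylow 2 G) (N : Subgroup G) (hN : N.Normal)
    (hT : fam 𝒜 (S : Subgroup G) ≤ N) : fam 𝒜 ⊤ ≤ N := by
  rw [fam_le_iff]
  intro a ha _
  obtain ⟨k, -, hk⟩ := exists_conj_mem_fam h S ⊤ inferInstance ha (mem_top a)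
  have h1 := hN.conj_mem _ (hT hk) k⁻¹
  have e : k⁻¹ * (k * a * k⁻¹) * k⁻¹⁻¹ = a := by group
  rwa [e] at h1

/-- `S ∩ L` is a Sylow 2-subgroup of `L`, the perfect core of `C_G(T)`. -/
theorem not_dvd_relIndex_perf (h : IsClosedFam 𝒜) (S : Sylow 2 G) :
    ¬ 2 ∣ ((S : Subgroup G) ⊓ perf (centralizer (fam 𝒜 (S : Subgroup G) : Set G))).relIndex
      (perf (centralizer (fam 𝒜 (S : Subgroup G) : Set G))) := by
  haveI : Fact (Nat.Prime 2) := ⟨Nat.prime_two⟩
  set T : Subgroup G := fam 𝒜 (S : Subgroup G) with hT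
  have hSN : (S : Subgroup G) ≤ normalizer (T : Set G) := h.le_normalizer_fam _
  have h2 : ¬ 2 ∣ ((S : Subgroup G) ⊓ normalizer (T : Set G)).relIndex (normalizer (T : Set G)) := by
    rw [inf_eq_left.2 hSN]
    intro h3
    exact S.not_dvd_index (h3.trans (relIndex_dvd_index_of_le hSN))
  exact RadicalFusion.not_dvd_relIndex_of_normal S (N := normalizer (T : Set G))
    ((perf_le _).trans (centralizer_le_normalizer _))
    ((normalizer_le_normalizer_centralizer T).trans (normalizer_le_normalizer_perf _)) h2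

/-- A perfect group is generated by the conjugates of its Sylow 2-subgroup. -/
theorem le_normalClosure_of_perfect
    (hFT : ∀ (H : Type u) [Group H] [Finite H], Odd (Nat.card H) → Group.IsSolvable H) (L R : Subgroup G) (hL : ⁅L, L⁆ = L) (hRL : R ≤ L)
    (hR : ¬ 2 ∣ R.relIndex L) : L ≤ normalClosure (R : Set G) := by
  set M : Subgroup G := normalClosure (R : Set G) with hM
  haveI : M.Normal := normalClosure_normal
  set f : G →* G ⧸ M := QuotientGroup.mk' M with hf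
  have hker : f.ker = M := QuotientGroup.ker_mk' M
  have hodd : Odd (Nat.card (L.map f)) := by
    rw [← relIndex_ker, hker]
    have h1 : M.relIndex L ∣ R.relIndex L := relIndex_dvd_of_le_left L subset_normalClosure
    rw [← Nat.not_even_iff_odd, even_iff_two_dvd]
    exact fun h2 => hR (h2.trans h1)
  have h1 := le_ker_of_perfect hL f (hFT _ hodd)
  rwa [hker] at h1

theorem normalClosure_perfect {G : Type*} [Group G] (L : Subgroup G) (hL : ⁅L, L⁆ = L) :
    ⁅normalClosure (L : Set G), normalClosure (L : Set G)⁆ = normalClosure (L : Set G) := by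
  have hn : (perf (normalClosure (L : Set G))).Normal := perf_normal normalClosure_normal
  have h1 : normalClosure (L : Set G) ≤ perf (normalClosure (L : Set G)) :=
    normalClosure_le_normal (le_perf (le_normalClosure) hL)
  have h2 : perf (normalClosure (L : Set G)) = normalClosure (L : Set G) := le_antisymm (perf_le _) h1
  have h3 := perf_perfect (normalClosure (L : Set G))
  rwa [h2] at h3

/-- Centralizers of 2-subgroups modulo a normal subgroup of odd order. -/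
theorem centralizer_map_of_odd {K : Type*} [Group K] {f : G →* K} (hf : Function.Surjective f)
    (hodd : Odd (Nat.card f.ker)) (T : Subgroup G) (hT : IsPGroup 2 T) :
    centralizer (T.map f : Set K) = (centralizer (T : Set G)).map f := by
  haveI : Fact (Nat.Prime 2) := ⟨Nat.prime_two⟩
  apply le_antisymm
  · intro y hy
    obtain ⟨c, rfl⟩ := hf y
    obtain ⟨c', hc', hcc⟩ := Cfsg.Agent.Lib.CoprimeCommutator.exists_fixed_in_coset 2 T f.ker hT (by
        rw [Subgroup.normalizer_eq_top]; exact le_top)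
      (by
        intro h2
        exact (Nat.not_even_iff_odd.2 hodd) (even_iff_two_dvd.2 h2)) c (by
        intro a ha
        rw [MonoidHom.mem_ker, map_mul, map_mul, map_mul, map_inv, map_inv]
        have h1 := mem_centralizer_iff.1 hy (f a) ⟨a, ha, rfl⟩
        rw [h1]; group)
    refine ⟨c', hc', ?_⟩
    have h2 : f (c⁻¹ * c') = 1 := hcc
    rw [map_mul, map_inv, inv_mul_eq_one] at h2
    exact h2.symm
  · rintro _ ⟨c, hc, rfl⟩
    rw [mem_centralizer_iff]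
    rintro _ ⟨t, ht, rfl⟩
    rw [← map_mul, ← map_mul, mem_centralizer_iff.1 hc t ht]

/-- A nilpotent normal subgroup of a group without odd core lies in `O_2(G)`. -/
theorem le_pCore_two_of_nilpotent (hO : Cfsg.oddCore G = ⊥) (K : Subgroup G) (hK : K.Normal)
    (hnil : Group.IsNilpotent K) : K ≤ Cfsg.pCore 2 G := by
  refine (Cfsg.Agent.Lib.Cores.le_fittingSubgroup hK hnil).trans ?_
  rw [Cfsg.Agent.Lib.Cores.fittingSubgroup_eq_iSup_pCore, iSup_le_iff]
  rintro ⟨p, hp⟩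
  haveI : Fact p.Prime := ⟨hp⟩
  change Cfsg.pCore p G ≤ Cfsg.pCore 2 G
  by_cases h2 : p = 2
  · rw [h2]
  · obtain ⟨n, hn⟩ := IsPGroup.iff_card.mp (Cfsg.Agent.Lib.Cores.pCore_isPGroup (G := G) p)
    have h1 : (Nat.card (Cfsg.pCore p G)).Coprime 2 := by
      rw [hn]
      exact Nat.Coprime.pow_left n ((Nat.coprime_primes hp Nat.prime_two).mpr h2)
    have h3 := Cfsg.Agent.Lib.Cores.le_pPrimeCore (Cfsg.Agent.Lib.Cores.pCore_normal (G := G) p) h1
    change Cfsg.pCore p G ≤ Cfsg.oddCore G at h3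
    rw [hO] at h3
    exact h3.trans bot_le

/-- An abelian normal subgroup of a group without odd core is a 2-group. -/
theorem isPGroup_of_comm_normal (hO : Cfsg.oddCore G = ⊥) (N : Subgroup G) (hN : N.Normal)
    (hc : ∀ x ∈ N, ∀ y ∈ N, x * y = y * x) : IsPGroup 2 N := by
  have h0 : ⁅N, N⁆ = ⊥ := by
    rw [commutator_eq_bot_iff_le_centralizer]
    intro x hx
    rw [mem_centralizer_iff]
    exact fun y hy => hc y hy x hx
  have h1 : Group.IsNilpotent N :=
    isNilpotent_of_lowerCentralSeries_eq_bot (n := 1) (by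
      change ⁅N, N⁆ = ⊥; exact h0)
  exact (Cfsg.Agent.Lib.Cores.pCore_isPGroup (G := G) 2).to_le (le_pCore_two_of_nilpotent hO N hN h1)

end Finite

end Cfsg.Agent.TwoFusion.CoreReduction
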