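import Mathlib
import Cfsg.Agent.TwoFusion.CoreReduction

/-!
# Normality of the perfect core of `C_G(T)`: reduction steps
-/

set_option autoImplicit false
set_option linter.style.haveILetI false

namespace Cfsg.Agent.TwoFusion.CoreSteps

open Subgroup
open Cfsg.Agent.TwoFusion.ClosedFam
open Cfsg.Agent.TwoFusion.PerfCore
open Cfsg.Agent.TwoFusion.CoreStrong
open Cfsg.Agent.TwoFusion.CoreStrongMain
open Cfsg.Agent.TwoFusion.CoreReduction

universe u

/-- `L = ` the perfect core of `C_G(T)`, `T = 𝒜 ∩ S`. -/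
abbrev Lc {G : Type*} [Group G] (𝒜 : Set G) (S : Subgroup G) : Subgroup G :=
  perf (centralizer (fam 𝒜 S : Set G))

/-- The conclusion of the theorem, modulo the odd core. -/
def Concl {G : Type*} [Group G] (𝒜 : Set G) (S : Subgroup G) : Prop :=
  (Lc 𝒜 S ⊔ Cfsg.oddCore G).Normal

variable {G : Type u} [Group G] [Finite G] {𝒜 : Set G}

theorem Lc_perfect (𝒜 : Set G) (S : Subgroup G) : ⁅Lc 𝒜 S, Lc 𝒜 S⁆ = Lc 𝒜 S := perf_perfect _

theorem commute_Lc {S : Subgroup G} {l t : G} (hl : l ∈ Lc 𝒜 S) (ht : t ∈ fam 𝒜 S) : t * l = l * t :=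
  mem_centralizer_iff.1 (perf_le _ hl) t ht

/-- Reduction to a trivial odd core. -/
theorem concl_of_quotient_oddCore (h : IsClosedFam 𝒜) (S : Sylow 2 G)
    (hq : Concl (QuotientGroup.mk' (Cfsg.oddCore G) '' 𝒜)
      ((S : Subgroup G).map (QuotientGroup.mk' (Cfsg.oddCore G)))) : Concl 𝒜 (S : Subgroup G) := by
  classical
  set O : Subgroup G := Cfsg.oddCore G with hO
  set f : G →* G ⧸ O := QuotientGroup.mk' O with hf
  have hker : f.ker = O := QuotientGroup.ker_mk' O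
  have hsurj : Function.Surjective f := QuotientGroup.mk'_surjective O
  have hodd : Odd (Nat.card f.ker) := by
    rw [hker]
    exact Nat.coprime_two_right.1 (Cfsg.Agent.Lib.Cores.pPrimeCore_coprime 2)
  have hT2 : IsPGroup 2 (fam 𝒜 (S : Subgroup G)) := isPGroup_fam 𝒜 S.2
  unfold Concl Lc at hq ⊢
  rw [map_fam_sylow h S hsurj, centralizer_map_of_odd hsurj hodd _ hT2, ← map_perf,
    show Cfsg.oddCore (G ⧸ O) = ⊥ from Cfsg.Agent.Lib.Cores.pPrimeCore_quotient_pPrimeCore 2,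
    sup_bot_eq] at hq
  have h1 := hq.comap f
  rwa [comap_map_eq, hker] at h1

/-- Passing to the quotient by a central 2-subgroup `U` of a normal subgroup `J ≥ L`. -/
theorem normal_of_quotient (h : IsClosedFam 𝒜) (S : Sylow 2 G) (hO : Cfsg.oddCore G = ⊥)
    (U J : Subgroup G) (hU : U.Normal) (hU2 : IsPGroup 2 U) (hJ : J.Normal) (hUJ : U ≤ J)
    (hc : ∀ u ∈ U, ∀ j ∈ J, u * j = j * u) (hLJ : Lc 𝒜 (S : Subgroup G) ≤ J)
    (hind : Concl (QuotientGroup.mk' U '' 𝒜) ((S : Subgroup G).map (QuotientGroup.mk' U))) :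
    (Lc 𝒜 (S : Subgroup G)).Normal := by
  classical
  set f : G →* G ⧸ U := QuotientGroup.mk' U with hf
  have hker : f.ker = U := QuotientGroup.ker_mk' U
  have hsurj : Function.Surjective f := QuotientGroup.mk'_surjective U
  set T : Subgroup G := fam 𝒜 (S : Subgroup G) with hT
  set L : Subgroup G := Lc 𝒜 (S : Subgroup G) with hL
  set P' : Subgroup (G ⧸ U) := perf (centralizer (T.map f : Set (G ⧸ U))) with hP'
  set O' : Subgroup (G ⧸ U) := Cfsg.oddCore (G ⧸ U) with hO'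
  have hind' : (P' ⊔ O').Normal := by
    unfold Concl Lc at hind
    rwa [map_fam_sylow h S hsurj] at hind
  set Y : Subgroup G := (P' ⊔ O').comap f with hY
  have hYn : Y.Normal := hind'.comap f
  set X₀ : Subgroup G := O'.comap f with hX₀
  have hX₀n : X₀.Normal := (inferInstance : O'.Normal).comap f
  have hLY : L ≤ Y := by
    have h1 : L.map f ≤ P' := by
      refine le_perf ?_ (map_perfect (Lc_perfect 𝒜 S) f)
      rintro _ ⟨l, hl, rfl⟩
      rw [mem_centralizer_iff]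
      rintro _ ⟨t, ht, rfl⟩
      rw [← map_mul, ← map_mul, commute_Lc hl ht]
    exact (le_comap_map f L).trans (comap_mono (h1.trans le_sup_left))
  have hUX₀ : U ≤ X₀ := by
    rw [← hker]
    intro x hx
    rw [hX₀, mem_comap, (MonoidHom.mem_ker).1 hx]
    exact one_mem _
  have hXJ : X₀ ⊓ J ≤ U := by
    haveI : X₀.Normal := hX₀n
    haveI : J.Normal := hJ
    refine Cfsg.Agent.TwoFusion.ClosedZ.le_of_central_odd_index hO (X₀ ⊓ J) U inferInstance hU2
      (fun z hz c hc' => hc z hz c hc'.2) ?_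
    have h1 : U.relIndex X₀ = Nat.card O' := by
      have h2 := relIndex_ker f (K := X₀)
      rw [hker, hX₀, map_comap_eq_self_of_surjective hsurj] at h2
      exact h2
    have h3 : Odd (Nat.card O') := Nat.coprime_two_right.1 (Cfsg.Agent.Lib.Cores.pPrimeCore_coprime 2)
    have h4 : U.relIndex (X₀ ⊓ J) * (X₀ ⊓ J).relIndex X₀ = U.relIndex X₀ :=
      relIndex_mul_relIndex _ _ _ (le_inf hUX₀ hUJ) inf_le_left
    rw [h1] at h4
    exact h3.of_dvd_nat (Dvd.intro _ h4)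
  have hTY : ∀ t ∈ T, ∀ y ∈ Y, t * y * t⁻¹ * y⁻¹ ∈ X₀ := by
    intro t ht y hy
    have h1 : f y ∈ P' ⊔ O' := hy
    rw [← SetLike.mem_coe, Subgroup.mul_normal] at h1
    obtain ⟨p, hp, o, ho, hpo⟩ := Set.mem_mul.1 h1
    have h2 : f t * p = p * f t := mem_centralizer_iff.1 (perf_le _ hp) (f t) ⟨t, ht, rfl⟩
    change f (t * y * t⁻¹ * y⁻¹) ∈ O'
    rw [map_mul, map_mul, map_mul, map_inv, map_inv, ← hpo]
    have h3 : f t * (p * o) * (f t)⁻¹ * (p * o)⁻¹ = p * ((f t * o * (f t)⁻¹) * o⁻¹) * p⁻¹ := by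
      calc f t * (p * o) * (f t)⁻¹ * (p * o)⁻¹ = (f t * p) * o * (f t)⁻¹ * o⁻¹ * p⁻¹ := by group
        _ = (p * f t) * o * (f t)⁻¹ * o⁻¹ * p⁻¹ := by rw [h2]
        _ = _ := by group
    rw [h3]
    have hn : O'.Normal := inferInstance
    exact hn.conj_mem _ (mul_mem (hn.conj_mem o ho _) (inv_mem ho)) p
  set Y₁ : Subgroup G := perf (Y ⊓ J) with hY₁
  have hY₁n : Y₁.Normal := by
    haveI : Y.Normal := hYn
    haveI : J.Normal := hJ
    exact perf_normal inferInstance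
  have hLY₁ : L ≤ Y₁ := le_perf (le_inf hLY hLJ) (Lc_perfect 𝒜 S)
  have hcomm := commute_of_perfect (P := Y₁) (X := T) (perf_perfect _) (by
    intro p hp t ht q hq
    have hpY := (perf_le _ hp : p ∈ Y ⊓ J)
    have hqY := (perf_le _ hq : q ∈ Y ⊓ J)
    have h1 : p * t * p⁻¹ * t⁻¹ ∈ X₀ := by
      have h2 := inv_mem (hTY t ht p hpY.1)
      have e : (t * p * t⁻¹ * p⁻¹)⁻¹ = p * t * p⁻¹ * t⁻¹ := by group
      rwa [e] at h2
    have h2 : p * t * p⁻¹ * t⁻¹ ∈ J := by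
      have e : p * t * p⁻¹ * t⁻¹ = p * (t * p⁻¹ * t⁻¹) := by group
      rw [e]
      exact mul_mem hpY.2 (hJ.conj_mem _ (inv_mem hpY.2) t)
    exact hc _ (hXJ ⟨h1, h2⟩) q hqY.2)
  have h1 : Y₁ ≤ L := by
    refine le_perf ?_ (perf_perfect _)
    intro y hy
    rw [mem_centralizer_iff]
    intro t ht
    exact (hcomm y hy t ht).symm
  rw [le_antisymm hLY₁ h1]
  exact hY₁n

theorem card_quotient_lt (U : Subgroup G) (hU : U ≠ ⊥) : Nat.card (G ⧸ U) < Nat.card G := by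
  have h1 := card_eq_card_quotient_mul_card_subgroup U
  have h2 : 1 < Nat.card U := by
    rw [Subgroup.one_lt_card_iff_ne_bot]; exact hU
  have h3 : 0 < Nat.card (G ⧸ U) := Nat.card_pos
  rw [h1]
  nlinarith

/-- A smaller subfamily inside `L`. -/
theorem normal_of_subfamily (h : IsClosedFam 𝒜) (S : Sylow 2 G) (hO : Cfsg.oddCore G = ⊥)
    (hG : ∀ (G' : Type u) [Group G'] [Finite G'] (𝒜' : Set G') (S' : Sylow 2 G'),
      Nat.card G' < Nat.card G → IsClosedFam 𝒜' → Concl 𝒜' (S' : Subgroup G'))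
    {𝒜₀ : Set G} (hsub : fam 𝒜₀ (S : Subgroup G) ≤ fam 𝒜 (S : Subgroup G))
    (hne : fam 𝒜₀ (S : Subgroup G) ≠ ⊥) (hle : fam 𝒜₀ (S : Subgroup G) ≤ Lc 𝒜 (S : Subgroup G))
    (hind : (Lc 𝒜₀ (S : Subgroup G)).Normal) : (Lc 𝒜 (S : Subgroup G)).Normal := by
  classical
  set T₀ : Subgroup G := fam 𝒜₀ (S : Subgroup G) with hT₀
  set J : Subgroup G := Lc 𝒜₀ (S : Subgroup G) with hJ
  haveI hJn : J.Normal := hind
  have hLJ : Lc 𝒜 (S : Subgroup G) ≤ J := perf_mono (centralizer_le (by exact_mod_cast hsub))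
  have hJc : J ≤ centralizer (T₀ : Set G) := perf_le _
  set U : Subgroup G := J ⊓ centralizer (J : Set G) with hU
  haveI hUn : U.Normal := by
    rw [hU]
    infer_instance
  have hcU : ∀ u ∈ U, ∀ j ∈ J, u * j = j * u := by
    intro u hu j hj
    exact (mem_centralizer_iff.1 hu.2 j hj).symm
  have hU2 : IsPGroup 2 U := isPGroup_of_comm_normal hO U hUn (fun x hx y hy => hcU x hx y hy.1)
  have hT₀U : T₀ ≤ U := by
    intro t ht
    exact mem_inf.2 ⟨hLJ (hle ht), mem_centralizer_iff.2 fun j hj =>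
      (mem_centralizer_iff.1 (hJc hj) t ht).symm⟩
  have hUne : U ≠ ⊥ := by
    intro hb
    apply hne
    rw [eq_bot_iff, ← hb]
    exact hT₀U
  refine normal_of_quotient h S hO U J hUn hU2 hJn inf_le_left hcU hLJ ?_
  have hsurj := QuotientGroup.mk'_surjective U
  have h1 := hG (G ⧸ U) (QuotientGroup.mk' U '' 𝒜) (S.mapSurjective hsurj) (card_quotient_lt U hUne)
    (h.image hsurj)
  rwa [Sylow.coe_mapSurjective] at h1

/-- The set of conjugates of `R = S ∩ L`. -/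
def Rfam {G : Type*} [Group G] (𝒜 : Set G) (S : Subgroup G) : Set G :=
  {x : G | ∃ g : G, g * x * g⁻¹ ∈ S ⊓ Lc 𝒜 S}

theorem isStronglyClosed_R (h : IsClosedFam 𝒜) (S : Sylow 2 G) :
    Cfsg.IsStronglyClosed ((S : Subgroup G) ⊓ Lc 𝒜 (S : Subgroup G)) (S : Subgroup G) :=
  ⟨inf_le_left, mem_of_perf_centralizer h S⟩

theorem isClosedFam_Rfam (h : IsClosedFam 𝒜) (S : Sylow 2 G) : IsClosedFam (Rfam 𝒜 (S : Subgroup G)) :=
  isClosedFam_of_isStronglyClosed S _ (isStronglyClosed_R h S)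

theorem fam_Rfam (h : IsClosedFam 𝒜) (S : Sylow 2 G) :
    fam (Rfam 𝒜 (S : Subgroup G)) (S : Subgroup G) = (S : Subgroup G) ⊓ Lc 𝒜 (S : Subgroup G) := by
  ext x
  rw [(isClosedFam_Rfam h S).mem_fam_iff S.2]
  constructor
  · rintro ⟨⟨g, hg⟩, hxS⟩
    have h1 := mem_of_perf_centralizer h S _ hg g⁻¹ (by
      have e : g⁻¹ * (g * x * g⁻¹) * g⁻¹⁻¹ = x := by group
      rw [e]; exact hxS)
    have e : g⁻¹ * (g * x * g⁻¹) * g⁻¹⁻¹ = x := by group
    rwa [e] at h1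
  · intro hx
    exact ⟨⟨1, by simpa using hx⟩, hx.1⟩

/-- The case `T ∩ L = 1`. -/
theorem normal_of_disjoint
    (hFT : ∀ (H : Type u) [Group H] [Finite H], Odd (Nat.card H) → Group.IsSolvable H)
    (hC1 : ∀ (G' : Type u) [Group G'] [Finite G'] (𝒜' ℬ' : Set G'), Pair 𝒜' ℬ' →
      ⁅fam 𝒜' ⊤, fam ℬ' ⊤⁆ ≤ Cfsg.oddCore G')
    (h : IsClosedFam 𝒜) (S : Sylow 2 G) (hO : Cfsg.oddCore G = ⊥)
    (hdisj : fam 𝒜 (S : Subgroup G) ⊓ Lc 𝒜 (S : Subgroup G) = ⊥) : (Lc 𝒜 (S : Subgroup G)).Normal := by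
  classical
  haveI : Fact (Nat.Prime 2) := ⟨Nat.prime_two⟩
  set T : Subgroup G := fam 𝒜 (S : Subgroup G) with hT
  set L : Subgroup G := Lc 𝒜 (S : Subgroup G) with hL
  have hpair : Pair 𝒜 (Rfam 𝒜 (S : Subgroup G)) := by
    refine ⟨h, isClosedFam_Rfam h S, ?_⟩
    rintro x hx ⟨g, hg⟩
    have h1 : g * x * g⁻¹ ∈ T ⊓ L := ⟨mem_fam (h.conj_mem x hx g) hg.1, hg.2⟩
    rw [hdisj, mem_bot] at h1
    have e : x = g⁻¹ * (g * x * g⁻¹) * g := by group
    rw [e, h1]; group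
  have h1 := hC1 G 𝒜 (Rfam 𝒜 (S : Subgroup G)) hpair
  rw [hO, le_bot_iff] at h1
  set M : Subgroup G := normalClosure (((S : Subgroup G) ⊓ L : Subgroup G) : Set G) with hM
  have hMeq : fam (Rfam 𝒜 (S : Subgroup G)) ⊤ = M := fam_conjugates_top ((S : Subgroup G) ⊓ L)
  rw [hMeq] at h1
  have hLM : L ≤ M :=
    le_normalClosure_of_perfect hFT L ((S : Subgroup G) ⊓ L) (Lc_perfect 𝒜 S) inf_le_right
      (not_dvd_relIndex_perf h S)
  haveI hMn : M.Normal := normalClosure_normal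
  have hML : M = normalClosure (L : Set G) := by
    apply le_antisymm
    · refine normalClosure_mono ?_
      intro x hx
      exact hx.2
    · exact normalClosure_le_normal hLM
  have hMp : ⁅M, M⁆ = M := by
    rw [hML]
    exact normalClosure_perfect L (Lc_perfect 𝒜 S)
  have hMC : M ≤ centralizer (T : Set G) := by
    intro m hm
    rw [mem_centralizer_iff]
    intro t ht
    rw [commutator_eq_bot_iff_le_centralizer] at h1
    have h2 : t ∈ fam 𝒜 ⊤ := fam_mono 𝒜 le_top ht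
    exact (mem_centralizer_iff.1 (h1 h2) m hm).symm
  have h2 : M ≤ L := le_perf hMC hMp
  rw [← le_antisymm h2 hLM]
  exact hMn

/-! ### The case `T ≤ L`, `T` minimal -/

/-- `O_2(G)` meets `T` nontrivially. -/
theorem normal_of_le_pCore (h : IsClosedFam 𝒜) (S : Sylow 2 G)
    (hle : fam 𝒜 (S : Subgroup G) ≤ Cfsg.pCore 2 G) : (Lc 𝒜 (S : Subgroup G)).Normal := by
  haveI : Fact (Nat.Prime 2) := ⟨Nat.prime_two⟩
  have h1 : fam 𝒜 (S : Subgroup G) = fam 𝒜 (Cfsg.pCore 2 G) := by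
    apply le_antisymm
    · rw [fam_le_iff]
      intro x hx hxS
      exact mem_fam hx (hle (mem_fam hx hxS))
    · exact fam_mono 𝒜 (Cfsg.Agent.Lib.Cores.pCore_le_sylow S)
  have h2 : (fam 𝒜 (S : Subgroup G)).Normal := by
    rw [h1]
    exact h.fam_normal _
  exact perf_normal (haveI := h2; inferInstance)

/-- If the members of a family meeting a normal subgroup `N` trivially, they centralize it. -/
theorem fam_top_centralize (h : IsClosedFam 𝒜) (S : Sylow 2 G) (hO : Cfsg.oddCore G = ⊥) (N : Subgroup G)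
    (hN : N.Normal) (hdisj : fam 𝒜 (S : Subgroup G) ⊓ N = ⊥) :
    ∀ k ∈ fam 𝒜 ⊤, ∀ n ∈ N, k * n = n * k := by
  have h1 : ∀ a ∈ 𝒜, a ∈ N → a = 1 := by
    intro a ha haN
    obtain ⟨k, hk, hkT⟩ := exists_conj_mem_fam h S N hN ha haN
    have h2 : k * a * k⁻¹ ∈ fam 𝒜 (S : Subgroup G) ⊓ N := ⟨hkT, hN.conj_mem a haN k⟩
    rw [hdisj, mem_bot] at h2
    have e : a = k⁻¹ * (k * a * k⁻¹) * k := by group
    rw [e, h2]; group
  have h2 := ClosedZ.centralize h N (ClosedZ.oddCore_eq_bot_of_normal hO N hN) h1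
  have h3 : fam 𝒜 ⊤ ≤ centralizer (N : Set G) := by
    rw [fam_le_iff]
    intro a ha _
    rw [mem_centralizer_iff]
    intro n hn
    exact (h2 a ha n hn).symm
  intro k hk n hn
  exact (mem_centralizer_iff.1 (h3 hk) n hn).symm

/-- The subgroup generated by the family is perfect (`T` minimal, `T ∩ O_2(G) = 1`). -/
theorem fam_top_perfect (h : IsClosedFam 𝒜) (S : Sylow 2 G) (hO : Cfsg.oddCore G = ⊥)
    (hmin : ∀ N : Subgroup G, N.Normal → fam 𝒜 (S : Subgroup G) ⊓ N = ⊥ ∨ fam 𝒜 (S : Subgroup G) ≤ N)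
    (h2 : ¬ fam 𝒜 (S : Subgroup G) ≤ Cfsg.pCore 2 G) : ⁅fam 𝒜 ⊤, fam 𝒜 ⊤⁆ = fam 𝒜 ⊤ := by
  haveI hKn : (fam 𝒜 (⊤ : Subgroup G)).Normal := h.fam_normal ⊤
  set K : Subgroup G := fam 𝒜 ⊤ with hK
  rcases hmin ⁅K, K⁆ inferInstance with h3 | h3
  · exfalso
    apply h2
    have h4 := fam_top_centralize h S hO ⁅K, K⁆ inferInstance h3
    have h5 : ⁅⁅K, K⁆, K⁆ = ⊥ := by
      rw [commutator_eq_bot_iff_le_centralizer]
      intro x hx
      rw [mem_centralizer_iff]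
      intro k hk
      exact h4 k hk x hx
    have h6 : Group.IsNilpotent K := isNilpotent_of_lowerCentralSeries_eq_bot (n := 2) h5
    exact (fam_mono 𝒜 le_top).trans (le_pCore_two_of_nilpotent hO K hKn h6)
  · exact le_antisymm (commutator_le_self K) (fam_top_le h S _ inferInstance h3)

/-- Passing to the quotient by a central subgroup of `K = ⟨𝒜⟩`. -/
theorem normal_of_central_quotient (h : IsClosedFam 𝒜) (S : Sylow 2 G) (hO : Cfsg.oddCore G = ⊥)
    (hperf : ⁅fam 𝒜 (⊤ : Subgroup G), fam 𝒜 ⊤⁆ = fam 𝒜 ⊤)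
    (U : Subgroup G) (hU : U.Normal) (hU2 : IsPGroup 2 U) (hUK : U ≤ fam 𝒜 ⊤)
    (hc : ∀ k ∈ fam 𝒜 (⊤ : Subgroup G), ∀ u ∈ U, k * u = u * k)
    (hind : Concl (QuotientGroup.mk' U '' 𝒜) ((S : Subgroup G).map (QuotientGroup.mk' U))) :
    (Lc 𝒜 (S : Subgroup G)).Normal := by
  classical
  set f : G →* G ⧸ U := QuotientGroup.mk' U with hf
  have hker : f.ker = U := QuotientGroup.ker_mk' U
  have hsurj : Function.Surjective f := QuotientGroup.mk'_surjective U
  set T : Subgroup G := fam 𝒜 (S : Subgroup G) with hT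
  set L : Subgroup G := Lc 𝒜 (S : Subgroup G) with hL
  set K : Subgroup G := fam 𝒜 ⊤ with hK
  haveI hKn : K.Normal := h.fam_normal ⊤
  set P' : Subgroup (G ⧸ U) := perf (centralizer (T.map f : Set (G ⧸ U))) with hP'
  set O' : Subgroup (G ⧸ U) := Cfsg.oddCore (G ⧸ U) with hO'
  have hO'n : O'.Normal := inferInstance
  have hind' : (P' ⊔ O').Normal := by
    unfold Concl Lc at hind
    rwa [map_fam_sylow h S hsurj] at hind
  set Y : Subgroup G := (P' ⊔ O').comap f with hY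
  haveI hYn : Y.Normal := hind'.comap f
  set X₀ : Subgroup G := O'.comap f with hX₀
  haveI hX₀n : X₀.Normal := hO'n.comap f
  have hLY : L ≤ Y := by
    have h1 : L.map f ≤ P' := by
      refine le_perf ?_ (map_perfect (Lc_perfect 𝒜 S) f)
      rintro _ ⟨l, hl, rfl⟩
      rw [mem_centralizer_iff]
      rintro _ ⟨t, ht, rfl⟩
      rw [← map_mul, ← map_mul, commute_Lc hl ht]
    exact (le_comap_map f L).trans (comap_mono (h1.trans le_sup_left))
  have hUX₀ : U ≤ X₀ := by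
    rw [← hker]
    intro x hx
    rw [hX₀, mem_comap, (MonoidHom.mem_ker).1 hx]
    exact one_mem _
  have hXK : X₀ ⊓ K ≤ U := by
    refine Cfsg.Agent.TwoFusion.ClosedZ.le_of_central_odd_index hO (X₀ ⊓ K) U inferInstance hU2
      (fun z hz c hc' => (hc c hc'.2 z hz).symm) ?_
    have h1 : U.relIndex X₀ = Nat.card O' := by
      have h2 := relIndex_ker f (K := X₀)
      rw [hker, hX₀, map_comap_eq_self_of_surjective hsurj] at h2
      exact h2
    have h3 : Odd (Nat.card O') := Nat.coprime_two_right.1 (Cfsg.Agent.Lib.Cores.pPrimeCore_coprime 2)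
    have h4 : U.relIndex (X₀ ⊓ K) * (X₀ ⊓ K).relIndex X₀ = U.relIndex X₀ :=
      relIndex_mul_relIndex _ _ _ (le_inf hUX₀ hUK) inf_le_left
    rw [h1] at h4
    exact h3.of_dvd_nat (Dvd.intro _ h4)
  -- `K` centralizes `X₀`
  have hKX₀ := commute_of_perfect (P := K) (X := X₀) hperf (by
    intro p hp x hx q hq
    have h1 : p * x * p⁻¹ * x⁻¹ ∈ X₀ := mul_mem (hX₀n.conj_mem x hx p) (inv_mem hx)
    have h2 : p * x * p⁻¹ * x⁻¹ ∈ K := by
      have e : p * x * p⁻¹ * x⁻¹ = p * (x * p⁻¹ * x⁻¹) := by group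
      rw [e]
      exact mul_mem hp (hKn.conj_mem _ (inv_mem hp) x)
    exact (hc q hq _ (hXK ⟨h1, h2⟩)).symm)
  have hTY : ∀ t ∈ T, ∀ y ∈ Y, t * y * t⁻¹ * y⁻¹ ∈ X₀ := by
    intro t ht y hy
    have h1 : f y ∈ P' ⊔ O' := hy
    rw [← SetLike.mem_coe, Subgroup.mul_normal] at h1
    obtain ⟨p, hp, o, ho, hpo⟩ := Set.mem_mul.1 h1
    have h2 : f t * p = p * f t := mem_centralizer_iff.1 (perf_le _ hp) (f t) ⟨t, ht, rfl⟩
    change f (t * y * t⁻¹ * y⁻¹) ∈ O'
    rw [map_mul, map_mul, map_mul, map_inv, map_inv, ← hpo]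
    have h3 : f t * (p * o) * (f t)⁻¹ * (p * o)⁻¹ = p * ((f t * o * (f t)⁻¹) * o⁻¹) * p⁻¹ := by
      calc f t * (p * o) * (f t)⁻¹ * (p * o)⁻¹ = (f t * p) * o * (f t)⁻¹ * o⁻¹ * p⁻¹ := by group
        _ = (p * f t) * o * (f t)⁻¹ * o⁻¹ * p⁻¹ := by rw [h2]
        _ = _ := by group
    rw [h3]
    exact hO'n.conj_mem _ (mul_mem (hO'n.conj_mem o ho _) (inv_mem ho)) p
  -- `[K, Y] ≤ X₀`
  have hKY : ∀ k ∈ K, ∀ y ∈ Y, k * y * k⁻¹ * y⁻¹ ∈ X₀ := by
    set π : G →* G ⧸ X₀ := QuotientGroup.mk' X₀ with hπ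
    have hπker : π.ker = X₀ := QuotientGroup.ker_mk' X₀
    have hπs : Function.Surjective π := QuotientGroup.mk'_surjective X₀
    haveI hYπ : (Y.map π).Normal := hYn.map π hπs
    set M : Subgroup G := (centralizer (Y.map π : Set (G ⧸ X₀))).comap π with hM
    have hMn : M.Normal := by
      rw [hM]
      infer_instance
    have hTM : T ≤ M := by
      intro t ht
      rw [hM, mem_comap, mem_centralizer_iff]
      rintro _ ⟨y, hy, rfl⟩
      have h1 := hTY t ht y hy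
      rw [← hπker, MonoidHom.mem_ker, map_mul, map_mul, map_mul, map_inv, map_inv,
        mul_inv_eq_one, mul_inv_eq_iff_eq_mul] at h1
      exact h1.symm
    have hKM : K ≤ M := fam_top_le h S M hMn hTM
    intro k hk y hy
    have h1 := mem_centralizer_iff.1 (hKM hk) (π y) ⟨y, hy, rfl⟩
    rw [← hπker, MonoidHom.mem_ker, map_mul, map_mul, map_mul, map_inv, map_inv,
      mul_inv_eq_one, mul_inv_eq_iff_eq_mul]
    exact h1.symm
  have hKYc := commute_of_perfect (P := K) (X := Y) hperf (by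
    intro p hp y hy q hq
    exact (hKX₀ q hq _ (hKY p hp y hy)).symm)
  have h1 : perf Y ≤ L := by
    refine perf_mono ?_
    intro y hy
    rw [mem_centralizer_iff]
    intro t ht
    exact hKYc t (fam_mono 𝒜 le_top ht) y hy
  have h2 : L ≤ perf Y := le_perf hLY (Lc_perfect 𝒜 S)
  rw [le_antisymm h2 h1]
  exact perf_normal hYn

/-- The normal closure `K` of `T` is a minimal normal subgroup. -/
theorem normal_or_minimal (h : IsClosedFam 𝒜) (S : Sylow 2 G) (hO : Cfsg.oddCore G = ⊥)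
    (hG : ∀ (G' : Type u) [Group G'] [Finite G'] (𝒜' : Set G') (S' : Sylow 2 G'),
      Nat.card G' < Nat.card G → IsClosedFam 𝒜' → Concl 𝒜' (S' : Subgroup G'))
    (hmin : ∀ N : Subgroup G, N.Normal → fam 𝒜 (S : Subgroup G) ⊓ N = ⊥ ∨ fam 𝒜 (S : Subgroup G) ≤ N)
    (hperf : ⁅fam 𝒜 (⊤ : Subgroup G), fam 𝒜 ⊤⁆ = fam 𝒜 ⊤) :
    (Lc 𝒜 (S : Subgroup G)).Normal ∨
      ∀ N : Subgroup G, N.Normal → N ≤ fam 𝒜 ⊤ → N ≠ fam 𝒜 ⊤ → N = ⊥ := by
  by_contra hcon
  push Not at hcon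
  obtain ⟨hL, N, hN, hNK, hNne, hNbot⟩ := hcon
  apply hL
  have hdisj : fam 𝒜 (S : Subgroup G) ⊓ N = ⊥ := by
    rcases hmin N hN with h1 | h1
    · exact h1
    · exact absurd (le_antisymm hNK (fam_top_le h S N hN h1)) hNne
  have hc := fam_top_centralize h S hO N hN hdisj
  have hN2 : IsPGroup 2 N := isPGroup_of_comm_normal hO N hN (fun x hx y hy => hc x (hNK hx) y hy)
  refine normal_of_central_quotient h S hO hperf N hN hN2 hNK hc ?_
  have hsurj := QuotientGroup.mk'_surjective N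
  have h1 := hG (G ⧸ N) (QuotientGroup.mk' N '' 𝒜) (S.mapSurjective hsurj) (card_quotient_lt N hNbot)
    (h.image hsurj)
  rwa [Sylow.coe_mapSurjective] at h1

end Cfsg.Agent.TwoFusion.CoreSteps
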