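import Mathlib
import Cfsg.Agent.TwoFusion.CoreSteps

/-!
# Normality of the perfect core of `C_G(T)`: reduction to the simple configuration
-/

set_option autoImplicit false
set_option linter.style.haveILetI false

namespace Cfsg.Agent.TwoFusion.CoreAssembly

open Subgroup
open Cfsg.Agent.TwoFusion.ClosedFam
open Cfsg.Agent.TwoFusion.PerfCore
open Cfsg.Agent.TwoFusion.CoreStrong
open Cfsg.Agent.TwoFusion.CoreStrongMain
open Cfsg.Agent.TwoFusion.CoreReduction
open Cfsg.Agent.TwoFusion.CoreSteps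

universe u

variable {G : Type u} [Group G] [Finite G] {𝒜 : Set G}

/-- If `K ≤ M` can be tested on `T`: `M` normalised by `K = ⟨𝒜⟩` and `T ≤ M` imply `K ≤ M`. -/
theorem fam_top_le_of_normalized (h : IsClosedFam 𝒜) (S : Sylow 2 G) (M : Subgroup G)
    (hM : fam 𝒜 (⊤ : Subgroup G) ≤ normalizer (M : Set G)) (hT : fam 𝒜 (S : Subgroup G) ≤ M) :
    fam 𝒜 (⊤ : Subgroup G) ≤ M := by
  haveI hKn : (fam 𝒜 (⊤ : Subgroup G)).Normal := h.fam_normal ⊤
  rw [fam_le_iff]
  intro a ha _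
  obtain ⟨k, hk, hkT⟩ := exists_conj_mem_fam h S (fam 𝒜 ⊤) hKn ha (mem_fam ha (mem_top a))
  exact (mem_normalizer_iff.1 (hM hk) a).2 (hT hkT)

/-- The case in which `K L` is a proper subgroup. -/
theorem normal_of_proper (h : IsClosedFam 𝒜) (S : Sylow 2 G) (hO : Cfsg.oddCore G = ⊥)
    (hG : ∀ (G' : Type u) [Group G'] [Finite G'] (𝒜' : Set G') (S' : Sylow 2 G'),
      Nat.card G' < Nat.card G → IsClosedFam 𝒜' → Concl 𝒜' (S' : Subgroup G'))
    (hne : fam 𝒜 (⊤ : Subgroup G) ⊔ Lc 𝒜 (S : Subgroup G) ≠ ⊤) : (Lc 𝒜 (S : Subgroup G)).Normal := by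
  classical
  haveI : Fact (Nat.Prime 2) := ⟨Nat.prime_two⟩
  set T : Subgroup G := fam 𝒜 (S : Subgroup G) with hT
  set L : Subgroup G := Lc 𝒜 (S : Subgroup G) with hL
  set K : Subgroup G := fam 𝒜 ⊤ with hK
  haveI hKn : K.Normal := h.fam_normal ⊤
  set G₁ : Subgroup G := K ⊔ L with hG₁
  have hTK : T ≤ K := fam_mono 𝒜 le_top
  have hTG₁ : T ≤ G₁ := hTK.trans le_sup_left
  have hT2 : IsPGroup 2 T := isPGroup_fam 𝒜 S.2
  -- a Sylow subgroup of `G₁` containing `T`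
  have hT₁2 : IsPGroup 2 (T.subgroupOf G₁) := hT2.comap_of_injective G₁.subtype G₁.subtype_injective
  obtain ⟨S₁, hS₁⟩ := hT₁2.exists_le_sylow
  have hT₁ : (fam {x : G₁ | (x : G) ∈ 𝒜} (S₁ : Subgroup G₁)).map G₁.subtype = T := by
    rw [map_fam_restrict]
    set Q : Subgroup G := (S₁ : Subgroup G₁).map G₁.subtype with hQ
    have hQ2 : IsPGroup 2 Q := S₁.2.map _
    have hle : T ≤ fam 𝒜 Q := by
      intro t ht
      exact mem_fam ((h.mem_fam_iff S.2).1 ht).1 ⟨⟨t, hTG₁ ht⟩, hS₁ ht, rfl⟩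
    obtain ⟨g, hg⟩ := ClosedLocal.exists_conj_sylow hQ2 S
    have hcard : Nat.card (fam 𝒜 Q) ≤ Nat.card T := by
      have h1 : (fam 𝒜 Q).map (MulAut.conj g).toMonoidHom ≤ T := by
        rw [h.map_conj_fam, hT]
        refine fam_mono 𝒜 ?_
        rintro _ ⟨q, hq, rfl⟩
        exact hg q hq
      rw [← Cfsg.Agent.Lib.GoldschmidtFusion.card_map_conj (fam 𝒜 Q) g]
      exact Subgroup.card_le_of_le h1
    exact (Subgroup.eq_of_le_of_card_ge hle hcard).symm
  have hcent : (centralizer (fam {x : G₁ | (x : G) ∈ 𝒜} (S₁ : Subgroup G₁) : Set G₁)).map G₁.subtype =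
      centralizer (T : Set G) ⊓ G₁ := by
    ext x
    constructor
    · rintro ⟨y, hy, rfl⟩
      refine ⟨?_, y.2⟩
      change (y : G) ∈ centralizer (T : Set G)
      rw [mem_centralizer_iff]
      intro t ht
      rw [SetLike.mem_coe, ← hT₁] at ht
      obtain ⟨t', ht', rfl⟩ := ht
      exact congrArg Subtype.val (mem_centralizer_iff.1 hy t' ht')
    · intro hx
      obtain ⟨hx1, hx2⟩ := mem_inf.1 hx
      refine ⟨⟨x, hx2⟩, ?_, rfl⟩
      rw [SetLike.mem_coe, mem_centralizer_iff]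
      intro t ht
      apply Subtype.ext
      exact mem_centralizer_iff.1 hx1 t (by rw [SetLike.mem_coe, ← hT₁]; exact ⟨t, ht, rfl⟩)
  have hLmap : (Lc {x : G₁ | (x : G) ∈ 𝒜} (S₁ : Subgroup G₁)).map G₁.subtype = L := by
    unfold Lc
    rw [map_perf, hcent]
    apply le_antisymm
    · exact perf_mono inf_le_left
    · exact le_perf (le_inf (perf_le _) le_sup_right) (perf_perfect _)
  -- induction
  have hcardG₁ : Nat.card G₁ < Nat.card G := by
    refine lt_of_le_of_ne (Subgroup.card_le_card_group G₁) ?_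
    intro he
    exact hne ((Subgroup.card_eq_iff_eq_top G₁).1 he)
  have hind := hG G₁ _ S₁ hcardG₁ (h.restrict G₁)
  unfold Concl at hind
  set O₁ : Subgroup G := core G₁ with hO₁
  set J : Subgroup G := L ⊔ O₁ with hJ
  have hJeq : (Lc {x : G₁ | (x : G) ∈ 𝒜} (S₁ : Subgroup G₁) ⊔ Cfsg.oddCore G₁).map G₁.subtype = J := by
    rw [Subgroup.map_sup, hLmap]; rfl
  have hG₁J : G₁ ≤ normalizer (J : Set G) := by
    rw [← hJeq]
    exact Cfsg.Agent.Lib.LocalCore.le_normalizer_map_subtype G₁ _ hind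
  have hKG₁ : K ≤ G₁ := le_sup_left
  have hO₁G₁ : O₁ ≤ G₁ := ClosedLocal.core_le _
  -- `K` centralizes `O₁`
  have hKO : ∀ k ∈ K, ∀ o ∈ O₁, k * o = o * k := by
    have hbot : K ⊓ O₁ = ⊥ := by
      have h1 : K ⊓ O₁ ≤ core K := by
        refine ClosedLocal.le_core inf_le_left ?_ ?_
        · intro k hk x hx
          exact ⟨hKn.conj_mem x hx.1 k, ClosedLocal.conj_mem_core (hKG₁ hk) hx.2⟩
        · exact (ClosedLocal.odd_core G₁).of_dvd_nat (Subgroup.card_dvd_of_le inf_le_right)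
      have h2 : core K = ⊥ := by
        unfold core
        rw [ClosedZ.oddCore_eq_bot_of_normal hO K hKn, Subgroup.map_bot]
      rw [h2] at h1
      exact le_bot_iff.1 h1
    intro k hk o ho
    have h1 : k * o * k⁻¹ * o⁻¹ ∈ K ⊓ O₁ := by
      refine mem_inf.2 ⟨?_, ?_⟩
      · have e : k * o * k⁻¹ * o⁻¹ = k * (o * k⁻¹ * o⁻¹) := by group
        rw [e]
        exact mul_mem hk (hKn.conj_mem _ (inv_mem hk) o)
      · exact mul_mem (ClosedLocal.conj_mem_core (hKG₁ hk) ho) (inv_mem ho)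
    rw [hbot, mem_bot, mul_inv_eq_one, mul_inv_eq_iff_eq_mul] at h1
    exact h1
  -- `K` centralizes `J`
  have hTJ : T ≤ centralizer (J : Set G) := by
    rw [hJ]
    intro t ht
    rw [mem_centralizer_iff]
    intro j hj
    have h1 : L ⊔ O₁ ≤ centralizer ({t} : Set G) := by
      refine sup_le ?_ ?_
      · intro l hl
        rw [mem_centralizer_singleton_iff]
        exact (commute_Lc hl ht).symm
      · intro o ho
        rw [mem_centralizer_singleton_iff]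
        exact (hKO t (hTK ht) o ho).symm
    exact mem_centralizer_singleton_iff.1 (h1 hj)
  have hKJ : K ≤ centralizer (J : Set G) :=
    fam_top_le_of_normalized h S _
      ((hKG₁.trans hG₁J).trans (normalizer_le_normalizer_centralizer J)) hTJ
  -- conclusion
  refine ⟨fun l hl g => ?_⟩
  obtain ⟨k, hk, hkg⟩ := exists_mul_mem_normalizer h S K hKn hTK g
  have h1 : k * g * l * (k * g)⁻¹ ∈ L :=
    (mem_normalizer_iff.1 (((normalizer_le_normalizer_centralizer T).trans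
      (normalizer_le_normalizer_perf _)) hkg) l).1 hl
  have h2 : k⁻¹ * (k * g * l * (k * g)⁻¹) = (k * g * l * (k * g)⁻¹) * k⁻¹ :=
    (mem_centralizer_iff.1 (hKJ (inv_mem hk)) _ (mem_sup_left h1)).symm
  have e : g * l * g⁻¹ = k⁻¹ * (k * g * l * (k * g)⁻¹) * k := by group
  rw [e, h2]
  have e2 : k * g * l * (k * g)⁻¹ * k⁻¹ * k = k * g * l * (k * g)⁻¹ := by group
  rw [e2]
  exact h1

/-- In the minimal situation `K = ⟨𝒜⟩` is simple. -/
theorem isSimpleGroup_of_minimal (h : IsClosedFam 𝒜) (S : Sylow 2 G) (hO : Cfsg.oddCore G = ⊥)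
    (hT1 : fam 𝒜 (S : Subgroup G) ≠ ⊥) (htop : fam 𝒜 (⊤ : Subgroup G) ⊔ Lc 𝒜 (S : Subgroup G) = ⊤)
    (hperf : ⁅fam 𝒜 (⊤ : Subgroup G), fam 𝒜 ⊤⁆ = fam 𝒜 ⊤)
    (hmin : ∀ N : Subgroup G, N.Normal → N ≤ fam 𝒜 ⊤ → N ≠ fam 𝒜 ⊤ → N = ⊥) :
    IsSimpleGroup ↥(fam 𝒜 (⊤ : Subgroup G)) := by
  classical
  set T : Subgroup G := fam 𝒜 (S : Subgroup G) with hT
  set L : Subgroup G := Lc 𝒜 (S : Subgroup G) with hL
  set K : Subgroup G := fam 𝒜 ⊤ with hK
  haveI hKn : K.Normal := h.fam_normal ⊤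
  have hTK : T ≤ K := fam_mono 𝒜 le_top
  have hKbot : K ≠ ⊥ := by
    intro hb
    apply hT1
    rw [eq_bot_iff, ← hb]
    exact hTK
  haveI : Nontrivial K := (Subgroup.nontrivial_iff_ne_bot K).2 hKbot
  refine { exists_pair_ne := exists_pair_ne K, eq_bot_or_eq_top_of_normal := ?_ }
  intro H hH
  by_cases hHtop : H = ⊤
  · exact Or.inr hHtop
  refine Or.inl ?_
  set Y : Subgroup G := H.map K.subtype with hY
  have hYK : Y ≤ K := by rintro _ ⟨y, _, rfl⟩; exact y.2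
  have hYne : Y ≠ K := by
    intro he
    apply hHtop
    apply Subgroup.map_injective K.subtype_injective
    rw [← hY, he, ← MonoidHom.range_eq_map, Subgroup.range_subtype]
  have hYn : ∀ k ∈ K, ∀ y ∈ Y, k * y * k⁻¹ ∈ Y := by
    rintro k hk _ ⟨y, hy, rfl⟩
    exact ⟨⟨k, hk⟩ * y * ⟨k, hk⟩⁻¹, hH.conj_mem y hy _, rfl⟩
  -- the core of `Y` is trivial
  have hcore : Y.normalCore = ⊥ := by
    refine hmin _ (normalCore_normal Y) ((normalCore_le Y).trans hYK) ?_
    intro he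
    apply hYne
    exact le_antisymm hYK (he ▸ normalCore_le Y)
  have hTY : T ⊓ Y = ⊥ := by
    rw [eq_bot_iff, ← hcore]
    rintro x hx
    obtain ⟨hxT, hxY⟩ := mem_inf.1 hx
    intro g
    have hg : g ∈ ((K ⊔ L : Subgroup G) : Set G) := by rw [htop]; exact mem_top g
    rw [Subgroup.normal_mul] at hg
    obtain ⟨k, hk, l, hl, rfl⟩ := Set.mem_mul.1 hg
    have h1 : l * x * l⁻¹ = x := by
      have h2 := commute_Lc (𝒜 := 𝒜) (S := (S : Subgroup G)) hl hxT
      rw [← h2]; group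
    have e : k * l * x * (k * l)⁻¹ = k * (l * x * l⁻¹) * k⁻¹ := by group
    rw [e, h1]
    exact hYn k hk x hxY
  -- the family meets `Y` trivially
  have hdisj : ∀ a ∈ {x : K | (x : G) ∈ 𝒜}, a ∈ H → a = 1 := by
    intro a ha haH
    have haY : (a : G) ∈ Y := ⟨a, haH, rfl⟩
    obtain ⟨k, hk, hkT⟩ := exists_conj_mem_fam h S K hKn ha a.2
    have h1 : k * (a : G) * k⁻¹ ∈ T ⊓ Y := ⟨hkT, hYn k hk a haY⟩
    rw [hTY, mem_bot] at h1
    apply Subtype.ext
    have e : (a : G) = k⁻¹ * (k * a * k⁻¹) * k := by group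
    rw [e, h1]
    simp
  have hKO : Cfsg.oddCore ↥K = ⊥ := ClosedZ.oddCore_eq_bot_of_normal hO K hKn
  have hHO : Cfsg.oddCore ↥H = ⊥ := ClosedZ.oddCore_eq_bot_of_normal hKO H hH
  have hc := ClosedZ.centralize (h.restrict K) H hHO hdisj
  have hKY : K ≤ centralizer (Y : Set G) := by
    rw [hK, fam_le_iff]
    intro a ha _
    rw [mem_centralizer_iff]
    rintro _ ⟨y, hy, rfl⟩
    have haK : a ∈ K := mem_fam ha (mem_top a)
    exact (congrArg Subtype.val (hc ⟨a, haK⟩ ha y hy)).symm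
  have hYZ : Y ≤ K ⊓ centralizer (K : Set G) := by
    intro y hy
    refine mem_inf.2 ⟨hYK hy, mem_centralizer_iff.2 fun k hk => ?_⟩
    exact (mem_centralizer_iff.1 (hKY hk) y hy).symm
  have hZ : K ⊓ centralizer (K : Set G) = ⊥ := by
    refine hmin _ inferInstance inf_le_left ?_
    intro he
    apply hKbot
    have h1 : K ≤ centralizer (K : Set G) := inf_eq_left.1 he
    rw [← hperf, commutator_eq_bot_iff_le_centralizer]
    exact h1
  rw [hZ] at hYZ
  exact (Subgroup.map_eq_bot_iff_of_injective _ K.subtype_injective).1 (le_bot_iff.1 hYZ)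

/-- **Reduction theorem**: the perfect core of `C_G(T)` is normal modulo `O(G)`, unless there is a
configuration `G = X L` with `X = ⟨𝒜⟩` simple and `T ≤ X ∩ L`. -/
theorem concl_of_simple
    (hFT : ∀ (H : Type u) [Group H] [Finite H], Odd (Nat.card H) → Group.IsSolvable H)
    (hC1 : ∀ (G' : Type u) [Group G'] [Finite G'] (𝒜' ℬ' : Set G'), Pair 𝒜' ℬ' →
      ⁅fam 𝒜' ⊤, fam ℬ' ⊤⁆ ≤ Cfsg.oddCore G')
    (hsimple : ∀ (G : Type u) [Group G] [Finite G] (𝒜 : Set G) (S : Sylow 2 G), IsClosedFam 𝒜 →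
      Cfsg.oddCore G = ⊥ → IsSimpleGroup ↥(fam 𝒜 (⊤ : Subgroup G)) →
      ⁅fam 𝒜 (⊤ : Subgroup G), fam 𝒜 ⊤⁆ = fam 𝒜 ⊤ →
      fam 𝒜 (S : Subgroup G) ≠ ⊥ → fam 𝒜 (S : Subgroup G) ≤ Lc 𝒜 (S : Subgroup G) →
      fam 𝒜 (⊤ : Subgroup G) ⊔ Lc 𝒜 (S : Subgroup G) = ⊤ → False) :
    ∀ (n : ℕ) (G : Type u) [Group G] [Finite G], Nat.card G = n → ∀ (m : ℕ) (𝒜 : Set G) (S : Sylow 2 G),
      Nat.card (fam 𝒜 (S : Subgroup G)) = m → IsClosedFam 𝒜 → Concl 𝒜 (S : Subgroup G) := by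
  classical
  intro n
  induction n using Nat.strong_induction_on with
  | _ n ihn =>
  intro G _ _ hn m
  induction m using Nat.strong_induction_on with
  | _ m ihm =>
  intro 𝒜 S hm h
  have hG : ∀ (G' : Type u) [Group G'] [Finite G'] (𝒜' : Set G') (S' : Sylow 2 G'),
      Nat.card G' < Nat.card G → IsClosedFam 𝒜' → Concl 𝒜' (S' : Subgroup G') := by
    intro G' _ _ 𝒜' S' hlt h'
    exact ihn (Nat.card G') (hn ▸ hlt) G' rfl _ 𝒜' S' rfl h'
  by_cases hO : Cfsg.oddCore G = ⊥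
  swap
  · apply concl_of_quotient_oddCore h S
    have hsurj := QuotientGroup.mk'_surjective (Cfsg.oddCore G)
    have h1 := hG (G ⧸ Cfsg.oddCore G) (QuotientGroup.mk' (Cfsg.oddCore G) '' 𝒜) (S.mapSurjective hsurj)
      (card_quotient_lt _ hO) (h.image hsurj)
    rwa [Sylow.coe_mapSurjective] at h1
  have hiff : ∀ 𝒜' : Set G, Concl 𝒜' (S : Subgroup G) ↔ (Lc 𝒜' (S : Subgroup G)).Normal := by
    intro 𝒜'
    unfold Concl
    rw [hO, sup_bot_eq]
  rw [hiff]
  by_contra hL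
  set T : Subgroup G := fam 𝒜 (S : Subgroup G) with hT
  set L : Subgroup G := Lc 𝒜 (S : Subgroup G) with hLdef
  -- subfamilies
  have hsubfam : ∀ 𝒜₀ : Set G, IsClosedFam 𝒜₀ → fam 𝒜₀ (S : Subgroup G) ≤ T →
      fam 𝒜₀ (S : Subgroup G) ≠ ⊥ → fam 𝒜₀ (S : Subgroup G) ≤ L → fam 𝒜₀ (S : Subgroup G) = T := by
    intro 𝒜₀ h₀ hle hne hleL
    by_contra hneT
    apply hL
    have hcard : Nat.card (fam 𝒜₀ (S : Subgroup G)) < m := by
      rw [← hm]
      have hlt : fam 𝒜₀ (S : Subgroup G) < T := lt_of_le_of_ne hle hneT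
      exact Set.Finite.card_lt_card (Set.toFinite _) hlt
    exact normal_of_subfamily h S hO hG hle hne hleL
      ((hiff 𝒜₀).1 (ihm _ hcard 𝒜₀ S rfl h₀))
  have hTL1 : T ⊓ L ≠ ⊥ := fun hdisj => hL (normal_of_disjoint hFT hC1 h S hO hdisj)
  have hTL : T ≤ L := by
    have h₀ := inter_isClosedFam h (isClosedFam_Rfam h S)
    have he : fam (𝒜 ∩ Rfam 𝒜 (S : Subgroup G)) (S : Subgroup G) = T ⊓ L := by
      rw [fam_inter h (isClosedFam_Rfam h S) S.2, fam_Rfam h S, ← inf_assoc,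
        inf_eq_left.2 (fam_le 𝒜 (S : Subgroup G))]
    have h1 := hsubfam _ h₀ (by rw [he]; exact inf_le_left) (by rw [he]; exact hTL1)
      (by rw [he]; exact inf_le_right)
    rw [he] at h1
    exact inf_eq_left.1 h1
  have hmin : ∀ N : Subgroup G, N.Normal → T ⊓ N = ⊥ ∨ T ≤ N := by
    intro N hN
    by_cases hb : T ⊓ N = ⊥
    · exact Or.inl hb
    · right
      have he := fam_inter_normal h N hN S.2
      have h1 := hsubfam _ (inter_normal h N hN) (by rw [he]; exact inf_le_left) (by rw [he]; exact hb)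
        (by rw [he]; exact inf_le_left.trans hTL)
      rw [he] at h1
      exact inf_eq_left.1 h1
  have h2 : ¬ T ≤ Cfsg.pCore 2 G := fun hle => hL (normal_of_le_pCore h S hle)
  have hperf := fam_top_perfect h S hO hmin h2
  have hminN := (normal_or_minimal h S hO hG hmin hperf).resolve_left hL
  have htop : fam 𝒜 (⊤ : Subgroup G) ⊔ L = ⊤ := by
    by_contra hne
    exact hL (normal_of_proper h S hO hG hne)
  have hT1 : T ≠ ⊥ := by
    intro hb
    apply hTL1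
    rw [hb, bot_inf_eq]
  have hs := isSimpleGroup_of_minimal h S hO hT1 htop hperf hminN
  exact hsimple G 𝒜 S h hO hs hperf hT1 hTL htop

end Cfsg.Agent.TwoFusion.CoreAssembly
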