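import Cfsg.Agent.TwoFusion.LargestSylowNormal
import Cfsg.Agent.Lib.SylowNormalInf

/-!
# Strongly closed direct factors of the whole Sylow 2-subgroup

If the Sylow 2-subgroup `P` is the product `S₁ S₂` of two strongly closed subgroups with `S₁ ∩ S₂ = 1`,
if `O(G) = 1` and the normal closures commute, then the normal closures intersect trivially.
(This is the second half of Goldschmidt's product theorem S1171 in the case `P = S₁ S₂`; it needs only
the transfer and not Foote's theorem S1252.)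
-/

set_option autoImplicit false
set_option linter.style.haveILetI false

namespace Cfsg.Agent.TwoFusion.FullProduct

open Subgroup
open scoped commutatorElement
open Cfsg.Agent.TwoFusion.LargestSylowNormal

/-- the transfer of `φ` kills `x` if `φ` kills every conjugate in `H` of every power of `x` -/
theorem transfer_eq_one {N A : Type*} [Group N] [CommGroup A] {H : Subgroup N} [H.FiniteIndex] [Finite N]
    (φ : H →* A) (x : N) (h : ∀ (g : N) (n : ℕ) (hm : g⁻¹ * x ^ n * g ∈ H), φ ⟨g⁻¹ * x ^ n * g, hm⟩ = 1) :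
    MonoidHom.transfer φ x = 1 := by
  classical
  haveI := Fintype.ofFinite (Quotient (MulAction.orbitRel (zpowers x) (N ⧸ H)))
  rw [MonoidHom.transfer_eq_prod_quotient_orbitRel_zpowers_quot]
  exact Finset.prod_eq_one fun q _ => h _ _ _

variable {G : Type*} [Group G] [Finite G]

/-- `N₁ ∩ S₂ = 1` -/
theorem eq_one_of_mem (P : Sylow 2 G) (S₁ S₂ : Subgroup G)
    (hcomm : ∀ a ∈ S₁, ∀ b ∈ S₂, a * b = b * a) (hdisj : S₁ ⊓ S₂ = ⊥)
    (h₁ : Cfsg.IsStronglyClosed S₁ (P : Subgroup G)) (h₂ : S₂ ≤ (P : Subgroup G))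
    (hprod : ∀ r ∈ (P : Subgroup G), ∃ a ∈ S₁, ∃ b ∈ S₂, r = a * b)
    (hc : ∀ x ∈ normalClosure (S₁ : Set G), ∀ y ∈ normalClosure (S₂ : Set G), x * y = y * x)
    {z : G} (hz1 : z ∈ normalClosure (S₁ : Set G)) (hz2 : z ∈ S₂) : z = 1 := by
  classical
  haveI : Fact (Nat.Prime 2) := ⟨Nat.prime_two⟩
  set N := normalClosure (S₁ : Set G) with hN
  have hS₁N : S₁ ≤ N := fun a ha => subset_normalClosure ha
  let B : Subgroup G := S₂ ⊓ N
  have hBc : ∀ x y : B, x * y = y * x := fun x y =>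
    Subtype.ext (hc x x.2.2 y (subset_normalClosure y.2.1))
  letI : CommGroup B := { (inferInstance : Group B) with mul_comm := hBc }
  have hcl : ∀ a ∈ S₁, ∀ g : G, g * a * g⁻¹ ∈ (P : Subgroup G) → g * a * g⁻¹ ∈ S₁ := fun a ha g hg => h₁.2 a ha g hg
  -- the projection
  have hdec : ∀ r : ((P : Subgroup G).subgroupOf N), ∃ b : B, ∃ a ∈ S₁, ((r : N) : G) = a * (b : G) := by
    intro r
    obtain ⟨a, ha, b, hb, e⟩ := hprod _ (mem_subgroupOf.1 r.2)
    have hbN : b ∈ N := by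
      have : b = a⁻¹ * ((r : N) : G) := by rw [e, inv_mul_cancel_left]
      rw [this]
      exact mul_mem (inv_mem (hS₁N ha)) (r : N).2
    exact ⟨⟨b, hb, hbN⟩, a, ha, e⟩
  choose f hf using hdec
  have huniq : ∀ {a a' b b' : G}, a ∈ S₁ → a' ∈ S₁ → b ∈ S₂ → b' ∈ S₂ → a * b = a' * b' → b = b' := by
    intro a a' b b' ha ha' hb hb' e
    have h1 : a'⁻¹ * a = b' * b⁻¹ := by
      rw [inv_mul_eq_iff_eq_mul, ← mul_assoc, ← e, mul_inv_cancel_right]
    have h0 : b' * b⁻¹ ∈ S₁ := by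
      rw [← h1]; exact mul_mem (inv_mem ha') ha
    have h2 : b' * b⁻¹ ∈ S₁ ⊓ S₂ := ⟨h0, S₂.mul_mem hb' (S₂.inv_mem hb)⟩
    rw [hdisj, mem_bot, mul_inv_eq_one] at h2
    exact h2.symm
  let φ : (P : Subgroup G).subgroupOf N →* B := MonoidHom.mk' f (by
    intro r s
    obtain ⟨a, ha, e⟩ := hf r
    obtain ⟨a', ha', e'⟩ := hf s
    obtain ⟨a'', ha'', e''⟩ := hf (r * s)
    apply Subtype.ext
    refine huniq ha'' (mul_mem ha ha') (f (r * s)).2.1 (mul_mem (f r).2.1 (f s).2.1) ?_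
    rw [← e'']
    change ((r : N) : G) * ((s : N) : G) = _
    rw [e, e', Subgroup.coe_mul]
    have h1 := hcomm a' ha' (f r : G) (f r).2.1
    calc a * (f r : G) * (a' * (f s : G)) = a * ((f r : G) * a') * (f s : G) := by group
      _ = a * (a' * (f r : G)) * (f s : G) := by rw [h1]
      _ = a * a' * ((f r : G) * (f s : G)) := by group)
  have hφ : ∀ (r : (P : Subgroup G).subgroupOf N), ((r : N) : G) ∈ S₁ → φ r = 1 := by
    intro r hr
    obtain ⟨a, ha, e⟩ := hf r
    apply Subtype.ext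
    refine (huniq (a := a) (a' := ((r : N) : G)) ha hr (f r).2.1 (one_mem _) ?_)
    exact e.symm.trans (mul_one _).symm
  let τ : N →* B := MonoidHom.transfer φ
  -- `τ` is trivial
  have hτ : ∀ x (hx : x ∈ N), τ ⟨x, hx⟩ = 1 := by
    have key : ∀ a ∈ S₁, ∀ (g : G) (hx : g * a * g⁻¹ ∈ N), τ ⟨g * a * g⁻¹, hx⟩ = 1 := by
      intro a ha g hx
      refine transfer_eq_one φ _ fun h n hm => ?_
      apply hφ
      have hm' : (h : G)⁻¹ * (g * a * g⁻¹) ^ n * (h : G) ∈ (P : Subgroup G) := mem_subgroupOf.1 hm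
      have e : (h : G)⁻¹ * (g * a * g⁻¹) ^ n * (h : G) = ((h : G)⁻¹ * g) * a ^ n * ((h : G)⁻¹ * g)⁻¹ := by
        rw [conj_pow]; group
      change (h : G)⁻¹ * (g * a * g⁻¹) ^ n * (h : G) ∈ S₁
      rw [e] at hm' ⊢
      exact hcl _ (pow_mem ha n) _ hm'
    intro x hx
    have : ∀ y ∈ closure (Group.conjugatesOfSet (S₁ : Set G)), ∀ hy : y ∈ N, τ ⟨y, hy⟩ = 1 := by
      intro y hy
      induction hy using closure_induction with
      | mem y hy =>
        intro hyN
        rw [Group.mem_conjugatesOfSet_iff] at hy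
        obtain ⟨a, ha, hy⟩ := hy
        obtain ⟨g, rfl⟩ := isConj_iff.1 hy
        exact key a ha g hyN
      | one => intro h; exact map_one τ
      | mul y w hy hw ihy ihw =>
        intro h
        have hyN : y ∈ N := hy
        have hwN : w ∈ N := hw
        have : (⟨y * w, h⟩ : N) = ⟨y, hyN⟩ * ⟨w, hwN⟩ := rfl
        rw [this, map_mul, ihy, ihw, one_mul]
      | inv y hy ihy =>
        intro h
        have hyN : y ∈ N := hy
        have : (⟨y⁻¹, h⟩ : N) = (⟨y, hyN⟩)⁻¹ := rfl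
        rw [this, map_inv, ihy, inv_one]
    exact this x hx hx
  -- but it raises `z` to an odd power
  have hzN : ∀ y ∈ N, y * z = z * y := fun y hy => hc y hy z (subset_normalClosure hz2)
  have hzP : z ∈ (P : Subgroup G) := h₂ hz2
  have h3 : τ ⟨z, hz1⟩ = φ ⟨(⟨z, hz1⟩ : N) ^ ((P : Subgroup G).subgroupOf N).index, _⟩ :=
    MonoidHom.transfer_eq_pow φ (⟨z, hz1⟩ : N) (by
      intro k g _
      apply Subtype.ext
      change (g : G)⁻¹ * z ^ k * (g : G) = z ^ k
      have h : Commute (g : G) (z ^ k) := (show Commute (g : G) z from hzN g g.2).pow_right k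
      rw [mul_assoc, ← h.eq, inv_mul_cancel_left])
  rw [hτ z hz1] at h3
  set m := ((P : Subgroup G).subgroupOf N).index with hm
  have h4 : z ^ m = 1 := by
    obtain ⟨a, ha, e⟩ := hf ⟨(⟨z, hz1⟩ : N) ^ m, MonoidHom.transfer_eq_pow_aux (⟨z, hz1⟩ : N) (by
      intro k g _
      apply Subtype.ext
      change (g : G)⁻¹ * z ^ k * (g : G) = z ^ k
      have h : Commute (g : G) (z ^ k) := (show Commute (g : G) z from hzN g g.2).pow_right k
      rw [mul_assoc, ← h.eq, inv_mul_cancel_left])⟩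
    have h5 : (f ⟨(⟨z, hz1⟩ : N) ^ m, MonoidHom.transfer_eq_pow_aux (⟨z, hz1⟩ : N) (by
      intro k g _
      apply Subtype.ext
      change (g : G)⁻¹ * z ^ k * (g : G) = z ^ k
      have h : Commute (g : G) (z ^ k) := (show Commute (g : G) z from hzN g g.2).pow_right k
      rw [mul_assoc, ← h.eq, inv_mul_cancel_left])⟩ : G) = 1 := congrArg Subtype.val h3.symm
    rw [h5, mul_one] at e
    change z ^ m = a at e
    have h6 : z ^ m ∈ S₁ ⊓ S₂ := ⟨e ▸ ha, pow_mem hz2 m⟩
    rwa [hdisj, mem_bot] at h6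
  have hodd : ¬ 2 ∣ m := by
    intro h2
    exact Cfsg.Agent.Lib.SylowNormalInf.not_dvd_relIndex P N h2
  obtain ⟨k, hk⟩ := (IsPGroup.iff_orderOf.1 P.isPGroup') ⟨z, hzP⟩
  rw [orderOf_mk] at hk
  have h8 : orderOf z ∣ m := orderOf_dvd_of_pow_eq_one h4
  rw [hk] at h8
  rcases Nat.eq_zero_or_pos k with rfl | hk0
  · rw [pow_zero, orderOf_eq_one_iff] at hk; exact hk
  · exact absurd ((dvd_pow_self 2 hk0.ne').trans h8) hodd

/-- the second half of the product theorem when `P = S₁ S₂` -/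
theorem inf_eq_bot (hO : Cfsg.oddCore G = ⊥) (P : Sylow 2 G) (S₁ S₂ : Subgroup G)
    (hcomm : ∀ a ∈ S₁, ∀ b ∈ S₂, a * b = b * a) (hdisj : S₁ ⊓ S₂ = ⊥)
    (h₁ : Cfsg.IsStronglyClosed S₁ (P : Subgroup G)) (h₂ : Cfsg.IsStronglyClosed S₂ (P : Subgroup G))
    (hprod : ∀ r ∈ (P : Subgroup G), ∃ a ∈ S₁, ∃ b ∈ S₂, r = a * b)
    (hc : ⁅normalClosure (S₁ : Set G), normalClosure (S₂ : Set G)⁆ = ⊥) :
    normalClosure (S₁ : Set G) ⊓ normalClosure (S₂ : Set G) = ⊥ := by
  classical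
  haveI : Fact (Nat.Prime 2) := ⟨Nat.prime_two⟩
  have hc' : ∀ x ∈ normalClosure (S₁ : Set G), ∀ y ∈ normalClosure (S₂ : Set G), x * y = y * x := by
    intro x hx y hy
    have h := Subgroup.commutator_mem_commutator hx hy
    rw [hc, mem_bot, commutatorElement_eq_one_iff_mul_comm] at h
    exact h
  set Z := normalClosure (S₁ : Set G) ⊓ normalClosure (S₂ : Set G) with hZ
  haveI : Z.Normal := by rw [hZ]; infer_instance
  have hZ2 : IsPGroup 2 Z := isPGroup_of_abelian_normal hO fun x hx y hy => hc' x hx.1 y hy.2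
  have hZP : Z ≤ (P : Subgroup G) := by
    obtain ⟨Q, hQ⟩ := hZ2.exists_le_sylow
    obtain ⟨g, hg⟩ := MulAction.exists_smul_eq G Q P
    intro z hz
    have h1 : g⁻¹ * z * g ∈ (Q : Subgroup G) := hQ (by
      have := (inferInstance : Z.Normal).conj_mem z hz g⁻¹
      rwa [inv_inv] at this)
    rw [← hg]
    have h2 : g * (g⁻¹ * z * g) * g⁻¹ = z := by group
    rw [← h2]
    exact Subgroup.smul_mem_pointwise_smul _ (MulAut.conj g) _ h1
  rw [eq_bot_iff]
  intro z hz
  obtain ⟨a, ha, b, hb, e⟩ := hprod z (hZP hz)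
  have haN : a ∈ normalClosure (S₁ : Set G) := subset_normalClosure ha
  have hbN : b ∈ normalClosure (S₂ : Set G) := subset_normalClosure hb
  have hb1 : b = 1 := by
    refine eq_one_of_mem P S₁ S₂ hcomm hdisj h₁ h₂.1 hprod hc' ?_ hb
    have : b = a⁻¹ * z := by rw [e, inv_mul_cancel_left]
    rw [this]
    exact mul_mem (inv_mem haN) hz.1
  have ha1 : a = 1 := by
    refine eq_one_of_mem P S₂ S₁ (fun x hx y hy => (hcomm y hy x hx).symm) (by rw [inf_comm]; exact hdisj) h₂ h₁.1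
      (fun r hr => ?_) (fun x hx y hy => (hc' y hy x hx).symm) ?_ ha
    · obtain ⟨u, hu, v, hv, e'⟩ := hprod r hr
      exact ⟨v, hv, u, hu, by rw [e', hcomm u hu v hv]⟩
    · have : a = z * b⁻¹ := by rw [e, mul_inv_cancel_right]
      rw [this]
      exact mul_mem hz.2 (inv_mem hbN)
  rw [e, ha1, hb1, mul_one]
  exact one_mem _

end Cfsg.Agent.TwoFusion.FullProduct
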