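import Cfsg.Agent.TwoFusion.GoldSolid

/-!
# Goldschmidt's theorem: active components if the family has order four on a Sylow subgroup

Let `O(X) = 1` and let `𝒜` be an elementary closed family with `|𝒜 ∩ T| ≤ 4` for a Sylow 2-subgroup `T`, `L` a
component with `Act 𝒜 L`. Then `|𝒜 ∩ T| = 4`, `𝒜 ∩ T ≤ L`, `𝒜 ∩ T ∩ C(L) = 1`, `L` is the only active component,
normal and contains the whole family.
-/

set_option autoImplicit false
set_option linter.style.haveILetI false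

namespace Cfsg.Agent.TwoFusion.GoldActFour

open Subgroup
open Cfsg.Agent.TwoFusion.ClosedFam Cfsg.Agent.TwoFusion.Gold Cfsg.Agent.TwoFusion.GoldSetup
open Cfsg.Agent.TwoFusion.ClosedLocal
open scoped commutatorElement Pointwise

universe u

variable {X : Type u} [Group X] [Finite X] {𝒜 : Set X}

/-- The image of the family in the simple quotient of `L`. -/
def famQ (𝒜 : Set X) (L : Subgroup X) : Set (↥L ⧸ center ↥L) :=
  (QuotientGroup.mk' (center ↥L)) '' {l : L | (l : X) ∈ 𝒜}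

theorem isElemFam_famQ (h : IsElemFam 𝒜) (L : Subgroup X) : IsElemFam (famQ 𝒜 L) :=
  (h.restrict L).image (QuotientGroup.mk'_surjective _)

omit [Finite X] in
theorem exists_ne_one (L : Subgroup X) (ha : Act 𝒜 L) : ∃ b ∈ famQ 𝒜 L, b ≠ 1 := by
  obtain ⟨x₀, hx₀, hx₀L, y₀, hy₀, hxy₀⟩ := ha
  refine ⟨QuotientGroup.mk' (center ↥L) ⟨x₀, hx₀L⟩, ⟨⟨x₀, hx₀L⟩, hx₀, rfl⟩, ?_⟩
  intro e
  have h1 : (⟨x₀, hx₀L⟩ : L) ∈ center ↥L := by
    rw [← QuotientGroup.ker_mk' (center ↥L)]; exact e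
  have h2 := mem_center_iff.1 h1 ⟨y₀, hy₀⟩
  exact hxy₀ (congrArg Subtype.val h2).symm

/-- The trace of the family of the simple quotient has order at least four. -/
theorem four_le_card_famQ (h : IsElemFam 𝒜) {L : Subgroup X} (hL : Cfsg.IsComponent L) (ha : Act 𝒜 L)
    (T' : Sylow 2 (↥L ⧸ center ↥L)) : 4 ≤ Nat.card (fam (famQ 𝒜 L) (T' : Subgroup (↥L ⧸ center ↥L))) := by
  haveI : Fact (Nat.Prime 2) := ⟨Nat.prime_two⟩
  have hB := isElemFam_famQ h L
  have h1 := GoldSolid.fam_ne_bot_of hB (exists_ne_one L ha) T'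
  have h2 := GoldSolid.card_ne_two_of hL.2.2 (GoldSolid.quasisimple_nonab hL.2) hB T'
  obtain ⟨k, hk⟩ := IsPGroup.iff_card.1 (isPGroup_fam (famQ 𝒜 L) T'.2)
  rw [hk] at h2 ⊢
  match k, h2, hk with
  | 0, _, hk => exact absurd (Subgroup.card_eq_one.1 (by rw [hk]; norm_num)) h1
  | 1, h2, _ => exact absurd rfl h2
  | k + 2, _, _ =>
    rw [pow_add]
    have := Nat.one_le_two_pow (n := k)
    omega

/-- The Sylow 2-subgroup of the quotient covered by `T`. -/
theorem exists_sylow_quot (T : Sylow 2 X) {L : Subgroup X} (hL : Cfsg.IsComponent L) :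
    ∃ T' : Sylow 2 (↥L ⧸ center ↥L), (T' : Subgroup (↥L ⧸ center ↥L)) =
      ((T : Subgroup X).subgroupOf L).map (QuotientGroup.mk' (center ↥L)) := by
  haveI : Fact (Nat.Prime 2) := ⟨Nat.prime_two⟩
  obtain ⟨P, hP⟩ := Cfsg.Agent.TwoFusion.Gold.exists_sylow_subgroupOf T hL.1
  refine ⟨P.mapSurjective (QuotientGroup.mk'_surjective _), ?_⟩
  rw [Sylow.coe_mapSurjective, hP]

/-- The elements of the trace upstairs cover those downstairs. -/
theorem exists_of_mem_fam (h : IsElemFam 𝒜) (T : Sylow 2 X) {L : Subgroup X} (hL : Cfsg.IsComponent L)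
    {T' : Sylow 2 (↥L ⧸ center ↥L)} (hT' : (T' : Subgroup (↥L ⧸ center ↥L)) =
      ((T : Subgroup X).subgroupOf L).map (QuotientGroup.mk' (center ↥L)))
    {b : ↥L ⧸ center ↥L} (hb : b ∈ fam (famQ 𝒜 L) (T' : Subgroup (↥L ⧸ center ↥L))) :
    ∃ l : L, (l : X) ∈ fam 𝒜 (T : Subgroup X) ∧ QuotientGroup.mk' (center ↥L) l = b := by
  haveI : Fact (Nat.Prime 2) := ⟨Nat.prime_two⟩
  have hB := isElemFam_famQ h L
  obtain ⟨P, hP⟩ := Cfsg.Agent.TwoFusion.Gold.exists_sylow_subgroupOf T hL.1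
  obtain ⟨⟨l, hl, hlb⟩, hbT⟩ := (hB.toIsClosedFam.mem_fam_iff T'.2).1 hb
  rw [hT'] at hbT
  obtain ⟨t, ht, htb⟩ := hbT
  refine ⟨l, mem_fam hl ?_, hlb⟩
  -- `l` normalizes the Sylow subgroup `P`
  have hz : t⁻¹ * l ∈ center ↥L := by
    rw [← QuotientGroup.ker_mk' (center ↥L), MonoidHom.mem_ker, map_mul, map_inv, htb, hlb]
    group
  have htP : t ∈ (P : Subgroup L) := by rw [hP]; exact ht
  have hln : l ∈ normalizer ((P : Subgroup L) : Set L) := by
    have e : l = t * (t⁻¹ * l) := by group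
    rw [e]
    refine mul_mem (le_normalizer htP) ?_
    rw [mem_normalizer_iff]
    intro x
    have e2 : t⁻¹ * l * x * (t⁻¹ * l)⁻¹ = x := by
      rw [← mem_center_iff.1 hz x]; group
    rw [e2]
  have hlp : IsPGroup 2 (zpowers l) := (h.restrict L).toIsClosedFam.isPGroup_zpowers hl
  have h5 := P.is_maximal' (IsPGroup.to_sup_of_normal_right' hlp P.2 (by rw [zpowers_le]; exact hln)) le_sup_right
  have h6 : l ∈ (P : Subgroup L) := by
    rw [← h5]
    exact mem_sup_left (mem_zpowers l)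
  rw [hP] at h6
  exact h6

section Four

variable (h : IsElemFam 𝒜) (T : Sylow 2 X) (hcard : Nat.card (fam 𝒜 (T : Subgroup X)) ≤ 4)
  {L : Subgroup X} (hL : Cfsg.IsComponent L) (ha : Act 𝒜 L)

include h hcard hL ha

/-- The main counting argument. -/
theorem main_aux : Nat.card (fam 𝒜 (T : Subgroup X)) = 4 ∧ fam 𝒜 (T : Subgroup X) ≤ L ∧
    (∀ b ∈ fam 𝒜 (T : Subgroup X), (∀ l ∈ L, b * l = l * b) → b = 1) ∧
    ∀ T' : Sylow 2 (↥L ⧸ center ↥L), Nat.card (fam (famQ 𝒜 L) (T' : Subgroup (↥L ⧸ center ↥L))) = 4 := by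
  classical
  obtain ⟨T', hT'⟩ := exists_sylow_quot T hL
  have h4 := four_le_card_famQ h hL ha T'
  -- the surjection
  let φ : ↥((fam 𝒜 (T : Subgroup X)).subgroupOf L) →* ↥L ⧸ center ↥L :=
    (QuotientGroup.mk' (center ↥L)).comp (Subgroup.subtype _)
  have hle : fam (famQ 𝒜 L) (T' : Subgroup (↥L ⧸ center ↥L)) ≤ φ.range := by
    intro b hb
    obtain ⟨l, hl, hlb⟩ := exists_of_mem_fam h T hL hT' hb
    exact ⟨⟨l, hl⟩, hlb⟩
  have h5 : Nat.card φ.range ≤ Nat.card ↥((fam 𝒜 (T : Subgroup X)).subgroupOf L) :=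
    Nat.card_le_card_of_surjective φ.rangeRestrict φ.rangeRestrict_surjective
  have h6 : Nat.card ↥((fam 𝒜 (T : Subgroup X)).subgroupOf L) =
      Nat.card ↥(fam 𝒜 (T : Subgroup X) ⊓ L) := by
    rw [← inf_subgroupOf_right, Nat.card_congr (subgroupOfEquivOfLe (inf_le_right :
      fam 𝒜 (T : Subgroup X) ⊓ L ≤ L)).toEquiv]
  have h7 : Nat.card ↥(fam 𝒜 (T : Subgroup X) ⊓ L) ≤ Nat.card (fam 𝒜 (T : Subgroup X)) :=
    card_le_of_le inf_le_left
  have h8 := card_le_of_le hle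
  have h9 : fam 𝒜 (T : Subgroup X) ⊓ L = fam 𝒜 (T : Subgroup X) :=
    eq_of_le_of_card_ge inf_le_left (by omega)
  have h10 : Nat.card φ.range = Nat.card ↥((fam 𝒜 (T : Subgroup X)).subgroupOf L) := by omega
  have hinj : Function.Injective φ := by
    have h11 : Function.Bijective φ.rangeRestrict :=
      (Nat.bijective_iff_surjective_and_card _).2 ⟨φ.rangeRestrict_surjective, h10.symm⟩
    intro x y hxy
    exact h11.1 (Subtype.ext hxy)
  refine ⟨by omega, inf_eq_left.1 h9, ?_, ?_⟩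
  · intro b hb hbc
    have hbL : b ∈ L := (inf_eq_left.1 h9) hb
    have h12 : φ ⟨⟨b, hbL⟩, hb⟩ = φ 1 := by
      rw [map_one]
      change QuotientGroup.mk' (center ↥L) ⟨b, hbL⟩ = 1
      rw [← MonoidHom.mem_ker, QuotientGroup.ker_mk', mem_center_iff]
      intro g
      exact Subtype.ext (hbc g g.2).symm
    have h13 := hinj h12
    exact congrArg (fun z : ↥((fam 𝒜 (T : Subgroup X)).subgroupOf L) => ((z : L) : X)) h13
  · intro T''
    rw [card_fam_sylow (isElemFam_famQ h L).toIsClosedFam T'' T']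
    omega

theorem card_eq : Nat.card (fam 𝒜 (T : Subgroup X)) = 4 := (main_aux h T hcard hL ha).1

theorem fam_le : fam 𝒜 (T : Subgroup X) ≤ L := (main_aux h T hcard hL ha).2.1

theorem eq_one_of_comm {b : X} (hb : b ∈ fam 𝒜 (T : Subgroup X)) (hc : ∀ l ∈ L, b * l = l * b) : b = 1 :=
  (main_aux h T hcard hL ha).2.2.1 b hb hc

theorem card_famQ (T' : Sylow 2 (↥L ⧸ center ↥L)) :
    Nat.card (fam (famQ 𝒜 L) (T' : Subgroup (↥L ⧸ center ↥L))) = 4 := (main_aux h T hcard hL ha).2.2.2 T'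

theorem exists_ne : ∃ b ∈ fam 𝒜 (T : Subgroup X), b ≠ 1 := by
  by_contra hcon
  push Not at hcon
  have h1 : fam 𝒜 (T : Subgroup X) = ⊥ := by
    rw [eq_bot_iff]; intro x hx; rw [mem_bot]; exact hcon x hx
  have h2 := card_eq h T hcard hL ha
  rw [h1, card_bot] at h2
  omega

/-- There is only one active component. -/
theorem unique {M : Subgroup X} (hM : Cfsg.IsComponent M) (ha' : Act 𝒜 M) : M = L := by
  by_contra hne
  have hcom := Cfsg.Agent.S1270.component_comm_of_ne hM hL hne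
  obtain ⟨b, hb, hb1⟩ := exists_ne h T hcard hL ha
  apply hb1
  refine eq_one_of_comm h T hcard hL ha hb ?_
  intro l hl
  have h1 : b ∈ M := fam_le h T hcard hM ha' hb
  exact mem_centralizer_iff.1 (commutator_eq_bot_iff_le_centralizer.1 hcom h1) l hl |>.symm

theorem normal : L.Normal := by
  refine ⟨fun x hx g => ?_⟩
  have h1 := Cfsg.Agent.S1270.component_conj hL g
  have h2 := unique h T hcard hL ha h1 (GoldLayer.act_conj h ha g)
  rw [← h2]
  exact ⟨x, hx, rfl⟩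

theorem mem_of_mem {x : X} (hx : x ∈ 𝒜) : x ∈ L := by
  obtain ⟨g, hg⟩ := GoldLayer.exists_conj_mem h T hx
  have h1 := (normal h T hcard hL ha).conj_mem _ (fam_le h T hcard hL ha hg) g⁻¹
  have e : g⁻¹ * (g * x * g⁻¹) * g⁻¹⁻¹ = x := by group
  rwa [e] at h1

/-- The Sylow 2-subgroup of `L` centralizes the family if the involutions of the simple quotient are
2-central. -/
theorem comm_of_mem (hcen : ∀ S : Sylow 2 (↥L ⧸ center ↥L), ∀ x ∈ S, x * x = 1 → ∀ s ∈ S, s * x = x * s)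
    {b : X} (hb : b ∈ fam 𝒜 (T : Subgroup X)) {t : X} (ht : t ∈ T) (htL : t ∈ L) : b * t = t * b := by
  obtain ⟨T', hT'⟩ := exists_sylow_quot T hL
  have hbL := fam_le h T hcard hL ha hb
  have hb' := (h.toIsClosedFam.mem_fam_iff T.2).1 hb
  have h1 : QuotientGroup.mk' (center ↥L) ⟨b, hbL⟩ ∈ T' := by
    change _ ∈ (T' : Subgroup (↥L ⧸ center ↥L))
    rw [hT']
    exact ⟨⟨b, hbL⟩, hb'.2, rfl⟩
  have h2 : QuotientGroup.mk' (center ↥L) ⟨t, htL⟩ ∈ T' := by
    change _ ∈ (T' : Subgroup (↥L ⧸ center ↥L))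
    rw [hT']
    exact ⟨⟨t, htL⟩, ht, rfl⟩
  have h3 := hcen T' _ h1 (by
    rw [← map_mul]
    have : (⟨b, hbL⟩ : L) * ⟨b, hbL⟩ = 1 := Subtype.ext (h.sq b hb'.1)
    rw [this, map_one]) _ h2
  -- the commutator lies in the centre and in the family
  have h4 : (⟨t, htL⟩ * ⟨b, hbL⟩ * ⟨t, htL⟩⁻¹ * ⟨b, hbL⟩⁻¹ : L) ∈ center ↥L := by
    rw [← QuotientGroup.ker_mk' (center ↥L), MonoidHom.mem_ker, map_mul, map_mul, map_mul, map_inv, map_inv, h3]
    group
  have h5 : t * b * t⁻¹ * b⁻¹ ∈ fam 𝒜 (T : Subgroup X) := by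
    refine mul_mem (h.toIsClosedFam.conj_mem_fam (fun x hx => ?_) hb) (inv_mem hb)
    exact mul_mem (mul_mem ht hx) (inv_mem ht)
  have h6 := eq_one_of_comm h T hcard hL ha h5 (fun l hl => by
    have := mem_center_iff.1 h4 ⟨l, hl⟩
    exact (congrArg Subtype.val this).symm)
  rw [mul_inv_eq_one, mul_inv_eq_iff_eq_mul] at h6
  exact h6.symm

end Four

end Cfsg.Agent.TwoFusion.GoldActFour
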