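import Cfsg.Agent.SignalizersComponents.IntrinsicBalance
import Cfsg.Agent.SignalizersComponents.IntrinsicLift
import Cfsg.Agent.SignalizersComponents.IntrinsicTools

/-!
# Goldschmidt's theorem, L-balance: auxiliary results on 2-components

* `cenMod_iff`: if `H ≤ X` and the 2-component `L` of `H` covers the 2-component `K` of `X` modulo
  `O(X)`, then an element of `H` centralizes `L` modulo `O(H)` iff it centralizes `K` modulo `O(X)`;
* `exists_not_le`: a 2-component of `C_Y(v)` does not centralize all 2-components of `Y`.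
-/

set_option autoImplicit false
set_option linter.unusedSectionVars false

namespace Cfsg.Agent.TwoFusion.GoldBalanceAux

open Subgroup Cfsg
open scoped commutatorElement
open Cfsg.Agent.SignalizersComponents
open Cfsg.Agent.SignalizersComponents.IntrinsicBasic Cfsg.Agent.SignalizersComponents.IntrinsicIntr
open Cfsg.Agent.SignalizersComponents.PLayerAut Cfsg.Agent.SignalizersComponents.IntrinsicBalance
open Cfsg.Agent.SignalizersComponents.IntrinsicTools Cfsg.Agent.SignalizersComponents.IntrinsicLift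

variable {G : Type*} [Group G] [Finite G]

theorem two_dvd_card {X K : Subgroup G} (hK : TC X K) : 2 ∣ Nat.card K := by
  have : Fact (Nat.Prime 2) := ⟨Nat.prime_two⟩
  have h1 := Lib.PComponents.prime_dvd_card_pcomp hK.comp
  rwa [Nat.card_congr (subgroupOfEquivOfLe hK.le).toEquiv] at h1

/-- A 2-component does not centralize itself modulo the core. -/
theorem not_le_cenMod {X K : Subgroup G} (hK : TC X K) : ¬ K ≤ cenMod X K := by
  intro h
  have h1 : ⁅K, K⁆ ≤ relCore 2 X := by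
    rw [Subgroup.commutator_le]
    intro a ha b hb
    have h2 := ((mem_cenMod hK.le).1 (h ha)).2 b hb
    have h3 := conj_mem_relCore' (hK.le hb) h2
    have h4 : b * (b⁻¹ * (a * b * a⁻¹)) * b⁻¹ = ⁅a, b⁆ := by
      rw [commutatorElement_def]; group
    rwa [h4] at h3
  rw [hK.perfect] at h1
  have h2 := two_dvd_card hK
  have h3 := h2.trans (Subgroup.card_dvd_of_le h1)
  have h4 := odd_card_relCore X
  exact (Nat.not_even_iff_odd.2 h4) (even_iff_two_dvd.2 h3)

theorem relCore_inf_le {X H : Subgroup G} (hH : H ≤ X) : relCore 2 X ⊓ H ≤ relCore 2 H := by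
  refine le_relCore inf_le_right ?_ ?_
  · refine ⟨fun x hx g => ?_⟩
    rw [mem_subgroupOf, mem_inf] at hx ⊢
    exact ⟨conj_mem_relCore' (hH g.2) hx.1, H.mul_mem (H.mul_mem g.2 hx.2) (H.inv_mem g.2)⟩
  · exact Odd.of_dvd_nat (odd_card_relCore X) (Subgroup.card_dvd_of_le inf_le_left)

/-- The core of the covering 2-component centralizes the covered one. -/
theorem inf_le_cenMod {X K H L : Subgroup G} (hK : TC X K) (hH : H ≤ X) (hL : TC H L)
    (hLK : L ≤ K) (hcov : ∀ k ∈ K, ∃ l ∈ L, l⁻¹ * k ∈ relCore 2 X) :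
    relCore 2 H ⊓ L ≤ cenMod X K := by
  set R := relCore 2 H ⊓ L with hR
  have hRX : R ≤ X := inf_le_right.trans (hL.le.trans hH)
  -- `R` normalizes the core of `X`
  have hRn : R ≤ normalizer (relCore 2 X : Set G) := by
    intro r hr
    exact normalizer_le_normalizer_relCore 2 X (le_normalizer (hRX hr))
  have hmem : ∀ x, x ∈ R ⊔ relCore 2 X ↔ ∃ r ∈ R, ∃ c ∈ relCore 2 X, x = r * c := by
    intro x
    constructor
    · intro hx
      have h1 : x ∈ ((R ⊔ relCore 2 X : Subgroup G) : Set G) := hx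
      rw [Subgroup.coe_mul_of_left_le_normalizer_right _ _ hRn] at h1
      obtain ⟨r, hr, c, hc, rfl⟩ := h1
      exact ⟨r, hr, c, hc, rfl⟩
    · rintro ⟨r, hr, c, hc, rfl⟩
      exact mul_mem (mem_sup_left hr) (mem_sup_right hc)
  have hodd : Odd (Nat.card ↥(R ⊔ relCore 2 X)) := by
    have h1 : Nat.card ↥(R ⊔ relCore 2 X) ∣ Nat.card (relCore 2 X) * Nat.card R := by
      rw [sup_comm]
      exact CoprimeBasic.card_sup_dvd hRn
    refine Odd.of_dvd_nat ?_ h1
    exact (odd_card_relCore X).mul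
      (Odd.of_dvd_nat (odd_card_relCore H) (Subgroup.card_dvd_of_le inf_le_left))
  have hconjL : ∀ l ∈ L, ∀ x ∈ R ⊔ relCore 2 X, l * x * l⁻¹ ∈ R ⊔ relCore 2 X := by
    intro l hl x hx
    obtain ⟨r, hr, c, hc, rfl⟩ := (hmem x).1 hx
    refine (hmem _).2 ⟨l * r * l⁻¹, ?_, l * c * l⁻¹, ?_, by group⟩
    · exact mem_inf.2 ⟨conj_mem_relCore' (hL.le hl) hr.1, L.mul_mem (L.mul_mem hl hr.2) (L.inv_mem hl)⟩
    · exact conj_mem_relCore' (hH (hL.le hl)) hc
  have hN := normal_cases hK (N := (R ⊔ relCore 2 X) ⊓ K) inf_le_right (by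
    intro k hk n hn
    rw [mem_inf] at hn ⊢
    refine ⟨?_, K.mul_mem (K.mul_mem hk hn.2) (K.inv_mem hk)⟩
    obtain ⟨l, hl, hlk⟩ := hcov k hk
    have h1 : (l⁻¹ * k) * n * (l⁻¹ * k)⁻¹ ∈ R ⊔ relCore 2 X :=
      mul_mem (mul_mem (mem_sup_right hlk) hn.1) (inv_mem (mem_sup_right hlk))
    have h2 := hconjL l hl _ h1
    have h3 : l * ((l⁻¹ * k) * n * (l⁻¹ * k)⁻¹) * l⁻¹ = k * n * k⁻¹ := by group
    rwa [h3] at h2)
  rcases hN with hN | hN
  · exfalso
    have h1 : K ≤ R ⊔ relCore 2 X := by rw [← hN]; exact inf_le_left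
    have h2 := (two_dvd_card hK).trans (Subgroup.card_dvd_of_le h1)
    exact (Nat.not_even_iff_odd.2 hodd) (even_iff_two_dvd.2 h2)
  · exact (le_inf le_sup_left (inf_le_right.trans hLK)).trans hN

/-- An element of `H ≤ X` centralizes the covering 2-component `L` of `H` modulo `O(H)` iff it
centralizes the covered 2-component `K` of `X` modulo `O(X)`. -/
theorem cenMod_iff {X K H L : Subgroup G} (hK : TC X K) (hH : H ≤ X) (hL : TC H L)
    (hLK : L ≤ K) (hcov : ∀ k ∈ K, ∃ l ∈ L, l⁻¹ * k ∈ relCore 2 X) {h : G} (hh : h ∈ H) :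
    h ∈ cenMod H L ↔ h ∈ cenMod X K := by
  constructor
  · intro hc
    have hc' := (mem_cenMod hL.le).1 hc
    -- `L` does not centralize `K`
    have h1 : ¬ L ≤ cenMod X K := by
      intro hle
      apply not_le_cenMod hK
      intro k hk
      obtain ⟨l, hl, hlk⟩ := hcov k hk
      have := mul_mem (hle hl) (relCore_le_cenMod X K hlk)
      rwa [mul_inv_cancel_left] at this
    have hnL : h ∈ normalizer (L : Set G) := hL.cenMod_le_normalizer hc
    have hLcj : cj h L = L := mem_normalizer_iff_cj.1 hnL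
    -- `h` normalizes `K`
    have hKcj : cj h K = K := by
      by_contra hne
      apply h1
      have h2 : TC X (cj h K) := hK.cj_of_mem (le_normalizer (hH hh))
      calc L = cj h L := hLcj.symm
        _ ≤ cj h K := cj_mono hLK
        _ ≤ cenMod X K := hK.le_cenMod h2 (fun e => hne e.symm)
    refine mem_cenMod_of_commutator hK (hH hh) hKcj ?_
    intro k hk
    obtain ⟨l, hl, hlk⟩ := hcov k hk
    have h3 : h * l * h⁻¹ * l⁻¹ ∈ relCore 2 H ⊓ L := by
      refine mem_inf.2 ⟨?_, ?_⟩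
      · have h4 := conj_mem_relCore' (hL.le hl) (hc'.2 l hl)
        have h5 : l * (l⁻¹ * (h * l * h⁻¹)) * l⁻¹ = h * l * h⁻¹ * l⁻¹ := by group
        rwa [h5] at h4
      · exact L.mul_mem ((mem_normalizer_iff.1 hnL l).1 hl) (L.inv_mem hl)
    have h4 := inf_le_cenMod hK hH hL hLK hcov h3
    have h5 : h * (l⁻¹ * k) * h⁻¹ * (l⁻¹ * k)⁻¹ ∈ relCore 2 X :=
      mul_mem (conj_mem_relCore' (hH hh) hlk) (inv_mem hlk)
    have h6 := relCore_le_cenMod X K (conj_mem_relCore' (hH (hL.le hl)) h5)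
    have h7 : h * k * h⁻¹ * k⁻¹ = (h * l * h⁻¹ * l⁻¹) *
        (l * (h * (l⁻¹ * k) * h⁻¹ * (l⁻¹ * k)⁻¹) * l⁻¹) := by group
    rw [h7]
    exact mul_mem h4 h6
  · intro hc
    have hc' := (mem_cenMod hK.le).1 hc
    rw [mem_cenMod hL.le]
    refine ⟨hh, fun l hl => ?_⟩
    have h1 := hc'.2 l (hLK hl)
    refine relCore_inf_le hH (mem_inf.2 ⟨h1, ?_⟩)
    exact H.mul_mem (H.inv_mem (hL.le hl)) (H.mul_mem (H.mul_mem hh (hL.le hl)) (H.inv_mem hh))

/-- A 2-component of `C_Y(v)` lies in the 2-layer of `Y`. -/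
theorem mem_pLayer {Y A : Subgroup G} {v : G} (hv : v ∈ Y) (hv2 : v * v = 1)
    (hA : TC (Y ⊓ centralizer ({v} : Set G)) A) : A.subgroupOf Y ≤ pLayer 2 ↥Y := by
  have hT : IsPGroup 2 ↥(zpowers (⟨v, hv⟩ : ↥Y)) := by
    rintro ⟨_, n, rfl⟩
    refine ⟨1, ?_⟩
    apply Subtype.ext
    have h1 : (⟨v, hv⟩ : ↥Y) ^ 2 = 1 := by
      apply Subtype.ext
      simpa [pow_two] using hv2
    change ((⟨v, hv⟩ : ↥Y) ^ n) ^ (2 ^ 1) = 1
    rw [pow_one, ← zpow_natCast, ← zpow_mul, mul_comm, zpow_mul, zpow_natCast, h1, one_zpow]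
  have h1 := Cfsg.Agent.S1301.result (X := ↥Y) (zpowers (⟨v, hv⟩ : ↥Y)) hT
  have h2 := isPComponent_map_equiv 2 (centEquiv Y v hv) hA.comp
  intro a ha
  have haA : (a : G) ∈ A := ha
  have ha' : (⟨a, hA.le haA⟩ : ↥(Y ⊓ centralizer ({v} : Set G))) ∈
      A.subgroupOf (Y ⊓ centralizer ({v} : Set G)) := ha
  have h3 : (centEquiv Y v hv) ⟨a, hA.le haA⟩ ∈
      pLayer 2 ↥(centralizer ((zpowers (⟨v, hv⟩ : ↥Y) : Subgroup ↥Y) : Set ↥Y)) :=
    (le_sSup (show _ ∈ {K | IsPComponent 2 K} from h2)) ⟨_, ha', rfl⟩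
  exact h1 ⟨_, h3, rfl⟩

/-- A 2-component of `C_Y(v)` does not centralize all 2-components of `Y`. -/
theorem exists_not_le {Y A : Subgroup G} {v : G} (hv : v ∈ Y) (hv2 : v * v = 1)
    (hA : TC (Y ⊓ centralizer ({v} : Set G)) A) : ∃ M, TC Y M ∧ ¬ A ≤ cenMod Y M := by
  have : Fact (Nat.Prime 2) := ⟨Nat.prime_two⟩
  by_contra hcon
  push Not at hcon
  have hAY : A ≤ Y := hA.le.trans inf_le_left
  set π := QuotientGroup.mk' (oddCore ↥Y) with hπ
  set B := (A.subgroupOf Y).map π with hB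
  have h1 : B ≤ layer (↥Y ⧸ oddCore ↥Y) := by
    rw [hB, ← Lib.PComponents.map_pLayer]
    exact Subgroup.map_mono (mem_pLayer hv hv2 hA)
  have h2 : layer (↥Y ⧸ oddCore ↥Y) ≤ centralizer (B : Set (↥Y ⧸ oddCore ↥Y)) := by
    refine sSup_le fun C hC => ?_
    obtain ⟨M', hM', hMC⟩ := Lib.PComponents.exists_pcomp (p := 2) (X := ↥Y) hC
    have hM : TC Y (M'.map Y.subtype) := by
      refine ⟨map_subtype_le M', ?_⟩
      rw [show (M'.map Y.subtype).subgroupOf Y = M' from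
        comap_map_eq_self_of_injective Y.subtype_injective M']
      exact hM'
    have h3 := hcon _ hM
    have h4 : (M'.map Y.subtype).subgroupOf Y = M' :=
      comap_map_eq_self_of_injective Y.subtype_injective M'
    rw [le_centralizer_iff]
    rintro _ ⟨a, ha, rfl⟩
    have h5 : (a : G) ∈ cenMod Y (M'.map Y.subtype) := h3 ha
    obtain ⟨y, hy, hya⟩ := h5
    have h6 : y = a := Subtype.ext hya
    rw [h4] at hy
    rw [← hMC, ← h6]
    exact hy
  have h3 : ⁅A, A⁆ ≤ relCore 2 Y := by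
    rw [Subgroup.commutator_le]
    intro a ha b hb
    have h4 : π ⟨b, hAY hb⟩ ∈ centralizer (B : Set (↥Y ⧸ oddCore ↥Y)) :=
      h2 (h1 ⟨⟨b, hAY hb⟩, hb, rfl⟩)
    have h5 := mem_centralizer_iff.1 h4 (π ⟨a, hAY ha⟩) ⟨⟨a, hAY ha⟩, ha, rfl⟩
    rw [mem_relCore]
    refine ⟨?_, ?_⟩
    · rw [commutatorElement_def]
      exact Y.mul_mem (Y.mul_mem (Y.mul_mem (hAY ha) (hAY hb)) (Y.inv_mem (hAY ha))) (Y.inv_mem (hAY hb))
    · rw [← QuotientGroup.ker_mk' (oddCore ↥Y), MonoidHom.mem_ker]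
      have h6 : (⟨⁅a, b⁆, by
          rw [commutatorElement_def]
          exact Y.mul_mem (Y.mul_mem (Y.mul_mem (hAY ha) (hAY hb)) (Y.inv_mem (hAY ha)))
            (Y.inv_mem (hAY hb))⟩ : ↥Y) =
          ⟨a, hAY ha⟩ * ⟨b, hAY hb⟩ * ⟨a, hAY ha⟩⁻¹ * ⟨b, hAY hb⟩⁻¹ := rfl
      rw [h6, map_mul, map_mul, map_mul, map_inv, map_inv]
      change π _ * π _ * (π _)⁻¹ * (π _)⁻¹ = 1
      rw [h5]; group
  rw [hA.perfect] at h3
  have h4 := (two_dvd_card hA).trans (Subgroup.card_dvd_of_le h3)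
  exact (Nat.not_even_iff_odd.2 (odd_card_relCore Y)) (even_iff_two_dvd.2 h4)

theorem card_mul_relIndex' {D A : Subgroup G} (hDA : D ≤ A) :
    Nat.card D * D.relIndex A = Nat.card A := by
  rw [← relIndex_bot_left D, ← relIndex_bot_left A]
  exact relIndex_mul_relIndex ⊥ D A bot_le hDA

theorem relIndex_ne_zero' (D A : Subgroup G) : D.relIndex A ≠ 0 :=
  Subgroup.index_ne_zero_of_finite (H := D.subgroupOf A)

/-- Indices in an abelian group. -/
theorem index_aux {B D E : Subgroup G} (hD : D.Normal)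
    (hE : E.Normal) (h1 : ∀ a : G, ∃ b ∈ B, b⁻¹ * a ∈ D) (h2 : B ⊓ E ≤ D)
    (h3 : E.index ≤ D.index) : (∀ a : G, ∃ b ∈ B, b⁻¹ * a ∈ E) ∧ B ⊓ D ≤ E := by
  have e1 : D.index ≤ D.relIndex B := by
    rw [← Subgroup.relIndex_top_right]
    have h4 : B ⊔ D = ⊤ := by
      rw [eq_top_iff]
      intro a _
      obtain ⟨b, hb, hbd⟩ := h1 a
      have := mul_mem (mem_sup_left (S := B) (T := D) hb) (mem_sup_right hbd)
      rwa [mul_inv_cancel_left] at this
    rw [← h4]
    exact (Subgroup.relIndex_sup_right (H := B) (K := D)).le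
  have e2 : D.relIndex B ≤ E.relIndex B := by
    rw [← Subgroup.inf_relIndex_left B E]
    exact Subgroup.relIndex_le_of_le_left h2 (relIndex_ne_zero' _ _)
  have e3 : E.relIndex B ≤ E.index := by
    rw [← Subgroup.relIndex_top_right]
    exact Subgroup.relIndex_le_of_le_right le_top (relIndex_ne_zero' _ _)
  constructor
  · have h4 := (relIndex_le_aux (C := E) (A := B) (K := ⊤) hE (by simp)).2
    rw [Subgroup.relIndex_top_right] at h4
    exact h4 (h3.trans (e1.trans e2))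
  · have e4 : D.relIndex B = E.relIndex B := le_antisymm e2 (e3.trans (h3.trans e1))
    have h5 : B ⊓ E ≤ B ⊓ D := le_inf inf_le_left h2
    have c1 := card_mul_relIndex' (inf_le_left : B ⊓ E ≤ B)
    have c2 := card_mul_relIndex' (inf_le_left : B ⊓ D ≤ B)
    rw [Subgroup.inf_relIndex_left] at c1 c2
    rw [e4] at c2
    have c3 : Nat.card ↥(B ⊓ E) = Nat.card ↥(B ⊓ D) :=
      Nat.eq_of_mul_eq_mul_right (Nat.pos_of_ne_zero (relIndex_ne_zero' E B)) (c1.trans c2.symm)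
    have c4 : B ⊓ E = B ⊓ D := Subgroup.eq_of_le_of_card_ge h5 c3.ge
    rw [← c4]
    exact inf_le_right

end Cfsg.Agent.TwoFusion.GoldBalanceAux
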