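import Cfsg.Agent.TwoFusion.GoldPairs
import Cfsg.Agent.Solvable.Glauberman

/-!
# L-balance for pairs: the end

`L₀` is a subgroup of `C(w) ∩ C(d)` covering the component `L` of `X_w` and the component `M` of `X_d`.
-/

set_option autoImplicit false
set_option linter.style.haveILetI false

open scoped Pointwise

namespace Cfsg.Agent.TwoFusion.GoldBalanceEnd

open Subgroup
open Cfsg.Agent.TwoFusion.ClosedFam Cfsg.Agent.TwoFusion.Gold Cfsg.Agent.TwoFusion.GoldPairDefs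
open Cfsg.Agent.TwoFusion.GoldSetup Cfsg.Agent.TwoFusion.GoldPairs

universe u

variable {G : Type u} [Group G] [Finite G] {𝒜 : Set G} (h : Setup 𝒜) (S : Sylow 2 G)
variable {w d : G} {L : Subgroup (Xw w)} {M : Subgroup (Xw d)} {L₀ : Subgroup G}

omit [Finite G] in
/-- Membership in `DD` in terms of `L₀`. -/
theorem mem_DD_iff {A : Subgroup G} (hAw : A ≤ Cw w) (h0w : L₀ ≤ Cw w)
    (hLw : (L₀.subgroupOf (Cw w)).map (pw w) = L) (hA : A ≤ normalizer (L₀ : Set G)) {a : G} (ha : a ∈ A) :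
    a ∈ DD A w L ↔ ∀ (l : G) (hl : l ∈ L₀) (hc : l * a * l⁻¹ * a⁻¹ ∈ L₀),
      pw w ⟨l * a * l⁻¹ * a⁻¹, h0w hc⟩ = 1 := by
  rw [mem_DD]
  constructor
  · rintro ⟨-, haw, hcen⟩ l hl hc
    have hlL : pw w ⟨l, h0w hl⟩ ∈ L := by
      rw [← hLw]
      exact ⟨⟨l, h0w hl⟩, mem_subgroupOf.2 hl, rfl⟩
    have h1 := (mem_centralizer_iff.1 hcen) _ hlL
    have e : pw w ⟨l * a * l⁻¹ * a⁻¹, h0w hc⟩ =
        pw w ⟨l, h0w hl⟩ * pw w ⟨a, haw⟩ * (pw w ⟨l, h0w hl⟩)⁻¹ * (pw w ⟨a, haw⟩)⁻¹ := by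
      rw [← map_inv, ← map_inv, ← map_mul, ← map_mul, ← map_mul]
      rfl
    rw [e, h1]
    group
  · intro hh
    refine ⟨ha, hAw ha, ?_⟩
    rw [mem_centralizer_iff]
    intro x hx
    rw [← hLw] at hx
    obtain ⟨⟨l, hlw⟩, hl, rfl⟩ := hx
    have hl' : l ∈ L₀ := mem_subgroupOf.1 hl
    have hc : l * a * l⁻¹ * a⁻¹ ∈ L₀ := by
      have e : l * a * l⁻¹ * a⁻¹ = l * (a * l⁻¹ * a⁻¹) := by group
      rw [e]
      exact mul_mem hl' ((mem_normalizer_iff.1 (hA ha) _).1 (inv_mem hl'))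
    have h1 := hh l hl' hc
    have e : pw w ⟨l * a * l⁻¹ * a⁻¹, h0w hc⟩ =
        pw w ⟨l, hlw⟩ * pw w ⟨a, hAw ha⟩ * (pw w ⟨l, hlw⟩)⁻¹ * (pw w ⟨a, hAw ha⟩)⁻¹ := by
      rw [← map_inv, ← map_inv, ← map_mul, ← map_mul, ← map_mul]
      rfl
    rw [e] at h1
    have h2 := mul_inv_eq_one.1 h1
    exact mul_inv_eq_iff_eq_mul.1 h2

/-- An element of the kernel has odd order. -/
theorem odd_of_pw {x : G} (hx : x ∈ Cw w) (h1 : pw w ⟨x, hx⟩ = 1) : Odd (orderOf x) := by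
  rw [pw_eq_one] at h1
  have hodd : Odd (Nat.card (Cfsg.oddCore ↥(Cw w))) :=
    Nat.coprime_two_right.1 (Cfsg.Agent.Lib.Cores.pPrimeCore_coprime 2)
  have h2 : orderOf (⟨⟨x, hx⟩, h1⟩ : Cfsg.oddCore ↥(Cw w)) ∣ Nat.card (Cfsg.oddCore ↥(Cw w)) :=
    orderOf_dvd_natCard _
  have h3 : orderOf (⟨⟨x, hx⟩, h1⟩ : Cfsg.oddCore ↥(Cw w)) = orderOf x := by
    rw [← Subgroup.orderOf_coe, ← Subgroup.orderOf_coe]
  rw [h3] at h2
  exact Odd.of_dvd_nat hodd h2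

include h in
/-- Elements of `A` mapping into `L` lie in `L₀`. -/
theorem mem_of_pw_mem (hww : w ∈ fam 𝒜 (S : Subgroup G)) (h0w : L₀ ≤ Cw w)
    (hLw : (L₀.subgroupOf (Cw w)).map (pw w) = L) (hA : fam 𝒜 (S : Subgroup G) ≤ normalizer (L₀ : Set G))
    {c : G} (hc : c ∈ fam 𝒜 (S : Subgroup G)) (hcw : c ∈ Cw w) (hcL : pw w ⟨c, hcw⟩ ∈ L) : c ∈ L₀ := by
  rw [← hLw] at hcL
  obtain ⟨⟨l, hlw⟩, hl, hlc⟩ := hcL
  have hl' : l ∈ L₀ := mem_subgroupOf.1 hl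
  have how : l⁻¹ * c ∈ Cw w := mul_mem (inv_mem hlw) hcw
  have ho : pw w ⟨l⁻¹ * c, how⟩ = 1 := by
    have e : pw w ⟨l⁻¹ * c, how⟩ = (pw w ⟨l, hlw⟩)⁻¹ * pw w ⟨c, hcw⟩ := by
      rw [← map_inv, ← map_mul]
      rfl
    rw [e, hlc]
    group
  have hodd := odd_of_pw how ho
  have hsq : (l⁻¹ * c) ^ 2 ∈ L₀ := by
    have hcc : c * c = 1 := h.sq S c hc
    have e : (l⁻¹ * c) ^ 2 = l⁻¹ * (c * l⁻¹ * c⁻¹) * (c * c) := by
      rw [pow_two]; group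
    rw [e, hcc, mul_one]
    exact mul_mem (inv_mem hl') ((mem_normalizer_iff.1 (hA hc) _).1 (inv_mem hl'))
  have h2 : l⁻¹ * c ∈ L₀ := by
    obtain ⟨k, hk⟩ := hodd
    have h3 : (l⁻¹ * c) ^ (2 * (k + 1)) = l⁻¹ * c := by
      have e : 2 * (k + 1) = orderOf (l⁻¹ * c) + 1 := by omega
      rw [e, pow_succ, pow_orderOf_eq_one, one_mul]
    rw [← h3, pow_mul]
    exact pow_mem hsq _
  have e : c = l * (l⁻¹ * c) := by group
  rw [e]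
  exact mul_mem hl' h2

include h in
/-- The end of the proof of L-balance. -/
theorem balance_end (hp : IsPair 𝒜 (fam 𝒜 (S : Subgroup G)) w L) (hd : d ∈ fam 𝒜 (S : Subgroup G))
    (hd1 : d ≠ 1) (hM : Cfsg.IsComponent M) (h0w : L₀ ≤ Cw w) (h0d : L₀ ≤ Cw d)
    (hLw : (L₀.subgroupOf (Cw w)).map (pw w) = L) (hLd : (L₀.subgroupOf (Cw d)).map (pw d) = M)
    (hA : fam 𝒜 (S : Subgroup G) ≤ normalizer (L₀ : Set G))
    (hcore : ∀ (x : G) (hx : x ∈ L₀), pw w ⟨x, h0w hx⟩ = 1 ↔ pw d ⟨x, h0d hx⟩ = 1) :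
    IsPair 𝒜 (fam 𝒜 (S : Subgroup G)) d M ∧
      DD (fam 𝒜 (S : Subgroup G)) d M = DD (fam 𝒜 (S : Subgroup G)) w L ∧
      ∀ g ∈ JJ (fam 𝒜 (S : Subgroup G)) w L, ∃ g' ∈ JJ (fam 𝒜 (S : Subgroup G)) d M,
        ∀ a ∈ fam 𝒜 (S : Subgroup G), g * a * g⁻¹ = g' * a * g'⁻¹ := by
  classical
  haveI : Fact (Nat.Prime 2) := ⟨Nat.prime_two⟩
  set A := fam 𝒜 (S : Subgroup G) with hAdef
  have hAw : A ≤ Cw w := fun a ha => mem_Cw' h S ha hp.mem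
  have hAd : A ≤ Cw d := fun a ha => mem_Cw' h S ha hd
  have hDD : DD A d M = DD A w L := by
    ext a
    constructor
    · intro ha
      have haA : a ∈ A := (mem_DD.1 ha).1
      rw [mem_DD_iff hAd h0d hLd hA haA] at ha
      rw [mem_DD_iff hAw h0w hLw hA haA]
      intro l hl hc
      exact (hcore _ hc).2 (ha l hl hc)
    · intro ha
      have haA : a ∈ A := (mem_DD.1 ha).1
      rw [mem_DD_iff hAw h0w hLw hA haA] at ha
      rw [mem_DD_iff hAd h0d hLd hA haA]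
      intro l hl hc
      exact (hcore _ hc).1 (ha l hl hc)
  refine ⟨⟨hd, hd1, hM, ?_⟩, hDD, ?_⟩
  · -- the family acts on `M`
    obtain ⟨P, hP⟩ := GoldSolid.exists_sylow_push h.fam S hAw
    obtain ⟨x, hx𝒜, hxP, hxL, hxc, -⟩ := GoldInnerJ.exists_comm (ctxw h S hp.mem hp.ne) hp.comp hp.act P
      (one_mem L) (one_mem _)
    have hxfam : x ∈ fam (push 𝒜 (Cw w)) (P : Subgroup (Xw w)) := mem_fam hx𝒜 hxP
    rw [hP] at hxfam
    obtain ⟨⟨c, hcw⟩, hc, rfl⟩ := hxfam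
    have hcA : c ∈ A := mem_subgroupOf.1 hc
    have hc0 : c ∈ L₀ := mem_of_pw_mem h S hp.mem h0w hLw hA hcA hcw hxL
    have hcD : c ∉ DD A d M := by
      rw [hDD, mem_DD]
      rintro ⟨_, _, h1⟩
      exact hxc h1
    refine ⟨pw d ⟨c, hAd hcA⟩, pw_mem_push h S hcA _, ?_, ?_⟩
    · rw [← hLd]
      exact ⟨⟨c, hAd hcA⟩, mem_subgroupOf.2 hc0, rfl⟩
    · by_contra hcon
      push Not at hcon
      apply hcD
      rw [mem_DD]
      refine ⟨hcA, hAd hcA, ?_⟩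
      rw [mem_centralizer_iff]
      intro y hy
      exact (hcon y hy).symm
  · -- the automizers
    intro g hg
    obtain ⟨hgN, hgw, hgL⟩ := mem_JJ.1 hg
    have hgL' := hgL
    rw [← hLw] at hgL'
    obtain ⟨⟨l, hlw⟩, hl, hlg⟩ := hgL'
    have hl0 : l ∈ L₀ := mem_subgroupOf.1 hl
    -- `Z₀ = L₀ ∩ O(C(w))`
    let Z₀ : Subgroup G := L₀ ⊓ (Cfsg.oddCore ↥(Cw w)).map (Cw w).subtype
    have hZmem : ∀ {x : G}, x ∈ Z₀ ↔ x ∈ L₀ ∧ ∃ hx : x ∈ Cw w, pw w ⟨x, hx⟩ = 1 := by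
      intro x
      rw [mem_inf]
      refine and_congr_right fun _ => ?_
      constructor
      · rintro ⟨y, hy, rfl⟩
        exact ⟨y.2, pw_eq_one.2 hy⟩
      · rintro ⟨hx, h1⟩
        exact ⟨⟨x, hx⟩, pw_eq_one.1 h1, rfl⟩
    have hZodd : Odd (Nat.card Z₀) := by
      have h1 : Odd (Nat.card (Cfsg.oddCore ↥(Cw w))) :=
        Nat.coprime_two_right.1 (Cfsg.Agent.Lib.Cores.pPrimeCore_coprime 2)
      have h2 : Nat.card ((Cfsg.oddCore ↥(Cw w)).map (Cw w).subtype) = Nat.card (Cfsg.oddCore ↥(Cw w)) :=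
        (Nat.card_congr ((Cfsg.oddCore ↥(Cw w)).equivMapOfInjective _ (Cw w).subtype_injective).toEquiv).symm
      rw [← h2] at h1
      exact Odd.of_dvd_nat h1 (card_dvd_of_le inf_le_right)
    have hAZ : A ≤ normalizer (Z₀ : Set G) := by
      intro a ha
      refine mem_normalizer_fintype fun x hx => ?_
      obtain ⟨hx0, hxw, hx1⟩ := hZmem.1 hx
      refine hZmem.2 ⟨(mem_normalizer_iff.1 (hA ha) x).1 hx0,
        mul_mem (mul_mem (hAw ha) hxw) (inv_mem (hAw ha)), ?_⟩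
      have e : pw w ⟨a * x * a⁻¹, mul_mem (mul_mem (hAw ha) hxw) (inv_mem (hAw ha))⟩ =
          pw w ⟨a, hAw ha⟩ * pw w ⟨x, hxw⟩ * (pw w ⟨a, hAw ha⟩)⁻¹ := by
        rw [← map_inv, ← map_mul, ← map_mul]
        rfl
      rw [e, hx1]
      group
    -- `l A l⁻¹ ≤ Z₀ A`
    have hkey : ∀ a ∈ A, ∃ z ∈ Z₀, l * a * l⁻¹ = z * (g * a * g⁻¹) := by
      intro a ha
      obtain ⟨h1, h2, h3⟩ := comm_mem h S hp hg ha
      have h4 : g * a * g⁻¹ * a⁻¹ ∈ L₀ := mem_of_pw_mem h S hp.mem h0w hLw hA h1 h2 h3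
      have h5 : l * a * l⁻¹ * a⁻¹ ∈ L₀ := by
        have e : l * a * l⁻¹ * a⁻¹ = l * (a * l⁻¹ * a⁻¹) := by group
        rw [e]
        exact mul_mem hl0 ((mem_normalizer_iff.1 (hA ha) _).1 (inv_mem hl0))
      refine ⟨l * a * l⁻¹ * (g * a * g⁻¹)⁻¹, ?_, by group⟩
      have e : l * a * l⁻¹ * (g * a * g⁻¹)⁻¹ = l * a * l⁻¹ * a⁻¹ * (g * a * g⁻¹ * a⁻¹)⁻¹ := by group
      have h6 : l * a * l⁻¹ * (g * a * g⁻¹)⁻¹ ∈ L₀ := by
        rw [e]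
        exact mul_mem h5 (inv_mem h4)
      refine hZmem.2 ⟨h6, h0w h6, ?_⟩
      have e2 : pw w ⟨l * a * l⁻¹ * (g * a * g⁻¹)⁻¹, h0w h6⟩ =
          pw w ⟨l, hlw⟩ * pw w ⟨a, hAw ha⟩ * (pw w ⟨l, hlw⟩)⁻¹ *
            (pw w ⟨g, hgw⟩ * pw w ⟨a, hAw ha⟩ * (pw w ⟨g, hgw⟩)⁻¹)⁻¹ := by
        rw [← map_inv, ← map_inv, ← map_mul, ← map_mul, ← map_mul, ← map_mul, ← map_inv, ← map_mul]
        rfl
      rw [e2, hlg]
      group
    have hB : A.map (MulAut.conj l).toMonoidHom ≤ A ⊔ Z₀ := by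
      rintro _ ⟨a, ha, rfl⟩
      obtain ⟨z, hz, e⟩ := hkey a ha
      change l * a * l⁻¹ ∈ _
      rw [e]
      exact mul_mem (le_sup_right (a := A) hz)
        (le_sup_left (b := Z₀) ((mem_normalizer_iff.1 hgN a).1 ha))
    have hAp : IsPGroup 2 A := isPGroup_fam 𝒜 S.2
    have hcop : (Nat.card A).Coprime (Nat.card Z₀) := by
      obtain ⟨n, hn⟩ := IsPGroup.iff_card.1 hAp
      rw [hn]
      exact Nat.Coprime.pow_left _ (Nat.coprime_two_left.2 hZodd)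
    have hsolv : Group.IsSolvable A := Group.isSolvable_of_comm fun a b => Subtype.ext (h.comm S a a.2 b b.2)
    obtain ⟨k, hk, hkB⟩ := Solvable.Glauberman.exists_conj_of_le_sup A Z₀ hAZ hcop (Or.inl hsolv)
      (A.map (MulAut.conj l).toMonoidHom) hB (card_map_conj A l)
    obtain ⟨hk0, hkw, hk1⟩ := hZmem.1 hk
    set g' := k⁻¹ * l with hg'
    have hg'0 : g' ∈ L₀ := mul_mem (inv_mem hk0) hl0
    have hg'N : g' ∈ normalizer (A : Set G) := by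
      apply mem_normalizer_of_map_conj
      rw [hg', map_conj_mul, ← hkB]
      ext x
      rw [mem_map_conj, inv_inv]
      constructor
      · rintro ⟨y, hy, hyx⟩
        have h1 : k * y * k⁻¹ = k * x * k⁻¹ := hyx
        have h2 : y = x := mul_left_cancel (mul_right_cancel h1)
        rw [← h2]; exact hy
      · intro hx
        exact ⟨x, hx, rfl⟩
    have hpg : pw w ⟨g', h0w hg'0⟩ = pw w ⟨g, hgw⟩ := by
      have e : pw w ⟨g', h0w hg'0⟩ = (pw w ⟨k, hkw⟩)⁻¹ * pw w ⟨l, hlw⟩ := by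
        rw [← map_inv, ← map_mul]
        rfl
      rw [e, hk1, hlg]
      group
    refine ⟨g', mem_JJ.2 ⟨hg'N, h0d hg'0, ?_⟩, ?_⟩
    · rw [← hLd]
      exact ⟨⟨g', h0d hg'0⟩, mem_subgroupOf.2 hg'0, rfl⟩
    · intro a ha
      have h1 : g * a * g⁻¹ ∈ A := (mem_normalizer_iff.1 hgN a).1 ha
      have h2 : g' * a * g'⁻¹ ∈ A := (mem_normalizer_iff.1 hg'N a).1 ha
      have h3 : g * a * g⁻¹ * (g' * a * g'⁻¹)⁻¹ ∈ A := mul_mem h1 (inv_mem h2)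
      have h4 : g * a * g⁻¹ * (g' * a * g'⁻¹)⁻¹ = 1 := by
        refine eq_one_of_pw h S h3 (hAw h3) ?_
        have e2 : pw w ⟨g * a * g⁻¹ * (g' * a * g'⁻¹)⁻¹, hAw h3⟩ =
            pw w ⟨g, hgw⟩ * pw w ⟨a, hAw ha⟩ * (pw w ⟨g, hgw⟩)⁻¹ *
              (pw w ⟨g', h0w hg'0⟩ * pw w ⟨a, hAw ha⟩ * (pw w ⟨g', h0w hg'0⟩)⁻¹)⁻¹ := by
          rw [← map_inv, ← map_inv, ← map_mul, ← map_mul, ← map_mul, ← map_mul, ← map_inv, ← map_mul]
          rfl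
        rw [e2, hpg]
        group
      exact mul_inv_eq_one.1 h4

end Cfsg.Agent.TwoFusion.GoldBalanceEnd
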