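import Cfsg.Agent.TwoFusion.GoldWFunctor
import Cfsg.Agent.TwoFusion.ClosedLocal
import Cfsg.Agent.SignalizersComponents.PCompCore
import Cfsg.Agent.SignalizersComponents.PCompQuot
import Cfsg.Agent.SignalizersComponents.LBalanceCore
import Cfsg.Agent.SignalizersComponents.CompBasic

/-!
# Strongly closed abelian subgroups: case (W)

`A = ∏ B i` (at least three factors, each of order at least 4) is a weakly closed elementary abelian 2-subgroup of the
simple group `G`, and for each `w ∈ A#` every 2-component of `C(w)` is centralised modulo the core by all of the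
`B j` but one; the 2-component "of type `j`" exists for each `w` in a factor `B i`, `i ≠ j`. Then the centralisers of
the involutions of `A` lie in a common proper subgroup.
-/

set_option autoImplicit false
set_option linter.style.haveILetI false
set_option maxHeartbeats 400000

namespace Cfsg.Agent.TwoFusion.GoldW

open Subgroup
open scoped commutatorElement
open Cfsg.Agent.TwoFusion.ClosedFam Cfsg.Agent.TwoFusion.ClosedSimple
open Cfsg.Agent.TwoFusion.ClosedFour Cfsg.Agent.TwoFusion.ClosedFunctor Cfsg.Agent.TwoFusion.GoldWFunctor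
open Cfsg.Agent.SignalizersComponents.Components

variable {G : Type*} [Group G]

/-! ### Components of subgroups -/

/-- `L` is a component of the subgroup `H` -/
structure CompIn (H L : Subgroup G) : Prop where
  le : L ≤ H
  comp : Cfsg.IsComponent (L.subgroupOf H)

namespace CompIn

variable {H K L : Subgroup G}

theorem quasisimple (h : CompIn H L) : Cfsg.IsQuasisimple L :=
  isQuasisimple_of_mulEquiv (Subgroup.subgroupOfEquivOfLe h.le) h.comp.2

theorem mono (h : CompIn H L) (hKH : K ≤ H) (hLK : L ≤ K) : CompIn K L where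
  le := hLK
  comp := by
    refine ⟨?_, isQuasisimple_of_mulEquiv (Subgroup.subgroupOfEquivOfLe hLK).symm h.quasisimple⟩
    have e : L.subgroupOf K = (L.subgroupOf H).comap (inclusion hKH) := by
      ext x
      simp [mem_subgroupOf]
    rw [e]
    exact h.comp.1.comap _

theorem commute (h : CompIn H L) (h' : CompIn H K) (hne : L ≠ K) : ∀ a ∈ L, ∀ b ∈ K, a * b = b * a := by
  intro a ha b hb
  have hne' : L.subgroupOf H ≠ K.subgroupOf H := by
    intro e
    apply hne
    have := congrArg (Subgroup.map H.subtype) e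
    rwa [subgroupOf_map_subtype, subgroupOf_map_subtype, inf_of_le_left h.le, inf_of_le_left h'.le] at this
  have h1 := component_le_centralizer_of_ne h'.comp h.comp (Ne.symm hne')
  have h2 : (⟨b, h'.le hb⟩ : H) ∈ centralizer ((L.subgroupOf H : Subgroup H) : Set H) := h1 hb
  have h3 := mem_centralizer_iff.1 h2 ⟨a, h.le ha⟩ ha
  exact congrArg Subtype.val h3

theorem eq_of_mem (h : CompIn H L) (h' : CompIn H K) {a : G} (ha : a ∈ K)
    (hne : ∃ l ∈ L, a * l ≠ l * a) : K = L := by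
  by_contra hcon
  obtain ⟨l, hl, hal⟩ := hne
  exact hal (h'.commute h hcon a ha l hl)

theorem map_subgroupOf_conj (H L : Subgroup G) (g : G) (hLH : L ≤ H) :
    (L.map (MulAut.conj g).toMonoidHom).subgroupOf (H.map (MulAut.conj g).toMonoidHom) =
      (L.subgroupOf H).map (H.equivMapOfInjective (MulAut.conj g).toMonoidHom
        (MulAut.conj g).injective).toMonoidHom := by
  ext ⟨x, hx⟩
  rw [mem_subgroupOf]
  constructor
  · rintro ⟨y, hy, hyx⟩
    refine ⟨⟨y, hLH hy⟩, hy, ?_⟩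
    apply Subtype.ext
    exact hyx
  · rintro ⟨⟨y, hyH⟩, hy, hyx⟩
    exact ⟨y, hy, congrArg Subtype.val hyx⟩

theorem conj (h : CompIn H L) (g : G) :
    CompIn (H.map (MulAut.conj g).toMonoidHom) (L.map (MulAut.conj g).toMonoidHom) where
  le := map_mono h.le
  comp := by
    rw [map_subgroupOf_conj H L g h.le]
    exact isComponent_map_equiv _ h.comp

/-- a component of `H` normalised... : conjugation by an element of `H` -/
theorem conj_mem (h : CompIn H L) {g : G} (hg : g ∈ H) : CompIn H (L.map (MulAut.conj g).toMonoidHom) := by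
  have h1 := h.conj g
  have h2 : H.map (MulAut.conj g).toMonoidHom = H := by
    ext x
    constructor
    · rintro ⟨y, hy, rfl⟩
      exact mul_mem (mul_mem hg hy) (inv_mem hg)
    · intro hx
      refine ⟨g⁻¹ * x * g, mul_mem (mul_mem (inv_mem hg) hx) hg, ?_⟩
      change g * (g⁻¹ * x * g) * g⁻¹ = x
      group
  rwa [h2] at h1

end CompIn

/-! ### Coprime action -/

/-- An element commuting with the 2-subgroup `P` modulo the odd subgroup `V` is, up to an element of `V`, in the
centraliser of `P`. -/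
theorem exists_mul_mem_centralizer [Finite G] {V P : Subgroup G} (hV : Odd (Nat.card V)) (hP : IsPGroup 2 P)
    (hn : P ≤ normalizer (V : Set G)) {l : G} (hl : ∀ p ∈ P, l * p * l⁻¹ * p⁻¹ ∈ V) :
    ∃ v ∈ V, v * l ∈ centralizer (P : Set G) := by
  have hR : IsPGroup 2 (P.map (MulAut.conj l).toMonoidHom) := hP.map _
  have hRle : P.map (MulAut.conj l).toMonoidHom ≤ V ⊔ P := by
    rintro _ ⟨p, hp, rfl⟩
    change l * p * l⁻¹ ∈ V ⊔ P
    have : l * p * l⁻¹ = (l * p * l⁻¹ * p⁻¹) * p := by group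
    rw [this]
    exact mul_mem (mem_sup_left (hl p hp)) (mem_sup_right hp)
  obtain ⟨v, hv, hvr⟩ := ClosedLocal.exists_conj_of_le_sup hV hP hn hR hRle
  refine ⟨v, hv, ?_⟩
  rw [mem_centralizer_iff]
  intro p hp
  have h1 : v * (l * p * l⁻¹) * v⁻¹ ∈ P := hvr _ ⟨p, hp, rfl⟩
  have h2 : v * (l * p * l⁻¹) * v⁻¹ * p⁻¹ ∈ V := by
    have e : v * (l * p * l⁻¹) * v⁻¹ * p⁻¹ = v * (l * p * l⁻¹ * p⁻¹) * (p * v⁻¹ * p⁻¹) := by group
    rw [e]
    exact mul_mem (mul_mem hv (hl p hp)) ((mem_normalizer_iff.1 (hn hp) v⁻¹).1 (inv_mem hv))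
  have h3 : v * (l * p * l⁻¹) * v⁻¹ * p⁻¹ = 1 :=
    ClosedLocal.eq_one_of_odd_of_isPGroup hV hP h2 (mul_mem h1 (inv_mem hp))
  have h4 : v * (l * p * l⁻¹) * v⁻¹ = p := mul_inv_eq_one.1 h3
  calc p * (v * l) = (v * (l * p * l⁻¹) * v⁻¹) * (v * l) := by rw [h4]
    _ = v * l * p := by group

/-! ### The situation -/

/-- Case (W). -/
structure CaseW (A : Subgroup G) {ι : Type*} (B : ι → Subgroup G) : Prop where
  sq : ∀ a ∈ A, a * a = 1
  comm : ∀ a ∈ A, ∀ b ∈ A, a * b = b * a
  sup : ⨆ i, B i = A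
  indep : ∀ i, B i ⊓ (⨆ j : {j // j ≠ i}, B j) = ⊥
  card : ∀ i, 4 ≤ Nat.card (B i)
  three : ∀ i j : ι, ∃ k, k ≠ i ∧ k ≠ j
  norm : ∀ g ∈ normalizer (A : Set G), ∀ i, ∃ j, (B i).map (MulAut.conj g).toMonoidHom = B j
  weak : ∀ g : G, (∀ a ∈ A, ∀ b ∈ A, g * a * g⁻¹ * b = b * (g * a * g⁻¹)) → g ∈ normalizer (A : Set G)
  type : ∀ w ∈ A, w ≠ 1 → ∀ M : Subgroup (centralizer ({w} : Set G)), Cfsg.IsPComponent 2 M →
    ∃ i, ∀ j, j ≠ i → ⁅M.map (centralizer ({w} : Set G)).subtype, B j⁆ ≤ Oc w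
  gen : ∀ w ∈ A, w ≠ 1 → centralizer ({w} : Set G) ≤
    Oc w ⊔ (Cfsg.pLayer 2 (centralizer ({w} : Set G))).map (centralizer ({w} : Set G)).subtype ⊔
      normalizer (A : Set G)
  comp : ∀ i j, i ≠ j → ∀ x ∈ B i, x ≠ 1 → ∃ L : Subgroup (centralizer ({x} : Set G)), Cfsg.IsPComponent 2 L ∧
    B j ≤ L.map (centralizer ({x} : Set G)).subtype ⊔ Oc x ∧
    (∀ k, k ≠ j → ⁅L.map (centralizer ({x} : Set G)).subtype, B k⁆ ≤ Oc x) ∧
    ∀ a ∈ B j, a ≠ 1 → ¬ ⁅L.map (centralizer ({x} : Set G)).subtype, zpowers a⁆ ≤ Oc x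

namespace CaseW

variable {A : Subgroup G} {ι : Type*} {B : ι → Subgroup G} (h : CaseW A B)
include h

theorem le (i : ι) : B i ≤ A := by
  rw [← h.sup]; exact le_iSup B i

theorem isPGroup : IsPGroup 2 A := by
  rintro ⟨x, hx⟩
  exact ⟨1, Subtype.ext (by simpa [pow_two] using h.sq x hx)⟩

theorem exists_ne (i : ι) : ∃ x ∈ B i, x ≠ 1 := by
  by_contra hcon
  push Not at hcon
  have h1 : B i = ⊥ := by rw [eq_bot_iff]; intro x hx; exact mem_bot.2 (hcon x hx)
  have h2 := h.card i
  rw [h1, card_bot] at h2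
  omega

theorem three' (i : ι) : ∃ k, k ≠ i := by
  obtain ⟨k, hk, -⟩ := h.three i i
  exact ⟨k, hk⟩

theorem le_centralizer {w : G} (hw : w ∈ A) : A ≤ centralizer ({w} : Set G) := fun a ha =>
  mem_centralizer_singleton.2 (h.comm a ha w hw)

theorem le_normalizer_Oc_A {w : G} (hw : w ∈ A) : A ≤ normalizer (Oc w : Set G) :=
  (h.le_centralizer hw).trans (ClosedFour.le_normalizer_Oc w)

omit h in
theorem le_iSup_ne {i j : ι} (hij : j ≠ i) : B j ≤ ⨆ j : {j // j ≠ i}, B j :=
  le_iSup_of_le (⟨j, hij⟩ : {j // j ≠ i}) le_rfl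

theorem iSup_ne_le (i : ι) : (⨆ j : {j // j ≠ i}, B j) ≤ A := iSup_le fun j => h.le (j : ι)

theorem inf_eq_bot {i j : ι} (hij : i ≠ j) : B i ⊓ B j = ⊥ := by
  rw [eq_bot_iff, ← h.indep i]
  exact inf_le_inf le_rfl (le_iSup_ne (Ne.symm hij))

theorem four_of [Finite G] (i : ι) : ∃ E : Subgroup G, E ≤ B i ∧ Four Set.univ E := by
  obtain ⟨x, hx, hx1⟩ := h.exists_ne i
  obtain ⟨E, hE, hF, -, -⟩ := exists_four_le (fun a ha => h.sq a (h.le i ha))
    (fun a ha b hb => h.comm a (h.le i ha) b (h.le i hb)) (h.card i) hx hx hx1 hx1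
  exact ⟨E, hE, hF⟩

/-! ### Generation -/

theorem finite [Finite G] : Finite ι := by
  choose x hx hx1 using h.exists_ne
  refine Finite.of_injective x fun i j e => ?_
  by_contra hij
  apply hx1 i
  have h1 : x i ∈ B i ⊓ B j := ⟨hx i, by rw [e]; exact hx j⟩
  rw [h.inf_eq_bot hij] at h1
  exact mem_bot.1 h1

/-- generation of an odd order group by centralisers of transversals of the factors -/
theorem odd_le [Finite G] {M : Subgroup G} (s : Finset ι) : ∀ V : Subgroup G, Odd (Nat.card V) → A ≤ normalizer (V : Set G) →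
      (∀ y : ι → G, (∀ i, y i ∈ B i ∧ y i ≠ 1) →
        (∀ g ∈ V, (∀ i ∈ s, g * y i = y i * g) → g ∈ M)) → V ≤ M := by
  classical
  induction s using Finset.induction_on with
  | empty =>
    intro V _ _ hy g hg
    choose x hx using h.exists_ne
    exact hy x hx g hg (by simp)
  | insert j s hj ih =>
    intro V hV hn hy
    obtain ⟨E, hEB, hE⟩ := h.four_of j
    have hEA : E ≤ A := hEB.trans (h.le j)
    refine hE.le_of_forall hV (hEA.trans hn) fun a ha ha1 => ?_
    refine ih _ (Odd.of_dvd_nat hV (card_dvd_of_le inf_le_left)) ?_ ?_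
    · exact le_normalizer_inf hn ((h.le_centralizer (hEA ha)).trans le_normalizer)
    · intro y hyB g hg hgs
      refine hy (fun i => if i = j then a else y i) ?_ g hg.1 ?_
      · intro i
        by_cases hij : i = j
        · subst hij; simp only [if_true]; exact ⟨hEB ha, ha1⟩
        · simp only [if_neg hij]; exact hyB i
      · intro i hi
        by_cases hij : i = j
        · subst hij; simp only [if_true]; exact mem_centralizer_singleton.1 hg.2
        · simp only [if_neg hij]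
          exact hgs i ((Finset.mem_insert.1 hi).resolve_left hij)


theorem Oc_le_of [Finite G] {M : Subgroup G}
    (m2 : ∀ x : ι → G, (∀ i, x i ∈ B i ∧ x i ≠ 1) → ∀ g : G, (∀ i, g * x i = x i * g) → g ∈ M)
    {w : G} (hw : w ∈ A) : Oc w ≤ M := by
  haveI := h.finite
  haveI := Fintype.ofFinite ι
  exact h.odd_le Finset.univ _ (ClosedFour.Oc_odd w) (h.le_normalizer_Oc_A hw) fun y hy g _ hg =>
    m2 y hy g fun i => hg i (Finset.mem_univ i)

theorem commutator_iSup_mem [Finite G] {w : G} (hw : w ∈ A) {L : Subgroup G} {i : ι}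
    (hL : ∀ j, j ≠ i → ⁅L, B j⁆ ≤ Oc w) {p : G} (hp : p ∈ ⨆ j : {j // j ≠ i}, B j) :
    p ∈ A ∧ ∀ l ∈ L, l * p * l⁻¹ * p⁻¹ ∈ Oc w := by
  refine Subgroup.iSup_induction (fun j : {j // j ≠ i} => B j)
    (C := fun p => p ∈ A ∧ ∀ l ∈ L, l * p * l⁻¹ * p⁻¹ ∈ Oc w) hp ?_ ?_ ?_
  · intro j x hx
    refine ⟨h.le j hx, fun l hl => ?_⟩
    exact hL j j.2 (commutator_mem_commutator hl hx)
  · exact ⟨one_mem A, fun l _ => by simp⟩
  · intro x y hx hy
    refine ⟨mul_mem hx.1 hy.1, fun l hl => ?_⟩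
    have e : l * (x * y) * l⁻¹ * (x * y)⁻¹ =
        (l * x * l⁻¹ * x⁻¹) * (x * (l * y * l⁻¹ * y⁻¹) * x⁻¹) := by group
    rw [e]
    exact mul_mem (hx.2 l hl) (conj_mem_of_le_normalizer (h.le_normalizer_Oc_A hw) hx.1 (hy.2 l hl))

/-- **Generation**: a subgroup containing `N(A)`, the centralisers of the transversals and the `C(D_i)` contains all
`C(w)`, `w ∈ A#`. -/
theorem centralizer_le_of [Finite G] {M : Subgroup G} (m1 : normalizer (A : Set G) ≤ M)
    (m2 : ∀ x : ι → G, (∀ i, x i ∈ B i ∧ x i ≠ 1) → ∀ g : G, (∀ i, g * x i = x i * g) → g ∈ M)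
    (m3 : ∀ (i : ι) (g : G), (∀ j, j ≠ i → ∀ b ∈ B j, g * b = b * g) → g ∈ M) {w : G} (hw : w ∈ A)
    (hw1 : w ≠ 1) : centralizer ({w} : Set G) ≤ M := by
  have hO := h.Oc_le_of m2 hw
  refine (h.gen w hw hw1).trans (sup_le (sup_le hO ?_) m1)
  rw [map_le_iff_le_comap]
  refine sSup_le ?_
  intro L hL
  rw [← map_le_iff_le_comap]
  obtain ⟨i, hi⟩ := h.type w hw hw1 L hL
  intro l hl
  obtain ⟨v, hv, hvl⟩ := exists_mul_mem_centralizer (V := Oc w) (P := ⨆ j : {j // j ≠ i}, B j)
    (ClosedFour.Oc_odd w) (h.isPGroup.to_le (h.iSup_ne_le i))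
    ((h.iSup_ne_le i).trans (h.le_normalizer_Oc_A hw))
    (fun p hp => (h.commutator_iSup_mem hw hi hp).2 l hl)
  have h1 : v * l ∈ M := by
    refine m3 i _ fun j hj b hb => ?_
    exact (mem_centralizer_iff.1 hvl b (mem_iSup_of_mem (⟨j, hj⟩ : {j // j ≠ i}) hb)).symm
  have h2 : l = v⁻¹ * (v * l) := by group
  rw [h2]
  exact mul_mem (inv_mem (hO hv)) h1

/-! ### The case of a nontrivial functor -/

/-- each factor and the product of the others are separated -/
theorem sep [Finite G] (i : ι) : SepPair (B i) (⨆ j : {j // j ≠ i}, B j) where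
  sqL a ha := h.sq a (h.le i ha)
  sqR a ha := h.sq a (h.iSup_ne_le i ha)
  commL a ha b hb := h.comm a (h.le i ha) b (h.le i hb)
  commR a ha b hb := h.comm a (h.iSup_ne_le i ha) b (h.iSup_ne_le i hb)
  comm a ha b hb := h.comm a (h.le i ha) b (h.iSup_ne_le i hb)
  disj := h.indep i
  cardL := h.card i
  cardR := by
    obtain ⟨k, hk⟩ := h.three' i
    exact (h.card k).trans (Nat.le_of_dvd Nat.card_pos (card_dvd_of_le (le_iSup_ne hk)))
  cs E F hE hF hE4 hF4 := by
    have hinf : E ⊓ F = ⊥ := by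
      rw [eq_bot_iff, ← h.indep i]
      exact inf_le_inf hE hF
    have hel : ∀ K : Subgroup G, K ≤ A → Cfsg.IsElementaryAbelian 2 K := fun K hK =>
      ⟨⟨⟨fun a b => Subtype.ext (h.comm a (hK a.2) b (hK b.2))⟩⟩, fun a ha => by
        rw [pow_two]; exact h.sq a (hK ha)⟩
    refine ⟨hel E (hE.trans (h.le i)), hel F (hF.trans (h.iSup_ne_le i)), hE4, hF4, ?_, hinf,
      fun x hx y hy => h.comm x (h.le i (hE hx)) y (h.iSup_ne_le i (hF hy)), ?_⟩
    · intro e
      rw [e, inf_idem] at hinf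
      rw [hinf, card_bot] at hF4
      omega
    · intro a ha ha1 L hL
      have haA : a ∈ A := (sup_le (hE.trans (h.le i)) (hF.trans (h.iSup_ne_le i))) ha
      obtain ⟨k, hk⟩ := h.type a haA ha1 L hL
      by_cases hki : i = k
      · right
        subst hki
        refine (commutator_mono le_rfl hF).trans ?_
        rw [Subgroup.commutator_le]
        intro l hl p hp
        exact (h.commutator_iSup_mem haA hk hp).2 l hl
      · left
        exact (commutator_mono le_rfl hE).trans (hk i hki)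

/-- the closure of the functor does not depend on anything -/
theorem wab_eq [Finite G] (hC : Complete G) {i j i' j' : ι} (hij : i ≠ j) (hij' : i' ≠ j') {x y x' y' : G}
    (hx : x ∈ B i) (hy : y ∈ B j) (hx' : x' ∈ B i') (hy' : y' ∈ B j') (hx1 : x ≠ 1) (hy1 : y ≠ 1)
    (hx'1 : x' ≠ 1) (hy'1 : y' ≠ 1) : Wab x y = Wab x' y' := by
  have key1 : ∀ {i j k : ι} {x y x' y' : G}, j ≠ i → k ≠ i → x ∈ B i → y ∈ B j → x' ∈ B i → y' ∈ B k →
      x ≠ 1 → y ≠ 1 → x' ≠ 1 → y' ≠ 1 → Wab x y = Wab x' y' := by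
    intro i j k x y x' y' hj hk hx hy hx' hy' hx1 hy1 hx'1 hy'1
    exact (h.sep i).wab_eq hC hx hx' (le_iSup_ne hj hy) (le_iSup_ne hk hy') hx1 hx'1 hy1 hy'1
  have key2 : ∀ {i j : ι} {x y : G}, j ≠ i → x ∈ B i → y ∈ B j → x ≠ 1 → y ≠ 1 → Wab x y = Wab y x := by
    intro i j x y hj hx hy hx1 hy1
    exact (h.sep i).wab_comm hC hx (le_iSup_ne hj hy) hx1 hy1
  by_cases hji : j' = i
  · subst hji
    rw [key2 (Ne.symm hij') hx' hy' hx'1 hy'1]
    exact key1 (Ne.symm hij) hij' hx hy hy' hx' hx1 hy1 hy'1 hx'1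
  · rw [key1 (Ne.symm hij) hji hx hy hx hy' hx1 hy1 hx1 hy'1, key2 hji hx hy' hx1 hy'1,
      key2 (Ne.symm hij') hx' hy' hx'1 hy'1]
    exact key1 (Ne.symm hji) hij' hy' hx hy' hx' hy'1 hx1 hy'1 hx'1

/-- case `W ≠ 1` -/
theorem proper_of_ne_bot [Finite G] [IsSimpleGroup G] (hC : Complete G) {i j : ι} (hij : i ≠ j) {x y : G}
    (hx : x ∈ B i) (hy : y ∈ B j) (hx1 : x ≠ 1) (hy1 : y ≠ 1) (hW : Wab x y ≠ ⊥) :
    ∃ M : Subgroup G, M ≠ ⊤ ∧ ∀ w ∈ A, w ≠ 1 → centralizer ({w} : Set G) ≤ M := by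
  set W := Wab x y with hWdef
  have hWeq : ∀ {i' j' : ι} {x' y' : G}, i' ≠ j' → x' ∈ B i' → y' ∈ B j' → x' ≠ 1 → y' ≠ 1 →
      Wab x' y' = W := fun hij' hx' hy' hx'1 hy'1 => h.wab_eq hC hij' hij hx' hy' hx hy hx'1 hy'1 hx1 hy1
  have hmap : ∀ g : G, W.map (MulAut.conj g).toMonoidHom = W → g ∈ normalizer (W : Set G) := fun g hg =>
    Cfsg.Agent.SignalizersComponents.PCompCore.mem_normalizer_of_map_conj_eq hg
  -- `C(x', y') ≤ N(W)`
  have hcent : ∀ {i' j' : ι} {x' y' g : G}, i' ≠ j' → x' ∈ B i' → y' ∈ B j' → x' ≠ 1 → y' ≠ 1 →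
      g * x' = x' * g → g * y' = y' * g → g ∈ normalizer (W : Set G) := by
    intro i' j' x' y' g hij' hx' hy' hx'1 hy'1 hgx hgy
    apply hmap
    rw [← hWeq hij' hx' hy' hx'1 hy'1, map_Wab, hgx, hgy]
    simp
  refine ⟨normalizer (W : Set G), ?_, fun w hw hw1 => h.centralizer_le_of ?_ ?_ ?_ hw hw1⟩
  · intro htop
    have hn : W.Normal := normalizer_eq_top_iff.1 htop
    rcases hn.eq_bot_or_eq_top with h1 | h1
    · exact hW h1
    · have hodd : Odd (Nat.card W) := (h.sep i).wab_odd hC hx (le_iSup_ne (Ne.symm hij) hy) hx1 hy1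
      rw [h1, card_top] at hodd
      have h2 : orderOf x = 2 := ClosedLocal.orderOf_eq_two (h.sq x (h.le i hx)) hx1
      have h3 : 2 ∣ Nat.card G := by
        rw [← h2]; exact orderOf_dvd_natCard x
      exact absurd (even_iff_two_dvd.2 h3) (Nat.not_even_iff_odd.2 hodd)
  · intro g hg
    obtain ⟨i', hi'⟩ := h.norm g hg i
    obtain ⟨j', hj'⟩ := h.norm g hg j
    have hx' : g * x * g⁻¹ ∈ B i' := by rw [← hi']; exact ⟨x, hx, rfl⟩
    have hy' : g * y * g⁻¹ ∈ B j' := by rw [← hj']; exact ⟨y, hy, rfl⟩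
    have hne : ∀ z : G, z ≠ 1 → g * z * g⁻¹ ≠ 1 := by
      intro z hz e
      apply hz
      have : z = g⁻¹ * (g * z * g⁻¹) * g := by group
      rw [this, e]; group
    have hij' : i' ≠ j' := by
      intro e
      rw [e] at hi'
      have h1 : B i = B j := map_injective (MulAut.conj g).injective (hi'.trans hj'.symm)
      apply hx1
      have h2 : x ∈ B i ⊓ B j := ⟨hx, by rw [← h1]; exact hx⟩
      rw [h.inf_eq_bot hij] at h2
      exact mem_bot.1 h2
    apply hmap
    rw [hWdef, map_Wab]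
    exact hWeq hij' hx' hy' (hne x hx1) (hne y hy1)
  · intro z hz g hg
    exact hcent hij (hz i).1 (hz j).1 (hz i).2 (hz j).2 (hg i) (hg j)
  · intro k g hg
    obtain ⟨k₁, hk₁⟩ := h.three' k
    obtain ⟨k₂, hk₂, hk₂'⟩ := h.three k k₁
    obtain ⟨u, hu, hu1⟩ := h.exists_ne k₁
    obtain ⟨v, hv, hv1⟩ := h.exists_ne k₂
    exact hcent (Ne.symm hk₂') hu hv hu1 hv1 (hg k₁ hk₁ u hu) (hg k₂ hk₂ v hv)

/-! ### The case of a trivial functor -/

/-- In the situation of a trivial functor: `L` is the component of type `j` for `x`. -/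
structure IsL (B : ι → Subgroup G) (j : ι) (x : G) (L : Subgroup G) : Prop where
  comp : CompIn (centralizer ({x} : Set G)) L
  le : B j ≤ L
  cent : ∀ k, k ≠ j → ∀ b ∈ B k, ∀ l ∈ L, b * l = l * b
  faithful : ∀ a ∈ B j, a ≠ 1 → ∃ l ∈ L, a * l ≠ l * a

theorem exists_isL [Finite G] {i j : ι} (hij : i ≠ j) {x : G} (hx : x ∈ B i) (hx1 : x ≠ 1)
    (hW : ∀ y ∈ B j, y ≠ 1 → ⁅Oc x, zpowers y⁆ = ⊥) : ∃ L, IsL B j x L := by
  classical
  have hcomp := h.comp i j hij x hx hx1
  set C : Subgroup G := centralizer ({x} : Set G) with hC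
  obtain ⟨L₀, hL₀, hle, hcent, hfaith⟩ := hcomp
  have hxA := h.le i hx
  have hAC : A ≤ C := h.le_centralizer hxA
  -- `B j` centralises `O_x`
  have hBO : ∀ b ∈ B j, ∀ v ∈ Oc x, v * b = b * v := by
    intro b hb v hv
    by_cases hb1 : b = 1
    · subst hb1; simp
    have h1 : ⁅v, b⁆ ∈ ⁅Oc x, zpowers b⁆ := commutator_mem_commutator hv (mem_zpowers b)
    rw [hW b hb hb1, mem_bot, commutatorElement_eq_one_iff_mul_comm] at h1
    exact h1
  have hOC : ∀ v : C, v ∈ Cfsg.pPrimeCore 2 C ↔ (v : G) ∈ Oc x := by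
    intro v
    constructor
    · intro hv; exact ⟨v, hv, rfl⟩
    · rintro ⟨u, hu, e⟩
      rwa [← Subtype.ext e]
  -- `L₀` centralises the core
  have hZn : (centralizer ((Cfsg.pPrimeCore 2 C : Subgroup C) : Set C)).Normal := by
    haveI : (Cfsg.pPrimeCore 2 C).Normal := Cfsg.Agent.Lib.Cores.pPrimeCore_normal 2
    infer_instance
  have hLO : L₀ ≤ centralizer ((Cfsg.pPrimeCore 2 C : Subgroup C) : Set C) := by
    rcases Cfsg.Agent.SignalizersComponents.LBalanceCore.pcomp_le_or_commutator_le hL₀ hZn with h1 | h1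
    · exact h1
    · exfalso
      obtain ⟨a, ha, ha1⟩ := h.exists_ne j
      refine hfaith a ha ha1 ?_
      rw [Subgroup.commutator_le]
      rintro _ ⟨l, hl, rfl⟩ p hp
      obtain ⟨n, rfl⟩ := mem_zpowers_iff.1 hp
      have hpB : a ^ n ∈ B j := zpow_mem ha n
      have hpC : a ^ n ∈ C := hAC (h.le j hpB)
      have h2 : (⟨a ^ n, hpC⟩ : C) ∈ centralizer ((Cfsg.pPrimeCore 2 C : Subgroup C) : Set C) := by
        rw [mem_centralizer_iff]
        intro v hv
        exact Subtype.ext (hBO _ hpB v ((hOC v).1 hv))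
      have h3 := h1 (commutator_mem_commutator hl h2)
      exact (hOC _).1 h3
  have hperf : Group.IsPerfect L₀ := Cfsg.Agent.SignalizersComponents.PCompQuot.perfect_of_pComponent hL₀
  -- `L₀` is quasisimple
  have hq : Cfsg.IsQuasisimple L₀ := by
    rw [Cfsg.Agent.SignalizersComponents.PCompQuot.quasisimple_iff_commutator hL₀,
      Cfsg.Agent.SignalizersComponents.CompBasic.map_subtype_pPrimeCore_of_subnormal 2 hL₀.1,
      commutator_comm, commutator_eq_bot_iff_le_centralizer]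
    intro v hv
    rw [mem_centralizer_iff]
    intro l hl
    exact (mem_centralizer_iff.1 (hLO hl) v hv.2).symm
  set L : Subgroup G := L₀.map C.subtype with hL
  have hLC : L ≤ C := map_subtype_le _
  have hLO' : ∀ l ∈ L, ∀ v ∈ Oc x, v * l = l * v := by
    rintro _ ⟨l, hl, rfl⟩ v ⟨v, hv, rfl⟩
    exact congrArg Subtype.val (mem_centralizer_iff.1 (hLO hl) v hv)
  have hperfL : Group.IsPerfect L := by
    have e : L₀ ≃* L := L₀.equivMapOfInjective C.subtype C.subtype_injective
    exact Group.IsPerfect.ofSurjective (f := e.toMonoidHom) e.surjective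
  refine ⟨L, ⟨⟨hLC, ?_⟩, ?_, ?_, ?_⟩⟩
  · have e : L.subgroupOf C = L₀ := by
      rw [hL, subgroupOf, comap_map_eq_self_of_injective C.subtype_injective]
    rw [e]
    exact ⟨hL₀.1, hq⟩
  · -- `B j ≤ L`
    intro b hb
    have h1 : b ∈ Oc x ⊔ L := by rw [sup_comm]; exact hle hb
    have hn : L ≤ normalizer (Oc x : Set G) := hLC.trans (ClosedFour.le_normalizer_Oc x)
    obtain ⟨l, hl, v, hv, e⟩ := ClosedLocal.exists_mul_of_mem_sup hn h1
    -- `b = l v`
    have hvl := hLO' l hl v hv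
    have hbb : b * b = 1 := h.sq b (h.le j hb)
    have h2 : l * l * (v * v) = 1 := by
      rw [← hbb, e]
      calc l * l * (v * v) = l * (l * v) * v := by group
        _ = l * (v * l) * v := by rw [hvl]
        _ = l * v * (l * v) := by group
    have h3 : v * v ∈ L := by
      have : v * v = (l * l)⁻¹ := (inv_eq_of_mul_eq_one_right h2).symm
      rw [this]
      exact inv_mem (mul_mem hl hl)
    have h4 : v ∈ L := by
      obtain ⟨n, hn⟩ := Cfsg.Agent.Lib.KleinGen.exists_sqrt_exponent (Oc x) (ClosedFour.Oc_odd x)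
      rw [← (hn v hv).2]
      exact pow_mem h3 n
    rw [e]
    exact mul_mem hl h4
  · intro k hk b hb l hl
    have h1 : ⁅⁅B k, L⁆, L⁆ = ⊥ := by
      rw [eq_bot_iff, Subgroup.commutator_le]
      intro v hv l' hl'
      have hv' : v ∈ Oc x := by
        rw [commutator_comm] at hv
        exact hcent k hk hv
      rw [mem_bot, commutatorElement_eq_one_iff_mul_comm]
      exact hLO' l' hl' v hv'
    have h2 : ⁅B k, L⁆ = ⊥ := commutator_eq_bot_of_commutator_commutator_eq_bot hperfL h1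
    have h3 : ⁅b, l⁆ ∈ ⁅B k, L⁆ := commutator_mem_commutator hb hl
    rw [h2, mem_bot, commutatorElement_eq_one_iff_mul_comm] at h3
    exact h3
  · intro a ha ha1
    by_contra hcon
    push Not at hcon
    refine hfaith a ha ha1 ?_
    rw [Subgroup.commutator_le]
    intro l hl p hp
    obtain ⟨n, rfl⟩ := mem_zpowers_iff.1 hp
    have h3 : ⁅l, a ^ n⁆ = 1 := by
      rw [commutatorElement_eq_one_iff_mul_comm]
      exact ((show Commute l a from (hcon l hl).symm).zpow_right n).eq
    rw [h3]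
    exact one_mem _


/-- the component of type `j` does not depend on the involution -/
theorem IsL.trans [Finite G] (hT : ∀ i j : ι, i ≠ j → ∀ x ∈ B i, x ≠ 1 → ∃ L, IsL B j x L) {j : ι} {x : G}
    {L : Subgroup G} (hL : IsL B j x L) {i : ι} (hij : i ≠ j) {x' : G} (hx' : x' ∈ B i) (hx'1 : x' ≠ 1)
    {k : ι} (hkj : k ≠ j) (hx : x ∈ B k) : IsL B j x' L := by
  obtain ⟨L', hL'⟩ := hT i j hij x' hx' hx'1
  have h1 : L ≤ centralizer ({x} : Set G) ⊓ centralizer ({x'} : Set G) := by
    refine le_inf hL.comp.le fun l hl => ?_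
    exact mem_centralizer_singleton.2 (hL.cent i hij x' hx' l hl).symm
  have h2 : L' ≤ centralizer ({x} : Set G) ⊓ centralizer ({x'} : Set G) := by
    refine le_inf (fun l hl => ?_) hL'.comp.le
    exact mem_centralizer_singleton.2 (hL'.cent k hkj x hx l hl).symm
  have c1 := hL.comp.mono inf_le_left h1
  have c2 := hL'.comp.mono inf_le_right h2
  obtain ⟨a, ha, ha1⟩ := h.exists_ne j
  have e : L' = L := c1.eq_of_mem c2 (hL'.le ha) (hL.faithful a ha ha1)
  rw [← e]
  exact hL'

/-- case `W = 1` -/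
theorem proper_of_eq_bot [Finite G] [IsSimpleGroup G]
    (hW : ∀ i j : ι, i ≠ j → ∀ x ∈ B i, x ≠ 1 → ∀ y ∈ B j, y ≠ 1 → ⁅Oc x, zpowers y⁆ = ⊥) (i₀ : ι) :
    ∃ M : Subgroup G, M ≠ ⊤ ∧ ∀ w ∈ A, w ≠ 1 → centralizer ({w} : Set G) ≤ M := by
  have hT : ∀ i j : ι, i ≠ j → ∀ x ∈ B i, x ≠ 1 → ∃ L, IsL B j x L := fun i j hij x hx hx1 =>
    h.exists_isL hij hx hx1 (fun y hy hy1 => hW i j hij x hx hx1 y hy hy1)
  -- choose the components
  have hex : ∀ j, ∃ L : Subgroup G, ∀ i, i ≠ j → ∀ x ∈ B i, x ≠ 1 → IsL B j x L := by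
    intro j
    obtain ⟨k, hk⟩ := h.three' j
    obtain ⟨y, hy, hy1⟩ := h.exists_ne k
    obtain ⟨L, hL⟩ := hT k j hk y hy hy1
    exact ⟨L, fun i hij x hx hx1 => IsL.trans h hT hL hij hx hx1 hk hy⟩
  choose L hL using hex
  -- facts not mentioning the involution
  have hle : ∀ j, B j ≤ L j := by
    intro j
    obtain ⟨k, hk⟩ := h.three' j
    obtain ⟨y, hy, hy1⟩ := h.exists_ne k
    exact (hL j k hk y hy hy1).le
  have hcent : ∀ j k, k ≠ j → ∀ b ∈ B k, ∀ l ∈ L j, b * l = l * b := by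
    intro j k hk b hb l hl
    obtain ⟨y, hy, hy1⟩ := h.exists_ne k
    exact (hL j k hk y hy hy1).cent k hk b hb l hl
  have hfaith : ∀ j, ∀ a ∈ B j, a ≠ 1 → ∃ l ∈ L j, a * l ≠ l * a := by
    intro j
    obtain ⟨k, hk⟩ := h.three' j
    obtain ⟨y, hy, hy1⟩ := h.exists_ne k
    exact (hL j k hk y hy hy1).faithful
  have hLne : ∀ i j, i ≠ j → L i ≠ L j := by
    intro i j hij e
    obtain ⟨a, ha, ha1⟩ := h.exists_ne j
    obtain ⟨l, hl, hal⟩ := hfaith j a ha ha1
    exact hal (hcent i j (Ne.symm hij) a ha l (by rw [e]; exact hl))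
  have hcomm : ∀ i j, i ≠ j → ∀ a ∈ L i, ∀ b ∈ L j, a * b = b * a := by
    intro i j hij
    obtain ⟨k, hki, hkj⟩ := h.three i j
    obtain ⟨y, hy, hy1⟩ := h.exists_ne k
    exact (hL i k hki y hy hy1).comp.commute (hL j k hkj y hy hy1).comp (hLne i j hij)
  set M : Subgroup G := ⨆ j, L j with hM
  -- an element permuting the components normalises `M`
  have hnorm : ∀ g : G, (∀ j, ∃ k, (L j).map (MulAut.conj g).toMonoidHom = L k) →
      (∀ j, ∃ k, (L j).map (MulAut.conj g⁻¹).toMonoidHom = L k) → g ∈ normalizer (M : Set G) := by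
    have key : ∀ g : G, (∀ j, ∃ k, (L j).map (MulAut.conj g).toMonoidHom = L k) → ∀ m ∈ M,
        g * m * g⁻¹ ∈ M := by
      intro g hg m hm
      have h1 : M.map (MulAut.conj g).toMonoidHom ≤ M := by
        rw [hM, Subgroup.map_iSup]
        refine iSup_le fun j => ?_
        obtain ⟨k, hk⟩ := hg j
        rw [hk]
        exact le_iSup L k
      exact h1 ⟨m, hm, rfl⟩
    intro g hg hg'
    rw [mem_normalizer_iff]
    intro m
    refine ⟨key g hg m, fun hm => ?_⟩
    have := key g⁻¹ hg' _ hm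
    have e : g⁻¹ * (g * m * g⁻¹) * g⁻¹⁻¹ = m := by group
    rwa [e] at this
  -- conjugation by elements of `N(A)`
  have hN : ∀ g ∈ normalizer (A : Set G), ∀ j k, (B j).map (MulAut.conj g).toMonoidHom = B k →
      (L j).map (MulAut.conj g).toMonoidHom = L k := by
    intro g hg j k hjk
    obtain ⟨i, hij⟩ := h.three' j
    obtain ⟨x, hx, hx1⟩ := h.exists_ne i
    obtain ⟨i', hi'⟩ := h.norm g hg i
    have hi'k : i' ≠ k := by
      intro e
      rw [e] at hi'
      have h1 : B i = B j := map_injective (MulAut.conj g).injective (hi'.trans hjk.symm)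
      apply hx1
      have h2 : x ∈ B i ⊓ B j := ⟨hx, by rw [← h1]; exact hx⟩
      rw [h.inf_eq_bot hij] at h2
      exact mem_bot.1 h2
    have hne : ∀ z : G, z ≠ 1 → g * z * g⁻¹ ≠ 1 := by
      intro z hz e
      apply hz
      have : z = g⁻¹ * (g * z * g⁻¹) * g := by group
      rw [this, e]; group
    have hx' : g * x * g⁻¹ ∈ B i' := by rw [← hi']; exact ⟨x, hx, rfl⟩
    have c1 := (hL j i hij x hx hx1).comp.conj g
    rw [map_centralizer_singleton] at c1
    have c2 := (hL k i' hi'k _ hx' (hne x hx1)).comp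
    obtain ⟨a, ha, ha1⟩ := h.exists_ne j
    have ha' : g * a * g⁻¹ ∈ B k := by rw [← hjk]; exact ⟨a, ha, rfl⟩
    exact c2.eq_of_mem c1 ⟨a, hle j ha, rfl⟩ (hfaith k _ ha' (hne a ha1))
  have hNA : ∀ g ∈ normalizer (A : Set G), ∀ j, ∃ k, (L j).map (MulAut.conj g).toMonoidHom = L k := by
    intro g hg j
    obtain ⟨k, hk⟩ := h.norm g hg j
    exact ⟨k, hN g hg j k hk⟩
  -- the basic criterion
  have hfix : ∀ {i j : ι} {x a g : G}, i ≠ j → x ∈ B i → x ≠ 1 → a ∈ B j → a ≠ 1 → g * x = x * g →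
      g * a = a * g → (L j).map (MulAut.conj g).toMonoidHom = L j := by
    intro i j x a g hij hx hx1 ha ha1 hgx hga
    have c1 := (hL j i hij x hx hx1).comp
    have c2 := c1.conj_mem (mem_centralizer_singleton.2 hgx)
    have ha' : a ∈ (L j).map (MulAut.conj g).toMonoidHom := by
      refine ⟨a, hle j ha, ?_⟩
      change g * a * g⁻¹ = a
      rw [hga]; group
    exact c1.eq_of_mem c2 ha' (hfaith j a ha ha1)
  have hinv : ∀ {g z : G}, g * z = z * g → g⁻¹ * z = z * g⁻¹ := fun {g z} e =>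
    ((show Commute g z from e).inv_left).eq
  refine ⟨normalizer (M : Set G), ?_, fun w hw hw1 => h.centralizer_le_of ?_ ?_ ?_ hw hw1⟩
  · intro htop
    have hn : M.Normal := normalizer_eq_top_iff.1 htop
    obtain ⟨a, ha, ha1⟩ := h.exists_ne i₀
    rcases hn.eq_bot_or_eq_top with h1 | h1
    · apply ha1
      have : a ∈ M := (le_iSup L i₀) (hle i₀ ha)
      rw [h1] at this
      exact mem_bot.1 this
    · -- every `L j` is normal
      have hLn : ∀ j, (L j).Normal := by
        intro j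
        rw [← normalizer_eq_top_iff, eq_top_iff, ← h1, hM]
        refine iSup_le fun i => ?_
        by_cases hij : i = j
        · rw [hij]; exact le_normalizer
        · intro a ha
          rw [mem_normalizer_iff]
          intro b
          constructor
          · intro hb
            have := hcomm i j hij a ha b hb
            rw [this]
            simpa using hb
          · intro hb
            have := hcomm i j hij a ha _ hb
            have e : b = a * b * a⁻¹ := by
              calc b = a⁻¹ * (a * (a * b * a⁻¹)) * a * a⁻¹ := by rw [this]; group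
                _ = a * b * a⁻¹ := by group
            rw [e]; exact hb
      have hLtop : ∀ j, L j = ⊤ := by
        intro j
        rcases (hLn j).eq_bot_or_eq_top with h2 | h2
        · exfalso
          obtain ⟨b, hb, hb1⟩ := h.exists_ne j
          have := hle j hb
          rw [h2] at this
          exact hb1 (mem_bot.1 this)
        · exact h2
      obtain ⟨k, hk⟩ := h.three' i₀
      exact hLne k i₀ hk ((hLtop k).trans (hLtop i₀).symm)
  · intro g hg
    exact hnorm g (hNA g hg) (hNA g⁻¹ (inv_mem hg))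
  · intro z hz g hg
    have key : ∀ g : G, (∀ i, g * z i = z i * g) → ∀ j, ∃ k, (L j).map (MulAut.conj g).toMonoidHom = L k := by
      intro g hg j
      obtain ⟨i, hij⟩ := h.three' j
      exact ⟨j, hfix hij (hz i).1 (hz i).2 (hz j).1 (hz j).2 (hg i) (hg j)⟩
    exact hnorm g (key g hg) (key g⁻¹ fun i => hinv (hg i))
  · intro i g hg
    have key : ∀ g : G, (∀ j, j ≠ i → ∀ b ∈ B j, g * b = b * g) →
        ∀ j, ∃ k, (L j).map (MulAut.conj g).toMonoidHom = L k := by
      intro g hg j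
      by_cases hji : j = i
      · subst hji
        by_cases hfx : (L j).map (MulAut.conj g).toMonoidHom = L j
        · exact ⟨j, hfx⟩
        · -- `A^g` commutes with `A`
          obtain ⟨k, hk⟩ := h.three' j
          obtain ⟨x, hx, hx1⟩ := h.exists_ne k
          have c1 := (hL j k hk x hx hx1).comp
          have c2 := c1.conj_mem (mem_centralizer_singleton.2 (hg k hk x hx))
          have hco := c2.commute c1 hfx
          have hgA : g ∈ normalizer (A : Set G) := by
            refine h.weak g ?_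
            -- generators
            have hcase : ∀ k₁, ∀ a ∈ B k₁, ∀ k₂, ∀ b ∈ B k₂, g * a * g⁻¹ * b = b * (g * a * g⁻¹) := by
              intro k₁ a ha k₂ b hb
              by_cases h1 : k₁ = j
              · subst h1
                by_cases h2 : k₂ = k₁
                · subst h2
                  exact hco _ ⟨a, hle _ ha, rfl⟩ b (hle _ hb)
                · have e1 := hg k₂ h2 b hb
                  have e2 : a * b = b * a := h.comm a (h.le _ ha) b (h.le _ hb)
                  have e3 : g⁻¹ * b = b * g⁻¹ := hinv e1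
                  calc g * a * g⁻¹ * b = g * a * (g⁻¹ * b) := by group
                    _ = g * (a * b) * g⁻¹ := by rw [e3]; group
                    _ = (g * b) * a * g⁻¹ := by rw [e2]; group
                    _ = b * (g * a * g⁻¹) := by rw [e1]; group
              · have e1 := hg k₁ h1 a ha
                have e3 : g * a * g⁻¹ = a := by rw [e1]; group
                rw [e3]
                exact h.comm a (h.le _ ha) b (h.le _ hb)
            have hstep : ∀ a ∈ A, ∀ k₂, ∀ b ∈ B k₂, g * a * g⁻¹ * b = b * (g * a * g⁻¹) := by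
              intro a ha k₂ b hb
              rw [← h.sup] at ha
              refine Subgroup.iSup_induction B (C := fun a => g * a * g⁻¹ * b = b * (g * a * g⁻¹)) ha ?_ ?_ ?_
              · exact fun k₁ a ha => hcase k₁ a ha k₂ b hb
              · simp
              · intro u v hu hv
                calc g * (u * v) * g⁻¹ * b = (g * u * g⁻¹) * (g * v * g⁻¹ * b) := by group
                  _ = (g * u * g⁻¹ * b) * (g * v * g⁻¹) := by rw [hv]; group
                  _ = b * (g * (u * v) * g⁻¹) := by rw [hu]; group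
            intro a ha b hb
            rw [← h.sup] at hb
            refine Subgroup.iSup_induction B (C := fun b => g * a * g⁻¹ * b = b * (g * a * g⁻¹)) hb ?_ ?_ ?_
            · exact fun k₂ b hb => hstep a ha k₂ b hb
            · simp
            · intro u v hu hv
              calc g * a * g⁻¹ * (u * v) = (g * a * g⁻¹ * u) * v := by group
                _ = u * (g * a * g⁻¹ * v) := by rw [hu]; group
                _ = u * v * (g * a * g⁻¹) := by rw [hv]; group
          exact hNA g hgA j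
      · obtain ⟨k, hki, hkj⟩ := h.three i j
        obtain ⟨x, hx, hx1⟩ := h.exists_ne k
        obtain ⟨a, ha, ha1⟩ := h.exists_ne j
        exact ⟨j, hfix hkj hx hx1 ha ha1 (hg k hki x hx) (hg j hji a ha)⟩
    exact hnorm g (key g hg) (key g⁻¹ fun j hj b hb => hinv (hg j hj b hb))

/-- **Case (W)** -/
theorem exists_proper [Finite G] [IsSimpleGroup G] (hC : Complete G) (i₀ : ι) :
    ∃ M : Subgroup G, M ≠ ⊤ ∧ ∀ w ∈ A, w ≠ 1 → centralizer ({w} : Set G) ≤ M := by
  obtain ⟨j₀, hj₀⟩ := h.three' i₀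
  obtain ⟨x, hx, hx1⟩ := h.exists_ne i₀
  obtain ⟨y, hy, hy1⟩ := h.exists_ne j₀
  by_cases hW : Wab x y = ⊥
  · refine h.proper_of_eq_bot (fun i j hij u hu hu1 v hv hv1 => ?_) i₀
    apply GoldWFunctor.commutator_eq_bot
    rw [h.wab_eq hC hij (Ne.symm hj₀) hu hv hx hy hu1 hv1 hx1 hy1, hW]
  · exact h.proper_of_ne_bot hC (Ne.symm hj₀) hx hy hx1 hy1 hW

end CaseW

end Cfsg.Agent.TwoFusion.GoldW
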