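import Cfsg.Agent.TwoFusion.GoldActFour
import Cfsg.Agent.TwoFusion.GoldW
import Cfsg.Agent.SignalizersComponents.OddFixed
import Cfsg.Agent.Lib.ThompsonPQ

/-!
# Goldschmidt's theorem: balance modulo components without strongly embedded subgroups

Let `|A| = 4`, `e` an element commuting with `A`, `X = C(e)/O(C(e))`. If all the active components of `X` have
simple quotients with a strongly embedded subgroup, then `O(C(a)) ∩ C(e) ≤ O(C(e))` for all `a ∈ A#`.
-/

set_option autoImplicit false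
set_option linter.style.haveILetI false

namespace Cfsg.Agent.TwoFusion.GoldLambda

open Subgroup
open Cfsg.Agent.TwoFusion.ClosedFam Cfsg.Agent.TwoFusion.Gold Cfsg.Agent.TwoFusion.GoldSetup
open Cfsg.Agent.TwoFusion.ClosedLocal Cfsg.Agent.TwoFusion.GoldFour Cfsg.Agent.TwoFusion.ClosedSimple
open scoped commutatorElement Pointwise

universe u

/-- The facts on a simple group with a strongly embedded subgroup which are used for the balance. -/
structure SEPack (L : Type*) [Group L] : Prop where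
  ti : ∀ S S' : Sylow 2 L, S ≠ S' → (S : Subgroup L) ⊓ S' = ⊥
  card : ∀ S : Sylow 2 L, Nat.card (Sylow 2 L) = 1 + Nat.card S

section Aut

variable {Q : Type*} [Group Q] [Finite Q]

omit [Finite Q] in
theorem smul_smul_sylow (σ : MulAut Q) (t : Q) (R : Sylow 2 Q) : σ • (t • R) = (σ t) • (σ • R) := by
  apply Sylow.ext
  rw [Sylow.coe_subgroup_smul, Sylow.pointwise_smul_def, Sylow.pointwise_smul_def, Sylow.coe_subgroup_smul]
  ext x
  simp only [Subgroup.mem_smul_pointwise_iff_exists, MulAut.smul_def, MulAut.conj_apply]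
  constructor
  · rintro ⟨_, ⟨r, hr, rfl⟩, rfl⟩
    exact ⟨σ r, ⟨r, hr, rfl⟩, by simp⟩
  · rintro ⟨_, ⟨r, hr, rfl⟩, rfl⟩
    exact ⟨t * r * t⁻¹, ⟨r, hr, rfl⟩, by simp⟩

/-- A Sylow 2-subgroup is transitive on the other Sylow 2-subgroups. -/
theorem exists_smul_eq (hp : SEPack Q) (P : Sylow 2 Q) {R R' : Sylow 2 Q} (hR : R ≠ P) (hR' : R' ≠ P) :
    ∃ t ∈ P, t • R = R' := by
  classical
  haveI : Fact (Nat.Prime 2) := ⟨Nat.prime_two⟩
  have hne : ∀ t : P, (t : Q) • R ≠ P := by
    intro t h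
    apply hR
    have h1 : (t : Q)⁻¹ • (t : Q) • R = (t : Q)⁻¹ • P := by rw [h]
    rw [inv_smul_smul] at h1
    rw [h1, Sylow.smul_eq_iff_mem_normalizer]
    exact inv_mem (le_normalizer t.2)
  let φ : P → {S : Sylow 2 Q // S ≠ P} := fun t => ⟨(t : Q) • R, hne t⟩
  have hinj : Function.Injective φ := by
    intro s t hst
    have h1 : (s : Q) • R = (t : Q) • R := congrArg Subtype.val hst
    have h2 : ((t : Q)⁻¹ * s) • R = R := by rw [mul_smul, h1, inv_smul_smul]
    rw [Sylow.smul_eq_iff_mem_normalizer] at h2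
    have h3 : (t : Q)⁻¹ * s ∈ P := mul_mem (inv_mem t.2) s.2
    have h4 : (t : Q)⁻¹ * s ∈ R := by
      have hz : IsPGroup 2 (zpowers ((t : Q)⁻¹ * s)) := P.2.to_le (by rw [zpowers_le]; exact h3)
      have hzn : zpowers ((t : Q)⁻¹ * s) ≤ normalizer ((R : Subgroup Q) : Set Q) := by rw [zpowers_le]; exact h2
      have h5 := R.is_maximal' (IsPGroup.to_sup_of_normal_right' hz R.2 hzn) le_sup_right
      change (t : Q)⁻¹ * s ∈ (R : Subgroup Q)
      rw [← h5]
      exact mem_sup_left (mem_zpowers _)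
    have h5 : (t : Q)⁻¹ * s ∈ (P : Subgroup Q) ⊓ R := ⟨h3, h4⟩
    rw [hp.ti P R (Ne.symm hR), mem_bot] at h5
    exact Subtype.ext (by rw [inv_mul_eq_one] at h5; exact h5.symm)
  have hcard : Nat.card P = Nat.card {S : Sylow 2 Q // S ≠ P} := by
    have h1 := hp.card P
    have h2 : Nat.card {S : Sylow 2 Q // S ≠ P} = Nat.card (Sylow 2 Q) - 1 := by
      haveI : Fintype (Sylow 2 Q) := Fintype.ofFinite _
      rw [Nat.card_eq_fintype_card, Nat.card_eq_fintype_card]
      have := Fintype.card_subtype_compl (fun S : Sylow 2 Q => S = P)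
      rw [this, Fintype.card_subtype_eq]
    rw [h2, h1]
    change Nat.card P = 1 + Nat.card P - 1
    omega
  have hsurj : Function.Surjective φ := by
    have := (Nat.bijective_iff_injective_and_card φ).2 ⟨hinj, hcard⟩
    exact this.2
  obtain ⟨t, ht⟩ := hsurj ⟨R', hR'⟩
  exact ⟨t, t.2, congrArg Subtype.val ht⟩

/-- An automorphism of odd order which centralizes a Sylow 2-subgroup of a group with `SEPack` fixes all the
Sylow 2-subgroups. -/
theorem smul_eq_of_fix (hp : SEPack Q) (P : Sylow 2 Q) (σ : MulAut Q) (hσ : Odd (orderOf σ))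
    (hfix : ∀ t ∈ P, σ t = t) (R : Sylow 2 Q) : σ • R = R := by
  classical
  haveI : Fact (Nat.Prime 2) := ⟨Nat.prime_two⟩
  have hP : σ • P = P := by
    apply Sylow.ext
    rw [Sylow.pointwise_smul_def]
    ext x
    rw [Subgroup.mem_smul_pointwise_iff_exists]
    constructor
    · rintro ⟨y, hy, rfl⟩
      rw [MulAut.smul_def, hfix y hy]; exact hy
    · intro hx
      exact ⟨x, hx, by rw [MulAut.smul_def, hfix x hx]⟩
  by_cases hR : R = P
  · rw [hR, hP]
  have hR' : σ • R ≠ P := by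
    intro h
    apply hR
    rw [← hP] at h
    exact smul_left_cancel σ h
  obtain ⟨t, ht, htR⟩ := exists_smul_eq hp P hR hR'
  have key : ∀ k : ℕ, (σ ^ k) • R = (t ^ k) • R := by
    intro k
    induction k with
    | zero => simp
    | succ k ih =>
      rw [pow_succ', mul_smul, ih, smul_smul_sylow, map_pow, hfix t ht, ← htR, ← mul_smul, ← pow_succ]
  have h1 := key (orderOf t)
  rw [pow_orderOf_eq_one, one_smul] at h1
  have hcop : (orderOf t).Coprime (orderOf σ) := by
    obtain ⟨k, hk⟩ := P.2 ⟨t, ht⟩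
    have hk' : t ^ 2 ^ k = 1 := by simpa using congrArg Subtype.val hk
    exact Nat.Coprime.coprime_dvd_left (orderOf_dvd_of_pow_eq_one hk')
      (Nat.Coprime.pow_left k (Nat.coprime_two_left.2 hσ))
  obtain ⟨m, hm⟩ := exists_pow_eq_self_of_coprime hcop
  have h2 : ∀ m : ℕ, ((σ ^ orderOf t) ^ m) • R = R := by
    intro m
    induction m with
    | zero => simp
    | succ m ih => rw [pow_succ', mul_smul, ih, h1]
  have h3 := h2 m
  rwa [hm] at h3

/-- The main lemma on automorphisms: an odd group of automorphisms which is normalized by a Sylow 2-subgroup and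
centralizes one of its nontrivial elements is trivial. -/
theorem eq_one_of_fix (hs : IsSimpleGroup Q) (hnc : ∃ a b : Q, a * b ≠ b * a) (hp : SEPack Q) (P : Sylow 2 Q)
    {b : Q} (hb : b ∈ P) (hb1 : b ≠ 1) (Y : Subgroup (MulAut Q)) (hY : Odd (Nat.card Y))
    (hYb : ∀ y ∈ Y, y b = b) (hPY : ∀ t ∈ P, ∀ y ∈ Y, MulAut.conj t * y * (MulAut.conj t)⁻¹ ∈ Y) :
    ∀ y ∈ Y, y = 1 := by
  classical
  haveI : Fact (Nat.Prime 2) := ⟨Nat.prime_two⟩
  have hcen : center Q = ⊥ := by
    rcases IsSimpleGroup.eq_bot_or_eq_top_of_normal (center Q) inferInstance with hc | hc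
    · exact hc
    · obtain ⟨a, b, hab⟩ := hnc
      exact absurd (mem_center_iff.1 (by rw [hc]; exact mem_top b) a) hab
  intro y hy
  -- `y` normalizes `P`
  have hyP : y • P = P := by
    by_contra hne
    have h1 := hp.ti (y • P) P hne
    have h2 : b ∈ ((y • P : Sylow 2 Q) : Subgroup Q) ⊓ P := by
      refine ⟨?_, hb⟩
      change b ∈ ((y • P : Sylow 2 Q) : Subgroup Q)
      rw [Sylow.pointwise_smul_def, Subgroup.mem_smul_pointwise_iff_exists]
      exact ⟨b, hb, by rw [MulAut.smul_def, hYb y hy]⟩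
    rw [h1, mem_bot] at h2
    exact hb1 h2
  have hyt : ∀ t ∈ P, y t ∈ P := by
    intro t ht
    have h1 : y • t ∈ (y • P : Sylow 2 Q) := by
      change y • t ∈ ((y • P : Sylow 2 Q) : Subgroup Q)
      rw [Sylow.pointwise_smul_def, Subgroup.mem_smul_pointwise_iff_exists]
      exact ⟨t, ht, rfl⟩
    rwa [hyP] at h1
  -- `y` centralizes `P`
  have hodd : ∀ z ∈ Y, Odd (orderOf z) := by
    intro z hz
    have h1 := orderOf_dvd_natCard (⟨z, hz⟩ : Y)
    rw [Subgroup.orderOf_mk] at h1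
    exact Odd.of_dvd_nat hY h1
  have hfix : ∀ t ∈ P, y t = t := by
    intro t ht
    have h1 : MulAut.conj (y t * t⁻¹) ∈ Y := by
      have e : MulAut.conj (y t * t⁻¹) = y * (MulAut.conj t * y⁻¹ * (MulAut.conj t)⁻¹) := by
        ext x
        simp [MulAut.conj_apply, mul_assoc]
      rw [e]
      exact mul_mem hy (hPY t ht _ (inv_mem hy))
    have h2 : y t * t⁻¹ ∈ P := mul_mem (hyt t ht) (inv_mem ht)
    obtain ⟨k, hk⟩ := P.2 ⟨_, h2⟩
    have hk' : (y t * t⁻¹) ^ 2 ^ k = 1 := by simpa using congrArg Subtype.val hk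
    have h3 : orderOf (MulAut.conj (y t * t⁻¹)) ∣ 2 ^ k := by
      apply orderOf_dvd_of_pow_eq_one
      rw [← map_pow, hk', map_one]
    have h4 : (2 ^ k).Coprime (orderOf (MulAut.conj (y t * t⁻¹))) :=
      Nat.Coprime.pow_left k (Nat.coprime_two_left.2 (hodd _ h1))
    have h5 := Nat.eq_one_of_dvd_coprimes h4 h3 dvd_rfl
    rw [orderOf_eq_one_iff] at h5
    have h6 : y t * t⁻¹ ∈ center Q := by
      rw [mem_center_iff]
      intro g
      have := congrArg (fun φ : MulAut Q => φ g) h5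
      simp only [MulAut.conj_apply, MulAut.one_apply] at this
      calc g * (y t * t⁻¹) = (y t * t⁻¹ * g * (y t * t⁻¹)⁻¹) * (y t * t⁻¹) := by rw [this]
        _ = y t * t⁻¹ * g := by group
    rw [hcen, mem_bot, mul_inv_eq_one] at h6
    exact h6
  have hall := smul_eq_of_fix hp P y (hodd y hy) hfix
  -- the kernel of the action on the Sylow subgroups
  have hker : (MulAction.toPermHom Q (Sylow 2 Q)).ker = ⊥ := by
    rcases IsSimpleGroup.eq_bot_or_eq_top_of_normal (MulAction.toPermHom Q (Sylow 2 Q)).ker inferInstance with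
      hk | hk
    · exact hk
    · exfalso
      have h1 : ∀ q : Q, q • P = P := by
        intro q
        have h2 : q ∈ (MulAction.toPermHom Q (Sylow 2 Q)).ker := by rw [hk]; exact mem_top q
        rw [MonoidHom.mem_ker] at h2
        have := congrArg (fun φ : Equiv.Perm (Sylow 2 Q) => φ P) h2
        simpa using this
      have h2 : ∀ R : Sylow 2 Q, R = P := by
        intro R
        obtain ⟨q, hq⟩ := MulAction.exists_smul_eq Q P R
        rw [← hq, h1]
      haveI : Subsingleton (Sylow 2 Q) := ⟨fun R R' => (h2 R).trans (h2 R').symm⟩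
      have h3 := hp.card P
      have h4 : Nat.card (Sylow 2 Q) = 1 := Nat.card_of_subsingleton P
      have h5 : 0 < Nat.card P := Nat.card_pos
      change Nat.card (Sylow 2 Q) = 1 + Nat.card P at h3
      omega
  ext q
  rw [MulAut.one_apply]
  have h1 : q⁻¹ * y q ∈ (MulAction.toPermHom Q (Sylow 2 Q)).ker := by
    rw [MonoidHom.mem_ker]
    ext1 R
    simp only [MulAction.toPermHom_apply, MulAction.toPerm_apply, Equiv.Perm.coe_one, id_eq]
    have e : y q • R = q • R := by
      calc y q • R = y q • (y • R) := by rw [hall R]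
        _ = y • (q • R) := (smul_smul_sylow y q R).symm
        _ = q • R := hall _
    rw [mul_smul, e, inv_smul_smul]
  rw [hker, mem_bot, inv_mul_eq_one] at h1
  exact h1.symm

end Aut

/-! ### The action on the simple quotient of a normal component -/

/-- Automorphisms induce automorphisms of the quotient by the centre. -/
def autQ (K : Type*) [Group K] : MulAut K →* MulAut (K ⧸ center K) where
  toFun e := QuotientGroup.congr (center K) (center K) e
    (Subgroup.characteristic_iff_map_eq.1 (inferInstance : (center K).Characteristic) e)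
  map_one' := by
    ext x
    obtain ⟨x, rfl⟩ := QuotientGroup.mk_surjective x
    rfl
  map_mul' e₁ e₂ := by
    ext x
    obtain ⟨x, rfl⟩ := QuotientGroup.mk_surjective x
    rfl

theorem autQ_mk {K : Type*} [Group K] (e : MulAut K) (x : K) :
    autQ K e (QuotientGroup.mk' (center K) x) = QuotientGroup.mk' (center K) (e x) := rfl

section X

variable {X : Type u} [Group X] [Finite X] {𝒜 : Set X}

/-- An odd subgroup normalized by `C(b)` and centralizing `b` centralizes the active component if the simple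
quotient has `SEPack`. -/
theorem comm_of_se (h : Ctx 𝒜) (T : Sylow 2 X) (hcard : Nat.card (fam 𝒜 (T : Subgroup X)) ≤ 4)
    {L : Subgroup X} (hL : Cfsg.IsComponent L) (ha : Act 𝒜 L) (hp : SEPack (↥L ⧸ center ↥L)) {b : X}
    (hb : b ∈ fam 𝒜 (T : Subgroup X)) (hb1 : b ≠ 1) {Y : Subgroup X} (hY : Odd (Nat.card Y))
    (hYb : ∀ y ∈ Y, y * b = b * y) (hn : ∀ c : X, c * b = b * c → ∀ y ∈ Y, c * y * c⁻¹ ∈ Y) :
    ∀ y ∈ Y, ∀ l ∈ L, y * l = l * y := by
  classical
  haveI := GoldActFour.normal h.fam T hcard hL ha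
  have hT := h.T L hL (GoldActFour.famQ 𝒜 L) (GoldActFour.isElemFam_famQ h.fam L)
    (GoldActFour.exists_ne_one L ha)
  obtain ⟨T', hT'⟩ := GoldActFour.exists_sylow_quot T hL
  set φ : X →* MulAut (↥L ⧸ center ↥L) := (autQ ↥L).comp MulAut.conjNormal with hφ
  have hφa : ∀ (x : X) (l : L), φ x (QuotientGroup.mk' (center ↥L) l) =
      QuotientGroup.mk' (center ↥L) (MulAut.conjNormal x l) := fun x l => rfl
  have hbL := GoldActFour.fam_le h.fam T hcard hL ha hb
  have hb' := (h.fam.toIsClosedFam.mem_fam_iff T.2).1 hb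
  have hmemT : ∀ (t : X) (htL : t ∈ L), t ∈ T → QuotientGroup.mk' (center ↥L) ⟨t, htL⟩ ∈ T' := by
    intro t htL ht
    change _ ∈ (T' : Subgroup (↥L ⧸ center ↥L))
    rw [hT']
    exact ⟨⟨t, htL⟩, ht, rfl⟩
  have key := eq_one_of_fix (Q := ↥L ⧸ center ↥L) hL.2.2 (GoldSolid.quasisimple_nonab hL.2) hp T'
    (b := QuotientGroup.mk' (center ↥L) ⟨b, hbL⟩) (hmemT b hbL hb'.2) (by
      intro e
      apply hb1
      refine GoldActFour.eq_one_of_comm h.fam T hcard hL ha hb (fun l hl => ?_)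
      have h1 : (⟨b, hbL⟩ : L) ∈ center ↥L := by
        rw [← QuotientGroup.ker_mk' (center ↥L)]; exact e
      exact (congrArg Subtype.val (mem_center_iff.1 h1 ⟨l, hl⟩)).symm)
    (Y.map φ) (Odd.of_dvd_nat hY (Subgroup.card_map_dvd _ _)) (by
      rintro _ ⟨y, hy, rfl⟩
      rw [hφa]
      congr 1
      apply Subtype.ext
      rw [MulAut.conjNormal_apply, hYb y hy]
      group) (by
      rintro t ht _ ⟨y, hy, rfl⟩
      have ht' : t ∈ (T' : Subgroup (↥L ⧸ center ↥L)) := ht
      rw [hT'] at ht'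
      obtain ⟨⟨t, htL⟩, htT, rfl⟩ := ht'
      have hconj : MulAut.conj (QuotientGroup.mk' (center ↥L) ⟨t, htL⟩) = φ t := by
        ext x
        obtain ⟨x, rfl⟩ := QuotientGroup.mk'_surjective (center ↥L) x
        rw [hφa, MulAut.conj_apply, ← map_inv, ← map_mul, ← map_mul]
        congr 1
      refine ⟨t * y * t⁻¹, hn t ?_ y hy, ?_⟩
      · exact (GoldActFour.comm_of_mem h.fam T hcard hL ha hT.central hb htT htL).symm
      · rw [hconj, map_mul, map_mul, map_inv])
  -- `[Y, L] ≤ Z(L)`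
  have h1 : ⁅Y, L⁆ ≤ (center ↥L).map L.subtype := by
    rw [commutator_le]
    intro y hy l hl
    have h2 := key (φ y) ⟨y, hy, rfl⟩
    have h3 : QuotientGroup.mk' (center ↥L) (MulAut.conjNormal y ⟨l, hl⟩) =
        QuotientGroup.mk' (center ↥L) ⟨l, hl⟩ := by
      rw [← hφa, h2]; rfl
    have h4 : (MulAut.conjNormal y ⟨l, hl⟩ : L) * (⟨l, hl⟩ : L)⁻¹ ∈ center ↥L := by
      rw [← QuotientGroup.ker_mk' (center ↥L), MonoidHom.mem_ker, map_mul, map_inv, h3, mul_inv_cancel]
    refine ⟨_, h4, ?_⟩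
    change ((MulAut.conjNormal y ⟨l, hl⟩ : L) : X) * l⁻¹ = ⁅y, l⁆
    rw [MulAut.conjNormal_apply, commutatorElement_def]
  have h2 : ⁅⁅Y, L⁆, L⁆ = ⊥ := by
    rw [commutator_eq_bot_iff_le_centralizer]
    refine h1.trans ?_
    rintro _ ⟨z, hz, rfl⟩
    rw [mem_centralizer_iff]
    intro l hl
    exact congrArg Subtype.val (mem_center_iff.1 hz ⟨l, hl⟩)
  have h3 := Cfsg.Agent.SignalizersComponents.Components.commutator_eq_bot_of_commutator_commutator_eq_bot
    hL.2.1 h2
  rw [commutator_eq_bot_iff_le_centralizer] at h3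
  intro y hy l hl
  exact (mem_centralizer_iff.1 (h3 hy) l hl).symm

/-- The balance in `X`. -/
theorem eq_bot (h : Ctx 𝒜) (T : Sylow 2 X) (hcard : Nat.card (fam 𝒜 (T : Subgroup X)) ≤ 4)
    (hse : ∀ L : Subgroup X, Cfsg.IsComponent L → Act 𝒜 L → SEPack (↥L ⧸ center ↥L)) {b : X}
    (hb : b ∈ fam 𝒜 (T : Subgroup X)) (hb1 : b ≠ 1) {Y : Subgroup X} (hY : Odd (Nat.card Y))
    (hYb : ∀ y ∈ Y, y * b = b * y) (hn : ∀ c : X, c * b = b * c → ∀ y ∈ Y, c * y * c⁻¹ ∈ Y) : Y = ⊥ := by
  classical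
  haveI : Fact (Nat.Prime 2) := ⟨Nat.prime_two⟩
  have hb' := (h.fam.toIsClosedFam.mem_fam_iff T.2).1 hb
  haveI hpn := Cfsg.Agent.Lib.Cores.pCore_normal (G := X) 2
  have hpp : IsPGroup 2 (Cfsg.pCore 2 X) := Cfsg.Agent.Lib.Cores.pCore_isPGroup (G := X) 2
  refine Cfsg.Agent.SignalizersComponents.OddFixed.eq_bot_of_centralizes h.core
    (Nat.coprime_two_right.2 hY) ?_ ?_
  · -- `O_2(X)`
    have h1 : Y ≤ centralizer ((Cfsg.pCore 2 X : Subgroup X) : Set X) := by
      refine Cfsg.Agent.Lib.ThompsonPQ.thompson_p_times_q 2 (zpowers b) Y (Cfsg.pCore 2 X)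
        (h.fam.toIsClosedFam.isPGroup_zpowers hb'.1) (Nat.coprime_two_right.2 hY) hpp ?_ ?_ ?_ ?_
      · rw [zpowers_le, mem_centralizer_iff]
        exact fun y hy => hYb y hy
      · rw [normalizer_eq_top]; exact le_top
      · rw [normalizer_eq_top]; exact le_top
      · rintro u ⟨hu, hub⟩
        rw [mem_centralizer_iff]
        intro y hy
        have h2 : u * y * u⁻¹ ∈ Y := by
          refine hn u ?_ y hy
          exact (mem_centralizer_iff.1 hub b (mem_zpowers b)).symm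
        have h3 : u * y * u⁻¹ * y⁻¹ = 1 := by
          refine ClosedLocal.eq_one_of_odd_of_isPGroup hY hpp (mul_mem h2 (inv_mem hy)) ?_
          have e : u * y * u⁻¹ * y⁻¹ = u * (y * u⁻¹ * y⁻¹) := by group
          rw [e]
          exact mul_mem hu (hpn.conj_mem _ (inv_mem hu) y)
        rw [mul_inv_eq_one, mul_inv_eq_iff_eq_mul] at h3
        exact h3.symm
    intro y hy u hu
    exact (mem_centralizer_iff.1 (h1 hy) u hu).symm
  · -- components
    intro L hL y hy l hl
    by_cases ha : Act 𝒜 L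
    · exact comm_of_se h T hcard hL ha (hse L hL ha) hb hb1 hY hYb hn y hy l hl
    · have h1 := comm_of_not_act h.fam h.core hL ha b hb'.1
      have h2 : L ≤ normalizer (Y : Set X) :=
        ClosedFour.le_normalizer_of_conj fun l hl y hy => hn l (h1 l hl).symm y hy
      have h3 : ¬ L ≤ Y := by
        intro hle
        have h4 := Cfsg.Agent.S1270.component_not_coprime h.core hL
        apply h4
        exact Nat.Coprime.coprime_dvd_left (Subgroup.card_dvd_of_le hle) (Nat.coprime_two_right.2 hY)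
      have h4 := Cfsg.Agent.S1270.component_comm_of_normalizes hL h2 h3
      rw [commutator_eq_bot_iff_le_centralizer] at h4
      exact mem_centralizer_iff.1 (h4 hl) y hy

end X

/-- Simple groups with strongly embedded subgroups have `SEPack` (a consequence of Bender's theorem). -/
def SEHyp : Prop :=
  ∀ (L : Type u) [Group L] [Finite L], IsSimpleGroup L → (∃ a b : L, a * b ≠ b * a) →
    (∃ H : Subgroup L, Cfsg.IsStronglyEmbedded H) → SEPack L

section G

variable {G : Type u} [Group G] [Finite G] {𝒜 : Set G} (h : Setup 𝒜) (S : Sylow 2 G)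

include h

/-- Balance: `O(C(a)) ∩ C(e) ≤ O(C(e))`. -/
theorem bal (h4 : Nat.card (fam 𝒜 (S : Subgroup G)) ≤ 4) {e : G} (he1 : e ≠ 1)
    (heA : ∀ a ∈ fam 𝒜 (S : Subgroup G), a * e = e * a)
    (hse : ∀ L : Subgroup (↥(centralizer ({e} : Set G)) ⧸ Cfsg.oddCore ↥(centralizer ({e} : Set G))),
      Cfsg.IsComponent L → Act (push 𝒜 (centralizer ({e} : Set G))) L → SEPack (↥L ⧸ center ↥L))
    {a : G} (ha : a ∈ fam 𝒜 (S : Subgroup G)) (ha1 : a ≠ 1) :
    Oc a ⊓ centralizer ({e} : Set G) ≤ Oc e := by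
  classical
  set H := centralizer ({e} : Set G) with hH
  set π := QuotientGroup.mk' (Cfsg.oddCore ↥H) with hπ
  have hAH : fam 𝒜 (S : Subgroup G) ≤ H := fun a ha => mem_cent.2 (heA a ha)
  obtain ⟨P, hP⟩ := GoldSolid.exists_sylow_push h.fam S hAH
  have haA := (h.mem_iff S).1 ha
  have hcard : Nat.card (fam (push 𝒜 H) (P : Subgroup (↥H ⧸ Cfsg.oddCore ↥H))) ≤ 4 := by
    rw [hP]
    refine (Nat.card_image_le (Set.toFinite _)).trans ?_
    change Nat.card ((fam 𝒜 (S : Subgroup G)).subgroupOf H) ≤ 4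
    rw [Nat.card_congr (subgroupOfEquivOfLe hAH).toEquiv]
    exact h4
  have hWodd : Odd (Nat.card ((Oc a ⊓ H).subgroupOf H)) := by
    rw [Nat.card_congr (subgroupOfEquivOfLe (inf_le_right : Oc a ⊓ H ≤ H)).toEquiv]
    exact Odd.of_dvd_nat (odd_Oc a) (card_dvd_of_le inf_le_left)
  have hbP : π ⟨a, hAH ha⟩ ∈ fam (push 𝒜 H) (P : Subgroup (↥H ⧸ Cfsg.oddCore ↥H)) := by
    rw [hP]
    exact ⟨⟨a, hAH ha⟩, ha, rfl⟩
  have hb1 : π ⟨a, hAH ha⟩ ≠ 1 := by
    intro e1
    have h1 : (⟨a, hAH ha⟩ : H) ∈ Cfsg.oddCore ↥H := by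
      rw [← QuotientGroup.ker_mk' (Cfsg.oddCore ↥H)]; exact e1
    have h2 : a ∈ core H := ⟨⟨a, hAH ha⟩, h1, rfl⟩
    apply ha1
    exact eq_one_of_odd_of_isPGroup (odd_core H) (h.fam.toIsClosedFam.isPGroup_zpowers haA.1) h2 (mem_zpowers a)
  have key := eq_bot (h.ctxCent he1) P hcard hse hbP hb1 (Y := ((Oc a ⊓ H).subgroupOf H).map π)
    (Odd.of_dvd_nat hWodd (Subgroup.card_map_dvd _ _)) (by
      rintro _ ⟨w, hw, rfl⟩
      rw [← map_mul, ← map_mul]
      congr 1
      apply Subtype.ext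
      exact Oc_comm hw.1) (by
      rintro c hc _ ⟨w, hw, rfl⟩
      obtain ⟨c, rfl⟩ := QuotientGroup.mk'_surjective (Cfsg.oddCore ↥H) c
      -- lift `c` to an element commuting with `a`
      have h1 : (c : G) * a * (c : G)⁻¹ * a⁻¹ ∈ core H := by
        refine ⟨c * ⟨a, hAH ha⟩ * c⁻¹ * ⟨a, hAH ha⟩⁻¹, ?_, rfl⟩
        rw [← QuotientGroup.ker_mk' (Cfsg.oddCore ↥H)]
        change π (c * ⟨a, hAH ha⟩ * c⁻¹ * ⟨a, hAH ha⟩⁻¹) = 1
        rw [map_mul, map_mul, map_mul, map_inv, map_inv]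
        change π c * π ⟨a, hAH ha⟩ = π ⟨a, hAH ha⟩ * π c at hc
        rw [hc]
        group
      have haa : a * a = 1 := h.fam.sq a haA.1
      have hzp : ∀ p ∈ zpowers a, p = 1 ∨ p = a := by
        intro p hp
        obtain ⟨k, rfl⟩ := hp
        rcases Int.even_or_odd' k with ⟨m, rfl | rfl⟩
        · left
          change a ^ (2 * m) = 1
          rw [zpow_mul]
          have : a ^ (2 : ℤ) = 1 := by rw [zpow_ofNat, pow_two, haa]
          rw [this, one_zpow]
        · right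
          change a ^ (2 * m + 1) = a
          rw [zpow_add, zpow_mul]
          have : a ^ (2 : ℤ) = 1 := by rw [zpow_ofNat, pow_two, haa]
          rw [this, one_zpow, one_mul, zpow_one]
      obtain ⟨v, hv, hvc⟩ := GoldW.exists_mul_mem_centralizer (odd_core H)
        (h.fam.toIsClosedFam.isPGroup_zpowers haA.1) (V := core H) (P := zpowers a)
        (by
          rw [zpowers_le]
          exact ClosedFour.le_normalizer_core H (hAH ha)) (l := (c : G)) (by
          intro p hp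
          rcases hzp p hp with rfl | rfl
          · simp
          · exact h1)
      have hva : v * c * a = a * (v * c) := (mem_centralizer_iff.1 hvc a (mem_zpowers a)).symm
      have hvH : v ∈ H := core_le H hv
      have hvcH : v * c ∈ H := mul_mem hvH c.2
      have hπv : π ⟨v * c, hvcH⟩ = π c := by
        have e1 : (⟨v * c, hvcH⟩ : H) = ⟨v, hvH⟩ * c := rfl
        rw [e1, map_mul]
        have h3 : π ⟨v, hvH⟩ = 1 := by
          rw [← MonoidHom.mem_ker, hπ, QuotientGroup.ker_mk']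
          obtain ⟨v', hv', rfl⟩ := hv
          exact hv'
        rw [h3, one_mul]
      refine ⟨⟨v * c, hvcH⟩ * w * ⟨v * c, hvcH⟩⁻¹, ?_, ?_⟩
      · change (v * c) * (w : G) * (v * c)⁻¹ ∈ Oc a ⊓ H
        exact ⟨conj_mem_Oc hva hw.1, H.mul_mem (H.mul_mem hvcH w.2) (H.inv_mem hvcH)⟩
      · rw [map_mul, map_mul, map_inv, hπv])
  intro w hw
  have h1 : π ⟨w, hw.2⟩ ∈ ((Oc a ⊓ H).subgroupOf H).map π := ⟨⟨w, hw.2⟩, hw, rfl⟩
  rw [key, mem_bot] at h1
  have h2 : (⟨w, hw.2⟩ : H) ∈ Cfsg.oddCore ↥H := by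
    rw [← QuotientGroup.ker_mk' (Cfsg.oddCore ↥H)]; exact h1
  exact ⟨⟨w, hw.2⟩, h2, rfl⟩

/-- Balance or a component without strongly embedded subgroups. -/
theorem bal_or (hSE : SEHyp.{u}) (h4 : Nat.card (fam 𝒜 (S : Subgroup G)) ≤ 4) {e : G} (he1 : e ≠ 1)
    (heA : ∀ a ∈ fam 𝒜 (S : Subgroup G), a * e = e * a) :
    (∀ a ∈ fam 𝒜 (S : Subgroup G), a ≠ 1 → Oc a ⊓ centralizer ({e} : Set G) ≤ Oc e) ∨
    ∃ L : Subgroup (↥(centralizer ({e} : Set G)) ⧸ Cfsg.oddCore ↥(centralizer ({e} : Set G))),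
      Cfsg.IsComponent L ∧ Act (push 𝒜 (centralizer ({e} : Set G))) L ∧
        ¬ ∃ H : Subgroup (↥L ⧸ center ↥L), Cfsg.IsStronglyEmbedded H := by
  by_contra hcon
  push Not at hcon
  obtain ⟨⟨a, ha, ha1, hle⟩, hall⟩ := hcon
  exact hle (bal h S h4 he1 heA (fun L hL hact =>
    hSE _ hL.2.2 (GoldSolid.quasisimple_nonab hL.2) (hall L hL hact)) ha ha1)

end G


end Cfsg.Agent.TwoFusion.GoldLambda
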