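import Mathlib
import Cfsg.Agent.TwoFusion.GoldBen
import Cfsg.Agent.TwoFusion.GoldLambda

/-!
# Goldschmidt's theorem: `SEPack` from Bender's theorem

`sePack_of_bender`: a nonabelian simple group with a strongly embedded subgroup has TI Sylow 2-subgroups
and `1 + |S|` of them. `seHyp`: the hypothesis `GoldLambda.SEHyp`.
-/

set_option autoImplicit false

namespace Cfsg.Agent.TwoFusion.GoldBenPack

open Cfsg Cfsg.Agent.LieRecognition Cfsg.Agent.SuzukiRankOne
open Cfsg.Agent.TwoFusion.GoldBen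

universe u

theorem sePack_of_setup {G Ω : Type*} [Group G] [MulAction G Ω] {a : Ω} {t : G} {Q : Subgroup G}
    [Finite G] [FaithfulSMul G Ω] [IsSimpleGroup G]
    (hS : IsRankOneSetup G Ω a t Q)
    (h2 : ∃ x y : G, x ≠ 1 ∧ y ≠ 1 ∧ x ≠ y ∧ x * x = 1 ∧ y * y = 1 ∧ x * y = y * x) :
    GoldLambda.SEPack G := by
  have hQ2 := M1.isPGroup_Q hS h2
  have hex := exists_setup hS hQ2
  constructor
  · intro S S' hne
    obtain ⟨b, u, hb⟩ := hex S
    obtain ⟨b', u', hb'⟩ := hex S'
    exact inf_eq_bot hb hb' hne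
  · intro S
    obtain ⟨b, u, hb⟩ := hex S
    exact card_sylow hb

/-- **`SEPack` for nonabelian simple groups with a strongly embedded subgroup**, from Bender's
theorem for `L`. -/
theorem sePack_of_bender {L : Type u} [Group L] [Finite L]
    (hB : Cfsg.Agent.StrongEmb.Split.BenderHolds L) (hsimple : IsSimpleGroup L)
    (hnonab : ∃ a b : L, a * b ≠ b * a) (hSE : ∃ H : Subgroup L, Cfsg.IsStronglyEmbedded H) :
    GoldLambda.SEPack L := by
  obtain ⟨H, hH⟩ := id hSE
  obtain ⟨z, -, hz⟩ := Cfsg.Agent.TwoFusion.StronglyEmbeddedBasic.exists_involution hH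
  obtain ⟨t, ht, ht2⟩ := Cfsg.Agent.TwoFusion.StronglyEmbeddedBasic.exists_involution_notMem hH
  have hr := Cfsg.Agent.StrongEmb.Simple.commPair_of_simple hnonab hz
  have hcore := Cfsg.Agent.StrongEmb.Split.normalCore_eq_bot_of_simple hH.1
  obtain ⟨Q, hQ, -⟩ := hB H hH hr hcore
  have hS := Cfsg.Agent.StrongEmb.Split.setup_of_isSplit hH hQ ht ht2
  have hf := Cfsg.Agent.StrongEmb.Split.faithfulSMul_of_core hcore
  exact sePack_of_setup hS hr.exists_sq

/-- **`SEHyp`** from Bender's theorem. -/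
theorem seHyp (hB : ∀ (L : Type u) [Group L] [Finite L], Cfsg.Agent.StrongEmb.Split.BenderHolds L) :
    GoldLambda.SEHyp.{u} := by
  intro L _ _ h1 h2 h3
  exact sePack_of_bender (hB L) h1 h2 h3

end Cfsg.Agent.TwoFusion.GoldBenPack
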