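import Mathlib

/-!
# The type of a component in case (W)

`A = ∏ B i` is an elementary abelian 2-group, `J` a group of odd order permuting the factors, centralising
`D ≤ A` and transitive on the nontrivial cosets of `D` in `A`, `|A : D| > 2`.  Then all the `B j` but one are
contained in `D`.
-/

set_option autoImplicit false

namespace Cfsg.Agent.TwoFusion.GoldType

open Subgroup

variable {G : Type*} [Group G]

/-- The situation. -/
structure Sit (A : Subgroup G) {ι : Type*} (B : ι → Subgroup G) (J D : Subgroup G) : Prop where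
  sq : ∀ a ∈ A, a * a = 1
  comm : ∀ a ∈ A, ∀ b ∈ A, a * b = b * a
  sup : ⨆ i, B i = A
  indep : ∀ i, B i ⊓ (⨆ j : {j // j ≠ i}, B j) = ⊥
  two : ∀ i, ∀ x ∈ B i, ∃ y ∈ B i, y ≠ 1 ∧ y ≠ x
  odd : Odd (Nat.card J)
  norm : J ≤ normalizer (A : Set G)
  perm : ∀ j ∈ J, ∀ i, ∃ i', (B i).map (MulAut.conj j).toMonoidHom = B i'
  le : D ≤ A
  fix : ∀ j ∈ J, ∀ d ∈ D, j * d * j⁻¹ = d
  tr : ∀ x ∈ A, ∀ y ∈ A, x ∉ D → y ∉ D → ∃ j ∈ J, j * x * j⁻¹ * y⁻¹ ∈ D
  big : ∃ x ∈ A, ∃ y ∈ A, x ∉ D ∧ y ∉ D ∧ x * y⁻¹ ∉ D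

namespace Sit

variable {A : Subgroup G} {ι : Type*} {B : ι → Subgroup G} {J D : Subgroup G}

theorem B_le (h : Sit A B J D) (i : ι) : B i ≤ A := by
  rw [← h.sup]; exact le_iSup B i

theorem conj_mem (h : Sit A B J D) {j a : G} (hj : j ∈ J) (ha : a ∈ A) : j * a * j⁻¹ ∈ A :=
  (mem_normalizer_iff.1 (h.norm hj) a).1 ha

/-- The commutative group structure. -/
@[reducible] def commGroup (h : Sit A B J D) : CommGroup A :=
  { (inferInstance : Group A) with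
    mul_comm := fun a b => Subtype.ext (h.comm a a.2 b b.2) }

/-- conjugation by an element of `J` on `A`. -/
def act (h : Sit A B J D) (j : J) (a : A) : A := ⟨(j : G) * a * (j : G)⁻¹, h.conj_mem j.2 a.2⟩

open scoped Classical in
/-- The kernel of the norm map. -/
theorem exists_ker [Finite G] (h : Sit A B J D) : ∃ N : Subgroup G, N ≤ A ∧
    (∀ j ∈ J, ∀ a ∈ N, j * a * j⁻¹ ∈ N) ∧ N ⊓ D = ⊥ ∧ ∀ x ∈ A, ∀ g ∈ J, x * (g * x * g⁻¹) ∈ N := by
  let _ := h.commGroup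
  have := Fintype.ofFinite J
  let N : A → A := fun a => ∏ j : J, h.act j a
  have hmul : ∀ a b, N (a * b) = N a * N b := by
    intro a b
    change ∏ j : J, h.act j (a * b) = (∏ j : J, h.act j a) * ∏ j : J, h.act j b
    rw [← Finset.prod_mul_distrib]
    refine Finset.prod_congr rfl fun j _ => Subtype.ext ?_
    change (j : G) * ((a : G) * b) * (j : G)⁻¹ = (j : G) * a * (j : G)⁻¹ * ((j : G) * b * (j : G)⁻¹)
    group
  have hact : ∀ (k : J) (a : A), N (h.act k a) = N a := by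
    intro k a
    change ∏ j : J, h.act j (h.act k a) = ∏ j : J, h.act j a
    refine Fintype.prod_equiv (Equiv.mulRight k) _ _ fun j => Subtype.ext ?_
    change (j : G) * ((k : G) * a * (k : G)⁻¹) * (j : G)⁻¹ = ((j : G) * k) * a * ((j : G) * k)⁻¹
    group
  have hsq : ∀ a : A, N a * N a = 1 := fun a => Subtype.ext (h.sq _ (N a).2)
  have hfix : ∀ a (ha : a ∈ D), N ⟨a, h.le ha⟩ = ⟨a, h.le ha⟩ := by
    intro a ha
    change ∏ j : J, h.act j ⟨a, h.le ha⟩ = _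
    rw [Finset.prod_congr rfl (fun j _ => (Subtype.ext (h.fix j j.2 a ha) :
      h.act j ⟨a, h.le ha⟩ = ⟨a, h.le ha⟩)), Finset.prod_const, Finset.card_univ,
      ← Nat.card_eq_fintype_card]
    obtain ⟨m, hm⟩ := h.odd
    rw [hm, pow_succ, pow_mul, pow_two]
    have : (⟨a, h.le ha⟩ : A) * ⟨a, h.le ha⟩ = 1 := Subtype.ext (h.sq a (h.le ha))
    rw [this, one_pow, one_mul]
  let f : A →* A := MonoidHom.mk' N hmul
  refine ⟨f.ker.map A.subtype, ?_, ?_, ?_, ?_⟩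
  · rintro _ ⟨a, -, rfl⟩
    exact a.2
  · rintro j hj _ ⟨a, ha, rfl⟩
    refine ⟨h.act ⟨j, hj⟩ a, ?_, rfl⟩
    change N (h.act ⟨j, hj⟩ a) = 1
    rw [hact]
    exact ha
  · rw [eq_bot_iff]
    rintro _ ⟨⟨a, ha, rfl⟩, haD⟩
    have h1 : N a = 1 := ha
    have h2 := hfix a haD
    rw [mem_bot]
    have h3 : (⟨(a : G), h.le haD⟩ : A) = 1 := by rw [← h2]; exact h1
    exact congrArg Subtype.val h3
  · intro x hx g hg
    refine ⟨⟨x, hx⟩ * h.act ⟨g, hg⟩ ⟨x, hx⟩, ?_, rfl⟩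
    change N (⟨x, hx⟩ * h.act ⟨g, hg⟩ ⟨x, hx⟩) = 1
    rw [hmul, hact, hsq]

theorem eq_one_of_two (h : Sit A B J D) {i j : ι} (hij : i ≠ j) {x : G} (hx : x ∈ B i) (hx' : x ∈ B j) :
    x = 1 := by
  have h1 : x ∈ B i ⊓ (⨆ k : {k // k ≠ i}, B k) :=
    mem_inf.2 ⟨hx, (le_iSup (fun k : {k // k ≠ i} => B k) ⟨j, Ne.symm hij⟩) hx'⟩
  rw [h.indep, mem_bot] at h1
  exact h1

theorem le_of_ne {G : Type*} [Group G] {ι : Type*} (B : ι → Subgroup G) {i k : ι} (hik : i ≠ k) :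
    B i ≤ ⨆ j : {j // j ≠ k}, B j :=
  le_iSup (fun j : {j // j ≠ k} => B j) ⟨i, hik⟩

theorem supp_aux (h : Sit A B J D) {k p q : ι} {c z a b : G} (ha : a ∈ B p) (hb : b ∈ B q)
    (hc : c ∈ B k) (hpk : p ≠ k) (hqk : q ≠ k)
    (hz : z ∈ (⨆ j : {j // j ≠ k}, B j)) (he : c = a * b * z) : c = 1 := by
  have h4 : c ∈ B k ⊓ (⨆ j : {j // j ≠ k}, B j) := by
    refine mem_inf.2 ⟨hc, ?_⟩
    rw [he]
    exact mul_mem (mul_mem (le_of_ne B hpk ha) (le_of_ne B hqk hb)) hz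
  rw [h.indep, mem_bot] at h4
  exact h4

/-- A product of two elements of factors is not a product of nontrivial elements of three different factors. -/
theorem three_supp (h : Sit A B J D) {p q i₁ i₂ i₃ : ι} {a b c₁ c₂ c₃ : G} (ha : a ∈ B p) (hb : b ∈ B q)
    (h1 : c₁ ∈ B i₁) (h2 : c₂ ∈ B i₂) (h3 : c₃ ∈ B i₃) (n1 : c₁ ≠ 1) (n2 : c₂ ≠ 1) (n3 : c₃ ≠ 1)
    (d12 : i₁ ≠ i₂) (d13 : i₁ ≠ i₃) (d23 : i₂ ≠ i₃) (e : a * b = c₁ * c₂ * c₃) : False := by
  have hA := h.B_le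
  have c12 := h.comm c₁ (hA i₁ h1) c₂ (hA i₂ h2)
  have c13 := h.comm c₁ (hA i₁ h1) c₃ (hA i₃ h3)
  have c23 := h.comm c₂ (hA i₂ h2) c₃ (hA i₃ h3)
  by_cases hk1 : p ≠ i₁ ∧ q ≠ i₁
  · exact n1 (h.supp_aux ha hb h1 hk1.1 hk1.2
      (mul_mem (inv_mem (le_of_ne B (Ne.symm d13) h3)) (inv_mem (le_of_ne B (Ne.symm d12) h2)))
      (by rw [e]; group))
  by_cases hk2 : p ≠ i₂ ∧ q ≠ i₂
  · exact n2 (h.supp_aux ha hb h2 hk2.1 hk2.2
      (mul_mem (inv_mem (le_of_ne B (Ne.symm d23) h3)) (inv_mem (le_of_ne B d12 h1)))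
      (by rw [e, c12]; group))
  by_cases hk3 : p ≠ i₃ ∧ q ≠ i₃
  · exact n3 (h.supp_aux ha hb h3 hk3.1 hk3.2
      (mul_mem (inv_mem (le_of_ne B d23 h2)) (inv_mem (le_of_ne B d13 h1)))
      (by
        rw [e]
        calc c₃ = (c₃ * c₁) * c₁⁻¹ := by group
          _ = (c₁ * c₃) * c₁⁻¹ := by rw [c13]
          _ = c₁ * (c₃ * c₂) * c₂⁻¹ * c₁⁻¹ := by group
          _ = c₁ * (c₂ * c₃) * c₂⁻¹ * c₁⁻¹ := by rw [c23]
          _ = c₁ * c₂ * c₃ * (c₂⁻¹ * c₁⁻¹) := by group))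
  have r1 : p = i₁ ∨ q = i₁ := by
    by_contra hc; rw [not_or] at hc; exact hk1 hc
  have r2 : p = i₂ ∨ q = i₂ := by
    by_contra hc; rw [not_or] at hc; exact hk2 hc
  have r3 : p = i₃ ∨ q = i₃ := by
    by_contra hc; rw [not_or] at hc; exact hk3 hc
  rcases r1 with r1 | r1
  · rcases r2 with r2 | r2
    · exact d12 (r1.symm.trans r2)
    · rcases r3 with r3 | r3
      · exact d13 (r1.symm.trans r3)
      · exact d23 (r2.symm.trans r3)
  · rcases r2 with r2 | r2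
    · rcases r3 with r3 | r3
      · exact d23 (r2.symm.trans r3)
      · exact d13 (r1.symm.trans r3)
    · exact d12 (r1.symm.trans r2)

theorem map_mul (g k : G) (X : Subgroup G) :
    X.map (MulAut.conj (g * k)).toMonoidHom =
      (X.map (MulAut.conj k).toMonoidHom).map (MulAut.conj g).toMonoidHom := by
  rw [Subgroup.map_map]
  congr 1
  ext x
  simp

theorem map_inj {g : G} {X Y : Subgroup G}
    (e : X.map (MulAut.conj g).toMonoidHom = Y.map (MulAut.conj g).toMonoidHom) : X = Y :=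
  Subgroup.map_injective (MulAut.conj g).injective e

theorem map_pow {g : G} {X : Subgroup G} (e : X.map (MulAut.conj g).toMonoidHom = X) (n : ℕ) :
    X.map (MulAut.conj (g ^ n)).toMonoidHom = X := by
  induction n with
  | zero =>
    ext x
    simp
  | succ n ih => rw [pow_succ, map_mul, e, ih]

/-- `J` fixes all factors. -/
theorem stab [Finite G] (h : Sit A B J D) {g : G} (hg : g ∈ J) (i : ι) :
    (B i).map (MulAut.conj g).toMonoidHom = B i := by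
  by_contra hne
  obtain ⟨i₂, h2⟩ := h.perm g hg i
  have hi2 : i ≠ i₂ := by
    rintro rfl
    exact hne h2
  obtain ⟨i₃, h3⟩ := h.perm (g * g) (mul_mem hg hg) i
  have h3' : (B i₂).map (MulAut.conj g).toMonoidHom = B i₃ := by
    rw [← h2, ← map_mul, h3]
  have hBne : B i ≠ B i₂ := fun e => hne (h2.trans e.symm)
  have hi23 : i₂ ≠ i₃ := by
    rintro rfl
    rw [← h3'] at h2
    exact hBne (map_inj h2)
  have hi13 : i ≠ i₃ := by
    rintro rfl
    -- `g²` fixes `B i`, hence `g` does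
    apply hne
    have hodd : Odd (orderOf g) := by
      have h4 : orderOf g ∣ Nat.card J := by
        have := orderOf_dvd_natCard (⟨g, hg⟩ : J)
        rwa [Subgroup.orderOf_mk] at this
      exact h.odd.of_dvd_nat h4
    obtain ⟨m, hm⟩ := hodd
    have e : g = (g * g) ^ (m + 1) := by
      rw [← pow_two, ← pow_mul, show 2 * (m + 1) = orderOf g + 1 by omega, pow_succ,
        pow_orderOf_eq_one, one_mul]
    rw [e]
    exact map_pow h3 (m + 1)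
  obtain ⟨x, hx, hx1, -⟩ := h.two i 1 (one_mem _)
  obtain ⟨y, hy, hy1, hyx⟩ := h.two i x hx
  have hA := h.B_le
  have hgx : g * x * g⁻¹ ∈ B i₂ := h2 ▸ ⟨x, hx, rfl⟩
  have hgy : (g * g) * y * (g * g)⁻¹ ∈ B i₃ := h3 ▸ ⟨y, hy, rfl⟩
  have hconj1 : ∀ (k z : G), z ≠ 1 → k * z * k⁻¹ ≠ 1 := by
    intro k z hz e
    apply hz
    have : z = k⁻¹ * (k * z * k⁻¹) * k := by group
    rw [this, e]; group
  have hgx1 := hconj1 g x hx1
  have hgy1 := hconj1 (g * g) y hy1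
  obtain ⟨N, hNA, hNJ, hND, hN⟩ := h.exists_ker
  set u := x * (g * x * g⁻¹) with hu
  set v := y * ((g * g) * y * (g * g)⁻¹) with hv
  have huN : u ∈ N := hN x (hA i hx) g hg
  have hvN : v ∈ N := hN y (hA i hy) (g * g) (mul_mem hg hg)
  have hND' : ∀ z ∈ N, z ∈ D → z = 1 := by
    intro z hz hzD
    have : z ∈ N ⊓ D := mem_inf.2 ⟨hz, hzD⟩
    rw [hND, mem_bot] at this
    exact this
  have hxy1 : x * y ≠ 1 := by
    intro e
    apply hyx
    have h4 := h.sq x (hA i hx)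
    exact (mul_left_cancel (h4.trans e.symm)).symm
  have huv : u * v = (x * y) * (g * x * g⁻¹) * ((g * g) * y * (g * g)⁻¹) := by
    have h4 := h.comm (g * x * g⁻¹) (hA i₂ hgx) y (hA i hy)
    calc u * v = x * ((g * x * g⁻¹) * y) * ((g * g) * y * (g * g)⁻¹) := by rw [hu, hv]; group
      _ = _ := by rw [h4]; group
  have huD : u ∉ D := by
    intro huD
    have h4 := hND' u huN huD
    have h5 : x = (g * x * g⁻¹)⁻¹ := eq_inv_of_mul_eq_one_left h4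
    exact hx1 (h.eq_one_of_two hi2 hx (h5 ▸ inv_mem hgx))
  have huvD : u * v ∉ D := by
    intro hD
    have h4 := hND' (u * v) (mul_mem huN hvN) hD
    rw [huv] at h4
    exact h.three_supp (one_mem (B i)) (one_mem (B i)) (mul_mem hx hy) hgx hgy hxy1 hgx1 hgy1 hi2 hi13 hi23
      (by rw [mul_one]; exact h4.symm)
  obtain ⟨j, hj, hjD⟩ := h.tr u (hNA huN) (u * v) (hNA (mul_mem huN hvN)) huD huvD
  have h5 := hND' _ (mul_mem (hNJ j hj u huN) (inv_mem (mul_mem huN hvN))) hjD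
  have h6 : j * u * j⁻¹ = u * v := mul_inv_eq_one.1 h5
  obtain ⟨p, hp⟩ := h.perm j hj i
  obtain ⟨q, hq⟩ := h.perm j hj i₂
  have hjx : j * x * j⁻¹ ∈ B p := hp ▸ ⟨x, hx, rfl⟩
  have hjgx : j * (g * x * g⁻¹) * j⁻¹ ∈ B q := hq ▸ ⟨g * x * g⁻¹, hgx, rfl⟩
  refine h.three_supp hjx hjgx (mul_mem hx hy) hgx hgy hxy1 hgx1 hgy1 hi2 hi13 hi23 ?_
  rw [← huv, ← h6, hu]; group

/-- All factors but one are contained in `D`. -/
theorem exists_type [Finite G] (h : Sit A B J D) : ∃ i, ∀ j, j ≠ i → B j ≤ D := by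
  by_contra hcon
  push Not at hcon
  obtain ⟨x₀, hx₀, y₀, hy₀, hx₀D, hy₀D, hxy₀⟩ := h.big
  obtain ⟨i, hi⟩ : ∃ i, ¬ B i ≤ D := by
    by_contra hall
    push Not at hall
    apply hx₀D
    have : A ≤ D := by rw [← h.sup]; exact iSup_le hall
    exact this hx₀
  obtain ⟨j, hji, hj⟩ := hcon i
  obtain ⟨x, hx, hxD⟩ := SetLike.not_le_iff_exists.1 hi
  obtain ⟨y, hy, hyD⟩ := SetLike.not_le_iff_exists.1 hj
  have hA := h.B_le
  obtain ⟨g, hg, hgD⟩ := h.tr x (hA i hx) y (hA j hy) hxD hyD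
  have hfix : ∀ k ∈ J, k * y * k⁻¹ = y := by
    intro k hk
    have h1 := h.fix k hk _ hgD
    have hxg : g * x * g⁻¹ ∈ B i := h.stab hg i ▸ ⟨x, hx, rfl⟩
    have hkxg : k * (g * x * g⁻¹) * k⁻¹ ∈ B i := by
      have := h.stab hk i
      rw [← this]
      exact ⟨_, hxg, rfl⟩
    have hky : k * y * k⁻¹ ∈ B j := by
      have := h.stab hk j
      rw [← this]
      exact ⟨_, hy, rfl⟩
    have h2 : (g * x * g⁻¹)⁻¹ * (k * (g * x * g⁻¹) * k⁻¹) = y⁻¹ * (k * y * k⁻¹) := by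
      have h3 : k * (g * x * g⁻¹) * k⁻¹ * (k * y * k⁻¹)⁻¹ = g * x * g⁻¹ * y⁻¹ := by
        rw [← h1]; group
      rw [inv_mul_eq_iff_eq_mul]
      calc k * (g * x * g⁻¹) * k⁻¹ = (k * (g * x * g⁻¹) * k⁻¹ * (k * y * k⁻¹)⁻¹) * (k * y * k⁻¹) := by
            group
        _ = _ := by rw [h3]; group
    have h3 : y⁻¹ * (k * y * k⁻¹) = 1 := by
      refine h.eq_one_of_two hji (mul_mem (inv_mem hy) hky) ?_
      rw [← h2]
      exact mul_mem (inv_mem hxg) hkxg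
    exact (inv_mul_eq_one.1 h3).symm
  have hall : ∀ z ∈ A, z ∉ D → y * z⁻¹ ∈ D := by
    intro z hz hzD
    obtain ⟨k, hk, hkD⟩ := h.tr y (hA j hy) z hz hyD hzD
    rwa [hfix k hk] at hkD
  apply hxy₀
  have e : x₀ * y₀⁻¹ = (y * x₀⁻¹)⁻¹ * (y * y₀⁻¹) := by
    have h1 := h.comm x₀ hx₀ y⁻¹ (inv_mem (hA j hy))
    group
  rw [e]
  exact mul_mem (inv_mem (hall x₀ hx₀ hx₀D)) (hall y₀ hy₀ hy₀D)

end Sit

end Cfsg.Agent.TwoFusion.GoldType
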