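import Cfsg.Agent.TwoFusion.GoldSolid
import Cfsg.Agent.TwoFusion.GoldType
import Cfsg.Agent.TwoFusion.GoldW
import Cfsg.Agent.TwoFusion.GoldCases
import Cfsg.Agent.TwoFusion.GoldInnerJ
import Cfsg.Agent.TwoFusion.GoldPairDefs

/-!
# Goldschmidt's theorem: passage between `H` and `H/O(H)`

* `img H A`: the image of `A ≤ H` in `H/O(H)`; `pull H Y`: the preimage of `Y ≤ H/O(H)` in `G`;
* `lift H A J`: the elements of `N(A) ∩ H` with image in `J`; it is odd if `J` is, and maps onto `J ≤ N(img H A)`;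
* `exists_type`: (7.1) for the components of `H/O(H)`;
* `le_sup_pLayer`: `H = O(H) L(H) N_H(A)`;
* `exists_pcomp`: the 2-components of `H` over the components of `H/O(H)`.
-/

set_option autoImplicit false
set_option linter.style.haveILetI false

namespace Cfsg.Agent.TwoFusion.GoldBridge

open Subgroup
open scoped commutatorElement
open Cfsg.Agent.TwoFusion.ClosedFam Cfsg.Agent.TwoFusion.Gold Cfsg.Agent.TwoFusion.ClosedLocal
open Cfsg.Agent.TwoFusion.GoldSetup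

universe u

variable {G : Type u} [Group G]

/-- The quotient map. -/
abbrev π (H : Subgroup G) : ↥H →* ↥H ⧸ Cfsg.oddCore ↥H := QuotientGroup.mk' (Cfsg.oddCore ↥H)

theorem π_surjective (H : Subgroup G) : Function.Surjective (π H) := QuotientGroup.mk'_surjective _

theorem π_eq_one {H : Subgroup G} {x : H} : π H x = 1 ↔ (x : G) ∈ core H := by
  rw [← MonoidHom.mem_ker, QuotientGroup.ker_mk']
  constructor
  · intro hx; exact ⟨x, hx, rfl⟩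
  · rintro ⟨y, hy, hyx⟩
    have : y = x := Subtype.ext hyx
    rwa [← this]

theorem π_eq_iff {H : Subgroup G} {x y : H} : π H x = π H y ↔ (x : G) * (y : G)⁻¹ ∈ core H := by
  rw [← mul_inv_eq_one, ← map_inv, ← map_mul, π_eq_one]
  rfl

theorem π_eq_iff' {H : Subgroup G} {x y : H} : π H x = π H y ↔ (x : G)⁻¹ * (y : G) ∈ core H := by
  rw [← inv_mul_eq_one, ← map_inv, ← map_mul, π_eq_one]
  rfl

/-- The image of `A` in `H/O(H)`. -/
def img (H A : Subgroup G) : Subgroup (↥H ⧸ Cfsg.oddCore ↥H) := (A.subgroupOf H).map (π H)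

/-- The preimage in `G` of a subgroup of `H/O(H)`. -/
def pull (H : Subgroup G) (Y : Subgroup (↥H ⧸ Cfsg.oddCore ↥H)) : Subgroup G := (Y.comap (π H)).map H.subtype

theorem mem_pull {H : Subgroup G} {Y : Subgroup (↥H ⧸ Cfsg.oddCore ↥H)} {g : G} :
    g ∈ pull H Y ↔ ∃ hg : g ∈ H, π H ⟨g, hg⟩ ∈ Y := by
  constructor
  · rintro ⟨x, hx, rfl⟩
    exact ⟨x.2, hx⟩
  · rintro ⟨hg, h⟩
    exact ⟨⟨g, hg⟩, h, rfl⟩

theorem mem_pull_of {H : Subgroup G} {Y : Subgroup (↥H ⧸ Cfsg.oddCore ↥H)} {x : H} :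
    (x : G) ∈ pull H Y ↔ π H x ∈ Y := by
  rw [mem_pull]
  exact ⟨fun ⟨_, h⟩ => h, fun h => ⟨x.2, h⟩⟩

theorem mem_img {H A : Subgroup G} (hA : A ≤ H) {y : ↥H ⧸ Cfsg.oddCore ↥H} :
    y ∈ img H A ↔ ∃ a, ∃ ha : a ∈ A, π H ⟨a, hA ha⟩ = y := by
  constructor
  · rintro ⟨x, hx, rfl⟩
    exact ⟨x, hx, rfl⟩
  · rintro ⟨a, ha, rfl⟩
    exact ⟨⟨a, hA ha⟩, ha, rfl⟩

theorem mem_img_of {H A : Subgroup G} (hA : A ≤ H) {a : G} (ha : a ∈ A) : π H ⟨a, hA ha⟩ ∈ img H A :=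
  (mem_img hA).2 ⟨a, ha, rfl⟩

theorem pull_le (H : Subgroup G) (Y : Subgroup (↥H ⧸ Cfsg.oddCore ↥H)) : pull H Y ≤ H := by
  rintro _ ⟨x, -, rfl⟩
  exact x.2

theorem pull_mono (H : Subgroup G) {Y Z : Subgroup (↥H ⧸ Cfsg.oddCore ↥H)} (h : Y ≤ Z) : pull H Y ≤ pull H Z := by
  rintro _ ⟨x, hx, rfl⟩
  exact ⟨x, h hx, rfl⟩

theorem core_le_pull (H : Subgroup G) (Y : Subgroup (↥H ⧸ Cfsg.oddCore ↥H)) : core H ≤ pull H Y := by
  intro x hx
  rw [mem_pull]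
  refine ⟨core_le H hx, ?_⟩
  rw [π_eq_one.2 hx]
  exact one_mem _

theorem inf_core [Finite G] {H A : Subgroup G} (hA : IsPGroup 2 A) {x : G} (hx : x ∈ A) (hxc : x ∈ core H) :
    x = 1 :=
  eq_one_of_odd_of_isPGroup (odd_core H) hA hxc hx

/-- The map `A → H/O(H)` is injective. -/
theorem π_inj [Finite G] {H A : Subgroup G} (hA : IsPGroup 2 A) {x y : H} (hx : (x : G) ∈ A)
    (hy : (y : G) ∈ A) (hxy : π H x = π H y) : x = y := by
  rw [π_eq_iff] at hxy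
  have h1 := inf_core hA (mul_mem hx (inv_mem hy)) hxy
  exact Subtype.ext (mul_inv_eq_one.1 h1)

/-- The elements of `N(A) ∩ H` with image in `J`. -/
def lift (H A : Subgroup G) (J : Subgroup (↥H ⧸ Cfsg.oddCore ↥H)) : Subgroup G :=
  pull H J ⊓ normalizer (A : Set G)

theorem mem_lift {H A : Subgroup G} {J : Subgroup (↥H ⧸ Cfsg.oddCore ↥H)} {g : G} :
    g ∈ lift H A J ↔ (∃ hg : g ∈ H, π H ⟨g, hg⟩ ∈ J) ∧ g ∈ normalizer (A : Set G) := by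
  rw [lift, mem_inf, mem_pull]

theorem lift_le (H A : Subgroup G) (J : Subgroup (↥H ⧸ Cfsg.oddCore ↥H)) : lift H A J ≤ H :=
  inf_le_left.trans (pull_le H J)

theorem lift_le_pull (H A : Subgroup G) (J : Subgroup (↥H ⧸ Cfsg.oddCore ↥H)) : lift H A J ≤ pull H J :=
  inf_le_left

theorem lift_le_normalizer (H A : Subgroup G) (J : Subgroup (↥H ⧸ Cfsg.oddCore ↥H)) :
    lift H A J ≤ normalizer (A : Set G) := inf_le_right

/-- The preimage of an odd subgroup is odd. -/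
theorem odd_pull [Finite G] (H : Subgroup G) {J : Subgroup (↥H ⧸ Cfsg.oddCore ↥H)}
    (hJ : Odd (Nat.card J)) : Odd (Nat.card (pull H J)) := by
  have h1 : Nat.card (pull H J) = Nat.card (J.comap (π H)) :=
    (Nat.card_congr ((J.comap (π H)).equivMapOfInjective _ H.subtype_injective).toEquiv).symm
  rw [h1]
  have h2 : Nat.card (J.comap (π H)) = Nat.card (Cfsg.oddCore ↥H) * Nat.card J := by
    have e1 := (J.comap (π H)).card_mul_index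
    rw [index_comap_of_surjective J (π_surjective H)] at e1
    have e2 := J.card_mul_index
    have e3 := (Cfsg.oddCore ↥H).card_mul_index
    rw [index_eq_card] at e3
    have h0 : 0 < J.index := Nat.pos_of_ne_zero J.index_ne_zero_of_finite
    apply Nat.eq_of_mul_eq_mul_right h0
    rw [e1, ← e3, ← e2]
    ring
  rw [h2]
  refine Odd.mul ?_ hJ
  have : (Nat.card (Cfsg.oddCore ↥H)).Coprime 2 := Cfsg.Agent.Lib.Cores.pPrimeCore_coprime 2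
  exact Nat.coprime_two_right.1 this

theorem odd_lift [Finite G] {H A : Subgroup G} {J : Subgroup (↥H ⧸ Cfsg.oddCore ↥H)}
    (hJ : Odd (Nat.card J)) : Odd (Nat.card (lift H A J)) :=
  (odd_pull H hJ).of_dvd_nat (card_dvd_of_le (lift_le_pull H A J))

section Fam

variable [Finite G] {𝒜 : Set G} (h : IsElemFam 𝒜) (S : Sylow 2 G)

include h

theorem exists_mem_lift {H : Subgroup G} (hAH : fam 𝒜 (S : Subgroup G) ≤ H)
    {J : Subgroup (↥H ⧸ Cfsg.oddCore ↥H)}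
    (hJ : J ≤ normalizer (img H (fam 𝒜 (S : Subgroup G)) : Set (↥H ⧸ Cfsg.oddCore ↥H)))
    {j : ↥H ⧸ Cfsg.oddCore ↥H} (hj : j ∈ J) :
    ∃ g, ∃ hg : g ∈ H, g ∈ lift H (fam 𝒜 (S : Subgroup G)) J ∧ π H ⟨g, hg⟩ = j := by
  obtain ⟨⟨c, hc⟩, rfl⟩ := π_surjective H j
  obtain ⟨o, ho, n, hn, hnH, e⟩ := GoldSolid.exists_mul_of_mem_normalizer h S hAH hc (hJ hj)
  have h1 : π H ⟨n, hnH⟩ = π H ⟨c, hc⟩ := by
    rw [π_eq_iff]
    change n * c⁻¹ ∈ core H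
    have : n * c⁻¹ = o⁻¹ := by rw [e]; group
    rw [this]
    exact inv_mem ho
  refine ⟨n, hnH, ?_, h1⟩
  rw [mem_lift]
  exact ⟨⟨hnH, by rw [h1]; exact hj⟩, hn⟩

end Fam

/-- (7.1) for an active component `M` of `H/O(H)`. -/
theorem exists_type [Finite G] {ι : Type*} {B : ι → Subgroup G} {A H : Subgroup G}
    (sq : ∀ a ∈ A, a * a = 1) (comm : ∀ a ∈ A, ∀ b ∈ A, a * b = b * a) (hAH : A ≤ H)
    (sup : ⨆ i, B i = A) (indep : ∀ i, B i ⊓ (⨆ j : {j // j ≠ i}, B j) = ⊥)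
    (two : ∀ i, ∀ x ∈ B i, ∃ y ∈ B i, y ≠ 1 ∧ y ≠ x)
    (perm : ∀ g ∈ normalizer (A : Set G), ∀ i, ∃ i', (B i).map (MulAut.conj g).toMonoidHom = B i')
    {M J : Subgroup (↥H ⧸ Cfsg.oddCore ↥H)} (hJM : J ≤ M) (hodd : Odd (Nat.card J))
    (hlift : ∀ j ∈ J, ∃ g, ∃ hg : g ∈ H, g ∈ lift H A J ∧ π H ⟨g, hg⟩ = j)
    (tr : ∀ x ∈ img H A, ∀ y ∈ img H A, x ∉ centralizer (M : Set (↥H ⧸ Cfsg.oddCore ↥H)) →
      y ∉ centralizer (M : Set (↥H ⧸ Cfsg.oddCore ↥H)) →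
      ∃ j ∈ J, j * x * j⁻¹ * y⁻¹ ∈ centralizer (M : Set (↥H ⧸ Cfsg.oddCore ↥H)))
    (big : ∃ x ∈ img H A, ∃ y ∈ img H A, x ∉ centralizer (M : Set (↥H ⧸ Cfsg.oddCore ↥H)) ∧
      y ∉ centralizer (M : Set (↥H ⧸ Cfsg.oddCore ↥H)) ∧
      x * y⁻¹ ∉ centralizer (M : Set (↥H ⧸ Cfsg.oddCore ↥H))) :
    ∃ i, ∀ j, j ≠ i → B j ≤ pull H (centralizer (M : Set (↥H ⧸ Cfsg.oddCore ↥H))) := by
  have hAp : IsPGroup 2 A := by
    rintro ⟨x, hx⟩
    exact ⟨1, Subtype.ext (by simpa [pow_two] using sq x hx)⟩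
  set D : Subgroup G := A ⊓ pull H (centralizer (M : Set (↥H ⧸ Cfsg.oddCore ↥H))) with hD
  have hmemD : ∀ {a : G} (ha : a ∈ A), a ∈ D ↔
      π H ⟨a, hAH ha⟩ ∈ centralizer (M : Set (↥H ⧸ Cfsg.oddCore ↥H)) := by
    intro a ha
    rw [hD, mem_inf, mem_pull]
    exact ⟨fun ⟨_, _, h⟩ => h, fun h => ⟨ha, hAH ha, h⟩⟩
  have hsit : GoldType.Sit A B (lift H A J) D :=
    { sq := sq
      comm := comm
      sup := sup
      indep := indep
      two := two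
      odd := odd_lift hodd
      norm := lift_le_normalizer H A J
      perm := fun j hj i => perm j (lift_le_normalizer H A J hj) i
      le := inf_le_left
      fix := by
        intro j hj d hd
        obtain ⟨⟨hjH, hjJ⟩, hjN⟩ := mem_lift.1 hj
        have hdA : d ∈ A := (mem_inf.1 hd).1
        have hdc := (hmemD hdA).1 hd
        have h1 := mem_centralizer_iff.1 hdc _ (hJM hjJ)
        have h2 : j * d * j⁻¹ ∈ A := (mem_normalizer_iff.1 hjN d).1 hdA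
        have h3 : π H ⟨j * d * j⁻¹, hAH h2⟩ = π H ⟨d, hAH hdA⟩ := by
          have e : (⟨j * d * j⁻¹, hAH h2⟩ : H) = ⟨j, hjH⟩ * ⟨d, hAH hdA⟩ * ⟨j, hjH⟩⁻¹ := rfl
          rw [e, map_mul, map_mul, map_inv, h1]
          group
        exact congrArg Subtype.val (π_inj hAp h2 hdA h3)
      tr := by
        intro x hx y hy hxD hyD
        obtain ⟨j, hj, hjc⟩ := tr _ (mem_img_of hAH hx) _ (mem_img_of hAH hy)
          (fun hc => hxD ((hmemD hx).2 hc)) (fun hc => hyD ((hmemD hy).2 hc))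
        obtain ⟨g, hg, hgl, rfl⟩ := hlift j hj
        have hgN := lift_le_normalizer H A J hgl
        have h2 : g * x * g⁻¹ * y⁻¹ ∈ A := mul_mem ((mem_normalizer_iff.1 hgN x).1 hx) (inv_mem hy)
        refine ⟨g, hgl, (hmemD h2).2 ?_⟩
        exact hjc
      big := by
        obtain ⟨x, hx, y, hy, h1, h2, h3⟩ := big
        obtain ⟨a, ha, rfl⟩ := (mem_img hAH).1 hx
        obtain ⟨b, hb, rfl⟩ := (mem_img hAH).1 hy
        refine ⟨a, ha, b, hb, fun hc => h1 ((hmemD ha).1 hc), fun hc => h2 ((hmemD hb).1 hc), fun hc => ?_⟩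
        exact h3 ((hmemD (mul_mem ha (inv_mem hb))).1 hc) }
  obtain ⟨i, hi⟩ := hsit.exists_type
  exact ⟨i, fun j hj => (hi j hj).trans inf_le_right⟩

/-! ### 2-components -/

section PComp

variable [Finite G] {H : Subgroup G}

omit [Finite G] in
/-- `[L, B] ≤ O(H)` iff the images commute. -/
theorem commutator_le_core_iff {L : Subgroup H} {B : Subgroup G} (hB : B ≤ H) :
    ⁅L.map H.subtype, B⁆ ≤ core H ↔
      B ≤ pull H (centralizer ((L.map (π H) : Subgroup (↥H ⧸ Cfsg.oddCore ↥H)) : Set (↥H ⧸ Cfsg.oddCore ↥H))) := by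
  have key : ∀ (l : H) (b : G) (hb : b ∈ H), ⁅(l : G), b⁆ ∈ core H ↔ π H ⟨b, hb⟩ * π H l = π H l * π H ⟨b, hb⟩ := by
    intro l b hb
    have e : ⁅(l : G), b⁆ = ((⁅l, (⟨b, hb⟩ : H)⁆ : H) : G) := rfl
    rw [e, ← π_eq_one, map_commutatorElement, commutatorElement_eq_one_iff_mul_comm]
    exact eq_comm
  constructor
  · intro hle b hb
    rw [mem_pull]
    refine ⟨hB hb, ?_⟩
    rw [mem_centralizer_iff]
    rintro _ ⟨l, hl, rfl⟩
    exact ((key l b (hB hb)).1 (hle (commutator_mem_commutator ⟨l, hl, rfl⟩ hb))).symm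
  · intro hle
    rw [commutator_le]
    rintro _ ⟨l, hl, rfl⟩ b hb
    obtain ⟨hbH, hbc⟩ := mem_pull.1 (hle hb)
    rw [mem_centralizer_iff] at hbc
    exact (key l b hbH).2 (hbc _ ⟨l, hl, rfl⟩).symm

omit [Finite G] in
/-- `B ≤ L O(H)` iff the image of `B` lies in the image of `L`. -/
theorem le_sup_core_iff {L : Subgroup H} {B : Subgroup G} :
    B ≤ L.map H.subtype ⊔ core H ↔ B ≤ pull H (L.map (π H)) := by
  have e : L.map H.subtype ⊔ core H = pull H (L.map (π H)) := by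
    rw [pull, comap_map_eq, QuotientGroup.ker_mk', core, ← Subgroup.map_sup]
  rw [e]

/-- The 2-components of `H`. -/
theorem exists_pcomp {M : Subgroup (↥H ⧸ Cfsg.oddCore ↥H)} (hM : Cfsg.IsComponent M) :
    ∃ L : Subgroup H, Cfsg.IsPComponent 2 L ∧ L.map (π H) = M :=
  haveI : Fact (Nat.Prime 2) := ⟨Nat.prime_two⟩
  Cfsg.Agent.Lib.PComponents.exists_pcomp hM

/-- `H = O(H) L(H) N_H(A)`. -/
theorem le_sup_pLayer {𝒜 : Set G} (h : IsElemFam 𝒜) (S : Sylow 2 G) (hAH : fam 𝒜 (S : Subgroup G) ≤ H)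
    (hctx : Ctx (push 𝒜 H)) :
    H ≤ core H ⊔ (Cfsg.pLayer 2 H).map H.subtype ⊔ normalizer (fam 𝒜 (S : Subgroup G) : Set G) := by
  haveI : Fact (Nat.Prime 2) := ⟨Nat.prime_two⟩
  obtain ⟨P, hP⟩ := GoldSolid.exists_sylow_push h S hAH
  have hI : GoldLayer.Inner (push 𝒜 H) (P : Subgroup (↥H ⧸ Cfsg.oddCore ↥H)) := fun L hL hA a ha haS =>
    GoldInner.exists_inner hctx hL hA P a ha haS
  have h1 := GoldLayer.layer_sup_normalizer hctx P hI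
  intro c hc
  have h2 : π H ⟨c, hc⟩ ∈ sSup {L | Cfsg.IsComponent L ∧ Act (push 𝒜 H) L} ⊔
      normalizer (fam (push 𝒜 H) (P : Subgroup (↥H ⧸ Cfsg.oddCore ↥H)) : Set (↥H ⧸ Cfsg.oddCore ↥H)) := by
    rw [h1]; exact mem_top _
  haveI hn : (sSup {L | Cfsg.IsComponent L ∧ Act (push 𝒜 H) L}).Normal :=
    GoldLayer.actLayer_normal hctx.fam
  obtain ⟨e, he, n, hn', hen⟩ := mem_sup_of_normal_left.1 h2
  have hle : sSup {L | Cfsg.IsComponent L ∧ Act (push 𝒜 H) L} ≤ Cfsg.layer (↥H ⧸ Cfsg.oddCore ↥H) :=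
    sSup_le_sSup fun L hL => hL.1
  have he' := hle he
  rw [← Cfsg.Agent.Lib.PComponents.map_pLayer] at he'
  obtain ⟨l, hl, rfl⟩ := he'
  rw [hP] at hn'
  obtain ⟨⟨m, hm⟩, rfl⟩ := π_surjective H n
  obtain ⟨o, ho, k, hk, hkH, e⟩ := GoldSolid.exists_mul_of_mem_normalizer h S hAH hm hn'
  -- `c = l m` mod the core
  have h3 : π H (l * ⟨m, hm⟩) = π H ⟨c, hc⟩ := by rw [map_mul]; exact hen
  rw [π_eq_iff'] at h3
  have h4 : c = l * o * k * (((l * ⟨m, hm⟩ : H) : G)⁻¹ * c) := by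
    have : ((l * ⟨m, hm⟩ : H) : G) = l * m := rfl
    rw [this, e]; group
  rw [h4]
  refine mul_mem (mul_mem (mul_mem ?_ ?_) ?_) ?_
  · exact mem_sup_left (mem_sup_right ⟨l, hl, rfl⟩)
  · exact mem_sup_left (mem_sup_left ho)
  · exact mem_sup_right hk
  · exact mem_sup_left (mem_sup_left h3)

end PComp

/-! ### The quotient `A/C_A(L)` has more than two elements -/

section Big

variable {X : Type u} [Group X] [Finite X] {𝒜 : Set X} {L : Subgroup X}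

/-- The family in `Inn L`. -/
def innFam (𝒜 : Set X) (L : Subgroup X) : Set ↥(GoldInner.inn L) :=
  {x | (x : ↥(normalizer (L : Set X)) ⧸ GoldInner.cn L) ∈ GoldInner.famN 𝒜 L}

omit [Finite X] in
theorem inn_nonab (hL : Cfsg.IsComponent L) : ∃ a b : ↥(GoldInner.inn L), a * b ≠ b * a := by
  obtain ⟨a, b, hab⟩ := GoldSolid.quasisimple_nonab hL.2
  refine ⟨GoldInner.innEquiv L a, GoldInner.innEquiv L b, ?_⟩
  rw [← map_mul, ← map_mul]
  exact fun e => hab ((GoldInner.innEquiv L).injective e)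

theorem exists_big (h : Ctx 𝒜) (hL : Cfsg.IsComponent L) (hA : Act 𝒜 L) (S : Sylow 2 X) :
    ∃ x ∈ fam 𝒜 (S : Subgroup X), ∃ y ∈ fam 𝒜 (S : Subgroup X), x ∉ centralizer (L : Set X) ∧
      y ∉ centralizer (L : Set X) ∧ x * y⁻¹ ∉ centralizer (L : Set X) := by
  classical
  haveI : Fact (Nat.Prime 2) := ⟨Nat.prime_two⟩
  by_contra hcon
  push Not at hcon
  obtain ⟨R, hR1, hR2⟩ := GoldInnerJ.exists_sylow_inn hL S
  obtain ⟨b₀, hb₀, hb₀S, hb₀L, hb₀c, -⟩ := GoldInnerJ.exists_comm h hL hA S (t := 1) (one_mem _) (one_mem _)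
  have hE : IsElemFam (innFam 𝒜 L) :=
    (GoldInner.isElemFam_famN h.fam).restrict (GoldInner.inn L)
  refine GoldSolid.card_ne_two_of (GoldInner.isSimpleGroup_inn hL) (inn_nonab hL) hE R ?_
  have hmem : ∀ (t : L), (t : X) ∈ 𝒜 → (t : X) ∈ (S : Subgroup X) →
      GoldInner.toInn L t ∈ fam (innFam 𝒜 L)
        (R : Subgroup ↥(GoldInner.inn L)) := by
    intro t ht htS
    refine mem_fam ?_ (hR1 t htS)
    exact ⟨⟨t, le_normalizer t.2⟩, ht, rfl⟩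
  have hb₀1 : GoldInner.toInn L ⟨b₀, hb₀L⟩ ≠ 1 := by
    rw [Ne, GoldInner.toInn_eq_one]; exact hb₀c
  rw [Nat.card_eq_two_iff' (⟨1, one_mem _⟩ : fam (innFam 𝒜 L)
    (R : Subgroup ↥(GoldInner.inn L)))]
  refine ⟨⟨_, hmem ⟨b₀, hb₀L⟩ hb₀ hb₀S⟩, fun e => hb₀1 (congrArg Subtype.val e), ?_⟩
  rintro ⟨z, hz⟩ hz1
  have hz1' : z ≠ 1 := fun e => hz1 (Subtype.ext e)
  apply Subtype.ext
  change z = GoldInner.toInn L ⟨b₀, hb₀L⟩
  obtain ⟨hzf, hzR⟩ := (hE.toIsClosedFam.mem_fam_iff R.2).1 hz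
  obtain ⟨t, htS, rfl⟩ := hR2 z hzR
  have htt : (t : X) * t ∈ centralizer (L : Set X) := by
    have h1 := hE.sq _ hzf
    rw [← map_mul, GoldInner.toInn_eq_one] at h1
    exact h1
  have htc : (t : X) ∉ centralizer (L : Set X) := fun hc => hz1' (GoldInner.toInn_eq_one L |>.2 hc)
  obtain ⟨b, hb, hbS, hbL, hbc, z, hzL, hzc, htz⟩ := GoldInnerJ.exists_fam_of_sq h hL hA S t.2 htS htt htc
  have h2 := hcon b (mem_fam hb hbS) b₀ (mem_fam hb₀ hb₀S) hbc hb₀c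
  rw [← mul_inv_eq_one, ← map_inv, ← map_mul, GoldInner.toInn_eq_one]
  change (t : X) * b₀⁻¹ ∈ _
  rw [htz]
  have : z * b * b₀⁻¹ = z * (b * b₀⁻¹) := by group
  rw [this]
  exact mul_mem hzc h2

end Big

/-! ### Pairs -/

section Pairs

open Cfsg.Agent.TwoFusion.GoldPairDefs

variable [Finite G] {𝒜 : Set G} {A : Subgroup G} {w : G} {L : Subgroup (Xw w)}

omit [Finite G] in
theorem mem_DD_iff (hAw : A ≤ Cw w) {a : G} (ha : a ∈ A) :
    a ∈ DD A w L ↔ π (Cw w) ⟨a, hAw ha⟩ ∈ centralizer (L : Set (Xw w)) := by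
  rw [mem_DD]
  exact ⟨fun ⟨_, _, h⟩ => h, fun h => ⟨ha, hAw ha, h⟩⟩

/-- `N_L(A)` centralizes `C_A(L)`. -/
theorem JJ_fix (hAp : IsPGroup 2 A) {g d : G} (hg : g ∈ JJ A w L) (hd : d ∈ DD A w L) : g * d * g⁻¹ = d := by
  obtain ⟨hgN, hgw, hgL⟩ := mem_JJ.1 hg
  obtain ⟨hdA, hdw, hdc⟩ := mem_DD.1 hd
  have h2 : g * d * g⁻¹ ∈ A := (mem_normalizer_iff.1 hgN d).1 hdA
  have h3 : pw w ⟨g, hgw⟩ * pw w ⟨d, hdw⟩ = pw w ⟨d, hdw⟩ * pw w ⟨g, hgw⟩ := mem_centralizer_iff.1 hdc _ hgL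
  have h4 : g * d * g⁻¹ ∈ Cw w := mul_mem (mul_mem hgw hdw) (inv_mem hgw)
  have h5 : π (Cw w) ⟨g * d * g⁻¹, h4⟩ = π (Cw w) ⟨d, hdw⟩ := by
    change pw w (⟨g, hgw⟩ * ⟨d, hdw⟩ * ⟨g, hgw⟩⁻¹) = pw w ⟨d, hdw⟩
    rw [map_mul, map_mul, map_inv, h3]
    group
  exact congrArg Subtype.val (π_inj hAp h2 hdA h5)

/-- An odd subgroup of `N_L(A)`, transitive on the nontrivial elements of `A/C_A(L)`. -/
theorem exists_JJ (h : IsElemFam 𝒜) (S : Sylow 2 G) (hctx : Ctx (push 𝒜 (Cw w)))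
    (hp : IsPair 𝒜 (fam 𝒜 (S : Subgroup G)) w L) :
    ∃ J ≤ JJ (fam 𝒜 (S : Subgroup G)) w L, Odd (Nat.card J) ∧
      ∀ x ∈ fam 𝒜 (S : Subgroup G), ∀ y ∈ fam 𝒜 (S : Subgroup G), x ∉ DD (fam 𝒜 (S : Subgroup G)) w L →
        y ∉ DD (fam 𝒜 (S : Subgroup G)) w L → ∃ j ∈ J, j * x * j⁻¹ * y⁻¹ ∈ DD (fam 𝒜 (S : Subgroup G)) w L := by
  set A := fam 𝒜 (S : Subgroup G) with hAdef
  have hmem : ∀ {x : G}, x ∈ A ↔ x ∈ 𝒜 ∧ x ∈ (S : Subgroup G) := fun {x} =>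
    h.toIsClosedFam.mem_fam_iff S.2
  have hcomm : ∀ a ∈ A, ∀ b ∈ A, a * b = b * a := by
    intro a ha b hb
    rw [hmem] at ha hb
    exact h.comm S.2 ha.1 ha.2 hb.1 hb.2
  have hAw : A ≤ Cw w := fun a ha => mem_Cw.2 (hcomm w hp.mem a ha)
  obtain ⟨P, hP⟩ := GoldSolid.exists_sylow_push h S hAw
  obtain ⟨J, hJL, hodd, hJN, hJt⟩ := GoldInnerJ.exists_J hctx hp.comp hp.act P
  rw [hP] at hJN hJt
  refine ⟨lift (Cw w) A J, ?_, odd_lift hodd, ?_⟩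
  · intro g hg
    obtain ⟨⟨hgw, hgJ⟩, hgN⟩ := mem_lift.1 hg
    exact mem_JJ.2 ⟨hgN, hgw, hJL hgJ⟩
  · intro x hx y hy hxD hyD
    rw [mem_DD_iff hAw hx] at hxD
    rw [mem_DD_iff hAw hy] at hyD
    obtain ⟨j, hj, hjc⟩ := hJt _ (mem_img_of hAw hx) _ (mem_img_of hAw hy) hxD hyD
    obtain ⟨g, hg, hgl, rfl⟩ := exists_mem_lift h S hAw hJN hj
    have hgN := lift_le_normalizer (Cw w) A J hgl
    have h2 : g * x * g⁻¹ * y⁻¹ ∈ A := mul_mem ((mem_normalizer_iff.1 hgN x).1 hx) (inv_mem hy)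
    exact ⟨g, hgl, (mem_DD_iff hAw h2).2 hjc⟩

theorem exists_big_pair (h : IsElemFam 𝒜) (S : Sylow 2 G) (hctx : Ctx (push 𝒜 (Cw w)))
    (hp : IsPair 𝒜 (fam 𝒜 (S : Subgroup G)) w L) :
    ∃ x ∈ fam 𝒜 (S : Subgroup G), ∃ y ∈ fam 𝒜 (S : Subgroup G), x ∉ DD (fam 𝒜 (S : Subgroup G)) w L ∧
      y ∉ DD (fam 𝒜 (S : Subgroup G)) w L ∧ x * y⁻¹ ∉ DD (fam 𝒜 (S : Subgroup G)) w L := by
  set A := fam 𝒜 (S : Subgroup G) with hAdef
  have hmem : ∀ {x : G}, x ∈ A ↔ x ∈ 𝒜 ∧ x ∈ (S : Subgroup G) := fun {x} =>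
    h.toIsClosedFam.mem_fam_iff S.2
  have hcomm : ∀ a ∈ A, ∀ b ∈ A, a * b = b * a := by
    intro a ha b hb
    rw [hmem] at ha hb
    exact h.comm S.2 ha.1 ha.2 hb.1 hb.2
  have hAw : A ≤ Cw w := fun a ha => mem_Cw.2 (hcomm w hp.mem a ha)
  obtain ⟨P, hP⟩ := GoldSolid.exists_sylow_push h S hAw
  obtain ⟨x, hx, y, hy, h1, h2, h3⟩ := exists_big hctx hp.comp hp.act P
  rw [hP] at hx hy
  obtain ⟨a, ha, rfl⟩ := (mem_img hAw).1 hx
  obtain ⟨b, hb, rfl⟩ := (mem_img hAw).1 hy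
  refine ⟨a, ha, b, hb, fun hc => h1 ((mem_DD_iff hAw ha).1 hc), fun hc => h2 ((mem_DD_iff hAw hb).1 hc),
    fun hc => h3 ((mem_DD_iff hAw (mul_mem ha (inv_mem hb))).1 hc)⟩

/-- Three different cosets. -/
theorem two_lt_relIndex {D : Subgroup G}
    (hbig : ∃ x ∈ A, ∃ y ∈ A, x ∉ D ∧ y ∉ D ∧ x * y⁻¹ ∉ D) : 2 < D.relIndex A := by
  obtain ⟨x, hx, y, hy, h1, h2, h3⟩ := hbig
  by_contra hle
  push Not at hle
  have h0 : D.relIndex A ≠ 0 := (D.subgroupOf A).index_ne_zero_of_finite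
  have h4 : D.relIndex A = 1 ∨ D.relIndex A = 2 := by omega
  rcases h4 with h4 | h4
  · exact h1 ((relIndex_eq_one.1 h4) hx)
  · have h5 : (D.subgroupOf A).index = 2 := h4
    have h6 := (Subgroup.mul_mem_iff_of_index_two h5 (a := ⟨x, hx⟩) (b := ⟨y, hy⟩⁻¹)).2 (by
      constructor
      · intro hc; exact absurd (mem_subgroupOf.1 hc) h1
      · intro hc; exact absurd (mem_subgroupOf.1 ((D.subgroupOf A).inv_mem_iff.1 hc)) h2)
    exact h3 (mem_subgroupOf.1 h6)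

end Pairs

end Cfsg.Agent.TwoFusion.GoldBridge
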