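import Cfsg.Agent.TwoFusion.GoldFourAct
import Cfsg.Agent.TwoFusion.GoldSolid

/-!
# Goldschmidt's theorem, `|A| = 4`: the centralizer of the bad component

`cen 𝒜 e`: the elements of `C(e)` which centralize `⟨𝒜 ∩ C(e)⟩` modulo `O(C(e))`.
-/

set_option autoImplicit false
set_option linter.style.haveILetI false

namespace Cfsg.Agent.TwoFusion.GoldCen

open Subgroup
open Cfsg.Agent.TwoFusion.ClosedFam Cfsg.Agent.TwoFusion.Gold
open Cfsg.Agent.TwoFusion.ClosedLocal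

variable {G : Type*} [Group G]

/-- The elements of `C(e)` centralizing the family modulo the core of `C(e)`. -/
def cen (𝒜 : Set G) (e : G) : Subgroup G where
  carrier := {g | g ∈ centralizer ({e} : Set G) ∧ ∀ k ∈ 𝒜, k ∈ centralizer ({e} : Set G) →
    g * k * g⁻¹ * k⁻¹ ∈ core (centralizer ({e} : Set G))}
  one_mem' := ⟨one_mem _, fun k _ _ => by simp [Subgroup.one_mem]⟩
  mul_mem' := by
    rintro g h ⟨hg1, hg2⟩ ⟨hh1, hh2⟩
    refine ⟨mul_mem hg1 hh1, fun k hk hkC => ?_⟩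
    have e1 : g * h * k * (g * h)⁻¹ * k⁻¹ =
        g * (h * k * h⁻¹ * k⁻¹) * g⁻¹ * (g * k * g⁻¹ * k⁻¹) := by group
    rw [e1]
    exact mul_mem (conj_mem_core hg1 (hh2 k hk hkC)) (hg2 k hk hkC)
  inv_mem' := by
    rintro g ⟨hg1, hg2⟩
    refine ⟨inv_mem hg1, fun k hk hkC => ?_⟩
    have e1 : g⁻¹ * k * g⁻¹⁻¹ * k⁻¹ = g⁻¹ * (g * k * g⁻¹ * k⁻¹)⁻¹ * g⁻¹⁻¹ := by group
    rw [e1]
    exact conj_mem_core (inv_mem hg1) (inv_mem (hg2 k hk hkC))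

theorem mem_cen {𝒜 : Set G} {e g : G} : g ∈ cen 𝒜 e ↔ g * e = e * g ∧ ∀ k ∈ 𝒜, k * e = e * k →
    g * k * g⁻¹ * k⁻¹ ∈ core (centralizer ({e} : Set G)) := by
  constructor
  · rintro ⟨h1, h2⟩
    exact ⟨mem_cent.1 h1, fun k hk hke => h2 k hk (mem_cent.2 hke)⟩
  · rintro ⟨h1, h2⟩
    exact ⟨mem_cent.2 h1, fun k hk hke => h2 k hk (mem_cent.1 hke)⟩

end Cfsg.Agent.TwoFusion.GoldCen
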