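import Cfsg.Agent.TwoFusion.GoldCen
import Cfsg.Agent.TwoFusion.GoldBad

/-!
# Goldschmidt's theorem, `|A| = 4`: the action of 2-elements on the bad component
-/

set_option autoImplicit false
set_option linter.style.haveILetI false

namespace Cfsg.Agent.TwoFusion.GoldCenAct

open Subgroup
open Cfsg.Agent.TwoFusion.ClosedFam Cfsg.Agent.TwoFusion.Gold Cfsg.Agent.TwoFusion.GoldSetup
open Cfsg.Agent.TwoFusion.ClosedLocal Cfsg.Agent.TwoFusion.GoldCen Cfsg.Agent.TwoFusion.GoldBad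

universe u

section Abstract

variable {X : Type*} [Group X] [Finite X]

/-- A 2-element centralizing the Sylow four-group `A` of the simple normal subgroup `K` acts on `K` as an element
of `A`. -/
theorem exists_mul_mem_centralizer {K A : Subgroup X} (hKn : K.Normal) (hK : IsSimpleGroup K)
    (hna : ∃ x ∈ K, ∃ y ∈ K, x * y ≠ y * x)
    (hAK : A ≤ K) (hA4 : Nat.card A = 4) (hAsq : ∀ a ∈ A, a * a = 1) (hAi : ¬ 2 ∣ A.relIndex K)
    {p : X} (hpA : ∀ a ∈ A, p * a = a * p) (hp : ∃ k : ℕ, p ^ 2 ^ k = 1) :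
    ∃ a ∈ A, a * p ∈ centralizer (K : Set X) := by
  classical
  haveI := hK
  haveI := hKn
  set C : Subgroup X := centralizer (K : Set X) with hC
  haveI hCn : C.Normal := by
    rw [hC]; infer_instance
  set f := QuotientGroup.mk' C with hf
  have hfs : Function.Surjective f := QuotientGroup.mk'_surjective _
  have hf1 : ∀ x, f x = 1 ↔ x ∈ C := fun x => by
    rw [hf, QuotientGroup.mk'_apply, QuotientGroup.eq_one_iff]
  -- `f` is injective on `K`
  have hKC : ∀ x ∈ K, x ∈ C → x = 1 := by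
    intro x hx hxC
    have hxc : (⟨x, hx⟩ : K) ∈ center K := by
      rw [mem_center_iff]
      intro g
      exact Subtype.ext ((mem_centralizer_iff.1 hxC) g g.2)
    rcases IsSimpleGroup.eq_bot_or_eq_top_of_normal (center K) inferInstance with hc | hc
    · rw [hc, mem_bot] at hxc
      exact congrArg Subtype.val hxc
    · exfalso
      obtain ⟨u, hu, v, hv, huv⟩ := hna
      apply huv
      have : (⟨v, hv⟩ : K) ∈ center K := by rw [hc]; exact mem_top _
      exact congrArg Subtype.val (mem_center_iff.1 this ⟨u, hu⟩)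
  have hinj : ∀ x ∈ K, ∀ y ∈ K, f x = f y → x = y := by
    intro x hx y hy hxy
    have h1 : x * y⁻¹ = 1 := hKC _ (mul_mem hx (inv_mem hy)) ((hf1 _).1 (by rw [map_mul, map_inv, hxy]; group))
    exact mul_inv_eq_one.1 h1
  have hcard : ∀ B : Subgroup X, B ≤ K → Nat.card (B.map f) = Nat.card B := by
    intro B hB
    have hio : Set.InjOn f (B : Set X) := fun x hx y hy => hinj x (hB hx) y (hB hy)
    have := Nat.card_image_of_injOn hio
    exact this
  have hsimple : IsSimpleGroup (K.map f) := by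
    haveI : Nontrivial (K.map f) := by
      rw [← Finite.one_lt_card_iff_nontrivial, hcard K le_rfl]
      have := Subgroup.card_le_of_le hAK
      omega
    exact IsSimpleGroup.isSimpleGroup_of_surjective (f.subgroupMap K) (f.subgroupMap_surjective K)
  have hmem := GoldFourAct.mem_of_comm (Y := X ⧸ C) (K := K.map f) (A := A.map f) (p := f p) (hKn.map f hfs) hsimple
    (by
      obtain ⟨u, hu, v, hv, huv⟩ := hna
      refine ⟨f u, ⟨u, hu, rfl⟩, f v, ⟨v, hv, rfl⟩, fun h1 => huv ?_⟩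
      rw [← map_mul, ← map_mul] at h1
      exact hinj _ (mul_mem hu hv) _ (mul_mem hv hu) h1)
    (Subgroup.map_mono hAK) (by rw [hcard A hAK, hA4])
    (by
      rintro _ ⟨a, ha, rfl⟩
      rw [← map_mul, hAsq a ha, map_one])
    (by
      have h1 := relIndex_mul_relIndex ⊥ (A.map f) (K.map f) bot_le (Subgroup.map_mono hAK)
      have h2 := relIndex_mul_relIndex ⊥ A K bot_le hAK
      rw [relIndex_bot_left, relIndex_bot_left] at h1 h2
      rw [hcard A hAK, hcard K le_rfl, ← h2, hA4] at h1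
      have h3 : (A.map f).relIndex (K.map f) = A.relIndex K := by omega
      rw [h3]; exact hAi)
    (by
      rw [eq_bot_iff]
      intro y hy
      obtain ⟨x, rfl⟩ := hfs y
      rw [mem_bot, hf1, hC, mem_centralizer_iff]
      intro k hk
      have h1 := (mem_centralizer_iff.1 hy) (f k) ⟨k, hk, rfl⟩
      rw [← map_mul, ← map_mul] at h1
      have h2 : k * x * (x * k)⁻¹ ∈ C := by
        rw [← hf1, map_mul, map_inv, h1]; group
      have h3 : k * x * (x * k)⁻¹ ∈ K := by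
        have e : k * x * (x * k)⁻¹ = k * (x * k⁻¹ * x⁻¹) := by group
        rw [e]
        exact mul_mem hk (hKn.conj_mem _ (inv_mem hk) x)
      exact mul_inv_eq_one.1 (hKC _ h3 h2))
    (by
      rintro _ ⟨a, ha, rfl⟩
      rw [← map_mul, ← map_mul, hpA a ha])
    (by
      obtain ⟨k, hk⟩ := hp
      exact ⟨k, by rw [← map_pow, hk, map_one]⟩)
  obtain ⟨a, ha, hap⟩ := hmem
  refine ⟨a, ha, ?_⟩
  rw [← hf1, map_mul, ← hap, ← map_mul, hAsq a ha, map_one]

end Abstract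

section G

variable {G : Type u} [Group G] {𝒜 : Set G}

/-- `g ∈ cen 𝒜 e` means that the image of `g` in `C(e)/O(C(e))` centralizes the group generated by the family. -/
theorem mem_cen_iff {e g : G} (hg : g ∈ centralizer ({e} : Set G)) : g ∈ cen 𝒜 e ↔
    QuotientGroup.mk' (Cfsg.oddCore ↥(centralizer ({e} : Set G))) ⟨g, hg⟩ ∈
      centralizer ((fam (push 𝒜 (centralizer ({e} : Set G))) ⊤ :
        Subgroup (↥(centralizer ({e} : Set G)) ⧸ Cfsg.oddCore ↥(centralizer ({e} : Set G)))) :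
          Set (↥(centralizer ({e} : Set G)) ⧸ Cfsg.oddCore ↥(centralizer ({e} : Set G)))) := by
  set f := QuotientGroup.mk' (Cfsg.oddCore ↥(centralizer ({e} : Set G))) with hf
  have hcore : ∀ x : ↥(centralizer ({e} : Set G)), (x : G) ∈ core (centralizer ({e} : Set G)) ↔ f x = 1 := by
    intro x
    rw [hf, QuotientGroup.mk'_apply, QuotientGroup.eq_one_iff]
    constructor
    · rintro ⟨y, hy, hyx⟩
      have : y = x := Subtype.ext hyx
      rwa [← this]
    · intro hx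
      exact ⟨x, hx, rfl⟩
  constructor
  · intro h1
    rw [mem_cen] at h1
    have hle : fam (push 𝒜 (centralizer ({e} : Set G))) ⊤ ≤ centralizer ({f ⟨g, hg⟩} : Set _) := by
      rw [fam_le_iff]
      rintro _ ⟨k, hk, rfl⟩ -
      rw [mem_centralizer_singleton_iff]
      have h2 := h1.2 k hk (mem_cent.1 k.2)
      have h3 : f (⟨g, hg⟩ * k * ⟨g, hg⟩⁻¹ * k⁻¹) = 1 := (hcore _).1 h2
      rw [map_mul, map_mul, map_mul, map_inv, map_inv] at h3
      have h4 : f ⟨g, hg⟩ * f k * (f ⟨g, hg⟩)⁻¹ = f k := mul_inv_eq_one.1 h3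
      change f k * f ⟨g, hg⟩ = f ⟨g, hg⟩ * f k
      calc f k * f ⟨g, hg⟩ = (f ⟨g, hg⟩ * f k * (f ⟨g, hg⟩)⁻¹) * f ⟨g, hg⟩ := by rw [h4]
        _ = f ⟨g, hg⟩ * f k := by group
    rw [mem_centralizer_iff]
    intro k hk
    exact mem_centralizer_singleton_iff.1 (hle hk)
  · intro h1
    rw [mem_centralizer_iff] at h1
    rw [mem_cen]
    refine ⟨mem_cent.1 hg, fun k hk hke => ?_⟩
    have hkH : k ∈ centralizer ({e} : Set G) := mem_cent.2 hke
    have h2 := h1 (f ⟨k, hkH⟩) (mem_fam ⟨⟨k, hkH⟩, hk, rfl⟩ (mem_top _))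
    refine (hcore (⟨g, hg⟩ * ⟨k, hkH⟩ * ⟨g, hg⟩⁻¹ * ⟨k, hkH⟩⁻¹)).2 ?_
    rw [map_mul, map_mul, map_mul, map_inv, map_inv, ← h2]; group

/-- `cen 𝒜 e` is normal in `C(e)`. -/
theorem conj_mem_cen (hA : IsElemFam 𝒜) {e g x : G} (hg : g * e = e * g) (hx : x ∈ cen 𝒜 e) :
    g * x * g⁻¹ ∈ cen 𝒜 e := by
  rw [mem_cen] at hx ⊢
  have hxe : x * e = e * x := hx.1
  refine ⟨?_, fun k hk hke => ?_⟩
  · calc g * x * g⁻¹ * e = g * x * (g⁻¹ * (e * g)) * g⁻¹ := by group
      _ = g * (x * e) * g⁻¹ := by rw [← hg]; group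
      _ = (g * e) * x * g⁻¹ := by rw [hxe]; group
      _ = e * (g * x * g⁻¹) := by rw [hg]; group
  · have hge' : g⁻¹ * e = e * g⁻¹ := by
      calc g⁻¹ * e = g⁻¹ * (e * g) * g⁻¹ := by group
        _ = e * g⁻¹ := by rw [← hg]; group
    have hk' : g⁻¹ * k * g ∈ 𝒜 := by
      have := hA.conj_mem k hk g⁻¹
      rwa [inv_inv] at this
    have h1 := hx.2 (g⁻¹ * k * g) hk' (by
      calc g⁻¹ * k * g * e = g⁻¹ * k * (g * e) := by group
        _ = g⁻¹ * (k * e) * g := by rw [hg]; group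
        _ = (g⁻¹ * e) * k * g := by rw [hke]; group
        _ = e * (g⁻¹ * k * g) := by rw [hge']; group)
    have h2 := conj_mem_core (mem_cent.2 hg) h1
    have e1 : g * x * g⁻¹ * k * (g * x * g⁻¹)⁻¹ * k⁻¹ =
        g * (x * (g⁻¹ * k * g) * x⁻¹ * (g⁻¹ * k * g)⁻¹) * g⁻¹ := by group
    rw [e1]; exact h2

theorem self_mem_cen {e : G} : e ∈ cen 𝒜 e := by
  rw [mem_cen]
  refine ⟨rfl, fun k _ hke => ?_⟩
  have : e * k * e⁻¹ * k⁻¹ = 1 := by rw [← hke]; group
  rw [this]; exact one_mem _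

variable [Finite G]

/-- The group generated by the family in `C(e)/O(C(e))` is not commutative. -/
theorem Bad_nonab {e : G} (he : Bad 𝒜 e) :
    ∃ x ∈ fam (push 𝒜 (centralizer ({e} : Set G))) ⊤, ∃ y ∈ fam (push 𝒜 (centralizer ({e} : Set G))) ⊤,
      x * y ≠ y * x := by
  obtain ⟨-, -, -, -, Q, R, hQR, -⟩ := he
  by_contra hcon
  push Not at hcon
  haveI : Fact (Nat.Prime 2) := ⟨Nat.prime_two⟩
  apply hQR
  obtain ⟨g, hg⟩ := MulAction.exists_smul_eq (fam (push 𝒜 (centralizer ({e} : Set G))) ⊤) Q R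
  rw [← hg]
  apply Sylow.ext
  ext x
  rw [Sylow.coe_subgroup_smul, Subgroup.mem_pointwise_smul_iff_inv_smul_mem]
  have e1 : (MulAut.conj g)⁻¹ • x = x := by
    rw [← map_inv, MulAut.smul_def, MulAut.conj_apply]
    apply Subtype.ext
    have := hcon _ (g⁻¹).2 x x.2
    simp only [inv_inv, Subgroup.coe_mul]
    rw [this]
    simp
  rw [e1]

/-- The image of `A` in `C(e)/O(C(e))`. -/
theorem image_facts (hA : IsElemFam 𝒜) (S : Sylow 2 G) (h4 : Nat.card (fam 𝒜 (S : Subgroup G)) = 4) {e : G}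
    (he : Bad 𝒜 e) (hAe : fam 𝒜 (S : Subgroup G) ≤ centralizer ({e} : Set G)) :
    (∀ a : ↥(centralizer ({e} : Set G)), (a : G) ∈ fam 𝒜 (S : Subgroup G) →
      QuotientGroup.mk' (Cfsg.oddCore ↥(centralizer ({e} : Set G))) a = 1 → a = 1) ∧
    ((fam 𝒜 (S : Subgroup G)).subgroupOf (centralizer ({e} : Set G))).map
      (QuotientGroup.mk' (Cfsg.oddCore ↥(centralizer ({e} : Set G)))) ≤
        fam (push 𝒜 (centralizer ({e} : Set G))) ⊤ ∧
    Nat.card (((fam 𝒜 (S : Subgroup G)).subgroupOf (centralizer ({e} : Set G))).map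
      (QuotientGroup.mk' (Cfsg.oddCore ↥(centralizer ({e} : Set G))))) = 4 ∧
    (∀ a ∈ ((fam 𝒜 (S : Subgroup G)).subgroupOf (centralizer ({e} : Set G))).map
      (QuotientGroup.mk' (Cfsg.oddCore ↥(centralizer ({e} : Set G)))), a * a = 1) ∧
    ¬ 2 ∣ (((fam 𝒜 (S : Subgroup G)).subgroupOf (centralizer ({e} : Set G))).map
      (QuotientGroup.mk' (Cfsg.oddCore ↥(centralizer ({e} : Set G))))).relIndex
        (fam (push 𝒜 (centralizer ({e} : Set G))) ⊤) := by
  classical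
  haveI : Fact (Nat.Prime 2) := ⟨Nat.prime_two⟩
  set H := centralizer ({e} : Set G) with hH
  set A := fam 𝒜 (S : Subgroup G) with hAdef
  set f := QuotientGroup.mk' (Cfsg.oddCore ↥H) with hf
  have hAp : IsPGroup 2 A := isPGroup_fam 𝒜 S.2
  have hA𝒜 : ∀ a ∈ A, a ∈ 𝒜 := fun a ha => ((hA.toIsClosedFam.mem_fam_iff S.2).1 ha).1
  have h1 : ∀ a : ↥H, (a : G) ∈ A → f a = 1 → a = 1 := by
    intro a ha hfa
    have h2 : a ∈ Cfsg.oddCore ↥H := by
      rw [← QuotientGroup.ker_mk' (Cfsg.oddCore ↥H)]; exact hfa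
    have h3 : (a : G) = 1 := eq_one_of_odd_of_isPGroup (odd_core H) hAp ⟨a, h2, rfl⟩ ha
    exact Subtype.ext h3
  have hcard : Nat.card ((A.subgroupOf H).map f) = 4 := by
    have hio : Set.InjOn f (A.subgroupOf H : Set H) := by
      intro x hx y hy hxy
      have h2 : x * y⁻¹ = 1 := h1 _ (mul_mem hx (inv_mem hy)) (by rw [map_mul, map_inv, hxy]; group)
      exact mul_inv_eq_one.1 h2
    have h2 : Nat.card ((A.subgroupOf H).map f) = Nat.card (A.subgroupOf H) := Nat.card_image_of_injOn hio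
    rw [h2, Nat.card_congr (subgroupOfEquivOfLe hAe).toEquiv, h4]
  have hle : (A.subgroupOf H).map f ≤ fam (push 𝒜 H) ⊤ := by
    rintro _ ⟨a, ha, rfl⟩
    exact mem_fam ⟨a, hA𝒜 a ha, rfl⟩ (mem_top _)
  have hsq : ∀ a ∈ (A.subgroupOf H).map f, a * a = 1 := by
    rintro _ ⟨a, ha, rfl⟩
    have h2 : a * a = 1 := Subtype.ext (hA.sq a (hA𝒜 a ha))
    rw [← map_mul, h2, map_one]
  refine ⟨h1, hle, hcard, hsq, ?_⟩
  have hp : IsPGroup 2 ((A.subgroupOf H).map f) := (hAp.comap_of_injective H.subtype H.subtype_injective).map f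
  have hp' : IsPGroup 2 (((A.subgroupOf H).map f).subgroupOf (fam (push 𝒜 H) ⊤)) :=
    hp.comap_of_injective (fam (push 𝒜 H) ⊤).subtype (subtype_injective _)
  obtain ⟨Q, hQ⟩ := hp'.exists_le_sylow
  have hQ4 := he.2.2.2.1 Q
  have h5 : ((A.subgroupOf H).map f).subgroupOf (fam (push 𝒜 H) ⊤) = Q := by
    apply Subgroup.eq_of_le_of_card_ge hQ
    rw [Nat.card_congr (subgroupOfEquivOfLe hle).toEquiv, hcard]
    exact hQ4.le
  rw [relIndex, h5]
  exact Q.not_dvd_index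

/-- (B2) A 2-element of `C(e)` centralizing `A` is the product of an element of `A` and an element of `cen 𝒜 e`. -/
theorem exists_mul_mem_cen (hA : IsElemFam 𝒜) (S : Sylow 2 G) (h4 : Nat.card (fam 𝒜 (S : Subgroup G)) = 4) {e : G}
    (he : Bad 𝒜 e) (hAe : ∀ a ∈ fam 𝒜 (S : Subgroup G), a * e = e * a) {p : G} (hpe : p * e = e * p)
    (hpA : ∀ a ∈ fam 𝒜 (S : Subgroup G), p * a = a * p) (hp : ∃ k : ℕ, p ^ 2 ^ k = 1) :
    ∃ a ∈ fam 𝒜 (S : Subgroup G), a * p ∈ cen 𝒜 e := by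
  have hAe' : fam 𝒜 (S : Subgroup G) ≤ centralizer ({e} : Set G) := fun a ha => mem_cent.2 (hAe a ha)
  obtain ⟨h1, h2, h3, h5, h6⟩ := image_facts hA S h4 he hAe'
  have hpH : p ∈ centralizer ({e} : Set G) := mem_cent.2 hpe
  obtain ⟨_, ⟨a, ha, rfl⟩, hap⟩ := exists_mul_mem_centralizer
    (p := QuotientGroup.mk' (Cfsg.oddCore ↥(centralizer ({e} : Set G))) ⟨p, hpH⟩)
    ((hA.push (centralizer ({e} : Set G))).toIsClosedFam.fam_normal ⊤) he.2.2.1 (Bad_nonab he) h2 h3 h5 h6 (by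
      rintro _ ⟨a, ha, rfl⟩
      rw [← map_mul, ← map_mul]
      congr 1
      exact Subtype.ext (hpA a ha)) (by
      obtain ⟨k, hk⟩ := hp
      refine ⟨k, ?_⟩
      rw [← map_pow]
      have : (⟨p, hpH⟩ : ↥(centralizer ({e} : Set G))) ^ 2 ^ k = 1 := Subtype.ext hk
      rw [this, map_one])
  refine ⟨a, ha, ?_⟩
  rw [← map_mul] at hap
  exact (mem_cen_iff (mul_mem a.2 hpH)).2 hap

/-- (B2, uniqueness) -/
theorem eq_one_of_mem_cen (hA : IsElemFam 𝒜) (S : Sylow 2 G) (h4 : Nat.card (fam 𝒜 (S : Subgroup G)) = 4) {e : G}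
    (he : Bad 𝒜 e) (hAe : ∀ a ∈ fam 𝒜 (S : Subgroup G), a * e = e * a) {a : G}
    (ha : a ∈ fam 𝒜 (S : Subgroup G)) (hac : a ∈ cen 𝒜 e) : a = 1 := by
  have hAe' : fam 𝒜 (S : Subgroup G) ≤ centralizer ({e} : Set G) := fun a ha => mem_cent.2 (hAe a ha)
  obtain ⟨h1, h2, h3, h5, h6⟩ := image_facts hA S h4 he hAe'
  have haH := hAe' ha
  have h7 := (mem_cen_iff haH).1 hac
  haveI := he.2.2.1
  set K := fam (push 𝒜 (centralizer ({e} : Set G))) ⊤ with hK
  set f := QuotientGroup.mk' (Cfsg.oddCore ↥(centralizer ({e} : Set G))) with hf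
  have haK : f ⟨a, haH⟩ ∈ K := h2 ⟨⟨a, haH⟩, ha, rfl⟩
  have hac : (⟨f ⟨a, haH⟩, haK⟩ : K) ∈ center K := by
    rw [mem_center_iff]
    intro g
    exact Subtype.ext ((mem_centralizer_iff.1 h7) g g.2)
  have h8 : f ⟨a, haH⟩ = 1 := by
    rcases IsSimpleGroup.eq_bot_or_eq_top_of_normal (center K) inferInstance with hc | hc
    · rw [hc, mem_bot] at hac
      exact congrArg Subtype.val hac
    · exfalso
      obtain ⟨u, hu, v, hv, huv⟩ := Bad_nonab he
      apply huv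
      have : (⟨v, hv⟩ : K) ∈ center K := by rw [hc]; exact mem_top _
      exact congrArg Subtype.val (mem_center_iff.1 this ⟨u, hu⟩)
  exact congrArg Subtype.val (h1 ⟨a, haH⟩ ha h8)

/-- The normalizer of `A` in `C(e)` contains an element acting without fixed points on `A`. -/
theorem exists_fpf (hA : IsElemFam 𝒜) (S : Sylow 2 G) (h4 : Nat.card (fam 𝒜 (S : Subgroup G)) = 4) {e : G}
    (he : Bad 𝒜 e) (hAe : ∀ a ∈ fam 𝒜 (S : Subgroup G), a * e = e * a) :
    ∃ n : G, n * e = e * n ∧ n ∈ normalizer (fam 𝒜 (S : Subgroup G) : Set G) ∧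
      ∀ a ∈ fam 𝒜 (S : Subgroup G), n * a * n⁻¹ = a → a = 1 := by
  have hAe' : fam 𝒜 (S : Subgroup G) ≤ centralizer ({e} : Set G) := fun a ha => mem_cent.2 (hAe a ha)
  obtain ⟨h1, h2, h3, h5, h6⟩ := image_facts hA S h4 he hAe'
  obtain ⟨m, hmK, hmA, hfix⟩ := GoldFourAct.exists_fpf he.2.2.1 (Bad_nonab he) h2 h3 h5 h6
  set f := QuotientGroup.mk' (Cfsg.oddCore ↥(centralizer ({e} : Set G))) with hf
  obtain ⟨c, rfl⟩ : ∃ c, f c = m := QuotientGroup.mk'_surjective _ m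
  obtain ⟨o, ho, n, hn, hnH, hco⟩ := GoldSolid.exists_mul_of_mem_normalizer hA S hAe' c.2 hmA
  refine ⟨n, mem_cent.1 hnH, hn, fun a ha hna => ?_⟩
  have haH := hAe' ha
  have hoH : o ∈ centralizer ({e} : Set G) := core_le _ ho
  have hfo : f ⟨o, hoH⟩ = 1 := by
    obtain ⟨y, hy, hyo⟩ := ho
    have e1 : y = ⟨o, hoH⟩ := Subtype.ext hyo
    rw [← e1]
    exact (QuotientGroup.eq_one_iff _).2 hy
  have hfc : f c = f ⟨n, hnH⟩ := by
    have e1 : c = ⟨o, hoH⟩ * ⟨n, hnH⟩ := Subtype.ext hco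
    rw [e1, map_mul, hfo, one_mul]
  have h7 : f ⟨a, haH⟩ = 1 := by
    apply hfix _ ⟨⟨a, haH⟩, ha, rfl⟩
    rw [hfc, ← map_inv, ← map_mul, ← map_mul]
    congr 1
    exact Subtype.ext hna
  exact congrArg Subtype.val (h1 ⟨a, haH⟩ ha h7)

end G

end Cfsg.Agent.TwoFusion.GoldCenAct
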