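import Cfsg.Agent.TwoFusion.GoldCases

/-!
# Complements to `D` in `A` from a transitive group of odd order

`A` is elementary abelian, `D ≤ A`, the group `J` normalizes `A`, centralizes `D`, is transitive on the
nontrivial elements of `A/D` and induces a group of odd order on `A`. Then `[A, J]` is a complement to `D`.
-/

set_option autoImplicit false
set_option linter.style.haveILetI false

namespace Cfsg.Agent.TwoFusion.GoldCentreCompl

open Subgroup
open Cfsg.Agent.TwoFusion.GoldCases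

variable {G : Type*} [Group G]

/-- The subgroup `[A, J]`. -/
def cm (A J : Subgroup G) : Subgroup G := closure {g | ∃ j ∈ J, ∃ a ∈ A, g = j * a * j⁻¹ * a⁻¹}

theorem mem_cm {A J : Subgroup G} {j a : G} (hj : j ∈ J) (ha : a ∈ A) : j * a * j⁻¹ * a⁻¹ ∈ cm A J :=
  subset_closure ⟨j, hj, a, ha, rfl⟩

theorem cm_le {A J : Subgroup G} (hJ : J ≤ normalizer (A : Set G)) : cm A J ≤ A := by
  rw [cm, closure_le]
  rintro _ ⟨j, hj, a, ha, rfl⟩
  exact mul_mem ((mem_normalizer_iff.1 (hJ hj) a).1 ha) (inv_mem ha)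

section

variable {A D J : Subgroup G} [Finite G]

/-- Every element of `A` is a product of a commutator and an element of `D`. -/
theorem exists_comm_mul (comm : ∀ a ∈ A, ∀ b ∈ A, a * b = b * a) (hDA : D ≤ A) (q2 : 2 < D.relIndex A)
    (hJ : J ≤ normalizer (A : Set G))
    (htr : ∀ x ∈ A, ∀ y ∈ A, x ∉ D → y ∉ D → ∃ j ∈ J, j * x * j⁻¹ * y⁻¹ ∈ D) {z : G} (hz : z ∈ A) :
    ∃ j ∈ J, ∃ x ∈ A, (j * x * j⁻¹ * x⁻¹)⁻¹ * z ∈ D := by
  by_cases hzD : z ∈ D
  · exact ⟨1, one_mem _, 1, one_mem _, by simpa using hzD⟩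
  -- choose `x ∉ D` with `z * x ∉ D`
  obtain ⟨x, hx, hxD, hzx⟩ : ∃ x ∈ A, x ∉ D ∧ z * x ∉ D := by
    by_contra hcon
    push Not at hcon
    have h1 : D.relIndex A ≤ 2 := by
      have h2 : ∀ x : A, (x : G) ∉ D → z * x ∈ D := fun x hxD => hcon x x.2 hxD
      have h3 : Nat.card A ≤ Nat.card (D ⊕ D) := by
        classical
        refine Nat.card_le_card_of_injective (fun x : A =>
          if hxD : (x : G) ∈ D then (Sum.inl ⟨x, hxD⟩ : D ⊕ D) else Sum.inr ⟨z * x, h2 x hxD⟩) ?_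
        intro x y hxy
        dsimp only at hxy
        by_cases hxD : (x : G) ∈ D
        · by_cases hyD : (y : G) ∈ D
          · rw [dif_pos hxD, dif_pos hyD] at hxy
            have h6 := Sum.inl.inj hxy
            exact Subtype.ext (Subtype.mk.inj h6)
          · rw [dif_pos hxD, dif_neg hyD] at hxy
            exact absurd hxy (by simp)
        · by_cases hyD : (y : G) ∈ D
          · rw [dif_neg hxD, dif_pos hyD] at hxy
            exact absurd hxy (by simp)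
          · rw [dif_neg hxD, dif_neg hyD] at hxy
            have h6 := Sum.inr.inj hxy
            exact Subtype.ext (mul_left_cancel (Subtype.mk.inj h6))
      rw [Nat.card_sum, ← ClassData.card_mul_relIndex' hDA] at h3
      have h4 : 0 < Nat.card D := Nat.card_pos
      by_contra h5
      push Not at h5
      have : Nat.card D * 3 ≤ Nat.card D * D.relIndex A := Nat.mul_le_mul_left _ h5
      omega
    omega
  obtain ⟨j, hj, hjx⟩ := htr x hx (z * x) (mul_mem hz hx) hxD hzx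
  refine ⟨j, hj, x, hx, ?_⟩
  have hjxA : j * x * j⁻¹ ∈ A := (mem_normalizer_iff.1 (hJ hj) x).1 hx
  have e : (j * x * j⁻¹ * x⁻¹)⁻¹ * z = ((j * x * j⁻¹) * (z * x)⁻¹)⁻¹ := by
    set y := j * x * j⁻¹ with hy
    have h1 := comm z hz x hx
    have h3 := comm y⁻¹ (inv_mem hjxA) z hz
    calc (y * x⁻¹)⁻¹ * z = x * (y⁻¹ * z) := by group
      _ = x * (z * y⁻¹) := by rw [h3]
      _ = (x * z) * y⁻¹ := by group
      _ = (z * x) * y⁻¹ := by rw [h1]
      _ = (y * (z * x)⁻¹)⁻¹ := by group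
  rw [e]
  exact inv_mem hjx

/-- `[A, J] D = A`. -/
theorem cm_sup (comm : ∀ a ∈ A, ∀ b ∈ A, a * b = b * a) (hDA : D ≤ A) (q2 : 2 < D.relIndex A)
    (hJ : J ≤ normalizer (A : Set G))
    (htr : ∀ x ∈ A, ∀ y ∈ A, x ∉ D → y ∉ D → ∃ j ∈ J, j * x * j⁻¹ * y⁻¹ ∈ D) : cm A J ⊔ D = A := by
  apply le_antisymm (sup_le (cm_le hJ) hDA)
  intro z hz
  obtain ⟨j, hj, x, hx, h1⟩ := exists_comm_mul comm hDA q2 hJ htr hz
  have e : z = (j * x * j⁻¹ * x⁻¹) * ((j * x * j⁻¹ * x⁻¹)⁻¹ * z) := by group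
  rw [e]
  exact mul_mem (le_sup_left (b := D) (mem_cm hj hx)) (le_sup_right (a := cm A J) h1)

/-- `[A, J] ∩ D = 1` if `J` centralizes `D` and induces a group of odd order on `A`. -/
theorem cm_inf (sq : ∀ a ∈ A, a * a = 1) (comm : ∀ a ∈ A, ∀ b ∈ A, a * b = b * a)
    (hJ : J ≤ normalizer (A : Set G)) (hJD : ∀ j ∈ J, ∀ d ∈ D, j * d * j⁻¹ = d) {Q₀ : Subgroup G}
    (hQ₀ : ∀ j ∈ Q₀, j ∈ J → ∀ a ∈ A, j * a * j⁻¹ = a) (hodd : Odd (Q₀.relIndex J)) :
    cm A J ⊓ D = ⊥ := by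
  classical
  let _ : CommGroup A := { (inferInstance : Group A) with
    mul_comm := fun a b => Subtype.ext (comm a a.2 b b.2) }
  set f : ↥(normalizer (A : Set G)) →* MulAut A := A.normalizerMonoidHom with hf
  have hfapp : ∀ (m : ↥(normalizer (A : Set G))) (a : A), ((f m a : A) : G) = (m : G) * a * (m : G)⁻¹ :=
    fun m a => rfl
  set R : Subgroup (MulAut A) := (J.subgroupOf (normalizer (A : Set G))).map f with hR
  have hfinM : Finite (MulAut A) := inferInstance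
  have hRodd : Odd (Nat.card R) := by
    have h1 : Nat.card R = f.ker.relIndex (J.subgroupOf (normalizer (A : Set G))) := (relIndex_ker _ _).symm
    have h2 : ((J ⊓ Q₀).subgroupOf (normalizer (A : Set G))) ≤ f.ker := by
      intro m hm
      rw [mem_subgroupOf] at hm
      rw [MonoidHom.mem_ker]
      ext a
      exact hQ₀ m hm.2 hm.1 a a.2
    have h3 : f.ker.relIndex (J.subgroupOf (normalizer (A : Set G))) ∣
        ((J ⊓ Q₀).subgroupOf (normalizer (A : Set G))).relIndex (J.subgroupOf (normalizer (A : Set G))) :=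
      relIndex_dvd_of_le_left _ h2
    rw [relIndex_subgroupOf hJ, inf_relIndex_left] at h3
    rw [h1]
    exact hodd.of_dvd_nat h3
  haveI : Fintype R := Fintype.ofFinite R
  -- the norm map
  let N : A →* A :=
    { toFun := fun a => ∏ r : R, (r : MulAut A) a
      map_one' := by simp
      map_mul' := by
        intro a b
        simp only [map_mul, Finset.prod_mul_distrib] }
  have hN : ∀ (r : MulAut A), r ∈ R → ∀ a : A, N (r a) = N a := by
    intro r hr a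
    change ∏ s : R, (s : MulAut A) (r a) = ∏ s : R, (s : MulAut A) a
    exact Fintype.prod_equiv (Equiv.mulRight (⟨r, hr⟩ : R)) _ _ (fun s => rfl)
  have hND : ∀ d (hd : d ∈ D) (hdA : d ∈ A), N ⟨d, hdA⟩ = ⟨d, hdA⟩ := by
    intro d hd hdA
    change ∏ s : R, (s : MulAut A) ⟨d, hdA⟩ = ⟨d, hdA⟩
    have h1 : ∀ s : R, (s : MulAut A) ⟨d, hdA⟩ = ⟨d, hdA⟩ := by
      rintro ⟨_, ⟨m, hm, rfl⟩⟩
      apply Subtype.ext
      exact hJD m (mem_subgroupOf.1 hm) d hd
    rw [Finset.prod_congr rfl (fun s _ => h1 s), Finset.prod_const, Finset.card_univ, ← Nat.card_eq_fintype_card]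
    obtain ⟨k, hk⟩ := hRodd
    rw [hk, pow_succ, pow_mul]
    have h2 : (⟨d, hdA⟩ : A) ^ 2 = 1 := by
      rw [pow_two]; exact Subtype.ext (sq d hdA)
    rw [h2, one_pow, one_mul]
  have hNc : ∀ c (hc : c ∈ cm A J), N ⟨c, cm_le hJ hc⟩ = 1 := by
    have h1 : cm A J ≤ N.ker.map A.subtype := by
      rw [cm, closure_le]
      rintro _ ⟨j, hj, a, ha, rfl⟩
      have hja : j * a * j⁻¹ ∈ A := (mem_normalizer_iff.1 (hJ hj) a).1 ha
      refine ⟨(⟨j * a * j⁻¹, hja⟩ : A) * (⟨a, ha⟩ : A)⁻¹, ?_, rfl⟩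
      rw [SetLike.mem_coe, MonoidHom.mem_ker, map_mul, map_inv]
      have h2 := hN (f ⟨j, hJ hj⟩) ⟨⟨j, hJ hj⟩, mem_subgroupOf.2 hj, rfl⟩ ⟨a, ha⟩
      have h3 : f ⟨j, hJ hj⟩ (⟨a, ha⟩ : A) = ⟨j * a * j⁻¹, hja⟩ := rfl
      rw [← h3, h2, mul_inv_cancel]
    intro c hc
    obtain ⟨a, ha, hac⟩ := h1 hc
    have : (⟨c, cm_le hJ hc⟩ : A) = a := Subtype.ext hac.symm
    rw [this]
    exact ha
  rw [eq_bot_iff]
  intro c hc
  obtain ⟨h1, h2⟩ := mem_inf.1 hc
  have h3 := hNc c h1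
  rw [hND c h2 (cm_le hJ h1)] at h3
  rw [mem_bot]
  exact congrArg Subtype.val h3

/-- `|[A, J]| = |A : D|`. -/
theorem card_cm (hDA : D ≤ A) (comm : ∀ a ∈ A, ∀ b ∈ A, a * b = b * a)
    (hJ : J ≤ normalizer (A : Set G)) (hinf : cm A J ⊓ D = ⊥) (hsup : cm A J ⊔ D = A) :
    Nat.card (cm A J) = D.relIndex A := by
  have h1 := ClassData.card_mul_relIndex' hDA
  have h2 : Nat.card (cm A J) * Nat.card D = Nat.card A := by
    rw [← Nat.card_prod]
    refine Nat.card_congr (Equiv.ofBijective (fun x : cm A J × D =>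
      (⟨(x.1 : G) * x.2, mul_mem (cm_le hJ x.1.2) (hDA x.2.2)⟩ : A)) ⟨?_, ?_⟩)
    · rintro ⟨⟨a, ha⟩, ⟨b, hb⟩⟩ ⟨⟨a', ha'⟩, ⟨b', hb'⟩⟩ e'
      have e'' : a * b = a' * b' := congrArg Subtype.val e'
      have h6 : a'⁻¹ * a = b' * b⁻¹ := by
        rw [inv_mul_eq_iff_eq_mul, ← mul_assoc, ← e'', mul_inv_cancel_right]
      have h7 : a'⁻¹ * a ∈ cm A J ⊓ D :=
        mem_inf.2 ⟨mul_mem (inv_mem ha') ha, h6 ▸ mul_mem hb' (inv_mem hb)⟩
      rw [hinf, mem_bot] at h7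
      have h8 : a = a' := (inv_mul_eq_one.1 h7).symm
      have h9 : b = b' := (mul_inv_eq_one.1 (h6 ▸ h7)).symm
      subst h8 h9
      rfl
    · rintro ⟨z, hz⟩
      have hz' : z ∈ cm A J ⊔ D := by rw [hsup]; exact hz
      have hn : D ≤ normalizer (cm A J : Set G) := by
        intro d hd
        rw [mem_normalizer_iff]
        intro c
        constructor
        · intro hc
          have : d * c * d⁻¹ = c := by rw [comm d (hDA hd) c (cm_le hJ hc)]; group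
          rwa [this]
        · intro hc
          have : d * c * d⁻¹ ∈ A := cm_le hJ hc
          have h3 : c = d⁻¹ * (d * c * d⁻¹) * d := by group
          have h4 : c = d * c * d⁻¹ := by
            rw [comm d⁻¹ (inv_mem (hDA hd)) _ this] at h3
            calc c = d * c * d⁻¹ * d⁻¹ * d := h3
              _ = d * c * d⁻¹ := by group
          rw [h4]; exact hc
      have h3 : z ∈ ((cm A J ⊔ D : Subgroup G) : Set G) := hz'
      rw [coe_mul_of_right_le_normalizer_left _ _ hn, Set.mem_mul] at h3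
      obtain ⟨c, hc, d, hd, hcd⟩ := h3
      exact ⟨(⟨c, hc⟩, ⟨d, hd⟩), Subtype.ext hcd⟩
  have h3 : 0 < Nat.card D := Nat.card_pos
  rw [← h1, mul_comm] at h2
  exact Nat.eq_of_mul_eq_mul_left h3 h2

omit [Finite G] in
/-- `J` is transitive on the nontrivial elements of `[A, J]`. -/
theorem cm_trans (hJ : J ≤ normalizer (A : Set G)) (hinf : cm A J ⊓ D = ⊥)
    (htr : ∀ x ∈ A, ∀ y ∈ A, x ∉ D → y ∉ D → ∃ j ∈ J, j * x * j⁻¹ * y⁻¹ ∈ D) {x y : G}
    (hx : x ∈ cm A J) (hy : y ∈ cm A J) (hx1 : x ≠ 1) (hy1 : y ≠ 1) : ∃ j ∈ J, j * x * j⁻¹ = y := by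
  have hD : ∀ z ∈ cm A J, z ≠ 1 → z ∉ D := by
    intro z hz hz1 hzD
    have : z ∈ cm A J ⊓ D := mem_inf.2 ⟨hz, hzD⟩
    rw [hinf, mem_bot] at this
    exact hz1 this
  obtain ⟨j, hj, hjxy⟩ := htr x (cm_le hJ hx) y (cm_le hJ hy) (hD x hx hx1) (hD y hy hy1)
  refine ⟨j, hj, ?_⟩
  have h1 : j * x * j⁻¹ * y⁻¹ ∈ cm A J := by
    have e : j * x * j⁻¹ * y⁻¹ = (j * x * j⁻¹ * x⁻¹) * (x * y⁻¹) := by group
    rw [e]
    exact mul_mem (mem_cm hj (cm_le hJ hx)) (mul_mem hx (inv_mem hy))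
  have h2 : j * x * j⁻¹ * y⁻¹ ∈ cm A J ⊓ D := mem_inf.2 ⟨h1, hjxy⟩
  rw [hinf, mem_bot, mul_inv_eq_one] at h2
  exact h2

end

section Disj

variable {A : Subgroup G} {q : ℕ} {𝓓 : Set (Subgroup G)} [Finite G]

/-- In the small case the members of `𝓓` are disjoint. -/
theorem disj (h : ClassData A q 𝓓) (hV : Nat.card A ≤ q ^ 2) {D D' : Subgroup G} (hD : D ∈ 𝓓)
    (hD' : D' ∈ 𝓓) (hne : D ≠ D') : D ⊓ D' = ⊥ := by
  by_contra hinf
  obtain ⟨J, hJ, hJD, hJt, hJ'⟩ := h.tor D hD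
  have hq2 : 2 < D.relIndex A := by rw [h.rel D hD]; exact h.q2
  have hcov : ∀ z ∈ A, ∃ c ∈ D', c⁻¹ * z ∈ D := by
    intro z hz
    obtain ⟨j, hj, x, hx, h1⟩ := exists_comm_mul h.comm (h.le D hD) hq2 hJ hJt hz
    exact ⟨_, hJ' D' hD' (Ne.symm hne) hinf j hj x hx, h1⟩
  haveI hnorm : (D'.subgroupOf A).Normal := by
    refine ⟨fun d hd a => ?_⟩
    have : a * d * a⁻¹ = d := by
      apply Subtype.ext
      change (a : G) * d * (a : G)⁻¹ = d
      rw [h.comm a a.2 d d.2]; group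
    rwa [this]
  let f : D →* A ⧸ D'.subgroupOf A := (QuotientGroup.mk' (D'.subgroupOf A)).comp (inclusion (h.le D hD))
  have hf : ∀ d : D, f d = QuotientGroup.mk (⟨d, h.le D hD d.2⟩ : A) := fun d => rfl
  have hsurj : Function.Surjective f := by
    intro v
    obtain ⟨⟨a, ha⟩, rfl⟩ := QuotientGroup.mk_surjective v
    obtain ⟨c, hc, hcd⟩ := hcov a ha
    refine ⟨⟨c⁻¹ * a, hcd⟩, ?_⟩
    rw [hf, QuotientGroup.eq_iff_div_mem, mem_subgroupOf, div_eq_mul_inv]
    change c⁻¹ * a * a⁻¹ ∈ D'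
    rw [mul_inv_cancel_right]
    exact inv_mem hc
  have h1 : Nat.card f.ker * q = Nat.card D := by
    rw [← f.ker.card_mul_index, index_ker, MonoidHom.range_eq_top.2 hsurj, card_top]
    congr 1
    exact (h.rel D' hD').symm
  have h2 := h.card_eq hD
  have hq : 0 < q := lt_trans two_pos h.q2
  have h3 : Nat.card D ≤ q := by
    rw [← h2, pow_two] at hV
    exact Nat.le_of_mul_le_mul_right hV hq
  rw [← h1] at h3
  have h4 : Nat.card f.ker = 1 := by
    have h5 : 0 < Nat.card f.ker := Nat.card_pos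
    have h6 : Nat.card f.ker * q ≤ 1 * q := by omega
    have := Nat.le_of_mul_le_mul_right h6 hq
    omega
  apply hinf
  rw [eq_bot_iff]
  intro d hd
  obtain ⟨h5, h6⟩ := mem_inf.1 hd
  have h7 : (⟨d, h5⟩ : D) ∈ f.ker := by
    rw [MonoidHom.mem_ker, hf, QuotientGroup.eq_one_iff, mem_subgroupOf]
    exact h6
  rw [Subgroup.card_eq_one.1 h4, mem_bot] at h7
  rw [mem_bot]
  exact congrArg Subtype.val h7

end Disj

end Cfsg.Agent.TwoFusion.GoldCentreCompl
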