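import Cfsg.Agent.LieRecognition.FT61.Zsig

/-!
# An involution cannot normalize a transitive linear group of odd order in odd dimension

`V` is an elementary abelian group of order `2 ^ n`, `n` odd, `R ≤ Aut(V)` has odd order and is transitive on the
nontrivial elements of `V`, and `x` is an automorphism with `x ^ 2 = 1` normalizing `R`. Then `x = 1`.
-/

set_option autoImplicit false
set_option linter.style.haveILetI false

namespace Cfsg.Agent.TwoFusion.GoldCentreLin

open Subgroup

section Fixed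

variable {V : Type*} [Group V]

/-- The fixed points of an automorphism. -/
def fixed (x : MulAut V) : Subgroup V where
  carrier := {v | x v = v}
  one_mem' := map_one x
  mul_mem' := by
    intro a b ha hb
    change x (a * b) = a * b
    rw [map_mul]
    exact congrArg₂ (· * ·) ha hb
  inv_mem' := by
    intro a ha
    change x a⁻¹ = a⁻¹
    rw [map_inv]
    exact congrArg (·⁻¹) ha

theorem mem_fixed {x : MulAut V} {v : V} : v ∈ fixed x ↔ x v = v := Iff.rfl

theorem pow_apply_mem {y : MulAut V} {W : Subgroup V} (hW : ∀ w ∈ W, y w ∈ W) (k : ℕ) :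
    ∀ w ∈ W, (y ^ k) w ∈ W := by
  induction k with
  | zero => intro w hw; simpa using hw
  | succ k ih =>
    intro w hw
    rw [pow_succ', MulAut.mul_apply]
    exact hW _ (ih w hw)

theorem pow_apply_fixed {y : MulAut V} {v : V} (hv : y v = v) (k : ℕ) : (y ^ k) v = v := by
  induction k with
  | zero => simp
  | succ k ih => rw [pow_succ', MulAut.mul_apply, ih, hv]

variable [Finite V]

/-- Counting fixed points of an automorphism of prime power order. -/
theorem card_modEq {p : ℕ} [Fact p.Prime] {y : MulAut V} {k : ℕ} (hy : y ^ p ^ k = 1) {W : Subgroup V}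
    (hW : ∀ w ∈ W, y w ∈ W) : Nat.card W ≡ Nat.card (W ⊓ fixed y : Subgroup V) [MOD p] := by
  have hfin : Finite (MulAut V) := inferInstance
  have hZ : IsPGroup p (zpowers y) := by
    rintro ⟨g, hg⟩
    obtain ⟨m, rfl⟩ := mem_zpowers_iff.1 hg
    refine ⟨k, Subtype.ext ?_⟩
    simp only [SubmonoidClass.mk_pow, OneMemClass.coe_one]
    rw [← zpow_natCast, ← zpow_mul, mul_comm, zpow_mul, zpow_natCast, hy, one_zpow]
  let α : SubMulAction (zpowers y) V :=
    { carrier := W
      smul_mem' := by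
        rintro ⟨g, hg⟩ w hw
        obtain ⟨m, rfl⟩ := (mem_powers_iff_mem_zpowers (x := y)).2 hg
        exact pow_apply_mem hW m w hw }
  have h1 := hZ.card_modEq_card_fixedPoints α
  have e1 : Nat.card α = Nat.card W := rfl
  have e2 : Nat.card (MulAction.fixedPoints (zpowers y) α) = Nat.card (W ⊓ fixed y : Subgroup V) := by
    refine Nat.card_congr
      { toFun := fun v => ⟨(v : α), v.1.2, ?_⟩
        invFun := fun v => ⟨⟨v, v.2.1⟩, ?_⟩
        left_inv := fun v => rfl
        right_inv := fun v => rfl }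
    · exact congrArg Subtype.val (v.2 ⟨y, mem_zpowers y⟩)
    · rintro ⟨g, hg⟩
      obtain ⟨m, rfl⟩ := (mem_powers_iff_mem_zpowers (x := y)).2 hg
      apply Subtype.ext
      exact pow_apply_fixed v.2.2 m
  rw [e1, e2] at h1
  exact h1

end Fixed

section Main

variable {V : Type*} [Group V] [Finite V] {n : ℕ}

/-- A number `2 ^ j ≡ 1` modulo a primitive prime divisor. -/
theorem pow_modEq {p j : ℕ} (hprim : ∀ d, 0 < d → d < n → ¬ p ∣ 2 ^ d - 1) (hj : j ≤ n)
    (h : 1 ≡ 2 ^ j [MOD p]) : j = 0 ∨ j = n := by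
  by_contra hcon
  push Not at hcon
  apply hprim j (Nat.pos_of_ne_zero hcon.1) (lt_of_le_of_ne hj hcon.2)
  exact (Nat.modEq_iff_dvd' Nat.one_le_two_pow).1 h

omit [Finite V] in
/-- A subgroup of a group of order `2 ^ n`. -/
theorem exists_card_pow (hV : Nat.card V = 2 ^ n) (W : Subgroup V) : ∃ j ≤ n, Nat.card W = 2 ^ j := by
  have h1 : Nat.card W ∣ 2 ^ n := hV ▸ card_subgroup_dvd_card W
  exact (Nat.dvd_prime_pow Nat.prime_two).1 h1

/-- An automorphism of order a primitive prime divisor (or a power of it) has no fixed points and is irreducible. -/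
theorem irred {p : ℕ} (hp : p.Prime) (hV : Nat.card V = 2 ^ n) (hpd : p ∣ 2 ^ n - 1)
    (hprim : ∀ d, 0 < d → d < n → ¬ p ∣ 2 ^ d - 1) {y : MulAut V} {k : ℕ} (hy : y ^ p ^ k = 1) (hy1 : y ≠ 1) :
    fixed y = ⊥ ∧ ∀ W : Subgroup V, (∀ w ∈ W, y w ∈ W) → W = ⊥ ∨ W = ⊤ := by
  haveI : Fact p.Prime := ⟨hp⟩
  have h2n : 1 ≡ 2 ^ n [MOD p] := (Nat.modEq_iff_dvd' Nat.one_le_two_pow).2 hpd
  have hf : fixed y = ⊥ := by
    have h1 := card_modEq (p := p) hy (W := (⊤ : Subgroup V)) (fun w _ => mem_top _)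
    rw [top_inf_eq, card_top, hV] at h1
    obtain ⟨j, hj, hjc⟩ := exists_card_pow hV (fixed y)
    rw [hjc] at h1
    rcases pow_modEq hprim hj (h2n.trans h1) with h0 | h0
    · rw [h0, pow_zero] at hjc
      exact Subgroup.card_eq_one.1 hjc
    · exfalso
      apply hy1
      have h3 : fixed y = ⊤ := by
        apply Subgroup.eq_top_of_card_eq
        rw [hjc, h0, hV]
      ext v
      have : v ∈ fixed y := by rw [h3]; exact mem_top v
      exact this
  refine ⟨hf, fun W hW => ?_⟩
  have h1 := card_modEq (p := p) hy hW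
  rw [hf, inf_bot_eq, card_bot] at h1
  obtain ⟨j, hj, hjc⟩ := exists_card_pow hV W
  rw [hjc] at h1
  rcases pow_modEq hprim hj h1.symm with h0 | h0
  · left
    rw [h0, pow_zero] at hjc
    exact Subgroup.card_eq_one.1 hjc
  · right
    apply Subgroup.eq_top_of_card_eq
    rw [hjc, h0, hV]

/-- `|C_V(x)| ^ 2 ≥ |V|` for an involutory automorphism. -/
theorem card_le_sq (sq : ∀ v : V, v * v = 1) {x : MulAut V} (hx : x * x = 1) :
    Nat.card V ≤ Nat.card (fixed x) ^ 2 := by
  have hcomm : ∀ a b : V, a * b = b * a := by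
    intro a b
    have h1 := sq (a * b)
    have h2 := sq a
    have h3 := sq b
    calc a * b = (a * b) * (b * a * (b * a))  := by rw [sq (b * a), mul_one]
      _ = a * (b * b) * a * (b * a) := by group
      _ = b * a := by rw [h3, mul_one, h2, one_mul]
  have hinv : ∀ a : V, a⁻¹ = a := fun a => inv_eq_of_mul_eq_one_left (sq a)
  let φ : V →* V :=
    { toFun := fun v => v * x v
      map_one' := by rw [map_one, mul_one]
      map_mul' := by
        intro a b
        rw [map_mul]
        calc a * b * (x a * x b) = a * (b * x a) * x b := by group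
          _ = a * (x a * b) * x b := by rw [hcomm b (x a)]
          _ = _ := by group }
  have hker : φ.ker = fixed x := by
    ext v
    rw [MonoidHom.mem_ker, mem_fixed]
    change v * x v = 1 ↔ _
    constructor
    · intro e
      have := eq_inv_of_mul_eq_one_right e
      rw [this, hinv]
    · intro e
      rw [e, sq]
  have hran : φ.range ≤ fixed x := by
    rintro _ ⟨v, rfl⟩
    rw [mem_fixed]
    change x (v * x v) = v * x v
    have h1 : x (x v) = v := by
      have := congrArg (fun f : MulAut V => f v) hx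
      exact this
    rw [map_mul, h1, hcomm]
  have h1 : Nat.card V = Nat.card φ.ker * Nat.card φ.range := by
    rw [← φ.ker.card_mul_index, index_ker]
  rw [h1, hker, pow_two]
  exact Nat.mul_le_mul_left _ (Subgroup.card_le_of_le hran)

/-- The product of two subgroups with trivial intersection. -/
theorem card_mul_le {A B : Subgroup V} (h : A ⊓ B = ⊥) : Nat.card A * Nat.card B ≤ Nat.card V := by
  rw [← Nat.card_prod]
  refine Nat.card_le_card_of_injective (fun z : A × B => (z.1 : V) * z.2) ?_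
  rintro ⟨⟨a, ha⟩, ⟨b, hb⟩⟩ ⟨⟨a', ha'⟩, ⟨b', hb'⟩⟩ e
  have e' : a * b = a' * b' := e
  have h6 : a'⁻¹ * a = b' * b⁻¹ := by
    rw [inv_mul_eq_iff_eq_mul, ← mul_assoc, ← e', mul_inv_cancel_right]
  have h7 : a'⁻¹ * a ∈ A ⊓ B :=
    mem_inf.2 ⟨mul_mem (inv_mem ha') ha, h6 ▸ mul_mem hb' (inv_mem hb)⟩
  rw [h, mem_bot] at h7
  have h8 : a = a' := (inv_mul_eq_one.1 h7).symm
  have h9 : b = b' := (mul_inv_eq_one.1 (h6 ▸ h7)).symm
  subst h8 h9
  rfl

/-- A Sylow subgroup of the odd order group `R` normalized by the involution `x`. -/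
theorem exists_sylow_invariant {M : Type*} [Group M] [Finite M] {p : ℕ} [Fact p.Prime] (R : Subgroup M)
    (hR : Odd (Nat.card R)) {x : M} (hx : x * x = 1) (hxR : ∀ r ∈ R, x * r * x⁻¹ ∈ R) :
    ∃ P : Sylow p R, ∀ r (hr : r ∈ R), (⟨r, hr⟩ : R) ∈ (P : Subgroup R) →
      (⟨x * r * x⁻¹, hxR r hr⟩ : R) ∈ (P : Subgroup R) := by
  haveI : Fact (Nat.Prime 2) := ⟨Nat.prime_two⟩
  have hxi : x⁻¹ = x := inv_eq_of_mul_eq_one_left hx
  let φ : MulAut R :=
    { toFun := fun r => ⟨x * r * x⁻¹, hxR r r.2⟩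
      invFun := fun r => ⟨x * r * x⁻¹, hxR r r.2⟩
      left_inv := by
        intro r
        apply Subtype.ext
        change x * (x * r * x⁻¹) * x⁻¹ = r
        calc x * (x * r * x⁻¹) * x⁻¹ = (x * x) * r * (x * x)⁻¹ := by group
          _ = r := by rw [hx]; group
      right_inv := by
        intro r
        apply Subtype.ext
        change x * (x * r * x⁻¹) * x⁻¹ = r
        calc x * (x * r * x⁻¹) * x⁻¹ = (x * x) * r * (x * x)⁻¹ := by group
          _ = r := by rw [hx]; group
      map_mul' := by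
        intro a b
        apply Subtype.ext
        change x * (a * b) * x⁻¹ = (x * a * x⁻¹) * (x * b * x⁻¹)
        group }
  have hφ : φ * φ = 1 := by
    ext r
    change x * (x * r * x⁻¹) * x⁻¹ = r
    calc x * (x * r * x⁻¹) * x⁻¹ = (x * x) * r * (x * x)⁻¹ := by group
      _ = r := by rw [hx]; group
  have hZ : IsPGroup 2 (zpowers φ) := by
    rintro ⟨g, hg⟩
    obtain ⟨m, rfl⟩ := mem_zpowers_iff.1 hg
    refine ⟨1, Subtype.ext ?_⟩
    simp only [SubmonoidClass.mk_pow, OneMemClass.coe_one]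
    rw [← zpow_natCast, ← zpow_mul, mul_comm, zpow_mul, zpow_natCast, pow_one, pow_two, hφ, one_zpow]
  have hodd : ¬ 2 ∣ Nat.card (Sylow p R) := by
    intro h2
    obtain ⟨P⟩ : Nonempty (Sylow p R) := inferInstance
    have h3 : 2 ∣ Nat.card R := h2.trans ((Sylow.card_dvd_index P).trans (Subgroup.index_dvd_card _))
    exact (Nat.not_even_iff_odd.2 hR) (even_iff_two_dvd.2 h3)
  obtain ⟨P, hP⟩ := hZ.nonempty_fixed_point_of_prime_not_dvd_card (Sylow p R) hodd
  refine ⟨P, fun r hr hrP => ?_⟩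
  have h1 : φ • P = P := hP ⟨φ, mem_zpowers φ⟩
  have h2 : (⟨x * r * x⁻¹, hxR r hr⟩ : R) ∈ ((φ • P : Sylow p R) : Subgroup R) :=
    ⟨⟨r, hr⟩, hrP, rfl⟩
  rwa [h1] at h2

/-- **The linear lemma.** -/
theorem eq_one_of_transitive (sq : ∀ v : V, v * v = 1) (hn : Odd n) (hV : Nat.card V = 2 ^ n)
    (R : Subgroup (MulAut V)) (hR : Odd (Nat.card R))
    (htr : ∀ u v : V, u ≠ 1 → v ≠ 1 → ∃ r ∈ R, r u = v) {x : MulAut V} (hx : x * x = 1)
    (hxR : ∀ r ∈ R, x * r * x⁻¹ ∈ R) : x = 1 := by
  classical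
  have hfin : Finite (MulAut V) := inferInstance
  have hxi : x⁻¹ = x := inv_eq_of_mul_eq_one_left hx
  rcases Nat.lt_or_ge n 2 with hn2 | hn2
  · -- `n = 1`
    have hn1 : n = 1 := by
      obtain ⟨k, hk⟩ := hn
      omega
    rw [hn1, pow_one] at hV
    ext v
    by_cases hv : v = 1
    · rw [hv, map_one, map_one]
    · rw [Nat.card_eq_two_iff' (1 : V)] at hV
      obtain ⟨u, -, hu⟩ := hV
      have h1 := hu v hv
      have h2 := hu (x v) (fun e => hv ((map_eq_one_iff x x.injective).1 e))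
      rw [h2, ← h1]
      rfl
  · have hn6 : n ≠ 6 := by
      rintro rfl
      exact absurd hn (by decide)
    obtain ⟨p, hp, hpd, hprim⟩ := Cfsg.Agent.LieRecognition.FT61.Zsig.exists_primitive_prime hn2 hn6
    haveI : Fact p.Prime := ⟨hp⟩
    obtain ⟨P, hP⟩ := exists_sylow_invariant (p := p) R hR hx hxR
    -- `p` divides the order of `R`
    have hpR : p ∣ Nat.card R := by
      obtain ⟨v, hv⟩ : ∃ v : V, v ≠ 1 := by
        have : 1 < Nat.card V := by
          rw [hV]; exact Nat.one_lt_two_pow (by omega)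
        haveI := Finite.one_lt_card_iff_nontrivial.1 this
        exact exists_ne 1
      have h1 : Nat.card (MulAction.orbit R v) = 2 ^ n - 1 := by
        have e : MulAction.orbit R v = {u : V | u ≠ 1} := by
          ext u
          constructor
          · rintro ⟨r, rfl⟩
            intro e
            exact hv ((map_eq_one_iff (r : MulAut V) (r : MulAut V).injective).1 e)
          · intro hu
            obtain ⟨r, hr, hru⟩ := htr v u hv hu
            exact ⟨⟨r, hr⟩, hru⟩
        rw [e]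
        have h2 : Nat.card {u : V | u ≠ 1} = ({u : V | u ≠ 1} : Set V).ncard := rfl
        have h3 : ({u : V | u ≠ 1} : Set V) = ({1} : Set V)ᶜ := by ext u; simp
        rw [h2, h3]
        have h4 := Set.ncard_add_ncard_compl ({1} : Set V)
        rw [Set.ncard_singleton, hV] at h4
        omega
      have h2 : (MulAction.stabilizer R v).index = 2 ^ n - 1 := by
        rw [MulAction.index_stabilizer]
        exact h1
      rw [← h2] at hpd
      exact hpd.trans (Subgroup.index_dvd_card _)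
    -- an element of order `p` centralized or inverted by `x`
    by_cases hc : ∀ u : R, u ∈ (P : Subgroup R) → x * (u : MulAut V) * x⁻¹ = u
    · have hpP : p ∣ Nat.card P := P.dvd_card_of_dvd_card hpR
      obtain ⟨y, hy⟩ := exists_prime_orderOf_dvd_card' p hpP
      set y' : MulAut V := ((y : R) : MulAut V) with hy'
      have hyo : orderOf y' = p := by
        rw [hy', orderOf_coe, orderOf_coe, hy]
      have hy1 : y' ≠ 1 := by
        intro e
        rw [e, orderOf_one] at hyo
        exact hp.one_lt.ne hyo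
      obtain ⟨-, hirr⟩ := irred (k := 1) hp hV hpd hprim
        (by rw [pow_one, ← hyo]; exact pow_orderOf_eq_one _) hy1
      have hcx : x * y' = y' * x := by
        have h1 := hc y y.2
        rw [← hy'] at h1
        calc x * y' = (x * y' * x⁻¹) * x := by group
          _ = _ := by rw [h1]
      have hinv : ∀ w ∈ fixed x, y' w ∈ fixed x := by
        intro w hw
        rw [mem_fixed] at hw ⊢
        have h1 : x (y' w) = y' (x w) := congrArg (fun f : MulAut V => f w) hcx
        rw [h1, hw]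
      rcases hirr _ hinv with h0 | h0
      · exfalso
        have h1 := card_le_sq sq hx
        rw [h0, card_bot, hV] at h1
        have : 1 < 2 ^ n := Nat.one_lt_two_pow (by omega)
        omega
      · ext v
        have : v ∈ fixed x := by rw [h0]; exact mem_top v
        exact this
    · exfalso
      push Not at hc
      obtain ⟨u, hu, hne⟩ := hc
      set v : MulAut V := (u : MulAut V)⁻¹ * (x * u * x⁻¹) with hv
      have hvP : (u⁻¹ * ⟨x * u * x⁻¹, hxR u u.2⟩ : R) ∈ (P : Subgroup R) :=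
        mul_mem (inv_mem hu) (hP u u.2 hu)
      have hv1 : v ≠ 1 := by
        intro e
        apply hne
        rw [hv, inv_mul_eq_one] at e
        exact e.symm
      have hxv : x * v * x⁻¹ = v⁻¹ := by
        rw [hv]
        calc x * ((u : MulAut V)⁻¹ * (x * u * x⁻¹)) * x⁻¹ =
            (x * u * x⁻¹)⁻¹ * ((x * x) * u * (x * x)⁻¹) := by group
          _ = (x * u * x⁻¹)⁻¹ * u := by rw [hx]; group
          _ = _ := by group
      -- the order of `v` is a power of `p`
      obtain ⟨k, hk⟩ := P.2 ⟨_, hvP⟩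
      have hk' : v ^ p ^ k = 1 := by
        have h1 := congrArg (fun z : P => (((z : R) : R) : MulAut V)) hk
        simpa using h1
      obtain ⟨hfix, -⟩ := irred hp hV hpd hprim hk' hv1
      have hxx : (x * v) * (x * v) = 1 := by
        calc (x * v) * (x * v) = (x * v * x⁻¹) * (x * x) * v := by group
          _ = 1 := by rw [hxv, hx]; group
      have hint : fixed x ⊓ fixed (x * v) = ⊥ := by
        rw [eq_bot_iff, ← hfix]
        intro w hw
        obtain ⟨h1, h2⟩ := mem_inf.1 hw
        rw [mem_fixed] at h1 h2 ⊢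
        have h3 : x (v w) = w := h2
        exact x.injective (h3.trans h1.symm)
      have c1 := card_le_sq sq hx
      have c2 := card_le_sq sq hxx
      have c3 := card_mul_le hint
      obtain ⟨a, -, ha⟩ := exists_card_pow hV (fixed x)
      obtain ⟨b, -, hb⟩ := exists_card_pow hV (fixed (x * v))
      rw [hV, ha, ← pow_mul] at c1
      rw [hV, hb, ← pow_mul] at c2
      rw [hV, ha, hb, ← pow_add] at c3
      have d1 := (Nat.pow_le_pow_iff_right (by norm_num)).1 c1
      have d2 := (Nat.pow_le_pow_iff_right (by norm_num)).1 c2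
      have d3 := (Nat.pow_le_pow_iff_right (by norm_num)).1 c3
      obtain ⟨m, hm⟩ := hn
      omega

end Main

section Rel

variable {G : Type*} [Group G] {A D : Subgroup G}

/-- Conjugation on `A/D`. -/
noncomputable def rho (A D : Subgroup G) [(D.subgroupOf A).Normal] :
    ↥(normalizer (A : Set G) ⊓ normalizer (D : Set G)) →* MulAut (↥A ⧸ D.subgroupOf A) where
  toFun m := QuotientGroup.congr (D.subgroupOf A) (D.subgroupOf A)
    (A.normalizerMonoidHom ⟨(m : G), (mem_inf.1 m.2).1⟩) (by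
      ext a
      constructor
      · rintro ⟨b, hb, rfl⟩
        rw [SetLike.mem_coe, mem_subgroupOf] at hb
        rw [mem_subgroupOf]
        exact (mem_normalizer_iff.1 (mem_inf.1 m.2).2 _).1 hb
      · intro ha
        rw [mem_subgroupOf] at ha
        have h1 : (m : G)⁻¹ * a * m ∈ A := by
          have := (mem_normalizer_iff.1 (inv_mem (mem_inf.1 m.2).1) (a : G)).1 a.2
          rwa [inv_inv] at this
        have h2 : (m : G)⁻¹ * a * m ∈ D := by
          have := (mem_normalizer_iff.1 (inv_mem (mem_inf.1 m.2).2) (a : G)).1 ha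
          rwa [inv_inv] at this
        refine ⟨⟨(m : G)⁻¹ * a * m, h1⟩, mem_subgroupOf.2 h2, ?_⟩
        apply Subtype.ext
        change (m : G) * ((m : G)⁻¹ * a * m) * (m : G)⁻¹ = a
        group)
  map_one' := by
    ext q
    obtain ⟨a, rfl⟩ := QuotientGroup.mk_surjective q
    change QuotientGroup.mk _ = QuotientGroup.mk _
    congr 1
    apply Subtype.ext
    change (1 : G) * a * (1 : G)⁻¹ = a
    group
  map_mul' := by
    intro m k
    ext q
    obtain ⟨a, rfl⟩ := QuotientGroup.mk_surjective q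
    change QuotientGroup.mk _ = QuotientGroup.mk _
    congr 1
    apply Subtype.ext
    change ((m : G) * k) * a * ((m : G) * k)⁻¹ = (m : G) * (k * a * (k : G)⁻¹) * (m : G)⁻¹
    group

theorem rho_apply [(D.subgroupOf A).Normal] (m : ↥(normalizer (A : Set G) ⊓ normalizer (D : Set G))) {a : G}
    (ha : a ∈ A) :
    ∃ hm : (m : G) * a * (m : G)⁻¹ ∈ A, rho A D m (QuotientGroup.mk (⟨a, ha⟩ : A)) =
      QuotientGroup.mk (⟨(m : G) * a * (m : G)⁻¹, hm⟩ : A) :=
  ⟨(mem_normalizer_iff.1 (mem_inf.1 m.2).1 a).1 ha, rfl⟩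

theorem mk_eq_mk [(D.subgroupOf A).Normal] {a b : G} (ha : a ∈ A) (hb : b ∈ A) :
    (QuotientGroup.mk (⟨a, ha⟩ : A) : ↥A ⧸ D.subgroupOf A) = QuotientGroup.mk (⟨b, hb⟩ : A) ↔
      a * b⁻¹ ∈ D := by
  rw [QuotientGroup.eq_iff_div_mem, mem_subgroupOf, div_eq_mul_inv]
  rfl

/-- **The relative linear lemma.** `A` is elementary abelian, `|A : D| = 2 ^ n` with `n` odd, `Q` normalizes `A`
and `D`, is transitive on the nontrivial elements of `A/D` and induces a group of odd order on `A/D`. If `x`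
normalizes `A`, `D` and `Q` and `x ^ 2` is trivial on `A/D` then `x` is trivial on `A/D`. -/
theorem trivial_of_transitive [Finite G] {Q Q₀ : Subgroup G} (sq : ∀ a ∈ A, a * a = 1) {n : ℕ}
    (hn : Odd n) (hidx : D.relIndex A = 2 ^ n) (hQA : Q ≤ normalizer (A : Set G))
    (hQD : Q ≤ normalizer (D : Set G))
    (htr : ∀ a ∈ A, ∀ b ∈ A, a ∉ D → b ∉ D → ∃ j ∈ Q, j * a * j⁻¹ * b⁻¹ ∈ D)
    (hQ₀ : ∀ j ∈ Q₀, j ∈ Q → ∀ a ∈ A, j * a * j⁻¹ * a⁻¹ ∈ D) (hodd : Odd (Q₀.relIndex Q)) {x : G}
    (hxA : x ∈ normalizer (A : Set G)) (hxD : x ∈ normalizer (D : Set G))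
    (hxQ : ∀ j ∈ Q, x * j * x⁻¹ ∈ Q) (hxx : ∀ a ∈ A, (x * x) * a * (x * x)⁻¹ * a⁻¹ ∈ D) :
    ∀ a ∈ A, x * a * x⁻¹ * a⁻¹ ∈ D := by
  classical
  have hcomm : ∀ a ∈ A, ∀ b ∈ A, a * b = b * a := by
    intro a ha b hb
    have h2 := sq a ha
    have h3 := sq b hb
    calc a * b = (a * b) * (b * a * (b * a))  := by rw [sq (b * a) (mul_mem hb ha), mul_one]
      _ = a * (b * b) * a * (b * a) := by group
      _ = b * a := by rw [h3, mul_one, h2, one_mul]
  haveI hnorm : (D.subgroupOf A).Normal := by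
    refine ⟨fun d hd a => ?_⟩
    have : a * d * a⁻¹ = d := by
      apply Subtype.ext
      change (a : G) * d * (a : G)⁻¹ = d
      rw [hcomm a a.2 d d.2]; group
    rwa [this]
  set N : Subgroup G := normalizer (A : Set G) ⊓ normalizer (D : Set G) with hN
  have hQN : Q ≤ N := le_inf hQA hQD
  set V := ↥A ⧸ D.subgroupOf A with hV
  have hVsq : ∀ v : V, v * v = 1 := by
    intro v
    obtain ⟨a, rfl⟩ := QuotientGroup.mk_surjective v
    change QuotientGroup.mk (a * a) = QuotientGroup.mk 1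
    congr 1
    exact Subtype.ext (sq a a.2)
  have hmk1 : ∀ {a : G} (ha : a ∈ A), (QuotientGroup.mk (⟨a, ha⟩ : A) : V) = 1 ↔ a ∈ D := by
    intro a ha
    rw [QuotientGroup.eq_one_iff, mem_subgroupOf]
  set R : Subgroup (MulAut V) := (Q.subgroupOf N).map (rho A D) with hR
  have hRodd : Odd (Nat.card R) := by
    have h1 : Nat.card R = (rho A D).ker.relIndex (Q.subgroupOf N) := (relIndex_ker _ _).symm
    have h2 : ((Q ⊓ Q₀).subgroupOf N) ≤ (rho A D).ker := by
      intro m hm
      rw [mem_subgroupOf] at hm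
      rw [MonoidHom.mem_ker]
      ext v
      obtain ⟨⟨a, ha⟩, rfl⟩ := QuotientGroup.mk_surjective v
      obtain ⟨hm1, hm2⟩ := rho_apply m ha
      rw [hm2]
      change _ = QuotientGroup.mk (⟨a, ha⟩ : A)
      rw [mk_eq_mk]
      exact hQ₀ m hm.2 hm.1 a ha
    have h3 : (rho A D).ker.relIndex (Q.subgroupOf N) ∣ ((Q ⊓ Q₀).subgroupOf N).relIndex (Q.subgroupOf N) :=
      relIndex_dvd_of_le_left _ h2
    rw [relIndex_subgroupOf hQN, inf_relIndex_left] at h3
    rw [h1]
    exact hodd.of_dvd_nat h3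
  have hcard : Nat.card V = 2 ^ n := hidx
  have htr' : ∀ u v : V, u ≠ 1 → v ≠ 1 → ∃ r ∈ R, r u = v := by
    intro u v hu hv
    obtain ⟨⟨a, ha⟩, rfl⟩ := QuotientGroup.mk_surjective u
    obtain ⟨⟨b, hb⟩, rfl⟩ := QuotientGroup.mk_surjective v
    rw [Ne, hmk1] at hu hv
    obtain ⟨j, hj, hjab⟩ := htr a ha b hb hu hv
    refine ⟨rho A D ⟨j, hQN hj⟩, ⟨⟨j, hQN hj⟩, mem_subgroupOf.2 hj, rfl⟩, ?_⟩
    obtain ⟨hm1, hm2⟩ := rho_apply (A := A) (D := D) ⟨j, hQN hj⟩ ha
    rw [hm2, mk_eq_mk]
    exact hjab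
  have hxN : x ∈ N := mem_inf.2 ⟨hxA, hxD⟩
  have key := eq_one_of_transitive hVsq hn hcard R hRodd htr' (x := rho A D ⟨x, hxN⟩) (by
      rw [← map_mul]
      ext v
      obtain ⟨⟨a, ha⟩, rfl⟩ := QuotientGroup.mk_surjective v
      obtain ⟨hm1, hm2⟩ := rho_apply (A := A) (D := D) (⟨x, hxN⟩ * ⟨x, hxN⟩) ha
      rw [hm2]
      change _ = QuotientGroup.mk (⟨a, ha⟩ : A)
      rw [mk_eq_mk]
      exact hxx a ha) (by
      rintro _ ⟨m, hm, rfl⟩
      rw [← map_mul, ← map_inv, ← map_mul]
      refine ⟨_, ?_, rfl⟩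
      exact mem_subgroupOf.2 (hxQ m (mem_subgroupOf.1 hm)))
  intro a ha
  obtain ⟨hm1, hm2⟩ := rho_apply (A := A) (D := D) ⟨x, hxN⟩ ha
  rw [key] at hm2
  change QuotientGroup.mk (⟨a, ha⟩ : A) = _ at hm2
  exact (mk_eq_mk hm1 ha).1 hm2.symm

end Rel

end Cfsg.Agent.TwoFusion.GoldCentreLin
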