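import Cfsg.Agent.TwoFusion.GoldInnerJ
import Cfsg.Agent.Solvable.Glauberman

/-!
# `S ∩ L` centralizes `A`, or `|A/C_A(L)| = 2^n` with `n` odd
-/

set_option autoImplicit false
set_option linter.style.haveILetI false

open scoped Pointwise

namespace Cfsg.Agent.TwoFusion.GoldInnerC

open Subgroup
open Cfsg.Agent.TwoFusion.ClosedFam Cfsg.Agent.TwoFusion.Gold Cfsg.Agent.TwoFusion.GoldInner
  Cfsg.Agent.TwoFusion.GoldInnerJ

/-- An element of odd order lifts to an element of odd order. -/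
theorem exists_odd_lift {X Y : Type*} [Group X] [Finite X] [Group Y] (f : X →* Y) (x : X)
    (hy : Odd (orderOf (f x))) : ∃ x' : X, f x' = f x ∧ Odd (orderOf x') := by
  obtain ⟨k, m, hm, hkm⟩ := Nat.exists_eq_two_pow_mul_odd (orderOf_pos x).ne'
  have hcop : (2 ^ k).Coprime (orderOf (f x)) := (Nat.Coprime.pow_left k (Nat.coprime_two_left.2 hy))
  have h1 := Nat.ModEq.pow_totient hcop
  set e := Nat.totient (orderOf (f x)) with he
  have he0 : e ≠ 0 := by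
    rw [he, Ne, Nat.totient_eq_zero]
    exact hy.pos.ne'
  refine ⟨x ^ ((2 ^ k) ^ e), ?_, ?_⟩
  · rw [map_pow]
    calc f x ^ ((2 ^ k) ^ e) = f x ^ 1 := pow_eq_pow_iff_modEq.2 h1
      _ = f x := pow_one _
  · refine Odd.of_dvd_nat hm (orderOf_dvd_of_pow_eq_one ?_)
    rw [← pow_mul]
    obtain ⟨j, hj⟩ := Nat.exists_eq_succ_of_ne_zero he0
    have e2 : (2 ^ k) ^ e * m = orderOf x * (2 ^ k) ^ j := by
      rw [hj, hkm, Nat.succ_eq_add_one, pow_succ]; ring
    rw [e2, pow_mul, pow_orderOf_eq_one, one_pow]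

/-- Coprime action: the quotient `T/K` is covered by the centralizer. -/
theorem exists_commute_mul {X : Type*} [Group X] [Finite X] {T K : Subgroup X} (hT : IsPGroup 2 T)
    (hKT : K ≤ T) {l : X} (hl : Odd (orderOf l)) (hlT : ∀ t ∈ T, l * t * l⁻¹ ∈ T)
    (hlK : ∀ k ∈ K, l * k * l⁻¹ ∈ K) (hc : ∀ t ∈ T, l * t * l⁻¹ * t⁻¹ ∈ K) :
    ∀ t ∈ T, ∃ k ∈ K, ∃ c ∈ T, c * l = l * c ∧ t = k * c := by
  classical
  intro t ht
  have hlN : l ∈ normalizer (K : Set X) := mem_normalizer_fintype hlK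
  have hAK : zpowers l ≤ normalizer (K : Set X) := by
    rw [zpowers_le]; exact hlN
  have hKp : IsPGroup 2 K := hT.to_le hKT
  haveI : Fact (Nat.Prime 2) := ⟨Nat.prime_two⟩
  have hcop : (Nat.card (zpowers l)).Coprime (Nat.card K) := by
    obtain ⟨n, hn⟩ := IsPGroup.iff_card.1 hKp
    rw [hn, Nat.card_zpowers]
    exact Nat.Coprime.pow_right _ (Nat.coprime_two_right.2 hl)
  have hm : t * l * t⁻¹ ∈ zpowers l ⊔ K := by
    have e : t * l * t⁻¹ = (l * t * l⁻¹ * t⁻¹)⁻¹ * l := by group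
    rw [e]
    exact mul_mem (le_sup_right (a := zpowers l) (inv_mem (hc t ht)))
      (le_sup_left (b := K) (mem_zpowers l))
  have hsolv : Group.IsSolvable (zpowers l) := Group.isSolvable_of_comm fun a b => Subtype.ext (by
    obtain ⟨i, hi⟩ := mem_zpowers_iff.1 a.2
    obtain ⟨j, hj⟩ := mem_zpowers_iff.1 b.2
    rw [coe_mul, coe_mul, ← hi, ← hj, ← zpow_add, ← zpow_add, add_comm])
  obtain ⟨k, hk, hkB⟩ := Solvable.Glauberman.exists_conj_of_le_sup (zpowers l) K hAK hcop (Or.inl hsolv)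
    (zpowers (t * l * t⁻¹)) (by rw [zpowers_le]; exact hm) (by
      rw [Nat.card_zpowers, Nat.card_zpowers]
      exact orderOf_injective (MulAut.conj t).toMonoidHom (MulAut.conj t).injective l)
  set c := k⁻¹ * t with hcdef
  have hcT : c ∈ T := mul_mem (inv_mem (hKT hk)) ht
  -- `c l c⁻¹ ∈ ⟨l⟩`
  have h1 : c * l * c⁻¹ ∈ zpowers l := by
    have h2 : t * l * t⁻¹ ∈ (MulAut.conj k) • (zpowers l) := by
      rw [hkB]; exact mem_zpowers _
    obtain ⟨y, hy, hyk⟩ := h2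
    have h3 : k * y * k⁻¹ = t * l * t⁻¹ := hyk
    have e : c * l * c⁻¹ = y := by
      calc c * l * c⁻¹ = k⁻¹ * (t * l * t⁻¹) * k := by rw [hcdef]; group
        _ = y := by rw [← h3]; group
    rw [e]; exact hy
  have h4 : c * l * c⁻¹ * l⁻¹ ∈ zpowers l := mul_mem h1 (inv_mem (mem_zpowers l))
  have h5 : c * l * c⁻¹ * l⁻¹ ∈ T := by
    have e : c * l * c⁻¹ * l⁻¹ = c * (l * c⁻¹ * l⁻¹) := by group
    rw [e]
    exact mul_mem hcT (hlT _ (inv_mem hcT))
  have h6 : c * l * c⁻¹ * l⁻¹ = 1 := by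
    obtain ⟨j, hj⟩ := hT ⟨_, h5⟩
    have h7 : (c * l * c⁻¹ * l⁻¹) ^ 2 ^ j = 1 := congrArg Subtype.val hj
    have h8 : orderOf (c * l * c⁻¹ * l⁻¹) ∣ 2 ^ j := orderOf_dvd_of_pow_eq_one h7
    have h9 : orderOf (c * l * c⁻¹ * l⁻¹) ∣ orderOf l := orderOf_dvd_of_mem_zpowers h4
    have h10 : orderOf (c * l * c⁻¹ * l⁻¹) ∣ 1 := by
      have hcop2 : (2 ^ j).Coprime (orderOf l) := Nat.Coprime.pow_left _ (Nat.coprime_two_left.2 hl)
      have := Nat.dvd_gcd h8 h9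
      rwa [hcop2] at this
    rw [Nat.dvd_one, orderOf_eq_one_iff] at h10
    exact h10
  refine ⟨k, hk, c, hcT, ?_, by rw [hcdef]; group⟩
  have h11 : c * l * c⁻¹ = l := mul_inv_eq_one.1 h6
  exact mul_inv_eq_iff_eq_mul.1 h11

section

variable {X : Type*} [Group X] [Finite X] {𝒜 : Set X} {L : Subgroup X}
variable (h : Ctx 𝒜) (hL : Cfsg.IsComponent L) (hA : Act 𝒜 L) (S : Sylow 2 X)
include h hL hA

/-- An element `a` of the family acts on `L` as `b ∈ L`: `a b⁻¹` centralizes `L`. -/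
theorem exists_inner' {a : X} (ha : a ∈ 𝒜) (haS : a ∈ (S : Subgroup X)) :
    ∃ b ∈ 𝒜, b ∈ (S : Subgroup X) ∧ b ∈ L ∧ a * b⁻¹ ∈ centralizer (L : Set X) := by
  obtain ⟨b, hb, hbS, hbL, hab⟩ := exists_inner h hL hA S a ha haS
  refine ⟨b, hb, hbS, hbL, ?_⟩
  rw [mem_centralizer_iff]
  intro l hl
  have hl' : b⁻¹ * l * b ∈ L := mul_mem (mul_mem (inv_mem hbL) hl) hbL
  have h2 := hab _ hl'
  have h3 : a * (b⁻¹ * l * b) * a⁻¹ = l := by rw [h2]; group
  calc l * (a * b⁻¹) = (a * (b⁻¹ * l * b) * a⁻¹) * (a * b⁻¹) := by rw [h3]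
    _ = a * b⁻¹ * l := by group

/-- `|A : C_A(L)|` is the number of elements of order at most two in a Sylow subgroup of `Inn L`. -/
theorem relIndex_eq {R : Sylow 2 ↥(inn L)}
    (hR1 : ∀ t : L, (t : X) ∈ (S : Subgroup X) → toInn L t ∈ (R : Subgroup ↥(inn L)))
    (hR2 : ∀ z ∈ (R : Subgroup ↥(inn L)), ∃ t : L, (t : X) ∈ (S : Subgroup X) ∧ toInn L t = z) :
    (centralizer (L : Set X)).relIndex (fam 𝒜 (S : Subgroup X)) =
      (invo ↥(inn L) (R : Subgroup ↥(inn L))).ncard := by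
  classical
  set A := fam 𝒜 (S : Subgroup X) with hAdef
  have hAmem : ∀ {x : X}, x ∈ A ↔ x ∈ 𝒜 ∧ x ∈ (S : Subgroup X) := fun {x} =>
    h.fam.toIsClosedFam.mem_fam_iff S.2
  have hAN : A ≤ normalizer (L : Set X) := fun a ha => mem_normalizer h.fam h.core hL (hAmem.1 ha).1
  let φ : A →* ↥(normalizer (L : Set X)) ⧸ cn L := (pr L).comp (Subgroup.inclusion hAN)
  have hφ : ∀ a : A, φ a = pr L ⟨a, hAN a.2⟩ := fun a => rfl
  have hker : φ.ker = (centralizer (L : Set X)).subgroupOf A := by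
    ext a
    rw [MonoidHom.mem_ker, mem_subgroupOf, hφ, pr_eq_one]
  have h1 : (centralizer (L : Set X)).relIndex A = Nat.card φ.range := by
    rw [relIndex, ← hker, index_ker]
  have h2 : (inn L).subtype '' (invo ↥(inn L) (R : Subgroup ↥(inn L))) = (φ.range : Set _) := by
    ext z
    constructor
    · rintro ⟨z, ⟨hzR, hzz⟩, rfl⟩
      by_cases hz1 : z = 1
      · rw [hz1, map_one]; exact one_mem _
      obtain ⟨t, htS, rfl⟩ := hR2 z hzR
      have htt : (t : X) * t ∈ centralizer (L : Set X) := by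
        rw [← map_mul, toInn_eq_one] at hzz
        exact hzz
      have htc : (t : X) ∉ centralizer (L : Set X) := fun hc => hz1 ((toInn_eq_one L).2 hc)
      obtain ⟨b, hb, hbS, hbL, hbc, z', hz'L, hz'c, e⟩ := exists_fam_of_sq h hL hA S t.2 htS htt htc
      refine ⟨⟨b, hAmem.2 ⟨hb, hbS⟩⟩, ?_⟩
      change pr L ⟨b, _⟩ = pr L ⟨(t : X), _⟩
      rw [pr_eq_iff]
      change b * (t : X)⁻¹ ∈ _
      have e2 : b * (t : X)⁻¹ = z'⁻¹ := by rw [e]; group
      rw [e2]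
      exact inv_mem hz'c
    · rintro ⟨a, rfl⟩
      obtain ⟨b, hb, hbS, hbL, hab⟩ := exists_inner' h hL hA S (hAmem.1 a.2).1 (hAmem.1 a.2).2
      refine ⟨toInn L ⟨b, hbL⟩, ⟨hR1 ⟨b, hbL⟩ hbS, ?_⟩, ?_⟩
      · rw [← map_mul, toInn_eq_one]
        change b * b ∈ _
        rw [h.fam.sq b hb]; exact one_mem _
      · change pr L ⟨b, _⟩ = pr L ⟨(a : X), _⟩
        rw [pr_eq_iff]
        change b * (a : X)⁻¹ ∈ _
        have e2 : b * (a : X)⁻¹ = ((a : X) * b⁻¹)⁻¹ := by group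
        rw [e2]
        exact inv_mem hab
  rw [h1, ← Set.ncard_image_of_injective _ (inn L).subtype_injective, h2]
  rfl

/-- `S ∩ L` centralizes `A`, or `|A : C_A(L)| = 2^n` with `n` odd. -/
theorem centralizes_or :
    (∀ t ∈ L, t ∈ (S : Subgroup X) → ∀ a ∈ 𝒜, a ∈ (S : Subgroup X) → t * a = a * t) ∨
      ∃ n : ℕ, Odd n ∧ (centralizer (L : Set X)).relIndex (fam 𝒜 (S : Subgroup X)) = 2 ^ n := by
  classical
  haveI : Fact (Nat.Prime 2) := ⟨Nat.prime_two⟩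
  obtain ⟨R, hR1, hR2⟩ := exists_sylow_inn hL S
  have hT := tCon_inn h hL hA
  -- reduction to `a ∈ L`
  have hred : (∀ t ∈ L, t ∈ (S : Subgroup X) → ∀ a ∈ 𝒜, a ∈ (S : Subgroup X) → a ∈ L → t * a = a * t) →
      ∀ t ∈ L, t ∈ (S : Subgroup X) → ∀ a ∈ 𝒜, a ∈ (S : Subgroup X) → t * a = a * t := by
    intro hh t htL htS a ha haS
    obtain ⟨b, hb, hbS, hbL, hab⟩ := exists_inner' h hL hA S ha haS
    have h1 : Commute t b := hh t htL htS b hb hbS hbL
    have h2 : Commute t (a * b⁻¹) := (mem_centralizer_iff.1 hab) t htL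
    have e : a = a * b⁻¹ * b := by group
    rw [e]
    exact (h2.mul_right h1).eq
  -- elements with central square
  have hsq : ∀ t ∈ L, t ∈ (S : Subgroup X) → t * t ∈ centralizer (L : Set X) → ∀ a ∈ 𝒜,
      a ∈ (S : Subgroup X) → a ∈ L → t * a = a * t := by
    intro t htL htS htt a ha haS haL
    by_cases htc : t ∈ centralizer (L : Set X)
    · exact ((mem_centralizer_iff.1 htc) a haL).symm
    · obtain ⟨b, hb, hbS, hbL, hbc, z, hzL, hzc, e⟩ := exists_fam_of_sq h hL hA S htL htS htt htc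
      have h1 : Commute z a := ((mem_centralizer_iff.1 hzc) a haL).symm
      have h2 : Commute b a := h.fam.comm S.2 hb hbS ha haS
      rw [e]
      exact (h1.mul_left h2).eq
  rcases hT.alt with hel | hB
  · left
    apply hred
    intro t htL htS
    refine hsq t htL htS ?_
    have h1 := hel R (toInn L ⟨t, htL⟩) (hR1 ⟨t, htL⟩ htS)
    rw [← map_mul, toInn_eq_one] at h1
    exact h1
  rcases hB.alt R with ⟨n, hn, hcard⟩ | ⟨y, hy, hyN, hyc, hyC⟩
  · right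
    exact ⟨n, hn, by rw [relIndex_eq h hL hA S hR1 hR2, hcard]⟩
  left
  apply hred
  -- lift `y`
  obtain ⟨l₀, hl₀⟩ := toInn_surjective L y
  obtain ⟨l, hl, hlo⟩ := exists_odd_lift (toInn L) l₀ (by rw [hl₀]; exact hy)
  rw [hl₀] at hl
  have hzS : ∀ {z : L}, toInn L z = 1 → (z : X) ∈ (S : Subgroup X) := fun {z} hz =>
    center_le h.core hL S z.2 ((toInn_eq_one L).1 hz)
  -- `l` normalizes `S ∩ L`
  have hlT : ∀ t : L, (t : X) ∈ (S : Subgroup X) → ((l * t * l⁻¹ : L) : X) ∈ (S : Subgroup X) := by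
    intro t htS
    have h1 : toInn L (l * t * l⁻¹) ∈ (R : Subgroup ↥(inn L)) := by
      rw [map_mul, map_mul, map_inv, hl]
      exact (mem_normalizer_iff.1 hyN _).1 (hR1 t htS)
    obtain ⟨t', ht'S, ht'⟩ := hR2 _ h1
    have h2 : toInn L (l * t * l⁻¹ * t'⁻¹) = 1 := by rw [map_mul, map_inv, ht', mul_inv_cancel]
    have h3 := hzS h2
    have e : l * t * l⁻¹ = l * t * l⁻¹ * t'⁻¹ * t' := by group
    rw [e, coe_mul]
    exact mul_mem h3 ht'S
  -- `l` centralizes `A ∩ L`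
  have hla : ∀ a : L, (a : X) ∈ 𝒜 → (a : X) ∈ (S : Subgroup X) → l * a = a * l := by
    intro a ha haS
    have h1 : toInn L a * y = y * toInn L a := by
      refine hyc _ (hR1 a haS) ?_
      rw [← map_mul, toInn_eq_one, coe_mul, h.fam.sq _ ha]
      exact one_mem _
    set z : L := a⁻¹ * (l * a * l⁻¹) with hz
    have hzc : (z : X) ∈ centralizer (L : Set X) := by
      rw [← toInn_eq_one, hz, map_mul, map_inv, map_mul, map_mul, map_inv, hl, ← h1]
      group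
    have hla𝒜 : ((l * a * l⁻¹ : L) : X) ∈ 𝒜 := h.fam.conj_mem _ ha l
    have hlaS := hlT a haS
    have hai : ((a⁻¹ : L) : X) ∈ 𝒜 := by
      rw [coe_inv, h.fam.inv_eq ha]; exact ha
    have hz𝒜 : (z : X) ∈ 𝒜 := by
      rw [hz, coe_mul]
      exact h.fam.mul_mem (S : Subgroup X) S.2 _ (by rw [coe_inv]; exact inv_mem haS) _ hlaS hai hla𝒜
    have hzz : z * z = 1 := Subtype.ext (h.fam.sq _ hz𝒜)
    have hzcomm : ∀ g : L, Commute g z := fun g => Subtype.ext ((mem_centralizer_iff.1 hzc) g g.2)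
    have h2 : l * a * l⁻¹ = a * z := by rw [hz]; group
    have h3 : ∀ k : ℕ, l ^ k * a * (l ^ k)⁻¹ = a * z ^ k := by
      intro k
      induction k with
      | zero => simp
      | succ k ih =>
        have hcl : Commute l (z ^ k) := (hzcomm l).pow_right k
        calc l ^ (k + 1) * a * (l ^ (k + 1))⁻¹ = l * (l ^ k * a * (l ^ k)⁻¹) * l⁻¹ := by
              rw [pow_succ']; group
          _ = l * (a * z ^ k) * l⁻¹ := by rw [ih]
          _ = l * a * l⁻¹ * (l * z ^ k * l⁻¹) := by group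
          _ = a * z * z ^ k := by rw [h2, hcl.eq, mul_inv_cancel_right]
          _ = a * z ^ (k + 1) := by rw [mul_assoc, ← pow_succ']
    have h4 := h3 (orderOf l)
    rw [pow_orderOf_eq_one] at h4
    have h5 : z ^ orderOf l = 1 := by
      have : a = a * z ^ orderOf l := by simpa using h4
      exact (mul_eq_left.1 this.symm)
    have h6 : z = 1 := by
      obtain ⟨k, hk⟩ := hlo
      rw [hk, pow_add, pow_mul, pow_two, hzz, one_pow, one_mul, pow_one] at h5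
      exact h5
    rw [h6, mul_one] at h2
    exact mul_inv_eq_iff_eq_mul.1 h2
  intro t htL htS a ha haS haL
  -- the kernel of `t ↦ [t, a]`
  set a' : L := ⟨a, haL⟩ with ha'
  let T : Subgroup L := (S : Subgroup X).subgroupOf L
  have hTmem : ∀ {t : L}, t ∈ T ↔ (t : X) ∈ (S : Subgroup X) := fun {t} => mem_subgroupOf
  have hTp : IsPGroup 2 T := S.2.comap_of_injective L.subtype L.subtype_injective
  let K : Subgroup L := T ⊓ centralizer ({a'} : Set L)
  have hKmem : ∀ {t : L}, t ∈ K ↔ t ∈ T ∧ a' * t = t * a' := by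
    intro t
    rw [mem_inf, mem_centralizer_iff]
    simp only [Set.mem_singleton_iff, forall_eq]
  have hcomm : ∀ {t : L}, t ∈ T → ((t * a' * t⁻¹ * a'⁻¹ : L) : X) ∈ centralizer (L : Set X) := by
    intro t ht
    exact comm_mod h hL hA S t.2 (hTmem.1 ht) ha haS
  have hcen : ∀ {z : L}, (z : X) ∈ centralizer (L : Set X) → ∀ g : L, Commute g z := fun {z} hz g =>
    Subtype.ext ((mem_centralizer_iff.1 hz) g g.2)
  have hla' : l * a' = a' * l := hla a' ha haS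
  have hcK : ∀ t ∈ T, l * t * l⁻¹ * t⁻¹ ∈ K := by
    intro t ht
    have h1 : l * t * l⁻¹ * t⁻¹ ∈ T := mul_mem (hTmem.2 (hlT t (hTmem.1 ht))) (inv_mem ht)
    rw [hKmem]
    refine ⟨h1, ?_⟩
    -- `φ(t) = [t,a]`
    set z : L := t * a' * t⁻¹ * a'⁻¹ with hz
    have hzc := hcen (hcomm ht)
    rw [← hz] at hzc
    have e1 : t * a' * t⁻¹ = z * a' := by rw [hz]; group
    have e1' : t⁻¹ * a' * t = z⁻¹ * a' := by
      have h2 : t⁻¹ * (z * a') * t = a' := by rw [← e1]; group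
      have h3 : t⁻¹ * (z * a') * t = z * (t⁻¹ * a' * t) := by
        calc t⁻¹ * (z * a') * t = (t⁻¹ * z) * a' * t := by group
          _ = (z * t⁻¹) * a' * t := by rw [(hzc t⁻¹).eq]
          _ = z * (t⁻¹ * a' * t) := by group
      rw [h3] at h2
      calc t⁻¹ * a' * t = z⁻¹ * (z * (t⁻¹ * a' * t)) := by group
        _ = z⁻¹ * a' := by rw [h2]
    have e2 : l * t * l⁻¹ * t⁻¹ * a' * (l * t * l⁻¹ * t⁻¹)⁻¹ = a' := by
      calc l * t * l⁻¹ * t⁻¹ * a' * (l * t * l⁻¹ * t⁻¹)⁻¹ =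
          l * t * l⁻¹ * (t⁻¹ * a' * t) * l * t⁻¹ * l⁻¹ := by group
        _ = l * t * l⁻¹ * (z⁻¹ * a') * l * t⁻¹ * l⁻¹ := by rw [e1']
        _ = l * t * (l⁻¹ * z⁻¹) * a' * l * t⁻¹ * l⁻¹ := by group
        _ = l * t * (z⁻¹ * l⁻¹) * a' * l * t⁻¹ * l⁻¹ := by rw [((hzc l⁻¹).inv_right).eq]
        _ = (l * t * z⁻¹) * (l⁻¹ * (a' * l)) * t⁻¹ * l⁻¹ := by group
        _ = (l * t * z⁻¹) * (l⁻¹ * (l * a')) * t⁻¹ * l⁻¹ := by rw [hla']
        _ = (l * t) * z⁻¹ * a' * t⁻¹ * l⁻¹ := by group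
        _ = z⁻¹ * (l * t) * a' * t⁻¹ * l⁻¹ := by rw [((hzc (l * t)).inv_right).eq]
        _ = z⁻¹ * l * (t * a' * t⁻¹) * l⁻¹ := by group
        _ = z⁻¹ * l * (z * a') * l⁻¹ := by rw [e1]
        _ = z⁻¹ * (l * z) * a' * l⁻¹ := by group
        _ = z⁻¹ * (z * l) * a' * l⁻¹ := by rw [(hzc l).eq]
        _ = l * a' * l⁻¹ := by group
        _ = a' := by rw [hla']; group
    exact (mul_inv_eq_iff_eq_mul.1 e2).symm
  have hlK : ∀ k ∈ K, l * k * l⁻¹ ∈ K := by
    intro k hk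
    have h1 := hcK k (hKmem.1 hk).1
    have e : l * k * l⁻¹ = l * k * l⁻¹ * k⁻¹ * k := by group
    rw [e]
    exact mul_mem h1 hk
  obtain ⟨k, hk, c, hcT, hcl, htkc⟩ := exists_commute_mul hTp (K := K) inf_le_left hlo
    (fun t ht => hTmem.2 (hlT t (hTmem.1 ht))) hlK hcK ⟨t, htL⟩ (hTmem.2 htS)
  have h1 : Commute (k : L) a' := (hKmem.1 hk).2.symm
  have h2 : Commute (c : L) a' := by
    apply Subtype.ext
    refine hsq c c.2 (hTmem.1 hcT) ?_ a ha haS haL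
    have h3 := hyC (toInn L c) (hR1 c (hTmem.1 hcT)) (by rw [← hl, ← map_mul, ← map_mul, hcl])
    rw [← map_mul, toInn_eq_one] at h3
    exact h3
  have h3 : Commute (⟨t, htL⟩ : L) a' := by rw [htkc]; exact h1.mul_left h2
  exact congrArg Subtype.val h3.eq

end

end Cfsg.Agent.TwoFusion.GoldInnerC
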