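import Cfsg.Agent.TwoFusion.GoldPairs
import Cfsg.Agent.TwoFusion.GoldIdx
import Cfsg.Agent.TwoFusion.GoldInnerC
import Cfsg.Agent.TwoFusion.GoldCentreLin
import Cfsg.Agent.TwoFusion.GoldCentreCompl

/-!
# Goldschmidt's theorem, section 3: centres

If `|A| ≤ q²` then for a class `D` with component `L` the Sylow subgroup of `L` centralizes `A`, so that
`[A, N_L(A)]` is a canonical complement to `D` in `A`.
-/

set_option autoImplicit false
set_option linter.style.haveILetI false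

namespace Cfsg.Agent.TwoFusion.GoldCentre

open Subgroup
open Cfsg.Agent.TwoFusion.ClosedFam Cfsg.Agent.TwoFusion.Gold Cfsg.Agent.TwoFusion.GoldPairDefs
open Cfsg.Agent.TwoFusion.GoldSetup Cfsg.Agent.TwoFusion.GoldPairs Cfsg.Agent.TwoFusion.GoldCentreCompl

universe u

variable {G : Type u} [Group G] [Finite G] {𝒜 : Set G} (h : Setup 𝒜) (S : Sylow 2 G)

omit [Finite G] in
theorem conj_transport {A : Subgroup G} {u v : G} (huv : u = v) {X Y : Subgroup G}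
    (hh : ∃ L' : Subgroup (Xw u), IsPair 𝒜 A u L' ∧ DD A u L' = X ∧ JJ A u L' = Y) :
    ∃ L' : Subgroup (Xw v), IsPair 𝒜 A v L' ∧ DD A v L' = X ∧ JJ A v L' = Y := by
  subst huv; exact hh

section Local

include h

/-- The component is determined by its centralizer in `A`. -/
theorem uniq {w : G} {L M : Subgroup (Xw w)} (hL : IsPair 𝒜 (fam 𝒜 (S : Subgroup G)) w L)
    (hM : IsPair 𝒜 (fam 𝒜 (S : Subgroup G)) w M)
    (e : DD (fam 𝒜 (S : Subgroup G)) w L = DD (fam 𝒜 (S : Subgroup G)) w M) : L = M := by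
  by_contra hne
  have hAH : fam 𝒜 (S : Subgroup G) ≤ Cw w := fun a ha => mem_Cw' h S ha hL.mem
  obtain ⟨P, hP⟩ := GoldSolid.exists_sylow_push h.fam S hAH
  have hctx := ctxw h S hL.mem hL.ne
  obtain ⟨a', ha', -, -, haL, -, hac, -, -⟩ := GoldIdx.exists_two hctx.fam hctx.core P hL.comp hL.act
  rw [hP] at ha'
  obtain ⟨a, ha, rfl⟩ := ha'
  have haA : (a : G) ∈ fam 𝒜 (S : Subgroup G) := mem_subgroupOf.1 ha
  have h1 : (a : G) ∈ DD (fam 𝒜 (S : Subgroup G)) w M :=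
    mem_DD.2 ⟨haA, a.2, comm_components h hL.comp hM.comp hne haL⟩
  rw [← e] at h1
  obtain ⟨-, _, h2⟩ := mem_DD.1 h1
  exact hac h2

/-- Lifting elements of `L` which normalize the image of `A`. -/
theorem exists_JJ {w : G} {L : Subgroup (Xw w)} (hL : IsPair 𝒜 (fam 𝒜 (S : Subgroup G)) w L)
    {P : Sylow 2 (Xw w)}
    (hP : fam (push 𝒜 (Cw w)) (P : Subgroup (Xw w)) = ((fam 𝒜 (S : Subgroup G)).subgroupOf (Cw w)).map (pw w))
    {t : Xw w} (ht : t ∈ L) (htn : t ∈ normalizer (fam (push 𝒜 (Cw w)) (P : Subgroup (Xw w)) : Set (Xw w))) :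
    ∃ x ∈ JJ (fam 𝒜 (S : Subgroup G)) w L, ∃ hx : x ∈ Cw w, pw w ⟨x, hx⟩ = t := by
  have hAH : fam 𝒜 (S : Subgroup G) ≤ Cw w := fun a ha => mem_Cw' h S ha hL.mem
  obtain ⟨⟨c, hc⟩, rfl⟩ := pw_surjective w t
  rw [hP] at htn
  obtain ⟨o, ho, n, hn, hnw, hcn⟩ := GoldSolid.exists_mul_of_mem_normalizer h.fam S hAH hc htn
  have hpn : pw w ⟨n, hnw⟩ = pw w ⟨c, hc⟩ := by
    have how : o ∈ Cw w := by
      obtain ⟨y, -, rfl⟩ := ho
      exact y.2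
    have h1 : pw w ⟨o, how⟩ = 1 := by
      rw [pw_eq_one]
      obtain ⟨y, hy, hyo⟩ := ho
      have : y = ⟨o, how⟩ := Subtype.ext hyo
      rw [← this]; exact hy
    have h2 : (⟨c, hc⟩ : ↥(Cw w)) = ⟨o, how⟩ * ⟨n, hnw⟩ := Subtype.ext hcn
    rw [h2, map_mul, h1, one_mul]
  exact ⟨n, mem_JJ.2 ⟨hn, hnw, by rw [hpn]; exact ht⟩, hnw, hpn⟩

/-- The image of an element of `JJ` lies in `L` and normalizes the image of `A`. -/
theorem pw_JJ {w : G} {L : Subgroup (Xw w)} {P : Sylow 2 (Xw w)}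
    (hP : fam (push 𝒜 (Cw w)) (P : Subgroup (Xw w)) = ((fam 𝒜 (S : Subgroup G)).subgroupOf (Cw w)).map (pw w))
    {x : G} (hx : x ∈ JJ (fam 𝒜 (S : Subgroup G)) w L) (hxw : x ∈ Cw w) :
    pw w ⟨x, hxw⟩ ∈ L ∧
      pw w ⟨x, hxw⟩ ∈ normalizer (fam (push 𝒜 (Cw w)) (P : Subgroup (Xw w)) : Set (Xw w)) := by
  obtain ⟨hxN, hxw', hxL⟩ := mem_JJ.1 hx
  refine ⟨hxL, ?_⟩
  rw [hP]
  refine mem_normalizer_fintype ?_
  rintro _ ⟨⟨a, haw⟩, ha, rfl⟩
  rw [SetLike.mem_coe, mem_subgroupOf] at ha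
  have h1 : x * a * x⁻¹ ∈ fam 𝒜 (S : Subgroup G) := (mem_normalizer_iff.1 hxN a).1 ha
  refine ⟨⟨x * a * x⁻¹, mul_mem (mul_mem hxw haw) (inv_mem hxw)⟩, mem_subgroupOf.2 h1, ?_⟩
  rw [← map_inv, ← map_mul, ← map_mul]
  rfl

/-- `|A : C_A(L)|` in terms of `X_w`. -/
theorem relIndex_DD {w : G} {L : Subgroup (Xw w)} (hL : IsPair 𝒜 (fam 𝒜 (S : Subgroup G)) w L)
    {P : Sylow 2 (Xw w)}
    (hP : fam (push 𝒜 (Cw w)) (P : Subgroup (Xw w)) = ((fam 𝒜 (S : Subgroup G)).subgroupOf (Cw w)).map (pw w)) :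
    (DD (fam 𝒜 (S : Subgroup G)) w L).relIndex (fam 𝒜 (S : Subgroup G)) =
      (centralizer (L : Set (Xw w))).relIndex (fam (push 𝒜 (Cw w)) (P : Subgroup (Xw w))) := by
  have hAH : fam 𝒜 (S : Subgroup G) ≤ Cw w := fun a ha => mem_Cw' h S ha hL.mem
  rw [hP, ← relIndex_comap, DD, inf_relIndex_left]
  have e := relIndex_map_map_of_injective ((centralizer (L : Set (Xw w))).comap (pw w))
    ((fam 𝒜 (S : Subgroup G)).subgroupOf (Cw w)) (f := (Cw w).subtype) (Cw w).subtype_injective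
  rw [subgroupOf_map_subtype, inf_of_le_left hAH] at e
  exact e

/-- The Sylow part of `JJ`. -/
def QQ (w : G) (L : Subgroup (Xw w)) (P : Subgroup (Xw w)) : Subgroup G :=
  ((P ⊓ L).comap (pw w)).map (Cw w).subtype

omit [Finite G] h in
theorem mem_QQ {w : G} {L P : Subgroup (Xw w)} {x : G} :
    x ∈ QQ w L P ↔ ∃ hx : x ∈ Cw w, pw w ⟨x, hx⟩ ∈ P ∧ pw w ⟨x, hx⟩ ∈ L := by
  constructor
  · rintro ⟨y, hy, rfl⟩
    exact ⟨y.2, hy.1, hy.2⟩
  · rintro ⟨hx, h1, h2⟩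
    exact ⟨⟨x, hx⟩, ⟨h1, h2⟩, rfl⟩

/-- The Sylow part has odd index in `JJ`. -/
theorem odd_QQ {w : G} {L : Subgroup (Xw w)} (hL : IsPair 𝒜 (fam 𝒜 (S : Subgroup G)) w L)
    {P : Sylow 2 (Xw w)}
    (hP : fam (push 𝒜 (Cw w)) (P : Subgroup (Xw w)) = ((fam 𝒜 (S : Subgroup G)).subgroupOf (Cw w)).map (pw w)) :
    Odd ((QQ w L (P : Subgroup (Xw w))).relIndex (JJ (fam 𝒜 (S : Subgroup G)) w L)) := by
  haveI : Fact (Nat.Prime 2) := ⟨Nat.prime_two⟩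
  have hJw : JJ (fam 𝒜 (S : Subgroup G)) w L ≤ Cw w := fun x hx => by
    obtain ⟨-, hxw, -⟩ := mem_JJ.1 hx
    exact hxw
  set N : Subgroup (Xw w) := L ⊓ normalizer (fam (push 𝒜 (Cw w)) (P : Subgroup (Xw w)) : Set (Xw w)) with hN
  have hctx := ctxw h S hL.mem hL.ne
  have hmap : ((JJ (fam 𝒜 (S : Subgroup G)) w L).subgroupOf (Cw w)).map (pw w) = N := by
    ext t
    constructor
    · rintro ⟨⟨x, hxw⟩, hx, rfl⟩
      obtain ⟨h1, h2⟩ := pw_JJ h S hP (mem_subgroupOf.1 hx) hxw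
      exact mem_inf.2 ⟨h1, h2⟩
    · intro ht
      obtain ⟨h1, h2⟩ := mem_inf.1 ht
      obtain ⟨x, hx, hxw, hxt⟩ := exists_JJ h S hL hP h1 h2
      exact ⟨⟨x, hxw⟩, mem_subgroupOf.2 hx, hxt⟩
  have e1 : (QQ w L (P : Subgroup (Xw w))).relIndex (JJ (fam 𝒜 (S : Subgroup G)) w L) =
      ((P : Subgroup (Xw w)) ⊓ L).relIndex N := by
    rw [← hmap, ← relIndex_comap]
    have e := relIndex_map_map_of_injective (((P : Subgroup (Xw w)) ⊓ L).comap (pw w))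
      ((JJ (fam 𝒜 (S : Subgroup G)) w L).subgroupOf (Cw w)) (f := (Cw w).subtype) (Cw w).subtype_injective
    rw [subgroupOf_map_subtype, inf_of_le_left hJw] at e
    exact e
  rw [e1, ← Nat.not_even_iff_odd, even_iff_two_dvd]
  intro h3
  have hSN : (P : Subgroup (Xw w)) ⊓ L ≤ N := by
    intro t ht
    exact mem_inf.2 ⟨ht.2, hctx.fam.toIsClosedFam.le_normalizer_fam (P : Subgroup (Xw w)) ht.1⟩
  have h4 : ((P : Subgroup (Xw w)) ⊓ L).relIndex N ∣ ((P : Subgroup (Xw w)) ⊓ L).relIndex L := by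
    rw [← relIndex_mul_relIndex ((P : Subgroup (Xw w)) ⊓ L) N L hSN inf_le_left]
    exact dvd_mul_right _ _
  have h5 : 2 ∣ ((P : Subgroup (Xw w)) ⊓ L).relIndex L := h3.trans h4
  rw [inf_relIndex_right] at h5
  exact P.not_dvd_index
    (h5.trans (Cfsg.Agent.SignalizersComponents.PCompCore.relIndex_dvd_index_of_subnormal _ hL.comp.1))

/-- The Sylow part is trivial on `A/D`. -/
theorem QQ_comm {w : G} {L : Subgroup (Xw w)} (hL : IsPair 𝒜 (fam 𝒜 (S : Subgroup G)) w L)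
    {P : Sylow 2 (Xw w)}
    (hP : fam (push 𝒜 (Cw w)) (P : Subgroup (Xw w)) = ((fam 𝒜 (S : Subgroup G)).subgroupOf (Cw w)).map (pw w))
    {x a : G} (hx : x ∈ QQ w L (P : Subgroup (Xw w))) (hxJ : x ∈ JJ (fam 𝒜 (S : Subgroup G)) w L)
    (ha : a ∈ fam 𝒜 (S : Subgroup G)) :
    x * a * x⁻¹ * a⁻¹ ∈ DD (fam 𝒜 (S : Subgroup G)) w L := by
  obtain ⟨hxw, hxP, hxL⟩ := mem_QQ.1 hx
  obtain ⟨h1, h2, -⟩ := comm_mem h S hL hxJ ha
  refine mem_DD.2 ⟨h1, h2, ?_⟩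
  have haw := mem_Cw' h S ha hL.mem
  have haP : pw w ⟨a, haw⟩ ∈ fam (push 𝒜 (Cw w)) (P : Subgroup (Xw w)) := by
    rw [hP]; exact ⟨⟨a, haw⟩, mem_subgroupOf.2 ha, rfl⟩
  have hctx := ctxw h S hL.mem hL.ne
  have e : pw w ⟨x * a * x⁻¹ * a⁻¹, h2⟩ =
      pw w ⟨x, hxw⟩ * pw w ⟨a, haw⟩ * (pw w ⟨x, hxw⟩)⁻¹ * (pw w ⟨a, haw⟩)⁻¹ := by
    rw [← map_inv, ← map_inv, ← map_mul, ← map_mul, ← map_mul]
    rfl
  rw [e]
  exact GoldInnerJ.comm_mod hctx hL.comp hL.act P hxL hxP (pw_mem_push h S ha haw)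
    (fam_le _ _ haP)

end Local

section Main

variable (hB : Balance 𝒜 (fam 𝒜 (S : Subgroup G))) (hC : ConjPair 𝒜 (fam 𝒜 (S : Subgroup G)))
  (hne : ∃ (w : G) (L : Subgroup (Xw w)), IsPair 𝒜 (fam 𝒜 (S : Subgroup G)) w L)
  (hV : Nat.card (fam 𝒜 (S : Subgroup G)) ≤ qmax 𝒜 (fam 𝒜 (S : Subgroup G)) ^ 2)

include h hB hC hne hV

/-- Section 3: in the small case the Sylow subgroup of `L` centralizes `A`. -/
theorem centralizes {w : G} {L : Subgroup (Xw w)} (hL : IsPair 𝒜 (fam 𝒜 (S : Subgroup G)) w L)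
    (hq : (DD (fam 𝒜 (S : Subgroup G)) w L).relIndex (fam 𝒜 (S : Subgroup G)) =
      qmax 𝒜 (fam 𝒜 (S : Subgroup G)))
    {P : Sylow 2 (Xw w)}
    (hP : fam (push 𝒜 (Cw w)) (P : Subgroup (Xw w)) = ((fam 𝒜 (S : Subgroup G)).subgroupOf (Cw w)).map (pw w)) :
    ∀ t ∈ L, t ∈ (P : Subgroup (Xw w)) → ∀ a ∈ push 𝒜 (Cw w), a ∈ (P : Subgroup (Xw w)) →
      t * a = a * t := by
  classical
  have hCl := classData h S hB hC (fun w L hp => GoldIdx.four_le h S hp) hne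
  set A := fam 𝒜 (S : Subgroup G) with hA
  have hctx := ctxw h S hL.mem hL.ne
  rcases GoldInnerC.centralizes_or hctx hL.comp hL.act P with h0 | ⟨n, hn, hn'⟩
  · exact h0
  rw [← relIndex_DD h S hL hP, hq] at hn'
  by_contra hcon
  push Not at hcon
  obtain ⟨t, htL, htP, a', ha', haP', hta⟩ := hcon
  set D := DD A w L with hD
  have hDcls : D ∈ cls 𝒜 A := ⟨w, L, hL, rfl, hq⟩
  -- lift `t` and `a'`
  obtain ⟨x, hxJ, hxw, rfl⟩ := exists_JJ h S hL hP htL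
    (hctx.fam.toIsClosedFam.le_normalizer_fam (P : Subgroup (Xw w)) htP)
  have hxQ : x ∈ QQ w L (P : Subgroup (Xw w)) := mem_QQ.2 ⟨hxw, htP, htL⟩
  have hxN : x ∈ normalizer (A : Set G) := (mem_JJ.1 hxJ).1
  have hxA : ∀ b ∈ A, x * b * x⁻¹ ∈ A := fun b hb => (mem_normalizer_iff.1 hxN b).1 hb
  have hlift : ∀ b ∈ push 𝒜 (Cw w), b ∈ (P : Subgroup (Xw w)) →
      ∃ b₀ ∈ A, ∃ hb : b₀ ∈ Cw w, pw w ⟨b₀, hb⟩ = b := by
    intro b hb hbP
    have : b ∈ fam (push 𝒜 (Cw w)) (P : Subgroup (Xw w)) := mem_fam hb hbP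
    rw [hP] at this
    obtain ⟨⟨b₀, hb₀w⟩, hb₀, hb₀b⟩ := this
    exact ⟨b₀, mem_subgroupOf.1 hb₀, hb₀w, hb₀b⟩
  obtain ⟨a, ha, haw, rfl⟩ := hlift a' ha' haP'
  have hxa : x * a * x⁻¹ ≠ a := by
    intro e
    apply hta
    rw [← map_mul, ← map_mul]
    congr 1
    apply Subtype.ext
    change x * a = a * x
    calc x * a = x * a * x⁻¹ * x := by group
      _ = a * x := by rw [e]
  obtain ⟨b', hb', hbP', -, hbc', hcomm⟩ := GoldInnerJ.exists_comm hctx hL.comp hL.act P htL htP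
  obtain ⟨b, hb, hbw, rfl⟩ := hlift b' hb' hbP'
  have hbD : b ∉ D := by
    intro hbD
    obtain ⟨-, _, h2⟩ := mem_DD.1 hbD
    exact hbc' h2
  have hxb : x * b * x⁻¹ = b := by
    have h1 : x * b * x⁻¹ * b⁻¹ ∈ A := mul_mem (hxA b hb) (inv_mem hb)
    have h2 : x * b * x⁻¹ * b⁻¹ ∈ Cw w := mul_mem (mul_mem (mul_mem hxw hbw) (inv_mem hxw)) (inv_mem hbw)
    have h3 : x * b * x⁻¹ * b⁻¹ = 1 := by
      refine eq_one_of_pw h S h1 h2 ?_
      have e : pw w ⟨x * b * x⁻¹ * b⁻¹, h2⟩ =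
          pw w ⟨x, hxw⟩ * pw w ⟨b, hbw⟩ * (pw w ⟨x, hxw⟩)⁻¹ * (pw w ⟨b, hbw⟩)⁻¹ := by
        rw [← map_inv, ← map_inv, ← map_mul, ← map_mul, ← map_mul]
        rfl
      rw [e, hcomm]; group
    calc x * b * x⁻¹ = x * b * x⁻¹ * b⁻¹ * b := by group
      _ = b := by rw [h3, one_mul]
  have hxD : ∀ d ∈ D, x * d * x⁻¹ = d := fun d hd => JJ_comm_DD h S hL hxJ hd
  have hxAD : ∀ c ∈ A, x * c * x⁻¹ * c⁻¹ ∈ D := fun c hc => QQ_comm h S hL hP hxQ hxJ hc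
  -- another class
  obtain ⟨D', hD', hDD'⟩ : ∃ D' ∈ cls 𝒜 A, D' ≠ D := by
    by_contra hall
    push Not at hall
    have hDA : D ≤ A := hCl.le D hDcls
    rcases h.irreducible S hDA (fun n hn y hy => by
      have h1 := hCl.inv D hDcls n hn
      rw [← hall _ h1]
      exact ⟨y, hy, rfl⟩) with e | e
    · exact hCl.ne D hDcls e
    · exact hCl.ne_A hDcls e
  have hdisj : D ⊓ D' = ⊥ := disj hCl hV hDcls hD' (Ne.symm hDD')
  obtain ⟨⟨d, hd⟩, hd1'⟩ := Subgroup.ne_bot_iff_exists_ne_one.1 (hCl.ne D' hD')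
  have hd1 : d ≠ 1 := fun e => hd1' (Subtype.ext e)
  have hdD : d ∉ D := by
    intro hdD
    have : d ∈ D ⊓ D' := mem_inf.2 ⟨hdD, hd⟩
    rw [hdisj, mem_bot] at this
    exact hd1 this
  have hdA : d ∈ A := hCl.le D' hD' hd
  obtain ⟨j, hj, hjdb⟩ := JJ_trans h S hL hdA hb hdD hbD
  have hjN : j ∈ normalizer (A : Set G) := (mem_JJ.1 hj).1
  set D₂ : Subgroup G := D'.map (MulAut.conj j).toMonoidHom with hD₂
  have hD₂cls : D₂ ∈ cls 𝒜 A := hCl.inv D' hD' j hjN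
  have hD₂D : D₂ ≠ D := by
    intro e
    apply hDD'
    ext y
    have h1 : y ∈ D' ↔ j * y * j⁻¹ ∈ D₂ := by
      constructor
      · intro hy; exact ⟨y, hy, rfl⟩
      · rintro ⟨y', hy', hyy'⟩
        have hyy'' : j * y' * j⁻¹ = j * y * j⁻¹ := hyy'
        have : y' = y := mul_left_cancel (mul_right_cancel hyy'')
        rwa [← this]
    rw [h1, e]
    constructor
    · intro hy
      have h2 := JJ_comm_DD h S hL (inv_mem hj) hy
      have h3 : y = j⁻¹ * (j * y * j⁻¹) * j⁻¹⁻¹ := by group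
      rw [h3, h2]
      exact hy
    · intro hy
      rw [JJ_comm_DD h S hL hj hy]
      exact hy
  set e := j * d * j⁻¹ with he
  have heD₂ : e ∈ D₂ := ⟨d, hd, rfl⟩
  have he1 : e ≠ 1 := by
    intro h1
    apply hd1
    rw [he, mul_inv_eq_one, mul_eq_left] at h1
    exact h1
  have heA : e ∈ A := hCl.le D₂ hD₂cls heD₂
  have hxe : x * e * x⁻¹ = e := by
    have h1 : e = (e * b⁻¹) * b := by group
    calc x * e * x⁻¹ = (x * (e * b⁻¹) * x⁻¹) * (x * b * x⁻¹) := by group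
      _ = (e * b⁻¹) * b := by rw [hxD _ hjdb, hxb]
      _ = e := h1.symm
  -- `x` normalizes and centralizes `D₂`
  have hD₂x : D₂.map (MulAut.conj x).toMonoidHom = D₂ := by
    by_contra hne2
    have h1 := disj hCl hV (hCl.inv D₂ hD₂cls x hxN) hD₂cls hne2
    have h2 : e ∈ D₂.map (MulAut.conj x).toMonoidHom ⊓ D₂ := by
      refine mem_inf.2 ⟨⟨e, heD₂, ?_⟩, heD₂⟩
      exact hxe
    rw [h1, mem_bot] at h2
    exact he1 h2
  have hxD₂ : ∀ y ∈ D₂, x * y * x⁻¹ = y := by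
    intro y hy
    have h1 : x * y * x⁻¹ ∈ D₂ := by
      rw [← hD₂x]; exact ⟨y, hy, rfl⟩
    have h2 : x * y * x⁻¹ * y⁻¹ ∈ D ⊓ D₂ :=
      mem_inf.2 ⟨hxAD y (hCl.le D₂ hD₂cls hy), mul_mem h1 (inv_mem hy)⟩
    rw [disj hCl hV hDcls hD₂cls (Ne.symm hD₂D), mem_bot, mul_inv_eq_one] at h2
    exact h2
  -- the component of `X_e`
  obtain ⟨M, hM, hMD⟩ := exists_comp S hB hD₂cls heD₂ he1
  obtain ⟨M', hM', hMD', hMJ'⟩ : ∃ M' : Subgroup (Xw e), IsPair 𝒜 A e M' ∧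
      DD A e M' = (DD A e M).map (MulAut.conj x).toMonoidHom ∧
      JJ A e M' = (JJ A e M).map (MulAut.conj x).toMonoidHom := by
    exact conj_transport hxe (hC e M x hM hxN)
  have hMM' : M' = M := by
    apply uniq h S hM' hM
    rw [hMD', hMD, hD₂x]
  rw [hMM'] at hMJ'
  have hxJJ : ∀ y ∈ JJ A e M, x * y * x⁻¹ ∈ JJ A e M := by
    intro y hy
    rw [hMJ']
    exact ⟨y, hy, rfl⟩
  have hAH₂ : A ≤ Cw e := fun a ha => mem_Cw' h S ha hM.mem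
  obtain ⟨P₂, hP₂⟩ := GoldSolid.exists_sylow_push h.fam S hAH₂
  have hq₂ : D₂.relIndex A = 2 ^ n := by rw [← hn']; exact hCl.rel D₂ hD₂cls
  have hJn : JJ A e M ≤ normalizer (D₂ : Set G) := by
    intro y hy
    refine mem_normalizer_fintype ?_
    intro z hz
    have hz' : z ∈ DD A e M := by rw [hMD]; exact hz
    rw [JJ_comm_DD h S hM hy hz']
    exact hz
  have key := GoldCentreLin.trivial_of_transitive (A := A) (D := D₂) (Q := JJ A e M)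
    (Q₀ := QQ e M (P₂ : Subgroup (Xw e))) (h.sq S) hn hq₂ inf_le_left hJn
    (fun a ha b hb haD hbD => by
      rw [← hMD] at haD hbD ⊢
      exact JJ_trans h S hM ha hb haD hbD)
    (fun y hy hyJ a ha => by
      rw [← hMD]
      exact QQ_comm h S hM hP₂ hy hyJ ha)
    (odd_QQ h S hM hP₂) (x := x) hxN (mem_normalizer_fintype (fun y hy => by
      rw [hxD₂ y hy]; exact hy)) hxJJ (fun c hc => by
      -- `x * x` is trivial on `A`
      have h1 := hxAD c hc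
      have h2 := hxD _ h1
      have h3 := h.sq S _ (hCl.le D hDcls h1)
      have e1 : x * x * c * (x * x)⁻¹ * c⁻¹ =
          (x * (x * c * x⁻¹ * c⁻¹) * x⁻¹) * (x * c * x⁻¹ * c⁻¹) := by group
      rw [e1, h2, h3]
      exact one_mem _)
  -- contradiction
  apply hxa
  have h1 : x * a * x⁻¹ * a⁻¹ ∈ D ⊓ D₂ := mem_inf.2 ⟨hxAD a ha, key a ha⟩
  rw [disj hCl hV hDcls hD₂cls (Ne.symm hD₂D), mem_bot, mul_inv_eq_one] at h1
  exact h1

/-- The complement for a pair. -/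
theorem compl_pair {w : G} {L : Subgroup (Xw w)} (hL : IsPair 𝒜 (fam 𝒜 (S : Subgroup G)) w L)
    (hq : (DD (fam 𝒜 (S : Subgroup G)) w L).relIndex (fam 𝒜 (S : Subgroup G)) =
      qmax 𝒜 (fam 𝒜 (S : Subgroup G))) :
    cm (fam 𝒜 (S : Subgroup G)) (JJ (fam 𝒜 (S : Subgroup G)) w L) ⊓ DD (fam 𝒜 (S : Subgroup G)) w L = ⊥ ∧
    cm (fam 𝒜 (S : Subgroup G)) (JJ (fam 𝒜 (S : Subgroup G)) w L) ⊔ DD (fam 𝒜 (S : Subgroup G)) w L =
      fam 𝒜 (S : Subgroup G) := by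
  have hCl := classData h S hB hC (fun w L hp => GoldIdx.four_le h S hp) hne
  have hAH : fam 𝒜 (S : Subgroup G) ≤ Cw w := fun a ha => mem_Cw' h S ha hL.mem
  obtain ⟨P, hP⟩ := GoldSolid.exists_sylow_push h.fam S hAH
  have hc := centralizes h S hB hC hne hV hL hq hP
  constructor
  · refine cm_inf (h.sq S) (h.comm S) inf_le_left (fun j hj d hd => JJ_comm_DD h S hL hj hd)
      (Q₀ := QQ w L (P : Subgroup (Xw w))) ?_ (odd_QQ h S hL hP)
    intro x hx hxJ a ha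
    obtain ⟨hxw, hxP, hxL⟩ := mem_QQ.1 hx
    obtain ⟨h1, h2, -⟩ := comm_mem h S hL hxJ ha
    have haw := mem_Cw' h S ha hL.mem
    have haP : pw w ⟨a, haw⟩ ∈ fam (push 𝒜 (Cw w)) (P : Subgroup (Xw w)) := by
      rw [hP]; exact ⟨⟨a, haw⟩, mem_subgroupOf.2 ha, rfl⟩
    have h3 : x * a * x⁻¹ * a⁻¹ = 1 := by
      refine eq_one_of_pw h S h1 h2 ?_
      have e : pw w ⟨x * a * x⁻¹ * a⁻¹, h2⟩ =
          pw w ⟨x, hxw⟩ * pw w ⟨a, haw⟩ * (pw w ⟨x, hxw⟩)⁻¹ * (pw w ⟨a, haw⟩)⁻¹ := by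
        rw [← map_inv, ← map_inv, ← map_mul, ← map_mul, ← map_mul]
        rfl
      rw [e, hc _ hxL hxP _ (pw_mem_push h S ha haw) (fam_le _ _ haP)]
      group
    calc x * a * x⁻¹ = x * a * x⁻¹ * a⁻¹ * a := by group
      _ = a := by rw [h3, one_mul]
  · exact cm_sup (h.comm S) inf_le_left (by rw [hq]; exact hCl.q2) inf_le_left
      (fun x hx y hy hxD hyD => JJ_trans h S hL hx hy hxD hyD)

end Main

/-- The canonical complement. -/
def KK (𝒜 : Set G) (A : Subgroup G) (D : Subgroup G) : Subgroup G :=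
  closure {g | ∃ (w : G) (L : Subgroup (Xw w)), IsPair 𝒜 A w L ∧ DD A w L = D ∧ ∃ j ∈ JJ A w L, ∃ a ∈ A,
    g = j * a * j⁻¹ * a⁻¹}

section Canon

variable (hB : Balance 𝒜 (fam 𝒜 (S : Subgroup G))) (hC : ConjPair 𝒜 (fam 𝒜 (S : Subgroup G)))

include h hB in
theorem KK_eq {w : G} {L : Subgroup (Xw w)} (hL : IsPair 𝒜 (fam 𝒜 (S : Subgroup G)) w L)
    (hq : (DD (fam 𝒜 (S : Subgroup G)) w L).relIndex (fam 𝒜 (S : Subgroup G)) =
      qmax 𝒜 (fam 𝒜 (S : Subgroup G))) :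
    KK 𝒜 (fam 𝒜 (S : Subgroup G)) (DD (fam 𝒜 (S : Subgroup G)) w L) =
      cm (fam 𝒜 (S : Subgroup G)) (JJ (fam 𝒜 (S : Subgroup G)) w L) := by
  apply le_antisymm
  · rw [KK, closure_le]
    rintro _ ⟨w', L', hL', e, j, hj, a, ha, rfl⟩
    have hwD : w ∈ DD (fam 𝒜 (S : Subgroup G)) w' L' := by
      rw [e]; exact DD_ne h S hL
    obtain ⟨M, hM, hMD, hMJ⟩ := balance' S hB hL' (by rw [e]; exact hq) hwD hL.ne
    have hML : M = L := uniq h S hM hL (hMD.trans e)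
    obtain ⟨j', hj', hjj'⟩ := hMJ j hj
    rw [hjj' a ha]
    rw [hML] at hj'
    exact mem_cm hj' ha
  · rw [cm, closure_le]
    rintro _ ⟨j, hj, a, ha, rfl⟩
    exact subset_closure ⟨w, L, hL, rfl, j, hj, a, ha, rfl⟩

omit [Finite G] in
include hC in
theorem KK_le_conj {n : G} (hn : n ∈ normalizer (fam 𝒜 (S : Subgroup G) : Set G)) (D : Subgroup G) :
    (KK 𝒜 (fam 𝒜 (S : Subgroup G)) D).map (MulAut.conj n).toMonoidHom ≤
      KK 𝒜 (fam 𝒜 (S : Subgroup G)) (D.map (MulAut.conj n).toMonoidHom) := by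
  rw [KK, MonoidHom.map_closure, closure_le]
  rintro _ ⟨_, ⟨w, L, hL, rfl, j, hj, a, ha, rfl⟩, rfl⟩
  obtain ⟨L', hL', hD', hJ'⟩ := hC w L n hL hn
  refine subset_closure ⟨_, L', hL', hD', n * j * n⁻¹, ?_, n * a * n⁻¹,
    (mem_normalizer_iff.1 hn a).1 ha, ?_⟩
  · rw [hJ']; exact ⟨j, hj, rfl⟩
  · change n * (j * a * j⁻¹ * a⁻¹) * n⁻¹ = _
    group

include h hB hC in
/-- **Section 3.** In the small case there are canonical complements. -/
theorem canon (hne : ∃ (w : G) (L : Subgroup (Xw w)), IsPair 𝒜 (fam 𝒜 (S : Subgroup G)) w L)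
    (hV : Nat.card (fam 𝒜 (S : Subgroup G)) ≤ qmax 𝒜 (fam 𝒜 (S : Subgroup G)) ^ 2) :
    GoldCases.Canon (fam 𝒜 (S : Subgroup G)) (qmax 𝒜 (fam 𝒜 (S : Subgroup G)))
      (cls 𝒜 (fam 𝒜 (S : Subgroup G))) (KK 𝒜 (fam 𝒜 (S : Subgroup G))) := by
  have hCl := classData h S hB hC (fun w L hp => GoldIdx.four_le h S hp) hne
  exact {
    sq := hCl.sq
    comm := hCl.comm
    irr := hCl.irr
    idx := hCl.idx
    q2 := hCl.q2
    le := hCl.le
    ne := hCl.ne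
    inv := hCl.inv
    Kle := by
      rintro _ ⟨w, L, hL, rfl, hq⟩
      rw [KK_eq h S hB hL hq]
      exact cm_le inf_le_left
    Kcard := by
      rintro _ ⟨w, L, hL, rfl, hq⟩
      obtain ⟨h1, h2⟩ := compl_pair h S hB hC hne hV hL hq
      rw [KK_eq h S hB hL hq]
      exact (card_cm (J := JJ (fam 𝒜 (S : Subgroup G)) w L) inf_le_left (h.comm S) inf_le_left h1 h2).trans hq
    Kinf := by
      rintro _ ⟨w, L, hL, rfl, hq⟩
      rw [KK_eq h S hB hL hq]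
      exact (compl_pair h S hB hC hne hV hL hq).1
    Ksup := by
      rintro _ ⟨w, L, hL, rfl, hq⟩
      rw [KK_eq h S hB hL hq]
      exact (compl_pair h S hB hC hne hV hL hq).2
    Kinv := by
      intro D hD n hn
      apply le_antisymm
      · have h1 := KK_le_conj S hC (inv_mem hn) (D.map (MulAut.conj n).toMonoidHom)
        have e : (D.map (MulAut.conj n).toMonoidHom).map (MulAut.conj n⁻¹).toMonoidHom = D := by
          have := GoldCases.ClassData.map_map_inv n⁻¹ D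
          rwa [inv_inv] at this
        rw [e] at h1
        have h2 := Subgroup.map_mono (f := (MulAut.conj n).toMonoidHom) h1
        rwa [GoldCases.ClassData.map_map_inv] at h2
      · exact KK_le_conj S hC hn D
    ti := by
      intro D hD D' hD' hDD' hinf
      exact absurd (disj hCl hV hD hD' hDD') hinf
    tr := by
      rintro _ ⟨w, L, hL, rfl, hq⟩ x hx y hy hx1 hy1
      rw [KK_eq h S hB hL hq] at hx hy
      obtain ⟨h1, h2⟩ := compl_pair h S hB hC hne hV hL hq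
      obtain ⟨j, hj, hjxy⟩ := cm_trans (D := DD (fam 𝒜 (S : Subgroup G)) w L) inf_le_left h1
        (fun x hx y hy hxD hyD => JJ_trans h S hL hx hy hxD hyD) hx hy hx1 hy1
      exact ⟨j, (mem_JJ.1 hj).1, hjxy, fun d hd => JJ_comm_DD h S hL hj hd⟩ }

end Canon

end Cfsg.Agent.TwoFusion.GoldCentre
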