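import Cfsg.Agent.TwoFusion.GoldHomo
import Cfsg.Agent.TwoFusion.GoldMain
import Mathlib

/-!
# Goldschmidt's theorem: the case division for the minimal counterexample

`|A|` is a power of two; `|A| = 1` and `|A| = 2` are impossible, `|A| = 4` is `GoldHomo.tcon`, and for `|A| ≥ 8`
either no component of a centralizer is active, or we are in case (W), or `G` satisfies the conclusion.
-/

set_option autoImplicit false
set_option linter.style.haveILetI false

namespace Cfsg.Agent.TwoFusion.GoldEnd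

open Subgroup
open Cfsg.Agent.TwoFusion.ClosedFam Cfsg.Agent.TwoFusion.Gold Cfsg.Agent.TwoFusion.GoldSetup

universe u

variable {G : Type u} [Group G] [Finite G] {𝒜 : Set G}

/-- The order of `A` is `4` or at least `8`. -/
theorem card_cases (h : Setup 𝒜) (S : Sylow 2 G) : Nat.card (fam 𝒜 (S : Subgroup G)) = 4 ∨
    8 ≤ Nat.card (fam 𝒜 (S : Subgroup G)) := by
  haveI : Fact (Nat.Prime 2) := ⟨Nat.prime_two⟩
  have hp : IsPGroup 2 (fam 𝒜 (S : Subgroup G)) := S.isPGroup'.to_le (fam_le _ _)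
  obtain ⟨k, hk⟩ := hp.exists_card_eq
  have h0 : k ≠ 0 := by
    rintro rfl
    rw [pow_zero] at hk
    exact h.fam_ne_bot S (Subgroup.card_eq_one.1 hk)
  have h1 : k ≠ 1 := by
    rintro rfl
    rw [pow_one] at hk
    exact h.card_ne_two S hk
  rcases Nat.lt_or_ge k 3 with h3 | h3
  · left
    have : k = 2 := by omega
    rw [hk, this]
    norm_num
  · right
    rw [hk]
    calc 8 = 2 ^ 3 := by norm_num
      _ ≤ 2 ^ k := Nat.pow_le_pow_right (by norm_num) h3

/-- The case division. -/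
theorem tcon (h : Setup 𝒜) (S : Sylow 2 G)
    (hM1 : Nat.card (fam 𝒜 (S : Subgroup G)) = 4 →
      (∀ x ∈ (S : Subgroup G), x * x = 1 → x ∈ fam 𝒜 (S : Subgroup G)) →
      (∃ x ∈ (S : Subgroup G), ∃ y ∈ (S : Subgroup G), x * y ≠ y * x) → False)
    (hM2 : Nat.card (fam 𝒜 (S : Subgroup G)) = 4 →
      ∀ t ∈ (S : Subgroup G), t * t = 1 → t ∉ fam 𝒜 (S : Subgroup G) → False)
    (h8 : 8 ≤ Nat.card (fam 𝒜 (S : Subgroup G)) → TCon G) : TCon G := by
  rcases card_cases h S with h4 | h4
  · exact GoldHomo.tcon h S h4 (hM1 h4) (hM2 h4)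
  · exact h8 h4

end Cfsg.Agent.TwoFusion.GoldEnd
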