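import Cfsg.Agent.TwoFusion.ClosedLocal
import Cfsg.Agent.Lib.GoldschmidtFusion
import Mathlib

/-!
# Goldschmidt's theorem, `|A| = 4`: 2-elements acting on a simple group with a four-group as Sylow 2-subgroup

`mem_of_comm`: `K` is a simple normal subgroup of `Y` with `C_Y(K) = 1` whose Sylow 2-subgroup `A` is a
four-group.  Then every 2-element centralizing `A` lies in `A` (by the Z*-theorem).
`exists_mul_mem_centralizer`: the version without `C_Y(K) = 1`.
-/

set_option autoImplicit false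
set_option linter.style.haveILetI false

namespace Cfsg.Agent.TwoFusion.GoldFourAct

open Subgroup
open Cfsg.Agent.TwoFusion.ClosedFam Cfsg.Agent.TwoFusion.ClosedLocal
open Cfsg.Agent.Lib.GoldschmidtFusion (exists_conj_le_in map_conj_map_conj mem_normalizer_iff_map_conj
  map_conj_le_of_le_normalizer mem_map_conj card_map_conj)

variable {Y : Type*} [Group Y] [Finite Y]

omit [Finite Y] in
/-- If `C` is normal of odd index in `N`, then `n² ∈ C` implies `n ∈ C`. -/
theorem mem_of_sq_mem {C N : Subgroup Y} (hn : ∀ n ∈ N, ∀ c ∈ C, n * c * n⁻¹ ∈ C)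
    (hodd : ¬ 2 ∣ C.relIndex N) {n : Y} (hnN : n ∈ N) (h2 : n * n ∈ C) : n ∈ C := by
  have hnorm : (C.subgroupOf N).Normal := by
    refine ⟨fun c hc g => ?_⟩
    rw [mem_subgroupOf] at hc ⊢
    exact hn g g.2 c hc
  have h1 : (⟨n, hnN⟩ : N) ^ (C.subgroupOf N).index ∈ C.subgroupOf N :=
    Subgroup.pow_index_mem (C.subgroupOf N) _
  rw [mem_subgroupOf] at h1
  have h3 : n ^ C.relIndex N ∈ C := h1
  obtain ⟨k, hk⟩ : Odd (C.relIndex N) := Nat.not_even_iff_odd.1 (fun he => hodd he.two_dvd)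
  rw [hk, pow_succ, pow_mul, pow_two] at h3
  have h4 : (n * n) ^ k ∈ C := pow_mem h2 k
  have e : n = ((n * n) ^ k)⁻¹ * ((n * n) ^ k * n) := by group
  rw [e]
  exact mul_mem (inv_mem h4) h3

omit [Finite Y] in
/-- the elements of a four-group -/
theorem exhaust {A : Subgroup Y} (hA4 : Nat.card A = 4) (hAsq : ∀ a ∈ A, a * a = 1) {x y z : Y} (hx : x ∈ A)
    (hy : y ∈ A) (hz : z ∈ A) (hx1 : x ≠ 1) (hy1 : y ≠ 1) (hxy : x ≠ y) :
    z = 1 ∨ z = x ∨ z = y ∨ z = x * y := by
  classical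
  by_contra hcon
  push Not at hcon
  obtain ⟨h1, h2, h3, h5⟩ := hcon
  have hxx := hAsq x hx
  have hyy := hAsq y hy
  have hxy1 : x * y ≠ 1 := by
    intro e
    apply hxy
    have : x = y⁻¹ := eq_inv_of_mul_eq_one_left e
    rw [this]; exact inv_eq_of_mul_eq_one_left hyy
  have hxyx : x * y ≠ x := fun e => hy1 (mul_eq_left.1 e)
  have hxyy : x * y ≠ y := fun e => hx1 (mul_eq_right.1 e)
  let s : Finset A :=
    {⟨1, one_mem _⟩, ⟨x, hx⟩, ⟨y, hy⟩, ⟨x * y, mul_mem hx hy⟩, ⟨z, hz⟩}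
  have hs : s.card = 5 := by
    simp only [s]
    rw [Finset.card_insert_of_notMem, Finset.card_insert_of_notMem, Finset.card_insert_of_notMem,
      Finset.card_insert_of_notMem, Finset.card_singleton]
    · simp only [Finset.mem_singleton, Subtype.mk.injEq]; exact fun e => h5 e.symm
    · simp only [Finset.mem_insert, Finset.mem_singleton, Subtype.mk.injEq]
      rintro (e | e)
      · exact hxyy e.symm
      · exact h3 e.symm
    · simp only [Finset.mem_insert, Finset.mem_singleton, Subtype.mk.injEq]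
      rintro (e | e | e)
      · exact hxy e
      · exact hxyx e.symm
      · exact h2 e.symm
    · simp only [Finset.mem_insert, Finset.mem_singleton, Subtype.mk.injEq]
      rintro (e | e | e | e)
      · exact hx1 e.symm
      · exact hy1 e.symm
      · exact hxy1 e.symm
      · exact h1 e.symm
  haveI hfinA : Finite A := Nat.finite_of_card_ne_zero (by rw [hA4]; norm_num)
  have hfin : Fintype A := Fintype.ofFinite _
  have := Finset.card_le_univ s
  rw [hs, ← Nat.card_eq_fintype_card, hA4] at this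
  omega

omit [Finite Y] in
theorem comm_of_sq {A : Subgroup Y} (hAsq : ∀ a ∈ A, a * a = 1) {x y : Y} (hx : x ∈ A) (hy : y ∈ A) :
    x * y = y * x := by
  have h1 := hAsq _ (mul_mem hx hy)
  have hx' : x⁻¹ = x := inv_eq_of_mul_eq_one_right (hAsq x hx)
  have hy' : y⁻¹ = y := inv_eq_of_mul_eq_one_right (hAsq y hy)
  have h2 : (x * y)⁻¹ = x * y := inv_eq_of_mul_eq_one_right h1
  rw [mul_inv_rev, hx', hy'] at h2
  exact h2.symm

omit [Finite Y] in
theorem isPGroup_of_sq {A : Subgroup Y} (hAsq : ∀ a ∈ A, a * a = 1) : IsPGroup 2 A := by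
  rintro ⟨a, ha⟩
  refine ⟨1, Subtype.ext ?_⟩
  rw [pow_one, pow_two]
  exact hAsq a ha

omit [Finite Y] in
/-- The number of elements normalising `A` modulo those centralising it is odd. -/
theorem odd_relIndex {A K N : Subgroup Y} (hAi : ¬ 2 ∣ A.relIndex K) (hNK : N ≤ K) {C : Subgroup Y}
    (hAC : A ≤ C) (hCN : C ≤ N) : ¬ 2 ∣ C.relIndex N := by
  intro h
  apply hAi
  have h1 : A.relIndex K = A.relIndex N * N.relIndex K :=
    (relIndex_mul_relIndex A N K (hAC.trans hCN) hNK).symm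
  have h2 : A.relIndex N = A.relIndex C * C.relIndex N :=
    (relIndex_mul_relIndex A C N hAC hCN).symm
  rw [h1, h2]
  exact (h.mul_left _).mul_right _

/-- Burnside's fusion theorem for abelian Sylow subgroups, relative version. -/
theorem exists_normalizer_conj {W P : Subgroup Y} (hPW : P ≤ W) (hP : IsPGroup 2 P)
    (hPi : ¬ 2 ∣ P.relIndex W) (hc : ∀ x ∈ P, ∀ y ∈ P, x * y = y * x) {s g : Y} (hs : s ∈ P) (hg : g ∈ W)
    (hgs : g * s * g⁻¹ ∈ P) : ∃ m ∈ W, m ∈ normalizer (P : Set Y) ∧ m * s * m⁻¹ = g * s * g⁻¹ := by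
  haveI : Fact (Nat.Prime 2) := ⟨Nat.prime_two⟩
  have hP' : IsPGroup 2 (P.subgroupOf W) := hP.comap_of_injective W.subtype W.subtype_injective
  let Q : Sylow 2 W := hP'.toSylow hPi
  have hQ : ∀ x : W, x ∈ Q ↔ (x : Y) ∈ P := fun x => mem_subgroupOf
  haveI hQc : IsMulCommutative (Q : Subgroup W) := by
    refine ⟨⟨fun x y => ?_⟩⟩
    apply Subtype.ext
    apply Subtype.ext
    exact hc _ ((hQ _).1 x.2) _ ((hQ _).1 y.2)
  obtain ⟨n, hn, hnz⟩ := Q.conj_eq_normalizer_conj_of_mem ⟨s, hPW hs⟩ (⟨g, hg⟩ : W)⁻¹ ((hQ _).2 hs)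
    ((hQ _).2 (by simpa using hgs))
  set m : W := n⁻¹ with hm
  refine ⟨m, m.2, ?_, ?_⟩
  · have h1 : m ∈ normalizer ((Q : Subgroup W) : Set W) := inv_mem hn
    rw [mem_normalizer_iff] at h1 ⊢
    intro a
    by_cases ha : a ∈ W
    · have h2 : (⟨a, ha⟩ : W) ∈ Q ↔ m * ⟨a, ha⟩ * m⁻¹ ∈ Q := h1 ⟨a, ha⟩
      exact ((hQ _).symm.trans h2).trans (hQ _)
    · constructor
      · intro h2; exact absurd (hPW h2) ha
      · intro h2
        exfalso
        apply ha
        have h3 := hPW h2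
        have e : a = (m : Y)⁻¹ * ((m : Y) * a * (m : Y)⁻¹) * m := by group
        rw [e]
        exact mul_mem (mul_mem (inv_mem m.2) h3) m.2
  · have := congrArg Subtype.val hnz
    simp only [coe_mul, coe_inv, inv_inv] at this
    rw [hm]
    simp only [coe_inv, inv_inv]
    exact this.symm

/-- In a simple nonabelian group with a four-group `A` as Sylow 2-subgroup some element of `N(A)` acts without
fixed points on `A`. -/
theorem exists_fpf {K A : Subgroup Y} (hK : IsSimpleGroup K) (hna : ∃ x ∈ K, ∃ y ∈ K, x * y ≠ y * x)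
    (hAK : A ≤ K) (hA4 : Nat.card A = 4) (hAsq : ∀ a ∈ A, a * a = 1) (hAi : ¬ 2 ∣ A.relIndex K) :
    ∃ n ∈ K, n ∈ normalizer (A : Set Y) ∧ ∀ a ∈ A, n * a * n⁻¹ = a → a = 1 := by
  classical
  haveI : Fact (Nat.Prime 2) := ⟨Nat.prime_two⟩
  haveI := hK
  have hAp : IsPGroup 2 A := isPGroup_of_sq hAsq
  have hAp' : IsPGroup 2 (A.subgroupOf K) := hAp.comap_of_injective K.subtype K.subtype_injective
  let P : Sylow 2 K := hAp'.toSylow hAi
  have hP : ∀ x : K, x ∈ P ↔ (x : Y) ∈ A := fun x => mem_subgroupOf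
  -- a nontrivial element
  obtain ⟨z, hz1⟩ : ∃ z : A, z ≠ 1 := by
    haveI : Nontrivial A := Finite.one_lt_card_iff_nontrivial.1 (by rw [hA4]; norm_num)
    exact exists_ne 1
  have hz1' : (z : Y) ≠ 1 := fun e => hz1 (Subtype.ext e)
  have hz2 : orderOf (z : Y) = 2 := orderOf_eq_prime (by rw [pow_two]; exact hAsq z z.2) hz1'
  -- it is not isolated
  obtain ⟨g, hgA, hgz⟩ : ∃ g : K, (g : Y) * z * (g : Y)⁻¹ ∈ A ∧ (g : Y) * z * (g : Y)⁻¹ ≠ z := by
    by_contra hcon
    push Not at hcon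
    obtain ⟨N, hN, hNodd, hNc⟩ := Cfsg.Agent.S0215.result (G := K) P ⟨z, hAK z.2⟩
      (by rw [← Subgroup.orderOf_coe]; exact hz2) ((hP _).2 z.2) (by
        intro g hg
        apply Subtype.ext
        exact hcon g ((hP _).1 hg))
    rcases IsSimpleGroup.eq_bot_or_eq_top_of_normal N hN with hb | ht
    · have hzc : (⟨z, hAK z.2⟩ : K) ∈ center K := by
        rw [mem_center_iff]
        intro g
        have := hNc g
        rw [hb, mem_bot] at this
        calc g * (⟨z, hAK z.2⟩ : K) = 1 * (g * ⟨z, hAK z.2⟩) := by rw [one_mul]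
          _ = (⟨z, hAK z.2⟩ : K) * g := by rw [← this]; group
      rcases IsSimpleGroup.eq_bot_or_eq_top_of_normal (center K) inferInstance with hc | hc
      · rw [hc, mem_bot] at hzc
        exact hz1' (congrArg Subtype.val hzc)
      · obtain ⟨x, hx, y, hy, hxy⟩ := hna
        apply hxy
        have : (⟨y, hy⟩ : K) ∈ center K := by rw [hc]; exact mem_top _
        exact congrArg Subtype.val (mem_center_iff.1 this ⟨x, hx⟩)
    · rw [ht, card_top] at hNodd
      have h4 : Nat.card A ∣ Nat.card K := Subgroup.card_dvd_of_le hAK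
      rw [hA4] at h4
      exact (Nat.not_even_iff_odd.2 hNodd) (even_iff_two_dvd.2 ((by norm_num : 2 ∣ 4).trans h4))
  -- Burnside
  haveI hPc : IsMulCommutative (P : Subgroup K) := by
    refine ⟨⟨fun x y => ?_⟩⟩
    apply Subtype.ext
    apply Subtype.ext
    exact comm_of_sq hAsq ((hP _).1 x.2) ((hP _).1 y.2)
  obtain ⟨n, hn, hnz⟩ := P.conj_eq_normalizer_conj_of_mem ⟨z, hAK z.2⟩ g⁻¹ ((hP _).2 z.2)
    ((hP _).2 (by simpa using hgA))
  set m : K := n⁻¹ with hm
  have hmN : (m : Y) ∈ normalizer (A : Set Y) := by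
    have h1 : m ∈ normalizer ((P : Subgroup K) : Set K) := inv_mem hn
    rw [mem_normalizer_iff] at h1 ⊢
    intro a
    by_cases ha : a ∈ K
    · have h2 : (⟨a, ha⟩ : K) ∈ P ↔ m * ⟨a, ha⟩ * m⁻¹ ∈ P := h1 ⟨a, ha⟩
      exact ((hP _).symm.trans h2).trans (hP _)
    · constructor
      · intro h2; exact absurd (hAK h2) ha
      · intro h2
        exfalso
        apply ha
        have h3 := hAK h2
        have e : a = (m : Y)⁻¹ * ((m : Y) * a * (m : Y)⁻¹) * m := by group
        rw [e]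
        exact mul_mem (mul_mem (inv_mem m.2) h3) m.2
  have hmz : (m : Y) * z * (m : Y)⁻¹ ≠ z := by
    have h1 : (m : Y) * z * (m : Y)⁻¹ = (g : Y) * z * (g : Y)⁻¹ := by
      have := congrArg Subtype.val hnz
      simp only [coe_mul, coe_inv, inv_inv] at this
      rw [hm]
      simp only [coe_inv, inv_inv]
      exact this.symm
    rw [h1]; exact hgz
  refine ⟨m, m.2, hmN, ?_⟩
  intro w hw hmw
  by_contra hw1
  have hzw : (z : Y) ≠ w := by
    rintro e
    rw [← e] at hmw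
    exact hmz hmw
  have hmzA : (m : Y) * z * (m : Y)⁻¹ ∈ A := (mem_normalizer_iff.1 hmN _).1 z.2
  have hmz' : (m : Y) * z * (m : Y)⁻¹ = z * w := by
    rcases exhaust hA4 hAsq z.2 hw hmzA hz1' hw1 hzw with e | e | e | e
    · exfalso
      apply hz1'
      have : (z : Y) = (m : Y)⁻¹ * ((m : Y) * z * (m : Y)⁻¹) * m := by group
      rw [this, e]; group
    · exact absurd e hmz
    · exfalso
      exact hzw (mul_left_cancel (mul_right_cancel (e.trans hmw.symm)))
    · exact e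
  -- `m²` centralises `A`
  have hcent : (m : Y) * m ∈ centralizer (A : Set Y) := by
    rw [mem_centralizer_iff]
    intro a ha
    have hfz : (m : Y) * m * z * ((m : Y) * m)⁻¹ = z := by
      calc (m : Y) * m * z * ((m : Y) * m)⁻¹ = (m : Y) * ((m : Y) * z * (m : Y)⁻¹) * (m : Y)⁻¹ := by group
        _ = (m : Y) * (z * w) * (m : Y)⁻¹ := by rw [hmz']
        _ = ((m : Y) * z * (m : Y)⁻¹) * ((m : Y) * w * (m : Y)⁻¹) := by group
        _ = z * (w * w) := by rw [hmz', hmw]; group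
        _ = z := by rw [hAsq w hw, mul_one]
    have hfw : (m : Y) * m * w * ((m : Y) * m)⁻¹ = w := by
      calc (m : Y) * m * w * ((m : Y) * m)⁻¹ = (m : Y) * ((m : Y) * w * (m : Y)⁻¹) * (m : Y)⁻¹ := by group
        _ = w := by rw [hmw, hmw]
    have key : (m : Y) * m * a * ((m : Y) * m)⁻¹ = a := by
      rcases exhaust hA4 hAsq z.2 hw ha hz1' hw1 hzw with e | e | e | e
      · rw [e]; group
      · rw [e]; exact hfz
      · rw [e]; exact hfw
      · rw [e]
        calc (m : Y) * m * (z * w) * ((m : Y) * m)⁻¹ =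
            ((m : Y) * m * z * ((m : Y) * m)⁻¹) * ((m : Y) * m * w * ((m : Y) * m)⁻¹) := by group
          _ = z * w := by rw [hfz, hfw]
    calc a * ((m : Y) * m) = ((m : Y) * m * a * ((m : Y) * m)⁻¹) * ((m : Y) * m) := by rw [key]
      _ = (m : Y) * m * a := by group
  have h1 : (m : Y) ∈ centralizer (A : Set Y) ⊓ K := by
    apply mem_of_sq_mem (C := centralizer (A : Set Y) ⊓ K) (N := normalizer (A : Set Y) ⊓ K)
    · intro n hn c hc
      obtain ⟨hn1, hn2⟩ := mem_inf.1 hn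
      obtain ⟨hc1, hc2⟩ := mem_inf.1 hc
      refine mem_inf.2 ⟨?_, mul_mem (mul_mem hn2 hc2) (inv_mem hn2)⟩
      rw [mem_centralizer_iff]
      intro a ha
      have ha' : n⁻¹ * a * n ∈ A := by
        have := (mem_normalizer_iff.1 (inv_mem hn1) a).1 ha
        simpa using this
      have h2 := (mem_centralizer_iff.1 hc1) _ ha'
      calc a * (n * c * n⁻¹) = n * ((n⁻¹ * a * n) * c) * n⁻¹ := by group
        _ = n * c * n⁻¹ * a := by rw [h2]; group
    · refine odd_relIndex hAi inf_le_right (C := centralizer (A : Set Y) ⊓ K) ?_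
        (inf_le_inf_right _ (centralizer_le_normalizer _))
      intro a ha
      refine mem_inf.2 ⟨?_, hAK ha⟩
      rw [mem_centralizer_iff]
      intro b hb
      exact comm_of_sq hAsq hb ha
    · exact ⟨hmN, m.2⟩
    · exact ⟨hcent, mul_mem m.2 m.2⟩
  have h2 := (mem_centralizer_iff.1 h1.1) z z.2
  apply hmz
  rw [← h2]; group

/-- A fixed-point-free automorphism of a finite abelian group: the commutator map is onto. -/
theorem exists_of_fpf {A : Subgroup Y} (hcomm : ∀ x ∈ A, ∀ y ∈ A, x * y = y * x) {n : Y}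
    (hn : n ∈ normalizer (A : Set Y)) (hfix : ∀ a ∈ A, n * a * n⁻¹ = a → a = 1) {b : Y} (hb : b ∈ A) :
    ∃ a ∈ A, b * (n * a * n⁻¹) = a := by
  have hconj : ∀ a ∈ A, n * a * n⁻¹ ∈ A := fun a ha => (mem_normalizer_iff.1 hn a).1 ha
  let φ : A → A := fun a => a * ⟨n * a * n⁻¹, hconj a a.2⟩⁻¹
  have hinj : Function.Injective φ := by
    intro a c hac
    have h1 : (a : Y) * (n * a * n⁻¹)⁻¹ = c * (n * c * n⁻¹)⁻¹ := congrArg Subtype.val hac
    have h2 : (c : Y)⁻¹ * a ∈ A := mul_mem (inv_mem c.2) a.2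
    have h3 : n * ((c : Y)⁻¹ * a) * n⁻¹ = (c : Y)⁻¹ * a := by
      have e1 : n * ((c : Y)⁻¹ * a) * n⁻¹ = (n * c * n⁻¹)⁻¹ * (n * a * n⁻¹) := by group
      have h4 := hcomm _ (inv_mem c.2) _ a.2
      have h5 := hcomm _ (inv_mem (hconj c c.2)) _ (hconj a a.2)
      rw [e1]
      calc (n * (c : Y) * n⁻¹)⁻¹ * (n * a * n⁻¹) =
          (c : Y)⁻¹ * (c * (n * c * n⁻¹)⁻¹) * (n * a * n⁻¹) := by group
        _ = (c : Y)⁻¹ * (a * (n * a * n⁻¹)⁻¹) * (n * a * n⁻¹) := by rw [h1]
        _ = (c : Y)⁻¹ * a := by group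
    have h4 := hfix _ h2 h3
    exact Subtype.ext (inv_mul_eq_one.1 h4).symm
  obtain ⟨a, ha⟩ := (Finite.injective_iff_surjective.1 hinj) ⟨b, hb⟩
  have h1 : (a : Y) * (n * a * n⁻¹)⁻¹ = b := congrArg Subtype.val ha
  exact ⟨a, a.2, by rw [← h1]; group⟩

omit [Finite Y] in
/-- The group `K⟨p⟩ = K ∪ K p` when `p² ∈ K` and `p` normalises `K`. -/
def adj (K : Subgroup Y) (p : Y) (hn : ∀ k ∈ K, p * k * p⁻¹ ∈ K) (hn' : ∀ k ∈ K, p⁻¹ * k * p ∈ K)
    (hpp : p * p ∈ K) : Subgroup Y where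
  carrier := {x | x ∈ K ∨ x * p⁻¹ ∈ K}
  one_mem' := Or.inl K.one_mem
  mul_mem' := by
    rintro x y (hx | hx) (hy | hy)
    · exact Or.inl (mul_mem hx hy)
    · refine Or.inr ?_
      rw [mul_assoc]
      exact mul_mem hx hy
    · refine Or.inr ?_
      have e : x * y * p⁻¹ = (x * p⁻¹) * (p * y * p⁻¹) := by group
      rw [e]
      exact mul_mem hx (hn y hy)
    · refine Or.inl ?_
      have e : x * y = (x * p⁻¹) * (p * (y * p⁻¹) * p⁻¹) * (p * p) := by group
      rw [e]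
      exact mul_mem (mul_mem hx (hn _ hy)) hpp
  inv_mem' := by
    rintro x (hx | hx)
    · exact Or.inl (inv_mem hx)
    · refine Or.inr ?_
      have e : x⁻¹ * p⁻¹ = (p⁻¹ * (x * p⁻¹)⁻¹ * p) * (p * p)⁻¹ := by group
      rw [e]
      exact mul_mem (hn' _ (inv_mem hx)) (inv_mem hpp)

section Adj

variable {K : Subgroup Y} {p : Y} {hn : ∀ k ∈ K, p * k * p⁻¹ ∈ K} {hn' : ∀ k ∈ K, p⁻¹ * k * p ∈ K}
  {hpp : p * p ∈ K}

omit [Finite Y] in
theorem mem_adj {x : Y} : x ∈ adj K p hn hn' hpp ↔ x ∈ K ∨ x * p⁻¹ ∈ K := Iff.rfl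

omit [Finite Y] in
theorem le_adj : K ≤ adj K p hn hn' hpp := fun _ hx => Or.inl hx

omit [Finite Y] in
theorem self_mem_adj : p ∈ adj K p hn hn' hpp := Or.inr (by rw [mul_inv_cancel]; exact K.one_mem)

omit [Finite Y] in
theorem relIndex_adj (hp : p ∉ K) : K.relIndex (adj K p hn hn' hpp) = 2 := by
  rw [relIndex, Subgroup.index_eq_two_iff]
  refine ⟨⟨p, self_mem_adj⟩, fun b => ?_⟩
  rw [mem_subgroupOf, mem_subgroupOf]
  change Xor ((b : Y) * p ∈ K) ((b : Y) ∈ K)
  by_cases hb : (b : Y) ∈ K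
  · exact Or.inr ⟨hb, fun h1 => hp (by simpa using mul_mem (inv_mem hb) h1)⟩
  · refine Or.inl ⟨?_, hb⟩
    have h1 := (mem_adj.1 b.2).resolve_left hb
    have e : (b : Y) * p = b * p⁻¹ * (p * p) := by group
    rw [e]
    exact mul_mem h1 hpp

end Adj

/-- The main step. -/
theorem mem_of_comm_of_sq {K A : Subgroup Y} (hKn : K.Normal) (hK : IsSimpleGroup K)
    (hna : ∃ x ∈ K, ∃ y ∈ K, x * y ≠ y * x)
    (hAK : A ≤ K) (hA4 : Nat.card A = 4) (hAsq : ∀ a ∈ A, a * a = 1) (hAi : ¬ 2 ∣ A.relIndex K)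
    (hC : centralizer (K : Set Y) = ⊥) {p : Y} (hpA : ∀ a ∈ A, p * a = a * p) (hpp : p * p ∈ A) : p ∈ A := by
  classical
  haveI : Fact (Nat.Prime 2) := ⟨Nat.prime_two⟩
  haveI := hK
  by_contra hp
  have hAc : ∀ x ∈ A, ∀ y ∈ A, x * y = y * x := fun x hx y hy => comm_of_sq hAsq hx hy
  have hAp : IsPGroup 2 A := isPGroup_of_sq hAsq
  obtain ⟨n, hnK, hnA, hfix⟩ := exists_fpf hK hna hAK hA4 hAsq hAi
  have hpA' : ∀ a ∈ A, p * a * p⁻¹ = a := fun a ha => by rw [hpA a ha]; group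
  have hpA'' : ∀ a ∈ A, p⁻¹ * a * p = a := fun a ha => by
    rw [mul_assoc, ← hpA a ha]; group
  -- the group `P₁ = A⟨p⟩`
  set P₁ : Subgroup Y := adj A p (fun a ha => by rw [hpA' a ha]; exact ha)
    (fun a ha => by rw [hpA'' a ha]; exact ha) hpp with hP₁
  have hAP₁ : A ≤ P₁ := le_adj
  have hpP₁ : p ∈ P₁ := self_mem_adj
  have hrelP₁ : A.relIndex P₁ = 2 := relIndex_adj hp
  have hP₁c : ∀ x ∈ P₁, ∀ y ∈ P₁, x * y = y * x := by
    have h1 : ∀ x ∈ P₁, ∃ a ∈ A, x = a ∨ x = a * p := by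
      intro x hx
      rcases mem_adj.1 hx with h | h
      · exact ⟨x, h, Or.inl rfl⟩
      · exact ⟨_, h, Or.inr (by group)⟩
    intro x hx y hy
    obtain ⟨a, ha, hxa⟩ := h1 x hx
    obtain ⟨b, hb, hyb⟩ := h1 y hy
    have hab := hAc a ha b hb
    have hpa := hpA a ha
    have hpb := hpA b hb
    rcases hxa with rfl | rfl <;> rcases hyb with rfl | rfl
    · exact hab
    · rw [← mul_assoc, hab, mul_assoc, ← hpa, mul_assoc]
    · rw [mul_assoc, hpb, ← mul_assoc, hab, mul_assoc]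
    · calc a * p * (b * p) = a * (p * b) * p := by group
        _ = (a * b) * (p * p) := by rw [hpb]; group
        _ = b * (a * p) * p := by rw [hab]; group
        _ = b * (p * a) * p := by rw [hpa]
        _ = b * p * (a * p) := by group
  have hP₁p : IsPGroup 2 P₁ := by
    rintro ⟨x, hx⟩
    refine ⟨2, Subtype.ext ?_⟩
    change x ^ 2 ^ 2 = 1
    have hxx : x * x ∈ A := by
      rcases mem_adj.1 hx with h | h
      · exact mul_mem h h
      · have h2 := hpA _ h
        have e : x * x = (x * p⁻¹) * (x * p⁻¹) * (p * p) := by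
          calc x * x = (x * p⁻¹) * (p * (x * p⁻¹)) * p := by group
            _ = (x * p⁻¹) * (x * p⁻¹) * (p * p) := by rw [h2]; group
        rw [e]
        exact mul_mem (mul_mem h h) hpp
    have e : x ^ 2 ^ 2 = (x * x) * (x * x) := by
      simp only [pow_succ, pow_zero, one_mul, mul_assoc]
      norm_num [pow_succ, mul_assoc]
    rw [e]; exact hAsq _ hxx
  -- `p ∉ K`
  have hpK : p ∉ K := by
    intro hpK
    have h1 : P₁ ≤ K := by
      intro x hx
      rcases mem_adj.1 hx with h | h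
      · exact hAK h
      · have : x = (x * p⁻¹) * p := by group
        rw [this]; exact mul_mem (hAK h) hpK
    apply hAi
    rw [← relIndex_mul_relIndex A P₁ K hAP₁ h1, hrelP₁]
    exact dvd_mul_right 2 _
  have hppK : p * p ∈ K := hAK hpp
  -- the group `W = K⟨p⟩`
  set W : Subgroup Y := adj K p (fun k hk => hKn.conj_mem k hk p)
    (fun k hk => by have := hKn.conj_mem k hk p⁻¹; rwa [inv_inv] at this) hppK with hW
  have hKW : K ≤ W := le_adj
  have hpW : p ∈ W := self_mem_adj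
  have hP₁W : P₁ ≤ W := by
    intro x hx
    rcases mem_adj.1 hx with h | h
    · exact hKW (hAK h)
    · exact Or.inr (hAK h)
  have hrelW : K.relIndex W = 2 := relIndex_adj hpK
  have hP₁i : ¬ 2 ∣ P₁.relIndex W := by
    have h1 : A.relIndex W = A.relIndex K * 2 := by
      rw [← relIndex_mul_relIndex A K W hAK hKW, hrelW]
    have h2 : A.relIndex W = 2 * P₁.relIndex W := by
      rw [← relIndex_mul_relIndex A P₁ W hAP₁ hP₁W, hrelP₁]
    have h3 : P₁.relIndex W = A.relIndex K := by omega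
    rw [h3]; exact hAi
  have hP₁K : ∀ x ∈ P₁, x ∈ K → x ∈ A := by
    intro x hx hxK
    rcases mem_adj.1 hx with h | h
    · exact h
    · exfalso
      apply hpK
      have e : p = (x * p⁻¹)⁻¹ * x := by group
      rw [e]
      exact mul_mem (inv_mem (hAK h)) hxK
  -- Frattini: `x` normalises `P₁` and acts on `A` like `n`
  set CW : Subgroup Y := centralizer (A : Set Y) ⊓ W with hCW
  have hP₁CW : P₁ ≤ CW := by
    intro x hx
    refine mem_inf.2 ⟨?_, hP₁W hx⟩
    rw [mem_centralizer_iff]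
    intro a ha
    exact hP₁c a (hAP₁ ha) x hx
  have hD : P₁.map (MulAut.conj n).toMonoidHom ≤ CW := by
    rintro _ ⟨x, hx, rfl⟩
    change n * x * n⁻¹ ∈ CW
    refine mem_inf.2 ⟨?_, mul_mem (mul_mem (hKW hnK) (hP₁W hx)) (inv_mem (hKW hnK))⟩
    rw [mem_centralizer_iff]
    intro a ha
    have ha' : n⁻¹ * a * n ∈ A := by
      have := (mem_normalizer_iff.1 (inv_mem hnA) a).1 ha
      rwa [inv_inv] at this
    have h1 := hP₁c _ (hAP₁ ha') x hx
    calc a * (n * x * n⁻¹) = n * ((n⁻¹ * a * n) * x) * n⁻¹ := by group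
      _ = n * x * n⁻¹ * a := by rw [h1]; group
  obtain ⟨c, hc, hcle⟩ := exists_conj_le_in (p := 2) hP₁p (N := CW)
    (fun h => hP₁i (by
      rw [← relIndex_mul_relIndex P₁ CW W hP₁CW inf_le_right]
      exact h.mul_right _)) hD (hP₁p.map _)
  obtain ⟨hcA, hcW⟩ := mem_inf.1 hc
  rw [map_conj_map_conj] at hcle
  set x := c * n with hx
  have hxW : x ∈ W := mul_mem hcW (hKW hnK)
  have hxP₁ : x ∈ normalizer (P₁ : Set Y) :=
    mem_normalizer_iff_map_conj.2 (map_conj_le_of_le_normalizer hcle)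
  have hxconj : ∀ y ∈ P₁, x * y * x⁻¹ ∈ P₁ := fun y hy => (mem_normalizer_iff.1 hxP₁ y).1 hy
  have hxA' : ∀ a ∈ A, x * a * x⁻¹ = n * a * n⁻¹ := by
    intro a ha
    have h1 : n * a * n⁻¹ ∈ A := (mem_normalizer_iff.1 hnA a).1 ha
    have h2 := (mem_centralizer_iff.1 hcA) _ h1
    calc x * a * x⁻¹ = c * (n * a * n⁻¹) * c⁻¹ := by rw [hx]; group
      _ = n * a * n⁻¹ := by rw [← h2]; group
  have hxA : ∀ a ∈ A, x * a * x⁻¹ ∈ A := fun a ha => by
    rw [hxA' a ha]; exact (mem_normalizer_iff.1 hnA a).1 ha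
  have hxnA : x ∈ normalizer (A : Set Y) := by
    rw [mem_normalizer_iff_map_conj]
    apply map_conj_le_of_le_normalizer
    rintro _ ⟨a, ha, rfl⟩
    exact hxA a ha
  have hxfix : ∀ a ∈ A, x * a * x⁻¹ = a → a = 1 := fun a ha h => hfix a ha (by rw [← hxA' a ha]; exact h)
  -- the fixed element `s ∈ p A`
  have hxp : (x * p * x⁻¹) * p⁻¹ ∈ A := by
    rcases mem_adj.1 (hxconj p hpP₁) with h | h
    · exfalso
      apply hp
      have h1 := (mem_normalizer_iff.1 (inv_mem hxnA) _).1 h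
      have e : x⁻¹ * (x * p * x⁻¹) * x⁻¹⁻¹ = p := by group
      rwa [e] at h1
    · exact h
  obtain ⟨a, ha, hae⟩ := exists_of_fpf hAc hxnA hxfix hxp
  set s := a * p with hs
  have hxs : x * s * x⁻¹ = s := by
    have h1 := hAc _ (hxA a ha) _ hxp
    calc x * s * x⁻¹ = (x * a * x⁻¹) * ((x * p * x⁻¹) * p⁻¹) * p := by rw [hs]; group
      _ = s := by rw [h1, hae]
  have hsP₁ : s ∈ P₁ := mul_mem (hAP₁ ha) hpP₁
  have hsK : s ∉ K := by
    intro h
    apply hpK
    have e : p = a⁻¹ * s := by rw [hs]; group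
    rw [e]; exact mul_mem (inv_mem (hAK ha)) h
  have hssA : s * s ∈ A := by
    have e : s * s = a * a * (p * p) := by
      rw [hs]
      calc a * p * (a * p) = a * (p * a) * p := by group
        _ = a * a * (p * p) := by rw [hpA a ha]; group
    rw [e]; exact mul_mem (mul_mem ha ha) hpp
  have hss : s * s = 1 := by
    apply hxfix _ hssA
    calc x * (s * s) * x⁻¹ = (x * s * x⁻¹) * (x * s * x⁻¹) := by group
      _ = s * s := by rw [hxs]
  have hs1 : s ≠ 1 := fun e => hsK (by rw [e]; exact one_mem _)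
  have hs2 : orderOf s = 2 := orderOf_eq_prime (by rw [pow_two]; exact hss) hs1
  -- elements of `N_W(P₁)` fixing an element of `A#` centralise `P₁`
  set NW : Subgroup Y := normalizer (P₁ : Set Y) ⊓ W with hNW
  have hNWconj : ∀ m ∈ NW, ∀ y ∈ P₁, m * y * m⁻¹ ∈ P₁ := fun m hm y hy =>
    (mem_normalizer_iff.1 (mem_inf.1 hm).1 y).1 hy
  have hNWA : ∀ m ∈ NW, ∀ b ∈ A, m * b * m⁻¹ ∈ A := fun m hm b hb =>
    hP₁K _ (hNWconj m hm b (hAP₁ hb)) (hKn.conj_mem b (hAK hb) m)
  have hNWs : ∀ m ∈ NW, (m * s * m⁻¹) * s⁻¹ ∈ A := by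
    intro m hm
    apply hP₁K _ (mul_mem (hNWconj m hm s hsP₁) (inv_mem hsP₁))
    -- `W/K` has order two
    have hmW := (mem_inf.1 hm).2
    have hWK : ∀ u ∈ W, ∀ v ∈ W, u * v * u⁻¹ * v⁻¹ ∈ K := by
      intro u hu v hv
      have hidx : (K.subgroupOf W).index = 2 := hrelW
      have hu2 := Subgroup.mul_self_mem_of_index_two hidx ⟨u, hu⟩
      have hv2 := Subgroup.mul_self_mem_of_index_two hidx ⟨v, hv⟩
      have huv2 := Subgroup.mul_self_mem_of_index_two hidx (⟨u, hu⟩ * ⟨v, hv⟩)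
      rw [mem_subgroupOf] at hu2 hv2 huv2
      change u * u ∈ K at hu2
      change v * v ∈ K at hv2
      change u * v * (u * v) ∈ K at huv2
      have e : u * v * u⁻¹ * v⁻¹ = (u * v * (u * v)) * (v⁻¹ * (u * u)⁻¹ * v⁻¹⁻¹) * (v * v)⁻¹ := by group
      rw [e]
      exact mul_mem (mul_mem huv2 (hKn.conj_mem _ (inv_mem hu2) v⁻¹)) (inv_mem hv2)
    exact hWK m hmW s (hP₁W hsP₁)
  set CP : Subgroup Y := centralizer (P₁ : Set Y) ⊓ W with hCP
  have hCPodd : ¬ 2 ∣ CP.relIndex NW := by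
    refine odd_relIndex hP₁i inf_le_right ?_ (inf_le_inf_right _ (centralizer_le_normalizer _))
    intro y hy
    refine mem_inf.2 ⟨?_, hP₁W hy⟩
    rw [mem_centralizer_iff]
    intro z hz
    exact hP₁c z hz y hy
  have hCPn : ∀ n ∈ NW, ∀ c ∈ CP, n * c * n⁻¹ ∈ CP := by
    intro n hn c hc
    obtain ⟨hn1, hn2⟩ := mem_inf.1 hn
    obtain ⟨hc1, hc2⟩ := mem_inf.1 hc
    refine mem_inf.2 ⟨?_, mul_mem (mul_mem hn2 hc2) (inv_mem hn2)⟩
    rw [mem_centralizer_iff]
    intro a ha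
    have ha' : n⁻¹ * a * n ∈ P₁ := by
      have := (mem_normalizer_iff.1 (inv_mem hn1) a).1 ha
      simpa using this
    have h2 := (mem_centralizer_iff.1 hc1) _ ha'
    calc a * (n * c * n⁻¹) = n * ((n⁻¹ * a * n) * c) * n⁻¹ := by group
      _ = n * c * n⁻¹ * a := by rw [h2]; group
  have hCPfix : ∀ m ∈ CP, ∀ y ∈ P₁, m * y * m⁻¹ = y := by
    intro m hm y hy
    have h2 := (mem_centralizer_iff.1 (mem_inf.1 hm).1) y hy
    rw [← h2]; group
  -- elements of `NW` acting trivially on `A` centralise `P₁`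
  have hcent0 : ∀ m ∈ NW, (∀ b ∈ A, m * b * m⁻¹ = b) → m ∈ CP := by
    intro m hm hmA
    apply mem_of_sq_mem hCPn hCPodd hm
    have h1 := hNWs m hm
    have hmm : m * m * s * (m * m)⁻¹ = s := by
      have h2 := hmA _ h1
      have h3 := hAsq _ h1
      calc m * m * s * (m * m)⁻¹ = (m * ((m * s * m⁻¹) * s⁻¹) * m⁻¹) * ((m * s * m⁻¹) * s⁻¹) * s := by group
        _ = s := by rw [h2, h3, one_mul]
    refine mem_inf.2 ⟨?_, (mem_inf.1 (mul_mem hm hm)).2⟩
    rw [mem_centralizer_iff]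
    have h4 : ∀ b ∈ A, m * m * b * (m * m)⁻¹ = b := by
      intro b hb
      calc m * m * b * (m * m)⁻¹ = m * (m * b * m⁻¹) * m⁻¹ := by group
        _ = b := by rw [hmA b hb, hmA b hb]
    intro y hy
    have h5 : m * m * y * (m * m)⁻¹ = y := by
      -- `y = b` or `y = b s`
      rcases mem_adj.1 hy with h | h
      · exact h4 y h
      · have h6 : y * s⁻¹ ∈ A := by
          have e' : y * s⁻¹ = (y * p⁻¹) * a⁻¹ := by rw [hs]; group
          rw [e']
          exact mul_mem h (inv_mem ha)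
        calc m * m * y * (m * m)⁻¹ = (m * m * (y * s⁻¹) * (m * m)⁻¹) * (m * m * s * (m * m)⁻¹) := by group
          _ = y := by rw [h4 _ h6, hmm]; group
    calc y * (m * m) = (m * m * y * (m * m)⁻¹) * (m * m) := by rw [h5]
      _ = m * m * y := by group
  have hcent : ∀ m ∈ NW, ∀ b ∈ A, b ≠ 1 → m * b * m⁻¹ = b → m ∈ CP := by
    intro m hm b hb hb1 hmb
    apply mem_of_sq_mem hCPn hCPodd hm
    apply hcent0 _ (mul_mem hm hm)
    intro c hc
    have hmc := hNWA m hm c hc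
    by_cases hbc : b = c
    · rw [← hbc]
      calc m * m * b * (m * m)⁻¹ = m * (m * b * m⁻¹) * m⁻¹ := by group
        _ = b := by rw [hmb, hmb]
    by_cases hc1 : c = 1
    · rw [hc1]; group
    rcases exhaust hA4 hAsq hb hc hmc hb1 hc1 hbc with e | e | e | e
    · exfalso
      apply hc1
      have : c = m⁻¹ * (m * c * m⁻¹) * m := by group
      rw [this, e]; group
    · exfalso
      exact hbc (mul_left_cancel (mul_right_cancel (e.trans hmb.symm))).symm
    · calc m * m * c * (m * m)⁻¹ = m * (m * c * m⁻¹) * m⁻¹ := by group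
        _ = c := by rw [e, e]
    · calc m * m * c * (m * m)⁻¹ = m * (m * c * m⁻¹) * m⁻¹ := by group
        _ = m * (b * c) * m⁻¹ := by rw [e]
        _ = (m * b * m⁻¹) * (m * c * m⁻¹) := by group
        _ = (b * b) * c := by rw [hmb, e]; group
        _ = c := by rw [hAsq b hb, one_mul]
  have hxNW : x ∈ NW := mem_inf.2 ⟨hxP₁, hxW⟩
  -- `s` is isolated in `W`
  have hiso : ∀ g ∈ W, g * s * g⁻¹ ∈ P₁ → g * s * g⁻¹ = s := by
    intro g hg hgs
    obtain ⟨m, hmW, hmP, hms⟩ := exists_normalizer_conj hP₁W hP₁p hP₁i hP₁c hsP₁ hg hgs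
    rw [← hms]
    have hm : m ∈ NW := mem_inf.2 ⟨hmP, hmW⟩
    by_contra hne
    set b := (m * s * m⁻¹) * s⁻¹ with hb
    have hbA : b ∈ A := hNWs m hm
    have hb1 : b ≠ 1 := fun e => hne (mul_inv_eq_one.1 e)
    have hb2A := hxA b hbA
    have hb2 : x * b * x⁻¹ ≠ b := fun e => hb1 (hxfix b hbA e)
    have hb2' : x * b * x⁻¹ ≠ 1 := by
      intro e
      apply hb1
      have : b = x⁻¹ * (x * b * x⁻¹) * x := by group
      rw [this, e]; group
    have hb3A : x⁻¹ * b * x ∈ A := by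
      have := (mem_normalizer_iff.1 (inv_mem hxnA) b).1 hbA
      rwa [inv_inv] at this
    have hb3 : x⁻¹ * b * x = b * (x * b * x⁻¹) := by
      rcases exhaust hA4 hAsq hbA hb2A hb3A hb1 hb2' (Ne.symm hb2) with e | e | e | e
      · exfalso
        apply hb1
        have : b = x * (x⁻¹ * b * x) * x⁻¹ := by group
        rw [this, e]; group
      · exfalso
        apply hb2
        calc x * b * x⁻¹ = x * (x⁻¹ * b * x) * x⁻¹ := by rw [e]
          _ = b := by group
      · exfalso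
        have h1 : (x * x) * b * (x * x)⁻¹ = b := by
          calc (x * x) * b * (x * x)⁻¹ = x * (x * b * x⁻¹) * x⁻¹ := by group
            _ = x * (x⁻¹ * b * x) * x⁻¹ := by rw [e]
            _ = b := by group
        have h2 := hcent _ (mul_mem hxNW hxNW) b hbA hb1 h1
        have h3 := mem_of_sq_mem hCPn hCPodd hxNW h2
        exact hb2 (hCPfix x h3 b (hAP₁ hbA))
      · exact e
    have hmb := hNWA m hm b hbA
    have key : ∀ y ∈ NW, y * s * y⁻¹ = s → y⁻¹ * (m * b * m⁻¹) * y = b → m * s * m⁻¹ = s := by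
      intro y hy hys hyb
      have h1 : (y⁻¹ * m) * b * (y⁻¹ * m)⁻¹ = b := by
        calc (y⁻¹ * m) * b * (y⁻¹ * m)⁻¹ = y⁻¹ * (m * b * m⁻¹) * y := by group
          _ = b := hyb
      have h2 := hcent _ (mul_mem (inv_mem hy) hm) b hbA hb1 h1
      have h3 := hCPfix _ h2 s hsP₁
      calc m * s * m⁻¹ = y * ((y⁻¹ * m) * s * (y⁻¹ * m)⁻¹) * y⁻¹ := by group
        _ = s := by rw [h3, hys]
    apply hne
    rcases exhaust hA4 hAsq hbA hb2A hmb hb1 hb2' (Ne.symm hb2) with e | e | e | e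
    · exfalso
      apply hb1
      have : b = m⁻¹ * (m * b * m⁻¹) * m := by group
      rw [this, e]; group
    · exact key 1 (one_mem _) (by group) (by rw [e]; group)
    · exact key x hxNW hxs (by rw [e]; group)
    · refine key x⁻¹ (inv_mem hxNW) ?_ ?_
      · calc x⁻¹ * s * x⁻¹⁻¹ = x⁻¹ * (x * s * x⁻¹) * x := by rw [hxs, inv_inv]
          _ = s := by group
      · rw [e, ← hb3]; group
  -- Z*
  have hz := zstar_local hP₁p hP₁W hsP₁ hs2 (by
    intro Q hQ hPQ hQW g hg hgQ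
    have hQP : Q = P₁ := by
      have h1 : P₁.relIndex Q ∣ P₁.relIndex W := by
        rw [← relIndex_mul_relIndex P₁ Q W hPQ hQW]
        exact dvd_mul_right _ _
      obtain ⟨k, hk⟩ := IsPGroup.iff_card.1 hQ
      have h2 : P₁.relIndex Q ∣ 2 ^ k := by rw [← hk]; exact relIndex_dvd_card _ _
      obtain ⟨j, _, hj⟩ := (Nat.dvd_prime_pow Nat.prime_two).1 h2
      have h3 : P₁.relIndex Q = 1 := by
        cases j with
        | zero => simpa using hj
        | succ j =>
          exfalso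
          apply hP₁i
          refine dvd_trans ?_ h1
          rw [hj, pow_succ]
          exact dvd_mul_left 2 _
      exact le_antisymm (relIndex_eq_one.1 h3) hPQ
    rw [hQP] at hgQ
    exact hiso g hg hgQ)
  have hcoreK : core W ⊓ K = ⊥ := by
    have hn1 : ((core W ⊓ K).subgroupOf K).Normal := by
      refine ⟨fun y hy g => ?_⟩
      rw [mem_subgroupOf] at hy ⊢
      exact mem_inf.2 ⟨conj_mem_core (hKW g.2) (mem_inf.1 hy).1, (g * y * g⁻¹).2⟩
    rcases IsSimpleGroup.eq_bot_or_eq_top_of_normal _ hn1 with h | h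
    · rw [eq_bot_iff]
      intro y hy
      have h1 : (⟨y, (mem_inf.1 hy).2⟩ : K) ∈ (core W ⊓ K).subgroupOf K := mem_subgroupOf.2 hy
      rw [h, mem_bot] at h1
      exact congrArg Subtype.val h1
    · exfalso
      have h1 : K ≤ core W := fun y hy => (mem_inf.1 (subgroupOf_eq_top.1 h hy)).1
      have h2 := odd_core W
      have h3 : Nat.card A ∣ Nat.card (core W) := Subgroup.card_dvd_of_le (hAK.trans h1)
      rw [hA4] at h3
      exact (Nat.not_even_iff_odd.2 h2) (even_iff_two_dvd.2 ((by norm_num : 2 ∣ 4).trans h3))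
  apply hs1
  rw [← mem_bot, ← hC, mem_centralizer_iff]
  intro k hk
  have h1 : s * k * s⁻¹ * k⁻¹ ∈ core W ⊓ K := by
    refine mem_inf.2 ⟨hz k (hKW hk), ?_⟩
    exact mul_mem (hKn.conj_mem k hk s) (inv_mem hk)
  rw [hcoreK, mem_bot] at h1
  have h2 : s * k * s⁻¹ = k := mul_inv_eq_one.1 h1
  calc k * s = (s * k * s⁻¹) * s := by rw [h2]
    _ = s * k := by group

/-- **A 2-element centralizing the Sylow four-group `A` of the simple group `K` acts on `K` as an element of
`A`.** -/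
theorem mem_of_comm {K A : Subgroup Y} (hKn : K.Normal) (hK : IsSimpleGroup K)
    (hna : ∃ x ∈ K, ∃ y ∈ K, x * y ≠ y * x)
    (hAK : A ≤ K) (hA4 : Nat.card A = 4) (hAsq : ∀ a ∈ A, a * a = 1) (hAi : ¬ 2 ∣ A.relIndex K)
    (hC : centralizer (K : Set Y) = ⊥) {p : Y} (hpA : ∀ a ∈ A, p * a = a * p) (hp : ∃ k : ℕ, p ^ 2 ^ k = 1) :
    p ∈ A := by
  obtain ⟨k, hk⟩ := hp
  induction k generalizing p with
  | zero =>
    simp only [pow_zero, pow_one] at hk
    rw [hk]; exact one_mem _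
  | succ k ih =>
    apply mem_of_comm_of_sq hKn hK hna hAK hA4 hAsq hAi hC hpA
    apply ih
    · intro a ha
      rw [mul_assoc, hpA a ha, ← mul_assoc, hpA a ha, mul_assoc]
    · rw [← pow_two, ← pow_mul, ← pow_succ']
      exact hk

end Cfsg.Agent.TwoFusion.GoldFourAct
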