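import Cfsg.Agent.Classification.BGMainFour
import Cfsg.Agent.TwoFusion.DihedralFusion
import Cfsg.Agent.Classification.DihReduction
import Cfsg.Agent.Characters.Linear
import Cfsg.Agent.Lib.LocalCore

/-!
# Counting involutions in groups with a Klein four Sylow 2-subgroup

`odd_count`: if `K/O(K)` is simple nonabelian and the Sylow 2-subgroups of `K` are four-groups, then for an
involution `a` more than a third of the involutions `d` have `|ad|` odd.  (Brauer's formula for the principal block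
gives `i > 3k²`, where `i` is the number of involutions and `2k` the number of involutions `≠ a` of `C(a)`; the
number of `d` with `|ad|` even is at most `2k²`.)
-/

set_option autoImplicit false
set_option linter.unusedSectionVars false

namespace Cfsg.Agent.TwoFusion.GoldFourCount

open DihedralGroup Cfsg Cfsg.Agent.Classification.BGDefs Cfsg.Agent.Classification.BGBasic
  Cfsg.Agent.Classification.BGOrder Cfsg.Agent.Classification.BGOvergroup Cfsg.Agent.Characters
  Cfsg.Agent.Classification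

/-! ### Arithmetic -/

theorem normal_form {f g h : ℤ} (hf : (4 : ℤ) ∣ f - 1) (hg : (4 : ℤ) ∣ g - 1)
    (hh : (4 : ℤ) ∣ h - 1) (hs : 1 + f + g + h = 0) (hf1 : f ≠ 1) (hg1 : g ≠ 1) (hh1 : h ≠ 1) :
    (∃ x y : ℤ, 5 ≤ x ∧ 5 ≤ y ∧ f * g * h = -(x * y * (x + y + 1)) ∧
      (f + 1) * (g + 1) * (h + 1) = -((x + 1) * (y + 1) * (x + y))) ∨
    (∃ u v : ℤ, 3 ≤ u ∧ 3 ≤ v ∧ f * g * h = u * v * (u + v - 1) ∧
      (f + 1) * (g + 1) * (h + 1) = (u - 1) * (v - 1) * (u + v)) := by
  have hh' : h = -1 - f - g := by linarith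
  have hg' : g = -1 - f - h := by linarith
  have hf' : f = -1 - g - h := by linarith
  rcases lt_trichotomy f 0 with h1 | h1 | h1
  · rcases lt_trichotomy g 0 with h2 | h2 | h2
    · right
      refine ⟨-f, -g, by omega, by omega, ?_, ?_⟩ <;> subst hh' <;> ring
    · omega
    · rcases lt_trichotomy h 0 with h3 | h3 | h3
      · right
        refine ⟨-f, -h, by omega, by omega, ?_, ?_⟩ <;> subst hg' <;> ring
      · omega
      · left
        refine ⟨g, h, by omega, by omega, ?_, ?_⟩ <;> subst hf' <;> ring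
  · omega
  · rcases lt_trichotomy g 0 with h2 | h2 | h2
    · rcases lt_trichotomy h 0 with h3 | h3 | h3
      · right
        refine ⟨-g, -h, by omega, by omega, ?_, ?_⟩ <;> subst hf' <;> ring
      · omega
      · left
        refine ⟨f, h, by omega, by omega, ?_, ?_⟩ <;> subst hg' <;> ring
    · omega
    · left
      refine ⟨f, g, by omega, by omega, ?_, ?_⟩ <;> subst hh' <;> ring

theorem arith {a K f g h : ℤ} (hK : 0 < K) (hf : (4 : ℤ) ∣ f - 1) (hg : (4 : ℤ) ∣ g - 1)
    (hh : (4 : ℤ) ∣ h - 1) (hs : 1 + f + g + h = 0) (hf1 : f ≠ 1) (hg1 : g ≠ 1) (hh1 : h ≠ 1)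
    (h1 : a * ((f + 1) * (g + 1) * (h + 1)) = (8 * K) * (f * g * h)) : 3 * K < a := by
  obtain ⟨P, Q, hQ, hPQ, e⟩ : ∃ P Q : ℤ, 0 < Q ∧ 3 * Q < 8 * P ∧ a * Q = (8 * K) * P := by
    rcases normal_form hf hg hh hs hf1 hg1 hh1 with ⟨x, y, hx, hy, e1, e2⟩ | ⟨u, v, hu, hv, e1, e2⟩
    · have hp : 0 < x * y * (x + y + 1) := mul_pos (mul_pos (by omega) (by omega)) (by omega)
      have hl := BGFourArith.one_neg_lower_five hx hy
      refine ⟨x * y * (x + y + 1), (x + 1) * (y + 1) * (x + y),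
        mul_pos (mul_pos (by omega) (by omega)) (by omega), by linarith, ?_⟩
      rw [e1, e2] at h1; linarith
    · have hp : 0 < u * v * (u + v - 1) := mul_pos (mul_pos (by omega) (by omega)) (by omega)
      have hl := BGFourArith.two_neg_lower hu hv
      refine ⟨u * v * (u + v - 1), (u - 1) * (v - 1) * (u + v),
        mul_pos (mul_pos (by omega) (by omega)) (by omega), by linarith, ?_⟩
      rw [e1, e2] at h1; exact h1
  by_contra hcon
  push Not at hcon
  have h2 : a * Q ≤ 3 * K * Q := mul_le_mul_of_nonneg_right hcon hQ.le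
  have h3 : K * (3 * Q) < K * (8 * P) := mul_lt_mul_of_pos_left hPQ hK
  linarith

/-! ### The order formula -/

open BGFour in
/-- **Order formula for a Klein four Sylow 2-subgroup.** -/
theorem four_formula' {G : Type*} [Group G] [Finite G] {t : G}
    {π : (Subgroup.centralizer ({t} : Set G)) →* DihedralGroup 2} (h : BGHyp t 2 π)
    (P : Sylow 2 G) (hP : IsKleinFour (P : Subgroup G))
    (hlin : ∀ M : Ideal AlgInt, IsPModular 2 M → ∀ ζ : IrrCharacter G, ζ ∈ principalBlock M G →
      charDegree (ζ : G → ℂ) = 1 → (ζ : G → ℂ) = fun _ => 1) :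
    ∃ f₁ f₂ f₃ : ℤ, (4 : ℤ) ∣ f₁ - 1 ∧ (4 : ℤ) ∣ f₂ - 1 ∧ (4 : ℤ) ∣ f₃ - 1 ∧
      1 + f₁ + f₂ + f₃ = 0 ∧ f₁ ≠ 1 ∧ f₂ ≠ 1 ∧ f₃ ≠ 1 ∧
      ((Subgroup.centralizer ({t} : Set G)).index : ℤ) * ((f₁ + 1) * (f₂ + 1) * (f₃ + 1)) =
        (8 * (kcount (two_dvd h) π 0 : ℤ) * (kcount (two_dvd h) π 1 : ℤ)) * (f₁ * f₂ * f₃) := by
  classical
  let _ : Fintype G := Fintype.ofFinite G
  have : Fact (Nat.Prime 2) := ⟨Nat.prime_two⟩
  obtain ⟨M, hM⟩ := Blocks.ExistsModular.exists_isPModular Nat.prime_two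
  have hone : ∀ s u : G, orderOf s = 2 → orderOf u = 2 → IsConj s u := fun s u hs hu =>
    (h.one_class s hs).symm.trans (h.one_class u hu)
  obtain ⟨ζ₂, ζ₃, ζ₄, ε, hε, hne2, hne3, -, -, -, hB, hval, hd2, hd3, hd4, hreg⟩ :=
    S0948.result M hM P hP hone
  have hεε : (ε : ℂ) * ε = 1 := by rcases hε with rfl | rfl <;> norm_num
  have hεε' : ε * ε = 1 := by rcases hε with rfl | rfl <;> norm_num
  have hB2 : ζ₂ ∈ Cfsg.principalBlock M G := by rw [hB]; exact Or.inr (Or.inl rfl)
  have hB3 : ζ₃ ∈ Cfsg.principalBlock M G := by rw [hB]; exact Or.inr (Or.inr (Or.inl rfl))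
  have hB4 : ζ₄ ∈ Cfsg.principalBlock M G := by rw [hB]; exact Or.inr (Or.inr (Or.inr rfl))
  have htval := hval t h.orderOf_t
  -- the induced function
  have hind : indFun (Subgroup.centralizer ({t} : Set G)) (fun x => bmu (π x)) =
      fun g => 1 + (ζ₂ : G → ℂ) g + (ε : ℂ) * (ζ₃ : G → ℂ) g - (ζ₄ : G → ℂ) g := by
    refine indFun_eq h.orderOf_t h.one_class _ ?_ (BGIsometry.supp_bmu h) _ ?_ hreg ?_
    · exact BGIsometry.isClassFunction_comp π
        (BGIsometry.isClassFunction_of_generalized (BGIsometry.isGeneralized_bmu (two_dvd h)))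
    · intro g y
      have e2 := Core.isIrr_isClassFunction ζ₂.2 g y
      have e3 := Core.isIrr_isClassFunction ζ₃.2 g y
      have e4 := Core.isIrr_isClassFunction ζ₄.2 g y
      simp only [e2, e3, e4]
    · intro x hx
      obtain ⟨j, hj, hxj⟩ := rot_of_mem_zpowers h hx
      have hj1 : j = 1 := eq_one_of_ne_zero j hj
      subst hj1
      obtain ⟨u, hu, hxu⟩ := exists_mul h hxj
      have hcore := mem_core h hu
      have hpow : ∃ k : ℕ, orderOf t = 2 ^ k := ⟨1, by rw [h.orderOf_t, pow_one]⟩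
      have e2 := S0942.result 2 M hM t hpow u hcore ζ₂ hB2
      have e3 := S0942.result 2 M hM t hpow u hcore ζ₃ hB3
      have e4 := S0942.result 2 M hM t hpow u hcore ζ₄ hB4
      rw [hxj, hxu, e2, e3, e4, htval.1, htval.2.1, htval.2.2, bmu_r]
      have e5 : e 2 (((2 / 2 : ℕ) : ZMod 2) * 1) = -1 := by
        rw [mul_one]; exact e_half (by norm_num)
      rw [e5]
      linear_combination hεε
  have key := pair_formula h bmu bmu_one bmu_sr (fun p => if p = 0 then 0 else 2 * ((2 : ℕ) : ℂ))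
    (sum_bmu_parity (two_dvd h)) (Finset.univ : Finset (Fin 4)) ![1, 1, (ε : ℂ), -1]
    ![1, (ζ₂ : G → ℂ), (ζ₃ : G → ℂ), (ζ₄ : G → ℂ)]
    (by
      intro j _
      fin_cases j
      · exact signedIrr_one
      · exact Or.inl ζ₂.2
      · exact Or.inl ζ₃.2
      · exact Or.inl ζ₄.2)
    (by
      rw [hind]
      funext g
      simp [Fin.sum_univ_four]
      ring)
  have hζ2 := Blocks.Basic.irr_one_eq_charDegree ζ₂.2
  have hζ3 := Blocks.Basic.irr_one_eq_charDegree ζ₃.2
  have hζ4 := Blocks.Basic.irr_one_eq_charDegree ζ₄.2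
  have hn2 : (Cfsg.charDegree (ζ₂ : G → ℂ) : ℂ) ≠ 0 := by
    rw [← hζ2]; exact Core.isIrr_apply_one_ne_zero ζ₂.2
  have hn3 : (Cfsg.charDegree (ζ₃ : G → ℂ) : ℂ) ≠ 0 := by
    rw [← hζ3]; exact Core.isIrr_apply_one_ne_zero ζ₃.2
  have hn4 : (Cfsg.charDegree (ζ₄ : G → ℂ) : ℂ) ≠ 0 := by
    rw [← hζ4]; exact Core.isIrr_apply_one_ne_zero ζ₄.2
  have hsum := hreg 1 (by rw [orderOf_one]; exact odd_one)
  rw [hζ2, hζ3, hζ4] at hsum
  simp only [Fin.sum_univ_four, Matrix.cons_val_zero, Matrix.cons_val_one, Matrix.cons_val,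
    Pi.one_apply, hζ2, hζ3, hζ4, htval.1, htval.2.1, htval.2.2] at key
  set a := Cfsg.charDegree (ζ₂ : G → ℂ) with ha
  set b := Cfsg.charDegree (ζ₃ : G → ℂ) with hb
  set c := Cfsg.charDegree (ζ₄ : G → ℂ) with hc
  refine ⟨a, ε * b, -c, hd2, ?_, ?_, ?_, ?_, ?_, ?_, ?_⟩
  · obtain ⟨k, hk⟩ := hd3
    exact ⟨ε * k, by linear_combination ε * hk + hεε'⟩
  · obtain ⟨k, hk⟩ := hd4
    exact ⟨-k, by linear_combination -hk⟩
  · have : (1 : ℂ) + a + ε * b - c = 0 := hsum
    have h2 : (1 : ℤ) + a + ε * b + -(c : ℤ) = 0 := by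
      have h3 : ((1 + a + ε * b + -(c : ℤ) : ℤ) : ℂ) = 0 := by
        push_cast; linear_combination this
      exact_mod_cast h3
    exact h2
  · intro h1
    exact hne2 (hlin M hM ζ₂ hB2 (by exact_mod_cast h1))
  · intro h1
    rcases hε with rfl | rfl
    · exact hne3 (hlin M hM ζ₃ hB3 (by rw [one_mul] at h1; exact_mod_cast h1))
    · have h2 : (0 : ℤ) ≤ (b : ℤ) := Int.natCast_nonneg _
      omega
  · intro h1
    have h2 : (0 : ℤ) ≤ (c : ℤ) := Int.natCast_nonneg _
    omega
  · have h5 : ((Subgroup.centralizer ({t} : Set G)).index : ℂ) *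
        (((a : ℂ) + 1) * (ε * b + 1) * (-(c : ℂ) + 1)) =
        (8 * (kcount (two_dvd h) π 0 : ℂ) * (kcount (two_dvd h) π 1 : ℂ)) *
          ((a : ℂ) * (ε * b) * (-(c : ℂ))) := by
      have hB0 : (ε : ℂ) * (b : ℂ) ≠ 0 :=
        mul_ne_zero (by rintro h0; rw [h0, zero_mul] at hεε; exact zero_ne_one hεε) hn3
      have e1 : (ε : ℂ) * ((ε : ℂ) ^ 2 / (b : ℂ)) = 1 / ((ε : ℂ) * b) := by
        have e2 : (ε : ℂ) ^ 2 = 1 := by rw [sq]; exact hεε
        rw [e2, mul_one_div, div_eq_div_iff hn3 hB0]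
        linear_combination (b : ℂ) * hεε
      rw [e1] at key
      have e3 : (c : ℂ) = 1 + a + ε * b := by linear_combination -hsum
      generalize (ε : ℂ) * (b : ℂ) = B at hB0 key e3 ⊢
      rw [if_pos trivial, if_neg one_ne_zero_two] at key
      have e4 : ((Subgroup.centralizer ({t} : Set G)).index : ℂ) *
          (1 + 1 / (a : ℂ) + 1 / B - 1 / (c : ℂ)) =
          8 * (kcount (two_dvd h) π 0 : ℂ) * (kcount (two_dvd h) π 1 : ℂ) := by
        push_cast at key
        linear_combination key / 2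
      rw [← e4]
      field_simp
      rw [e3]
      ring
    exact_mod_cast h5


/-- The characters of degree one in the principal block of a group `K` with `K/O(K)` simple nonabelian. -/
theorem eq_one_of_degree_one {K : Type*} [Group K] [Finite K] (hK : IsSimpleGroup (K ⧸ Cfsg.oddCore K))
    (hna : ∃ x y : K ⧸ Cfsg.oddCore K, x * y ≠ y * x) (M : Ideal AlgInt) (hM : IsPModular 2 M)
    (ζ : IrrCharacter K) (hζ : ζ ∈ principalBlock M K) (h1 : charDegree (ζ : K → ℂ) = 1) :
    (ζ : K → ℂ) = fun _ => 1 := by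
  have : Fact (Nat.Prime 2) := ⟨Nat.prime_two⟩
  obtain ⟨f, hf⟩ := Cfsg.Agent.Characters.Linear.exists_hom_of_isIrrCharacter ζ.2
    (by rw [Blocks.Basic.irr_one_eq_charDegree ζ.2, h1, Nat.cast_one])
  -- `O(K)` lies in the kernel
  have hker : Cfsg.oddCore K ≤ f.ker := by
    intro u hu
    have hcore : u ∈ Cfsg.centralizerPPrimeCore 2 (1 : K) := by
      have h2 : (Cfsg.oddCore K) ≤ (Cfsg.pPrimeCore 2 ↥(Subgroup.centralizer ({1} : Set K))).map
          (Subgroup.centralizer ({1} : Set K)).subtype := by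
        apply Cfsg.Agent.Lib.LocalCore.le_map_pPrimeCore
        · intro x _
          rw [Subgroup.mem_centralizer_singleton_iff]
          simp
        · exact Cfsg.Agent.Lib.Cores.pPrimeCore_coprime 2
        · intro x _
          have : (Cfsg.oddCore K).Normal := Cfsg.Agent.Lib.Cores.pPrimeCore_normal 2
          rw [Subgroup.normalizer_eq_top_iff.2 this]
          exact Subgroup.mem_top x
      exact h2 hu
    have h3 := S0942.result 2 M hM (1 : K) ⟨0, by simp⟩ u hcore ζ hζ
    rw [one_mul, hf] at h3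
    have h3' : ((f u : ℂˣ) : ℂ) = ((f 1 : ℂˣ) : ℂ) := h3
    rw [map_one] at h3'
    rw [MonoidHom.mem_ker]
    exact Units.ext h3'
  have hOn : (Cfsg.oddCore K).Normal := Cfsg.Agent.Lib.Cores.pPrimeCore_normal 2
  have hn : (f.ker.map (QuotientGroup.mk' (Cfsg.oddCore K))).Normal :=
    Subgroup.Normal.map inferInstance _ (QuotientGroup.mk'_surjective _)
  have htop : f.ker = ⊤ := by
    rcases hK.eq_bot_or_eq_top_of_normal _ hn with hb | ht
    · exfalso
      obtain ⟨x, y, hxy⟩ := hna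
      obtain ⟨x, rfl⟩ := QuotientGroup.mk'_surjective _ x
      obtain ⟨y, rfl⟩ := QuotientGroup.mk'_surjective _ y
      apply hxy
      rw [Subgroup.map_eq_bot_iff, QuotientGroup.ker_mk'] at hb
      have h4 : x * y * x⁻¹ * y⁻¹ ∈ f.ker := by
        rw [MonoidHom.mem_ker, map_mul, map_mul, map_mul, map_inv, map_inv, mul_comm (f x) (f y)]
        group
      have h5 := hb h4
      have h6 : (QuotientGroup.mk' (Cfsg.oddCore K)) (x * y * x⁻¹ * y⁻¹) = 1 := by
        rw [← MonoidHom.mem_ker, QuotientGroup.ker_mk']; exact h5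
      rw [map_mul, map_mul, map_mul, map_inv, map_inv, mul_inv_eq_one, mul_inv_eq_iff_eq_mul] at h6
      exact h6
    · rw [eq_top_iff]
      intro x _
      have h7 : (QuotientGroup.mk' (Cfsg.oddCore K)) x ∈ f.ker.map (QuotientGroup.mk' (Cfsg.oddCore K)) := by
        rw [ht]; exact Subgroup.mem_top _
      obtain ⟨y, hy, hyx⟩ := h7
      have h8 : y⁻¹ * x ∈ Cfsg.oddCore K := by
        rw [← QuotientGroup.ker_mk' (Cfsg.oddCore K), MonoidHom.mem_ker, map_mul, map_inv, hyx]
        group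
      have h9 := mul_mem hy (hker h8)
      rwa [mul_inv_cancel_left] at h9
  funext g
  rw [hf]
  have : g ∈ f.ker := by rw [htop]; exact Subgroup.mem_top g
  change ((f g : ℂˣ) : ℂ) = 1
  rw [MonoidHom.mem_ker.1 this]
  simp

/-- A group `K` with `K/O(K)` simple nonabelian has no subgroup of index two. -/
theorem index_ne_two {K : Type*} [Group K] [Finite K] (hK : IsSimpleGroup (K ⧸ Cfsg.oddCore K))
    (hna : ∃ x y : K ⧸ Cfsg.oddCore K, x * y ≠ y * x) (H : Subgroup K) : H.index ≠ 2 := by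
  intro h2
  have hHn : H.Normal := Subgroup.normal_of_index_eq_two h2
  have hO : Cfsg.oddCore K ≤ H := by
    intro u hu
    have h3 : Odd (orderOf u) := by
      have h4 : orderOf u ∣ Nat.card (Cfsg.oddCore K) := by
        have := orderOf_dvd_natCard (⟨u, hu⟩ : Cfsg.oddCore K)
        rwa [Subgroup.orderOf_mk] at this
      exact Odd.of_dvd_nat (Nat.coprime_two_right.1 (Cfsg.Agent.Lib.Cores.pPrimeCore_coprime 2)) h4
    by_contra hcon
    obtain ⟨k, hk⟩ := h3
    have h5 : u ^ orderOf u = 1 := pow_orderOf_eq_one u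
    rw [hk, pow_succ, pow_mul] at h5
    have h6 : (u ^ 2) ^ k ∈ H := H.pow_mem (H.sq_mem_of_index_two h2 u) k
    have h7 : u = ((u ^ 2) ^ k)⁻¹ := eq_inv_of_mul_eq_one_right h5
    exact hcon (by rw [h7]; exact inv_mem h6)
  have hOn : (Cfsg.oddCore K).Normal := Cfsg.Agent.Lib.Cores.pPrimeCore_normal 2
  have hn : (H.map (QuotientGroup.mk' (Cfsg.oddCore K))).Normal :=
    Subgroup.Normal.map inferInstance _ (QuotientGroup.mk'_surjective _)
  rcases hK.eq_bot_or_eq_top_of_normal _ hn with hb | ht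
  · rw [Subgroup.map_eq_bot_iff, QuotientGroup.ker_mk'] at hb
    have e : H = Cfsg.oddCore K := le_antisymm hb hO
    have h3 : Nat.card (K ⧸ Cfsg.oddCore K) = 2 := by rw [← e]; exact h2
    have : Fact (Nat.Prime 2) := ⟨Nat.prime_two⟩
    have hcyc : IsCyclic (K ⧸ Cfsg.oddCore K) := isCyclic_of_prime_card h3
    obtain ⟨x, y, hxy⟩ := hna
    exact hxy ((IsCyclic.commGroup (α := K ⧸ Cfsg.oddCore K)).mul_comm x y)
  · have h3 : H = ⊤ := by
      rw [eq_top_iff]
      intro x _
      have h7 : (QuotientGroup.mk' (Cfsg.oddCore K)) x ∈ H.map (QuotientGroup.mk' (Cfsg.oddCore K)) := by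
        rw [ht]; exact Subgroup.mem_top _
      obtain ⟨y, hy, hyx⟩ := h7
      have h8 : y⁻¹ * x ∈ Cfsg.oddCore K := by
        rw [← QuotientGroup.ker_mk' (Cfsg.oddCore K), MonoidHom.mem_ker, map_mul, map_inv, hyx]
        group
      have h9 := mul_mem hy (hO h8)
      rwa [mul_inv_cancel_left] at h9
    rw [h3, Subgroup.index_top] at h2
    omega

/-! ### Counting -/

/-- The number of involutions is the index of the centralizer, if there is one class. -/
theorem card_involutions {K : Type*} [Group K] [Finite K] (a : K) (ha : orderOf a = 2)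
    (hone : ∀ x : K, orderOf x = 2 → IsConj a x) :
    Nat.card {x : K // orderOf x = 2} = (Subgroup.centralizer ({a} : Set K)).index := by
  classical
  have hconj : ∀ g : K, orderOf (g * a * g⁻¹) = 2 := fun g => by rw [orderOf_conj, ha]
  rw [Subgroup.index]
  symm
  refine Nat.card_congr (Equiv.ofBijective
    (Quotient.lift (s := QuotientGroup.leftRel (Subgroup.centralizer ({a} : Set K)))
      (fun g : K => (⟨g * a * g⁻¹, hconj g⟩ : {x : K // orderOf x = 2})) ?_) ⟨?_, ?_⟩)
  · intro g g' hg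
    have hg' : g⁻¹ * g' ∈ Subgroup.centralizer ({a} : Set K) := QuotientGroup.leftRel_apply.1 hg
    rw [Subgroup.mem_centralizer_singleton_iff] at hg'
    apply Subtype.ext
    change g * a * g⁻¹ = g' * a * g'⁻¹
    have : g' * a = g * a * (g⁻¹ * g') := by
      calc g' * a = g * ((g⁻¹ * g') * a) := by group
        _ = g * (a * (g⁻¹ * g')) := by rw [hg']
        _ = g * a * (g⁻¹ * g') := by group
    rw [this]; group
  · intro q q'
    refine Quotient.inductionOn₂ q q' fun g g' h => ?_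
    have h' : g * a * g⁻¹ = g' * a * g'⁻¹ := congrArg Subtype.val h
    apply Quotient.sound
    refine QuotientGroup.leftRel_apply.2 ?_
    rw [Subgroup.mem_centralizer_singleton_iff]
    calc g⁻¹ * g' * a = g⁻¹ * (g' * a * g'⁻¹) * g' := by group
      _ = g⁻¹ * (g * a * g⁻¹) * g' := by rw [h']
      _ = a * (g⁻¹ * g') := by group
  · rintro ⟨x, hx⟩
    obtain ⟨g, hg⟩ := isConj_iff.1 (hone x hx)
    exact ⟨Quotient.mk _ g, Subtype.ext hg⟩

theorem zmod_two : ∀ j : ZMod 2, j = 0 ∨ j = 1 := by decide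

section Kcount

variable {K : Type*} [Group K] [Finite K] {t : K}
  {π : (Subgroup.centralizer ({t} : Set K)) →* DihedralGroup 2}

/-- the involutions of `C(t)` mapping to `sr e` -/
def Ae (h : BGHyp t 2 π) (e : ZMod 2) : Set (Subgroup.centralizer ({t} : Set K)) :=
  {x | orderOf x = 2 ∧ ∃ j : ZMod 2, π x = sr j ∧ ZMod.castHom (two_dvd h) (ZMod 2) j = e}

theorem kcount_eq_ncard (h : BGHyp t 2 π) (e : ZMod 2) : kcount (two_dvd h) π e = (Ae h e).ncard := rfl

theorem castHom_eq (h : BGHyp t 2 π) (j : ZMod 2) : ZMod.castHom (two_dvd h) (ZMod 2) j = j := by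
  rw [ZMod.castHom_apply, ZMod.cast_id]

theorem mem_Ae (h : BGHyp t 2 π) {e : ZMod 2} {x : Subgroup.centralizer ({t} : Set K)} :
    x ∈ Ae h e ↔ orderOf x = 2 ∧ π x = sr e := by
  constructor
  · rintro ⟨h1, j, hj, hje⟩
    rw [castHom_eq h] at hje
    exact ⟨h1, by rw [hj, hje]⟩
  · rintro ⟨h1, h2⟩
    exact ⟨h1, e, h2, castHom_eq h e⟩

theorem map_tt' (h : BGHyp t 2 π) : π (tt t) = r 1 := map_tt h

theorem ncard_Ae_le (h : BGHyp t 2 π) (e : ZMod 2) : (Ae h e).ncard ≤ (Ae h (e - 1)).ncard := by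
  refine Set.ncard_le_ncard_of_injOn (fun x => tt t * x) ?_ ?_ (Set.toFinite _)
  · intro x hx
    rw [mem_Ae] at hx ⊢
    have h1 : π (tt t * x) = sr (e - 1) := by
      rw [map_mul, map_tt' h, hx.2, r_mul_sr]
    refine ⟨?_, h1⟩
    apply orderOf_eq_prime
    · have hx2 : x ^ 2 = 1 := by rw [← hx.1]; exact pow_orderOf_eq_one x
      rw [(tt_comm x).mul_pow, hx2, sq, tt_mul_tt h, one_mul]
    · intro h2
      rw [h2, map_one] at h1
      exact absurd h1 (by rw [one_def]; exact fun h => by cases h)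
  · intro x _ y _ hxy
    exact mul_left_cancel hxy

theorem ncard_Ae_eq (h : BGHyp t 2 π) (e f : ZMod 2) : (Ae h e).ncard = (Ae h f).ncard := by
  have h1 := ncard_Ae_le h 0
  have h2 := ncard_Ae_le h 1
  have e1 : (0 : ZMod 2) - 1 = 1 := by decide
  have e2 : (1 : ZMod 2) - 1 = 0 := by decide
  rw [e1] at h1
  rw [e2] at h2
  have h3 : ∀ e : ZMod 2, (Ae h e).ncard = (Ae h 0).ncard := by
    intro e
    fin_cases e
    · rfl
    · exact le_antisymm h2 h1
  rw [h3 e, h3 f]

/-- the involutions `≠ t` of `C(t)` -/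
def Iv (t : K) : Set K := {x | orderOf x = 2 ∧ x * t = t * x ∧ x ≠ t}

theorem ncard_Iv (h : BGHyp t 2 π) (e : ZMod 2) : (Iv t).ncard = 2 * (Ae h e).ncard := by
  have h1 : Iv t = (fun x : Subgroup.centralizer ({t} : Set K) => (x : K)) '' (Ae h 0 ∪ Ae h 1) := by
    ext x
    constructor
    · rintro ⟨h1, h2, h3⟩
      refine ⟨⟨x, Subgroup.mem_centralizer_singleton_iff.2 h2⟩, ?_, rfl⟩
      have ho : orderOf (⟨x, Subgroup.mem_centralizer_singleton_iff.2 h2⟩ :
          Subgroup.centralizer ({t} : Set K)) = 2 := by rw [Subgroup.orderOf_mk]; exact h1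
      rcases eq_tt_or_sr h ho with h4 | ⟨j, hj⟩
      · exact absurd (congrArg Subtype.val h4) h3
      · rcases zmod_two j with rfl | rfl
        · exact Or.inl ((mem_Ae h).2 ⟨ho, hj⟩)
        · exact Or.inr ((mem_Ae h).2 ⟨ho, hj⟩)
    · rintro ⟨x, hx, rfl⟩
      have h5 : ∃ e : ZMod 2, orderOf x = 2 ∧ π x = sr e := by
        rcases hx with hx | hx
        · exact ⟨0, (mem_Ae h).1 hx⟩
        · exact ⟨1, (mem_Ae h).1 hx⟩
      obtain ⟨e, h6, h7⟩ := h5
      refine ⟨by rw [Subgroup.orderOf_coe]; exact h6, Subgroup.mem_centralizer_singleton_iff.1 x.2, ?_⟩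
      intro h8
      have h9 : x = tt t := Subtype.ext h8
      rw [h9, map_tt' h] at h7
      cases h7
  rw [h1, Set.ncard_image_of_injective _ Subtype.val_injective, Set.ncard_union_eq ?_ (Set.toFinite _)
    (Set.toFinite _), ncard_Ae_eq h 0 e, ncard_Ae_eq h 1 e, two_mul]
  rw [Set.disjoint_left]
  intro x h2 h3
  have h4 := ((mem_Ae h).1 h2).2
  have h5 := ((mem_Ae h).1 h3).2
  rw [h4] at h5
  exact absurd (sr.inj h5) (by decide)

omit [Finite K] in
theorem ncard_Iv_conj (t g : K) : (Iv (g * t * g⁻¹)).ncard = (Iv t).ncard := by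
  have h1 : Iv (g * t * g⁻¹) = (MulAut.conj g) '' Iv t := by
    ext x
    constructor
    · rintro ⟨h1, h2, h3⟩
      refine ⟨g⁻¹ * x * g, ⟨?_, ?_, ?_⟩, ?_⟩
      · have := orderOf_conj x g⁻¹
        rw [inv_inv] at this
        rw [this, h1]
      · calc g⁻¹ * x * g * t = g⁻¹ * (x * (g * t * g⁻¹)) * g := by group
          _ = g⁻¹ * ((g * t * g⁻¹) * x) * g := by rw [h2]
          _ = t * (g⁻¹ * x * g) := by group
      · intro e
        apply h3
        rw [← e]; group
      · rw [MulAut.conj_apply]; group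
    · rintro ⟨x, ⟨h1, h2, h3⟩, rfl⟩
      rw [MulAut.conj_apply]
      refine ⟨by rw [orderOf_conj, h1], ?_, ?_⟩
      · calc g * x * g⁻¹ * (g * t * g⁻¹) = g * (x * t) * g⁻¹ := by group
          _ = g * (t * x) * g⁻¹ := by rw [h2]
          _ = g * t * g⁻¹ * (g * x * g⁻¹) := by group
      · intro e
        exact h3 (mul_left_cancel (mul_right_cancel e))
  rw [h1, Set.ncard_image_of_injective _ (MulAut.conj g).injective]

/-- the involutions `d` such that `t` is a power of `ad` -/
theorem ncard_fibre (h : BGHyp t 2 π) (a : K) (ha : orderOf a = 2) (hat : a ≠ t) :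
    {d : K | orderOf d = 2 ∧ t ∈ Subgroup.zpowers (a * d)}.ncard ≤ (Ae h 0).ncard := by
  have haa : a * a = 1 := by rw [← sq, ← ha]; exact pow_orderOf_eq_one a
  by_cases hc : a * t = t * a
  swap
  · have : {d : K | orderOf d = 2 ∧ t ∈ Subgroup.zpowers (a * d)} = ∅ := by
      ext d
      simp only [Set.mem_ofPred_eq, Set.mem_empty_iff_false, iff_false]
      rintro ⟨hd, hd2⟩
      have hdd : d * d = 1 := by rw [← sq, ← hd]; exact pow_orderOf_eq_one d
      exact hc (commute_of_mem_zpowers (t_mul_t h) haa hdd hd2)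
    rw [this, Set.ncard_empty]
    exact Nat.zero_le _
  have haC : a ∈ Subgroup.centralizer ({t} : Set K) := Subgroup.mem_centralizer_singleton_iff.2 hc
  have hao : orderOf (⟨a, haC⟩ : Subgroup.centralizer ({t} : Set K)) = 2 := by
    rw [Subgroup.orderOf_mk]; exact ha
  obtain ⟨i, hi⟩ : ∃ i : ZMod 2, π ⟨a, haC⟩ = sr i := by
    rcases eq_tt_or_sr h hao with h4 | h4
    · exact absurd (congrArg Subtype.val h4) hat
    · exact h4
  rw [ncard_Ae_eq h 0 (i + 1)]
  -- all such `d` lie in `C(t)`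
  have hd : ∀ d : K, orderOf d = 2 → t ∈ Subgroup.zpowers (a * d) →
      ∃ x ∈ Ae h (i + 1), (x : K) = d := by
    intro d hd hd2
    have hdd : d * d = 1 := by rw [← sq, ← hd]; exact pow_orderOf_eq_one d
    have h1 : t ∈ Subgroup.zpowers (d * a) := by
      have h2 : (a * d)⁻¹ = d * a := by
        rw [mul_inv_rev, inv_eq_of_mul_eq_one_left haa, inv_eq_of_mul_eq_one_left hdd]
      rw [← h2, Subgroup.zpowers_inv]
      exact hd2
    have hdt : d * t = t * d := commute_of_mem_zpowers (t_mul_t h) hdd haa h1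
    have hdC : d ∈ Subgroup.centralizer ({t} : Set K) := Subgroup.mem_centralizer_singleton_iff.2 hdt
    refine ⟨⟨d, hdC⟩, (mem_Ae h).2 ⟨by rw [Subgroup.orderOf_mk]; exact hd, ?_⟩, rfl⟩
    have h3 : t ∈ Subgroup.zpowers (((⟨a, haC⟩ * ⟨d, hdC⟩ : Subgroup.centralizer ({t} : Set K))) : K) := hd2
    obtain ⟨j, hj, hj2⟩ := rot_of_mem_zpowers h h3
    have hj1 : j = 1 := BGFour.eq_one_of_ne_zero j hj
    subst hj1
    rw [map_mul, hi] at hj2
    have h4 : π ⟨d, hdC⟩ = sr i * r 1 := by
      rw [← hj2, ← mul_assoc, sr_mul_sr, sub_self]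
      rw [← one_def, one_mul]
    rw [h4, sr_mul_r]
  have h5 : {d : K | orderOf d = 2 ∧ t ∈ Subgroup.zpowers (a * d)} ⊆
      (fun x : Subgroup.centralizer ({t} : Set K) => (x : K)) '' (Ae h (i + 1)) := by
    rintro d ⟨hd1, hd2⟩
    obtain ⟨x, hx, hxd⟩ := hd d hd1 hd2
    exact ⟨x, hx, hxd⟩
  refine (Set.ncard_le_ncard h5 (Set.toFinite _)).trans ?_
  exact Set.ncard_image_le (Set.toFinite _)

end Kcount

/-- **Brauer's count**: more than a third of the involutions `d` of `K` have `|ad|` odd. -/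
theorem odd_count {K : Type*} [Group K] [Finite K] (hK : IsSimpleGroup (K ⧸ Cfsg.oddCore K))
    (hna : ∃ x y : K ⧸ Cfsg.oddCore K, x * y ≠ y * x) (A : Sylow 2 K)
    (hA : Nat.card (A : Subgroup K) = 4) (hAsq : ∀ x ∈ (A : Subgroup K), x * x = 1) (a : K)
    (ha : orderOf a = 2) :
    Nat.card {d : K // orderOf d = 2} < 3 * Nat.card {d : K // orderOf d = 2 ∧ Odd (orderOf (a * d))} := by
  classical
  have : Fact (Nat.Prime 2) := ⟨Nat.prime_two⟩
  have hAK : IsKleinFour (A : Subgroup K) := by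
    refine ⟨hA, ?_⟩
    have h1 : Monoid.exponent (A : Subgroup K) ∣ 2 :=
      Monoid.exponent_dvd_of_forall_pow_eq_one fun x => Subtype.ext (by rw [sq]; exact hAsq x x.2)
    rcases (Nat.dvd_prime Nat.prime_two).1 h1 with h2 | h2
    · exfalso
      have h3 : Subsingleton (A : Subgroup K) := Monoid.exp_eq_one_iff.1 h2
      rw [Nat.card_of_subsingleton (1 : (A : Subgroup K))] at hA
      omega
    · exact h2
  have e2 := BGMainFour.nonempty_equiv_of_four hAK
  -- one class of involutions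
  have hone : ∀ x y : K, orderOf x = 2 → orderOf y = 2 → IsConj x y := by
    have e2' : Nonempty ((A : Subgroup K) ≃* DihedralGroup 2) := e2
    obtain ⟨m, r, z, hD⟩ := DihReduction.exists_dihData_sylow A 2 le_rfl e2'
    intro x y hx hy
    have h1 := TwoFusion.DihedralFusion.isConj_z_of_no_index_two A hD (fun H => index_ne_two hK hna H) x hx
    have h2 := TwoFusion.DihedralFusion.isConj_z_of_no_index_two A hD (fun H => index_ne_two hK hna H) y hy
    exact h1.trans h2.symm
  have hhyp : ∀ y : K, orderOf y = 2 →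
      ∃ π : (Subgroup.centralizer ({y} : Set K)) →* DihedralGroup 2, BGHyp y 2 π := fun y hy =>
    BGStructure.exists_hyp A 1 le_rfl e2 hone y hy
  obtain ⟨π, h⟩ := hhyp a ha
  set k := (Ae h 0).ncard with hk
  -- Brauer's formula
  have hik : 3 * (k * k) < (Subgroup.centralizer ({a} : Set K)).index := by
    obtain ⟨f₁, f₂, f₃, a1, a2, a3, a4, a5, a6, a7, a8⟩ := four_formula' h A hAK
      (fun M hM ζ hζ h1 => eq_one_of_degree_one hK hna M hM ζ hζ h1)
    have hpos := (BGValues.kcount_pos h (two_dvd h)).1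
    rw [kcount_eq_ncard h, ← hk] at hpos
    have h3 := arith (a := ((Subgroup.centralizer ({a} : Set K)).index : ℤ)) (K := (k : ℤ) * k)
      (by positivity) a1 a2 a3 a4 a5 a6 a7 (by
        rw [a8, kcount_eq_ncard h, kcount_eq_ncard h, ncard_Ae_eq h 1 0, ← hk]
        ring)
    exact_mod_cast h3
  have hi := card_involutions a ha (fun x hx => hone a x ha hx)
  -- the even ones
  have heven : {d : K | orderOf d = 2 ∧ ¬ Odd (orderOf (a * d))}.ncard ≤ 2 * k * k := by
    have haa : a * a = 1 := by rw [← sq, ← ha]; exact pow_orderOf_eq_one a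
    have hsub : (Set.toFinite {d : K | orderOf d = 2 ∧ ¬ Odd (orderOf (a * d))}).toFinset ⊆
        (Set.toFinite (Iv a)).toFinset.biUnion
          (fun y => (Set.toFinite {d : K | orderOf d = 2 ∧ y ∈ Subgroup.zpowers (a * d)}).toFinset) := by
      intro d hd
      rw [Set.Finite.mem_toFinset] at hd
      obtain ⟨hd1, hd2⟩ := hd
      rw [Nat.not_odd_iff_even] at hd2
      have hdd : d * d = 1 := by rw [← sq, ← hd1]; exact pow_orderOf_eq_one d
      have hpos : 0 < orderOf (a * d) := orderOf_pos _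
      obtain ⟨m, hm⟩ := hd2
      have hm0 : 0 < m := by omega
      have hy : orderOf ((a * d) ^ m) = 2 := by
        rw [orderOf_pow, hm, ← two_mul, Nat.gcd_eq_right (Dvd.intro_left 2 rfl),
          Nat.mul_div_cancel _ hm0]
      have hyz : (a * d) ^ m ∈ Subgroup.zpowers (a * d) := Subgroup.npow_mem_zpowers _ m
      have hyy : (a * d) ^ m * (a * d) ^ m = 1 := by rw [← sq, ← hy]; exact pow_orderOf_eq_one _
      have hya : a * (a * d) ^ m = (a * d) ^ m * a := commute_of_mem_zpowers hyy haa hdd hyz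
      rw [Finset.mem_biUnion]
      refine ⟨(a * d) ^ m, ?_, ?_⟩
      · rw [Set.Finite.mem_toFinset]
        refine ⟨hy, hya.symm, ?_⟩
        intro e
        rw [e] at hyz
        -- `a` commutes with `d`, so `ad` has order two
        have h1 : a * (a * d) = a * d * a := by
          have h0 := (Commute.pow_self (a * d) m).eq
          rw [e] at h0
          exact h0
        have h2 : a * d = d * a := by
          have h3 := congrArg (a * ·) h1
          simp only [← mul_assoc, haa, one_mul] at h3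
          exact h3
        have h4 : a * d * (a * d) = 1 := by
          calc a * d * (a * d) = a * (d * a) * d := by group
            _ = a * (a * d) * d := by rw [h2]
            _ = (a * a) * (d * d) := by group
            _ = 1 := by rw [haa, hdd, one_mul]
        have h5 : orderOf (a * d) ∣ 2 := orderOf_dvd_of_pow_eq_one (by rw [sq]; exact h4)
        have h6 : m = 1 := by
          have := Nat.le_of_dvd (by norm_num) h5
          omega
        rw [h6, pow_one, mul_eq_left] at e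
        rw [e, orderOf_one] at hd1
        omega
      · rw [Set.Finite.mem_toFinset]
        exact ⟨hd1, hyz⟩
    have h1 : ((Set.toFinite (Iv a)).toFinset.biUnion
          (fun y => (Set.toFinite {d : K | orderOf d = 2 ∧ y ∈ Subgroup.zpowers (a * d)}).toFinset)).card ≤
        (Set.toFinite (Iv a)).toFinset.card * k := by
      refine Finset.card_biUnion_le_card_mul _ _ _ fun y hy => ?_
      rw [Set.Finite.mem_toFinset] at hy
      obtain ⟨πy, hπy⟩ := hhyp y hy.1
      rw [← Set.ncard_eq_toFinset_card]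
      refine (ncard_fibre hπy a ha (fun e => hy.2.2 e.symm)).trans (le_of_eq ?_)
      -- the numbers are the same for conjugate involutions
      obtain ⟨g, hg⟩ := isConj_iff.1 (hone a y ha hy.1)
      have e1 := ncard_Iv hπy 0
      have e2 := ncard_Iv h 0
      have e3 := ncard_Iv_conj a g
      rw [hg] at e3
      omega
    have h2 := (Finset.card_le_card hsub).trans h1
    rw [← Set.ncard_eq_toFinset_card, ← Set.ncard_eq_toFinset_card, ncard_Iv h 0, ← hk] at h2
    exact h2
  -- conclusion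
  have hsum : Nat.card {d : K // orderOf d = 2} ≤
      Nat.card {d : K // orderOf d = 2 ∧ Odd (orderOf (a * d))} +
        {d : K | orderOf d = 2 ∧ ¬ Odd (orderOf (a * d))}.ncard := by
    have e1 : Nat.card {d : K // orderOf d = 2} = {d : K | orderOf d = 2}.ncard := rfl
    have e2 : Nat.card {d : K // orderOf d = 2 ∧ Odd (orderOf (a * d))} =
      {d : K | orderOf d = 2 ∧ Odd (orderOf (a * d))}.ncard := rfl
    rw [e1, e2]
    refine (Set.ncard_le_ncard ?_ (Set.toFinite _)).trans (Set.ncard_union_le _ _)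
    intro d hd
    by_cases ho : Odd (orderOf (a * d))
    · exact Or.inl ⟨hd, ho⟩
    · exact Or.inr ⟨hd, ho⟩
  have h3 : 2 * k * k = 2 * (k * k) := by ring
  rw [h3] at heven
  omega

end Cfsg.Agent.TwoFusion.GoldFourCount
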