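import Cfsg.Agent.TwoFusion.GoldGlue
import Cfsg.Agent.TwoFusion.GoldCentre
import Cfsg.Agent.TwoFusion.GoldBalance

/-!
# Goldschmidt's theorem: the case `|A| ≥ 8`, everything except the case `J`
-/

set_option autoImplicit false
set_option linter.style.haveILetI false

namespace Cfsg.Agent.TwoFusion.GoldGlueC

open Subgroup
open Cfsg.Agent.TwoFusion.ClosedFam Cfsg.Agent.TwoFusion.Gold Cfsg.Agent.TwoFusion.GoldPairDefs
open Cfsg.Agent.TwoFusion.GoldSetup Cfsg.Agent.TwoFusion.GoldPairs Cfsg.Agent.TwoFusion.GoldCentreCompl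
open Cfsg.Agent.TwoFusion.GoldCentre Cfsg.Agent.TwoFusion.GoldGlue

universe u

variable {G : Type u} [Group G] [Finite G] {𝒜 : Set G}

/-- The glue data in the small case. -/
theorem glue_of_small (h : Setup 𝒜) (S : Sylow 2 G) (hB : Balance 𝒜 (fam 𝒜 (S : Subgroup G)))
    (hC : ConjPair 𝒜 (fam 𝒜 (S : Subgroup G)))
    (hne : ∃ (w : G) (L : Subgroup (Xw w)), IsPair 𝒜 (fam 𝒜 (S : Subgroup G)) w L)
    (hV : Nat.card (fam 𝒜 (S : Subgroup G)) ≤ qmax 𝒜 (fam 𝒜 (S : Subgroup G)) ^ 2) :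
    Glue 𝒜 (fam 𝒜 (S : Subgroup G)) (qmax 𝒜 (fam 𝒜 (S : Subgroup G))) (cls 𝒜 (fam 𝒜 (S : Subgroup G)))
      (KK 𝒜 (fam 𝒜 (S : Subgroup G))) := by
  refine ⟨canon h S hB hC hne hV, ?_, ?_⟩
  · obtain ⟨w, L, hp, hq⟩ := exists_eq_qmax hne
    rw [← hq]; exact GoldIdx.four_le h S hp
  rintro D hD d hd hd1
  obtain ⟨w, L, hp, rfl, hq⟩ := id hD
  obtain ⟨M, hM, hMD, -⟩ := balance' S hB hp hq hd hd1
  have hKK : KK 𝒜 (fam 𝒜 (S : Subgroup G)) (DD (fam 𝒜 (S : Subgroup G)) w L) =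
      cm (fam 𝒜 (S : Subgroup G)) (JJ (fam 𝒜 (S : Subgroup G)) d M) := by
    rw [← hMD]
    exact KK_eq h S hB hM (by rw [hMD]; exact hq)
  refine ⟨M, hM, hMD, fun a ha => ?_⟩
  rw [hKK] at ha
  have hle : cm (fam 𝒜 (S : Subgroup G)) (JJ (fam 𝒜 (S : Subgroup G)) d M) ≤
      (M.comap (pw d)).map (Cw d).subtype := by
    rw [cm, closure_le]
    rintro _ ⟨j, hj, b, hb, rfl⟩
    obtain ⟨-, hc, hm⟩ := comm_mem h S hM hj hb
    exact ⟨⟨_, hc⟩, hm, rfl⟩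
  obtain ⟨y, hy, rfl⟩ := hle ha
  exact ⟨y.2, hy⟩

/-- The case `|A| ≥ 8`, given the case `J`. -/
theorem tcon (h : Setup 𝒜) (S : Sylow 2 G) (h8 : 8 ≤ Nat.card (fam 𝒜 (S : Subgroup G)))
    (hOO : ∀ (H : Type u) [Group H] [Finite H], Odd (Nat.card H) → Group.IsSolvable H)
    (hSF : ∀ θ : G → Subgroup G, Cfsg.IsSignalizerFunctor 2 (fam 𝒜 (S : Subgroup G)) θ →
      (∀ a ∈ fam 𝒜 (S : Subgroup G), a ≠ 1 → Group.IsSolvable (θ a)) →
      ¬ 2 ∣ Nat.card ↥(⨆ a : {a : G // a ∈ fam 𝒜 (S : Subgroup G) ∧ a ≠ 1}, θ a))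
    (hcomplete : ClosedFunctor.Complete G) (hSE : SE1174 G)
    (hJ : ∀ K : Subgroup G → Subgroup G, JData 𝒜 (fam 𝒜 (S : Subgroup G)) K → TCon G) : TCon G :=
  GoldGlue.tcon h S h8 hOO hSF hcomplete hSE (GoldBalance.balance_of_setup h S)
    (fun hne hV => ⟨_, glue_of_small h S (GoldBalance.balance_of_setup h S) (GoldConjPair.conjPair h S) hne hV⟩)
    hJ

end Cfsg.Agent.TwoFusion.GoldGlueC
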