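import Cfsg.Agent.TwoFusion.GoldFour
import Cfsg.Agent.TwoFusion.FpfAbelian
import Cfsg.Agent.S0949
import Mathlib

/-!
# Goldschmidt's theorem, the case `|A| = 4`: the abelian case

If `|A| = 4`, `Ω₁(S) = A` and `S` is abelian then `S = A`: otherwise `S` is homocyclic of rank two and exponent at
least four, and Brauer's theorem (S0949) gives a contradiction.
-/

set_option autoImplicit false
set_option linter.style.haveILetI false

namespace Cfsg.Agent.TwoFusion.GoldHomo

open Subgroup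
open Cfsg.Agent.TwoFusion.ClosedFam Cfsg.Agent.TwoFusion.Gold Cfsg.Agent.TwoFusion.GoldSetup
open Cfsg.Agent.TwoFusion.GoldFour

universe u

variable {G : Type u} [Group G] [Finite G] {𝒜 : Set G}

/-- An element of `N(A) ∩ N(S)` acting on `A` without fixed points, of 3-power order. -/
theorem exists_three (h : Setup 𝒜) (S : Sylow 2 G) (h4 : Nat.card (fam 𝒜 (S : Subgroup G)) = 4) :
    ∃ (m : G) (a : ℕ), m ^ 3 ^ a = 1 ∧ m ∈ normalizer ((S : Subgroup G) : Set G) ∧
      m ∈ normalizer (fam 𝒜 (S : Subgroup G) : Set G) ∧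
      ∀ x ∈ fam 𝒜 (S : Subgroup G), m * x * m⁻¹ = x → x = 1 := by
  classical
  haveI : Fact (Nat.Prime 2) := ⟨Nat.prime_two⟩
  set A := fam 𝒜 (S : Subgroup G) with hA
  obtain ⟨x₀, hx₀⟩ := Subgroup.ne_bot_iff_exists_ne_one.1 (h.fam_ne_bot S)
  set x : G := (x₀ : G) with hx
  have hxA : x ∈ A := x₀.2
  have hx1 : x ≠ 1 := fun e => hx₀ (Subtype.ext e)
  obtain ⟨n, hn, hnx⟩ := exists_moved h S h4 hxA hx1
  -- Frattini in `N(A)`
  have hSC : (S : Subgroup G) ≤ centralizer (A : Set G) := by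
    intro s hs
    rw [mem_centralizer_iff]
    intro a ha
    exact (central h S h4 a ha s hs).symm
  have hnc : ∀ c ∈ centralizer (A : Set G), n * c * n⁻¹ ∈ centralizer (A : Set G) := by
    intro c hc
    rw [mem_centralizer_iff]
    intro a ha
    have h1 : n⁻¹ * a * n ∈ A := by
      have := (mem_normalizer_iff.1 (inv_mem hn) a).1 ha
      simpa using this
    have h2 := (mem_centralizer_iff.1 hc) _ h1
    calc a * (n * c * n⁻¹) = n * ((n⁻¹ * a * n) * c) * n⁻¹ := by group
      _ = n * (c * (n⁻¹ * a * n)) * n⁻¹ := by rw [h2]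
      _ = n * c * n⁻¹ * a := by group
  obtain ⟨c, hc, hcS⟩ : ∃ c ∈ centralizer (A : Set G),
      (S : Subgroup G).map (MulAut.conj (c * n)).toMonoidHom = S := by
    let C := centralizer (A : Set G)
    let S1 : Sylow 2 C := S.subtype hSC
    have hnS : (S : Subgroup G).map (MulAut.conj n).toMonoidHom ≤ C := by
      rintro _ ⟨s, hs, rfl⟩
      exact hnc s (hSC hs)
    let S2 : Sylow 2 C := (n • S).subtype (by
      intro y hy
      apply hnS
      obtain ⟨s, hs, e⟩ := hy
      exact ⟨s, hs, e⟩)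
    obtain ⟨c, hc⟩ := MulAction.exists_smul_eq C S2 S1
    refine ⟨c, c.2, ?_⟩
    have h1 : ((c • S2 : Sylow 2 C) : Subgroup C) = (S1 : Subgroup C) := by rw [hc]
    have h2 : ∀ y : G, y ∈ (S : Subgroup G) → (c : G) * n * y * ((c : G) * n)⁻¹ ∈ (S : Subgroup G) := by
      intro y hy
      have hyS2 : (⟨n * y * n⁻¹, hnc y (hSC hy)⟩ : C) ∈ (S2 : Subgroup C) := by
        change n * y * n⁻¹ ∈ ((n • S : Sylow 2 G) : Subgroup G)
        exact ⟨y, hy, rfl⟩
      have h3 : c * ⟨n * y * n⁻¹, hnc y (hSC hy)⟩ * c⁻¹ ∈ ((c • S2 : Sylow 2 C) : Subgroup C) :=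
        ⟨_, hyS2, rfl⟩
      rw [h1] at h3
      have h4 : ((c * ⟨n * y * n⁻¹, hnc y (hSC hy)⟩ * c⁻¹ : C) : G) ∈ (S : Subgroup G) := h3
      have e : ((c * ⟨n * y * n⁻¹, hnc y (hSC hy)⟩ * c⁻¹ : C) : G) =
          (c : G) * n * y * ((c : G) * n)⁻¹ := by
        simp only [Subgroup.coe_mul, Subgroup.coe_inv]
        group
      rwa [e] at h4
    apply Subgroup.eq_of_le_of_card_ge
    · rintro _ ⟨y, hy, rfl⟩
      exact h2 y hy
    · rw [Cfsg.Agent.Lib.GoldschmidtFusion.card_map_conj]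
  set m := c * n with hm
  have hcA : c ∈ normalizer (A : Set G) := centralizer_le_normalizer _ hc
  have hmA : m ∈ normalizer (A : Set G) := mul_mem hcA hn
  have hmS : m ∈ normalizer ((S : Subgroup G) : Set G) := by
    rw [Cfsg.Agent.Lib.GoldschmidtFusion.mem_normalizer_iff_map_conj]
    exact hcS
  have hmx : m * x * m⁻¹ = n * x * n⁻¹ := by
    have h1 : n * x * n⁻¹ ∈ A := (mem_normalizer_iff.1 hn x).1 hxA
    have h2 := (mem_centralizer_iff.1 hc) _ h1
    calc m * x * m⁻¹ = c * (n * x * n⁻¹) * c⁻¹ := by rw [hm]; group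
      _ = (n * x * n⁻¹) * c * c⁻¹ := by rw [h2]
      _ = n * x * n⁻¹ := by group
  have hmC : m ∉ centralizer (A : Set G) := by
    intro hmC
    apply hnx
    rw [← hmx, ← (mem_centralizer_iff.1 hmC) x hxA]
    group
  -- `m ^ 3` centralizes `A`
  have hconj : ∀ k : G, k ∈ normalizer (A : Set G) → ∀ y ∈ A, k * y * k⁻¹ ∈ A := fun k hk y hy =>
    (mem_normalizer_iff.1 hk y).1 hy
  have hm3 : m ^ 3 ∈ centralizer (A : Set G) := by
    set y := m * x * m⁻¹ with hy
    have hyA : y ∈ A := hconj m hmA x hxA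
    have hyx : y ≠ x := by rw [hmx]; exact hnx
    have hy1 : y ≠ 1 := by
      intro e
      apply hx1
      rw [hy, mul_inv_eq_one, mul_eq_left] at e
      exact e
    set z := m * y * m⁻¹ with hz
    have hzA : z ∈ A := hconj m hmA y hyA
    have hzy : z ≠ y := by
      intro e
      exact hmC (stab h S h4 hmA hyA hy1 e)
    have hz1 : z ≠ 1 := by
      intro e
      rw [hz, mul_inv_eq_one, mul_eq_left] at e
      exact hy1 e
    have hxx := h.sq S x hxA
    have hyy := h.sq S y hyA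
    have hxy := h.comm S x hxA y hyA
    -- `z ≠ x`
    have hzx : z ≠ x := by
      intro e
      have h1 : m * (x * y) * m⁻¹ = x * y := by
        calc m * (x * y) * m⁻¹ = (m * x * m⁻¹) * (m * y * m⁻¹) := by group
          _ = y * x := by rw [← hy, ← hz, e]
          _ = x * y := hxy.symm
      have h2 : x * y ≠ 1 := by
        intro e
        apply hyx
        have : y = x⁻¹ := (inv_eq_of_mul_eq_one_right e).symm
        rw [this]; exact inv_eq_of_mul_eq_one_left hxx
      exact hmC (stab h S h4 hmA (mul_mem hxA hyA) h2 h1)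
    have hzxy : z = x * y := by
      rcases exhaust h S h4 hxA hyA hzA hx1 hy1 (Ne.symm hyx) with e | e | e | e
      · exact absurd e hz1
      · exact absurd e hzx
      · exact absurd e hzy
      · exact e
    have hmz : m * z * m⁻¹ = x := by
      calc m * z * m⁻¹ = (m * x * m⁻¹) * (m * y * m⁻¹) := by rw [hzxy]; group
        _ = y * (x * y) := by rw [← hy, ← hz, hzxy]
        _ = x * (y * y) := by rw [← mul_assoc, ← hxy, mul_assoc]
        _ = x := by rw [hyy, mul_one]
    apply stab h S h4 (pow_mem hmA 3) hxA hx1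
    calc m ^ 3 * x * (m ^ 3)⁻¹ = m * (m * (m * x * m⁻¹) * m⁻¹) * m⁻¹ := by
          simp only [pow_succ, pow_zero, one_mul, mul_inv_rev, mul_assoc]
      _ = x := by rw [← hy, ← hz, hmz]
  -- the 3-part
  obtain ⟨a, k, hk, hak⟩ := Nat.exists_eq_pow_mul_and_not_dvd (orderOf_pos m).ne' 3 (by norm_num)
  refine ⟨m ^ k, a, ?_, pow_mem hmS k, pow_mem hmA k, ?_⟩
  · rw [← pow_mul, mul_comm, ← hak, pow_orderOf_eq_one]
  · intro y hy hfix
    by_contra hy1
    have h1 := stab h S h4 (pow_mem hmA k) hy hy1 hfix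
    apply hmC
    have hcop : Nat.Coprime 3 k := (Nat.Prime.coprime_iff_not_dvd Nat.prime_three).2 hk
    have h2 : (Int.gcd 3 k : ℤ) = 1 := by
      have : Int.gcd 3 k = Nat.gcd 3 k := by
        simp [Int.gcd]
      rw [this, hcop]
      rfl
    have h3 : (1 : ℤ) = 3 * Int.gcdA 3 k + k * Int.gcdB 3 k := by
      rw [← Int.gcd_eq_gcd_ab, h2]
    have h5 : m = (m ^ 3) ^ (Int.gcdA 3 k) * (m ^ k) ^ (Int.gcdB 3 k) := by
      rw [← zpow_natCast m 3, ← zpow_natCast m k, ← zpow_mul, ← zpow_mul, ← zpow_add]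
      conv_lhs => rw [← zpow_one m, h3]
      rfl
    rw [h5]
    exact mul_mem (zpow_mem hm3 _) (zpow_mem h1 _)

theorem false_of_abelian (h : Setup 𝒜) (S : Sylow 2 G) (h4 : Nat.card (fam 𝒜 (S : Subgroup G)) = 4)
    (hab : ∀ x ∈ (S : Subgroup G), ∀ y ∈ (S : Subgroup G), x * y = y * x)
    (hO : ∀ x ∈ (S : Subgroup G), x * x = 1 → x ∈ fam 𝒜 (S : Subgroup G))
    (hSA : ¬ (S : Subgroup G) ≤ fam 𝒜 (S : Subgroup G)) : False := by
  classical
  haveI : Fact (Nat.Prime 2) := ⟨Nat.prime_two⟩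
  obtain ⟨m, a, hm3, hmS, hmA, hfix⟩ := exists_three h S h4
  let _ : CommGroup (S : Subgroup G) :=
    { (inferInstance : Group (S : Subgroup G)) with
      mul_comm := fun x y => Subtype.ext (hab x x.2 y y.2) }
  have hcS : ∀ x ∈ (S : Subgroup G), m * x * m⁻¹ ∈ (S : Subgroup G) := fun x hx =>
    (mem_normalizer_iff.1 hmS x).1 hx
  let α : (S : Subgroup G) →* (S : Subgroup G) :=
    { toFun := fun x => ⟨m * x * m⁻¹, hcS x x.2⟩
      map_one' := Subtype.ext (by simp)
      map_mul' := fun x y => Subtype.ext (by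
        change m * ((x : G) * y) * m⁻¹ = (m * x * m⁻¹) * (m * y * m⁻¹)
        group) }
  have hα : ∀ x, ((α x : (S : Subgroup G)) : G) = m * x * m⁻¹ := fun x => rfl
  have hiter : ∀ (k : ℕ) (x : (S : Subgroup G)), ((α^[k] x : (S : Subgroup G)) : G) = m ^ k * x * (m ^ k)⁻¹ := by
    intro k
    induction k with
    | zero => intro x; simp
    | succ k ih =>
      intro x
      rw [Function.iterate_succ_apply, ih, hα, pow_succ]
      group
  have hfpf : FpfPowBasic.FpfPow α a := by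
    constructor
    · intro x
      apply Subtype.ext
      rw [hiter, hm3]; simp
    · intro x hx
      by_contra hx1
      obtain ⟨i, hi1, hi2⟩ := Cfsg.Agent.TwoFusion.FpfPowBasic.exists_step S.isPGroup' (fun y => y = 1) rfl hx1
      set s := x ^ 2 ^ i with hs'
      have hs : (s : G) * (s : G) = 1 := by
        have := congrArg Subtype.val hi2
        simpa [pow_two] using this
      have h1 : (s : G) ∈ fam 𝒜 (S : Subgroup G) := hO s s.2 hs
      have h2 : m * (s : G) * m⁻¹ = s := by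
        rw [← hα, hs', map_pow, hx]
      exact hi1 (Subtype.ext (hfix _ h1 h2))
  have hcard : Nat.card {x : (S : Subgroup G) // x ^ 2 = 1} ≤ 4 := by
    rw [← h4]
    apply Nat.card_le_card_of_injective
      (fun x : {x : (S : Subgroup G) // x ^ 2 = 1} => (⟨((x : (S : Subgroup G)) : G), hO _ x.1.2 (by
        have := congrArg Subtype.val x.2
        simpa [pow_two] using this)⟩ : fam 𝒜 (S : Subgroup G)))
    intro x y hxy
    have := Subtype.mk.inj hxy
    exact Subtype.ext (Subtype.ext this)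
  obtain ⟨n, ⟨e⟩⟩ := FpfAbelian.exists_mulEquiv (A := (S : Subgroup G)) S.isPGroup' hfpf hcard
  have hcS4 : Nat.card (S : Subgroup G) = 2 ^ n * 2 ^ n := by
    rw [Nat.card_congr e.toEquiv]
    show Nat.card (ZMod (2 ^ n) × ZMod (2 ^ n)) = _
    rw [Nat.card_prod, Nat.card_zmod]
  have hlt : 4 < Nat.card (S : Subgroup G) := by
    by_contra hle
    apply hSA
    have hle' : fam 𝒜 (S : Subgroup G) ≤ S := fam_le _ _
    exact (Subgroup.eq_of_le_of_card_ge hle' (by rw [h4]; omega)).ge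
  have hn : 2 ≤ n := by
    by_contra hn
    have : n = 0 ∨ n = 1 := by omega
    rcases this with hn0 | hn0
    · rw [hn0] at hcS4
      have h5 : (2 ^ 0 * 2 ^ 0 : ℕ) = 1 := by norm_num
      rw [h5] at hcS4
      omega
    · rw [hn0] at hcS4
      have h5 : (2 ^ 1 * 2 ^ 1 : ℕ) = 4 := by norm_num
      rw [h5] at hcS4
      omega
  haveI := h.simple
  have hSodd : 2 ∣ Nat.card (S : Subgroup G) := by
    rw [hcS4]
    exact dvd_mul_of_dvd_left (dvd_pow_self 2 (by omega)) _
  have hres := Cfsg.Agent.S0949.result S n hn e (by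
    intro N hN hodd
    rcases IsSimpleGroup.eq_bot_or_eq_top_of_normal N hN with hb | ht
    · exact hb
    · exfalso
      rw [ht, card_top] at hodd
      have : 2 ∣ Nat.card G := hSodd.trans (Subgroup.card_subgroup_dvd_card _)
      exact (Nat.not_even_iff_odd.2 hodd) (even_iff_two_dvd.2 this))
  rcases IsSimpleGroup.eq_bot_or_eq_top_of_normal _ hres.1 with hb | ht
  · rw [hb, Subgroup.card_bot] at hlt
    omega
  · obtain ⟨x, y, hxy⟩ := h.nonab
    apply hxy
    apply hab
    · rw [ht]; exact mem_top x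
    · rw [ht]; exact mem_top y

/-- The case `|A| = 4`, assembled from the nonabelian case with `Ω₁(S) = A` (M1) and the case of an
involution in `S - A` (M2). -/
theorem tcon (h : Setup 𝒜) (S : Sylow 2 G) (h4 : Nat.card (fam 𝒜 (S : Subgroup G)) = 4)
    (hM1 : (∀ x ∈ (S : Subgroup G), x * x = 1 → x ∈ fam 𝒜 (S : Subgroup G)) →
      (∃ x ∈ (S : Subgroup G), ∃ y ∈ (S : Subgroup G), x * y ≠ y * x) → False)
    (hM2 : ∀ t ∈ (S : Subgroup G), t * t = 1 → t ∉ fam 𝒜 (S : Subgroup G) → False) : TCon G := by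
  have hO : ∀ x ∈ (S : Subgroup G), x * x = 1 → x ∈ fam 𝒜 (S : Subgroup G) := by
    intro x hx hxx
    by_contra hxA
    exact hM2 x hx hxx hxA
  by_cases hSA : (S : Subgroup G) ≤ fam 𝒜 (S : Subgroup G)
  · refine h.tcon_of_eq S hSA ?_
    intro x hx y hy hx1 hy1
    obtain ⟨n, -, hn⟩ := trans h S h4 hx hy hx1 hy1
    exact ⟨n, hn⟩
  · exfalso
    by_cases hab : ∀ x ∈ (S : Subgroup G), ∀ y ∈ (S : Subgroup G), x * y = y * x
    · exact false_of_abelian h S h4 hab hO hSA
    · push Not at hab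
      exact hM1 hO hab

end Cfsg.Agent.TwoFusion.GoldHomo
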