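import Cfsg.Agent.TwoFusion.GoldLin

/-!
# Case (J) of Goldschmidt's theorem

An odd order (solvable) group `Q` acting faithfully and transitively on the nonzero vectors of an
elementary abelian 2-group `W` of order `2 q`, such that the stabiliser of some `v` is transitive
on the nonzero vectors of a complement of `v`: then `q = 4`.
-/

set_option autoImplicit false
set_option linter.unusedSectionVars false

open scoped Pointwise

namespace Cfsg.Agent.TwoFusion.GoldJ

theorem exists_abelian_normal (Q : Type*) [Group Q] [Group.IsSolvable Q] [Nontrivial Q] :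
    ∃ F : Subgroup Q, F.Normal ∧ F ≠ ⊥ ∧ ∀ x ∈ F, ∀ y ∈ F, x * y = y * x := by
  classical
  have hex : ∃ n, derivedSeries Q n = ⊥ := Group.IsSolvable.solvable
  obtain ⟨k, hk⟩ : ∃ k, Nat.find hex = k + 1 := by
    refine Nat.exists_eq_succ_of_ne_zero ?_
    intro h0
    have := Nat.find_spec hex
    rw [h0, derivedSeries_zero] at this
    exact absurd this top_ne_bot
  refine ⟨derivedSeries Q k, inferInstance, ?_, ?_⟩
  · exact Nat.find_min hex (by omega)
  · have h1 := Nat.find_spec hex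
    rw [hk, derivedSeries_succ, Subgroup.commutator_eq_bot_iff_le_centralizer] at h1
    intro x hx y hy
    exact (Subgroup.mem_centralizer_iff.1 (h1 hx) y hy).symm

section Field

variable {Q W : Type*} [Group Q] [AddCommGroup W] [DistribMulAction Q W]

/-- The field `F ∪ {0}` inside the endomorphism ring. -/
def fieldRing (F : Subgroup Q) (hF : ∀ x ∈ F, ∀ y ∈ F, x * y = y * x) (v : W)
    (htr : ∀ x : W, x ≠ 0 → ∃ f ∈ F, f • v = x) (h2 : ∀ x : W, x + x = 0) :
    Subring (AddMonoid.End W) where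
  carrier := {k | k = 0 ∨ ∃ f ∈ F, k = DistribMulAction.toAddMonoidEnd Q W f}
  mul_mem' := by
    rintro a b (rfl | ⟨f, hf, rfl⟩) (rfl | ⟨f', hf', rfl⟩)
    · left; exact zero_mul _
    · left; exact zero_mul _
    · left; exact mul_zero _
    · right; exact ⟨f * f', F.mul_mem hf hf', by rw [map_mul]⟩
  one_mem' := Or.inr ⟨1, F.one_mem, by rw [map_one]⟩
  add_mem' := by
    rintro a b (rfl | ⟨f, hf, rfl⟩) (rfl | ⟨f', hf', rfl⟩)
    · left; exact add_zero _
    · right; exact ⟨f', hf', zero_add _⟩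
    · right; exact ⟨f, hf, add_zero _⟩
    · by_cases hw : f • v + f' • v = 0
      · left
        ext x
        change f • x + f' • x = 0
        by_cases hx : x = 0
        · rw [hx, smul_zero, smul_zero, add_zero]
        · obtain ⟨e, he, rfl⟩ := htr x hx
          rw [← mul_smul, ← mul_smul, hF f hf e he, hF f' hf' e he, mul_smul, mul_smul, ← smul_add,
            hw, smul_zero]
      · obtain ⟨e, he, hev⟩ := htr _ hw
        right
        refine ⟨e, he, ?_⟩
        ext x
        change f • x + f' • x = e • x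
        by_cases hx : x = 0
        · rw [hx, smul_zero, smul_zero, smul_zero, add_zero]
        · obtain ⟨c, hc, rfl⟩ := htr x hx
          rw [← mul_smul, ← mul_smul, ← mul_smul, hF f hf c hc, hF f' hf' c hc, hF e he c hc,
            mul_smul, mul_smul, mul_smul, ← smul_add, hev]
  zero_mem' := Or.inl rfl
  neg_mem' := by
    intro a ha
    have : -a = a := by
      ext x
      change -(a x) = a x
      exact neg_eq_of_add_eq_zero_left (h2 _)
    rw [this]; exact ha

theorem mem_fieldRing {F : Subgroup Q} {hF : ∀ x ∈ F, ∀ y ∈ F, x * y = y * x} {v : W}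
    {htr : ∀ x : W, x ≠ 0 → ∃ f ∈ F, f • v = x} {h2 : ∀ x : W, x + x = 0} {k : AddMonoid.End W} :
    k ∈ fieldRing F hF v htr h2 ↔
      k = 0 ∨ ∃ f ∈ F, k = DistribMulAction.toAddMonoidEnd Q W f := Iff.rfl

/-- The stabiliser of a vector has order at most `m`. -/
theorem card_stab_le [Finite W] [FaithfulSMul Q W] (F : Subgroup Q) (hFn : F.Normal)
    (hF : ∀ x ∈ F, ∀ y ∈ F, x * y = y * x) (v : W) (hv : v ≠ 0)
    (htr : ∀ x : W, x ≠ 0 → ∃ f ∈ F, f • v = x) (h2 : ∀ x : W, x + x = 0) (m : ℕ)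
    (hm : Nat.card W = 2 ^ m) : Nat.card (MulAction.stabilizer Q v) ≤ m := by
  classical
  set ρ := DistribMulAction.toAddMonoidEnd Q W with hρ
  have hρa : ∀ (g : Q) (x : W), ρ g x = g • x := fun _ _ => rfl
  set K := fieldRing F hF v htr h2 with hK
  have hcomm : ∀ a b : K, a * b = b * a := by
    rintro ⟨a, ha⟩ ⟨b, hb⟩
    apply Subtype.ext
    change a * b = b * a
    rcases mem_fieldRing.1 ha with rfl | ⟨f, hf, rfl⟩
    · rw [zero_mul, mul_zero]
    rcases mem_fieldRing.1 hb with rfl | ⟨f', hf', rfl⟩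
    · rw [zero_mul, mul_zero]
    · rw [← map_mul, ← map_mul, hF f hf f' hf']
  let _ : CommRing K := { (inferInstance : Ring K) with mul_comm := hcomm }
  have hnt : Nontrivial K := by
    refine ⟨⟨0, 1, ?_⟩⟩
    intro e
    have e' : (0 : AddMonoid.End W) = 1 := congrArg Subtype.val e
    have := DFunLike.congr_fun e' v
    exact hv this.symm
  have hunit : ∀ a : K, IsUnit a ∨ a = 0 := by
    rintro ⟨a, ha⟩
    rcases mem_fieldRing.1 ha with rfl | ⟨f, hf, rfl⟩
    · right; rfl
    · left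
      refine ⟨⟨⟨ρ f, ha⟩, ⟨ρ f⁻¹, Or.inr ⟨f⁻¹, F.inv_mem hf, rfl⟩⟩, ?_, ?_⟩, rfl⟩
      · apply Subtype.ext
        change ρ f * ρ f⁻¹ = 1
        rw [← map_mul, mul_inv_cancel, map_one]
      · apply Subtype.ext
        change ρ f⁻¹ * ρ f = 1
        rw [← map_mul, inv_mul_cancel, map_one]
  let _ : Field K := Field.ofIsUnitOrEqZero hunit
  have hchar : CharP K 2 := by
    refine CharTwo.of_one_ne_zero_of_two_eq_zero one_ne_zero ?_
    apply Subtype.ext
    ext x
    change ((2 : K) : AddMonoid.End W) x = 0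
    have : ((2 : K) : AddMonoid.End W) = 1 + 1 := by
      rw [← one_add_one_eq_two]; rfl
    rw [this]
    exact h2 x
  let _ : Algebra (ZMod 2) K := ZMod.algebra K 2
  have hfinK : Finite K := by
    refine Finite.of_injective (fun k : K => (k : AddMonoid.End W) v) ?_
    rintro ⟨a, ha⟩ ⟨b, hb⟩ e
    have e' : a v = b v := e
    apply Subtype.ext
    change a = b
    have hab : a - b ∈ K := K.sub_mem ha hb
    have h0 : (a - b) v = 0 := by
      change a v - b v = 0
      rw [e', sub_self]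
    rcases mem_fieldRing.1 hab with h1 | ⟨f, hf, h1⟩
    · exact sub_eq_zero.1 h1
    · exfalso
      rw [h1] at h0
      have h3 : f • v = 0 := h0
      apply hv
      rw [← inv_smul_smul f v, h3, smul_zero]
  have hcardK : Nat.card K = Nat.card W := by
    refine Nat.card_congr (Equiv.ofBijective (fun k : K => (k : AddMonoid.End W) v) ⟨?_, ?_⟩)
    · rintro ⟨a, ha⟩ ⟨b, hb⟩ e
      have e' : a v = b v := e
      apply Subtype.ext
      change a = b
      have hab : a - b ∈ K := K.sub_mem ha hb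
      have h0 : (a - b) v = 0 := by
        change a v - b v = 0
        rw [e', sub_self]
      rcases mem_fieldRing.1 hab with h1 | ⟨f, hf, h1⟩
      · exact sub_eq_zero.1 h1
      · exfalso
        rw [h1] at h0
        have h3 : f • v = 0 := h0
        apply hv
        rw [← inv_smul_smul f v, h3, smul_zero]
    · intro x
      by_cases hx : x = 0
      · exact ⟨0, by rw [hx]; rfl⟩
      · obtain ⟨f, hf, e⟩ := htr x hx
        exact ⟨⟨ρ f, Or.inr ⟨f, hf, rfl⟩⟩, e⟩
  have hfr : Module.finrank (ZMod 2) K = m := by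
    have h1 := Module.natCard_eq_pow_finrank (K := ZMod 2) (V := K)
    rw [hcardK, hm, Nat.card_zmod] at h1
    exact (Nat.pow_right_injective le_rfl h1).symm
  rw [← hfr]
  refine le_trans ?_ (card_algHom_le_finrank (ZMod 2) K K)
  -- the conjugation homomorphism
  have hconj : ∀ (g : Q) (k : AddMonoid.End W), k ∈ K → ρ g * k * ρ g⁻¹ ∈ K := by
    intro g k hk
    rcases mem_fieldRing.1 hk with rfl | ⟨f, hf, rfl⟩
    · left; simp
    · right
      exact ⟨g * f * g⁻¹, hFn.conj_mem f hf g, by rw [map_mul, map_mul]⟩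
  have hgg : ∀ g : Q, ρ g⁻¹ * ρ g = 1 := by
    intro g; rw [← map_mul, inv_mul_cancel, map_one]
  have hgg' : ∀ g : Q, ρ g * ρ g⁻¹ = 1 := by
    intro g; rw [← map_mul, mul_inv_cancel, map_one]
  let c : Q → (K →+* K) := fun g =>
    { toFun := fun k => ⟨ρ g * k * ρ g⁻¹, hconj g k k.2⟩
      map_one' := by
        apply Subtype.ext
        change ρ g * 1 * ρ g⁻¹ = 1
        rw [mul_one, hgg']
      map_mul' := by
        rintro ⟨a, ha⟩ ⟨b, hb⟩
        apply Subtype.ext
        change ρ g * (a * b) * ρ g⁻¹ = (ρ g * a * ρ g⁻¹) * (ρ g * b * ρ g⁻¹)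
        calc ρ g * (a * b) * ρ g⁻¹ = ρ g * a * 1 * b * ρ g⁻¹ := by
              rw [mul_one]; simp only [mul_assoc]
          _ = _ := by rw [← hgg g]; simp only [mul_assoc]
      map_zero' := by
        apply Subtype.ext
        change ρ g * 0 * ρ g⁻¹ = 0
        rw [mul_zero, zero_mul]
      map_add' := by
        rintro ⟨a, ha⟩ ⟨b, hb⟩
        apply Subtype.ext
        change ρ g * (a + b) * ρ g⁻¹ = (ρ g * a * ρ g⁻¹) + (ρ g * b * ρ g⁻¹)
        rw [mul_add, add_mul] }
  let c' : Q → (K →ₐ[ZMod 2] K) := fun g =>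
    { c g with
      commutes' := fun r => by
        have : (c g).comp (algebraMap (ZMod 2) K) = algebraMap (ZMod 2) K := Subsingleton.elim _ _
        exact DFunLike.congr_fun this r }
  have hfin2 : Finite (K →ₐ[ZMod 2] K) := by
    exact Finite.of_injective (fun (f : K →ₐ[ZMod 2] K) => (f : K → K)) DFunLike.coe_injective
  refine Nat.card_le_card_of_injective (fun g : MulAction.stabilizer Q v => c' g) ?_
  rintro ⟨g, hg⟩ ⟨g', hg'⟩ e
  have e1 : ∀ f ∈ F, ρ g * ρ f * ρ g⁻¹ = ρ g' * ρ f * ρ g'⁻¹ := by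
    intro f hf
    have := DFunLike.congr_fun (F := K →ₐ[ZMod 2] K) e ⟨ρ f, Or.inr ⟨f, hf, rfl⟩⟩
    exact congrArg Subtype.val this
  apply Subtype.ext
  change g = g'
  apply FaithfulSMul.eq_of_smul_eq_smul (α := W)
  intro x
  have hg1 : g⁻¹ • v = v := by rw [inv_smul_eq_iff]; exact hg.symm
  have hg2 : g'⁻¹ • v = v := by rw [inv_smul_eq_iff]; exact hg'.symm
  by_cases hx : x = 0
  · rw [hx, smul_zero, smul_zero]
  · obtain ⟨f, hf, rfl⟩ := htr x hx
    have h3 := DFunLike.congr_fun (e1 f hf) v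
    change g • f • g⁻¹ • v = g' • f • g'⁻¹ • v at h3
    rwa [hg1, hg2] at h3


/-- The core of case (J). -/
theorem card_eq_eight [Finite Q] [Finite W] [FaithfulSMul Q W] (hodd : Odd (Nat.card Q))
    (hsol : Group.IsSolvable Q) (htr : ∀ x y : W, x ≠ 0 → y ≠ 0 → ∃ g : Q, g • x = y)
    (v : W) (hv : v ≠ 0) (A : AddSubgroup W) {q : ℕ} (hAq : Nat.card A = q) (hq2 : 2 < q)
    (hW : Nat.card W = 2 * q) (hvA : v ∉ A)
    (hst : ∀ a ∈ A, ∀ b ∈ A, a ≠ 0 → b ≠ 0 → ∃ g : Q, g • v = v ∧ g • a = b) : q = 4 := by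
  classical
  -- `W` is elementary abelian
  have h2 : ∀ x : W, x + x = 0 := by
    obtain ⟨w, hw⟩ := exists_prime_addOrderOf_dvd_card' (G := W) 2 (by rw [hW]; exact dvd_mul_right 2 q)
    have hw0 : w ≠ 0 := by
      rintro rfl
      rw [addOrderOf_zero] at hw
      exact absurd hw (by norm_num)
    have hww : w + w = 0 := by
      have := addOrderOf_nsmul_eq_zero w
      rwa [hw, two_nsmul] at this
    intro x
    by_cases hx : x = 0
    · rw [hx, add_zero]
    · obtain ⟨g, hg⟩ := htr w x hw0 hx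
      rw [← hg, ← smul_add, hww, smul_zero]
  obtain ⟨m, hm⟩ : ∃ m, Nat.card W = 2 ^ m := by
    have h3 : IsPGroup 2 (Multiplicative W) := by
      intro x
      refine ⟨1, ?_⟩
      rw [pow_one, sq]
      exact h2 (Multiplicative.toAdd x)
    obtain ⟨m, hm⟩ := IsPGroup.iff_card.1 h3
    exact ⟨m, hm⟩
  have hqe : Even q := by
    -- q = 2^(m-1)
    rcases m with _ | _ | m
    · rw [hm] at hW; omega
    · rw [hm] at hW; omega
    · rw [hm, pow_succ, pow_succ] at hW
      exact ⟨2 ^ m, by omega⟩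
  -- cosets
  have hcos : ∀ x : W, x ∈ A ∨ x - v ∈ A := by
    have hidx : A.index = 2 := by
      have h3 := A.card_mul_index
      rw [hAq, hW, mul_comm 2 q] at h3
      exact Nat.eq_of_mul_eq_mul_left (by omega) h3
    intro x
    by_cases hx : x ∈ A
    · exact Or.inl hx
    · right
      have := (AddSubgroup.add_mem_iff_of_index_two hidx (a := x) (b := -v)).2
      rw [sub_eq_add_neg]
      apply this
      rw [neg_mem_iff]
      exact iff_of_false hx hvA
  have hnt : Nontrivial Q := by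
    obtain ⟨a, ha, ha0⟩ : ∃ a ∈ A, a ≠ 0 := by
      by_contra hcon
      push Not at hcon
      have : A = ⊥ := (AddSubgroup.eq_bot_iff_forall A).2 hcon
      rw [this, AddSubgroup.card_bot] at hAq
      omega
    obtain ⟨g, hg⟩ := htr v a hv ha0
    refine ⟨⟨g, 1, ?_⟩⟩
    rintro rfl
    rw [one_smul] at hg
    exact hvA (hg ▸ ha)
  obtain ⟨F, hFn, hF1, hFc⟩ := exists_abelian_normal Q
  -- the orbit of `v`
  set B : Set W := {x | ∃ f ∈ F, f • v = x} with hB
  have hBstab : ∀ g : Q, g • v = v → ∀ x ∈ B, g • x ∈ B := by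
    rintro g hg x ⟨f, hf, rfl⟩
    refine ⟨g * f * g⁻¹, hFn.conj_mem f hf g, ?_⟩
    have hg1 : g⁻¹ • v = v := by rw [inv_smul_eq_iff]; exact hg.symm
    rw [mul_smul, mul_smul, hg1]
  have hB0 : ∀ x ∈ B, x ≠ 0 := by
    rintro x ⟨f, hf, rfl⟩ e
    apply hv
    rw [← inv_smul_smul f v, e, smul_zero]
  have hvB : v ∈ B := ⟨1, F.one_mem, one_smul _ _⟩
  have hBodd : Odd (B.ncard) := by
    have e : B = MulAction.orbit F v := by
      ext x
      constructor
      · rintro ⟨f, hf, rfl⟩; exact ⟨⟨f, hf⟩, rfl⟩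
      · rintro ⟨⟨f, hf⟩, rfl⟩; exact ⟨f, hf, rfl⟩
    rw [e, ← MulAction.index_stabilizer]
    exact (hodd.of_dvd_nat (F.card_subgroup_dvd_card)).of_dvd_nat
      (Subgroup.index_dvd_card _)
  obtain ⟨x₀, hx₀, hx₀v⟩ : ∃ x ∈ B, x ≠ v := by
    by_contra hcon
    push Not at hcon
    apply hF1
    rw [Subgroup.eq_bot_iff_forall]
    intro f hf
    apply FaithfulSMul.eq_of_smul_eq_smul (α := W)
    intro x
    rw [one_smul]
    by_cases hx : x = 0
    · rw [hx, smul_zero]
    · obtain ⟨g, rfl⟩ := htr v x hv hx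
      have h3 : (g⁻¹ * f * g) • v = v := by
        apply hcon
        refine ⟨g⁻¹ * f * g, ?_, rfl⟩
        have := hFn.conj_mem f hf g⁻¹
        rwa [inv_inv] at this
      rw [mul_smul, mul_smul, inv_smul_eq_iff] at h3
      exact h3
  have hA1 : ∀ a ∈ A, a ≠ 0 → a ∈ B → ∀ b ∈ A, b ≠ 0 → b ∈ B := by
    intro a ha ha0 haB b hb hb0
    obtain ⟨g, hg, hgab⟩ := hst a ha b hb ha0 hb0
    rw [← hgab]; exact hBstab g hg a haB
  have hA2 : ∀ a ∈ A, a ≠ 0 → v + a ∈ B → ∀ b ∈ A, b ≠ 0 → v + b ∈ B := by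
    intro a ha ha0 haB b hb hb0
    obtain ⟨g, hg, hgab⟩ := hst a ha b hb ha0 hb0
    have h3 := hBstab g hg _ haB
    rwa [smul_add, hg, hgab] at h3
  have hcA : (A : Set W).ncard = q := hAq
  have hall : ∀ x : W, x ≠ 0 → x ∈ B := by
    have ha : ∃ a ∈ A, a ≠ 0 ∧ a ∈ B := by
      by_contra hna
      push Not at hna
      have hb : ∃ a ∈ A, a ≠ 0 ∧ v + a ∈ B := by
        rcases hcos x₀ with h3 | h3
        · exact absurd hx₀ (hna x₀ h3 (hB0 x₀ hx₀))
        · exact ⟨x₀ - v, h3, sub_ne_zero.2 hx₀v, by rw [add_sub_cancel]; exact hx₀⟩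
      obtain ⟨a, haA, ha0, haB⟩ := hb
      have e : B = (fun x => v + x) '' (A : Set W) := by
        ext x
        constructor
        · intro hx
          rcases hcos x with h3 | h3
          · exact absurd hx (hna x h3 (hB0 x hx))
          · exact ⟨x - v, h3, add_sub_cancel v x⟩
        · rintro ⟨b, hb, rfl⟩
          by_cases hb0 : b = 0
          · change v + b ∈ B
            rw [hb0, add_zero]; exact hvB
          · exact hA2 a haA ha0 haB b hb hb0
      rw [e, Set.ncard_image_of_injective _ (add_right_injective v), hcA] at hBodd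
      exact (Nat.not_odd_iff_even.2 hqe) hBodd
    have hb : ∃ a ∈ A, a ≠ 0 ∧ v + a ∈ B := by
      by_contra hnb
      push Not at hnb
      obtain ⟨a, haA, ha0, haB⟩ := ha
      have e : B = insert v ((A : Set W) \ {0}) := by
        ext x
        constructor
        · intro hx
          by_cases hxv : x = v
          · exact Or.inl hxv
          · right
            rcases hcos x with h3 | h3
            · exact ⟨h3, hB0 x hx⟩
            · exact absurd (by rw [add_sub_cancel]; exact hx) (hnb (x - v) h3 (sub_ne_zero.2 hxv))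
        · rintro (rfl | ⟨hx, hx0⟩)
          · exact hvB
          · exact hA1 a haA ha0 haB x hx hx0
      rw [e, Set.ncard_insert_of_notMem (fun h => hvA h.1),
        Set.ncard_sdiff_singleton_add_one (zero_mem A) (Set.toFinite _), hcA] at hBodd
      exact (Nat.not_odd_iff_even.2 hqe) hBodd
    obtain ⟨a, haA, ha0, haB⟩ := ha
    obtain ⟨b, hbA, hb0, hbB⟩ := hb
    intro x hx
    rcases hcos x with h3 | h3
    · exact hA1 a haA ha0 haB x h3 hx
    · by_cases hxv : x = v
      · rw [hxv]; exact hvB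
      · have := hA2 b hbA hb0 hbB (x - v) h3 (sub_ne_zero.2 hxv)
        rwa [add_sub_cancel] at this
  have hle := card_stab_le F hFn hFc v hv hall h2 m hm
  obtain ⟨a₀, ha₀, ha₀0⟩ : ∃ a ∈ A, a ≠ 0 := by
    by_contra hcon
    push Not at hcon
    have : A = ⊥ := (AddSubgroup.eq_bot_iff_forall A).2 hcon
    rw [this, AddSubgroup.card_bot] at hAq
    omega
  have hge : q ≤ Nat.card (MulAction.stabilizer Q v) + 1 := by
    have h3 : ((A : Set W) \ {0}).ncard + 1 = q := by
      rw [Set.ncard_sdiff_singleton_add_one (zero_mem A) (Set.toFinite _), hcA]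
    rw [← h3]
    apply Nat.succ_le_succ
    have h4 : ∀ b : ((A : Set W) \ {0} : Set W), ∃ g : Q, g • v = v ∧ g • a₀ = b := by
      rintro ⟨b, hb, hb0⟩
      exact hst a₀ ha₀ b hb ha₀0 hb0
    choose f hf1 hf2 using h4
    refine Nat.card_le_card_of_injective
      (fun b : ((A : Set W) \ {0} : Set W) => (⟨f b, hf1 b⟩ : MulAction.stabilizer Q v)) ?_
    intro b b' e
    have e' : f b = f b' := congrArg Subtype.val e
    apply Subtype.ext
    rw [← hf2 b, ← hf2 b', e']
  -- arithmetic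
  rw [hm] at hW
  obtain ⟨k, rfl⟩ : ∃ k, m = k + 1 := Nat.exists_eq_succ_of_ne_zero (by rintro rfl; omega)
  have hqk : q = 2 ^ k := by rw [pow_succ] at hW; omega
  have hk : k < 3 := by
    by_contra hk3
    push Not at hk3
    have h5 : k + 2 < 2 ^ k := by
      obtain ⟨j, rfl⟩ : ∃ j, k = j + 3 := ⟨k - 3, by omega⟩
      clear * -
      induction j with
      | zero => norm_num
      | succ n ih => rw [show n + 1 + 3 = (n + 3) + 1 from rfl, pow_succ]; omega
    omega
  have hk2 : 2 ≤ k := by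
    by_contra hk2
    push Not at hk2
    interval_cases k
    · omega
    · omega
  have : k = 2 := by omega
  rw [hqk, this]
  norm_num

end Field

section Main

open GoldLin

variable {Γ V : Type*} [Group Γ] [CommGroup V] [MulDistribMulAction Γ V]
  {P : Set (Subgroup V × Subgroup V)} {q : ℕ}

/-- Case (J) of the linear algebra step, with all the information: the family is a spread by
subgroups of order two and the relation `m.2 ≤ p.1` is a tournament. -/
theorem gold_J [Finite V] (h : Fam Γ P q) (h2 : IsPGroup 2 V) (hirr : Fam.Irr Γ V)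
    (hidx : ∀ N : Subgroup Γ, (MulDistribMulAction.toMulAut Γ V).ker ≤ N → N.index ≠ 2)
    (hne : P.Nonempty) (hV : Nat.card V ≤ q ^ 2) :
    (∀ v : V, v ≠ 1 → ∃ p ∈ P, v ∈ p.2) ∧ (∀ p ∈ P, ∀ m ∈ P, p ≠ m → p.2 ⊓ m.2 = ⊥) ∧
      (∀ p ∈ P, Nat.card p.2 = 2) ∧ Nat.card V = 2 * q ∧
      Odd (Nat.card (MulDistribMulAction.toMulAut Γ V).range) ∧
      (∀ x y : V, x ≠ 1 → y ≠ 1 → ∃ g : Γ, g • x = y) ∧
      (∀ p ∈ P, ∀ m ∈ P, m.2 ≤ p.1 → ¬ p.2 ≤ m.1) ∧
      (∀ p ∈ P, ∀ m ∈ P, p ≠ m → ¬ p.2 ≤ m.1 → m.2 ≤ p.1) := by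
  obtain ⟨p₀, hp₀⟩ := hne
  have hsub : MulAction.orbit Γ p₀ ⊆ P := by
    rintro n ⟨g, rfl⟩
    exact h.inv g p₀ hp₀
  have h' : Fam Γ (MulAction.orbit Γ p₀) q := by
    refine h.mono hsub ?_
    rintro g n ⟨k, rfl⟩
    exact ⟨g * k, mul_smul g k p₀⟩
  have hDj' : Disj (MulAction.orbit Γ p₀) := h'.disj_of_le hV
  have hU' := h'.inU_of_ne_one h2 hDj' hirr hidx (MulAction.mem_orbit_self p₀) rfl
  have hDj : Disj P := h.disj_of_le hV
  have hP : P = MulAction.orbit Γ p₀ := by
    apply Set.Subset.antisymm _ hsub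
    intro p hp
    obtain ⟨x, hx, hx1⟩ := Fam.exists_ne_one_of_ne_bot (h.snd_ne p hp)
    obtain ⟨m, hm, hxm⟩ := hU' x hx1
    rw [Fam.eq_of_mem hDj hp (hsub hm) hx1 hx hxm]
    exact hm
  have hU : ∀ v : V, v ≠ 1 → InU P v := by rw [hP]; exact hU'
  have horb : ∀ p ∈ P, ∀ m ∈ P, ∃ g : Γ, g • p = m := by
    rw [hP]
    rintro p ⟨g, rfl⟩ m ⟨k, rfl⟩
    refine ⟨k * g⁻¹, ?_⟩
    change (k * g⁻¹) • g • p₀ = k • p₀
    rw [mul_smul, inv_smul_smul]
  obtain ⟨a1, a2, a3, a4⟩ := h.case_J h2 hDj hU horb ⟨p₀, hp₀⟩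
  obtain ⟨p₁, hp₁, m₁, hm₁, h1, h3⟩ := h.not_symm h2 hDj hU hp₀
  exact ⟨hU, hDj, a1, a2, a3, a4,
    fun p hp m hm hle => h.antisymm_of hDj horb hp₁ hm₁ h1 h3 hp hm hle,
    fun p hp m hm hne hle => h.antisymm_of' h2 hDj horb hp₁ hm₁ h1 h3 hp hm hne hle⟩

/-- The additive version of a multiplicative action. -/
@[reducible] def addAction (Q V : Type*) [Group Q] [CommGroup V] [MulDistribMulAction Q V] :
    DistribMulAction Q (Additive V) where
  smul g x := Additive.ofMul (g • Additive.toMul x)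
  one_smul x := by
    change Additive.ofMul ((1 : Q) • Additive.toMul x) = x
    rw [one_smul]; rfl
  mul_smul g k x := by
    change Additive.ofMul ((g * k) • Additive.toMul x) = Additive.ofMul (g • k • Additive.toMul x)
    rw [mul_smul]
  smul_zero g := by
    change Additive.ofMul (g • (1 : V)) = 0
    rw [smul_one]; rfl
  smul_add g x y := by
    change Additive.ofMul (g • (Additive.toMul x * Additive.toMul y)) = _
    rw [smul_mul']; rfl

/-- Case (J): the group has order eight. -/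
theorem gold_J_card [Finite V] (h : Fam Γ P q) (h2 : IsPGroup 2 V) (hirr : Fam.Irr Γ V)
    (hidx : ∀ N : Subgroup Γ, (MulDistribMulAction.toMulAut Γ V).ker ≤ N → N.index ≠ 2)
    (hne : P.Nonempty) (hV : Nat.card V ≤ q ^ 2) (hq2 : 2 < q)
    (hsol : Odd (Nat.card (MulDistribMulAction.toMulAut Γ V).range) →
      Group.IsSolvable (MulDistribMulAction.toMulAut Γ V).range) :
    q = 4 ∧ Nat.card V = 8 := by
  obtain ⟨hU, hDj, a1, a2, a3, a4, -, -⟩ := gold_J h h2 hirr hidx hne hV
  obtain ⟨p, hp⟩ := hne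
  obtain ⟨x, hx, hx1⟩ := Fam.exists_ne_one_of_ne_bot (h.snd_ne p hp)
  let R := (MulDistribMulAction.toMulAut Γ V).range
  let _ : DistribMulAction R (Additive V) := addAction R V
  have hfaith : FaithfulSMul R (Additive V) := by
    refine ⟨?_⟩
    intro g g' e
    apply Subtype.ext
    ext y
    exact congrArg Additive.toMul (e (Additive.ofMul y))
  have hfinR : Finite R := inferInstance
  have key := card_eq_eight (Q := R) (W := Additive V) a3 (hsol a3) ?_ (Additive.ofMul x) hx1
    (Subgroup.toAddSubgroup p.1) (q := q) (h.card_fst p hp) hq2 a2 ?_ ?_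
  · refine ⟨key, ?_⟩
    rw [a2, key]
  · intro y z hy hz
    obtain ⟨g, hg⟩ := a4 (Additive.toMul y) (Additive.toMul z) hy hz
    exact ⟨⟨_, ⟨g, rfl⟩⟩, congrArg Additive.ofMul hg⟩
  · intro hxp
    exact hx1 (h.eq_one hp hxp hx)
  · intro a ha b hb ha0 hb0
    obtain ⟨g, hg, -, hgd⟩ := h.tr p hp (Additive.toMul a) ha (Additive.toMul b) hb ha0 hb0
    exact ⟨⟨_, ⟨g, rfl⟩⟩, congrArg Additive.ofMul (hgd x hx), congrArg Additive.ofMul hg⟩

end Main

end Cfsg.Agent.TwoFusion.GoldJ
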