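import Cfsg.Agent.TwoFusion.GoldLFourEqui
import Cfsg.Agent.TwoFusion.GoldControl
import Cfsg.Agent.TwoFusion.ClosedFam
import Cfsg.Agent.TypeL3.Fusion
import Cfsg.Agent.TwoFusion.ClosedLocal

/-!
# Goldschmidt's theorem, `|A| = 4`: no Sylow 2-subgroup of type `PSL(3,4)`
-/

set_option autoImplicit false

namespace Cfsg.Agent.TwoFusion.GoldLFour

open Subgroup
open Cfsg.Agent.TwoFusion.ClosedFam
open Cfsg.Agent.TypeL3

variable {G : Type*} [Group G] [Finite G]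

/-- The nontrivial conjugates of elements of `A`. -/
noncomputable def Dset (A : Subgroup G) : Finset G :=
  (Set.toFinite {d : G | d ≠ 1 ∧ ∃ g : G, g * d * g⁻¹ ∈ A}).toFinset

theorem mem_Dset {A : Subgroup G} {d : G} : d ∈ Dset A ↔ d ≠ 1 ∧ ∃ g : G, g * d * g⁻¹ ∈ A := by
  unfold Dset
  rw [Set.Finite.mem_toFinset]
  rfl

/-- The conjugacy class of `e`. -/
noncomputable def cls (e : G) : Finset G := (Set.toFinite {x : G | ∃ g : G, g * e * g⁻¹ = x}).toFinset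

theorem mem_cls {e x : G} : x ∈ cls e ↔ ∃ g : G, g * e * g⁻¹ = x := by
  unfold cls
  rw [Set.Finite.mem_toFinset]
  rfl

/-- A conjugation invariant finite set. -/
def Inv (X : Finset G) : Prop := ∀ x ∈ X, ∀ g : G, g * x * g⁻¹ ∈ X

omit [Finite G] in
theorem Inv.iff {X : Finset G} (h : Inv X) {x : G} (g : G) : g * x * g⁻¹ ∈ X ↔ x ∈ X := by
  refine ⟨fun hx => ?_, fun hx => h x hx g⟩
  have := h _ hx g⁻¹
  have e : g⁻¹ * (g * x * g⁻¹) * g⁻¹⁻¹ = x := by group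
  rwa [e] at this

theorem inv_Dset (A : Subgroup G) : Inv (Dset A) := by
  intro d hd g
  rw [mem_Dset] at hd ⊢
  obtain ⟨h1, k, hk⟩ := hd
  refine ⟨conj_ne_one h1, k * g⁻¹, ?_⟩
  have e : k * g⁻¹ * (g * d * g⁻¹) * (k * g⁻¹)⁻¹ = k * d * k⁻¹ := by group
  rw [e]
  exact hk

theorem inv_cls (e : G) : Inv (cls e) := by
  intro x hx g
  rw [mem_cls] at hx ⊢
  obtain ⟨k, rfl⟩ := hx
  exact ⟨g * k, by group⟩

omit [Finite G] in
theorem comm_conj {x y : G} (g : G) (hxy : x * y = y * x) : (g * x * g⁻¹) * (g * y * g⁻¹) = (g * y * g⁻¹) * (g * x * g⁻¹) := by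
  have e1 : (g * x * g⁻¹) * (g * y * g⁻¹) = g * (x * y) * g⁻¹ := by group
  have e2 : (g * y * g⁻¹) * (g * x * g⁻¹) = g * (y * x) * g⁻¹ := by group
  rw [e1, e2, hxy]

omit [Finite G] in
theorem comm_conj_iff {x y : G} (g : G) :
    (g * x * g⁻¹) * (g * y * g⁻¹) = (g * y * g⁻¹) * (g * x * g⁻¹) ↔ x * y = y * x := by
  refine ⟨fun h => ?_, comm_conj g⟩
  have e1 : (g * x * g⁻¹) * (g * y * g⁻¹) = g * (x * y) * g⁻¹ := by group
  have e2 : (g * y * g⁻¹) * (g * x * g⁻¹) = g * (y * x) * g⁻¹ := by group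
  rw [e1, e2] at h
  exact mul_left_cancel (mul_right_cancel h)

omit [Finite G] in
/-- Conjugation is a bijection between invariant sets. -/
theorem card_conj {X Y : Finset G} (g : G) (hXY : ∀ x, x ∈ X ↔ g * x * g⁻¹ ∈ Y) : X.card = Y.card := by
  refine Finset.card_bij (fun x _ => g * x * g⁻¹) (fun x hx => (hXY x).1 hx) ?_ ?_
  · intro x _ y _ hxy
    exact mul_left_cancel (mul_right_cancel hxy)
  · intro y hy
    refine ⟨g⁻¹ * y * g, (hXY _).2 ?_, by group⟩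
    have e : g * (g⁻¹ * y * g) * g⁻¹ = y := by group
    rwa [e]

omit [Finite G] in
theorem card_cent_conj {X : Finset G} (hX : Inv X) (x g : G) :
    (cent X (g * x * g⁻¹)).card = (cent X x).card := by
  symm
  refine card_conj g fun d => ?_
  rw [mem_cent, mem_cent, hX.iff, comm_conj_iff]

omit [Finite G] in
theorem orderOf_conj' (x g : G) : orderOf (g * x * g⁻¹) = orderOf x := by
  rw [← MulAut.conj_apply, MulEquiv.orderOf_eq]

omit [Finite G] in
theorem card_oddSet_conj {X : Finset G} (hX : Inv X) (x a g : G) :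
    (oddSet X (g * x * g⁻¹) (g * a * g⁻¹)).card = (oddSet X x a).card := by
  symm
  refine card_conj g fun d => ?_
  rw [mem_oddSet, mem_oddSet, hX.iff, comm_conj_iff]
  have e : g * a * g⁻¹ * (g * d * g⁻¹) = g * (a * d) * g⁻¹ := by group
  rw [e, orderOf_conj']

/-- Two commuting elements of order dividing 2 can be conjugated simultaneously into a Sylow 2-subgroup. -/
theorem conj_pair (S : Sylow 2 G) {x y : G} (hx : x * x = 1) (hy : y * y = 1) (hxy : x * y = y * x) :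
    ∃ g : G, g * x * g⁻¹ ∈ (S : Subgroup G) ∧ g * y * g⁻¹ ∈ (S : Subgroup G) := by
  have hfact : Fact (Nat.Prime 2) := ⟨Nat.prime_two⟩
  let P : Subgroup G := closure {x, y}
  have hcomm : ∀ u ∈ ({x, y} : Set G), ∀ v ∈ ({x, y} : Set G), u * v = v * u := by
    intro u hu v hv
    rcases hu with rfl | rfl <;> rcases hv with rfl | rfl
    · rfl
    · exact hxy
    · exact hxy.symm
    · rfl
  have hPc : ∀ u ∈ P, ∀ v ∈ P, u * v = v * u := by
    intro u hu v hv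
    have hcP : IsMulCommutative P := Subgroup.isMulCommutative_closure hcomm
    have := hcP.is_comm.comm (⟨u, hu⟩ : P) ⟨v, hv⟩
    exact congrArg Subtype.val this
  have hPsq : ∀ u ∈ P, u * u = 1 := by
    intro u hu
    refine closure_induction (p := fun u _ => u * u = 1) ?_ ?_ ?_ ?_ hu
    · intro u hu
      rcases hu with rfl | rfl
      · exact hx
      · exact hy
    · simp
    · intro u v hu hv h1 h2
      have h3 := hPc u hu v hv
      calc u * v * (u * v) = u * (v * u) * v := by group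
        _ = (u * u) * (v * v) := by rw [← h3]; group
        _ = 1 := by rw [h1, h2, one_mul]
    · intro u _ h1
      rw [← mul_inv_rev, h1, inv_one]
  have hP : IsPGroup 2 P := by
    rintro ⟨u, hu⟩
    refine ⟨1, Subtype.ext ?_⟩
    rw [pow_one, pow_two]
    exact hPsq u hu
  obtain ⟨Q, hQ⟩ := hP.exists_le_sylow
  obtain ⟨g, hg⟩ := MulAction.exists_smul_eq G Q S
  refine ⟨g, ?_, ?_⟩
  · rw [← hg]
    exact ⟨x, hQ (subset_closure (by simp)), rfl⟩
  · rw [← hg]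
    exact ⟨y, hQ (subset_closure (by simp)), rfl⟩

/-! ### The frame -/

/-- The configuration: `S = R₁ R₂` of type `PSL(3,4)`, `A = R₁ ∩ R₂` strongly closed of order 4. -/
structure LF (S : Sylow 2 G) (R₁ R₂ : Subgroup G) : Prop where
  ab : IsAB (S : Subgroup G) R₁ R₂
  card : Nat.card (R₁ ⊓ R₂ : Subgroup G) = 4
  card₁ : Nat.card R₁ = 16
  card₂ : Nat.card R₂ = 16
  sc : Cfsg.IsStronglyClosed (R₁ ⊓ R₂) (S : Subgroup G)
  split : ∀ z ∈ R₁ ⊓ R₂, z ≠ 1 → ∀ x, x * z = z * x →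
    ∃ w ∈ centralizer ((R₁ ⊓ R₂ : Subgroup G) : Set G), w⁻¹ * x ∈ core (centralizer ({z} : Set G))
  rot : ∀ e ∈ (S : Subgroup G), e * e = 1 → e ∉ R₁ ⊓ R₂ → ∀ z ∈ R₁ ⊓ R₂, z ≠ 1 → ∀ z' ∈ R₁ ⊓ R₂, z' ≠ 1 →
    ∃ n ∈ normalizer ((R₁ ⊓ R₂ : Subgroup G) : Set G), n * e = e * n ∧ n * z * n⁻¹ = z'
  odd : ∀ e ∈ (S : Subgroup G), e * e = 1 → e ∉ R₁ ⊓ R₂ → ∀ a ∈ R₁ ⊓ R₂, a ≠ 1 →
    (cent (Dset (R₁ ⊓ R₂)) e).card < 3 * (oddSet (Dset (R₁ ⊓ R₂)) e a).card

theorem conj_mem_core' {z u : G} (n : G) (hu : u ∈ core (centralizer ({z} : Set G))) :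
    n * u * n⁻¹ ∈ core (centralizer ({n * z * n⁻¹} : Set G)) := by
  have h1 : (core (centralizer ({z} : Set G))).map (MulAut.conj n).toMonoidHom ≤
      core (centralizer ({n * z * n⁻¹} : Set G)) := by
    apply ClosedLocal.le_core
    · rintro _ ⟨x, hx, rfl⟩
      rw [mem_centralizer_singleton_iff]
      have := mem_centralizer_singleton_iff.1 (ClosedLocal.core_le _ hx)
      exact comm_conj n this
    · rintro c hc _ ⟨x, hx, rfl⟩
      refine ⟨(n⁻¹ * c * n) * x * (n⁻¹ * c * n)⁻¹, ClosedLocal.conj_mem_core ?_ hx, ?_⟩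
      · rw [mem_centralizer_singleton_iff] at hc ⊢
        have := comm_conj n⁻¹ hc
        have e : n⁻¹ * (n * z * n⁻¹) * n⁻¹⁻¹ = z := by group
        rw [e, inv_inv] at this
        exact this
      · show n * ((n⁻¹ * c * n) * x * (n⁻¹ * c * n)⁻¹) * n⁻¹ = c * (n * x * n⁻¹) * c⁻¹
        group
    · rw [Cfsg.Agent.Lib.GoldschmidtFusion.card_map_conj]
      exact ClosedLocal.odd_core _
  exact h1 ⟨u, hu, rfl⟩

namespace LF

variable {S : Sylow 2 G} {R₁ R₂ : Subgroup G} (h : LF S R₁ R₂)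

include h

theorem symm : LF S R₂ R₁ where
  ab := h.ab.symm
  card := by rw [inf_comm]; exact h.card
  card₁ := h.card₂
  card₂ := h.card₁
  sc := by rw [inf_comm]; exact h.sc
  split := by rw [inf_comm]; exact h.split
  rot := by rw [inf_comm]; exact h.rot
  odd := by rw [inf_comm]; exact h.odd

theorem sq {a : G} (ha : a ∈ R₁ ⊓ R₂) : a * a = 1 := h.ab.A_sq a (mem_inf.1 ha).1

theorem comm {a b : G} (ha : a ∈ R₁ ⊓ R₂) (hb : b ∈ R₁ ⊓ R₂) : a * b = b * a :=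
  h.ab.A_comm a (mem_inf.1 ha).1 b (mem_inf.1 hb).1

theorem frame : Frame (R₁ ⊓ R₂) (centralizer ((R₁ ⊓ R₂ : Subgroup G) : Set G))
    (core (centralizer ((R₁ ⊓ R₂ : Subgroup G) : Set G))) (fun z => core (centralizer ({z} : Set G))) where
  A_le := by
    intro a ha
    rw [mem_centralizer_iff]
    intro b hb
    exact h.comm hb ha
  A_sq := fun a ha => h.sq ha
  CA := by
    intro c hc a ha
    exact (mem_centralizer_iff.1 hc a ha).symm
  Ocent := by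
    intro z _ _ u hu
    exact mem_centralizer_singleton_iff.1 (ClosedLocal.core_le _ hu)
  Onorm := by
    intro z _ _ x hx u hu
    exact ClosedLocal.conj_mem_core (mem_centralizer_singleton_iff.2 hx) hu
  Oodd := fun z _ _ => ClosedLocal.odd_core _
  Oinf := by
    intro z hz hz1 c hc
    have hle : centralizer ((R₁ ⊓ R₂ : Subgroup G) : Set G) ≤ centralizer ({z} : Set G) := by
      intro x hx
      rw [mem_centralizer_singleton_iff]
      exact (mem_centralizer_iff.1 hx z hz).symm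
    constructor
    · intro hcO
      have h1 : core (centralizer ({z} : Set G)) ⊓ centralizer ((R₁ ⊓ R₂ : Subgroup G) : Set G) ≤
          core (centralizer ((R₁ ⊓ R₂ : Subgroup G) : Set G)) := by
        apply ClosedLocal.le_core inf_le_right
        · intro x hx k hk
          obtain ⟨hk1, hk2⟩ := mem_inf.1 hk
          exact mem_inf.2 ⟨ClosedLocal.conj_mem_core (hle hx) hk1, mul_mem (mul_mem hx hk2) (inv_mem hx)⟩
        · exact Odd.of_dvd_nat (ClosedLocal.odd_core _) (card_dvd_of_le inf_le_left)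
      exact h1 ⟨hcO, hc⟩
    · -- `O(C(A)) O(C(z))` is a normal subgroup of odd order of `C(z)`
      intro hcV
      set O := core (centralizer ({z} : Set G)) with hO
      set V := core (centralizer ((R₁ ⊓ R₂ : Subgroup G) : Set G)) with hV
      have hVC : V ≤ centralizer ({z} : Set G) := (ClosedLocal.core_le _).trans hle
      have hVO : V ≤ normalizer (O : Set G) := by
        intro v hv
        rw [mem_normalizer_iff]
        intro x
        refine ⟨fun hx => ClosedLocal.conj_mem_core (hVC hv) hx, fun hx => ?_⟩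
        have := ClosedLocal.conj_mem_core (inv_mem (hVC hv)) hx
        have e : v⁻¹ * (v * x * v⁻¹) * v⁻¹⁻¹ = x := by group
        rwa [e] at this
      have hmem : ∀ x, x ∈ V ⊔ O ↔ ∃ v ∈ V, ∃ o ∈ O, v * o = x := by
        intro x
        rw [← SetLike.mem_coe, coe_mul_of_left_le_normalizer_right _ _ hVO, Set.mem_mul]
        rfl
      have hnorm : ∀ g ∈ centralizer ({z} : Set G), ∀ k ∈ V ⊔ O, g * k * g⁻¹ ∈ V ⊔ O := by
        intro g hg k hk
        obtain ⟨w, hw, hwg⟩ := h.split z hz hz1 g (mem_centralizer_singleton_iff.1 hg)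
        obtain ⟨v, hv, o, ho, rfl⟩ := (hmem k).1 hk
        have e : g * (v * o) * g⁻¹ = (w * ((w⁻¹ * g) * v * (w⁻¹ * g)⁻¹) * w⁻¹) * (g * o * g⁻¹) := by group
        rw [e]
        refine mul_mem ?_ (mem_sup_right (ClosedLocal.conj_mem_core hg ho))
        have e2 : w * ((w⁻¹ * g) * v * (w⁻¹ * g)⁻¹) * w⁻¹ =
            (w * (w⁻¹ * g) * w⁻¹) * (w * v * w⁻¹) * (w * (w⁻¹ * g) * w⁻¹)⁻¹ := by group
        rw [e2]
        have h3 : w * (w⁻¹ * g) * w⁻¹ ∈ O := ClosedLocal.conj_mem_core (hle hw) hwg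
        exact mul_mem (mul_mem (mem_sup_right h3) (mem_sup_left (ClosedLocal.conj_mem_core hw hv)))
          (inv_mem (mem_sup_right h3))
      have hodd : Odd (Nat.card (V ⊔ O : Subgroup G)) := by
        have h4 : Nat.card (V ⊔ O : Subgroup G) ∣ Nat.card V * Nat.card O := by
          set Z := centralizer ({z} : Set G) with hZ
          have e1 : Nat.card (V.subgroupOf Z) = Nat.card V :=
            Nat.card_congr (Subgroup.subgroupOfEquivOfLe hVC).toEquiv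
          have e2 : (V.subgroupOf Z ⊔ Cfsg.oddCore Z).map Z.subtype = V ⊔ O := by
            rw [Subgroup.map_sup, subgroupOf_map_subtype, inf_eq_left.mpr hVC]
            rfl
          have e3 : Nat.card (V ⊔ O : Subgroup G) = Nat.card (V.subgroupOf Z ⊔ Cfsg.oddCore Z : Subgroup Z) := by
            rw [← e2, card_map_of_injective Z.subtype_injective]
          have e4 : Nat.card O = Nat.card (Cfsg.oddCore Z) := by
            rw [hO]
            exact card_map_of_injective Z.subtype_injective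
          rw [e3, e4, ← e1, mul_comm, sup_comm]
          exact Cfsg.Agent.Lib.Cores.card_sup_dvd _ _ (Cfsg.Agent.Lib.Cores.pPrimeCore_normal 2)
        exact Odd.of_dvd_nat ((ClosedLocal.odd_core _).mul (ClosedLocal.odd_core _)) h4
      have h5 : V ⊔ O ≤ O := ClosedLocal.le_core (sup_le hVC (ClosedLocal.core_le _)) hnorm hodd
      exact h5 (mem_sup_left hcV)
  V_le := ClosedLocal.core_le _
  split := h.split
  Oconj := fun z _ _ n _ u hu => conj_mem_core' n hu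
  Cconj := by
    intro n hn c hc
    rw [mem_centralizer_iff]
    intro a ha
    have h1 : n⁻¹ * a * n ∈ R₁ ⊓ R₂ := by
      have := conj_mem_of_normalizer (inv_mem hn) ha
      simpa using this
    have h2 := mem_centralizer_iff.1 hc _ h1
    have h3 := comm_conj n h2
    have e : n * (n⁻¹ * a * n) * n⁻¹ = a := by group
    rwa [e] at h3

theorem control_elem {x g : G} (hx : x ∈ (S : Subgroup G)) (hg : g * x * g⁻¹ ∈ (S : Subgroup G)) :
    ∃ n ∈ normalizer ((S : Subgroup G) : Set G), g * x * g⁻¹ = n * x * n⁻¹ := by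
  have hP : zpowers x ≤ (S : Subgroup G) := zpowers_le.2 hx
  have hPg : (zpowers x).map (MulAut.conj g).toMonoidHom ≤ (S : Subgroup G) := by
    rw [MonoidHom.map_zpowers, zpowers_le]
    exact hg
  have hA : normalizer (R₁ : Set G) ≤ normalizer ((R₁ ⊓ R₂ : Subgroup G) : Set G) :=
    GoldControl.normalizer_le_normalizer_of_sc h.sc inf_le_left h.ab.A_le
  have hB : normalizer (R₂ : Set G) ≤ normalizer ((R₁ ⊓ R₂ : Subgroup G) : Set G) :=
    GoldControl.normalizer_le_normalizer_of_sc h.sc inf_le_right h.ab.B_le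
  obtain ⟨n, hn, c, hc, e⟩ := h.ab.control hA hB hP hPg
  refine ⟨n, hn, ?_⟩
  have h1 := mem_centralizer_iff.1 hc x (mem_zpowers x)
  rw [e]
  calc n * c * x * (n * c)⁻¹ = n * (c * x) * c⁻¹ * n⁻¹ := by group
    _ = n * x * n⁻¹ := by rw [← h1]; group

/-- `R₁` is strongly closed in `S`. -/
theorem mem_R₁ {x g : G} (hx : x ∈ R₁) (hg : g * x * g⁻¹ ∈ (S : Subgroup G)) : g * x * g⁻¹ ∈ R₁ := by
  obtain ⟨n, hn, e⟩ := h.control_elem (h.ab.A_le hx) hg
  rw [e]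
  exact conj_mem_of_normalizer (h.ab.normalizer_le_A hn) hx

/-- The involutions of `S` of types 1 and 2 are not conjugate. -/
theorem not_conj {e f : G} (he : e ∈ R₁) (hf : f ∈ R₂) (hf' : f ∉ R₁) {g : G} (hg : g * e * g⁻¹ = f) : False := by
  apply hf'
  rw [← hg]
  apply h.mem_R₁ he
  rw [hg]
  exact h.ab.B_le hf

/-- Conjugates of elements of type 1 and of type 2 do not commute. -/
theorem not_comm_types {e f x y a b : G} (he : e ∈ R₁) (he' : e ∉ R₂) (hf : f ∈ R₂) (hf' : f ∉ R₁)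
    (hx : a * e * a⁻¹ = x) (hy : b * f * b⁻¹ = y) (hxy : x * y = y * x) : False := by
  have hxx : x * x = 1 := by
    rw [← hx]
    calc a * e * a⁻¹ * (a * e * a⁻¹) = a * (e * e) * a⁻¹ := by group
      _ = 1 := by rw [h.ab.A_sq e he]; group
  have hyy : y * y = 1 := by
    rw [← hy]
    calc b * f * b⁻¹ * (b * f * b⁻¹) = b * (f * f) * b⁻¹ := by group
      _ = 1 := by rw [h.ab.B_sq f hf]; group
  obtain ⟨g, hgx, hgy⟩ := conj_pair S hxx hyy hxy
  have e1 : g * x * g⁻¹ = (g * a) * e * (g * a)⁻¹ := by rw [← hx]; group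
  have e2 : g * y * g⁻¹ = (g * b) * f * (g * b)⁻¹ := by rw [← hy]; group
  have h1 : g * x * g⁻¹ ∈ R₁ := by
    rw [e1]
    apply h.mem_R₁ he
    rw [← e1]
    exact hgx
  have h1' : g * x * g⁻¹ ∉ R₂ := by
    intro h2
    have h3 := h.symm.mem_R₁ (g := (g * a)⁻¹) h2 (by
      rw [e1]
      have e3 : (g * a)⁻¹ * (g * a * e * (g * a)⁻¹) * (g * a)⁻¹⁻¹ = e := by group
      rw [e3]
      exact h.ab.A_le he)
    rw [e1] at h3
    have e3 : (g * a)⁻¹ * (g * a * e * (g * a)⁻¹) * (g * a)⁻¹⁻¹ = e := by group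
    rw [e3] at h3
    exact he' h3
  have h2 : g * y * g⁻¹ ∉ R₁ := by
    intro h2
    have h3 := h.mem_R₁ (g := (g * b)⁻¹) h2 (by
      rw [e2]
      have e3 : (g * b)⁻¹ * (g * b * f * (g * b)⁻¹) * (g * b)⁻¹⁻¹ = f := by group
      rw [e3]
      exact h.ab.B_le hf)
    rw [e2] at h3
    have e3 : (g * b)⁻¹ * (g * b * f * (g * b)⁻¹) * (g * b)⁻¹⁻¹ = f := by group
    rw [e3] at h3
    exact hf' h3
  exact h2 (h.ab.centA _ h1 h1' _ hgy (comm_conj g hxy))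

omit h in
theorem mem_Dset_of_mem {a : G} (ha : a ∈ R₁ ⊓ R₂) (ha1 : a ≠ 1) : a ∈ Dset (R₁ ⊓ R₂) :=
  mem_Dset.2 ⟨ha1, 1, by simpa using ha⟩

theorem sq_Dset {d : G} (hd : d ∈ Dset (R₁ ⊓ R₂)) : d * d = 1 := by
  obtain ⟨_, g, hg⟩ := mem_Dset.1 hd
  have h1 := h.sq hg
  have e : d * d = g⁻¹ * (g * d * g⁻¹ * (g * d * g⁻¹)) * g := by group
  rw [e, h1]; group

/-- `D ∩ S = A#`. -/
theorem mem_A_of_Dset {d : G} (hd : d ∈ Dset (R₁ ⊓ R₂)) (hS : d ∈ (S : Subgroup G)) : d ∈ R₁ ⊓ R₂ := by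
  obtain ⟨_, g, hg⟩ := mem_Dset.1 hd
  have := h.sc.2 _ hg g⁻¹ (by
    have e : g⁻¹ * (g * d * g⁻¹) * g⁻¹⁻¹ = d := by group
    rw [e]; exact hS)
  have e : g⁻¹ * (g * d * g⁻¹) * g⁻¹⁻¹ = d := by group
  rwa [e] at this

/-- For `e` of type 1 and `f` of type 2 the group `⟨e f⟩` contains an involution of `D`. -/
theorem exists_z {e f x y a b : G} (he : e ∈ R₁) (he' : e ∉ R₂) (hf : f ∈ R₂) (hf' : f ∉ R₁)
    (hx : a * e * a⁻¹ = x) (hy : b * f * b⁻¹ = y) :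
    ∃ z ∈ Dset (R₁ ⊓ R₂), z ∈ zpowers (x * y) ∧ z * x = x * z ∧ z * y = y * z := by
  have hxx : x * x = 1 := by
    rw [← hx]
    calc a * e * a⁻¹ * (a * e * a⁻¹) = a * (e * e) * a⁻¹ := by group
      _ = 1 := by rw [h.ab.A_sq e he]; group
  have hyy : y * y = 1 := by
    rw [← hy]
    calc b * f * b⁻¹ * (b * f * b⁻¹) = b * (f * f) * b⁻¹ := by group
      _ = 1 := by rw [h.ab.B_sq f hf]; group
  have heven : Even (orderOf (x * y)) := by
    by_contra hodd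
    rw [Nat.not_even_iff_odd] at hodd
    obtain ⟨j, hj⟩ := GoldLFour.conj_of_odd hxx hyy hodd
    refine h.not_conj he hf hf' (g := b⁻¹ * ((x * y) ^ j) * a) ?_
    calc b⁻¹ * (x * y) ^ j * a * e * (b⁻¹ * (x * y) ^ j * a)⁻¹
        = b⁻¹ * ((x * y) ^ j * (a * e * a⁻¹) * ((x * y) ^ j)⁻¹) * b := by group
      _ = b⁻¹ * y * b := by rw [hx, hj]
      _ = f := by rw [← hy]; group
  obtain ⟨z, hz, hz2, hzx, hzy⟩ := GoldLFour.exists_of_even hxx hyy heven
  refine ⟨z, ?_, hz, hzx, hzy⟩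
  have hz1 : z ≠ 1 := by
    rintro rfl
    rw [orderOf_one] at hz2
    exact absurd hz2 (by norm_num)
  have hzz : z * z = 1 := by rw [← pow_two, ← hz2, pow_orderOf_eq_one]
  obtain ⟨g, hg, -⟩ := conj_pair S hzz hzz rfl
  rw [mem_Dset]
  refine ⟨hz1, g, ?_⟩
  have hgg : (g * z * g⁻¹) * (g * z * g⁻¹) = 1 := by
    calc g * z * g⁻¹ * (g * z * g⁻¹) = g * (z * z) * g⁻¹ := by group
      _ = 1 := by rw [hzz]; group
  by_contra hcon
  rcases h.ab.inv _ hg hgg with h1 | h1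
  · have h2 : g * z * g⁻¹ ∉ R₂ := fun h2 => hcon (mem_inf.2 ⟨h1, h2⟩)
    refine h.not_comm_types (x := z) (y := y) (a := g⁻¹) (b := b) h1 h2 hf hf' (by group) hy hzy
  · have h2 : g * z * g⁻¹ ∉ R₁ := fun h2 => hcon (mem_inf.2 ⟨h2, h1⟩)
    refine h.not_comm_types (x := x) (y := z) (a := a) (b := g⁻¹) he he' h1 h2 hx (by group) hzx.symm

/-- Uniqueness of the involution. -/
theorem z_unique {z z' g : G} (hz : z ∈ Dset (R₁ ⊓ R₂)) (hz' : z' ∈ Dset (R₁ ⊓ R₂)) (h1 : z ∈ zpowers g)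
    (h2 : z' ∈ zpowers g) : z = z' := by
  obtain ⟨k, rfl⟩ := mem_zpowers_iff.1 h1
  obtain ⟨l, rfl⟩ := mem_zpowers_iff.1 h2
  have key : ∀ {k : ℤ}, g ^ k ∈ Dset (R₁ ⊓ R₂) → g ^ k ∉ (⊥ : Subgroup G) ∧ g ^ (2 * k) ∈ (⊥ : Subgroup G) := by
    intro k hk
    rw [mem_bot, mem_bot]
    refine ⟨(mem_Dset.1 hk).1, ?_⟩
    rw [two_mul, zpow_add]
    exact h.sq_Dset hk
  have h3 := zpow_unique (key hz).1 (key hz).2 (key hz').1 (key hz').2
  rw [mem_bot, zpow_sub] at h3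
  exact mul_inv_eq_one.1 h3

/-- An involution centralizing `A` is conjugate into `S` under `N(A)`. -/
theorem exists_norm {x : G} (hx : x * x = 1) (hc : x ∈ centralizer ((R₁ ⊓ R₂ : Subgroup G) : Set G)) :
    ∃ g ∈ normalizer ((R₁ ⊓ R₂ : Subgroup G) : Set G), g * x * g⁻¹ ∈ (S : Subgroup G) := by
  have hfact : Fact (Nat.Prime 2) := ⟨Nat.prime_two⟩
  let P : Subgroup G := closure (insert x ((R₁ ⊓ R₂ : Subgroup G) : Set G))
  have hcomm : ∀ u ∈ insert x ((R₁ ⊓ R₂ : Subgroup G) : Set G), ∀ v ∈ insert x ((R₁ ⊓ R₂ : Subgroup G) : Set G),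
      u * v = v * u := by
    intro u hu v hv
    rcases hu with rfl | hu <;> rcases hv with rfl | hv
    · rfl
    · exact (mem_centralizer_iff.1 hc v hv).symm
    · exact mem_centralizer_iff.1 hc u hu
    · exact h.comm hu hv
  have hPc : ∀ u ∈ P, ∀ v ∈ P, u * v = v * u := by
    intro u hu v hv
    have hcP : IsMulCommutative P := Subgroup.isMulCommutative_closure hcomm
    have := hcP.is_comm.comm (⟨u, hu⟩ : P) ⟨v, hv⟩
    exact congrArg Subtype.val this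
  have hPsq : ∀ u ∈ P, u * u = 1 := by
    intro u hu
    refine closure_induction (p := fun u _ => u * u = 1) ?_ ?_ ?_ ?_ hu
    · intro u hu
      rcases hu with rfl | hu
      · exact hx
      · exact h.sq hu
    · simp
    · intro u v hu hv h1 h2
      have h3 := hPc u hu v hv
      calc u * v * (u * v) = u * (v * u) * v := by group
        _ = (u * u) * (v * v) := by rw [← h3]; group
        _ = 1 := by rw [h1, h2, one_mul]
    · intro u _ h1
      rw [← mul_inv_rev, h1, inv_one]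
  have hP : IsPGroup 2 P := by
    rintro ⟨u, hu⟩
    refine ⟨1, Subtype.ext ?_⟩
    rw [pow_one, pow_two]
    exact hPsq u hu
  obtain ⟨Q, hQ⟩ := hP.exists_le_sylow
  obtain ⟨g, hg⟩ := MulAction.exists_smul_eq G Q S
  have hmem : ∀ u ∈ P, g * u * g⁻¹ ∈ (S : Subgroup G) := by
    intro u hu
    rw [← hg]
    exact ⟨u, hQ hu, rfl⟩
  refine ⟨g, ?_, hmem x (subset_closure (Set.mem_insert _ _))⟩
  rw [Cfsg.Agent.Lib.GoldschmidtFusion.mem_normalizer_iff_map_conj]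
  apply GoldControl.map_conj_eq_of_sc h.sc
  rintro _ ⟨u, hu, rfl⟩
  exact hmem u (subset_closure (Set.mem_insert_of_mem _ hu))

/-- An element of `D` in `C(A)` lies in `A`. -/
theorem mem_A_of_cent {d : G} (hd : d ∈ Dset (R₁ ⊓ R₂)) (hc : d ∈ centralizer ((R₁ ⊓ R₂ : Subgroup G) : Set G)) :
    d ∈ R₁ ⊓ R₂ := by
  obtain ⟨g, hgN, hgS⟩ := h.exists_norm (h.sq_Dset hd) hc
  have h1 : g * d * g⁻¹ ∈ R₁ ⊓ R₂ := h.mem_A_of_Dset (inv_Dset _ d hd g) hgS
  have := conj_mem_of_normalizer (inv_mem hgN) h1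
  have e : g⁻¹ * (g * d * g⁻¹) * g⁻¹⁻¹ = d := by group
  rwa [e] at this

/-- `N(A)` is transitive on `A#`. -/
theorem trans {z z' : G} (hz : z ∈ R₁ ⊓ R₂) (hz1 : z ≠ 1) (hz' : z' ∈ R₁ ⊓ R₂) (hz1' : z' ≠ 1) :
    ∃ n ∈ normalizer ((R₁ ⊓ R₂ : Subgroup G) : Set G), n * z * n⁻¹ = z' := by
  obtain ⟨e, he, he'⟩ := h.ab.neA
  obtain ⟨n, hn, _, e1⟩ := h.rot e (h.ab.A_le he) (h.ab.A_sq e he) (fun h1 => he' (mem_inf.1 h1).2) z hz hz1 z' hz' hz1'
  exact ⟨n, hn, e1⟩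

theorem exists_A : ∃ z ∈ R₁ ⊓ R₂, z ≠ 1 := by
  by_contra hcon
  push Not at hcon
  have h1 : (R₁ ⊓ R₂ : Subgroup G) = ⊥ := by
    rw [eq_bot_iff]
    intro x hx
    exact mem_bot.2 (hcon x hx)
  have h2 := h.card
  rw [h1, card_bot] at h2
  exact absurd h2 (by norm_num)

/-- `D` is a conjugacy class. -/
theorem Dset_conj {d d' : G} (hd : d ∈ Dset (R₁ ⊓ R₂)) (hd' : d' ∈ Dset (R₁ ⊓ R₂)) : ∃ g : G, g * d * g⁻¹ = d' := by
  obtain ⟨h1, g, hg⟩ := mem_Dset.1 hd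
  obtain ⟨h1', g', hg'⟩ := mem_Dset.1 hd'
  obtain ⟨n, _, hn⟩ := h.trans hg (conj_ne_one h1) hg' (conj_ne_one h1')
  refine ⟨g'⁻¹ * n * g, ?_⟩
  calc g'⁻¹ * n * g * d * (g'⁻¹ * n * g)⁻¹ = g'⁻¹ * (n * (g * d * g⁻¹) * n⁻¹) * g' := by group
    _ = g'⁻¹ * (g' * d' * g'⁻¹) * g' := by rw [hn]
    _ = d' := by group

/-- The class of an involution of type 1 is good. -/
theorem isGood {e : G} (he : e ∈ R₁) (he' : e ∉ R₂) :
    IsGood (R₁ ⊓ R₂) (centralizer ((R₁ ⊓ R₂ : Subgroup G) : Set G)) (cls e) where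
  conj := inv_cls e
  sq := by
    intro x hx
    obtain ⟨g, rfl⟩ := mem_cls.1 hx
    calc g * e * g⁻¹ * (g * e * g⁻¹) = g * (e * e) * g⁻¹ := by group
      _ = 1 := by rw [h.ab.A_sq e he]; group
  rot := by
    intro x hx hxC z hz hz1 z' hz' hz1'
    obtain ⟨g, hg⟩ := mem_cls.1 hx
    have hxx : x * x = 1 := by
      rw [← hg]
      calc g * e * g⁻¹ * (g * e * g⁻¹) = g * (e * e) * g⁻¹ := by group
        _ = 1 := by rw [h.ab.A_sq e he]; group
    obtain ⟨k, hkN, hkS⟩ := h.exists_norm hxx hxC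
    have hkA : k * x * k⁻¹ ∉ R₁ ⊓ R₂ := by
      intro h1
      have h2 : e ∈ Dset (R₁ ⊓ R₂) := by
        rw [mem_Dset]
        refine ⟨fun h3 => he' (h3 ▸ one_mem _), k * g, ?_⟩
        have e1 : k * g * e * (k * g)⁻¹ = k * (g * e * g⁻¹) * k⁻¹ := by group
        rw [e1, hg]
        exact h1
      exact he' (mem_inf.1 (h.mem_A_of_Dset h2 (h.ab.A_le he))).2
    have hkk : (k * x * k⁻¹) * (k * x * k⁻¹) = 1 := by
      calc k * x * k⁻¹ * (k * x * k⁻¹) = k * (x * x) * k⁻¹ := by group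
        _ = 1 := by rw [hxx]; group
    obtain ⟨n, hn, hn1, hn2⟩ := h.rot _ hkS hkk hkA _ (conj_mem_of_normalizer hkN hz) (conj_ne_one hz1) _
      (conj_mem_of_normalizer hkN hz') (conj_ne_one hz1')
    refine ⟨k⁻¹ * n * k, mul_mem (mul_mem (inv_mem hkN) hn) hkN, ?_, ?_⟩
    · calc k⁻¹ * n * k * x = k⁻¹ * (n * (k * x * k⁻¹)) * k := by group
        _ = x * (k⁻¹ * n * k) := by rw [hn1]; group
    · calc k⁻¹ * n * k * z * (k⁻¹ * n * k)⁻¹ = k⁻¹ * (n * (k * z * k⁻¹) * n⁻¹) * k := by group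
        _ = z' := by rw [hn2]; group

/-- The classes of types 1 and 2. -/
theorem hex {e f : G} (he : e ∈ R₁) (he' : e ∉ R₂) (hf : f ∈ R₂) (hf' : f ∉ R₁) {z : G} (hz : z ∈ R₁ ⊓ R₂)
    (hz1 : z ≠ 1) {x y : G} (hx : x ∈ cls e) (hxz : x * z = z * x) (hy : y ∈ cls f) (hyz : y * z = z * y) :
    ∃ w ∈ Dset (R₁ ⊓ R₂), w ∈ zpowers (x * y) ∧ w * z = z * w ∧ ∃ a ∈ R₁ ⊓ R₂, a ≠ 1 ∧ ∃ k : ℕ, (x * y) ^ k = w ∧
      a⁻¹ * w ∈ core (centralizer ({z} : Set G)) := by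
  obtain ⟨a, ha⟩ := mem_cls.1 hx
  obtain ⟨b, hb⟩ := mem_cls.1 hy
  obtain ⟨w, hwD, hw, hwx, hwy⟩ := h.exists_z he he' hf hf' ha hb
  have hxyz : Commute (x * y) z := by
    show x * y * z = z * (x * y)
    rw [mul_assoc, hyz, ← mul_assoc, hxz, mul_assoc]
  obtain ⟨k, hk⟩ : ∃ k : ℕ, (x * y) ^ k = w := by
    have := (isOfFinOrder_of_finite (x * y)).mem_powers_iff_mem_zpowers.2 hw
    exact this
  have hwz : w * z = z * w := by
    rw [← hk]
    exact hxyz.pow_left k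
  refine ⟨w, hwD, hw, hwz, ?_⟩
  obtain ⟨c, hc, hcw⟩ := h.split z hz hz1 w hwz
  obtain ⟨d₀, hd₀, hd₀C, hcd⟩ := h.frame.exists_rep (inv_Dset _) (fun d hd => h.sq_Dset hd) hz hz1 hc hwD hcw
  have hd₀A := h.mem_A_of_cent hd₀ hd₀C
  refine ⟨d₀, hd₀A, (mem_Dset.1 hd₀).1, k, hk, ?_⟩
  have e1 : d₀⁻¹ * w = (c⁻¹ * d₀)⁻¹ * (c⁻¹ * w) := by group
  rw [e1]
  exact mul_mem (inv_mem (h.frame.V_le_O hz hz1 hcd)) hcw

open Classical in
/-- The pairs `(x, y)` in `C(z)` with `z ∈ ⟨x y⟩`. -/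
noncomputable def _root_.Cfsg.Agent.TwoFusion.GoldLFour.PP (E F : Finset G) (z : G) : Finset (G × G) :=
  ((cent E z) ×ˢ (cent F z)).filter (fun p => z ∈ zpowers (p.1 * p.2))

omit h [Finite G] in
theorem _root_.Cfsg.Agent.TwoFusion.GoldLFour.mem_PP {E F : Finset G} {z : G} {p : G × G} :
    p ∈ PP E F z ↔ (p.1 ∈ cent E z ∧ p.2 ∈ cent F z) ∧ z ∈ zpowers (p.1 * p.2) := by
  classical
  unfold PP
  rw [Finset.mem_filter, Finset.mem_product]

omit h [Finite G] in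
theorem _root_.Cfsg.Agent.TwoFusion.GoldLFour.card_PP_conj {E F : Finset G} (hE : Inv E) (hF : Inv F) (z g : G) :
    (PP E F (g * z * g⁻¹)).card = (PP E F z).card := by
  symm
  refine Finset.card_bij (fun p _ => (g * p.1 * g⁻¹, g * p.2 * g⁻¹)) ?_ ?_ ?_
  · intro p hp
    rw [mem_PP, mem_cent, mem_cent] at hp ⊢
    obtain ⟨⟨⟨h1, h2⟩, h3, h4⟩, h5⟩ := hp
    refine ⟨⟨⟨hE _ h1 g, comm_conj g h2⟩, hF _ h3 g, comm_conj g h4⟩, ?_⟩
    change g * z * g⁻¹ ∈ zpowers (g * p.1 * g⁻¹ * (g * p.2 * g⁻¹))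
    have e : g * p.1 * g⁻¹ * (g * p.2 * g⁻¹) = g * (p.1 * p.2) * g⁻¹ := by group
    rw [e]
    obtain ⟨k, hk⟩ := mem_zpowers_iff.1 h5
    exact mem_zpowers_iff.2 ⟨k, by rw [conj_zpow, hk]⟩
  · intro p _ q _ hpq
    exact Prod.ext (mul_left_cancel (mul_right_cancel (congrArg Prod.fst hpq)))
      (mul_left_cancel (mul_right_cancel (congrArg Prod.snd hpq)))
  · intro p hp
    rw [mem_PP, mem_cent, mem_cent] at hp
    obtain ⟨⟨⟨h1, h2⟩, h3, h4⟩, h5⟩ := hp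
    refine ⟨(g⁻¹ * p.1 * g, g⁻¹ * p.2 * g), ?_, ?_⟩
    · rw [mem_PP, mem_cent, mem_cent]
      have e0 : g⁻¹ * (g * z * g⁻¹) * g⁻¹⁻¹ = z := by group
      have h2' := comm_conj g⁻¹ h2
      have h4' := comm_conj g⁻¹ h4
      rw [e0] at h2' h4'
      simp only [inv_inv] at h2' h4'
      refine ⟨⟨⟨by simpa using hE _ h1 g⁻¹, h2'⟩, by simpa using hF _ h3 g⁻¹, h4'⟩, ?_⟩
      change z ∈ zpowers (g⁻¹ * p.1 * g * (g⁻¹ * p.2 * g))
      have e : g⁻¹ * p.1 * g * (g⁻¹ * p.2 * g) = g⁻¹ * (p.1 * p.2) * g⁻¹⁻¹ := by group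
      rw [e]
      obtain ⟨k, hk⟩ := mem_zpowers_iff.1 h5
      exact mem_zpowers_iff.2 ⟨k, by rw [conj_zpow, hk]; group⟩
    · ext <;> simp [mul_assoc]

/-- The commutator map `R₂ → A`, `s ↦ [s, e]` is onto: `e` is conjugate to `e a` for `a ∈ A`. -/
theorem exists_conj_mul {e a : G} (he : e ∈ R₁) (he' : e ∉ R₂) (ha : a ∈ R₁ ⊓ R₂) : ∃ g : G, g * e * g⁻¹ = e * a := by
  have heS := h.ab.A_le he
  have hmem : ∀ s ∈ R₂, s * e * s⁻¹ * e⁻¹ ∈ R₁ ⊓ R₂ := fun s hs => h.ab.comm_mem (h.ab.B_le hs) heS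
  let f : R₂ →* (R₁ ⊓ R₂ : Subgroup G) :=
    { toFun := fun s => ⟨s * e * s⁻¹ * e⁻¹, hmem s s.2⟩
      map_one' := by
        apply Subtype.ext
        show (1 : G) * e * (1 : G)⁻¹ * e⁻¹ = 1
        group
      map_mul' := by
        intro s t
        apply Subtype.ext
        show (s * t : G) * e * (s * t : G)⁻¹ * e⁻¹ = (s * e * (s : G)⁻¹ * e⁻¹) * (t * e * (t : G)⁻¹ * e⁻¹)
        have h1 := h.ab.comm_Z (hmem t t.2) (h.ab.B_le s.2)
        have h2 := h.comm (hmem s s.2) (hmem t t.2)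
        calc (s * t : G) * e * (s * t : G)⁻¹ * e⁻¹
            = s * (t * e * (t : G)⁻¹ * e⁻¹) * e * (s : G)⁻¹ * e⁻¹ := by group
          _ = (t * e * (t : G)⁻¹ * e⁻¹) * (s * e * (s : G)⁻¹ * e⁻¹) := by rw [← h1]; group
          _ = _ := h2.symm }
  have hker : f.ker = (R₁ ⊓ R₂).subgroupOf R₂ := by
    ext s
    rw [MonoidHom.mem_ker, mem_subgroupOf]
    constructor
    · intro hs
      have h1 : (s : G) * e * (s : G)⁻¹ * e⁻¹ = 1 := congrArg Subtype.val hs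
      have h2 : e * s = s * e := by
        calc e * s = ((s : G) * e * (s : G)⁻¹ * e⁻¹)⁻¹ * (s * e) := by group
          _ = s * e := by rw [h1]; group
      exact mem_inf.2 ⟨h.ab.centA e he he' _ (h.ab.B_le s.2) h2, s.2⟩
    · intro hs
      apply Subtype.ext
      show (s : G) * e * (s : G)⁻¹ * e⁻¹ = 1
      rw [h.ab.comm_Z hs heS]; group
  have hcard : Nat.card f.range * Nat.card f.ker = Nat.card R₂ := by
    have := Subgroup.card_eq_card_quotient_mul_card_subgroup f.ker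
    rw [this, Nat.card_congr (QuotientGroup.quotientKerEquivRange f).toEquiv]
  have hk4 : Nat.card f.ker = 4 := by
    rw [hker, Nat.card_congr (Subgroup.subgroupOfEquivOfLe inf_le_right).toEquiv, h.card]
  rw [hk4, h.card₂] at hcard
  have hr : Nat.card f.range = 4 := by omega
  have hsurj : f.range = ⊤ := Subgroup.eq_top_of_card_eq _ (by rw [hr, h.card])
  obtain ⟨s, hs⟩ := MonoidHom.range_eq_top.1 hsurj ⟨a, ha⟩
  have h1 : (s : G) * e * (s : G)⁻¹ * e⁻¹ = a := congrArg Subtype.val hs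
  refine ⟨s, ?_⟩
  rw [← h.ab.comm_Z ha heS, ← h1]; group

/-- The constants of the second count. -/
theorem count {e : G} (he : e ∈ R₁) (he' : e ∉ R₂) :
    (cent (Dset (R₁ ⊓ R₂)) e).card * (cent (Dset (R₁ ⊓ R₂)) e).card < 3 * (Dset (R₁ ⊓ R₂)).card := by
  have hD := inv_Dset (R₁ ⊓ R₂)
  have hcent : ∀ x ∈ cls e, (cent (Dset (R₁ ⊓ R₂)) x).card = (cent (Dset (R₁ ⊓ R₂)) e).card := by
    intro x hx
    obtain ⟨g, rfl⟩ := mem_cls.1 hx
    exact card_cent_conj hD e g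
  obtain ⟨z, hz, hz1⟩ := h.exists_A
  refine count_odd (e := e) _ (cls e) hcent (fun d hd => h.sq_Dset hd) (h.isGood he he').sq (mem_cls.2 ⟨1, by group⟩) ?_ ?_ ?_
  · -- `e a ∈ E`
    intro a ha hae
    have haa := h.sq_Dset ha
    obtain ⟨g, hga, hge⟩ := conj_pair S haa (h.ab.A_sq e he) hae
    have h1 : g * e * g⁻¹ ∈ R₁ := h.mem_R₁ he hge
    have h1' : g * e * g⁻¹ ∉ R₂ := by
      intro h2
      have h3 := h.symm.mem_R₁ (g := g⁻¹) h2 (by
        have e3 : g⁻¹ * (g * e * g⁻¹) * g⁻¹⁻¹ = e := by group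
        rw [e3]; exact h.ab.A_le he)
      have e3 : g⁻¹ * (g * e * g⁻¹) * g⁻¹⁻¹ = e := by group
      rw [e3] at h3
      exact he' h3
    have h2 : g * a * g⁻¹ ∈ R₁ ⊓ R₂ := h.mem_A_of_Dset (hD a ha g) hga
    obtain ⟨k, hk⟩ := h.exists_conj_mul h1 h1' h2
    rw [mem_cls]
    refine ⟨g⁻¹ * k * g, ?_⟩
    calc g⁻¹ * k * g * e * (g⁻¹ * k * g)⁻¹ = g⁻¹ * (k * (g * e * g⁻¹) * k⁻¹) * g := by group
      _ = e * a := by rw [hk]; group
  · rw [Finset.card_pos]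
    exact ⟨z, _root_.Cfsg.Agent.TwoFusion.GoldLFour.mem_cent.2 ⟨mem_Dset_of_mem hz hz1, h.ab.comm_Z hz (h.ab.A_le he)⟩⟩
  · intro x hx a ha hax
    obtain ⟨b, hb⟩ := mem_cls.1 hx
    have haa := h.sq_Dset ha
    obtain ⟨g, hga, hgx⟩ := conj_pair S haa ((h.isGood he he').sq x hx) hax
    have e1 : g * x * g⁻¹ = (g * b) * e * (g * b)⁻¹ := by rw [← hb]; group
    have h1 : g * x * g⁻¹ ∉ R₁ ⊓ R₂ := by
      intro h2
      have h3 := (h.symm.mem_R₁ (g := (g * b)⁻¹) (mem_inf.1 h2).2 (by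
        rw [e1]
        have e3 : (g * b)⁻¹ * (g * b * e * (g * b)⁻¹) * (g * b)⁻¹⁻¹ = e := by group
        rw [e3]; exact h.ab.A_le he))
      rw [e1] at h3
      have e3 : (g * b)⁻¹ * (g * b * e * (g * b)⁻¹) * (g * b)⁻¹⁻¹ = e := by group
      rw [e3] at h3
      exact he' h3
    have h2 : g * a * g⁻¹ ∈ R₁ ⊓ R₂ := h.mem_A_of_Dset (hD a ha g) hga
    have h3 := h.odd _ hgx (by
      calc g * x * g⁻¹ * (g * x * g⁻¹) = g * (x * x) * g⁻¹ := by group
        _ = 1 := by rw [(h.isGood he he').sq x hx]; group) h1 _ h2 (conj_ne_one (mem_Dset.1 ha).1)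
    rw [card_oddSet_conj hD, card_cent_conj hD, hcent x hx] at h3
    exact h3

/-- **No Sylow 2-subgroup of type `PSL(3,4)`.** -/
theorem false : False := by
  obtain ⟨e, he, he'⟩ := h.ab.neA
  obtain ⟨f, hf, hf'⟩ := h.ab.neB
  have hD := inv_Dset (R₁ ⊓ R₂)
  have hsymm := h.symm
  have hI : (R₂ ⊓ R₁ : Subgroup G) = R₁ ⊓ R₂ := inf_comm _ _
  have hgE := h.isGood he he'
  have hgF : IsGood (R₁ ⊓ R₂) (centralizer ((R₁ ⊓ R₂ : Subgroup G) : Set G)) (cls f) := by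
    have := hsymm.isGood hf hf'
    rwa [hI] at this
  have c1 := h.count he he'
  have c2 := hsymm.count hf hf'
  rw [hI] at c2
  obtain ⟨z, hz, hz1⟩ := h.exists_A
  have hzD := mem_Dset_of_mem hz hz1
  refine contra (d := (Dset (R₁ ⊓ R₂)).card) ?_ c1 c2
  refine count_three (Dset (R₁ ⊓ R₂)) (cls e) (cls f) (ke := (cent (cls e) z).card) (kf := (cent (cls f) z).card)
    ⟨e, mem_cls.2 ⟨1, by group⟩⟩ ⟨f, mem_cls.2 ⟨1, by group⟩⟩ ?_ ?_ ?_ ?_ (PP (cls e) (cls f)) ?_ ?_ ?_ ?_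
  · intro x hx
    obtain ⟨g, rfl⟩ := mem_cls.1 hx
    exact card_cent_conj hD e g
  · intro x hx
    obtain ⟨g, rfl⟩ := mem_cls.1 hx
    exact card_cent_conj hD f g
  · intro d hd
    obtain ⟨g, rfl⟩ := h.Dset_conj hzD hd
    exact card_cent_conj (inv_cls e) z g
  · intro d hd
    obtain ⟨g, rfl⟩ := h.Dset_conj hzD hd
    exact card_cent_conj (inv_cls f) z g
  · intro d hd
    obtain ⟨g, rfl⟩ := h.Dset_conj hzD hd
    rw [card_PP_conj (inv_cls e) (inv_cls f), ← h.frame.equi h.card hgE hgF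
      (fun a ha ha1 b hb hb1 => h.trans ha ha1 hb hb1) hz hz1 ?_]
    · congr 2
      ext p
      rw [mem_PP, mem_pairs]
      refine and_congr_right fun hp => ?_
      obtain ⟨hp1, hp2⟩ := hp
      have hp1' := _root_.Cfsg.Agent.TwoFusion.GoldLFour.mem_cent.1 hp1
      have hp2' := _root_.Cfsg.Agent.TwoFusion.GoldLFour.mem_cent.1 hp2
      constructor
      · intro hzp
        have := (isOfFinOrder_of_finite (p.1 * p.2)).mem_powers_iff_mem_zpowers.2 hzp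
        obtain ⟨k, hk⟩ := this
        refine ⟨k, ?_⟩
        change (p.1 * p.2) ^ k = z at hk
        rw [hk, inv_mul_cancel]
        exact one_mem _
      · rintro ⟨k, hk⟩
        obtain ⟨w, hwD, hw, hwz, a, ha, ha1, l, hl, haw⟩ := h.hex he he' hf hf' hz hz1 hp1'.1 hp1'.2 hp2'.1 hp2'.2
        have h1 : a = z := by
          refine h.frame.class_unique hz hz1 (g := p.1 * p.2) (k := l) (l := k) ha ha1 hz hz1 ?_ hk
          rw [hl]; exact haw
        rw [h1] at haw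
        have h2 : (z⁻¹ * w) * (z⁻¹ * w) = 1 := by
          have hww := h.sq_Dset hwD
          have hzz := h.sq hz
          have hzi : z⁻¹ = z := inv_eq_of_mul_eq_one_left hzz
          rw [hzi]
          calc z * w * (z * w) = z * (w * z) * w := by group
            _ = (z * z) * (w * w) := by rw [hwz]; group
            _ = 1 := by rw [hzz, hww, one_mul]
        have h3 := eq_one_of_odd (h.frame.Oodd z hz hz1) haw h2
        rw [inv_mul_eq_one.1 h3]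
        exact hw
    · intro x hx hxz y hy hyz
      obtain ⟨w, hwD, hw, hwz, a, ha, ha1, l, hl, haw⟩ := h.hex he he' hf hf' hz hz1 hx hxz hy hyz
      exact ⟨a, ha, ha1, l, by rw [hl]; exact haw⟩
  · intro x hx y hy
    obtain ⟨a, ha⟩ := mem_cls.1 hx
    obtain ⟨b, hb⟩ := mem_cls.1 hy
    obtain ⟨w, hwD, hw, hwx, hwy⟩ := h.exists_z he he' hf hf' ha hb
    exact ⟨w, hwD, mem_PP.2 ⟨⟨_root_.Cfsg.Agent.TwoFusion.GoldLFour.mem_cent.2 ⟨hx, hwx.symm⟩,
      _root_.Cfsg.Agent.TwoFusion.GoldLFour.mem_cent.2 ⟨hy, hwy.symm⟩⟩, hw⟩⟩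
  · intro d _ p hp
    obtain ⟨⟨h1, h2⟩, _⟩ := mem_PP.1 hp
    exact ⟨(_root_.Cfsg.Agent.TwoFusion.GoldLFour.mem_cent.1 h1).1, (_root_.Cfsg.Agent.TwoFusion.GoldLFour.mem_cent.1 h2).1⟩
  · intro d hd d' hd' p hp hp'
    exact h.z_unique hd hd' (mem_PP.1 hp).2 (mem_PP.1 hp').2

end LF

end Cfsg.Agent.TwoFusion.GoldLFour
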