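import Cfsg.Agent.TwoFusion.GoldLFour
import Cfsg.Agent.TwoFusion.GoldFourCount

/-!
# Goldschmidt's theorem, `|A| = 4`: consequences of a component with Sylow 2-subgroup `A` in `C(e)`
-/

set_option autoImplicit false

namespace Cfsg.Agent.TwoFusion.GoldLFourBad

open Subgroup
open Cfsg.Agent.TwoFusion.ClosedFam
open Cfsg.Agent.TwoFusion.GoldLFour

variable {G : Type*} [Group G] [Finite G]

/-- `K ≤ G` contains the four-group `A` as a Sylow 2-subgroup, `K/O(K)` is simple and nonabelian. -/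
structure Simp (A K : Subgroup G) : Prop where
  le : A ≤ K
  simple : IsSimpleGroup (↥K ⧸ Cfsg.oddCore ↥K)
  nonab : ∃ x y : ↥K ⧸ Cfsg.oddCore ↥K, x * y ≠ y * x
  sylow : ∃ P : Sylow 2 ↥K, (P : Subgroup ↥K) = A.subgroupOf K

omit [Finite G] in
/-- A simple group which is a 2-group is commutative. -/
theorem comm_of_simple {Q : Type*} [Group Q] [Finite Q] [IsSimpleGroup Q] (hQ : IsPGroup 2 Q) (x y : Q) :
    x * y = y * x := by
  have : Fact (Nat.Prime 2) := ⟨Nat.prime_two⟩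
  have hn : Nontrivial (center Q) := hQ.center_nontrivial
  rcases IsSimpleGroup.eq_bot_or_eq_top_of_normal (center Q) inferInstance with h1 | h1
  · rw [h1] at hn
    exact absurd hn (not_nontrivial _)
  · have : y ∈ center Q := by rw [h1]; exact mem_top y
    exact mem_center_iff.1 this x

omit [Finite G] in
/-- If `K/O(K)` is simple nonabelian then `N_K(P)` does not centralize the Sylow 2-subgroup `P`. -/
theorem not_normalizer_le {K : Type*} [Group K] [Finite K] (hK : IsSimpleGroup (K ⧸ Cfsg.oddCore K))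
    (hna : ∃ x y : K ⧸ Cfsg.oddCore K, x * y ≠ y * x) (P : Sylow 2 K) :
    ¬ normalizer ((P : Subgroup K) : Set K) ≤ centralizer ((P : Subgroup K) : Set K) := by
  intro hle
  have hfact : Fact (Nat.Prime 2) := ⟨Nat.prime_two⟩
  have hcomp := MonoidHom.ker_transferSylow_isComplement' P hle
  set N := (MonoidHom.transferSylow P hle).ker with hN
  have hNodd : (Nat.card N).Coprime 2 :=
    ((Nat.Prime.coprime_iff_not_dvd Nat.prime_two).2 (MonoidHom.not_dvd_card_ker_transferSylow P hle)).symm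
  have hNle : N ≤ Cfsg.oddCore K := Cfsg.Agent.Lib.Cores.le_pPrimeCore (MonoidHom.normal_ker _) hNodd
  have hQ : IsPGroup 2 (K ⧸ Cfsg.oddCore K) := by
    have h1 : Nat.card (K ⧸ Cfsg.oddCore K) ∣ Nat.card (P : Subgroup K) := by
      have h2 : (Cfsg.oddCore K).index ∣ N.index := index_dvd_of_le hNle
      have h3 : N.index = Nat.card (P : Subgroup K) := hcomp.symm.index_eq_card
      rw [h3] at h2
      exact h2
    obtain ⟨n, hn⟩ := IsPGroup.iff_card.1 P.2
    rw [hn] at h1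
    obtain ⟨k, _, hk⟩ := (Nat.dvd_prime_pow Nat.prime_two).1 h1
    exact IsPGroup.iff_card.2 ⟨k, hk⟩
  obtain ⟨x, y, hxy⟩ := hna
  exact hxy (comm_of_simple hQ x y)

/-- Some element of odd order of `N_K(A)` does not centralize `A`. -/
theorem exists_odd {A K : Subgroup G} (h : Simp A K) (hAc : ∀ a ∈ A, ∀ b ∈ A, a * b = b * a) :
    ∃ n ∈ K, n ∈ normalizer (A : Set G) ∧ Odd (orderOf n) ∧ ∃ a ∈ A, n * a ≠ a * n := by
  have hfact : Fact (Nat.Prime 2) := ⟨Nat.prime_two⟩
  obtain ⟨P, hP⟩ := h.sylow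
  have hmemP : ∀ x : K, x ∈ (P : Subgroup K) ↔ (x : G) ∈ A := fun x => by rw [hP, mem_subgroupOf]
  have h1 := not_normalizer_le h.simple h.nonab P
  obtain ⟨g, hg, hgc⟩ := SetLike.not_le_iff_exists.1 h1
  -- the `2`-part of `g` lies in `P`
  obtain ⟨k, r, hr, hkr⟩ := Nat.exists_eq_two_pow_mul_odd (orderOf_pos g).ne'
  have hgN : ∀ m : ℕ, g ^ m ∈ normalizer ((P : Subgroup K) : Set K) := fun m => pow_mem hg m
  have hP2 : g ^ r ∈ (P : Subgroup K) := by
    -- `⟨g ^ r⟩ P` is a `2`-group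
    have h2 : IsPGroup 2 (zpowers (g ^ r)) := by
      apply IsPGroup.of_card (n := k)
      rw [Nat.card_zpowers, orderOf_pow_of_dvd hr.pos.ne' (by rw [hkr]; exact Dvd.intro_left _ rfl), hkr,
        Nat.mul_div_cancel _ hr.pos]
    have h3 : zpowers (g ^ r) ≤ normalizer ((P : Subgroup K) : Set K) := zpowers_le.2 (hgN r)
    have h4 : IsPGroup 2 (zpowers (g ^ r) ⊔ (P : Subgroup K) : Subgroup K) :=
      h2.to_sup_of_normal_right' P.2 h3
    have h5 : (zpowers (g ^ r) ⊔ (P : Subgroup K) : Subgroup K) = P := P.is_maximal' h4 le_sup_right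
    rw [← h5]
    exact mem_sup_left (mem_zpowers _)
  -- so the `2'`-part does not centralize
  have hodd : Odd (orderOf (g ^ 2 ^ k)) := by
    rw [orderOf_pow_of_dvd (by positivity) (by rw [hkr]; exact Dvd.intro _ rfl), hkr,
      Nat.mul_div_cancel_left _ (by positivity)]
    exact hr
  have hnc : g ^ 2 ^ k ∉ centralizer ((P : Subgroup K) : Set K) := by
    intro hc
    apply hgc
    have hrc : g ^ r ∈ centralizer ((P : Subgroup K) : Set K) := by
      rw [mem_centralizer_iff]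
      intro x hx
      apply Subtype.ext
      exact hAc _ ((hmemP x).1 hx) _ ((hmemP _).1 hP2)
    have hcop : IsCoprime ((2 ^ k : ℕ) : ℤ) (r : ℤ) := by
      rw [Nat.isCoprime_iff_coprime]
      exact Nat.Coprime.pow_left k ((Nat.coprime_two_left).2 hr)
    obtain ⟨u, v, huv⟩ := hcop
    have e : g = (g ^ 2 ^ k) ^ u * (g ^ r) ^ v := by
      rw [← zpow_natCast g (2 ^ k), ← zpow_natCast g r, ← zpow_mul, ← zpow_mul, ← zpow_add, mul_comm _ u,
        mul_comm _ v, huv, zpow_one]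
    rw [e]
    exact mul_mem (zpow_mem hc u) (zpow_mem hrc v)
  refine ⟨(g ^ 2 ^ k : K), (g ^ 2 ^ k : K).2, ?_, ?_, ?_⟩
  · rw [mem_normalizer_iff]
    intro x
    have hn := hgN (2 ^ k)
    rw [mem_normalizer_iff] at hn
    constructor
    · intro hx
      exact (hmemP _).1 ((hn ⟨x, h.le hx⟩).1 ((hmemP _).2 hx))
    · intro hx
      have hxK : x ∈ K := by
        have h6 := h.le hx
        have h7 := mul_mem (mul_mem (inv_mem (g ^ 2 ^ k : K).2) h6) (g ^ 2 ^ k : K).2
        have e : ((g ^ 2 ^ k : K) : G)⁻¹ * ((g ^ 2 ^ k : K) * x * ((g ^ 2 ^ k : K) : G)⁻¹) * (g ^ 2 ^ k : K) = x := by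
          group
        rwa [e] at h7
      exact (hmemP _).1 ((hn ⟨x, hxK⟩).2 ((hmemP _).2 hx))
  · rw [orderOf_coe]; exact hodd
  · by_contra hcon
    push Not at hcon
    apply hnc
    rw [mem_centralizer_iff]
    intro x hx
    apply Subtype.ext
    exact (hcon _ ((hmemP x).1 hx)).symm

/-- The elements of a four-group. -/
theorem exhaust {A : Subgroup G} (h4 : Nat.card A = 4) (hsq : ∀ a ∈ A, a * a = 1) {x y z : G} (hx : x ∈ A)
    (hy : y ∈ A) (hz : z ∈ A) (hx1 : x ≠ 1) (hy1 : y ≠ 1) (hxy : x ≠ y) :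
    z = 1 ∨ z = x ∨ z = y ∨ z = x * y := by
  classical
  by_contra hcon
  push Not at hcon
  obtain ⟨h1, h2, h3, h5⟩ := hcon
  have hxx := hsq x hx
  have hyy := hsq y hy
  have hxy1 : x * y ≠ 1 := by
    intro e
    apply hxy
    have : x = y⁻¹ := eq_inv_of_mul_eq_one_left e
    rw [this]; exact inv_eq_of_mul_eq_one_left hyy
  have hxyx : x * y ≠ x := fun e => hy1 (mul_eq_left.1 e)
  have hxyy : x * y ≠ y := fun e => hx1 (mul_eq_right.1 e)
  let s : Finset A := {⟨1, one_mem _⟩, ⟨x, hx⟩, ⟨y, hy⟩, ⟨x * y, mul_mem hx hy⟩, ⟨z, hz⟩}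
  have hs : s.card = 5 := by
    simp only [s]
    rw [Finset.card_insert_of_notMem, Finset.card_insert_of_notMem, Finset.card_insert_of_notMem,
      Finset.card_insert_of_notMem, Finset.card_singleton]
    · simp only [Finset.mem_singleton, Subtype.mk.injEq]; exact fun e => h5 e.symm
    · simp only [Finset.mem_insert, Finset.mem_singleton, Subtype.mk.injEq]
      rintro (e | e)
      · exact hxyy e.symm
      · exact h3 e.symm
    · simp only [Finset.mem_insert, Finset.mem_singleton, Subtype.mk.injEq]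
      rintro (e | e | e)
      · exact hxy e
      · exact hxyx e.symm
      · exact h2 e.symm
    · simp only [Finset.mem_insert, Finset.mem_singleton, Subtype.mk.injEq]
      rintro (e | e | e | e)
      · exact hx1 e.symm
      · exact hy1 e.symm
      · exact hxy1 e.symm
      · exact h1 e.symm
  have hfin : Fintype A := Fintype.ofFinite _
  have := Finset.card_le_univ s
  rw [hs, ← Nat.card_eq_fintype_card, h4] at this
  omega

omit [Finite G] in
theorem comm_of_sq {A : Subgroup G} (hsq : ∀ a ∈ A, a * a = 1) {x y : G} (hx : x ∈ A) (hy : y ∈ A) :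
    x * y = y * x := by
  have h1 := hsq _ (mul_mem hx hy)
  have h2 : (x * y)⁻¹ = x * y := inv_eq_of_mul_eq_one_left h1
  rw [mul_inv_rev, inv_eq_of_mul_eq_one_left (hsq x hx), inv_eq_of_mul_eq_one_left (hsq y hy)] at h2
  exact h2.symm

/-- In a group of order four and exponent two, an element of odd order acting nontrivially is transitive on the
three involutions. -/
theorem rot {A : Subgroup G} (hA : Nat.card A = 4) (hsq : ∀ a ∈ A, a * a = 1) {n : G}
    (hn : n ∈ normalizer (A : Set G)) (hodd : Odd (orderOf n)) (hna : ∃ a ∈ A, n * a ≠ a * n) {z z' : G}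
    (hz : z ∈ A) (hz1 : z ≠ 1) (hz' : z' ∈ A) (hz1' : z' ≠ 1) : ∃ k : ℕ, n ^ k * z * (n ^ k)⁻¹ = z' := by
  obtain ⟨a, ha, hna⟩ := hna
  set b := n * a * n⁻¹ with hb
  have hbA : b ∈ A := conj_mem_of_normalizer hn ha
  have ha1 : a ≠ 1 := by
    rintro rfl
    apply hna
    rw [mul_one, one_mul]
  have hb1 : b ≠ 1 := conj_ne_one ha1
  have hab : a ≠ b := by
    intro e
    apply hna
    have : n * a = b * n := by rw [hb]; group
    rw [this, ← e]
  have hcomm := comm_of_sq hsq ha hbA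
  have haa := hsq a ha
  have hbb := hsq b hbA
  have hnb : n * b * n⁻¹ ∈ A := conj_mem_of_normalizer hn hbA
  -- `n b n⁻¹ = a b`
  have h1 : n * b * n⁻¹ = a * b := by
    rcases exhaust hA hsq ha hbA hnb ha1 hb1 hab with e | e | e | e
    · exact absurd e (conj_ne_one hb1)
    · -- `n²` centralizes `a`
      exfalso
      have h2 : Commute (n ^ 2) a := by
        show n ^ 2 * a = a * n ^ 2
        calc n ^ 2 * a = (n * (n * a * n⁻¹) * n⁻¹) * n ^ 2 := by rw [pow_two]; group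
          _ = a * n ^ 2 := by rw [← hb, e]
      obtain ⟨k, hk⟩ := hodd
      have h3 : n = (n ^ 2) ^ (k + 1) := by
        have h4 : n ^ (2 * k + 1) = 1 := by rw [← hk]; exact pow_orderOf_eq_one n
        calc n = n ^ (2 * k + 1) * n := by rw [h4, one_mul]
          _ = (n ^ 2) ^ (k + 1) := by rw [← pow_succ, ← pow_mul]; congr 1
      apply hna
      have h5 : Commute ((n ^ 2) ^ (k + 1)) a := h2.pow_left _
      rw [← h3] at h5
      exact h5
    · exfalso
      apply hab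
      have : n * b * n⁻¹ = n * a * n⁻¹ := by rw [e, ← hb]
      exact (mul_left_cancel (mul_right_cancel this)).symm
    · exact e
  have h2 : n ^ 2 * a * (n ^ 2)⁻¹ = a * b := by
    rw [← h1, hb, pow_two]; group
  have h3 : n ^ 2 * b * (n ^ 2)⁻¹ = a := by
    have e1 : n ^ 2 * b * (n ^ 2)⁻¹ = n * (n * b * n⁻¹) * n⁻¹ := by rw [pow_two]; group
    have e2 : n * (a * b) * n⁻¹ = (n * a * n⁻¹) * (n * b * n⁻¹) := by group
    rw [e1, h1, e2, h1, ← hb, hcomm, ← mul_assoc, hbb, one_mul]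
  have h4 : n * (a * b) * n⁻¹ = a := by
    have e2 : n * (a * b) * n⁻¹ = (n * a * n⁻¹) * (n * b * n⁻¹) := by group
    rw [e2, h1, ← hb, hcomm, ← mul_assoc, hbb, one_mul]
  have h5 : n ^ 2 * (a * b) * (n ^ 2)⁻¹ = b := by
    have e1 : n ^ 2 * (a * b) * (n ^ 2)⁻¹ = n * (n * (a * b) * n⁻¹) * n⁻¹ := by rw [pow_two]; group
    rw [e1, h4]
  rcases exhaust hA hsq ha hbA hz ha1 hb1 hab with e | e | e | e
  · exact absurd e hz1
  · subst e
    rcases exhaust hA hsq ha hbA hz' ha1 hb1 hab with e' | e' | e' | e'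
    · exact absurd e' hz1'
    · exact ⟨0, by rw [e']; simp⟩
    · exact ⟨1, by rw [e', pow_one]⟩
    · exact ⟨2, by rw [e', h2]⟩
  · subst e
    rcases exhaust hA hsq ha hbA hz' ha1 hb1 hab with e' | e' | e' | e'
    · exact absurd e' hz1'
    · exact ⟨2, by rw [e', h3]⟩
    · exact ⟨0, by rw [e']; simp⟩
    · exact ⟨1, by rw [e', pow_one, h1]⟩
  · subst e
    rcases exhaust hA hsq ha hbA hz' ha1 hb1 hab with e' | e' | e' | e'
    · exact absurd e' hz1'
    · exact ⟨1, by rw [e', pow_one, h4]⟩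
    · exact ⟨2, by rw [e', h5]⟩
    · exact ⟨0, by rw [e']; simp⟩

/-- The rotation used in `LF.rot`. -/
theorem Simp.rot {A K : Subgroup G} (h : Simp A K) (hA : Nat.card A = 4) (hsq : ∀ a ∈ A, a * a = 1) {z z' : G}
    (hz : z ∈ A) (hz1 : z ≠ 1) (hz' : z' ∈ A) (hz1' : z' ≠ 1) :
    ∃ n ∈ K, n ∈ normalizer (A : Set G) ∧ n * z * n⁻¹ = z' := by
  obtain ⟨n, hnK, hn, hodd, hna⟩ := exists_odd h (fun a ha b hb => comm_of_sq hsq ha hb)
  obtain ⟨k, hk⟩ := GoldLFourBad.rot hA hsq hn hodd hna hz hz1 hz' hz1'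
  exact ⟨n ^ k, pow_mem hnK k, pow_mem hn k, hk⟩

/-- The count used in `LF.odd`: `K = ⟨𝒜 ∩ C(e)⟩`. -/
theorem Simp.odd {𝒜 : Set G} {A : Subgroup G} {e : G}
    (h : Simp A (fam 𝒜 (centralizer ({e} : Set G)))) (hA : Nat.card A = 4) (hsq : ∀ a ∈ A, a * a = 1)
    (hA𝒜 : ∀ x, x ∈ 𝒜 ↔ ∃ g : G, g * x * g⁻¹ ∈ A) {a : G} (ha : a ∈ A) (ha1 : a ≠ 1) :
    (cent (Dset A) e).card < 3 * (oddSet (Dset A) e a).card := by
  classical
  have hfact : Fact (Nat.Prime 2) := ⟨Nat.prime_two⟩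
  set K := fam 𝒜 (centralizer ({e} : Set G)) with hK
  obtain ⟨P, hP⟩ := h.sylow
  have hPcard : Nat.card (P : Subgroup K) = 4 := by
    rw [hP, Nat.card_congr (Subgroup.subgroupOfEquivOfLe h.le).toEquiv, hA]
  have hPsq : ∀ x ∈ (P : Subgroup K), x * x = 1 := by
    intro x hx
    rw [hP, mem_subgroupOf] at hx
    exact Subtype.ext (hsq _ hx)
  have haK : a ∈ K := h.le ha
  have hord : ∀ {x : G}, x * x = 1 → x ≠ 1 → orderOf x = 2 := fun h1 h2 =>
    orderOf_eq_prime (by rw [pow_two]; exact h1) h2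
  have key := GoldFourCount.odd_count h.simple h.nonab P hPcard hPsq ⟨a, haK⟩
    (by rw [← orderOf_coe]; exact hord (hsq a ha) ha1)
  -- the involutions of `K` are the elements of `𝒜#` in `C(e)`
  have hinv : ∀ d : K, orderOf d = 2 → (d : G) ∈ cent (Dset A) e := by
    intro d hd
    have hd1 : (d : G) ≠ 1 := by
      intro h1
      have : d = 1 := Subtype.ext h1
      rw [this, orderOf_one] at hd
      exact absurd hd (by norm_num)
    have hp : IsPGroup 2 (zpowers d) := by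
      apply IsPGroup.of_card (n := 1)
      rw [Nat.card_zpowers, hd, pow_one]
    obtain ⟨Q, hQ⟩ := hp.exists_le_sylow
    obtain ⟨g, hg⟩ := MulAction.exists_smul_eq K Q P
    have h1 : g * d * g⁻¹ ∈ (P : Subgroup K) := by
      rw [← hg]
      exact ⟨d, hQ (mem_zpowers d), rfl⟩
    rw [hP, mem_subgroupOf] at h1
    rw [GoldLFour.mem_cent, mem_Dset]
    refine ⟨⟨hd1, g, h1⟩, ?_⟩
    exact mem_centralizer_singleton_iff.1 (fam_le 𝒜 _ d.2)
  have hinv' : ∀ d : G, d ∈ cent (Dset A) e → ∃ hdK : d ∈ K, orderOf (⟨d, hdK⟩ : K) = 2 := by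
    intro d hd
    obtain ⟨hd1, hd2⟩ := GoldLFour.mem_cent.1 hd
    obtain ⟨hd3, g, hg⟩ := mem_Dset.1 hd1
    have hdK : d ∈ K := mem_fam ((hA𝒜 d).2 ⟨g, hg⟩) (mem_centralizer_singleton_iff.2 hd2)
    refine ⟨hdK, ?_⟩
    rw [← orderOf_coe]
    apply hord _ hd3
    have h1 := hsq _ hg
    have e1 : d * d = g⁻¹ * (g * d * g⁻¹ * (g * d * g⁻¹)) * g := by group
    show d * d = 1
    rw [e1, h1]; group
  have c1 : Nat.card {d : K // orderOf d = 2} = (cent (Dset A) e).card := by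
    rw [← Nat.subtype_card (cent (Dset A) e) (fun x => Iff.rfl)]
    refine Nat.card_congr ⟨fun d => ⟨(d.1 : G), hinv d.1 d.2⟩, fun d => ⟨⟨d.1, (hinv' d.1 d.2).1⟩, (hinv' d.1 d.2).2⟩,
      fun d => rfl, fun d => rfl⟩
  have c2 : Nat.card {d : K // orderOf d = 2 ∧ Odd (orderOf ((⟨a, haK⟩ : K) * d))} = (oddSet (Dset A) e a).card := by
    rw [← Nat.subtype_card (oddSet (Dset A) e a) (fun x => Iff.rfl)]
    refine Nat.card_congr ⟨fun d => ⟨(d.1 : G), ?_⟩, fun d => ⟨⟨d.1, ?_⟩, ?_⟩, fun d => rfl, fun d => rfl⟩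
    · rw [mem_oddSet]
      have h1 := GoldLFour.mem_cent.1 (hinv d.1 d.2.1)
      refine ⟨h1, ?_⟩
      have h2 := d.2.2
      rw [← orderOf_coe] at h2
      exact h2
    · have h1 := mem_oddSet.1 d.2
      exact (hinv' d.1 (GoldLFour.mem_cent.2 h1.1)).1
    · have h1 := mem_oddSet.1 d.2
      refine ⟨(hinv' d.1 (GoldLFour.mem_cent.2 h1.1)).2, ?_⟩
      rw [← orderOf_coe]
      exact h1.2
  rw [c1, c2] at key
  exact key

end Cfsg.Agent.TwoFusion.GoldLFourBad
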