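import Mathlib

/-!
# The counting argument for Sylow 2-subgroups of type `PSL(3,4)` in Goldschmidt's theorem

Three classes of involutions `D`, `E`, `F`.  Two double counts contradict each other.
-/

set_option autoImplicit false

namespace Cfsg.Agent.TwoFusion.GoldLFour

open Subgroup

variable {G : Type*} [Group G]

open Classical in
/-- The elements of the finite set `D` which commute with `x`. -/
noncomputable def cent (D : Finset G) (x : G) : Finset G := D.filter (fun d => d * x = x * d)

theorem mem_cent {D : Finset G} {x d : G} : d ∈ cent D x ↔ d ∈ D ∧ d * x = x * d := by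
  classical
  unfold cent
  simp

/-- Counting the commuting pairs in two ways. -/
theorem double_count (D E : Finset G) {I k : ℕ} (hI : ∀ e ∈ E, (cent D e).card = I)
    (hk : ∀ d ∈ D, (cent E d).card = k) : E.card * I = D.card * k := by
  classical
  have h1 : ∑ e ∈ E, (cent D e).card = ∑ d ∈ D, (cent E d).card := by
    have h2 := Finset.sum_card_bipartiteAbove_eq_sum_card_bipartiteBelow (s := E) (t := D)
      (fun e d => d * e = e * d)
    have e1 : ∀ e ∈ E, (cent D e).card = (Finset.bipartiteAbove (fun e d => d * e = e * d) D e).card := by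
      intro e _
      congr 1
    have e2 : ∀ d ∈ D, (cent E d).card = (Finset.bipartiteBelow (fun e d => d * e = e * d) E d).card := by
      intro d _
      congr 1
      ext x
      rw [mem_cent, Finset.mem_bipartiteBelow]
      exact and_congr Iff.rfl eq_comm
    rw [Finset.sum_congr rfl e1, Finset.sum_congr rfl e2]
    exact h2
  rw [Finset.sum_congr rfl hI, Finset.sum_congr rfl hk] at h1
  simpa using h1

/-- First count: `I_e I_f = 3 |D|`. -/
theorem count_three (D E F : Finset G) {Ie If ke kf : ℕ} (hE : E.Nonempty) (hF : F.Nonempty)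
    (hIe : ∀ e ∈ E, (cent D e).card = Ie) (hIf : ∀ f ∈ F, (cent D f).card = If)
    (hke : ∀ d ∈ D, (cent E d).card = ke) (hkf : ∀ d ∈ D, (cent F d).card = kf)
    (P : G → Finset (G × G))
    (hP : ∀ z ∈ D, 3 * (P z).card = ke * kf)
    (hz : ∀ e ∈ E, ∀ f ∈ F, ∃ z ∈ D, (e, f) ∈ P z)
    (hPE : ∀ z ∈ D, ∀ p ∈ P z, p.1 ∈ E ∧ p.2 ∈ F)
    (huniq : ∀ z ∈ D, ∀ z' ∈ D, ∀ p, p ∈ P z → p ∈ P z' → z = z') :
    Ie * If = 3 * D.card := by
  classical
  have h1 : E.card * Ie = D.card * ke := double_count D E hIe hke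
  have h2 : F.card * If = D.card * kf := double_count D F hIf hkf
  have h3 : (E ×ˢ F) = D.biUnion P := by
    ext ⟨e, f⟩
    simp only [Finset.mem_product, Finset.mem_biUnion]
    constructor
    · rintro ⟨he, hf⟩
      obtain ⟨z, hz1, hz2⟩ := hz e he f hf
      exact ⟨z, hz1, hz2⟩
    · rintro ⟨z, hz1, hz2⟩
      exact hPE z hz1 _ hz2
  have h4 : (D.biUnion P).card = ∑ z ∈ D, (P z).card := by
    apply Finset.card_biUnion
    intro z hz1 z' hz2 hne
    show Disjoint (P z) (P z')
    rw [Finset.disjoint_left]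
    intro p hp hp'
    exact hne (huniq z hz1 z' hz2 p hp hp')
  have h5 : 3 * (E.card * F.card) = D.card * (ke * kf) := by
    rw [← Finset.card_product, h3, h4, Finset.mul_sum, Finset.sum_congr rfl hP]
    simp
  have h6 : (E.card * F.card) * (Ie * If) = (E.card * F.card) * (3 * D.card) := by
    calc (E.card * F.card) * (Ie * If) = (E.card * Ie) * (F.card * If) := by ring
      _ = D.card * (D.card * (ke * kf)) := by rw [h1, h2]; ring
      _ = (E.card * F.card) * (3 * D.card) := by rw [← h5]; ring
  exact Nat.eq_of_mul_eq_mul_left (Nat.mul_pos hE.card_pos hF.card_pos) h6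

open Classical in
/-- The elements `d` of `D` commuting with `x` such that `a d` has odd order. -/
noncomputable def oddSet (D : Finset G) (x a : G) : Finset G :=
  (cent D x).filter (fun d => Odd (orderOf (a * d)))

theorem mem_oddSet {D : Finset G} {x a d : G} :
    d ∈ oddSet D x a ↔ (d ∈ D ∧ d * x = x * d) ∧ Odd (orderOf (a * d)) := by
  classical
  unfold oddSet
  rw [Finset.mem_filter, mem_cent]

/-- If `x` is an involution commuting with `a` and `d`, and `a d` has odd order, then `x` is a power of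
`(x a) d`. -/
theorem pow_eq {x a d : G} (hx : x * x = 1) (hxa : x * a = a * x) (hxd : d * x = x * d) {m : ℕ} (hm : Odd m)
    (had : (a * d) ^ m = 1) : (x * a * d) ^ m = x := by
  have hc : Commute x (a * d) := by
    show x * (a * d) = a * d * x
    calc x * (a * d) = x * a * d := by group
      _ = a * (x * d) := by rw [hxa]; group
      _ = a * d * x := by rw [← hxd]; group
  rw [show x * a * d = x * (a * d) by group, hc.mul_pow, had, mul_one]
  obtain ⟨k, rfl⟩ := hm
  rw [pow_succ, pow_mul, pow_two, hx, one_pow, one_mul]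

/-- Second count: `I_e² < 3 |D|`. -/
theorem count_odd (D E : Finset G) {Ie : ℕ} (hIe : ∀ e ∈ E, (cent D e).card = Ie)
    (hDsq : ∀ d ∈ D, d * d = 1) (hEsq : ∀ e ∈ E, e * e = 1) {e : G} (he : e ∈ E)
    (hmul : ∀ a ∈ D, a * e = e * a → e * a ∈ E) (hpos : 0 < Ie)
    (hodd : ∀ x ∈ E, ∀ a ∈ D, a * x = x * a → Ie < 3 * (oddSet D x a).card) :
    Ie * Ie < 3 * D.card := by
  classical
  have h1 : ((cent D e).biUnion (fun a => oddSet D (e * a) a)) ⊆ D := by
    intro d hd
    obtain ⟨a, _, hd⟩ := Finset.mem_biUnion.1 hd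
    exact (mem_oddSet.1 hd).1.1
  have h2 : ((cent D e).biUnion (fun a => oddSet D (e * a) a)).card =
      ∑ a ∈ cent D e, (oddSet D (e * a) a).card := by
    apply Finset.card_biUnion
    intro a ha b hb hne
    change a ∈ cent D e at ha
    change b ∈ cent D e at hb
    show Disjoint (oddSet D (e * a) a) (oddSet D (e * b) b)
    rw [Finset.disjoint_left]
    intro d hda hdb
    apply hne
    have ha1 := mem_cent.1 ha
    have hb1 := mem_cent.1 hb
    have hda1 := mem_oddSet.1 hda
    have hdb1 := mem_oddSet.1 hdb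
    have key : ∀ c : G, c ∈ cent D e → d ∈ oddSet D (e * c) c →
        (e * d) ^ orderOf (c * d) = e * c ∧ Odd (orderOf (c * d)) ∧ (e * c) * (e * c) = 1 := by
      intro c hc hd
      have hc1 := mem_cent.1 hc
      have hd1 := mem_oddSet.1 hd
      have hcc : c * c = 1 := hDsq c hc1.1
      have hx : (e * c) * (e * c) = 1 := hEsq _ (hmul c hc1.1 hc1.2)
      refine ⟨?_, hd1.2, hx⟩
      have h3 := pow_eq (x := e * c) (a := c) (d := d) hx
        (by rw [mul_assoc, ← mul_assoc c e c, hc1.2, mul_assoc e c c]) hd1.1.2 hd1.2 (pow_orderOf_eq_one _)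
      rwa [mul_assoc e c c, hcc, mul_one] at h3
    obtain ⟨p1, p2, p3⟩ := key a ha hda
    obtain ⟨q1, q2, q3⟩ := key b hb hdb
    have hp : ∀ {x : G} {m : ℕ}, x * x = 1 → Odd m → x ^ m = x := by
      rintro x m hx ⟨k, rfl⟩
      rw [pow_succ, pow_mul, pow_two, hx, one_pow, one_mul]
    have h4 : e * a = e * b := by
      calc e * a = (e * a) ^ orderOf (b * d) := (hp p3 q2).symm
        _ = (e * d) ^ (orderOf (a * d) * orderOf (b * d)) := by rw [pow_mul, p1]
        _ = (e * b) ^ orderOf (a * d) := by rw [mul_comm, pow_mul, q1]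
        _ = e * b := hp q3 p2
    exact mul_left_cancel h4
  have h3 : ∑ a ∈ cent D e, Ie < ∑ a ∈ cent D e, 3 * (oddSet D (e * a) a).card := by
    apply Finset.sum_lt_sum_of_nonempty
    · rw [← Finset.card_pos, hIe e he]; exact hpos
    · intro a ha
      have ha1 := mem_cent.1 ha
      refine hodd _ (hmul a ha1.1 ha1.2) a ha1.1 ?_
      rw [← mul_assoc, ha1.2]
  rw [Finset.sum_const, hIe e he, smul_eq_mul, ← Finset.mul_sum, ← h2] at h3
  exact lt_of_lt_of_le h3 (Nat.mul_le_mul_left 3 (Finset.card_le_card h1))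

/-- The two counts contradict each other. -/
theorem contra {d Ie If : ℕ} (h1 : Ie * If = 3 * d) (h2 : Ie * Ie < 3 * d) (h3 : If * If < 3 * d) : False := by
  have h4 : (Ie * If) * (Ie * If) = (Ie * Ie) * (If * If) := by ring
  have h5 : (Ie * Ie) * (If * If) < (3 * d) * (3 * d) := Nat.mul_lt_mul'' h2 h3
  rw [← h4, h1] at h5
  exact lt_irrefl _ h5

end Cfsg.Agent.TwoFusion.GoldLFour
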