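import Cfsg.Agent.TwoFusion.GoldLFourCount

/-!
# Equidistribution of the central involution of `⟨e, f⟩` (Goldschmidt's theorem, type `PSL(3,4)`)
-/

set_option autoImplicit false

namespace Cfsg.Agent.TwoFusion.GoldLFour

open Subgroup

variable {G : Type*} [Group G]

/-! ### Pairs of involutions -/

section Dihedral

variable {a b : G}

theorem inv_pow' (ha : a * a = 1) (hb : b * b = 1) (k : ℕ) : a * (a * b) ^ k * a = ((a * b) ^ k)⁻¹ := by
  have ha' : a⁻¹ = a := inv_eq_of_mul_eq_one_right ha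
  have hb' : b⁻¹ = b := inv_eq_of_mul_eq_one_right hb
  have h : a * (a * b) ^ k * a⁻¹ = (a * (a * b) * a⁻¹) ^ k := by
    rw [conj_pow]
  rw [ha'] at h
  rw [h, ← inv_pow]
  congr 1
  rw [mul_inv_rev, hb', ha']
  calc a * (a * b) * a = (a * a) * (b * a) := by group
    _ = b * a := by rw [ha, one_mul]

/-- Two involutions whose product has odd order are conjugate by a power of the product. -/
theorem conj_of_odd (ha : a * a = 1) (hb : b * b = 1) (h : Odd (orderOf (a * b))) :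
    ∃ j : ℕ, ((a * b) ^ j) * a * ((a * b) ^ j)⁻¹ = b := by
  obtain ⟨k, hk⟩ := h
  have ha' : a⁻¹ = a := inv_eq_of_mul_eq_one_right ha
  have hb' : b⁻¹ = b := inv_eq_of_mul_eq_one_right hb
  refine ⟨k, ?_⟩
  have h0 : ((a * b) ^ k) * a * ((a * b) ^ k)⁻¹ = (a * b) ^ (2 * k) * a := by
    rw [← inv_pow' ha hb k]
    calc (a * b) ^ k * a * (a * (a * b) ^ k * a) = (a * b) ^ k * (a * a) * (a * b) ^ k * a := by group
      _ = (a * b) ^ (2 * k) * a := by rw [ha, mul_one, two_mul, pow_add]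
  rw [h0]
  have h1 : (a * b) ^ (2 * k) * (a * b) = 1 := by
    rw [← pow_succ, ← hk, pow_orderOf_eq_one]
  have h2 : (a * b) ^ (2 * k) = b⁻¹ * a⁻¹ := by
    rw [← mul_inv_rev]
    exact eq_inv_of_mul_eq_one_left h1
  rw [h2, ha', hb', mul_assoc, ha, mul_one]

/-- The involution generated by the product of two involutions commutes with both. -/
theorem exists_of_even [Finite G] (ha : a * a = 1) (hb : b * b = 1) (h : Even (orderOf (a * b))) :
    ∃ u : G, u ∈ zpowers (a * b) ∧ orderOf u = 2 ∧ u * a = a * u ∧ u * b = b * u := by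
  obtain ⟨m, hm⟩ := h
  have hpos : 0 < orderOf (a * b) := orderOf_pos _
  have hm0 : 0 < m := by omega
  have hu2 : (a * b) ^ m * (a * b) ^ m = 1 := by
    rw [← pow_add, ← hm, pow_orderOf_eq_one]
  have hu1 : (a * b) ^ m ≠ 1 := by
    intro h1
    have := Nat.le_of_dvd hm0 (orderOf_dvd_of_pow_eq_one h1)
    omega
  have huinv : ((a * b) ^ m)⁻¹ = (a * b) ^ m := inv_eq_of_mul_eq_one_right hu2
  have hca : (a * b) ^ m * a = a * (a * b) ^ m := by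
    have h := inv_pow' ha hb m
    rw [huinv] at h
    calc (a * b) ^ m * a = (a * a) * ((a * b) ^ m * a) := by rw [ha, one_mul]
      _ = a * (a * (a * b) ^ m * a) := by group
      _ = a * (a * b) ^ m := by rw [h]
  have hcab : (a * b) ^ m * (a * b) = (a * b) * (a * b) ^ m := by
    rw [← pow_succ, ← pow_succ']
  have hb2 : b = a * (a * b) := by rw [← mul_assoc, ha, one_mul]
  have hcb : (a * b) ^ m * b = b * (a * b) ^ m := by
    calc (a * b) ^ m * b = (a * b) ^ m * (a * (a * b)) := by rw [← hb2]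
      _ = ((a * b) ^ m * a) * (a * b) := by group
      _ = a * ((a * b) ^ m * (a * b)) := by rw [hca]; group
      _ = a * ((a * b) * (a * b) ^ m) := by rw [hcab]
      _ = (a * (a * b)) * (a * b) ^ m := by simp only [mul_assoc]
      _ = b * (a * b) ^ m := by rw [← hb2]
  exact ⟨(a * b) ^ m, ⟨m, by simp⟩, orderOf_eq_prime (by rw [pow_two, hu2]) hu1, hca, hcb⟩

end Dihedral

/-- An element of order dividing two of a subgroup of odd order is trivial. -/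
theorem eq_one_of_odd {O : Subgroup G} (hO : Odd (Nat.card O)) {x : G} (hx : x ∈ O) (hxx : x * x = 1) :
    x = 1 := by
  have h1 : (⟨x, hx⟩ : O) ^ Nat.card O = 1 := pow_card_eq_one'
  have h2 : x ^ Nat.card O = 1 := by
    have := congrArg (Subtype.val) h1
    simpa only [SubmonoidClass.coe_pow, OneMemClass.coe_one] using this
  obtain ⟨k, hk⟩ := hO
  rw [hk, pow_succ, pow_mul, pow_two, hxx, one_pow, one_mul] at h2
  exact h2

/-! ### The frame -/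

/-- The subgroups `A` (a four-group), `C = C(A)`, `V = O(C)`, `O z = O(C(z))`. -/
structure Frame (A C V : Subgroup G) (O : G → Subgroup G) : Prop where
  A_le : A ≤ C
  A_sq : ∀ a ∈ A, a * a = 1
  CA : ∀ c ∈ C, ∀ a ∈ A, c * a = a * c
  Ocent : ∀ z ∈ A, z ≠ 1 → ∀ u ∈ O z, u * z = z * u
  Onorm : ∀ z ∈ A, z ≠ 1 → ∀ x, x * z = z * x → ∀ u ∈ O z, x * u * x⁻¹ ∈ O z
  Oodd : ∀ z ∈ A, z ≠ 1 → Odd (Nat.card (O z))
  Oinf : ∀ z ∈ A, z ≠ 1 → ∀ c ∈ C, c ∈ O z ↔ c ∈ V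
  V_le : V ≤ C
  split : ∀ z ∈ A, z ≠ 1 → ∀ x, x * z = z * x → ∃ w ∈ C, w⁻¹ * x ∈ O z
  Oconj : ∀ z ∈ A, z ≠ 1 → ∀ n ∈ normalizer (A : Set G), ∀ u ∈ O z, n * u * n⁻¹ ∈ O (n * z * n⁻¹)
  Cconj : ∀ n ∈ normalizer (A : Set G), ∀ c ∈ C, n * c * n⁻¹ ∈ C

theorem conj_mem_of_normalizer {A : Subgroup G} {n a : G} (hn : n ∈ normalizer (A : Set G)) (ha : a ∈ A) :
    n * a * n⁻¹ ∈ A :=
  (mem_normalizer_iff.1 hn a).1 ha

theorem conj_ne_one {n a : G} (ha : a ≠ 1) : n * a * n⁻¹ ≠ 1 := by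
  intro h1
  apply ha
  have : a = n⁻¹ * (n * a * n⁻¹) * n := by group
  rw [this, h1]; group

/-- If `g ^ k` and `g ^ l` are involutions modulo `O`, they agree modulo `O`. -/
theorem zpow_unique {O : Subgroup G} {g : G} {k l : ℤ} (hk : g ^ k ∉ O) (hk2 : g ^ (2 * k) ∈ O) (hl : g ^ l ∉ O)
    (hl2 : g ^ (2 * l) ∈ O) : g ^ (k - l) ∈ O := by
  let H : AddSubgroup ℤ :=
    { carrier := {j | g ^ j ∈ O}
      zero_mem' := by simp [O.one_mem]
      add_mem' := by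
        intro a b ha hb
        change g ^ (a + b) ∈ O
        rw [zpow_add]
        exact mul_mem ha hb
      neg_mem' := by
        intro a ha
        change g ^ (-a) ∈ O
        rw [zpow_neg]
        exact inv_mem ha }
  have hH : ∀ j, j ∈ H ↔ g ^ j ∈ O := fun j => Iff.rfl
  obtain ⟨m, hm⟩ := Int.subgroup_cyclic H
  have hdvd : ∀ j, g ^ j ∈ O ↔ m ∣ j := by
    intro j
    rw [← hH, hm, AddSubgroup.mem_closure_singleton]
    constructor
    · rintro ⟨n, hn⟩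
      exact ⟨n, by rw [← hn, smul_eq_mul, mul_comm]⟩
    · rintro ⟨n, hn⟩
      exact ⟨n, by rw [hn, smul_eq_mul, mul_comm]⟩
  rw [hdvd] at hk hk2 hl hl2 ⊢
  obtain ⟨α, hα⟩ := hk2
  obtain ⟨β, hβ⟩ := hl2
  have hodd : ∀ {k α : ℤ}, ¬ m ∣ k → 2 * k = m * α → Odd α := by
    intro k α hk hα
    rw [← Int.not_even_iff_odd]
    rintro ⟨γ, hγ⟩
    apply hk
    refine ⟨γ, ?_⟩
    rw [hγ] at hα
    have : 2 * k = 2 * (m * γ) := by rw [hα]; ring
    linarith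
  obtain ⟨γ, hγ⟩ := (hodd hk hα).sub_odd (hodd hl hβ)
  refine ⟨γ, ?_⟩
  have : 2 * (k - l) = 2 * (m * γ) := by
    calc 2 * (k - l) = 2 * k - 2 * l := by ring
      _ = m * (α - β) := by rw [hα, hβ]; ring
      _ = 2 * (m * γ) := by rw [hγ]; ring
  linarith

/-- The number of elements of `E` in the coset `c O(z)`. -/
noncomputable def mu (E : Finset G) (O : G → Subgroup G) (z c : G) : ℕ := by
  classical
  exact (E.filter (fun e => c⁻¹ * e ∈ O z)).card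

theorem mu_def [DecidableEq G] (E : Finset G) (O : G → Subgroup G) (z c : G)
    [DecidablePred fun e => c⁻¹ * e ∈ O z] : mu E O z c = (E.filter (fun e => c⁻¹ * e ∈ O z)).card := by
  unfold mu
  congr

namespace Frame

variable {A C V : Subgroup G} {O : G → Subgroup G} (h : Frame A C V O)

include h

theorem Oconj_iff {z : G} (hz : z ∈ A) (hz1 : z ≠ 1) {n : G} (hn : n ∈ normalizer (A : Set G)) {u : G} :
    n * u * n⁻¹ ∈ O (n * z * n⁻¹) ↔ u ∈ O z := by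
  refine ⟨fun hu => ?_, fun hu => h.Oconj z hz hz1 n hn u hu⟩
  have h1 := h.Oconj _ (conj_mem_of_normalizer hn hz) (conj_ne_one hz1) n⁻¹ (inv_mem hn) _ hu
  have e1 : n⁻¹ * (n * u * n⁻¹) * n⁻¹⁻¹ = u := by group
  have e2 : n⁻¹ * (n * z * n⁻¹) * n⁻¹⁻¹ = z := by group
  rwa [e1, e2] at h1

theorem comm_of_coset {z : G} (hz : z ∈ A) (hz1 : z ≠ 1) {c e : G} (hc : c ∈ C) (he : c⁻¹ * e ∈ O z) :
    e * z = z * e := by
  have h1 := h.Ocent z hz hz1 _ he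
  have h2 := h.CA c hc z hz
  calc e * z = c * (c⁻¹ * e * z) := by group
    _ = (c * z) * (c⁻¹ * e) := by rw [h1]; group
    _ = z * e := by rw [h2]; group

/-- Congruence modulo `O z` is compatible with products. -/
theorem mul_coset {z : G} (hz : z ∈ A) (hz1 : z ≠ 1) {x y x' y' : G} (hy' : y' * z = z * y')
    (h1 : x'⁻¹ * x ∈ O z) (h2 : y'⁻¹ * y ∈ O z) : (x' * y')⁻¹ * (x * y) ∈ O z := by
  have e : (x' * y')⁻¹ * (x * y) = (y'⁻¹ * (x'⁻¹ * x) * y'⁻¹⁻¹) * (y'⁻¹ * y) := by group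
  rw [e]
  refine mul_mem (h.Onorm z hz hz1 _ ?_ _ h1) h2
  calc y'⁻¹ * z = y'⁻¹ * (z * y') * y'⁻¹ := by group
    _ = z * y'⁻¹ := by rw [← hy']; group

theorem pow_coset {z : G} (hz : z ∈ A) (hz1 : z ≠ 1) {x x' : G} (hx' : x' * z = z * x')
    (h1 : x'⁻¹ * x ∈ O z) (k : ℕ) : (x' ^ k)⁻¹ * x ^ k ∈ O z := by
  induction k with
  | zero => simp
  | succ k ih =>
    rw [pow_succ, pow_succ]
    exact h.mul_coset hz hz1 hx' ih h1

theorem not_mem_O {z : G} (hz : z ∈ A) (hz1 : z ≠ 1) {a : G} (ha : a * a = 1) (ha1 : a ≠ 1) : a ∉ O z :=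
  fun h1 => ha1 (eq_one_of_odd (h.Oodd z hz hz1) h1 ha)

theorem V_le_O {z : G} (hz : z ∈ A) (hz1 : z ≠ 1) : V ≤ O z := fun v hv =>
  (h.Oinf z hz hz1 v (h.V_le hv)).2 hv

theorem mu_conj {E : Finset G} (hE : ∀ e ∈ E, ∀ g : G, g * e * g⁻¹ ∈ E) {z : G} (hz : z ∈ A) (hz1 : z ≠ 1)
    {n : G} (hn : n ∈ normalizer (A : Set G)) (c : G) : mu E O (n * z * n⁻¹) (n * c * n⁻¹) = mu E O z c := by
  classical
  rw [mu_def, mu_def]
  symm
  refine Finset.card_bij (fun e _ => n * e * n⁻¹) ?_ ?_ ?_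
  · intro e he
    rw [Finset.mem_filter] at he ⊢
    refine ⟨hE e he.1 n, ?_⟩
    have e1 : (n * c * n⁻¹)⁻¹ * (n * e * n⁻¹) = n * (c⁻¹ * e) * n⁻¹ := by group
    rw [e1]
    exact h.Oconj z hz hz1 n hn _ he.2
  · intro e _ e' _ hee
    exact mul_left_cancel (mul_right_cancel hee)
  · intro e he
    rw [Finset.mem_filter] at he
    refine ⟨n⁻¹ * e * n, ?_, by group⟩
    rw [Finset.mem_filter]
    refine ⟨by simpa using hE e he.1 n⁻¹, ?_⟩
    rw [← h.Oconj_iff hz hz1 hn]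
    have e1 : n * (c⁻¹ * (n⁻¹ * e * n)) * n⁻¹ = (n * c * n⁻¹)⁻¹ * e := by group
    rw [e1]
    exact he.2

theorem mu_coset {E : Finset G} {z : G} (hz : z ∈ A) (hz1 : z ≠ 1) {c c' : G} (hcc : c⁻¹ * c' ∈ V) :
    mu E O z c = mu E O z c' := by
  classical
  rw [mu_def, mu_def]
  congr 1
  ext e
  rw [Finset.mem_filter, Finset.mem_filter]
  have h1 : c⁻¹ * c' ∈ O z := h.V_le_O hz hz1 hcc
  refine and_congr Iff.rfl ?_
  have e1 : c⁻¹ * e = (c⁻¹ * c') * (c'⁻¹ * e) := by group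
  rw [e1]
  exact (O z).mul_mem_cancel_left h1

/-- A coset of `O z` containing an element of `E` contains one in `C`. -/
theorem exists_rep {E : Finset G} (hE : ∀ e ∈ E, ∀ g : G, g * e * g⁻¹ ∈ E) (hE2 : ∀ e ∈ E, e * e = 1)
    {z : G} (hz : z ∈ A) (hz1 : z ≠ 1) {c e : G} (hc : c ∈ C) (he : e ∈ E)
    (hce : c⁻¹ * e ∈ O z) : ∃ e₀ ∈ E, e₀ ∈ C ∧ c⁻¹ * e₀ ∈ V := by
  have hcz : c * z = z * c := h.CA c hc z hz
  -- `c ^ 2 ∈ V`
  have h1 : c * c ∈ O z := by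
    have h2 := h.mul_coset hz hz1 hcz hce hce
    rw [hE2 e he, mul_one] at h2
    exact (inv_mem_iff).1 h2
  have h2 : c * c ∈ V := (h.Oinf z hz hz1 _ (mul_mem hc hc)).1 h1
  have hVodd : Odd (Nat.card V) := by
    have h3 : Nat.card V ∣ Nat.card (O z) := card_dvd_of_le (h.V_le_O hz hz1)
    exact Odd.of_dvd_nat (h.Oodd z hz hz1) h3
  obtain ⟨k, hk⟩ := hVodd
  have h3 : (c * c) ^ (2 * k + 1) = 1 := by
    have h4 : (⟨c * c, h2⟩ : V) ^ Nat.card V = 1 := pow_card_eq_one'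
    rw [← hk]
    have := congrArg (Subtype.val) h4
    simpa only [SubmonoidClass.coe_pow, OneMemClass.coe_one] using this
  set e₀ := c ^ (2 * k + 1) with he₀
  have h5 : e₀ * e₀ = 1 := by
    rw [he₀, ← (Commute.refl c).mul_pow, h3]
  have h6 : c⁻¹ * e₀ ∈ V := by
    rw [he₀, pow_succ', inv_mul_cancel_left, pow_mul, pow_two]
    exact pow_mem h2 k
  have h7 : e₀ ∈ C := pow_mem hc _
  have h8 : e₀⁻¹ * e ∈ O z := by
    have e1 : e₀⁻¹ * e = (c⁻¹ * e₀)⁻¹ * (c⁻¹ * e) := by group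
    rw [e1]
    exact mul_mem (inv_mem (h.V_le_O hz hz1 h6)) hce
  have h9 : e₀⁻¹ = e₀ := inv_eq_of_mul_eq_one_left h5
  rw [h9] at h8
  -- `e₀` and `e` are conjugate
  have h10 : Odd (orderOf (e * e₀)) := by
    have h11 : e * e₀ ∈ O z := by
      have := inv_mem h8
      rwa [mul_inv_rev, h9, inv_eq_of_mul_eq_one_left (hE2 e he)] at this
    have h12 : orderOf (e * e₀) ∣ Nat.card (O z) := by
      rw [show e * e₀ = ((⟨e * e₀, h11⟩ : O z) : G) from rfl, orderOf_coe]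
      exact orderOf_dvd_natCard _
    exact Odd.of_dvd_nat (h.Oodd z hz hz1) h12
  obtain ⟨j, hj⟩ := conj_of_odd (hE2 e he) h5 h10
  exact ⟨e₀, hj ▸ hE e he _, h7, h6⟩

/-- The weight `mu E O z c` does not depend on `z`. -/
theorem mu_indep {E : Finset G} (hE : ∀ e ∈ E, ∀ g : G, g * e * g⁻¹ ∈ E) (hE2 : ∀ e ∈ E, e * e = 1)
    (hh : ∀ e ∈ E, e ∈ C → ∀ z ∈ A, z ≠ 1 → ∀ z' ∈ A, z' ≠ 1 → ∃ n ∈ normalizer (A : Set G),
      n * e = e * n ∧ n * z * n⁻¹ = z')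
    {z z' : G} (hz : z ∈ A) (hz1 : z ≠ 1) (hz' : z' ∈ A) (hz1' : z' ≠ 1) {c : G} (hc : c ∈ C) :
    mu E O z c = mu E O z' c := by
  classical
  by_cases hex : ∃ e₀ ∈ E, e₀ ∈ C ∧ c⁻¹ * e₀ ∈ V
  · obtain ⟨e₀, he₀, he₀C, hce⟩ := hex
    obtain ⟨n, hn, hne, hnz⟩ := hh e₀ he₀ he₀C z hz hz1 z' hz' hz1'
    rw [h.mu_coset hz hz1 hce, h.mu_coset hz' hz1' hce, ← h.mu_conj hE hz hz1 hn e₀, hnz]
    congr 1
    rw [hne]; group
  · have h0 : ∀ y ∈ A, y ≠ 1 → mu E O y c = 0 := by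
      intro y hy hy1
      rw [mu_def, Finset.card_eq_zero, Finset.filter_eq_empty_iff]
      intro e he hce
      exact hex (h.exists_rep hE hE2 hy hy1 hc he hce)
    rw [h0 z hz hz1, h0 z' hz' hz1']

/-- For `e` commuting with `z` there are `|V|` elements `c ∈ C` with `c⁻¹ e ∈ O z`. -/
theorem card_fibre [DecidableEq G] {z : G} (hz : z ∈ A) (hz1 : z ≠ 1) {e : G} (he : e * z = z * e) (CC : Finset G)
    (hCC : ∀ c, c ∈ CC ↔ c ∈ C) [DecidablePred fun c => c⁻¹ * e ∈ O z] :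
    (CC.filter (fun c => c⁻¹ * e ∈ O z)).card = Nat.card V := by
  obtain ⟨w, hw, hwe⟩ := h.split z hz hz1 e he
  have h1 : ∀ c, c ∈ CC.filter (fun c => c⁻¹ * e ∈ O z) ↔ w⁻¹ * c ∈ V := by
    intro c
    rw [Finset.mem_filter, hCC]
    constructor
    · rintro ⟨hc, hce⟩
      have h2 : w⁻¹ * c ∈ O z := by
        have e1 : w⁻¹ * c = (w⁻¹ * e) * (c⁻¹ * e)⁻¹ := by group
        rw [e1]
        exact mul_mem hwe (inv_mem hce)
      exact (h.Oinf z hz hz1 _ (mul_mem (inv_mem hw) hc)).1 h2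
    · intro hv
      have hc : c ∈ C := by
        have := mul_mem hw (h.V_le hv)
        rwa [mul_inv_cancel_left] at this
      refine ⟨hc, ?_⟩
      have e1 : c⁻¹ * e = (w⁻¹ * c)⁻¹ * (w⁻¹ * e) := by group
      rw [e1]
      exact mul_mem (inv_mem (h.V_le_O hz hz1 hv)) hwe
  rw [← Nat.subtype_card _ h1]
  refine Nat.card_congr ⟨fun c => ⟨w⁻¹ * c.1, c.2⟩, fun v => ⟨w * v.1, by rw [inv_mul_cancel_left]; exact v.2⟩, ?_, ?_⟩
  · intro c; simp
  · intro v; simp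

/-- The relation `R a c c'`: some power of `c c'` is congruent to `a` modulo `V`. -/
theorem rel_iff {z : G} (hz : z ∈ A) (hz1 : z ≠ 1) {a c c' e f : G} (ha : a ∈ A) (hc : c ∈ C) (hc' : c' ∈ C)
    (hce : c⁻¹ * e ∈ O z) (hcf : c'⁻¹ * f ∈ O z) (k : ℕ) :
    a⁻¹ * (c * c') ^ k ∈ V ↔ a⁻¹ * (e * f) ^ k ∈ O z := by
  have hcc : (c * c') * z = z * (c * c') := h.CA _ (mul_mem hc hc') z hz
  have h1 : ((c * c') ^ k)⁻¹ * (e * f) ^ k ∈ O z :=
    h.pow_coset hz hz1 hcc (h.mul_coset hz hz1 (h.CA c' hc' z hz) hce hcf) k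
  rw [← h.Oinf z hz hz1 _ (mul_mem (inv_mem (h.A_le ha)) (pow_mem (mul_mem hc hc') k))]
  have e1 : a⁻¹ * (e * f) ^ k = (a⁻¹ * (c * c') ^ k) * (((c * c') ^ k)⁻¹ * (e * f) ^ k) := by group
  rw [e1]
  exact ((O z).mul_mem_cancel_right h1).symm

/-- Uniqueness of the class of the involution modulo `O z`. -/
theorem class_unique {z : G} (hz : z ∈ A) (hz1 : z ≠ 1) {a b g : G} (ha : a ∈ A) (ha1 : a ≠ 1) (hb : b ∈ A)
    (hb1 : b ≠ 1) {k l : ℕ} (hk : a⁻¹ * g ^ k ∈ O z) (hl : b⁻¹ * g ^ l ∈ O z) : a = b := by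
  have hzA : ∀ x ∈ A, x * z = z * x := fun x hx => h.CA x (h.A_le hx) z hz
  have key : ∀ {x : G} {m : ℕ}, x ∈ A → x ≠ 1 → x⁻¹ * g ^ m ∈ O z →
      g ^ (m : ℤ) ∉ O z ∧ g ^ (2 * (m : ℤ)) ∈ O z := by
    intro x m hx hx1 hm
    constructor
    · intro h1
      rw [zpow_natCast] at h1
      have h2 : x⁻¹ ∈ O z := by
        have := mul_mem hm (inv_mem h1)
        rwa [mul_inv_cancel_right] at this
      exact h.not_mem_O hz hz1 (h.A_sq x hx) hx1 ((inv_mem_iff).1 h2)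
    · have h1 := h.mul_coset hz hz1 (hzA x hx) hm hm
      rw [h.A_sq x hx, inv_one, one_mul, ← pow_add, ← two_mul] at h1
      have e1 : (2 * (m : ℤ)) = ((2 * m : ℕ) : ℤ) := by push_cast; ring
      rw [e1, zpow_natCast]
      exact h1
  obtain ⟨hk1, hk2⟩ := key ha ha1 hk
  obtain ⟨hl1, hl2⟩ := key hb hb1 hl
  have h1 := zpow_unique hk1 hk2 hl1 hl2
  rw [zpow_sub, zpow_natCast, zpow_natCast] at h1
  -- `a⁻¹ b ∈ O z`
  have h2 : a⁻¹ * b ∈ O z := by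
    have h3 : (g ^ k * (g ^ l)⁻¹) ∈ O z := h1
    have e1 : a⁻¹ * b = (a⁻¹ * g ^ k) * ((g ^ k)⁻¹ * g ^ l) * (b⁻¹ * g ^ l)⁻¹ := by group
    rw [e1]
    refine mul_mem (mul_mem hk ?_) (inv_mem hl)
    have h4 := inv_mem h3
    have e2 : (g ^ k)⁻¹ * g ^ l = (g ^ k * (g ^ l)⁻¹)⁻¹ := by
      rw [mul_inv_rev, inv_inv, ← zpow_natCast, ← zpow_natCast, ← zpow_neg, ← zpow_add, ← zpow_add, add_comm]
    rw [e2]
    exact h4
  have h3 : (a⁻¹ * b) * (a⁻¹ * b) = 1 := h.A_sq _ (mul_mem (inv_mem ha) hb)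
  have h4 := eq_one_of_odd (h.Oodd z hz hz1) h2 h3
  exact (inv_mul_eq_one.1 h4)

end Frame

open Classical in
/-- The pairs `(e, f)` in `C(z)` such that a power of `e f` is congruent to `a` modulo `O z`. -/
noncomputable def pairs (E F : Finset G) (O : G → Subgroup G) (z a : G) : Finset (G × G) :=
  ((cent E z) ×ˢ (cent F z)).filter (fun p => ∃ k : ℕ, a⁻¹ * (p.1 * p.2) ^ k ∈ O z)

theorem mem_pairs {E F : Finset G} {O : G → Subgroup G} {z a : G} {p : G × G} :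
    p ∈ pairs E F O z a ↔ (p.1 ∈ cent E z ∧ p.2 ∈ cent F z) ∧ ∃ k : ℕ, a⁻¹ * (p.1 * p.2) ^ k ∈ O z := by
  classical
  unfold pairs
  rw [Finset.mem_filter, Finset.mem_product]

open Classical in
/-- The weighted count over `C × C`. -/
noncomputable def weight (E F CC : Finset G) (O : G → Subgroup G) (V : Subgroup G) (z a : G) : ℕ :=
  ∑ c ∈ (CC ×ˢ CC).filter (fun c => ∃ k : ℕ, a⁻¹ * (c.1 * c.2) ^ k ∈ V), mu E O z c.1 * mu F O z c.2

namespace Frame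

variable {A C V : Subgroup G} {O : G → Subgroup G} (h : Frame A C V O)

include h

theorem weight_eq {E F CC : Finset G} (hCC : ∀ c, c ∈ CC ↔ c ∈ C) {z a : G} (hz : z ∈ A) (hz1 : z ≠ 1)
    (ha : a ∈ A) : weight E F CC O V z a = (pairs E F O z a).card * (Nat.card V * Nat.card V) := by
  classical
  let r : G × G → G × G → Prop := fun c p => c.1⁻¹ * p.1 ∈ O z ∧ c.2⁻¹ * p.2 ∈ O z
  have key := Finset.sum_card_bipartiteAbove_eq_sum_card_bipartiteBelow (r := r)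
    (s := (CC ×ˢ CC).filter (fun c => ∃ k : ℕ, a⁻¹ * (c.1 * c.2) ^ k ∈ V)) (t := pairs E F O z a)
  have h1 : ∀ c ∈ (CC ×ˢ CC).filter (fun c => ∃ k : ℕ, a⁻¹ * (c.1 * c.2) ^ k ∈ V),
      (Finset.bipartiteAbove r (pairs E F O z a) c).card = mu E O z c.1 * mu F O z c.2 := by
    intro c hc
    rw [Finset.mem_filter, Finset.mem_product, hCC, hCC] at hc
    obtain ⟨⟨hc1, hc2⟩, k, hk⟩ := hc
    rw [mu_def, mu_def, ← Finset.card_product]
    congr 1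
    ext p
    rw [Finset.mem_bipartiteAbove, mem_pairs, Finset.mem_product, Finset.mem_filter, Finset.mem_filter, mem_cent,
      mem_cent]
    constructor
    · rintro ⟨⟨⟨hp1, hp2⟩, _⟩, hr1, hr2⟩
      exact ⟨⟨hp1.1, hr1⟩, hp2.1, hr2⟩
    · rintro ⟨⟨hp1, hr1⟩, hp2, hr2⟩
      exact ⟨⟨⟨⟨hp1, h.comm_of_coset hz hz1 hc1 hr1⟩, hp2, h.comm_of_coset hz hz1 hc2 hr2⟩, k,
        (h.rel_iff hz hz1 ha hc1 hc2 hr1 hr2 k).1 hk⟩, hr1, hr2⟩
  have h2 : ∀ p ∈ pairs E F O z a, (Finset.bipartiteBelow r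
      ((CC ×ˢ CC).filter (fun c => ∃ k : ℕ, a⁻¹ * (c.1 * c.2) ^ k ∈ V)) p).card = Nat.card V * Nat.card V := by
    intro p hp
    rw [mem_pairs, mem_cent, mem_cent] at hp
    obtain ⟨⟨⟨hp1, hp1z⟩, hp2, hp2z⟩, k, hk⟩ := hp
    rw [← h.card_fibre hz hz1 hp1z CC hCC]
    nth_rewrite 2 [h.card_fibre hz hz1 hp1z CC hCC]
    rw [← h.card_fibre hz hz1 hp2z CC hCC, ← Finset.card_product]
    congr 1
    ext c
    rw [Finset.mem_bipartiteBelow, Finset.mem_filter, Finset.mem_product, Finset.mem_product, Finset.mem_filter,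
      Finset.mem_filter, hCC, hCC]
    constructor
    · rintro ⟨⟨⟨hc1, hc2⟩, _⟩, hr1, hr2⟩
      exact ⟨⟨hc1, hr1⟩, hc2, hr2⟩
    · rintro ⟨⟨hc1, hr1⟩, hc2, hr2⟩
      exact ⟨⟨⟨hc1, hc2⟩, k, (h.rel_iff hz hz1 ha hc1 hc2 hr1 hr2 k).2 hk⟩, hr1, hr2⟩
  rw [Finset.sum_congr rfl h1, Finset.sum_congr rfl h2, Finset.sum_const, smul_eq_mul] at key
  exact key

theorem Vconj {z : G} (hz : z ∈ A) (hz1 : z ≠ 1) {n : G} (hn : n ∈ normalizer (A : Set G)) {v : G} (hv : v ∈ V) :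
    n * v * n⁻¹ ∈ V := by
  have h1 := h.Oconj z hz hz1 n hn v (h.V_le_O hz hz1 hv)
  exact (h.Oinf _ (conj_mem_of_normalizer hn hz) (conj_ne_one hz1) _ (h.Cconj n hn v (h.V_le hv))).1 h1

theorem weight_conj {E F CC : Finset G} (hE : ∀ e ∈ E, ∀ g : G, g * e * g⁻¹ ∈ E)
    (hF : ∀ e ∈ F, ∀ g : G, g * e * g⁻¹ ∈ F) (hCC : ∀ c, c ∈ CC ↔ c ∈ C) {z a : G} (hz : z ∈ A) (hz1 : z ≠ 1)
    {n : G} (hn : n ∈ normalizer (A : Set G)) :
    weight E F CC O V (n * z * n⁻¹) (n * a * n⁻¹) = weight E F CC O V z a := by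
  classical
  unfold weight
  symm
  refine Finset.sum_bij (fun c _ => (n * c.1 * n⁻¹, n * c.2 * n⁻¹)) ?_ ?_ ?_ ?_
  · intro c hc
    rw [Finset.mem_filter, Finset.mem_product, hCC, hCC] at hc ⊢
    obtain ⟨⟨hc1, hc2⟩, k, hk⟩ := hc
    refine ⟨⟨h.Cconj n hn _ hc1, h.Cconj n hn _ hc2⟩, k, ?_⟩
    have e1 : (n * a * n⁻¹)⁻¹ * (n * c.1 * n⁻¹ * (n * c.2 * n⁻¹)) ^ k = n * (a⁻¹ * (c.1 * c.2) ^ k) * n⁻¹ := by
      have e2 : n * c.1 * n⁻¹ * (n * c.2 * n⁻¹) = n * (c.1 * c.2) * n⁻¹ := by group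
      rw [e2, conj_pow]
      group
    change (n * a * n⁻¹)⁻¹ * (n * c.1 * n⁻¹ * (n * c.2 * n⁻¹)) ^ k ∈ V
    rw [e1]
    exact h.Vconj hz hz1 hn hk
  · intro c _ c' _ hcc
    have h1 := congrArg Prod.fst hcc
    have h2 := congrArg Prod.snd hcc
    exact Prod.ext (mul_left_cancel (mul_right_cancel h1)) (mul_left_cancel (mul_right_cancel h2))
  · intro c hc
    rw [Finset.mem_filter, Finset.mem_product, hCC, hCC] at hc
    obtain ⟨⟨hc1, hc2⟩, k, hk⟩ := hc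
    have hn' := inv_mem hn
    refine ⟨(n⁻¹ * c.1 * n, n⁻¹ * c.2 * n), ?_, ?_⟩
    · rw [Finset.mem_filter, Finset.mem_product, hCC, hCC]
      refine ⟨⟨by simpa using h.Cconj _ hn' _ hc1, by simpa using h.Cconj _ hn' _ hc2⟩, k, ?_⟩
      have e1 : a⁻¹ * (n⁻¹ * c.1 * n * (n⁻¹ * c.2 * n)) ^ k = n⁻¹ * ((n * a * n⁻¹)⁻¹ * (c.1 * c.2) ^ k) * n⁻¹⁻¹ := by
        have e2 : n⁻¹ * c.1 * n * (n⁻¹ * c.2 * n) = n⁻¹ * (c.1 * c.2) * n⁻¹⁻¹ := by group
        rw [e2, conj_pow]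
        group
      change a⁻¹ * (n⁻¹ * c.1 * n * (n⁻¹ * c.2 * n)) ^ k ∈ V
      rw [e1]
      exact h.Vconj hz hz1 hn' hk
    · ext <;> simp [mul_assoc]
  · intro c _
    rw [h.mu_conj hE hz hz1 hn, h.mu_conj hF hz hz1 hn]

/-- Hypothesis on a class of involutions `E`. -/
structure _root_.Cfsg.Agent.TwoFusion.GoldLFour.IsGood (A C : Subgroup G) (E : Finset G) : Prop where
  conj : ∀ e ∈ E, ∀ g : G, g * e * g⁻¹ ∈ E
  sq : ∀ e ∈ E, e * e = 1
  rot : ∀ e ∈ E, e ∈ C → ∀ z ∈ A, z ≠ 1 → ∀ z' ∈ A, z' ≠ 1 → ∃ n ∈ normalizer (A : Set G),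
      n * e = e * n ∧ n * z * n⁻¹ = z'

theorem weight_indep {E F CC : Finset G} (hE : IsGood A C E) (hF : IsGood A C F) (hCC : ∀ c, c ∈ CC ↔ c ∈ C)
    {z z' a : G} (hz : z ∈ A) (hz1 : z ≠ 1) (hz' : z' ∈ A) (hz1' : z' ≠ 1) :
    weight E F CC O V z a = weight E F CC O V z' a := by
  classical
  unfold weight
  refine Finset.sum_congr rfl fun c hc => ?_
  rw [Finset.mem_filter, Finset.mem_product, hCC, hCC] at hc
  rw [h.mu_indep hE.conj hE.sq hE.rot hz hz1 hz' hz1' hc.1.1, h.mu_indep hF.conj hF.sq hF.rot hz hz1 hz' hz1' hc.1.2]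

theorem pairs_card_eq [Finite G] {E F : Finset G} (hE : IsGood A C E) (hF : IsGood A C F)
    (htr : ∀ a ∈ A, a ≠ 1 → ∀ b ∈ A, b ≠ 1 → ∃ n ∈ normalizer (A : Set G), n * a * n⁻¹ = b)
    {z a b : G} (hz : z ∈ A) (hz1 : z ≠ 1) (ha : a ∈ A) (ha1 : a ≠ 1) (hb : b ∈ A) (hb1 : b ≠ 1) :
    (pairs E F O z a).card = (pairs E F O z b).card := by
  classical
  let CC : Finset G := (Set.toFinite (C : Set G)).toFinset
  have hCC : ∀ c, c ∈ CC ↔ c ∈ C := fun c => by simp [CC]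
  obtain ⟨n, hn, hnab⟩ := htr a ha ha1 b hb hb1
  have h1 := h.weight_eq (E := E) (F := F) hCC hz hz1 ha
  have h2 := h.weight_eq (E := E) (F := F) hCC hz hz1 hb
  have h3 := h.weight_conj hE.conj hF.conj hCC (a := a) hz hz1 hn
  rw [hnab] at h3
  have h4 := h.weight_indep hE hF hCC (a := b) (conj_mem_of_normalizer hn hz) (conj_ne_one hz1) hz hz1
  have h5 : (pairs E F O z a).card * (Nat.card V * Nat.card V) =
      (pairs E F O z b).card * (Nat.card V * Nat.card V) := by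
    rw [← h1, ← h2, ← h3, h4]
  exact Nat.eq_of_mul_eq_mul_right (Nat.mul_pos Nat.card_pos Nat.card_pos) h5

/-- **Equidistribution.** -/
theorem equi [Finite G] (hA : Nat.card A = 4) {E F : Finset G} (hE : IsGood A C E) (hF : IsGood A C F)
    (htr : ∀ a ∈ A, a ≠ 1 → ∀ b ∈ A, b ≠ 1 → ∃ n ∈ normalizer (A : Set G), n * a * n⁻¹ = b)
    {z : G} (hz : z ∈ A) (hz1 : z ≠ 1)
    (hex : ∀ e ∈ E, e * z = z * e → ∀ f ∈ F, f * z = z * f →
      ∃ a ∈ A, a ≠ 1 ∧ ∃ k : ℕ, a⁻¹ * (e * f) ^ k ∈ O z) :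
    3 * (pairs E F O z z).card = (cent E z).card * (cent F z).card := by
  classical
  let A' : Finset G := (Set.toFinite ((A : Set G) \ {1})).toFinset
  have hA' : ∀ a, a ∈ A' ↔ a ∈ A ∧ a ≠ 1 := fun a => by simp [A']
  have hcard : A'.card = 3 := by
    have h1 : A'.card = ((A : Set G) \ {1}).ncard := (Set.ncard_eq_toFinset_card _ _).symm
    rw [h1, Set.ncard_sdiff_singleton_of_mem (one_mem A)]
    have : (A : Set G).ncard = 4 := by rw [← Nat.card_coe_set_eq]; exact hA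
    omega
  have h1 : (cent E z) ×ˢ (cent F z) = A'.biUnion (fun a => pairs E F O z a) := by
    ext p
    rw [Finset.mem_biUnion, Finset.mem_product]
    constructor
    · rintro ⟨h1, h2⟩
      obtain ⟨a, ha, ha1, hk⟩ := hex _ (mem_cent.1 h1).1 (mem_cent.1 h1).2 _ (mem_cent.1 h2).1 (mem_cent.1 h2).2
      exact ⟨a, (hA' a).2 ⟨ha, ha1⟩, mem_pairs.2 ⟨⟨h1, h2⟩, hk⟩⟩
    · rintro ⟨a, _, hp⟩
      exact (mem_pairs.1 hp).1
  have h2 : (A'.biUnion (fun a => pairs E F O z a)).card = ∑ a ∈ A', (pairs E F O z a).card := by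
    apply Finset.card_biUnion
    intro a ha b hb hab
    have ha := (hA' a).1 ha
    have hb := (hA' b).1 hb
    show Disjoint (pairs E F O z a) (pairs E F O z b)
    rw [Finset.disjoint_left]
    intro p hp hp'
    obtain ⟨_, k, hk⟩ := mem_pairs.1 hp
    obtain ⟨_, l, hl⟩ := mem_pairs.1 hp'
    exact hab (h.class_unique hz hz1 ha.1 ha.2 hb.1 hb.2 hk hl)
  rw [← Finset.card_product, h1, h2, Finset.sum_congr rfl (fun a ha =>
    h.pairs_card_eq hE hF htr hz hz1 ((hA' a).1 ha).1 ((hA' a).1 ha).2 hz hz1), Finset.sum_const, hcard,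
    smul_eq_mul]

end Frame

end Cfsg.Agent.TwoFusion.GoldLFour
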