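import Mathlib

/-!
# The linear algebra step of Goldschmidt's theorem

`V` is an abelian 2-group (in the application: a minimal strongly closed elementary abelian
subgroup), `Γ` acts irreducibly on it, and `P` is an invariant family of pairs
`(A_L, D_L)` of complements.  See `gold_lin` at the end of the file.
-/

set_option autoImplicit false
set_option linter.unusedSectionVars false

open scoped Pointwise

namespace Cfsg.Agent.TwoFusion.GoldLin

/-- A finite set with a fixed point free involution has even cardinality. -/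
theorem even_of_involution {α : Type*} (s : Finset α) (τ : ∀ a ∈ s, α)
    (h1 : ∀ a (ha : a ∈ s), τ a ha ∈ s) (h2 : ∀ a (ha : a ∈ s), τ (τ a ha) (h1 a ha) = a)
    (h3 : ∀ a (ha : a ∈ s), τ a ha ≠ a) : Even s.card := by
  have h := Finset.sum_involution (s := s) (f := fun _ => (1 : ZMod 2)) τ
    (fun a ha => by decide) (fun a ha _ => h3 a ha) h1 h2
  rw [Finset.sum_const, nsmul_eq_mul, mul_one] at h
  exact (ZMod.natCast_eq_zero_iff_even).1 h

variable {Γ V : Type*} [Group Γ] [CommGroup V] [MulDistribMulAction Γ V]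

/-- The data of the linear algebra step. -/
structure Fam (Γ : Type*) {V : Type*} [Group Γ] [CommGroup V] [MulDistribMulAction Γ V]
    (P : Set (Subgroup V × Subgroup V)) (q : ℕ) : Prop where
  card_fst : ∀ p ∈ P, Nat.card p.1 = q
  fst_ne : ∀ p ∈ P, p.1 ≠ ⊥
  snd_ne : ∀ p ∈ P, p.2 ≠ ⊥
  compl : ∀ p ∈ P, IsCompl p.1 p.2
  inv : ∀ g : Γ, ∀ p ∈ P, g • p ∈ P
  ti : ∀ p ∈ P, ∀ m ∈ P, p ≠ m → p.2 ⊓ m.2 ≠ ⊥ → p.1 ≤ m.2 ∧ m.1 ≤ p.2
  tr : ∀ p ∈ P, ∀ x ∈ p.1, ∀ y ∈ p.1, x ≠ 1 → y ≠ 1 →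
    ∃ g : Γ, g • x = y ∧ g • p.1 = p.1 ∧ ∀ d ∈ p.2, g • d = d

/-- Pairwise trivial intersections of second components. -/
def Disj (P : Set (Subgroup V × Subgroup V)) : Prop :=
  ∀ p ∈ P, ∀ m ∈ P, p ≠ m → p.2 ⊓ m.2 = ⊥

/-- `v` is in one of the second components. -/
def InU (P : Set (Subgroup V × Subgroup V)) (v : V) : Prop := ∃ m ∈ P, v ∈ m.2

variable {P : Set (Subgroup V × Subgroup V)} {q : ℕ}

namespace Fam

theorem mono (h : Fam Γ P q) {P' : Set (Subgroup V × Subgroup V)} (hs : P' ⊆ P)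
    (hi : ∀ g : Γ, ∀ p ∈ P', g • p ∈ P') : Fam Γ P' q where
  card_fst p hp := h.card_fst p (hs hp)
  fst_ne p hp := h.fst_ne p (hs hp)
  snd_ne p hp := h.snd_ne p (hs hp)
  compl p hp := h.compl p (hs hp)
  inv := hi
  ti p hp m hm := h.ti p (hs hp) m (hs hm)
  tr p hp := h.tr p (hs hp)

theorem eq_one (h : Fam Γ P q) {p : Subgroup V × Subgroup V} (hp : p ∈ P) {x : V}
    (h1 : x ∈ p.1) (h2 : x ∈ p.2) : x = 1 := by
  have := (h.compl p hp).disjoint.le_bot (Subgroup.mem_inf.2 ⟨h1, h2⟩)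
  simpa using this

theorem exists_mul (h : Fam Γ P q) {p : Subgroup V × Subgroup V} (hp : p ∈ P) (v : V) :
    ∃ d ∈ p.2, ∃ a ∈ p.1, d * a = v := by
  have : v ∈ p.2 ⊔ p.1 := by
    rw [sup_comm, (h.compl p hp).sup_eq_top]; trivial
  exact Subgroup.mem_sup.1 this

theorem isComplement (h : Fam Γ P q) {p : Subgroup V × Subgroup V} (hp : p ∈ P) :
    p.1.IsComplement' p.2 := by
  refine Subgroup.isComplement'_of_disjoint_and_mul_eq_univ (h.compl p hp).disjoint ?_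
  refine Set.eq_univ_of_forall fun v => ?_
  obtain ⟨d, hd, a, ha, e⟩ := h.exists_mul hp v
  exact Set.mem_mul.2 ⟨a, ha, d, hd, by rw [mul_comm, e]⟩

theorem card_mul (h : Fam Γ P q) {p : Subgroup V × Subgroup V} (hp : p ∈ P) :
    q * Nat.card p.2 = Nat.card V := by
  rw [← h.card_fst p hp]
  exact (h.isComplement hp).card_mul_card

variable [Finite V]

theorem q_pos (h : Fam Γ P q) {p : Subgroup V × Subgroup V} (hp : p ∈ P) : 0 < q := by
  rw [← h.card_fst p hp]; exact Nat.card_pos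

theorem card_snd (h : Fam Γ P q) {p m : Subgroup V × Subgroup V} (hp : p ∈ P) (hm : m ∈ P) :
    Nat.card p.2 = Nat.card m.2 := by
  have h1 := h.card_mul hp
  have h2 := h.card_mul hm
  exact Nat.eq_of_mul_eq_mul_left (h.q_pos hp) (h1.trans h2.symm)

theorem disj_of_le (h : Fam Γ P q) (hV : Nat.card V ≤ q ^ 2) : Disj P := by
  intro p hp m hm hpm
  by_contra hne
  obtain ⟨h1, -⟩ := h.ti p hp m hm hpm hne
  have h2 := h.card_mul hm
  have h3 : Nat.card m.2 ≤ q := by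
    have : q * Nat.card m.2 ≤ q * q := by rw [h2, ← sq]; exact hV
    exact Nat.le_of_mul_le_mul_left this (h.q_pos hp)
  have h4 : p.1 = m.2 := Subgroup.eq_of_le_of_card_ge h1 (by rw [h.card_fst p hp]; exact h3)
  apply hne
  rw [← h4, inf_comm]
  exact (h.compl p hp).inf_eq_bot

theorem mem_smul_snd {g : Γ} {m : Subgroup V × Subgroup V} {v : V} (hv : v ∈ m.2) :
    g • v ∈ (g • m).2 := by
  rw [Prod.smul_snd]
  exact Subgroup.smul_mem_pointwise_smul _ _ _ hv

theorem mem_smul_fst {g : Γ} {m : Subgroup V × Subgroup V} {v : V} (hv : v ∈ m.1) :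
    g • v ∈ (g • m).1 := by
  rw [Prod.smul_fst]
  exact Subgroup.smul_mem_pointwise_smul _ _ _ hv

/-- equality of two members with a common nontrivial element in the second component. -/
theorem eq_of_mem (hd : Disj P) {p m : Subgroup V × Subgroup V} (hp : p ∈ P) (hm : m ∈ P) {v : V}
    (hv : v ≠ 1) (h1 : v ∈ p.2) (h2 : v ∈ m.2) : p = m := by
  by_contra hne
  have := hd p hp m hm hne
  have h3 : v ∈ p.2 ⊓ m.2 := Subgroup.mem_inf.2 ⟨h1, h2⟩
  rw [this] at h3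
  exact hv (by simpa using h3)

theorem inU_smul (h : Fam Γ P q) {v : V} (g : Γ) (hv : InU P v) : InU P (g • v) := by
  obtain ⟨m, hm, hvm⟩ := hv
  exact ⟨g • m, h.inv g m hm, mem_smul_snd hvm⟩

theorem inU_smul_iff (h : Fam Γ P q) {v : V} (g : Γ) : InU P (g • v) ↔ InU P v := by
  refine ⟨fun hv => ?_, h.inU_smul g⟩
  have := h.inU_smul g⁻¹ hv
  rwa [inv_smul_smul] at this

/-- The group `H_p` moves `d * a` to `d * a'`. -/
theorem exists_move (h : Fam Γ P q) {p : Subgroup V × Subgroup V} (hp : p ∈ P) {d a a' : V}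
    (hd : d ∈ p.2) (ha : a ∈ p.1) (ha' : a' ∈ p.1) (h1 : a ≠ 1) (h1' : a' ≠ 1) :
    ∃ g : Γ, g • (d * a) = d * a' ∧ g • p = p ∧ ∀ x ∈ p.2, g • x = x := by
  obtain ⟨g, hg, hgp, hgd⟩ := h.tr p hp a ha a' ha' h1 h1'
  refine ⟨g, by rw [smul_mul', hg, hgd d hd], ?_, hgd⟩
  refine Prod.ext ?_ ?_
  · rw [Prod.smul_fst]; exact hgp
  · rw [Prod.smul_snd]
    ext x
    rw [Subgroup.mem_smul_pointwise_iff_exists]
    constructor
    · rintro ⟨s, hs, rfl⟩
      rw [hgd s hs]; exact hs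
    · intro hx
      exact ⟨x, hx, hgd x hx⟩

theorem inU_move (h : Fam Γ P q) {p : Subgroup V × Subgroup V} (hp : p ∈ P) {d a a' : V}
    (hd : d ∈ p.2) (ha : a ∈ p.1) (ha' : a' ∈ p.1) (h1 : a ≠ 1) (h1' : a' ≠ 1)
    (hU : InU P (d * a)) : InU P (d * a') := by
  obtain ⟨g, hg, -, -⟩ := h.exists_move hp hd ha ha' h1 h1'
  rw [← hg]
  exact h.inU_smul g hU

/-- Blocks of imprimitivity of `H_p` on `d * p.1#` have odd size, so they are trivial. -/
theorem blocks (h : Fam Γ P q) (h2 : IsPGroup 2 V) (hD : Disj P)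
    {p m : Subgroup V × Subgroup V} (hp : p ∈ P) (hm : m ∈ P) {d a : V}
    (hd : d ∈ p.2) (hd1 : d ≠ 1) (ha : a ∈ p.1) (ha1 : a ≠ 1) (hda : d * a ∈ m.2) :
    m.2 ⊓ p.1 = ⊥ := by
  classical
  by_contra hne
  have := Fintype.ofFinite V
  -- for every `b ∈ p.1#` there is a pair `n` with `d * b ∈ n.2` and an involution in `n.2 ⊓ p.1`
  have key : ∀ b ∈ p.1, b ≠ 1 → ∃ n ∈ P, d * b ∈ n.2 ∧ n.2 ⊓ p.1 ≠ ⊥ := by
    intro b hb hb1
    obtain ⟨g, hg, hgp, -⟩ := h.exists_move hp hd ha hb ha1 hb1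
    refine ⟨g • m, h.inv g m hm, ?_, ?_⟩
    · rw [← hg]; exact mem_smul_snd hda
    · intro hbot
      apply hne
      have e1 : g • p.1 = p.1 := by
        have := congrArg Prod.fst hgp
        rwa [Prod.smul_fst] at this
      rw [Prod.smul_snd, ← e1, ← Subgroup.smul_inf] at hbot
      have : m.2 ⊓ p.1 = g⁻¹ • (⊥ : Subgroup V) := by
        rw [← hbot, inv_smul_smul]
      rw [this, Subgroup.smul_bot]
  have keyinv : ∀ n : Subgroup V × Subgroup V, n.2 ⊓ p.1 ≠ ⊥ →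
      ∃ x ∈ n.2 ⊓ p.1, x ≠ 1 ∧ x * x = 1 := by
    intro n hn
    have hpg : IsPGroup 2 (n.2 ⊓ p.1 : Subgroup V) := h2.to_subgroup _
    have hnt : Nontrivial (n.2 ⊓ p.1 : Subgroup V) := (Subgroup.nontrivial_iff_ne_bot _).2 hn
    have hdvd : 2 ∣ Nat.card (n.2 ⊓ p.1 : Subgroup V) := by
      obtain ⟨k, hk0, hk⟩ := (IsPGroup.nontrivial_iff_card hpg).1 hnt
      rw [hk]
      exact dvd_pow_self 2 hk0.ne'
    obtain ⟨x, hx⟩ := exists_prime_orderOf_dvd_card' 2 hdvd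
    refine ⟨x, x.2, ?_, ?_⟩
    · intro hx1
      have : x = 1 := Subtype.ext hx1
      rw [this, orderOf_one] at hx
      exact absurd hx (by norm_num)
    · have := pow_orderOf_eq_one x
      rw [hx, sq] at this
      exact congrArg Subtype.val this
  choose! n hnP hdn hnn using key
  choose! x hx hx1 hxx using keyinv
  set T : Finset V := Finset.univ.filter (fun b => b ∈ p.1 ∧ b ≠ 1) with hT
  have hTm : ∀ b, b ∈ T ↔ b ∈ p.1 ∧ b ≠ 1 := fun b => by simp [hT]
  have hodd : ¬ Even T.card := by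
    have hc : T.card + 1 = q := by
      rw [← h.card_fst p hp, ← Set.ncard_coe_finset T]
      have e : (p.1 : Set V) = insert 1 (T : Set V) := by
        ext b
        simp only [Set.mem_insert_iff, hTm, SetLike.mem_coe]
        constructor
        · intro hb
          by_cases hb1 : b = 1
          · exact Or.inl hb1
          · exact Or.inr ⟨hb, hb1⟩
        · rintro (rfl | hb)
          · exact one_mem _
          · exact hb.1
      have e2 : Nat.card p.1 = (p.1 : Set V).ncard := rfl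
      rw [e2, e, Set.ncard_insert_of_notMem]
      simp [hTm]
    have hqe : Even q := by
      rw [← h.card_fst p hp]
      have hnt : Nontrivial p.1 := (Subgroup.nontrivial_iff_ne_bot _).2 (h.fst_ne p hp)
      obtain ⟨k, hk0, hk⟩ := (IsPGroup.nontrivial_iff_card (h2.to_subgroup p.1)).1 hnt
      rw [hk]
      exact (Nat.even_pow.2 ⟨even_two, hk0.ne'⟩)
    intro he
    rw [← hc] at hqe
    exact absurd (Nat.even_add_one.1 hqe) (by simpa using he)
  apply hodd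
  have hpn : ∀ b ∈ p.1, b ≠ 1 → n b ≠ p := by
    intro b hb hb1 e
    have := hdn b hb hb1
    rw [e] at this
    have hbp : b ∈ p.2 := by
      have := p.2.mul_mem (p.2.inv_mem hd) this
      rwa [inv_mul_cancel_left] at this
    exact hb1 (h.eq_one hp hb hbp)
  have hdb : ∀ b ∈ p.1, b ≠ 1 → d * b ≠ 1 := by
    intro b hb hb1 e
    have : b = d⁻¹ := by rw [eq_inv_iff_mul_eq_one, mul_comm]; exact e
    exact hb1 (h.eq_one hp hb (this ▸ p.2.inv_mem hd))
  have hstep : ∀ b ∈ p.1, b ≠ 1 → b * x (n b) ∈ p.1 ∧ b * x (n b) ≠ 1 ∧ n (b * x (n b)) = n b := by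
    intro b hb hb1
    have hx' := hx (n b) (hnn b hb hb1)
    have hm1 : b * x (n b) ∈ p.1 := p.1.mul_mem hb (Subgroup.mem_inf.1 hx').2
    have hne1 : b * x (n b) ≠ 1 := by
      intro e
      have hxb : b ∈ (n b).2 := by
        have : b = (x (n b))⁻¹ := eq_inv_of_mul_eq_one_left e
        have e3 := (n b).2.inv_mem (Subgroup.mem_inf.1 hx').1
        rwa [← this] at e3
      have hdnb : d ∈ (n b).2 := by
        have := (n b).2.mul_mem (hdn b hb hb1) ((n b).2.inv_mem hxb)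
        rwa [mul_inv_cancel_right] at this
      exact hpn b hb hb1 (eq_of_mem hD (hnP b hb hb1) hp hd1 hdnb hd)
    refine ⟨hm1, hne1, ?_⟩
    refine eq_of_mem hD (hnP _ hm1 hne1) (hnP b hb hb1) (hdb _ hm1 hne1) (hdn _ hm1 hne1) ?_
    rw [← mul_assoc]
    exact (n b).2.mul_mem (hdn b hb hb1) (Subgroup.mem_inf.1 hx').1
  refine even_of_involution T (fun b _ => b * x (n b)) ?_ ?_ ?_
  · intro b hb
    rw [hTm] at hb ⊢
    exact ⟨(hstep b hb.1 hb.2).1, (hstep b hb.1 hb.2).2.1⟩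
  · intro b hb
    rw [hTm] at hb
    rw [(hstep b hb.1 hb.2).2.2, mul_assoc, hxx _ (hnn b hb.1 hb.2), mul_one]
  · intro b hb e
    rw [hTm] at hb
    exact hx1 _ (hnn b hb.1 hb.2) (mul_eq_left.1 e)

/-- If `m.2` meets `p.1` trivially then it is a complement of it. -/
theorem graph (h : Fam Γ P q) {p m : Subgroup V × Subgroup V} (hp : p ∈ P) (hm : m ∈ P)
    (hb : m.2 ⊓ p.1 = ⊥) (v : V) : ∃ a ∈ p.1, v * a ∈ m.2 := by
  have hc : Nat.card m.2 * Nat.card p.1 = Nat.card V := by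
    rw [h.card_snd hm hp, mul_comm, h.card_fst p hp, h.card_mul hp]
  have hcompl : m.2.IsComplement' p.1 :=
    Subgroup.isComplement'_of_card_mul_and_disjoint hc (disjoint_iff.2 hb)
  obtain ⟨⟨b, a⟩, e⟩ := hcompl.2 v
  refine ⟨(a : V)⁻¹, p.1.inv_mem a.2, ?_⟩
  have e' : (b : V) * a = v := e
  rw [← e', mul_inv_cancel_right]
  exact b.2

/-- `m.2` is contained in `p.1` or meets it trivially. -/
theorem le_or_inf (h : Fam Γ P q) (h2 : IsPGroup 2 V) (hD : Disj P)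
    {p m : Subgroup V × Subgroup V} (hp : p ∈ P) (hm : m ∈ P) :
    m.2 ≤ p.1 ∨ m.2 ⊓ p.1 = ⊥ := by
  by_cases hpm : m = p
  · right; rw [hpm, inf_comm]; exact (h.compl p hp).inf_eq_bot
  by_contra hcon
  push Not at hcon
  apply hcon.1
  intro v hv
  obtain ⟨d, hd, a, ha, e⟩ := h.exists_mul hp v
  by_cases hd1 : d = 1
  · rw [← e, hd1, one_mul]; exact ha
  by_cases ha1 : a = 1
  · exfalso
    apply hpm
    have : v = d := by rw [← e, ha1, mul_one]
    exact eq_of_mem hD hm hp hd1 (this ▸ hv) hd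
  · exact absurd (h.blocks h2 hD hp hm hd hd1 ha ha1 (e ▸ hv)) hcon.2

/-- Propagation to all of `p.2# * p.1#`. -/
theorem inU_all (h : Fam Γ P q) (h2 : IsPGroup 2 V) (hD : Disj P)
    {p : Subgroup V × Subgroup V} (hp : p ∈ P) {d a : V}
    (hd : d ∈ p.2) (hd1 : d ≠ 1) (ha : a ∈ p.1) (ha1 : a ≠ 1) (hU : InU P (d * a))
    {d' a' : V} (hd' : d' ∈ p.2) (hd1' : d' ≠ 1) (ha' : a' ∈ p.1) (ha1' : a' ≠ 1) :
    InU P (d' * a') := by
  obtain ⟨m, hm, hda⟩ := hU
  have hb := h.blocks h2 hD hp hm hd hd1 ha ha1 hda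
  obtain ⟨a'', ha'', hm''⟩ := h.graph hp hm hb d'
  have hpm : m ≠ p := by
    intro e
    rw [e] at hda
    have : a ∈ p.2 := by
      have := p.2.mul_mem (p.2.inv_mem hd) hda
      rwa [inv_mul_cancel_left] at this
    exact ha1 (h.eq_one hp ha this)
  have ha1'' : a'' ≠ 1 := by
    intro e
    rw [e, mul_one] at hm''
    exact hpm (eq_of_mem hD hm hp hd1' hm'' hd')
  exact h.inU_move hp hd' ha'' ha' ha1'' ha1' ⟨m, hm, hm''⟩


/-- Irreducibility. -/
def Irr (Γ V : Type*) [Group Γ] [CommGroup V] [MulDistribMulAction Γ V] : Prop :=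
  ∀ W : Subgroup V, (∀ g : Γ, g • W ≤ W) → W = ⊥ ∨ W = ⊤

theorem mk_invariant {W : Subgroup V} (h : ∀ g : Γ, ∀ x ∈ W, g • x ∈ W) (g : Γ) :
    g • W ≤ W := by
  intro y hy
  obtain ⟨s, hs, rfl⟩ := (Subgroup.mem_smul_pointwise_iff_exists _ _ _).1 hy
  exact h g s hs

/-- `p.1` is not invariant. -/
theorem fst_not_inv (h : Fam Γ P q) (hirr : Irr Γ V) {p : Subgroup V × Subgroup V} (hp : p ∈ P)
    (hinv : ∀ g : Γ, ∀ x ∈ p.1, g • x ∈ p.1) : False := by
  rcases hirr p.1 (mk_invariant hinv) with h1 | h1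
  · exact h.fst_ne p hp h1
  · have := (h.compl p hp).inf_eq_bot
    rw [h1, top_inf_eq] at this
    exact h.snd_ne p hp this

theorem snd_not_inv (h : Fam Γ P q) (hirr : Irr Γ V) {p : Subgroup V × Subgroup V} (hp : p ∈ P)
    (hinv : ∀ g : Γ, ∀ x ∈ p.2, g • x ∈ p.2) : False := by
  rcases hirr p.2 (mk_invariant hinv) with h1 | h1
  · exact h.snd_ne p hp h1
  · have := (h.compl p hp).inf_eq_bot
    rw [h1, inf_top_eq] at this
    exact h.fst_ne p hp this

theorem exists_ne_one_of_ne_bot {W : Subgroup V} (h : W ≠ ⊥) : ∃ x ∈ W, x ≠ 1 := by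
  by_contra hcon
  push Not at hcon
  exact h ((Subgroup.eq_bot_iff_forall W).2 hcon)

/-- The case `U = p.1# ∪ p.2#`. -/
theorem case_swap (h : Fam Γ P q) (hD : Disj P) (hirr : Irr Γ V)
    (hidx : ∀ N : Subgroup Γ, (MulDistribMulAction.toMulAut Γ V).ker ≤ N → N.index ≠ 2)
    {p : Subgroup V × Subgroup V} (hp : p ∈ P) (hP : P = MulAction.orbit Γ p)
    (hU : ∀ v : V, v ≠ 1 → (InU P v ↔ v ∈ p.1 ∨ v ∈ p.2)) : False := by
  -- the set `p.1 ∪ p.2` is invariant
  have hinv : ∀ g : Γ, ∀ v : V, v ∈ p.1 ∨ v ∈ p.2 → g • v ∈ p.1 ∨ g • v ∈ p.2 := by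
    intro g v hv
    by_cases hv1 : v = 1
    · left; rw [hv1, smul_one]; exact one_mem _
    · have h1 : InU P v := (hU v hv1).2 hv
      have h2 : InU P (g • v) := h.inU_smul g h1
      have h3 : g • v ≠ 1 := by
        intro e; apply hv1
        rw [← inv_smul_smul g v, e, smul_one]
      exact (hU _ h3).1 h2
  have key : ∀ m ∈ P, m ≠ p → m = (p.2, p.1) := by
    intro m hm hmp
    -- m = g • p
    obtain ⟨g, hg⟩ : ∃ g : Γ, g • p = m := by rw [hP] at hm; exact hm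
    have hu : ∀ v, v ∈ m.1 ∨ v ∈ m.2 ↔ v ∈ p.1 ∨ v ∈ p.2 := by
      intro v
      have e1 : v ∈ m.1 ↔ g⁻¹ • v ∈ p.1 := by
        rw [← hg, Prod.smul_fst, Subgroup.mem_pointwise_smul_iff_inv_smul_mem]
      have e2 : v ∈ m.2 ↔ g⁻¹ • v ∈ p.2 := by
        rw [← hg, Prod.smul_snd, Subgroup.mem_pointwise_smul_iff_inv_smul_mem]
      rw [e1, e2]
      constructor
      · intro hv
        have := hinv g _ hv
        rwa [smul_inv_smul] at this
      · exact hinv g⁻¹ v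
    have a1 : p.2 ≤ m.1 := by
      intro x hx
      by_cases hx1 : x = 1
      · rw [hx1]; exact one_mem _
      rcases (hu x).2 (Or.inr hx) with h1 | h1
      · exact h1
      · exact absurd (eq_of_mem hD hm hp hx1 h1 hx) hmp
    have a2 : m.2 ≤ p.1 := by
      intro x hx
      by_cases hx1 : x = 1
      · rw [hx1]; exact one_mem _
      rcases (hu x).1 (Or.inr hx) with h1 | h1
      · exact h1
      · exact absurd (eq_of_mem hD hm hp hx1 hx h1) hmp
    -- union of two subgroups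
    have b1 : m.1 ≤ p.2 := by
      intro x hx
      rcases (hu x).1 (Or.inl hx) with h1 | h1
      · -- x ∈ p.1, take d ∈ p.2#
        by_contra hx2
        obtain ⟨d, hd, hd1⟩ := exists_ne_one_of_ne_bot (h.snd_ne p hp)
        rcases (hu (d * x)).1 (Or.inl (m.1.mul_mem (a1 hd) hx)) with h3 | h3
        · have : d ∈ p.1 := by
            have := p.1.mul_mem h3 (p.1.inv_mem h1)
            rwa [mul_inv_cancel_right] at this
          exact hd1 (h.eq_one hp this hd)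
        · have : x ∈ p.2 := by
            have := p.2.mul_mem (p.2.inv_mem hd) h3
            rwa [inv_mul_cancel_left] at this
          exact hx2 this
      · exact h1
    have b2 : p.1 ≤ m.2 := by
      intro x hx
      rcases (hu x).2 (Or.inl hx) with h1 | h1
      · have := b1 h1
        rw [h.eq_one hp hx this]; exact one_mem _
      · exact h1
    exact Prod.ext (le_antisymm b1 a1) (le_antisymm a2 b2)
  by_cases hall : ∀ m ∈ P, m = p
  · apply h.fst_not_inv hirr hp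
    intro g x hx
    have : g • p = p := hall _ (h.inv g p hp)
    have h2 : g • x ∈ (g • p).1 := mem_smul_fst hx
    rwa [this] at h2
  · push Not at hall
    obtain ⟨m, hm, hmp⟩ := hall
    have hPe : P = {p, m} := by
      ext n
      constructor
      · intro hn
        by_cases hnp : n = p
        · exact Or.inl hnp
        · right
          rw [Set.mem_singleton_iff, key n hn hnp, key m hm hmp]
      · rintro (rfl | hn)
        · exact hp
        · rw [Set.mem_singleton_iff.1 hn]; exact hm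
    have hi := MulAction.index_stabilizer Γ p
    rw [← hP, hPe, Set.ncard_pair (Ne.symm hmp)] at hi
    refine hidx _ ?_ hi
    intro g hg
    rw [MulAction.mem_stabilizer_iff]
    have hg' : ∀ v : V, g • v = v := by
      intro v
      have := DFunLike.congr_fun (MonoidHom.mem_ker.1 hg) v
      simpa using this
    have hW : ∀ W : Subgroup V, g • W = W := by
      intro W
      ext x
      rw [Subgroup.mem_smul_pointwise_iff_exists]
      constructor
      · rintro ⟨s, hs, rfl⟩; rw [hg']; exact hs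
      · intro hx; exact ⟨x, hx, hg' x⟩
    exact Prod.ext (hW _) (hW _)

/-- The family is a spread, unless the stabiliser has index two. -/
theorem inU_of_ne_one (h : Fam Γ P q) (h2 : IsPGroup 2 V) (hD : Disj P) (hirr : Irr Γ V)
    (hidx : ∀ N : Subgroup Γ, (MulDistribMulAction.toMulAut Γ V).ker ≤ N → N.index ≠ 2)
    {p : Subgroup V × Subgroup V} (hp : p ∈ P) (hP : P = MulAction.orbit Γ p) :
    ∀ v : V, v ≠ 1 → InU P v := by
  have hsmul : ∀ (g : Γ) (x : V), x ≠ 1 → g • x ≠ 1 := by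
    intro g x hx e
    apply hx
    rw [← inv_smul_smul g x, e, smul_one]
  by_cases h1 : ∃ d ∈ p.2, d ≠ 1 ∧ ∃ a ∈ p.1, a ≠ 1 ∧ InU P (d * a)
  · obtain ⟨d, hd, hd1, a, ha, ha1, hU⟩ := h1
    by_cases h0 : ∃ a ∈ p.1, a ≠ 1 ∧ InU P a
    · obtain ⟨b, hb, hb1, hbU⟩ := h0
      intro v hv
      obtain ⟨d', hd', a', ha', e⟩ := h.exists_mul hp v
      by_cases hd1' : d' = 1
      · have hva : v = a' := by rw [← e, hd1', one_mul]
        have := h.inU_move hp (one_mem _) hb ha' hb1 (hva ▸ hv) (d := 1) (by rwa [one_mul])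
        rwa [one_mul, ← hva] at this
      by_cases ha1' : a' = 1
      · exact ⟨p, hp, by rw [← e, ha1', mul_one]; exact hd'⟩
      · rw [← e]
        exact h.inU_all h2 hD hp hd hd1 ha ha1 hU hd' hd1' ha' ha1'
    · exfalso
      apply h.fst_not_inv hirr hp
      intro g x hx
      by_cases hx1 : x = 1
      · rw [hx1, smul_one]; exact one_mem _
      by_contra hgx
      obtain ⟨d', hd', a', ha', e⟩ := h.exists_mul hp (g • x)
      have hd1' : d' ≠ 1 := by
        intro e1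
        rw [e1, one_mul] at e
        exact hgx (e ▸ ha')
      have hUg : InU P (g • x) := by
        by_cases ha1' : a' = 1
        · exact ⟨p, hp, by rw [← e, ha1', mul_one]; exact hd'⟩
        · rw [← e]
          exact h.inU_all h2 hD hp hd hd1 ha ha1 hU hd' hd1' ha' ha1'
      exact h0 ⟨x, hx, hx1, (h.inU_smul_iff g).1 hUg⟩
  · exfalso
    by_cases h0 : ∃ a ∈ p.1, a ≠ 1 ∧ InU P a
    · obtain ⟨b, hb, hb1, hbU⟩ := h0
      apply h.case_swap hD hirr hidx hp hP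
      intro v hv
      constructor
      · intro hUv
        obtain ⟨d', hd', a', ha', e⟩ := h.exists_mul hp v
        by_cases hd1' : d' = 1
        · left; rw [← e, hd1', one_mul]; exact ha'
        by_cases ha1' : a' = 1
        · right; rw [← e, ha1', mul_one]; exact hd'
        · exact absurd ⟨d', hd', hd1', a', ha', ha1', e ▸ hUv⟩ h1
      · rintro (hv1 | hv2)
        · have := h.inU_move hp (one_mem _) hb hv1 hb1 hv (d := 1) (by rwa [one_mul])
          rwa [one_mul] at this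
        · exact ⟨p, hp, hv2⟩
    · apply h.snd_not_inv hirr hp
      intro g x hx
      by_cases hx1 : x = 1
      · rw [hx1, smul_one]; exact one_mem _
      have hUg : InU P (g • x) := h.inU_smul g ⟨p, hp, hx⟩
      obtain ⟨d', hd', a', ha', e⟩ := h.exists_mul hp (g • x)
      by_cases ha1' : a' = 1
      · rw [← e, ha1', mul_one]; exact hd'
      by_cases hd1' : d' = 1
      · exact absurd ⟨a', ha', ha1', by rw [hd1', one_mul] at e; exact e ▸ hUg⟩ h0
      · exact absurd ⟨d', hd', hd1', a', ha', ha1', e ▸ hUg⟩ h1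


/-- a subgroup which is a union of second components. -/
def Good (P : Set (Subgroup V × Subgroup V)) (W : Subgroup V) : Prop :=
  ∀ m ∈ P, m.2 ⊓ W ≠ ⊥ → m.2 ≤ W

theorem good_top : Good P (⊤ : Subgroup V) := fun _ _ _ => le_top

theorem good_inf (h : Fam Γ P q) (h2 : IsPGroup 2 V) (hD : Disj P) {W : Subgroup V}
    (hW : Good P W) {p : Subgroup V × Subgroup V} (hp : p ∈ P) : Good P (W ⊓ p.1) := by
  intro m hm hne
  have h1 : m.2 ⊓ W ≠ ⊥ := by
    intro e
    apply hne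
    rw [← inf_assoc, e, bot_inf_eq]
  have h3 : m.2 ⊓ p.1 ≠ ⊥ := by
    intro e
    apply hne
    rw [inf_comm W, ← inf_assoc, e, bot_inf_eq]
  refine le_inf (hW m hm h1) ?_
  rcases h.le_or_inf h2 hD hp hm with h4 | h4
  · exact h4
  · exact absurd h4 h3

/-- `|W| = |p.2| * |W ⊓ p.1|` when `p.2 ≤ W`. -/
theorem card_inf (h : Fam Γ P q) {W : Subgroup V}
    {p : Subgroup V × Subgroup V} (hp : p ∈ P) (hpW : p.2 ≤ W) :
    Nat.card p.2 * Nat.card (W ⊓ p.1 : Subgroup V) = Nat.card W := by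
  rw [← Nat.card_prod]
  refine Nat.card_congr (Equiv.ofBijective
    (fun x : p.2 × (W ⊓ p.1 : Subgroup V) =>
      (⟨(x.1 : V) * x.2, W.mul_mem (hpW x.1.2) (Subgroup.mem_inf.1 x.2.2).1⟩ : W)) ⟨?_, ?_⟩)
  · rintro ⟨⟨d, hd⟩, ⟨a, ha⟩⟩ ⟨⟨d', hd'⟩, ⟨a', ha'⟩⟩ e
    have e' : d * a = d' * a' := congrArg Subtype.val e
    have h1 : d'⁻¹ * d = a' * a⁻¹ := by
      rw [inv_mul_eq_iff_eq_mul, ← mul_assoc, ← e', mul_inv_cancel_right]
    have h3 : d'⁻¹ * d = 1 :=
      h.eq_one hp (h1 ▸ p.1.mul_mem (Subgroup.mem_inf.1 ha').2 (p.1.inv_mem (Subgroup.mem_inf.1 ha).2))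
        (p.2.mul_mem (p.2.inv_mem hd') hd)
    have h4 : a' * a⁻¹ = 1 := h1 ▸ h3
    have h5 : d = d' := (inv_mul_eq_one.1 h3).symm
    have h6 : a = a' := (mul_inv_eq_one.1 h4).symm
    subst h5 h6
    rfl
  · rintro ⟨w, hw⟩
    obtain ⟨d, hd, a, ha, e⟩ := h.exists_mul hp w
    have haw : a ∈ W := by
      have : a = d⁻¹ * w := by rw [← e, inv_mul_cancel_left]
      rw [this]
      exact W.mul_mem (W.inv_mem (hpW hd)) hw
    exact ⟨(⟨d, hd⟩, ⟨a, Subgroup.mem_inf.2 ⟨haw, ha⟩⟩), Subtype.ext e⟩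

/-- Counting the members inside a good subgroup. -/
theorem card_good (hD : Disj P) (hU : ∀ v : V, v ≠ 1 → InU P v)
    {W : Subgroup V} (hW : Good P W) {s : ℕ} (hs : ∀ m ∈ P, Nat.card m.2 = s + 1) :
    Set.ncard {m | m ∈ P ∧ m.2 ≤ W} * s + 1 = Nat.card W := by
  classical
  have := Fintype.ofFinite V
  have hfinP : {m | m ∈ P ∧ m.2 ≤ W}.Finite := Set.toFinite _
  choose! f hfP hf using hU
  set T : Finset V := Finset.univ.filter (fun b => b ∈ W ∧ b ≠ 1) with hT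
  have hTm : ∀ b, b ∈ T ↔ b ∈ W ∧ b ≠ 1 := fun b => by simp [hT]
  have hmap : Set.MapsTo f (T : Set V) (hfinP.toFinset : Set (Subgroup V × Subgroup V)) := by
    intro v hv
    have hv' := (hTm v).1 hv
    simp only [Set.Finite.coe_toFinset, Set.mem_ofPred_eq]
    refine ⟨hfP v hv'.2, hW _ (hfP v hv'.2) ?_⟩
    intro e
    have : v ∈ (f v).2 ⊓ W := Subgroup.mem_inf.2 ⟨hf v hv'.2, hv'.1⟩
    rw [e] at this
    exact hv'.2 (by simpa using this)
  have hsum := Finset.card_eq_sum_card_fiberwise hmap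
  have hfib : ∀ m ∈ hfinP.toFinset, (T.filter (fun v => f v = m)).card = s := by
    intro m hm
    have hm' : m ∈ P ∧ m.2 ≤ W := by simpa using hm
    have hc : (T.filter (fun v => f v = m)).card + 1 = Nat.card m.2 := by
      rw [← Set.ncard_coe_finset]
      have e2 : Nat.card m.2 = (m.2 : Set V).ncard := rfl
      have e : (m.2 : Set V) = insert 1 ((T.filter (fun v => f v = m) : Finset V) : Set V) := by
        ext b
        simp only [Set.mem_insert_iff, Finset.coe_filter, Set.mem_ofPred_eq, hTm, SetLike.mem_coe]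
        constructor
        · intro hb
          by_cases hb1 : b = 1
          · exact Or.inl hb1
          · exact Or.inr ⟨⟨hm'.2 hb, hb1⟩, eq_of_mem hD (hfP b hb1) hm'.1 hb1 (hf b hb1) hb⟩
        · rintro (rfl | hb)
          · exact one_mem _
          · rw [← hb.2]; exact hf b hb.1.2
      rw [e2, e, Set.ncard_insert_of_notMem]
      simp [hTm]
    rw [hs m hm'.1] at hc
    omega
  rw [Finset.sum_congr rfl hfib, Finset.sum_const, smul_eq_mul] at hsum
  have hTc : T.card + 1 = Nat.card W := by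
    rw [← Set.ncard_coe_finset]
    have e2 : Nat.card W = (W : Set V).ncard := rfl
    have e : (W : Set V) = insert 1 (T : Set V) := by
      ext b
      simp only [Set.mem_insert_iff, hTm, SetLike.mem_coe]
      constructor
      · intro hb
        by_cases hb1 : b = 1
        · exact Or.inl hb1
        · exact Or.inr ⟨hb, hb1⟩
      · rintro (rfl | hb)
        · exact one_mem _
        · exact hb.1
    rw [e2, e, Set.ncard_insert_of_notMem]
    simp [hTm]
  rw [← hTc, hsum, Set.ncard_eq_toFinset_card _ hfinP]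

/-- In a spread the relation `m.2 ≤ p.1` is not symmetric. -/
theorem not_symm (h : Fam Γ P q) (h2 : IsPGroup 2 V) (hD : Disj P)
    (hU : ∀ v : V, v ≠ 1 → InU P v) {p₀ : Subgroup V × Subgroup V} (hp₀ : p₀ ∈ P) :
    ∃ p ∈ P, ∃ m ∈ P, m.2 ≤ p.1 ∧ ¬ p.2 ≤ m.1 := by
  classical
  by_contra hcon
  push Not at hcon
  set s := Nat.card p₀.2 with hs
  have hcs : ∀ m ∈ P, Nat.card m.2 = s := fun m hm => h.card_snd hm hp₀
  have hs1 : 1 < s := (Subgroup.one_lt_card_iff_ne_bot _).2 (h.snd_ne p₀ hp₀)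
  -- a minimal good subgroup of order `> s`
  have hex : ∃ n, ∃ W : Subgroup V, Good P W ∧ s < Nat.card W ∧ Nat.card W = n := by
    refine ⟨Nat.card V, ⊤, good_top, ?_, ?_⟩
    · rw [Subgroup.card_top, ← h.card_mul hp₀]
      have hq1 : 1 < q := by
        rw [← h.card_fst p₀ hp₀]
        exact (Subgroup.one_lt_card_iff_ne_bot _).2 (h.fst_ne p₀ hp₀)
      calc s = 1 * s := (one_mul _).symm
        _ < q * s := Nat.mul_lt_mul_of_pos_right hq1 (by omega)
    · rw [Subgroup.card_top]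
  obtain ⟨W, hW, hsW, hWn⟩ := Nat.find_spec hex
  have hmin : ∀ W' : Subgroup V, Good P W' → Nat.card W' < Nat.card W → Nat.card W' ≤ s := by
    intro W' hW' hlt
    by_contra hlt'
    exact Nat.find_min hex (m := Nat.card W') (by rw [← hWn]; exact hlt) ⟨W', hW', by omega, rfl⟩
  -- for `p.2 ≤ W`, `W ⊓ p.1` is a second component
  have hstep : ∀ p ∈ P, p.2 ≤ W → ∃ m ∈ P, W ⊓ p.1 = m.2 := by
    intro p hp hpW
    have hc := h.card_inf hp hpW
    rw [hcs p hp] at hc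
    have h1 : Nat.card (W ⊓ p.1 : Subgroup V) < Nat.card W := by
      rw [← hc]
      have : 0 < Nat.card (W ⊓ p.1 : Subgroup V) := Nat.card_pos
      nlinarith
    have h3 := hmin _ (h.good_inf h2 hD hW hp) h1
    have h4 : W ⊓ p.1 ≠ ⊥ := by
      intro e
      rw [e, Subgroup.card_bot, mul_one] at hc
      omega
    obtain ⟨x, hx, hx1⟩ := exists_ne_one_of_ne_bot h4
    obtain ⟨m, hm, hxm⟩ := hU x hx1
    have h5 : m.2 ≤ W ⊓ p.1 := by
      apply h.good_inf h2 hD hW hp m hm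
      intro e
      have : x ∈ m.2 ⊓ (W ⊓ p.1) := Subgroup.mem_inf.2 ⟨hxm, hx⟩
      rw [e] at this
      exact hx1 (by simpa using this)
    refine ⟨m, hm, (Subgroup.eq_of_le_of_card_ge h5 ?_).symm⟩
    rw [hcs m hm]; exact h3
  choose! τ hτP hτ using hstep
  -- existence of one `p` with `p.2 ≤ W`
  have hne : ∃ p ∈ P, p.2 ≤ W := by
    have : W ≠ ⊥ := by
      intro e
      rw [e, Subgroup.card_bot] at hsW
      omega
    obtain ⟨x, hx, hx1⟩ := exists_ne_one_of_ne_bot this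
    obtain ⟨m, hm, hxm⟩ := hU x hx1
    refine ⟨m, hm, hW m hm ?_⟩
    intro e
    have : x ∈ m.2 ⊓ W := Subgroup.mem_inf.2 ⟨hxm, hx⟩
    rw [e] at this
    exact hx1 (by simpa using this)
  have hWs : Nat.card W = s * s := by
    obtain ⟨p, hp, hpW⟩ := hne
    rw [← h.card_inf hp hpW, hτ p hp hpW, hcs p hp, hcs _ (hτP p hp hpW)]
  obtain ⟨t, ht⟩ : ∃ t, s = t + 1 := ⟨s - 1, by omega⟩
  have hcount := card_good hD hU hW (s := t) (fun m hm => by rw [hcs m hm, ht])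
  have hN : Set.ncard {m | m ∈ P ∧ m.2 ≤ W} = t + 2 := by
    rw [hWs, ht] at hcount
    have : Set.ncard {m | m ∈ P ∧ m.2 ≤ W} * t = (t + 2) * t := by nlinarith
    exact Nat.eq_of_mul_eq_mul_right (by omega) this
  have hse : Even s := by
    have hnt : Nontrivial p₀.2 := (Subgroup.nontrivial_iff_ne_bot _).2 (h.snd_ne p₀ hp₀)
    obtain ⟨k, hk0, hk⟩ := (IsPGroup.nontrivial_iff_card (h2.to_subgroup p₀.2)).1 hnt
    rw [hs, hk]
    exact (Nat.even_pow.2 ⟨even_two, hk0.ne'⟩)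
  have hfin : {m | m ∈ P ∧ m.2 ≤ W}.Finite := Set.toFinite _
  have heven : Even (hfin.toFinset).card := by
    have hmem : ∀ m, m ∈ hfin.toFinset ↔ m ∈ P ∧ m.2 ≤ W := by
      intro m; simp
    have hτW : ∀ m ∈ P, m.2 ≤ W → (τ m).2 ≤ W := by
      intro m hm hmW
      rw [← hτ m hm hmW]; exact inf_le_left
    refine even_of_involution _ (fun m _ => τ m) ?_ ?_ ?_
    · intro m hm
      rw [hmem] at hm ⊢
      exact ⟨hτP m hm.1 hm.2, hτW m hm.1 hm.2⟩
    · intro m hm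
      rw [hmem] at hm
      have h1 : (τ m).2 ≤ m.1 := by
        rw [← hτ m hm.1 hm.2]; exact inf_le_right
      have h3 : m.2 ≤ (τ m).1 := hcon m hm.1 (τ m) (hτP m hm.1 hm.2) h1
      have h4 : m.2 ≤ (τ (τ m)).2 := by
        rw [← hτ (τ m) (hτP m hm.1 hm.2) (hτW m hm.1 hm.2)]
        exact le_inf hm.2 h3
      have hP2 : τ (τ m) ∈ P := hτP (τ m) (hτP m hm.1 hm.2) (hτW m hm.1 hm.2)
      obtain ⟨x, hx, hx1⟩ := exists_ne_one_of_ne_bot (h.snd_ne m hm.1)
      exact eq_of_mem hD hP2 hm.1 hx1 (h4 hx) hx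
    · intro m hm e
      rw [hmem] at hm
      have h1 : (τ m).2 ≤ m.1 := by
        rw [← hτ m hm.1 hm.2]; exact inf_le_right
      rw [e] at h1
      obtain ⟨x, hx, hx1⟩ := exists_ne_one_of_ne_bot (h.snd_ne m hm.1)
      exact hx1 (h.eq_one hm.1 (h1 hx) hx)
  rw [← Set.ncard_eq_toFinset_card _ hfin, hN] at heven
  rw [ht] at hse
  exact absurd hse (by
    have : Even t := by
      rcases Nat.even_or_odd t with h1 | h1
      · exact h1
      · exfalso
        rcases heven with ⟨a, ha⟩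
        rcases h1 with ⟨b, hb⟩
        omega
    rcases this with ⟨a, ha⟩
    rintro ⟨b, hb⟩
    omega)

/-- images of second components. -/
theorem smul_eq_of_mem (h : Fam Γ P q) (hD : Disj P) {p m : Subgroup V × Subgroup V} (hp : p ∈ P)
    (hm : m ∈ P) {g : Γ} {x : V} (hx : x ∈ p.2) (hx1 : x ≠ 1) (hgx : g • x ∈ m.2) : g • p = m := by
  refine eq_of_mem hD (h.inv g p hp) hm ?_ (mem_smul_snd hx) hgx
  intro e
  apply hx1
  rw [← inv_smul_smul g x, e, smul_one]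

theorem smul_snd_le_fst {p m : Subgroup V × Subgroup V} (g : Γ) (hle : m.2 ≤ p.1) :
    (g • m).2 ≤ (g • p).1 := by
  rw [Prod.smul_snd, Prod.smul_fst]
  exact Subgroup.pointwise_smul_le_pointwise_smul_iff.2 hle

theorem antisymm_of (h : Fam Γ P q) (hD : Disj P)
    (horb : ∀ p ∈ P, ∀ m ∈ P, ∃ g : Γ, g • p = m)
    {p₀ m₀ : Subgroup V × Subgroup V} (hp₀ : p₀ ∈ P) (hm₀ : m₀ ∈ P) (h1 : m₀.2 ≤ p₀.1)
    (h3 : ¬ p₀.2 ≤ m₀.1) {p m : Subgroup V × Subgroup V} (hp : p ∈ P) (hm : m ∈ P)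
    (hmp : m.2 ≤ p.1) : ¬ p.2 ≤ m.1 := by
  intro hpm
  obtain ⟨g, hg⟩ := horb p₀ hp₀ p hp
  have a1 : (g • m₀).2 ≤ p.1 := hg ▸ smul_snd_le_fst g h1
  have a2 : ¬ p.2 ≤ (g • m₀).1 := by
    intro hle
    have := smul_snd_le_fst g⁻¹ hle
    rw [inv_smul_smul, ← hg, inv_smul_smul] at this
    exact h3 this
  obtain ⟨x, hx, hx1⟩ := exists_ne_one_of_ne_bot (h.snd_ne _ (h.inv g m₀ hm₀))
  obtain ⟨y, hy, hy1⟩ := exists_ne_one_of_ne_bot (h.snd_ne m hm)
  obtain ⟨k, hk, hkp, -⟩ := h.exists_move hp (one_mem _) (a1 hx) (hmp hy) hx1 hy1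
  rw [one_mul, one_mul] at hk
  have hkm : k • (g • m₀) = m := h.smul_eq_of_mem hD (h.inv g m₀ hm₀) hm hx hx1 (hk ▸ hy)
  apply a2
  have := smul_snd_le_fst k⁻¹ hpm
  rw [← hkm, inv_smul_smul] at this
  have hkp' : k⁻¹ • p = p := by rw [inv_smul_eq_iff]; exact hkp.symm
  rwa [hkp'] at this

theorem antisymm_of' (h : Fam Γ P q) (h2 : IsPGroup 2 V) (hD : Disj P)
    (horb : ∀ p ∈ P, ∀ m ∈ P, ∃ g : Γ, g • p = m)
    {p₀ m₀ : Subgroup V × Subgroup V} (hp₀ : p₀ ∈ P) (hm₀ : m₀ ∈ P) (h1 : m₀.2 ≤ p₀.1)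
    (h3 : ¬ p₀.2 ≤ m₀.1) {p m : Subgroup V × Subgroup V} (hp : p ∈ P) (hm : m ∈ P)
    (hne : p ≠ m) (hpm : ¬ p.2 ≤ m.1) : m.2 ≤ p.1 := by
  obtain ⟨g, hg⟩ := horb m₀ hm₀ m hm
  set p₁ := g • p₀ with hp₁
  have hp₁P : p₁ ∈ P := h.inv g p₀ hp₀
  have a1 : m.2 ≤ p₁.1 := hg ▸ smul_snd_le_fst g h1
  have a2 : ¬ p₁.2 ≤ m.1 := h.antisymm_of hD horb hp₀ hm₀ h1 h3 hp₁P hm a1
  have a3 : p₁ ≠ m := by
    intro e
    rw [e] at a1
    obtain ⟨x, hx, hx1⟩ := exists_ne_one_of_ne_bot (h.snd_ne m hm)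
    exact hx1 (h.eq_one hm (a1 hx) hx)
  have b1 : p₁.2 ⊓ m.1 = ⊥ := (h.le_or_inf h2 hD hm hp₁P).resolve_left a2
  have b2 : p.2 ⊓ m.1 = ⊥ := (h.le_or_inf h2 hD hm hp).resolve_left hpm
  obtain ⟨d, hd, hd1⟩ := exists_ne_one_of_ne_bot (h.snd_ne m hm)
  obtain ⟨a, ha, hda⟩ := h.graph hm hp₁P b1 d
  obtain ⟨a', ha', hda'⟩ := h.graph hm hp b2 d
  have ha1 : a ≠ 1 := by
    intro e
    rw [e, mul_one] at hda
    exact a3 (eq_of_mem hD hp₁P hm hd1 hda hd)
  have ha1' : a' ≠ 1 := by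
    intro e
    rw [e, mul_one] at hda'
    exact hne (eq_of_mem hD hp hm hd1 hda' hd)
  have hda1 : d * a ≠ 1 := by
    intro e
    have : a = d⁻¹ := by rw [eq_inv_iff_mul_eq_one, mul_comm]; exact e
    exact ha1 (h.eq_one hm ha (this ▸ m.2.inv_mem hd))
  obtain ⟨k, hk, hkm, -⟩ := h.exists_move hm hd ha ha' ha1 ha1'
  have hkp : k • p₁ = p := h.smul_eq_of_mem hD hp₁P hp hda hda1 (hk ▸ hda')
  have := smul_snd_le_fst k a1
  rwa [hkm, hkp] at this

theorem arith_two {F n t q : ℕ} (hF : 0 < F) (ht : 0 < t) (hn : 0 < n) (c8 : n * t + 1 = q)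
    (c2 : F * t + 1 = q * (t + 1)) (c4 : F * n = F * (F - n - 1)) (c3 : n + 1 ≤ F) : 2 = t + 1 := by
  have c6 : n = F - n - 1 := Nat.eq_of_mul_eq_mul_left hF c4
  have c7 : F = 2 * n + 1 := by omega
  rw [c7, ← c8] at c2
  have c9 : 2 * n * t = n * t * (t + 1) := by nlinarith
  have : n * t * 2 = n * t * (t + 1) := by rw [← c9]; ring
  exact Nat.eq_of_mul_eq_mul_left (Nat.mul_pos hn ht) this

theorem good_fst (h : Fam Γ P q) (h2 : IsPGroup 2 V) (hD : Disj P)
    {p : Subgroup V × Subgroup V} (hp : p ∈ P) : Good P p.1 := by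
  have := h.good_inf h2 hD good_top hp
  rwa [top_inf_eq] at this

theorem card_filter_fst (h : Fam Γ P q) (h2 : IsPGroup 2 V) (hD : Disj P)
    (hU : ∀ v : V, v ≠ 1 → InU P v) {t : ℕ} (hcs : ∀ m ∈ P, Nat.card m.2 = t + 1)
    {p : Subgroup V × Subgroup V} (hp : p ∈ P) :
    Set.ncard {m | m ∈ P ∧ m.2 ≤ p.1} * t + 1 = q := by
  have := card_good hD hU (h.good_fst h2 hD hp) hcs
  rwa [h.card_fst p hp] at this

theorem card_all (h : Fam Γ P q) (hD : Disj P)
    (hU : ∀ v : V, v ≠ 1 → InU P v) {t : ℕ} (hcs : ∀ m ∈ P, Nat.card m.2 = t + 1)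
    {p : Subgroup V × Subgroup V} (hp : p ∈ P) :
    Set.ncard P * t + 1 = q * (t + 1) := by
  have := card_good hD hU (W := (⊤ : Subgroup V)) good_top hcs
  rw [Subgroup.card_top, ← h.card_mul hp, hcs p hp] at this
  rw [← this]
  congr 3
  ext m
  simp

/-- The second components have order two. -/
theorem card_snd_eq_two (h : Fam Γ P q) (h2 : IsPGroup 2 V) (hD : Disj P)
    (hU : ∀ v : V, v ≠ 1 → InU P v)
    (hA : ∀ p ∈ P, ∀ m ∈ P, m.2 ≤ p.1 → ¬ p.2 ≤ m.1)
    (hB : ∀ p ∈ P, ∀ m ∈ P, p ≠ m → ¬ p.2 ≤ m.1 → m.2 ≤ p.1)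
    {p₀ m₀ : Subgroup V × Subgroup V} (hp₀ : p₀ ∈ P) (hm₀ : m₀ ∈ P) (h1 : m₀.2 ≤ p₀.1) :
    Nat.card p₀.2 = 2 := by
  classical
  have hself : ∀ m ∈ P, ¬ m.2 ≤ m.1 := by
    intro m hm hle
    obtain ⟨x, hx, hx1⟩ := exists_ne_one_of_ne_bot (h.snd_ne m hm)
    exact hx1 (h.eq_one hm (hle hx) hx)
  obtain ⟨t, ht⟩ : ∃ t, Nat.card p₀.2 = t + 1 := ⟨Nat.card p₀.2 - 1, by
    have : 0 < Nat.card p₀.2 := Nat.card_pos
    omega⟩
  have ht1 : 0 < t := by
    have : 1 < Nat.card p₀.2 := (Subgroup.one_lt_card_iff_ne_bot _).2 (h.snd_ne p₀ hp₀)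
    omega
  have hcs : ∀ m ∈ P, Nat.card m.2 = t + 1 := fun m hm => by rw [h.card_snd hm hp₀, ht]
  have hPfin : P.Finite := Set.toFinite _
  obtain ⟨F, hFP⟩ : ∃ F : Finset (Subgroup V × Subgroup V), (F : Set _) = P :=
    ⟨hPfin.toFinset, by simp⟩
  have hFm : ∀ m, m ∈ F ↔ m ∈ P := fun m => by rw [← hFP]; simp
  -- number of members below `p.1`
  have c1 : ∀ p ∈ F, (F.filter (fun m => m.2 ≤ p.1)).card * t + 1 = q := by
    intro p hp
    have := h.card_filter_fst h2 hD hU hcs ((hFm p).1 hp)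
    rw [← this, ← Set.ncard_coe_finset]
    have e : ((F.filter (fun m => m.2 ≤ p.1) : Finset _) : Set (Subgroup V × Subgroup V))
        = {m | m ∈ P ∧ m.2 ≤ p.1} := by
      ext m
      simp [hFm]
    rw [e]
  have c2 : F.card * t + 1 = q * (t + 1) := by
    rw [← h.card_all hD hU hcs hp₀, ← hFP, Set.ncard_coe_finset]
  obtain ⟨n, hn⟩ : ∃ n, ∀ p ∈ F, (F.filter (fun m => m.2 ≤ p.1)).card = n := by
    refine ⟨(F.filter (fun m => m.2 ≤ p₀.1)).card, fun p hp => ?_⟩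
    have e1 := c1 p hp
    have e2 := c1 p₀ ((hFm p₀).2 hp₀)
    exact Nat.eq_of_mul_eq_mul_right ht1 (Nat.succ.inj (e1.trans e2.symm))
  have c3 : ∀ m ∈ F, F.card = (F.filter (fun p => m.2 ≤ p.1)).card + n + 1 := by
    intro m hm
    have hm' := (hFm m).1 hm
    rw [← hn m hm]
    have e1 : F = (F.filter (fun p => m.2 ≤ p.1) ∪ F.filter (fun p => p.2 ≤ m.1)) ∪ {m} := by
      ext p
      rw [Finset.mem_union, Finset.mem_union, Finset.mem_filter, Finset.mem_filter,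
        Finset.mem_singleton]
      constructor
      · intro hp
        by_cases hpm : p = m
        · exact Or.inr hpm
        by_cases hle : p.2 ≤ m.1
        · exact Or.inl (Or.inr ⟨hp, hle⟩)
        · exact Or.inl (Or.inl ⟨hp, hB p ((hFm p).1 hp) m hm' hpm hle⟩)
      · rintro ((hp | hp) | rfl)
        · exact hp.1
        · exact hp.1
        · exact hm
    have hd1 : Disjoint (F.filter (fun p => m.2 ≤ p.1)) (F.filter (fun p => p.2 ≤ m.1)) := by
      rw [Finset.disjoint_filter]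
      intro p hp hle hle'
      exact hA p ((hFm p).1 hp) m hm' hle hle'
    have hd2 : Disjoint (F.filter (fun p => m.2 ≤ p.1) ∪ F.filter (fun p => p.2 ≤ m.1)) {m} := by
      rw [Finset.disjoint_singleton_right, Finset.mem_union, Finset.mem_filter, Finset.mem_filter]
      rintro (h5 | h5)
      · exact hself m hm' h5.2
      · exact hself m hm' h5.2
    calc F.card = ((F.filter (fun p => m.2 ≤ p.1) ∪ F.filter (fun p => p.2 ≤ m.1)) ∪ {m}).card :=
          congrArg Finset.card e1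
      _ = _ := by
          rw [Finset.card_union_of_disjoint hd2, Finset.card_union_of_disjoint hd1,
            Finset.card_singleton]
  have c4 : ∑ p ∈ F, (F.filter (fun m => m.2 ≤ p.1)).card
      = ∑ m ∈ F, (F.filter (fun p => m.2 ≤ p.1)).card := by
    have h6 := Finset.sum_card_bipartiteAbove_eq_sum_card_bipartiteBelow (s := F) (t := F)
      (fun p m : Subgroup V × Subgroup V => m.2 ≤ p.1)
    unfold Finset.bipartiteAbove Finset.bipartiteBelow at h6
    exact h6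
  have c5 : ∀ m ∈ F, (F.filter (fun p => m.2 ≤ p.1)).card = F.card - n - 1 := by
    intro m hm
    have := c3 m hm
    omega
  rw [Finset.sum_congr rfl hn, Finset.sum_congr rfl c5, Finset.sum_const, Finset.sum_const,
    smul_eq_mul, smul_eq_mul] at c4
  have hFpos : 0 < F.card := Finset.card_pos.2 ⟨p₀, (hFm p₀).2 hp₀⟩
  have c8 := c1 p₀ ((hFm p₀).2 hp₀)
  rw [hn p₀ ((hFm p₀).2 hp₀)] at c8
  have hn0 : 0 < n := by
    rw [← hn p₀ ((hFm p₀).2 hp₀)]
    exact Finset.card_pos.2 ⟨m₀, Finset.mem_filter.2 ⟨(hFm m₀).2 hm₀, h1⟩⟩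
  have c9 : n + 1 ≤ F.card := by
    rw [c3 p₀ ((hFm p₀).2 hp₀), add_assoc]
    exact Nat.le_add_left _ _
  rw [ht]
  exact (arith_two hFpos ht1 hn0 c8 c2 c4 c9).symm

/-- Case (J). -/
theorem case_J (h : Fam Γ P q) (h2 : IsPGroup 2 V) (hD : Disj P)
    (hU : ∀ v : V, v ≠ 1 → InU P v)
    (horb : ∀ p ∈ P, ∀ m ∈ P, ∃ g : Γ, g • p = m) (hne : P.Nonempty) :
    (∀ p ∈ P, Nat.card p.2 = 2) ∧ Nat.card V = 2 * q ∧
      Odd (Nat.card (MulDistribMulAction.toMulAut Γ V).range) ∧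
      ∀ x y : V, x ≠ 1 → y ≠ 1 → ∃ g : Γ, g • x = y := by
  classical
  obtain ⟨p₁, hp₁⟩ := hne
  obtain ⟨p₀, hp₀, m₀, hm₀, h1, h3⟩ := h.not_symm h2 hD hU hp₁
  have hA : ∀ p ∈ P, ∀ m ∈ P, m.2 ≤ p.1 → ¬ p.2 ≤ m.1 := fun p hp m hm hle =>
    h.antisymm_of hD horb hp₀ hm₀ h1 h3 hp hm hle
  have hB : ∀ p ∈ P, ∀ m ∈ P, p ≠ m → ¬ p.2 ≤ m.1 → m.2 ≤ p.1 := fun p hp m hm hne hle =>
    h.antisymm_of' h2 hD horb hp₀ hm₀ h1 h3 hp hm hne hle
  have hc := h.card_snd_eq_two h2 hD hU hA hB hp₀ hm₀ h1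
  have hcs : ∀ m ∈ P, Nat.card m.2 = 2 := fun m hm => by rw [h.card_snd hm hp₀, hc]
  have huniq : ∀ m ∈ P, ∀ x ∈ m.2, ∀ y ∈ m.2, x ≠ 1 → y ≠ 1 → x = y := by
    intro m hm x hx y hy hx1 hy1
    have hcm := hcs m hm
    by_contra hxy
    have : ({1, x, y} : Set V) ⊆ (m.2 : Set V) := by
      rintro z (rfl | rfl | rfl)
      · exact one_mem _
      · exact hx
      · exact hy
    have hle := Set.ncard_le_ncard this (Set.toFinite _)
    have h3 : Set.ncard ({1, x, y} : Set V) = 3 := by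
      rw [Set.ncard_eq_three]
      exact ⟨1, x, y, Ne.symm hx1, Ne.symm hy1, hxy, rfl⟩
    have e2 : Nat.card m.2 = (m.2 : Set V).ncard := rfl
    omega
  refine ⟨hcs, ?_, ?_, ?_⟩
  · rw [← h.card_mul hp₀, hc, mul_comm]
  · by_contra hodd
    rw [Nat.not_odd_iff_even] at hodd
    obtain ⟨⟨σ, hσ'⟩, hσ2⟩ := exists_prime_orderOf_dvd_card' 2 hodd.two_dvd
    obtain ⟨g, rfl⟩ := hσ'
    have hσ : MulDistribMulAction.toMulAut Γ V g ∈ (MulDistribMulAction.toMulAut Γ V).range :=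
      ⟨g, rfl⟩
    have hg2 : ∀ v : V, g • g • v = v := by
      intro v
      have h4 := pow_orderOf_eq_one
        (⟨MulDistribMulAction.toMulAut Γ V g, hσ⟩ : (MulDistribMulAction.toMulAut Γ V).range)
      rw [hσ2, sq] at h4
      have h5 := congrArg Subtype.val h4
      have h6 := DFunLike.congr_fun h5 v
      simpa using h6
    have hg1 : ∃ v : V, g • v ≠ v := by
      by_contra hcon
      push Not at hcon
      have : (⟨MulDistribMulAction.toMulAut Γ V g, hσ⟩ :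
          (MulDistribMulAction.toMulAut Γ V).range) = 1 := by
        apply Subtype.ext
        ext v
        simpa using hcon v
      rw [this, orderOf_one] at hσ2
      exact absurd hσ2 (by norm_num)
    obtain ⟨v, hv⟩ := hg1
    have hv1 : v ≠ 1 := by
      rintro rfl
      exact hv (smul_one g)
    have hgv1 : g • v ≠ 1 := by
      intro e
      apply hv1
      rw [← hg2 v, e, smul_one]
    obtain ⟨p, hp, hvp⟩ := hU v hv1
    obtain ⟨m, hm, hvm⟩ := hU (g • v) hgv1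
    have hpm : p ≠ m := by
      rintro rfl
      exact hv (huniq p hp _ hvm _ hvp hgv1 hv1)
    have e1 : g • p = m := h.smul_eq_of_mem hD hp hm hvp hv1 hvm
    have e2 : g • m = p := h.smul_eq_of_mem hD hm hp hvm hgv1 (by rw [hg2]; exact hvp)
    by_cases hle : p.2 ≤ m.1
    · have := smul_snd_le_fst g hle
      rw [e1, e2] at this
      exact hA m hm p hp hle this
    · have h4 := hB p hp m hm hpm hle
      have := smul_snd_le_fst g h4
      rw [e1, e2] at this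
      exact hle this
  · intro x y hx hy
    obtain ⟨p, hp, hxp⟩ := hU x hx
    obtain ⟨m, hm, hym⟩ := hU y hy
    obtain ⟨g, hg⟩ := horb p hp m hm
    refine ⟨g, ?_⟩
    refine huniq m hm _ (hg ▸ mem_smul_snd hxp) _ hym ?_ hy
    intro e
    apply hx
    rw [← inv_smul_smul g x, e, smul_one]

/-- Case (W). -/
theorem case_W (h : Fam Γ P q) (hirr : Irr Γ V) (hV : q ^ 2 < Nat.card V) (hne : P.Nonempty) :
    (∀ p ∈ P, ∀ m ∈ P, p ≠ m → p.1 ≤ m.2) ∧
      (∀ p ∈ P, p.2 = ⨆ m ∈ P \ {p}, (m : Subgroup V × Subgroup V).1) ∧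
      (⨆ p ∈ P, (p : Subgroup V × Subgroup V).1 = ⊤) ∧
      (∀ p ∈ P, ∀ m ∈ P, ∃ g : Γ, g • p = m) ∧ 3 ≤ P.ncard := by
  classical
  obtain ⟨p₀, hp₀⟩ := hne
  have hle : ∀ p ∈ P, ∀ m ∈ P, p ≠ m → p.1 ≤ m.2 := by
    intro p hp m hm hpm
    refine (h.ti p hp m hm hpm ?_).1
    intro e
    have h1 := h.card_mul hp
    have h3 := h.card_snd hp hm
    have h4 : q < Nat.card m.2 := by
      rw [← h1, sq, h3] at hV
      exact Nat.lt_of_mul_lt_mul_left hV
    have h5 : Nat.card p.2 * Nat.card m.2 ≤ Nat.card V := by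
      rw [← Nat.card_prod]
      refine Nat.card_le_card_of_injective (fun x : p.2 × m.2 => (x.1 : V) * x.2) ?_
      rintro ⟨⟨a, ha⟩, ⟨b, hb⟩⟩ ⟨⟨a', ha'⟩, ⟨b', hb'⟩⟩ e'
      have e'' : a * b = a' * b' := e'
      have h6 : a'⁻¹ * a = b' * b⁻¹ := by
        rw [inv_mul_eq_iff_eq_mul, ← mul_assoc, ← e'', mul_inv_cancel_right]
      have h7 : a'⁻¹ * a ∈ p.2 ⊓ m.2 :=
        Subgroup.mem_inf.2 ⟨p.2.mul_mem (p.2.inv_mem ha') ha, h6 ▸ m.2.mul_mem hb' (m.2.inv_mem hb)⟩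
      rw [e, Subgroup.mem_bot] at h7
      have h8 : a = a' := (inv_mul_eq_one.1 h7).symm
      have h9 : b = b' := (mul_inv_eq_one.1 (h6 ▸ h7)).symm
      subst h8 h9
      rfl
    rw [← h1, h3] at h5
    exact absurd (Nat.le_of_mul_le_mul_right h5 Nat.card_pos) (not_le.2 h4)
  -- sup over an invariant nonempty subset is everything
  have hsup : ∀ Q : Set (Subgroup V × Subgroup V), Q ⊆ P → Q.Nonempty →
      (∀ g : Γ, ∀ p ∈ Q, g • p ∈ Q) → ⨆ p ∈ Q, (p : Subgroup V × Subgroup V).1 = ⊤ := by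
    intro Q hQ hQne hQinv
    obtain ⟨p, hp⟩ := hQne
    have hirrQ := hirr (⨆ p ∈ Q, (p : Subgroup V × Subgroup V).1) (by
      intro g
      rw [Subgroup.pointwise_smul_subset_iff]
      refine iSup₂_le fun m hm => ?_
      rw [← Subgroup.pointwise_smul_subset_iff]
      exact le_iSup₂ (f := fun (p : Subgroup V × Subgroup V) (_ : p ∈ Q) => p.1) (g • m)
        (hQinv g m hm))
    rcases hirrQ with h1 | h1
    · exfalso
      apply h.fst_ne p (hQ hp)
      rw [eq_bot_iff, ← h1]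
      exact le_iSup₂ (f := fun (p : Subgroup V × Subgroup V) (_ : p ∈ Q) => p.1) p hp
    · exact h1
  have htop := hsup P subset_rfl ⟨p₀, hp₀⟩ h.inv
  have hsnd : ∀ p ∈ P, p.2 = ⨆ m ∈ P \ {p}, (m : Subgroup V × Subgroup V).1 := by
    intro p hp
    have hB : (⨆ m ∈ P \ {p}, (m : Subgroup V × Subgroup V).1) ≤ p.2 :=
      iSup₂_le fun m hm => hle m hm.1 p hp (fun e => hm.2 e)
    have h1 : (⊤ : Subgroup V) = (⨆ m ∈ P \ {p}, (m : Subgroup V × Subgroup V).1) ⊔ p.1 := by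
      rw [← htop]
      apply le_antisymm
      · refine iSup₂_le fun m hm => ?_
        by_cases hmp : m = p
        · rw [hmp]; exact le_sup_right
        · exact le_trans (le_iSup₂ (f := fun (p' : Subgroup V × Subgroup V) (_ : p' ∈ P \ {p}) => p'.1)
            m ⟨hm, hmp⟩) le_sup_left
      · rw [htop]; exact le_top
    have h3 : p.2 = ((⨆ m ∈ P \ {p}, (m : Subgroup V × Subgroup V).1) ⊔ p.1) ⊓ p.2 := by
      rw [← h1, top_inf_eq]
    rw [h3, sup_inf_assoc_of_le _ hB, (h.compl p hp).inf_eq_bot, sup_bot_eq]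
  have htrans : ∀ p ∈ P, ∀ m ∈ P, ∃ g : Γ, g • p = m := by
    intro p hp m hm
    by_contra hcon
    push Not at hcon
    have h1 := hsup (MulAction.orbit Γ p) ?_ ⟨p, MulAction.mem_orbit_self p⟩ ?_
    · have h3 : (⊤ : Subgroup V) ≤ m.2 := by
        rw [← h1]
        refine iSup₂_le fun n hn => ?_
        obtain ⟨g, hg⟩ := hn
        refine hle n ?_ m hm ?_
        · rw [← hg]; exact h.inv g p hp
        · rintro rfl; exact hcon g hg
      have := (h.compl m hm).inf_eq_bot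
      rw [top_le_iff.1 h3, inf_top_eq] at this
      exact h.fst_ne m hm this
    · rintro n ⟨g, rfl⟩
      exact h.inv g p hp
    · intro g n hn
      obtain ⟨k, rfl⟩ := hn
      exact ⟨g * k, mul_smul g k p⟩
  refine ⟨hle, hsnd, htop, htrans, ?_⟩
  by_contra hlt
  push Not at hlt
  have h1 : P = {p₀} ∨ ∃ m, m ≠ p₀ ∧ P = {p₀, m} := by
    have hfin : P.Finite := Set.toFinite _
    have hpos : 0 < P.ncard := (Set.ncard_pos hfin).2 ⟨p₀, hp₀⟩
    have hcase : P.ncard = 1 ∨ P.ncard = 2 := by omega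
    rcases hcase with hc | hc
    · left
      obtain ⟨a, ha⟩ := Set.ncard_eq_one.1 hc
      rw [ha] at hp₀ ⊢
      rw [Set.mem_singleton_iff.1 hp₀]
    · right
      obtain ⟨a, b, hab, hPab⟩ := Set.ncard_eq_two.1 hc
      rw [hPab] at hp₀
      rcases hp₀ with rfl | hb
      · exact ⟨b, Ne.symm hab, hPab⟩
      · rw [Set.mem_singleton_iff] at hb
        subst hb
        exact ⟨a, hab, by rw [hPab, Set.pair_comm]⟩
  rcases h1 with h1 | ⟨m, hmp, h1⟩
  · have h3 := hsnd p₀ hp₀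
    rw [h1] at h3
    simp at h3
    exact h.snd_ne p₀ hp₀ h3
  · have hm : m ∈ P := by rw [h1]; simp
    have h3 := hsnd p₀ hp₀
    have h4 : P \ {p₀} = {m} := by
      rw [h1]
      ext x
      simp only [Set.mem_sdiff, Set.mem_insert_iff, Set.mem_singleton_iff]
      constructor
      · rintro ⟨rfl | h5, h6⟩
        · exact absurd rfl h6
        · exact h5
      · rintro rfl
        exact ⟨Or.inr rfl, hmp⟩
    rw [h4] at h3
    have h5 : (⨆ m' ∈ ({m} : Set (Subgroup V × Subgroup V)), (m' : Subgroup V × Subgroup V).1) = m.1 := by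
      simp
    rw [h5] at h3
    have h6 := h.card_mul hp₀
    rw [h3, h.card_fst m hm] at h6
    rw [sq, h6] at hV
    exact lt_irrefl _ hV

end Fam

/-- **The linear algebra step of Goldschmidt's theorem** (helper712's (LIN)). -/
theorem gold_lin [Finite V] (h2 : IsPGroup 2 V)
    (hirr : ∀ W : Subgroup V, (∀ g : Γ, g • W ≤ W) → W = ⊥ ∨ W = ⊤)
    (hidx : ∀ N : Subgroup Γ, (MulDistribMulAction.toMulAut Γ V).ker ≤ N → N.index ≠ 2)
    (P : Set (Subgroup V × Subgroup V)) (hne : P.Nonempty) (q : ℕ)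
    (hq : ∀ p ∈ P, Nat.card p.1 = q) (hA : ∀ p ∈ P, p.1 ≠ ⊥) (hD : ∀ p ∈ P, p.2 ≠ ⊥)
    (hc : ∀ p ∈ P, IsCompl p.1 p.2) (hinv : ∀ g : Γ, ∀ p ∈ P, g • p ∈ P)
    (hTI : ∀ p ∈ P, ∀ m ∈ P, p ≠ m → p.2 ⊓ m.2 ≠ ⊥ → p.1 ≤ m.2 ∧ m.1 ≤ p.2)
    (htr : ∀ p ∈ P, ∀ x ∈ p.1, ∀ y ∈ p.1, x ≠ 1 → y ≠ 1 →
      ∃ g : Γ, g • x = y ∧ g • p.1 = p.1 ∧ ∀ d ∈ p.2, g • d = d) :
    ((∀ p ∈ P, ∀ m ∈ P, p ≠ m → p.1 ≤ m.2) ∧
      (∀ p ∈ P, p.2 = ⨆ m ∈ P \ {p}, (m : Subgroup V × Subgroup V).1) ∧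
      (⨆ p ∈ P, (p : Subgroup V × Subgroup V).1 = ⊤) ∧
      (∀ p ∈ P, ∀ m ∈ P, ∃ g : Γ, g • p = m) ∧ 3 ≤ P.ncard) ∨
    ((∀ p ∈ P, Nat.card p.2 = 2) ∧ Nat.card V = 2 * q ∧
      Odd (Nat.card (MulDistribMulAction.toMulAut Γ V).range) ∧
      ∀ x y : V, x ≠ 1 → y ≠ 1 → ∃ g : Γ, g • x = y) := by
  have h : Fam Γ P q := ⟨hq, hA, hD, hc, hinv, hTI, htr⟩
  by_cases hV : q ^ 2 < Nat.card V
  · exact Or.inl (h.case_W hirr hV hne)
  · right
    obtain ⟨p₀, hp₀⟩ := hne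
    have hsub : MulAction.orbit Γ p₀ ⊆ P := by
      rintro n ⟨g, rfl⟩
      exact hinv g p₀ hp₀
    have h' : Fam Γ (MulAction.orbit Γ p₀) q := by
      refine h.mono hsub ?_
      rintro g n ⟨k, rfl⟩
      exact ⟨g * k, mul_smul g k p₀⟩
    have hDj : Disj (MulAction.orbit Γ p₀) := h'.disj_of_le (not_lt.1 hV)
    have hU := h'.inU_of_ne_one h2 hDj hirr hidx (MulAction.mem_orbit_self p₀) rfl
    obtain ⟨a1, a2, a3, a4⟩ := h'.case_J h2 hDj hU
      (by
        rintro p ⟨g, rfl⟩ m ⟨k, rfl⟩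
        refine ⟨k * g⁻¹, ?_⟩
        change (k * g⁻¹) • g • p₀ = k • p₀
        rw [mul_smul, inv_smul_smul]) ⟨p₀, MulAction.mem_orbit_self p₀⟩
    refine ⟨?_, a2, a3, a4⟩
    intro p hp
    rw [h.card_snd hp hp₀]
    exact a1 p₀ (MulAction.mem_orbit_self p₀)

end Cfsg.Agent.TwoFusion.GoldLin
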