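import Cfsg.Agent.TwoFusion.GoldM1Fin
import Cfsg.Agent.TwoFusion.GoldM1Glue
import Cfsg.Agent.S0205

/-!
# Goldschmidt's theorem: case [M1]

`|A| = 4`, `Ω₁(S) = A` and `S` not abelian is impossible (no strongly embedded subgroup).
-/

set_option autoImplicit false

namespace Cfsg.Agent.TwoFusion.GoldM1

open Subgroup
open Cfsg.Agent.TwoFusion.ClosedFam Cfsg.Agent.TwoFusion.Gold Cfsg.Agent.TwoFusion.GoldSetup

universe u

variable {G : Type u} [Group G] [Finite G] {𝒜 : Set G}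

/-- **Case [M1]**: the hypothesis `hM1` of `GoldHomo.tcon`. -/
theorem m1_false (h : Setup 𝒜) (S : Sylow 2 G) (h4 : Nat.card (fam 𝒜 (S : Subgroup G)) = 4)
    (hO : ∀ x ∈ (S : Subgroup G), x * x = 1 → x ∈ fam 𝒜 (S : Subgroup G))
    (hna : ∃ x ∈ (S : Subgroup G), ∃ y ∈ (S : Subgroup G), x * y ≠ y * x) : False := by
  obtain ⟨g0, F⟩ := GoldM1Glue.exists_frame h S h4 hO hna
    (fun X hX => Cfsg.Agent.S0205.result (G := X) hX)
  exact GoldM1Fin.false_of_frame F

end Cfsg.Agent.TwoFusion.GoldM1
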