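import Cfsg.Agent.TwoFusion.GoldSetup
import Cfsg.Agent.TwoFusion.GoldSolid
import Cfsg.Agent.TwoFusion.GoldU34
import Cfsg.Agent.TwoFusion.GoldM1Defs
import Cfsg.Agent.TwoFusion.ClosingPrime
import Cfsg.Agent.S1237
import Cfsg.Agent.S0215

/-!
# Case [M1] of Goldschmidt's theorem: the elementary fields of the frame

`Base S A`: `A` is a strongly closed four-subgroup of the Sylow 2-subgroup `S`, containing all involutions of `S`,
`N_G(A)` is irreducible on `A` and has no subgroup of index two.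
-/

set_option autoImplicit false
set_option linter.style.haveILetI false

namespace Cfsg.Agent.TwoFusion.GoldM1Base

open Subgroup Equiv
open Cfsg.Agent.TwoFusion.ClosedFam Cfsg.Agent.TwoFusion.Gold Cfsg.Agent.TwoFusion.GoldSetup
open Cfsg.Agent.TwoFusion.ClosedLocal
open Cfsg.Agent.Classification.TypeB.Core (oc oc_le odd_oc le_oc le_normalizer_oc)

universe u

/-! ### Even permutations of three points -/

theorem fin3 : ∀ σ : Perm (Fin 3), Perm.sign σ = 1 → σ ≠ 1 →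
    (∀ x, σ x ≠ x) ∧ (∀ x y, x = y ∨ σ x = y ∨ σ (σ x) = y) ∧ σ ^ 3 = 1 := by decide

theorem fin3' : ∀ σ τ : Perm (Fin 3), Perm.sign σ = 1 → σ ≠ 1 → Perm.sign τ = 1 → τ ≠ 1 →
    σ = τ ∨ σ = τ⁻¹ := by decide

theorem three {T : Type*} [Fintype T] [DecidableEq T] (hT : Fintype.card T = 3) (σ : Perm T)
    (h1 : Perm.sign σ = 1) (h2 : σ ≠ 1) :
    (∀ x, σ x ≠ x) ∧ (∀ x y, x = y ∨ σ x = y ∨ σ (σ x) = y) ∧ σ ^ 3 = 1 := by
  let e : T ≃ Fin 3 := Fintype.equivFinOfCardEq hT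
  let f : Perm T ≃* Perm (Fin 3) := e.permCongrHom
  have hf : ∀ (τ : Perm T) (x : T), f τ (e x) = e (τ x) := fun τ x => by simp [f]
  have h3 := fin3 (f σ) (by
    show Perm.sign (e.permCongr σ) = 1
    rw [Perm.sign_permCongr]; exact h1) (fun h => h2 (f.injective (by rw [h, map_one])))
  refine ⟨fun x hx => h3.1 (e x) (by rw [hf, hx]), fun x y => ?_, f.injective (by
    rw [map_pow, map_one]; exact h3.2.2)⟩
  rcases h3.2.1 (e x) (e y) with h | h | h
  · exact Or.inl (e.injective h)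
  · rw [hf] at h
    exact Or.inr (Or.inl (e.injective h))
  · rw [hf, hf] at h
    exact Or.inr (Or.inr (e.injective h))

theorem three' {T : Type*} [Fintype T] [DecidableEq T] (hT : Fintype.card T = 3) (σ τ : Perm T)
    (h1 : Perm.sign σ = 1) (h2 : σ ≠ 1) (h3 : Perm.sign τ = 1) (h4 : τ ≠ 1) : σ = τ ∨ σ = τ⁻¹ := by
  let e : T ≃ Fin 3 := Fintype.equivFinOfCardEq hT
  let f : Perm T ≃* Perm (Fin 3) := e.permCongrHom
  have hs : ∀ ρ : Perm T, Perm.sign (f ρ) = Perm.sign ρ := fun ρ => by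
    show Perm.sign (e.permCongr ρ) = _
    rw [Perm.sign_permCongr]
  have hn : ∀ ρ : Perm T, ρ ≠ 1 → f ρ ≠ 1 := fun ρ h h' => h (f.injective (by rw [h', map_one]))
  rcases fin3' (f σ) (f τ) (by rw [hs, h1]) (hn _ h2) (by rw [hs, h3]) (hn _ h4) with h | h
  · exact Or.inl (f.injective h)
  · exact Or.inr (f.injective (by rw [h, map_inv]))

/-- The base hypotheses of case [M1]. -/
structure Base {G : Type*} [Group G] [Finite G] (S : Sylow 2 G) (A : Subgroup G) : Prop where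
  sc : Cfsg.IsStronglyClosed A (S : Subgroup G)
  sq : ∀ a ∈ A, a * a = 1
  card : Nat.card A = 4
  inv : ∀ s ∈ (S : Subgroup G), s * s = 1 → s ∈ A
  irr : ∀ B : Subgroup G, B ≤ A → (∀ n ∈ normalizer (A : Set G), ∀ x ∈ B, n * x * n⁻¹ ∈ B) → B = ⊥ ∨ B = A
  idx : ∀ N₀ : Subgroup ↥(normalizer (A : Set G)), N₀.index ≠ 2

/-- The base hypotheses hold in the minimal counterexample. -/
theorem base_of_setup {G : Type u} [Group G] [Finite G] {𝒜 : Set G} (h : Setup 𝒜) (S : Sylow 2 G)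
    (hc : Nat.card (ClosedFam.fam 𝒜 (S : Subgroup G)) = 4)
    (hinv : ∀ s ∈ (S : Subgroup G), s * s = 1 → s ∈ ClosedFam.fam 𝒜 (S : Subgroup G)) :
    Base S (ClosedFam.fam 𝒜 (S : Subgroup G)) where
  sc := h.sc S
  sq := h.sq S
  card := hc
  inv := hinv
  irr _ hB hB' := h.irreducible S hB hB'
  idx := h.index_ne_two S

/-- Transport of the structure of a Sylow 2-subgroup of `PSU(3,4)`. -/
theorem transport {X Y : Type*} [Group X] [Group Y] {S A : Subgroup X} {L T Z : Subgroup Y} (hAS : A ≤ S)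
    (sq : ∀ a ∈ A, a * a = 1) (inv : ∀ s ∈ S, s * s = 1 → s ∈ A) (e : S ≃* T)
    (hZ : GoldU34.U34Data L T Z) : Nat.card S = 64 ∧ (∀ s ∈ S, ∀ u ∈ S, s * u * s⁻¹ * u⁻¹ ∈ A) ∧
    (∀ s ∈ S, s ∉ A → ∀ x ∈ A, ∃ u ∈ S, s * u * s⁻¹ * u⁻¹ = x) := by
  have hAZ : ∀ s : S, (s : X) ∈ A ↔ ((e s : T) : Y) ∈ Z := by
    intro s
    constructor
    · intro hs
      apply hZ.inv _ (e s).2
      have h1 : s * s = 1 := Subtype.ext (sq _ hs)
      have h2 : e s * e s = 1 := by rw [← map_mul, h1, map_one]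
      exact congrArg Subtype.val h2
    · intro hs
      apply inv _ s.2
      have h1 : e s * e s = 1 := Subtype.ext (hZ.sq_eq _ hs)
      have h2 : s * s = 1 := e.injective (by rw [map_mul, h1, map_one])
      exact congrArg Subtype.val h2
  refine ⟨?_, ?_, ?_⟩
  · rw [Nat.card_congr e.toEquiv]
    exact hZ.card_T
  · intro s hs u hu
    have h1 := hZ.comm_mem _ (e ⟨s, hs⟩).2 _ (e ⟨u, hu⟩).2
    have h2 : e (⟨s, hs⟩ * ⟨u, hu⟩ * (⟨s, hs⟩ : S)⁻¹ * (⟨u, hu⟩ : S)⁻¹) =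
      e ⟨s, hs⟩ * e ⟨u, hu⟩ * (e ⟨s, hs⟩)⁻¹ * (e ⟨u, hu⟩)⁻¹ := by
      simp only [map_mul, map_inv]
    have h3 : ((e (⟨s, hs⟩ * ⟨u, hu⟩ * (⟨s, hs⟩ : S)⁻¹ * (⟨u, hu⟩ : S)⁻¹) : T) : Y) ∈ Z := by
      rw [h2]; exact h1
    exact (hAZ _).2 h3
  · intro s hs hsA x hx
    have h1 : ((e ⟨s, hs⟩ : T) : Y) ∉ Z := fun h2 => hsA ((hAZ ⟨s, hs⟩).2 h2)
    obtain ⟨u, hu, hu'⟩ := hZ.surj _ (e ⟨s, hs⟩).2 h1 _ ((hAZ ⟨x, hAS hx⟩).1 hx)
    refine ⟨(e.symm ⟨u, hu⟩ : S), (e.symm ⟨u, hu⟩).2, ?_⟩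
    have h4 : (⟨s, hs⟩ : S) * e.symm ⟨u, hu⟩ * (⟨s, hs⟩ : S)⁻¹ * (e.symm ⟨u, hu⟩)⁻¹ = ⟨x, hAS hx⟩ := by
      apply e.injective
      simp only [map_mul, map_inv, MulEquiv.apply_symm_apply]
      exact Subtype.ext hu'
    exact congrArg Subtype.val h4

namespace Base

variable {G : Type u} [Group G] [Finite G] {S : Sylow 2 G} {A : Subgroup G} (h : Base S A)

/-- The action of `N_G(A)` on `A#`. -/
def act (A : Subgroup G) : ↥(normalizer (A : Set G)) →* Perm {x : G // x ∈ A ∧ x ≠ 1} where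
  toFun n :=
    { toFun := fun x => ⟨n * x * (n : G)⁻¹, (mem_normalizer_iff.1 n.2 _).1 x.2.1, fun e => x.2.2 (by
        have e1 : (x : G) = (n : G)⁻¹ * (n * x * (n : G)⁻¹) * n := by group
        rw [e1, e]; group)⟩
      invFun := fun x => ⟨(n : G)⁻¹ * x * n, by
        have := (mem_normalizer_iff.1 (inv_mem n.2) x).1 x.2.1
        rwa [inv_inv] at this, fun e => x.2.2 (by
        have e1 : (x : G) = (n : G) * ((n : G)⁻¹ * x * n) * (n : G)⁻¹ := by group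
        rw [e1, e]; group)⟩
      left_inv := fun x => Subtype.ext (by
        show (n : G)⁻¹ * (n * x * (n : G)⁻¹) * n = x
        group)
      right_inv := fun x => Subtype.ext (by
        show (n : G) * ((n : G)⁻¹ * x * n) * (n : G)⁻¹ = x
        group) }
  map_one' := by
    ext x
    simp
  map_mul' m n := by
    ext x
    show ((m : G) * n) * x * ((m : G) * n)⁻¹ = m * (n * x * (n : G)⁻¹) * (m : G)⁻¹
    group

omit [Finite G] in
theorem act_apply (n : ↥(normalizer (A : Set G))) (x : {x : G // x ∈ A ∧ x ≠ 1}) :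
    ((act A n x : {x : G // x ∈ A ∧ x ≠ 1}) : G) = n * x * (n : G)⁻¹ := rfl

omit [Finite G] in
theorem act_eq_one_iff (n : ↥(normalizer (A : Set G))) :
    act A n = 1 ↔ ∀ x ∈ A, (n : G) * x = x * n := by
  constructor
  · intro e x hx
    by_cases h1 : x = 1
    · rw [h1]; group
    have h2 := congrArg (fun σ : Perm {x : G // x ∈ A ∧ x ≠ 1} => ((σ ⟨x, hx, h1⟩ : {x : G // x ∈ A ∧ x ≠ 1}) : G)) e
    have h3 : (n : G) * x * (n : G)⁻¹ = x := h2
    rwa [mul_inv_eq_iff_eq_mul] at h3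
  · intro e
    ext x
    show (n : G) * x * (n : G)⁻¹ = x
    rw [mul_inv_eq_iff_eq_mul]
    exact e x x.2.1

noncomputable instance : Fintype {x : G // x ∈ A ∧ x ≠ 1} := Fintype.ofFinite _
noncomputable instance : DecidableEq {x : G // x ∈ A ∧ x ≠ 1} := Classical.decEq _

include h

theorem card_pts : Fintype.card {x : G // x ∈ A ∧ x ≠ 1} = 3 := by
  have h1 : Nat.card {x : G // x ∈ A ∧ x ≠ 1} = 3 := by
    have e1 : ((A : Set G) \ {1}).ncard = (A : Set G).ncard - 1 :=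
      Set.ncard_sdiff_singleton_of_mem (one_mem A)
    have e2 : (A : Set G).ncard = 4 := by
      rw [← Nat.card_coe_set_eq]; exact h.card
    rw [e2] at e1
    have e3 : Nat.card {x : G // x ∈ A ∧ x ≠ 1} = ((A : Set G) \ {1}).ncard := by
      rw [← Nat.card_coe_set_eq]
      rfl
    rw [e3, e1]
  rw [← h1, Nat.card_eq_fintype_card]

/-- `N_G(A)` induces even permutations on `A#`. -/
theorem sign_act (n : ↥(normalizer (A : Set G))) : Perm.sign (act A n) = 1 := by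
  by_contra hs
  let f : ↥(normalizer (A : Set G)) →* ℤˣ := Perm.sign.comp (act A)
  have hf : f n = -1 := by
    rcases Int.units_eq_one_or (Perm.sign (act A n)) with h1 | h1
    · exact absurd h1 hs
    · exact h1
  apply h.idx f.ker
  rw [index_ker]
  have h1 : f.range = ⊤ := by
    rw [eq_top_iff]
    intro y _
    rcases Int.units_eq_one_or y with rfl | rfl
    · exact one_mem _
    · exact ⟨n, hf⟩
  rw [h1, card_top, Nat.card_eq_fintype_card]
  rfl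

theorem le_normalizer : (S : Subgroup G) ≤ normalizer (A : Set G) :=
  GoldControl.le_normalizer_of_sc h.sc

theorem A_le : A ≤ S := h.sc.1

theorem comm : ∀ a ∈ A, ∀ b ∈ A, a * b = b * a := by
  intro a ha b hb
  have h1 := h.sq _ (mul_mem ha hb)
  have h2 := h.sq a ha
  have h3 := h.sq b hb
  have h2' : a⁻¹ = a := inv_eq_of_mul_eq_one_left h2
  have h3' : b⁻¹ = b := inv_eq_of_mul_eq_one_left h3
  have h4 : (a * b)⁻¹ = a * b := inv_eq_of_mul_eq_one_left h1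
  rw [← h4, mul_inv_rev, h2', h3']

/-- `A` is central in `S`. -/
theorem cen : ∀ x ∈ A, ∀ s ∈ (S : Subgroup G), x * s = s * x := by
  intro x hx s hs
  have hn := h.le_normalizer hs
  by_contra hne
  have h1 : act A ⟨s, hn⟩ ≠ 1 := fun e => hne ((act_eq_one_iff _).1 e x hx).symm
  have h2 := (three h.card_pts _ (h.sign_act ⟨s, hn⟩) h1).2.2
  obtain ⟨k, hk⟩ : ∃ k : ℕ, s ^ 2 ^ k = 1 := by
    obtain ⟨k, hk⟩ := S.2 ⟨s, hs⟩
    exact ⟨k, congrArg Subtype.val hk⟩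
  have h3 : (act A ⟨s, hn⟩) ^ 2 ^ k = 1 := by
    rw [← map_pow]
    have e : (⟨s, hn⟩ : ↥(normalizer (A : Set G))) ^ 2 ^ k = 1 := Subtype.ext (by
      rw [SubmonoidClass.coe_pow]; exact hk)
    rw [e, map_one]
  have h4 : orderOf (act A ⟨s, hn⟩) ∣ Nat.gcd 3 (2 ^ k) :=
    Nat.dvd_gcd (orderOf_dvd_of_pow_eq_one h2) (orderOf_dvd_of_pow_eq_one h3)
  have h5 : Nat.gcd 3 (2 ^ k) = 1 := by
    apply Nat.Coprime.pow_right
    norm_num
  rw [h5, Nat.dvd_one, orderOf_eq_one_iff] at h4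
  exact h1 h4

/-- The normalizer of `S` normalizes `A`. -/
theorem normalizer_le : normalizer ((S : Subgroup G) : Set G) ≤ normalizer (A : Set G) := by
  have key : ∀ g ∈ normalizer ((S : Subgroup G) : Set G), ∀ x ∈ A, g * x * g⁻¹ ∈ A := fun g hg x hx =>
    h.sc.2 x hx g ((mem_normalizer_iff.1 hg x).1 (h.A_le hx))
  intro g hg
  rw [mem_normalizer_iff]
  intro x
  refine ⟨key g hg x, fun hx => ?_⟩
  have := key g⁻¹ (inv_mem hg) _ hx
  have e : g⁻¹ * (g * x * g⁻¹) * g⁻¹⁻¹ = x := by group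
  rwa [e] at this

/-- An element of `H ∩ N_G(A)` can be replaced by an element of `H ∩ N_G(S)` with the same action on `A`. -/
theorem exists_mem_normalizer {H : Subgroup G} (hH : (S : Subgroup G) ≤ H) {n : G} (hn : n ∈ normalizer (A : Set G))
    (hnH : n ∈ H) : ∃ g ∈ H, g ∈ normalizer ((S : Subgroup G) : Set G) ∧ ∀ x ∈ A, g * x * g⁻¹ = n * x * n⁻¹ := by
  haveI : Fact (Nat.Prime 2) := ⟨Nat.prime_two⟩
  let K : Subgroup G := H ⊓ centralizer (A : Set G)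
  have hSK : (S : Subgroup G) ≤ K := le_inf hH (fun s hs => mem_centralizer_iff.2 (fun x hx => h.cen x hx s hs))
  have hnK : (S : Subgroup G).map (MulAut.conj n⁻¹).toMonoidHom ≤ K := by
    rintro _ ⟨s, hs, rfl⟩
    refine Subgroup.mem_inf.2 ⟨mul_mem (mul_mem (inv_mem hnH) (hH hs)) (inv_mem (inv_mem hnH)), ?_⟩
    rw [mem_centralizer_iff]
    intro x hx
    have h1 := h.cen _ ((mem_normalizer_iff.1 hn x).1 hx) s hs
    show x * (n⁻¹ * s * n⁻¹⁻¹) = n⁻¹ * s * n⁻¹⁻¹ * x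
    calc x * (n⁻¹ * s * n⁻¹⁻¹) = n⁻¹ * (n * x * n⁻¹ * s) * n := by group
      _ = n⁻¹ * (s * (n * x * n⁻¹)) * n := by rw [h1]
      _ = n⁻¹ * s * n⁻¹⁻¹ * x := by group
  -- both are Sylow subgroups of `K`
  let P : Sylow 2 K := S.subtype hSK
  let T : Sylow 2 G := n⁻¹ • S
  have hTK : (T : Subgroup G) ≤ K := hnK
  let Q : Sylow 2 K := T.subtype hTK
  obtain ⟨c, hc⟩ := MulAction.exists_smul_eq K Q P
  have hcS : ∀ s : G, s ∈ (S : Subgroup G) ↔ (c : G)⁻¹ * s * c ∈ (T : Subgroup G) := by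
    intro s
    constructor
    · intro hs
      have h1 : (⟨s, hSK hs⟩ : K) ∈ (P : Subgroup K) := hs
      rw [← hc] at h1
      obtain ⟨t, ht, hts⟩ := h1
      have e : c * t * c⁻¹ = ⟨s, hSK hs⟩ := hts
      have e' : (c : G) * t * (c : G)⁻¹ = s := congrArg Subtype.val e
      have ht' : (t : G) ∈ (T : Subgroup G) := ht
      rw [← e']
      have e2 : (c : G)⁻¹ * ((c : G) * t * (c : G)⁻¹) * c = t := by group
      rwa [e2]
    · intro hs
      have h1 : (⟨(c : G)⁻¹ * s * c, hTK hs⟩ : K) ∈ (Q : Subgroup K) := hs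
      have h2 : c * ⟨(c : G)⁻¹ * s * c, hTK hs⟩ * c⁻¹ ∈ (P : Subgroup K) := by
        rw [← hc]
        exact ⟨_, h1, rfl⟩
      have h3 : ((c * ⟨(c : G)⁻¹ * s * c, hTK hs⟩ * c⁻¹ : K) : G) ∈ (S : Subgroup G) := h2
      have e2 : ((c * ⟨(c : G)⁻¹ * s * c, hTK hs⟩ * c⁻¹ : K) : G) = s := by
        show (c : G) * ((c : G)⁻¹ * s * c) * (c : G)⁻¹ = s
        group
      rwa [e2] at h3
  have hT : ∀ s : G, s ∈ (T : Subgroup G) ↔ n * s * n⁻¹ ∈ (S : Subgroup G) := by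
    intro s
    constructor
    · rintro ⟨t, ht, rfl⟩
      show n * (n⁻¹ * t * n⁻¹⁻¹) * n⁻¹ ∈ _
      have e : n * (n⁻¹ * t * n⁻¹⁻¹) * n⁻¹ = t := by group
      rw [e]; exact ht
    · intro hs
      refine ⟨_, hs, ?_⟩
      show n⁻¹ * (n * s * n⁻¹) * n⁻¹⁻¹ = s
      group
  have hcA : ∀ x ∈ A, (c : G) * x = x * c := fun x hx => (mem_centralizer_iff.1 c.2.2 x hx).symm
  refine ⟨n * (c : G)⁻¹, mul_mem hnH (inv_mem c.2.1), ?_, ?_⟩
  · rw [mem_normalizer_iff]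
    intro s
    rw [hcS s, hT]
    have e : n * ((c : G)⁻¹ * s * c) * n⁻¹ = n * (c : G)⁻¹ * s * (n * (c : G)⁻¹)⁻¹ := by group
    rw [e]
  · intro x hx
    have e1 : (c : G)⁻¹ * x * c = x := by
      rw [mul_assoc, ← hcA x hx]; group
    calc n * (c : G)⁻¹ * x * (n * (c : G)⁻¹)⁻¹ = n * ((c : G)⁻¹ * x * c) * n⁻¹ := by group
      _ = _ := by rw [e1]

/-- There is an element of `N_G(S)` acting fixed-point-freely on `A`. -/
theorem exists_g0 : ∃ g0 : G, g0 ∈ normalizer ((S : Subgroup G) : Set G) ∧ (∀ x ∈ A, g0 * x * g0⁻¹ ∈ A) ∧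
    ∀ x ∈ A, g0 * x = x * g0 → x = 1 := by
  obtain ⟨n, hn⟩ : ∃ n : ↥(normalizer (A : Set G)), act A n ≠ 1 := by
    by_contra hcon
    push Not at hcon
    obtain ⟨a, ha, ha1⟩ : ∃ a ∈ A, a ≠ 1 := by
      have : A ≠ ⊥ := by
        intro e
        have := h.card
        rw [e, card_bot] at this
        norm_num at this
      obtain ⟨a, ha⟩ := Subgroup.ne_bot_iff_exists_ne_one.1 this
      exact ⟨a, a.2, fun e => ha (Subtype.ext e)⟩
    have hle : zpowers a ≤ A := by rwa [zpowers_le]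
    rcases h.irr (zpowers a) hle (by
      intro n hn x hx
      have e := (act_eq_one_iff (⟨n, hn⟩ : ↥(normalizer (A : Set G)))).1 (hcon ⟨n, hn⟩) x (hle hx)
      have e' : n * x * n⁻¹ = x := by
        rw [mul_inv_eq_iff_eq_mul]; exact e
      rw [e']; exact hx) with hb | hb
    · rw [zpowers_eq_bot] at hb
      exact ha1 hb
    · have h1 := h.card
      rw [← hb, Nat.card_zpowers] at h1
      have h2 : orderOf a ∣ 2 := orderOf_dvd_of_pow_eq_one (by rw [pow_two]; exact h.sq a ha)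
      rw [h1] at h2
      norm_num at h2
  obtain ⟨g, -, hgS, hg⟩ := h.exists_mem_normalizer (H := ⊤) le_top n.2 (mem_top _)
  have hgN := h.normalizer_le hgS
  have hact : act A ⟨g, hgN⟩ = act A n := by
    ext x
    exact hg x x.2.1
  have h3 := three h.card_pts (act A ⟨g, hgN⟩) (h.sign_act _) (by rw [hact]; exact hn)
  refine ⟨g, hgS, fun x hx => (mem_normalizer_iff.1 hgN x).1 hx, fun x hx e => ?_⟩
  by_contra h1
  apply h3.1 ⟨x, hx, h1⟩
  apply Subtype.ext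
  show g * x * g⁻¹ = x
  rw [mul_inv_eq_iff_eq_mul]; exact e

/-- Two elements of `N_G(A)` acting nontrivially on `A` have equal or inverse action. -/
theorem same_or_inv {g n : G} (hg : g ∈ normalizer (A : Set G)) (hn : n ∈ normalizer (A : Set G))
    (hg1 : ∃ x ∈ A, g * x ≠ x * g) (hn1 : ∃ x ∈ A, n * x ≠ x * n) :
    (∀ x ∈ A, n * x * n⁻¹ = g * x * g⁻¹) ∨ (∀ x ∈ A, n⁻¹ * x * n = g * x * g⁻¹) := by
  have hne : ∀ {k : G} (hk : k ∈ normalizer (A : Set G)), (∃ x ∈ A, k * x ≠ x * k) →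
      act A ⟨k, hk⟩ ≠ 1 := by
    rintro k hk ⟨x, hx, hx1⟩ e
    exact hx1 ((act_eq_one_iff _).1 e x hx)
  rcases three' h.card_pts (act A ⟨g, hg⟩) (act A ⟨n, hn⟩) (h.sign_act _) (hne hg hg1) (h.sign_act _)
    (hne hn hn1) with e | e
  · left
    intro x hx
    by_cases h1 : x = 1
    · rw [h1]; group
    exact (congrArg (fun σ : Perm {x : G // x ∈ A ∧ x ≠ 1} => ((σ ⟨x, hx, h1⟩ : {x : G // x ∈ A ∧ x ≠ 1}) : G)) e).symm
  · right
    intro x hx
    by_cases h1 : x = 1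
    · rw [h1]; group
    exact (congrArg (fun σ : Perm {x : G // x ∈ A ∧ x ≠ 1} => ((σ ⟨x, hx, h1⟩ : {x : G // x ∈ A ∧ x ≠ 1}) : G)) e).symm

/-- Transitivity on `A#` of an element acting nontrivially. -/
theorem exists_pow {g : G} (hg : g ∈ normalizer (A : Set G)) (hg1 : ∃ x ∈ A, g * x ≠ x * g) {x y : G}
    (hx : x ∈ A) (hx1 : x ≠ 1) (hy : y ∈ A) (hy1 : y ≠ 1) : ∃ k : ℕ, g ^ k * x * (g ^ k)⁻¹ = y := by
  have h1 : act A ⟨g, hg⟩ ≠ 1 := by
    obtain ⟨z, hz, hz1⟩ := hg1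
    exact fun e => hz1 ((act_eq_one_iff _).1 e z hz)
  rcases (three h.card_pts _ (h.sign_act ⟨g, hg⟩) h1).2.1 ⟨x, hx, hx1⟩ ⟨y, hy, hy1⟩ with e | e | e
  · have e' : x = y := congrArg Subtype.val e
    exact ⟨0, by simp [e']⟩
  · have e' : g * x * g⁻¹ = y := congrArg Subtype.val e
    exact ⟨1, by rw [pow_one]; exact e'⟩
  · have e' : g * (g * x * g⁻¹) * g⁻¹ = y := congrArg Subtype.val e
    refine ⟨2, ?_⟩
    rw [← e', pow_two]
    group

/-- The dichotomy type I / type F, general form. -/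
theorem typeI_or {H : Subgroup G} (hH : (S : Subgroup G) ≤ H) :
    (∀ x ∈ A, ∀ g ∈ H, g * x * g⁻¹ * x⁻¹ ∈ oc H) ∨
    ∃ n ∈ H, n ∈ normalizer (A : Set G) ∧ ∃ x ∈ A, n * x ≠ x * n := by
  haveI : Fact (Nat.Prime 2) := ⟨Nat.prime_two⟩
  by_cases hcon : ∃ n ∈ H, n ∈ normalizer (A : Set G) ∧ ∃ x ∈ A, n * x ≠ x * n
  · exact Or.inr hcon
  left
  push Not at hcon
  intro x hx g hg
  by_cases h1 : x = 1
  · rw [h1]
    have e : g * 1 * g⁻¹ * 1⁻¹ = 1 := by group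
    rw [e]; exact one_mem _
  let P : Sylow 2 H := S.subtype hH
  have hxS := h.A_le hx
  have hord : orderOf (⟨x, hH hxS⟩ : H) = 2 := by
    rw [Subgroup.orderOf_mk]
    exact orderOf_eq_prime (by rw [pow_two]; exact h.sq x hx) h1
  obtain ⟨N, hN, hodd, hcom⟩ := Cfsg.Agent.S0215.result P (⟨x, hH hxS⟩ : H) hord (show x ∈ (S : Subgroup G) from hxS) (by
    intro k hk
    have hk' : (k : G) * x * (k : G)⁻¹ ∈ (S : Subgroup G) := hk
    have hkA := h.sc.2 x hx k hk'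
    apply Subtype.ext
    show (k : G) * x * (k : G)⁻¹ = x
    -- `S` and `S^k` are Sylow subgroups of the centralizer of `x`
    let K : Subgroup G := H ⊓ centralizer ({x} : Set G)
    have hSK : (S : Subgroup G) ≤ K := le_inf hH (fun s hs => by
      rw [mem_centralizer_singleton_iff]; exact (h.cen x hx s hs).symm)
    let T : Sylow 2 G := (k : G)⁻¹ • S
    have hTm : ∀ s : G, s ∈ (T : Subgroup G) ↔ (k : G) * s * (k : G)⁻¹ ∈ (S : Subgroup G) := by
      intro s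
      constructor
      · rintro ⟨t, ht, rfl⟩
        show (k : G) * ((k : G)⁻¹ * t * (k : G)⁻¹⁻¹) * (k : G)⁻¹ ∈ _
        have e : (k : G) * ((k : G)⁻¹ * t * (k : G)⁻¹⁻¹) * (k : G)⁻¹ = t := by group
        rw [e]; exact ht
      · intro hs
        refine ⟨_, hs, ?_⟩
        show (k : G)⁻¹ * ((k : G) * s * (k : G)⁻¹) * (k : G)⁻¹⁻¹ = s
        group
    have hTK : (T : Subgroup G) ≤ K := by
      intro s hs
      rw [hTm] at hs
      refine Subgroup.mem_inf.2 ⟨?_, ?_⟩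
      · have := mul_mem (mul_mem (inv_mem k.2) (hH hs)) k.2
        have e : (k : G)⁻¹ * ((k : G) * s * (k : G)⁻¹) * k = s := by group
        rwa [e] at this
      · rw [mem_centralizer_singleton_iff]
        have h2 := h.cen _ hkA _ hs
        calc s * x = (k : G)⁻¹ * ((k : G) * s * (k : G)⁻¹ * ((k : G) * x * (k : G)⁻¹)) * k := by group
          _ = (k : G)⁻¹ * ((k : G) * x * (k : G)⁻¹ * ((k : G) * s * (k : G)⁻¹)) * k := by rw [h2]
          _ = x * s := by group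
    let P' : Sylow 2 K := S.subtype hSK
    let Q' : Sylow 2 K := T.subtype hTK
    obtain ⟨c, hc⟩ := MulAction.exists_smul_eq K P' Q'
    -- `k c` normalizes `S`
    have hkc : (k : G) * c ∈ normalizer ((S : Subgroup G) : Set G) := by
      have key : ∀ s ∈ (S : Subgroup G), (k : G) * c * s * ((k : G) * c)⁻¹ ∈ (S : Subgroup G) := by
        intro s hs
        have h2 : c * ⟨s, hSK hs⟩ * c⁻¹ ∈ (Q' : Subgroup K) := by
          rw [← hc]
          exact ⟨⟨s, hSK hs⟩, hs, rfl⟩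
        have h3 : (c : G) * s * (c : G)⁻¹ ∈ (T : Subgroup G) := h2
        rw [hTm] at h3
        have e : (k : G) * c * s * ((k : G) * c)⁻¹ = (k : G) * ((c : G) * s * (c : G)⁻¹) * (k : G)⁻¹ := by group
        rw [e]; exact h3
      rw [Cfsg.Agent.Lib.GoldschmidtFusion.mem_normalizer_iff_map_conj]
      apply Subgroup.eq_of_le_of_card_ge
      · rintro _ ⟨s, hs, rfl⟩
        exact key s hs
      · exact (Cfsg.Agent.Lib.GoldschmidtFusion.card_map_conj _ _).ge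
    have h4 := hcon ((k : G) * c) (mul_mem k.2 c.2.1) (h.normalizer_le hkc) x hx
    have h5 : (c : G) * x = x * c := mem_centralizer_singleton_iff.1 c.2.2
    rw [mul_inv_eq_iff_eq_mul]
    calc (k : G) * x = (k : G) * (x * c) * (c : G)⁻¹ := by group
      _ = (k : G) * (c * x) * (c : G)⁻¹ := by rw [h5]
      _ = ((k : G) * c * x) * (c : G)⁻¹ := by group
      _ = (x * ((k : G) * c)) * (c : G)⁻¹ := by rw [h4]
      _ = x * k := by group)
  have hNH : N.map H.subtype ≤ oc H := by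
    apply le_oc
    · rintro _ ⟨y, -, rfl⟩
      exact y.2
    · intro y hy
      rw [mem_normalizer_iff]
      have key : ∀ y ∈ H, ∀ z ∈ N.map H.subtype, y * z * y⁻¹ ∈ N.map H.subtype := by
        rintro y hy _ ⟨z, hz, rfl⟩
        exact ⟨⟨y, hy⟩ * z * (⟨y, hy⟩ : H)⁻¹, hN.conj_mem z hz _, rfl⟩
      intro z
      refine ⟨key y hy z, fun hz => ?_⟩
      have := key y⁻¹ (inv_mem hy) _ hz
      have e : y⁻¹ * (y * z * y⁻¹) * y⁻¹⁻¹ = z := by group
      rwa [e] at this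
    · rw [Nat.card_congr (N.equivMapOfInjective H.subtype H.subtype_injective).symm.toEquiv]
      exact hodd
  have h2 : x * g * x⁻¹ * g⁻¹ ∈ oc H := hNH ⟨_, hcom ⟨g, hg⟩, rfl⟩
  have h3 := inv_mem h2
  have e : (x * g * x⁻¹ * g⁻¹)⁻¹ = g * x * g⁻¹ * x⁻¹ := by group
  rwa [e] at h3

/-- Field `type`. -/
theorem type {g0 : G} (hg0S : g0 ∈ normalizer ((S : Subgroup G) : Set G))
    (hfpf : ∀ x ∈ A, g0 * x = x * g0 → x = 1) {H : Subgroup G} (hH : (S : Subgroup G) ≤ H) :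
    (∀ x ∈ A, ∀ g ∈ H, g * x * g⁻¹ * x⁻¹ ∈ oc H) ∨
    ∃ g ∈ H, g ∈ normalizer ((S : Subgroup G) : Set G) ∧ ∀ x ∈ A, g * x * g⁻¹ = g0 * x * g0⁻¹ := by
  rcases h.typeI_or hH with h1 | ⟨n, hnH, hnA, hn1⟩
  · exact Or.inl h1
  right
  obtain ⟨g, hgH, hgS, hg⟩ := h.exists_mem_normalizer hH hnA hnH
  have hg01 : ∃ x ∈ A, g0 * x ≠ x * g0 := by
    obtain ⟨x, hx, hx1⟩ := hn1
    refine ⟨x, hx, fun e => hx1 ?_⟩
    rw [hfpf x hx e]; group
  rcases h.same_or_inv (h.normalizer_le hg0S) hnA hg01 hn1 with e | e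
  · exact ⟨g, hgH, hgS, fun x hx => (hg x hx).trans (e x hx)⟩
  · refine ⟨g⁻¹, inv_mem hgH, inv_mem hgS, fun x hx => ?_⟩
    rw [inv_inv, ← e x hx]
    -- `g⁻¹ x g = n⁻¹ x n`
    have hy : n⁻¹ * x * n ∈ A := by
      have := (mem_normalizer_iff.1 (inv_mem hnA) x).1 hx
      rwa [inv_inv] at this
    have e1 := hg _ hy
    have e2 : n * (n⁻¹ * x * n) * n⁻¹ = x := by group
    rw [e2] at e1
    calc g⁻¹ * x * g = g⁻¹ * (g * (n⁻¹ * x * n) * g⁻¹) * g := by rw [e1]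
      _ = n⁻¹ * x * n := by group

/-- The action of `g0` on `S`. -/
noncomputable def phi {g0 : G} (hg0S : g0 ∈ normalizer ((S : Subgroup G) : Set G)) :
    MulAut ↥(S : Subgroup G) :=
  (S : Subgroup G).normalizerMonoidHom ⟨g0, hg0S⟩

omit h [Finite G] in
theorem phi_pow_apply {g0 : G} (hg0S : g0 ∈ normalizer ((S : Subgroup G) : Set G)) (k : ℕ)
    (s : ↥(S : Subgroup G)) : (((phi hg0S ^ k) s : ↥(S : Subgroup G)) : G) = g0 ^ k * s * (g0 ^ k)⁻¹ := by
  induction k with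
  | zero => simp
  | succ k ih =>
    rw [pow_succ', MulAut.mul_apply]
    have e : ((phi hg0S ((phi hg0S ^ k) s) : ↥(S : Subgroup G)) : G) =
      g0 * ((phi hg0S ^ k) s : ↥(S : Subgroup G)) * g0⁻¹ := rfl
    rw [e, ih, pow_succ']
    group

/-- `S` is isomorphic to a Sylow 2-subgroup of `PSU(3,4)` if it is not commutative. -/
theorem exists_equiv {g0 : G} (hg0S : g0 ∈ normalizer ((S : Subgroup G) : Set G))
    (hfpf : ∀ x ∈ A, g0 * x = x * g0 → x = 1)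
    (hnc : ∃ x ∈ (S : Subgroup G), ∃ y ∈ (S : Subgroup G), x * y ≠ y * x)
    {F : Type*} [Field F] [Fintype F] (hF : Fintype.card F = 16) (P : Sylow 2 (Cfsg.PSU 3 F 4)) :
    Nonempty (↥(S : Subgroup G) ≃* ↥(P : Subgroup (Cfsg.PSU 3 F 4))) := by
  have hmem : ∀ s : ↥(S : Subgroup G), s ^ 2 = 1 → (s : G) ∈ A := fun s hs =>
    h.inv s s.2 (by rw [← pow_two]; exact congrArg Subtype.val hs)
  have h2 : Cfsg.PRankLE 2 2 ↥(S : Subgroup G) := by
    intro B _ hB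
    have hle : B.map (S : Subgroup G).subtype ≤ A := by
      rintro _ ⟨b, hb, rfl⟩
      exact hmem b (hB b hb)
    have h1 := Subgroup.card_le_of_le hle
    rw [h.card, Nat.card_congr (B.equivMapOfInjective _ (Subgroup.subtype_injective _)).symm.toEquiv] at h1
    exact h1
  have h1 : ¬ Cfsg.PRankLE 2 1 ↥(S : Subgroup G) := by
    intro hcon
    have hc : Nat.card (A.subgroupOf (S : Subgroup G)) ≤ 2 ^ 1 := by
      apply hcon
      · constructor
        constructor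
        intro a b
        apply Subtype.ext
        apply Subtype.ext
        exact h.comm _ a.2 _ b.2
      · intro a ha
        apply Subtype.ext
        rw [SubmonoidClass.coe_pow, pow_two]
        exact h.sq _ ha
    rw [Nat.card_congr (subgroupOfEquivOfLe h.A_le).toEquiv, h.card] at hc
    norm_num at hc
  rcases Cfsg.Agent.S1237.result S.2 h2 h1 (phi hg0S) (by
    intro s t hs ht
    have hs2 : s ^ 2 = 1 := orderOf_dvd_iff_pow_eq_one.1 (by rw [hs])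
    have ht2 : t ^ 2 = 1 := orderOf_dvd_iff_pow_eq_one.1 (by rw [ht])
    have hs1 : (s : G) ≠ 1 := fun e => by
      rw [show s = 1 from Subtype.ext e, orderOf_one] at hs
      norm_num at hs
    have ht1 : (t : G) ≠ 1 := fun e => by
      rw [show t = 1 from Subtype.ext e, orderOf_one] at ht
      norm_num at ht
    obtain ⟨k, hk⟩ := h.exists_pow (h.normalizer_le hg0S) ⟨s, hmem s hs2, fun e => hs1 (hfpf _ (hmem s hs2) e)⟩
      (hmem s hs2) hs1 (hmem t ht2) ht1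
    refine ⟨k, Subtype.ext ?_⟩
    rw [phi_pow_apply]
    exact hk) hF P with ⟨n, -, ⟨e⟩⟩ | h3
  · exfalso
    obtain ⟨x, hx, y, hy, hxy⟩ := hnc
    apply hxy
    have h4 : (⟨x, hx⟩ : ↥(S : Subgroup G)) * ⟨y, hy⟩ = ⟨y, hy⟩ * ⟨x, hx⟩ := by
      apply e.injective
      rw [map_mul, map_mul, mul_comm]
    exact congrArg Subtype.val h4
  · exact h3

/-- The structure of `S`. -/
theorem structS {g0 : G} (hg0S : g0 ∈ normalizer ((S : Subgroup G) : Set G))
    (hfpf : ∀ x ∈ A, g0 * x = x * g0 → x = 1)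
    (hnc : ∃ x ∈ (S : Subgroup G), ∃ y ∈ (S : Subgroup G), x * y ≠ y * x) :
    Nat.card (S : Subgroup G) = 64 ∧
    (∀ s ∈ (S : Subgroup G), ∀ u ∈ (S : Subgroup G), s * u * s⁻¹ * u⁻¹ ∈ A) ∧
    (∀ s ∈ (S : Subgroup G), s ∉ A → ∀ x ∈ A, ∃ u ∈ (S : Subgroup G), s * u * s⁻¹ * u⁻¹ = x) := by
  classical
  haveI : Fact (Nat.Prime 2) := ⟨Nat.prime_two⟩
  haveI : Fintype (GaloisField 2 4) := Fintype.ofFinite _
  have hF : Fintype.card (GaloisField 2 4) = 16 := by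
    rw [← Nat.card_eq_fintype_card, GaloisField.card 2 4 (by norm_num)]
    norm_num
  obtain ⟨P⟩ : Nonempty (Sylow 2 (Cfsg.PSU 3 (GaloisField 2 4) 4)) := inferInstance
  obtain ⟨e⟩ := h.exists_equiv hg0S hfpf hnc hF P
  obtain ⟨Z, hZ⟩ := GoldU34.exists_data hF (MulEquiv.refl _) P
  exact transport h.A_le h.sq h.inv e hZ

/-- Field `emb`. -/
theorem emb (hSE : ¬ ∃ H : Subgroup G, Cfsg.IsStronglyEmbedded H) {g0 : G}
    (hfpf : ∀ x ∈ A, g0 * x = x * g0 → x = 1) {H : Subgroup G} (hH : H ≠ ⊤) {x : G} (hx : x ∈ A) (hx1 : x ≠ 1)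
    (hC : centralizer ({x} : Set G) ≤ H) :
    ¬ ∃ g ∈ H, g ∈ normalizer ((S : Subgroup G) : Set G) ∧ ∀ x ∈ A, g * x * g⁻¹ = g0 * x * g0⁻¹ := by
  rintro ⟨g, hgH, hgS, hg⟩
  haveI : Fact (Nat.Prime 2) := ⟨Nat.prime_two⟩
  apply hSE
  refine ⟨H, ClosingPrime.isStronglyEmbedded_of_one_class (t := x)
    (orderOf_eq_prime (by rw [pow_two]; exact h.sq x hx) hx1) hC ?_ hH⟩
  intro y hy hy2
  have hSH : (S : Subgroup G) ≤ H := fun s hs => hC (by
    rw [mem_centralizer_singleton_iff]; exact (h.cen x hx s hs).symm)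
  let P : Sylow 2 H := S.subtype hSH
  -- `y` is conjugate in `H` to an element of `S`
  have hyp : IsPGroup 2 (zpowers (⟨y, hy⟩ : H)) := by
    apply IsPGroup.of_card (n := 1)
    rw [Nat.card_zpowers, Subgroup.orderOf_mk, hy2, pow_one]
  obtain ⟨Q, hQ⟩ := hyp.exists_le_sylow
  obtain ⟨c, hc⟩ := MulAction.exists_smul_eq H Q P
  have hyQ : (⟨y, hy⟩ : H) ∈ (Q : Subgroup H) := hQ (mem_zpowers _)
  have hcy : c * ⟨y, hy⟩ * c⁻¹ ∈ (P : Subgroup H) := by
    rw [← hc]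
    exact ⟨_, hyQ, rfl⟩
  have hcy' : (c : G) * y * (c : G)⁻¹ ∈ (S : Subgroup G) := hcy
  have hyy : y * y = 1 := by rw [← pow_two, ← hy2]; exact pow_orderOf_eq_one y
  have hcyA : (c : G) * y * (c : G)⁻¹ ∈ A := by
    apply h.inv _ hcy'
    calc (c : G) * y * (c : G)⁻¹ * ((c : G) * y * (c : G)⁻¹) = (c : G) * (y * y) * (c : G)⁻¹ := by group
      _ = 1 := by rw [hyy]; group
  have hcy1 : (c : G) * y * (c : G)⁻¹ ≠ 1 := by
    intro e
    have e1 : y = 1 := by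
      have e2 : y = (c : G)⁻¹ * ((c : G) * y * (c : G)⁻¹) * c := by group
      rw [e2, e]; group
    rw [e1, orderOf_one] at hy2
    norm_num at hy2
  have hg1 : ∃ z ∈ A, g * z ≠ z * g := by
    refine ⟨x, hx, fun e => hx1 (hfpf x hx ?_)⟩
    have e1 := hg x hx
    have e2 : g * x * g⁻¹ = x := by rw [mul_inv_eq_iff_eq_mul]; exact e
    rw [e2, eq_mul_inv_iff_mul_eq] at e1
    exact e1.symm
  obtain ⟨k, hk⟩ := h.exists_pow (h.normalizer_le hgS) hg1 hx hx1 hcyA hcy1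
  refine ⟨(c : G)⁻¹ * g ^ k, mul_mem (inv_mem c.2) (pow_mem hgH k), ?_⟩
  calc (c : G)⁻¹ * g ^ k * x * ((c : G)⁻¹ * g ^ k)⁻¹ = (c : G)⁻¹ * (g ^ k * x * (g ^ k)⁻¹) * c := by group
    _ = y := by rw [hk]; group

end Base

/-- Field `fact`. -/
theorem fact {G : Type u} [Group G] [Finite G] {𝒜 : Set G} (h : Setup 𝒜) (S : Sylow 2 G)
    (h4 : Nat.card (ClosedFam.fam 𝒜 (S : Subgroup G)) = 4) {x : G} (hx : x ∈ ClosedFam.fam 𝒜 (S : Subgroup G))
    (hx1 : x ≠ 1) : centralizer ({x} : Set G) ≤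
      oc (centralizer ({x} : Set G)) ⊔ centralizer (ClosedFam.fam 𝒜 (S : Subgroup G) : Set G) := by
  intro c hc
  obtain ⟨o, ho, n, hn, rfl⟩ := GoldFour.cent_decomp h S h4 (GoldSolid.solid h S h4) hx hx1
    (mem_centralizer_singleton_iff.1 hc)
  have hle : core (centralizer ({x} : Set G)) ≤ oc (centralizer ({x} : Set G)) := by
    apply le_oc (core_le _) ?_ (odd_core _)
    rw [Subgroup.le_normalizer_iff]
    intro g hg k hk
    exact conj_mem_core hg hk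
  exact mul_mem (Subgroup.mem_sup_left (hle ho)) (Subgroup.mem_sup_right hn)

/-- The elementary fields of the local frame `GoldM1.Frame`. -/
structure Pre {G : Type*} [Group G] (S A : Subgroup G) (g0 : G) : Prop where
  simple : ∀ N : Subgroup G, N.Normal → N = ⊥ ∨ N = ⊤
  cardS : Nat.card S = 64
  sylow : ¬ 2 ∣ S.index
  AS : A ≤ S
  cardA : Nat.card A = 4
  cen : ∀ x ∈ A, ∀ s ∈ S, x * s = s * x
  sq : ∀ x ∈ A, x * x = 1
  inv : ∀ s ∈ S, s * s = 1 → s ∈ A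
  comm : ∀ s ∈ S, ∀ u ∈ S, s * u * s⁻¹ * u⁻¹ ∈ A
  surj : ∀ s ∈ S, s ∉ A → ∀ x ∈ A, ∃ u ∈ S, s * u * s⁻¹ * u⁻¹ = x
  g0S : g0 ∈ normalizer (S : Set G)
  g0A : ∀ x ∈ A, g0 * x * g0⁻¹ ∈ A
  g0_fpf : ∀ x ∈ A, g0 * x = x * g0 → x = 1
  fact : ∀ x ∈ A, x ≠ 1 →
    centralizer ({x} : Set G) ≤ oc (centralizer ({x} : Set G)) ⊔ centralizer (A : Set G)
  type : ∀ H : Subgroup G, H ≠ ⊤ → S ≤ H → (∀ x ∈ A, ∀ h ∈ H, h * x * h⁻¹ * x⁻¹ ∈ oc H) ∨
    (∃ g ∈ H, g ∈ normalizer (S : Set G) ∧ ∀ x ∈ A, g * x * g⁻¹ = g0 * x * g0⁻¹)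
  emb : ∀ H : Subgroup G, H ≠ ⊤ → ∀ x ∈ A, x ≠ 1 → centralizer ({x} : Set G) ≤ H →
    ¬ ∃ g ∈ H, g ∈ normalizer (S : Set G) ∧ ∀ x ∈ A, g * x * g⁻¹ = g0 * x * g0⁻¹

/-- The elementary fields of the frame hold in the minimal counterexample. -/
theorem exists_pre {G : Type u} [Group G] [Finite G] {𝒜 : Set G} (h : Setup 𝒜) (S : Sylow 2 G)
    (h4 : Nat.card (ClosedFam.fam 𝒜 (S : Subgroup G)) = 4)
    (hinv : ∀ s ∈ (S : Subgroup G), s * s = 1 → s ∈ ClosedFam.fam 𝒜 (S : Subgroup G))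
    (hnc : ∃ x ∈ (S : Subgroup G), ∃ y ∈ (S : Subgroup G), x * y ≠ y * x) :
    ∃ g0 : G, Pre (S : Subgroup G) (ClosedFam.fam 𝒜 (S : Subgroup G)) g0 := by
  haveI : Fact (Nat.Prime 2) := ⟨Nat.prime_two⟩
  have hb := base_of_setup h S h4 hinv
  obtain ⟨g0, hg0S, hg0A, hfpf⟩ := hb.exists_g0
  obtain ⟨hcard, hcomm, hsurj⟩ := hb.structS hg0S hfpf hnc
  exact ⟨g0, {
    simple := fun N hN => (h.simple.eq_bot_or_eq_top_of_normal N hN)
    cardS := hcard
    sylow := S.not_dvd_index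
    AS := hb.A_le
    cardA := h4
    cen := hb.cen
    sq := hb.sq
    inv := hinv
    comm := hcomm
    surj := hsurj
    g0S := hg0S
    g0A := hg0A
    g0_fpf := hfpf
    fact := fun x hx hx1 => fact h S h4 hx hx1
    type := fun H _ hH => hb.type hg0S hfpf hH
    emb := fun H hH x hx hx1 hC => hb.emb h.noSE hfpf hH hx hx1 hC }⟩

/-- The frame from the elementary fields and the remaining ones. -/
theorem Pre.frame {G : Type*} [Group G] {S A : Subgroup G} {g0 : G} (h : Pre S A g0)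
    (solv : ∀ X : Subgroup G, Odd (Nat.card X) → Group.IsSolvable X)
    (normCA : centralizer (A : Set G) ≤ normalizer ((oc (centralizer (A : Set G)) ⊔ S : Subgroup G) : Set G))
    (indexCA : (oc (centralizer (A : Set G)) ⊔ S).relIndex (centralizer (A : Set G)) = 1 ∨
      (oc (centralizer (A : Set G)) ⊔ S).relIndex (centralizer (A : Set G)) = 5)
    (invCore : ∀ H : Subgroup G, H ≠ ⊤ → S ≤ H → ∀ Y ≤ H, Odd (Nat.card Y) →
      S ≤ normalizer (Y : Set G) → Y ≤ oc H)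
    (sl : ∀ p : ℕ, p.Prime → p ≠ 2 → ¬ ∃ (H K : Subgroup G) (_ : (K.subgroupOf H).Normal),
      Nonempty ((H ⧸ K.subgroupOf H) ≃* Matrix.SpecialLinearGroup (Fin 2) (ZMod p))) :
    GoldM1.Frame S A g0 where
  simple := h.simple
  solv := solv
  cardS := h.cardS
  sylow := h.sylow
  AS := h.AS
  cardA := h.cardA
  cen := h.cen
  sq := h.sq
  inv := h.inv
  comm := h.comm
  surj := h.surj
  g0S := h.g0S
  g0A := h.g0A
  g0_fpf := h.g0_fpf
  fact := h.fact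
  normCA := normCA
  indexCA := indexCA
  invCore := invCore
  type := h.type
  emb := h.emb
  sl := sl

end Cfsg.Agent.TwoFusion.GoldM1Base
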