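import Mathlib
import Cfsg.Prelude.Def_Characters
import Cfsg.Agent.Characters.Core

/-!
# Multiplicity inequalities for a 2-group of order 64

* `exists_fix`: the dimensions of the fixed spaces of the subgroups;
* `slevel`: `α` a character with value `D` on `A#` and `f` on `S - A`, `|S| = 64`, `|A| = 4`;
* `fixK`: `χ` a character with `χ (s y) = χ s` for `1 ≠ s ∈ S`, `y ∈ K`: there is `c` (the dimension
  of the fixed space of `K`) such that for `H ≤ S` the number `c + ∑_{1 ≠ h ∈ H} χ h` is `|H|` times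
  the dimension of the fixed space of `KH`;
* `slevelK`: the inequalities for `c`.
-/

set_option autoImplicit false
set_option linter.unusedSectionVars false

namespace Cfsg.Agent.TwoFusion.U34S

open Cfsg Cfsg.Agent.Characters
open Representation Module

universe u

section Fix

variable {G : Type u} [Group G] [Finite G]

/-- The dimensions of the fixed spaces. -/
theorem exists_fix {χ : G → ℂ} (hχ : IsCharacter G χ) :
    ∃ d : Subgroup G → ℕ, (∀ H L : Subgroup G, H ≤ L → d L ≤ d H) ∧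
      (∀ (H : Subgroup G) [Fintype H], ∑ h : H, χ h = (Nat.card H : ℂ) * d H) ∧
      χ 1 = d ⊥ := by
  classical
  obtain ⟨n, ρ, rfl⟩ := hχ
  have key : ∀ (H : Subgroup G) [Fintype H], ∑ h : H, ρ.character h =
      (Nat.card H : ℂ) * (finrank ℂ (invariants (ρ.comp H.subtype)) : ℕ) := by
    intro H _
    have hcard : (Nat.card H : ℂ) ≠ 0 := by exact_mod_cast Nat.card_pos.ne'
    have : Invertible (Nat.card H : ℂ) := invertibleOfNonzero hcard
    rw [← card_inv_mul_sum_char_eq_finrank (ρ.comp H.subtype), ← mul_assoc,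
      mul_inv_cancel₀ hcard, one_mul]
    rfl
  refine ⟨fun H => finrank ℂ (invariants (ρ.comp H.subtype)), ?_, key, ?_⟩
  · intro H L hHL
    refine Submodule.finrank_mono ?_
    intro v hv g
    exact hv ⟨g, hHL g.2⟩
  · have h := key ⊥
    rw [Subgroup.card_bot, Nat.cast_one, one_mul] at h
    rw [← h, Fintype.sum_unique]
    rfl

/-- The sum of a function over a subgroup, constant on two parts. -/
theorem sum_eq_aux (F : G → ℂ) {L A : Subgroup G} [Fintype L] (hAL : A ≤ L) {n D f : ℂ}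
    (h1 : F 1 = n) (hD : ∀ a ∈ A, a ≠ 1 → F a = D) (hf : ∀ s ∈ L, s ∉ A → F s = f) :
    ∑ s : L, F s = n + ((Nat.card A : ℂ) - 1) * D + ((Nat.card L : ℂ) - Nat.card A) * f := by
  classical
  have := Fintype.ofFinite A
  have h2 : ∀ s : L, F s = f + ((if (s : G) ∈ A then D - f else 0) +
      (if s = 1 then n - D else 0)) := by
    intro s
    by_cases hs1 : s = 1
    · subst hs1
      rw [Subgroup.coe_one, h1, if_pos (one_mem A), if_pos rfl]; ring
    · rw [if_neg hs1]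
      by_cases hsA : (s : G) ∈ A
      · rw [if_pos hsA, hD _ hsA (fun h => hs1 (Subtype.ext h))]; ring
      · rw [if_neg hsA, hf _ s.2 hsA]; ring
  rw [Finset.sum_congr rfl fun s _ => h2 s, Finset.sum_add_distrib, Finset.sum_add_distrib,
    Finset.sum_const, Finset.card_univ, nsmul_eq_mul, ← Nat.card_eq_fintype_card,
    Finset.sum_ite_eq' Finset.univ (1 : L) fun _ => n - D, if_pos (Finset.mem_univ _),
    ← Finset.sum_filter, Finset.sum_const, nsmul_eq_mul]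
  have h3 : (Finset.univ.filter fun s : L => (s : G) ∈ A).card = Nat.card A := by
    rw [← Nat.card_congr (Subgroup.subgroupOfEquivOfLe hAL).toEquiv, Nat.card_eq_fintype_card,
      Fintype.card_subtype]
    rfl
  rw [h3]
  ring

/-- A subgroup of order 32 between a subgroup of order 4 and a subgroup of order 64. -/
theorem exists_mid {S A : Subgroup G} (hAS : A ≤ S) (hS : Nat.card S = 64) (hA : Nat.card A = 4) :
    ∃ M : Subgroup G, A ≤ M ∧ M ≤ S ∧ Nat.card M = 32 := by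
  have : Fact (Nat.Prime 2) := ⟨Nat.prime_two⟩
  have h1 : Nat.card (A.subgroupOf S) = 2 ^ 2 := by
    rw [Nat.card_congr (Subgroup.subgroupOfEquivOfLe hAS).toEquiv, hA]; norm_num
  have h2 : 2 ^ 5 ∣ Nat.card S := by rw [hS]; norm_num
  obtain ⟨M, hM, hAM⟩ := Sylow.exists_subgroup_card_pow_prime_le 2 h2 _ h1 (by norm_num)
  refine ⟨M.map S.subtype, ?_, ?_, ?_⟩
  · intro a ha
    exact ⟨⟨a, hAS ha⟩, hAM ha, rfl⟩
  · rintro _ ⟨x, _, rfl⟩
    exact x.2
  · rw [Subgroup.card_map_of_injective S.subtype_injective, hM]; norm_num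

/-- The arithmetic core: `e H = |H| * d H` are the sums. -/
theorem slevel_core {n D f : ℤ} {dA dM dS : ℕ} {d0 : ℕ} (h0 : n = d0)
    (hA : n + 3 * D = 4 * dA) (hM : n + 3 * D + 28 * f = 32 * dM)
    (hS : n + 3 * D + 60 * f = 64 * dS) (hA0 : dA ≤ d0) (hSM : dS ≤ dM) :
    (64 : ℤ) ∣ n + 3 * D + 60 * f ∧ 0 ≤ n + 3 * D + 60 * f ∧ 0 ≤ n + 3 * D - 4 * f ∧ D ≤ n := by
  refine ⟨⟨dS, hS⟩, ?_, ?_, ?_⟩
  · rw [hS]; positivity
  · have : (dS : ℤ) ≤ dM := by exact_mod_cast hSM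
    linarith
  · have : (dA : ℤ) ≤ d0 := by exact_mod_cast hA0
    linarith

/-- The inequalities for a character of (an overgroup of) `S`. -/
theorem slevel {α : G → ℂ} (hα : IsCharacter G α) {S A : Subgroup G} (hAS : A ≤ S)
    (hS : Nat.card S = 64) (hA : Nat.card A = 4) {n D f : ℤ} (h1 : α 1 = n)
    (hD : ∀ a ∈ A, a ≠ 1 → α a = D) (hf : ∀ s ∈ S, s ∉ A → α s = f) :
    (64 : ℤ) ∣ n + 3 * D + 60 * f ∧ 0 ≤ n + 3 * D + 60 * f ∧ 0 ≤ n + 3 * D - 4 * f ∧ D ≤ n := by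
  classical
  obtain ⟨d, hd1, hd2, hd3⟩ := exists_fix hα
  obtain ⟨M, hAM, hMS, hM⟩ := exists_mid hAS hS hA
  have := Fintype.ofFinite S
  have := Fintype.ofFinite M
  have := Fintype.ofFinite A
  have eA := sum_eq_aux (L := A) α le_rfl h1 hD (fun s hs hs' => absurd hs hs') (f := (f : ℂ))
  have eM := sum_eq_aux (L := M) α hAM h1 hD (fun s hs hs' => hf s (hMS hs) hs')
  have eS := sum_eq_aux (L := S) α hAS h1 hD hf
  rw [hd2, hA] at eA
  rw [hd2, hA, hM] at eM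
  rw [hd2, hA, hS] at eS
  refine slevel_core (n := n) (D := D) (f := f) (dA := d A) (dM := d M) (dS := d S) (d0 := d ⊥)
    ?_ ?_ ?_ ?_ (hd1 _ _ bot_le) (hd1 _ _ hMS)
  · have := h1.symm.trans hd3
    exact_mod_cast this
  · have : ((n + 3 * D : ℤ) : ℂ) = ((4 * d A : ℤ) : ℂ) := by
      push_cast at eA ⊢
      linear_combination -eA
    exact_mod_cast this
  · have : ((n + 3 * D + 28 * f : ℤ) : ℂ) = ((32 * d M : ℤ) : ℂ) := by
      push_cast at eM ⊢
      linear_combination -eM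
    exact_mod_cast this
  · have : ((n + 3 * D + 60 * f : ℤ) : ℂ) = ((64 * d S : ℤ) : ℂ) := by
      push_cast at eS ⊢
      linear_combination -eS
    exact_mod_cast this

end Fix

section Prod

variable {G : Type u} [Group G] [Finite G]

/-- The subgroup `HK` for `H` normalising `K`. -/
def prodSub (H K : Subgroup G) (hHK : ∀ s ∈ H, ∀ k ∈ K, s * k * s⁻¹ ∈ K) : Subgroup G where
  carrier := {x | ∃ s ∈ H, ∃ y ∈ K, s * y = x}
  one_mem' := ⟨1, H.one_mem, 1, K.one_mem, mul_one 1⟩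
  mul_mem' := by
    rintro _ _ ⟨s, hs, y, hy, rfl⟩ ⟨s', hs', y', hy', rfl⟩
    refine ⟨s * s', H.mul_mem hs hs', s'⁻¹ * y * s' * y', K.mul_mem ?_ hy', by group⟩
    have := hHK s'⁻¹ (H.inv_mem hs') y hy
    rwa [inv_inv] at this
  inv_mem' := by
    rintro _ ⟨s, hs, y, hy, rfl⟩
    exact ⟨s⁻¹, H.inv_mem hs, s * y⁻¹ * s⁻¹, hHK s hs _ (K.inv_mem hy), by group⟩

theorem mem_prodSub {H K : Subgroup G} {hHK : ∀ s ∈ H, ∀ k ∈ K, s * k * s⁻¹ ∈ K} {x : G} :
    x ∈ prodSub H K hHK ↔ ∃ s ∈ H, ∃ y ∈ K, s * y = x := Iff.rfl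

theorem prodSub_mono {H H' K : Subgroup G} {hHK : ∀ s ∈ H, ∀ k ∈ K, s * k * s⁻¹ ∈ K}
    {hHK' : ∀ s ∈ H', ∀ k ∈ K, s * k * s⁻¹ ∈ K} (h : H ≤ H') :
    prodSub H K hHK ≤ prodSub H' K hHK' := by
  rintro _ ⟨s, hs, y, hy, rfl⟩
  exact ⟨s, h hs, y, hy, rfl⟩

theorem prod_bijective {H K : Subgroup G} (hHK : ∀ s ∈ H, ∀ k ∈ K, s * k * s⁻¹ ∈ K)
    (hdisj : Disjoint H K) : Function.Bijective (fun q : H × K => (⟨(q.1 : G) * q.2,
      ⟨q.1, q.1.2, q.2, q.2.2, rfl⟩⟩ : prodSub H K hHK)) := by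
  constructor
  · intro q q' hq
    have h1 : (q.1 : G) * q.2 = q'.1 * q'.2 := congrArg Subtype.val hq
    have h2 : (q'.1 : G)⁻¹ * q.1 = q'.2 * (q.2 : G)⁻¹ := by
      rw [inv_mul_eq_iff_eq_mul, ← mul_assoc, ← h1, mul_inv_cancel_right]
    have h3 : (q'.1 : G)⁻¹ * q.1 = 1 := by
      apply Subgroup.disjoint_def.1 hdisj (H.mul_mem (H.inv_mem q'.1.2) q.1.2)
      rw [h2]
      exact K.mul_mem q'.2.2 (K.inv_mem q.2.2)
    have h4 : (q.1 : G) = q'.1 := (inv_mul_eq_one.1 h3).symm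
    have h5 : (q.2 : G) = q'.2 := by
      rw [h3] at h2
      exact (mul_inv_eq_one.1 h2.symm).symm
    exact Prod.ext (Subtype.ext h4) (Subtype.ext h5)
  · rintro ⟨_, s, hs, y, hy, rfl⟩
    exact ⟨(⟨s, hs⟩, ⟨y, hy⟩), rfl⟩

theorem card_prodSub {H K : Subgroup G} (hHK : ∀ s ∈ H, ∀ k ∈ K, s * k * s⁻¹ ∈ K)
    (hdisj : Disjoint H K) : Nat.card (prodSub H K hHK) = Nat.card H * Nat.card K := by
  rw [← Nat.card_congr (Equiv.ofBijective _ (prod_bijective hHK hdisj)), Nat.card_prod]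

theorem sum_prodSub {H K : Subgroup G} (hHK : ∀ s ∈ H, ∀ k ∈ K, s * k * s⁻¹ ∈ K)
    (hdisj : Disjoint H K) [Fintype H] [Fintype K] [Fintype (prodSub H K hHK)] (F : G → ℂ) :
    ∑ h : prodSub H K hHK, F h = ∑ s : H, ∑ y : K, F (s * y) := by
  rw [← Fintype.sum_prod_type' (f := fun (s : H) (y : K) => F (s * y))]
  exact (Fintype.sum_equiv (Equiv.ofBijective _ (prod_bijective hHK hdisj)) _ _ fun q => rfl).symm

/-- The fixed spaces of the subgroups `HK`, `H ≤ S`: `c` is the dimension of the fixed space of `K`. -/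
theorem fixK {χ : G → ℂ} (hχ : IsCharacter G χ) {S K : Subgroup G}
    (hSK : ∀ s ∈ S, ∀ k ∈ K, s * k * s⁻¹ ∈ K) (hdisj : Disjoint S K)
    (hval : ∀ s ∈ S, s ≠ 1 → ∀ y ∈ K, χ (s * y) = χ s) :
    ∃ (c : ℕ) (d : Subgroup G → ℕ),
      (∀ [Fintype K], ∑ y : K, χ y = (Nat.card K : ℂ) * c) ∧
      (∀ H L : Subgroup G, H ≤ L → L ≤ S → d L ≤ d H) ∧
      (∀ H : Subgroup G, H ≤ S → d H ≤ c) ∧
      (∀ (H : Subgroup G) [Fintype H], H ≤ S →
        (∑ h : H, χ h) - χ 1 + c = (Nat.card H : ℂ) * d H) := by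
  classical
  have := Fintype.ofFinite K
  obtain ⟨d, hd1, hd2, hd3⟩ := exists_fix hχ
  have hn : ∀ {H : Subgroup G}, H ≤ S → ∀ s ∈ H, ∀ k ∈ K, s * k * s⁻¹ ∈ K :=
    fun hH s hs k hk => hSK s (hH hs) k hk
  refine ⟨d K, fun H => if h : H ≤ S then d (prodSub H K (hn h)) else 0, ?_, ?_, ?_, ?_⟩
  · intro _
    exact hd2 K
  · intro H L hHL hL
    simp only [dif_pos hL, dif_pos (hHL.trans hL)]
    exact hd1 _ _ (prodSub_mono hHL)
  · intro H hH
    simp only [dif_pos hH]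
    refine hd1 _ _ ?_
    intro y hy
    exact ⟨1, H.one_mem, y, hy, one_mul y⟩
  · intro H _ hH
    simp only [dif_pos hH]
    have := Fintype.ofFinite (prodSub H K (hn hH))
    have hdH : Disjoint H K := hdisj.mono_left hH
    have h1 := hd2 (prodSub H K (hn hH))
    rw [card_prodSub (hn hH) hdH, sum_prodSub (hn hH) hdH χ,
      ← Finset.add_sum_erase Finset.univ _ (Finset.mem_univ (1 : H))] at h1
    have h2 : ∑ y : K, χ (((1 : H) : G) * y) = (Nat.card K : ℂ) * d K := by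
      rw [← hd2 K]
      refine Finset.sum_congr rfl fun y _ => ?_
      rw [Subgroup.coe_one, one_mul]
    have h3 : ∑ s ∈ Finset.univ.erase (1 : H), ∑ y : K, χ (s * y) =
        (Nat.card K : ℂ) * ∑ s ∈ Finset.univ.erase (1 : H), χ s := by
      rw [Finset.mul_sum]
      refine Finset.sum_congr rfl fun s hs => ?_
      have hs1 : (s : G) ≠ 1 := fun h => (Finset.mem_erase.1 hs).1 (Subtype.ext h)
      rw [Finset.sum_congr rfl fun (y : K) _ => hval s (hH s.2) hs1 y y.2, Finset.sum_const,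
        Finset.card_univ, nsmul_eq_mul, ← Nat.card_eq_fintype_card]
    have h4 : ∑ s ∈ Finset.univ.erase (1 : H), χ s = (∑ h : H, χ h) - χ 1 := by
      rw [← Finset.add_sum_erase Finset.univ _ (Finset.mem_univ (1 : H)), Subgroup.coe_one,
        add_sub_cancel_left]
    rw [h2, h3, h4] at h1
    have hK0 : (Nat.card K : ℂ) ≠ 0 := by exact_mod_cast Nat.card_pos.ne'
    apply mul_left_cancel₀ hK0
    push_cast at h1
    linear_combination h1

/-- The inequalities: `c` is the dimension of the fixed space of `K`, `n` the degree. -/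
theorem slevelK {χ : G → ℂ} (hχ : IsCharacter G χ) {S A K : Subgroup G}
    (hSK : ∀ s ∈ S, ∀ k ∈ K, s * k * s⁻¹ ∈ K) (hdisj : Disjoint S K)
    (hval : ∀ s ∈ S, s ≠ 1 → ∀ y ∈ K, χ (s * y) = χ s) (hAS : A ≤ S)
    (hS : Nat.card S = 64) (hA : Nat.card A = 4) {n D f : ℤ} (h1 : χ 1 = n)
    (hD : ∀ a ∈ A, a ≠ 1 → χ a = D) (hf : ∀ s ∈ S, s ∉ A → χ s = f) :
    ∃ c : ℕ, (∀ [Fintype K], ∑ y : K, χ y = (Nat.card K : ℂ) * c) ∧ (64 : ℤ) ∣ n - c ∧
      (64 : ℤ) ∣ c + 3 * D + 60 * f ∧ 0 ≤ c + 3 * D + 60 * f ∧ 0 ≤ c + 3 * D - 4 * f ∧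
      D ≤ c := by
  classical
  obtain ⟨c, d, hc, hd1, hd0, hd2⟩ := fixK hχ hSK hdisj hval
  obtain ⟨M, hAM, hMS, hM⟩ := exists_mid hAS hS hA
  have := Fintype.ofFinite S
  have := Fintype.ofFinite M
  have := Fintype.ofFinite A
  have eA := sum_eq_aux (L := A) χ le_rfl h1 hD (fun s hs hs' => absurd hs hs') (f := (f : ℂ))
  have eM := sum_eq_aux (L := M) χ hAM h1 hD (fun s hs hs' => hf s (hMS hs) hs')
  have eS := sum_eq_aux (L := S) χ hAS h1 hD hf
  have fA := hd2 A hAS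
  have fM := hd2 M hMS
  have fS := hd2 S le_rfl
  rw [eA, h1, hA] at fA
  rw [eM, h1, hA, hM] at fM
  rw [eS, h1, hA, hS] at fS
  have gA : (c : ℤ) + 3 * D = 4 * d A := by
    have : (((c : ℤ) + 3 * D : ℤ) : ℂ) = ((4 * d A : ℤ) : ℂ) := by
      push_cast at fA ⊢
      linear_combination fA
    exact_mod_cast this
  have gM : (c : ℤ) + 3 * D + 28 * f = 32 * d M := by
    have : (((c : ℤ) + 3 * D + 28 * f : ℤ) : ℂ) = ((32 * d M : ℤ) : ℂ) := by
      push_cast at fM ⊢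
      linear_combination fM
    exact_mod_cast this
  have gS : (c : ℤ) + 3 * D + 60 * f = 64 * d S := by
    have : (((c : ℤ) + 3 * D + 60 * f : ℤ) : ℂ) = ((64 * d S : ℤ) : ℂ) := by
      push_cast at fS ⊢
      linear_combination fS
    exact_mod_cast this
  have key := slevel_core (n := (c : ℤ)) (D := D) (f := f) (d0 := c) rfl gA gM gS
    (hd0 A hAS) (hd1 M S hMS le_rfl)
  have hn := slevel hχ hAS hS hA h1 hD hf
  refine ⟨c, hc, ?_, key⟩
  have := dvd_sub hn.1 key.1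
  have e : n + 3 * D + 60 * f - (c + 3 * D + 60 * f) = n - c := by ring
  rwa [e] at this

/-- The form used in `U34Rows`: `D = -5 u - 4 s`, `f = -u`. -/
theorem rows_of {n c u s : ℤ} (hcn : c < n) (h0 : 0 ≤ c) (h64 : (64 : ℤ) ∣ n - c)
    (hc : (64 : ℤ) ∣ c + 3 * (-5 * u - 4 * s) + 60 * (-u))
    (h1 : 0 ≤ c + 3 * (-5 * u - 4 * s) + 60 * (-u))
    (h2 : 0 ≤ c + 3 * (-5 * u - 4 * s) - 4 * (-u)) (h3 : -5 * u - 4 * s ≤ c) :
    (64 : ℤ) ∣ n - (12 * s + 11 * u) ∧ 64 ≤ n ∧ 64 + (12 * s + 11 * u) ≤ n ∧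
      64 + (12 * s + 75 * u) ≤ n ∧ 64 + (-5 * u - 4 * s) ≤ n := by
  obtain ⟨k, hk⟩ := h64
  obtain ⟨l, hl⟩ := hc
  have hk1 : 1 ≤ k := by omega
  refine ⟨⟨k + l + u, by linarith⟩, by omega, by omega, by omega, by omega⟩

end Prod

end Cfsg.Agent.TwoFusion.U34S
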