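import Mathlib
import Cfsg.Agent.Classification.RTwo.CoreKill
import Cfsg.Agent.Classification.RTwo.Balance
import Cfsg.Agent.TwoFusion.U34S

/-!
# The lower bounds of the `U₃(4)` case

`G` simple, `S` of order 64 normalising `K ≠ 1` of odd order with `C_K(s) ≤ O(C_G(s))` for `1 ≠ s ∈ S`, `χ ≠ 1`
an irreducible character of the principal 2-block, `A ≤ S` of order 4, `χ = D` on `A#`, `χ = f` on `S - A`.

* `val`: `χ (s y) = χ s` for `1 ≠ s ∈ S`, `y ∈ K`;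
* `lt_degree`: `dim C_χ(K) < χ 1`;
* `bounds`: the fields `cong`, `lb0`, ..., `lb3` of `U34.Rows`;
* `bal_of_sq`, `bal_of_quot`: the hypothesis `C_K(s) ≤ O(C_G(s))`.
-/

set_option autoImplicit false

namespace Cfsg.Agent.TwoFusion.U34CK

open Cfsg Cfsg.Agent.Characters Cfsg.Agent.Characters.Core
open Cfsg.Agent.Classification.RTwo

universe u

variable {G : Type u} [Group G] [Finite G]

/-- **Lemma CK**, first part. -/
theorem val {p : ℕ} [Fact p.Prime] {M : Ideal AlgInt} (hM : IsPModular p M) {S K : Subgroup G}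
    (hS : IsPGroup p S) (hK : (Nat.card K).Coprime p)
    (hSK : ∀ s ∈ S, ∀ k ∈ K, s * k * s⁻¹ ∈ K)
    (hbal : ∀ s ∈ S, s ≠ 1 → ∀ k ∈ K, s * k = k * s → k ∈ centralizerPPrimeCore p s)
    {χ : IrrCharacter G} (hχ : χ ∈ principalBlock M G) :
    ∀ s ∈ S, s ≠ 1 → ∀ y ∈ K, (χ : G → ℂ) (s * y) = (χ : G → ℂ) s := by
  intro s hs hs1 y hy
  obtain ⟨m, hm⟩ := (IsPGroup.iff_orderOf.1 hS) ⟨s, hs⟩
  rw [Subgroup.orderOf_mk] at hm
  refine CoreKill.apply_mul hM hK ⟨m, hm⟩ ?_ (hbal s hs hs1) hχ hy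
  rw [Subgroup.mem_normalizer_iff]
  intro x
  constructor
  · exact fun hx => hSK s hs x hx
  · intro hx
    have := hSK s⁻¹ (S.inv_mem hs) _ hx
    simpa [mul_assoc] using this

/-- The dimension of the fixed space of `K` is smaller than the degree. -/
theorem lt_degree [IsSimpleGroup G] {χ : IrrCharacter G} (hχ1 : (χ : G → ℂ) ≠ 1) {K : Subgroup G}
    (hK1 : K ≠ ⊥) [Fintype K] {c : ℕ} {n : ℤ} (hn : (χ : G → ℂ) 1 = n)
    (hc : ∑ y : K, (χ : G → ℂ) y = (Nat.card K : ℂ) * c) : (c : ℤ) < n := by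
  classical
  have := Fintype.ofFinite G
  have hchar := isIrr_isCharacter χ.2
  obtain ⟨d, -, hd⟩ := isIrr_apply_one χ.2
  have hdn : (n : ℤ) = d := by
    have h1 : ((n : ℤ) : ℂ) = ((d : ℤ) : ℂ) := by rw [← hn, hd]; push_cast; rfl
    exact_mod_cast h1
  have hle : c ≤ d := by
    have h3 : ‖∑ y : K, (χ : G → ℂ) y‖ ≤ Nat.card K * d := by
      refine (norm_sum_le _ _).trans ?_
      have h4 : ∀ y ∈ (Finset.univ : Finset K), ‖(χ : G → ℂ) y‖ ≤ d := by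
        intro y _
        obtain ⟨n, ρ, hρ⟩ := hchar
        rw [← hρ] at hd ⊢
        rw [Representation.char_one] at hd
        have h5 : (Module.finrank ℂ (Fin n → ℂ) : ℝ) = d := by exact_mod_cast hd
        rw [← h5]
        exact Values.norm_character_le ρ y
      refine (Finset.sum_le_sum h4).trans ?_
      rw [Finset.sum_const, Finset.card_univ, nsmul_eq_mul, ← Nat.card_eq_fintype_card]
    rw [hc, norm_mul, Complex.norm_natCast, Complex.norm_natCast] at h3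
    have h4 : (0 : ℝ) < Nat.card K := by exact_mod_cast Nat.card_pos
    exact_mod_cast le_of_mul_le_mul_left h3 h4
  have hne : c ≠ d := by
    intro hcd
    obtain ⟨⟨k, hk⟩, hk1⟩ := (Subgroup.ne_bot_iff_exists_ne_one).1 hK1
    have hk1' : k ≠ 1 := fun h => hk1 (Subtype.ext h)
    have h3 : ∑ y ∈ (Finset.univ.map ⟨((↑) : K → G), Subtype.val_injective⟩), (χ : G → ℂ) y =
        ((Finset.univ.map ⟨((↑) : K → G), Subtype.val_injective⟩).card : ℂ) * (χ : G → ℂ) 1 := by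
      rw [Finset.sum_map, Finset.card_map, Finset.card_univ, ← Nat.card_eq_fintype_card, hd, ← hcd]
      exact hc
    exact hχ1 (CoreKill.eq_one_of_apply_eq χ.2 hk1'
      (Blocks.PrincipalKernel.apply_eq_of_sum_eq hchar h3
        (Finset.mem_map.2 ⟨⟨k, hk⟩, Finset.mem_univ _, rfl⟩)))
  rw [hdn]
  exact_mod_cast lt_of_le_of_ne hle hne

/-- The lower bounds. -/
theorem bounds [IsSimpleGroup G] {M : Ideal AlgInt} (hM : IsPModular 2 M) {S K A : Subgroup G}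
    (hS : Nat.card S = 64) (hK : Odd (Nat.card K)) (hK1 : K ≠ ⊥)
    (hSK : ∀ s ∈ S, ∀ k ∈ K, s * k * s⁻¹ ∈ K)
    (hbal : ∀ s ∈ S, s ≠ 1 → ∀ k ∈ K, s * k = k * s → k ∈ centralizerPPrimeCore 2 s)
    (hAS : A ≤ S) (hA : Nat.card A = 4)
    {χ : IrrCharacter G} (hχ : χ ∈ principalBlock M G) (hχ1 : (χ : G → ℂ) ≠ 1)
    {n u s : ℤ} (h1 : (χ : G → ℂ) 1 = n)
    (hD : ∀ a ∈ A, a ≠ 1 → (χ : G → ℂ) a = ((-5 * u - 4 * s : ℤ) : ℂ))
    (hf : ∀ t ∈ S, t ∉ A → (χ : G → ℂ) t = ((-u : ℤ) : ℂ)) :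
    (64 : ℤ) ∣ n - (12 * s + 11 * u) ∧ 64 ≤ n ∧ 64 + (12 * s + 11 * u) ≤ n ∧
      64 + (12 * s + 75 * u) ≤ n ∧ 64 + (-5 * u - 4 * s) ≤ n := by
  classical
  have : Fact (Nat.Prime 2) := ⟨Nat.prime_two⟩
  have := Fintype.ofFinite K
  have hcop : (Nat.card K).Coprime 2 := hK.coprime_two_right
  have hpS : IsPGroup 2 S := IsPGroup.of_card (n := 6) (by rw [hS]; norm_num)
  have hdisj : Disjoint S K := by
    apply Subgroup.disjoint_of_coprime_natCard
    rw [hS, show (64 : ℕ) = 2 ^ 6 by norm_num]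
    exact (Nat.Coprime.pow_right 6 hcop).symm
  obtain ⟨c, hc, e0, e1, e2, e3, e4⟩ := U34S.slevelK (isIrr_isCharacter χ.2) hSK hdisj
    (val hM hpS hcop hSK hbal hχ) hAS hS hA h1 hD hf
  exact U34S.rows_of (lt_degree hχ1 hK1 h1 hc) (by positivity) e0 e1 e2 e3 e4

/-- The hypothesis of `bounds` from the elements of `A`. -/
theorem bal_of_sq {K S A : Subgroup G} (hsq : ∀ s ∈ S, s ≠ 1 → s ∉ A → s * s ∈ A ∧ s * s ≠ 1)
    (hbalA : ∀ v ∈ A, v ≠ 1 → ∀ k ∈ K, v * k = k * v → k ∈ centralizerPPrimeCore 2 v) :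
    ∀ s ∈ S, s ≠ 1 → ∀ k ∈ K, s * k = k * s → k ∈ centralizerPPrimeCore 2 s := by
  intro s hs hs1 k hk hsk
  by_cases hsA : s ∈ A
  · exact hbalA s hsA hs1 k hk hsk
  · obtain ⟨h1, h2⟩ := hsq s hs hs1 hsA
    refine Balance.mem_of_zpowers (v := s * s) ⟨2, by simp [zpow_ofNat, sq]⟩
      (hbalA _ h1 h2 k hk ?_) hsk
    rw [mul_assoc, hsk, ← mul_assoc, hsk, mul_assoc]

omit [Finite G] in
/-- `π : C → Q` with the image of `S ∩ C` normal in `Q` and containing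
its centralizer: an odd subgroup of `C` normalised by `S` is in the kernel. -/
theorem map_eq_one_of_quot {C S K : Subgroup G}
    (hS : IsPGroup 2 S) (hSK : ∀ s ∈ S, ∀ k ∈ K, s * k * s⁻¹ ∈ K)
    (hKodd : ∀ k ∈ K, Odd (orderOf k))
    {Q : Type*} [Group Q] (π : C →* Q)
    (hn : ((S.subgroupOf C).map π).Normal)
    (hC : ∀ q : Q, (∀ t ∈ (S.subgroupOf C).map π, q * t = t * q) → Odd (orderOf q) → q = 1)
    {k : G} (hk : k ∈ K) (hkb : k ∈ C) : π ⟨k, hkb⟩ = 1 := by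
  set T := (S.subgroupOf C).map π with hT
  have hTp : IsPGroup 2 T := by
    rw [hT]
    exact (hS.comap_of_injective C.subtype C.subtype_injective).map π
  have hodd : ∀ x ∈ K, ∀ hx : x ∈ C, Odd (orderOf (π ⟨x, hx⟩)) := by
    intro x hxK hx
    refine Odd.of_dvd_nat (hKodd x hxK) ?_
    have := orderOf_map_dvd π ⟨x, hx⟩
    rwa [Subgroup.orderOf_mk] at this
  apply hC _ _ (hodd k hk hkb)
  rintro _ ⟨⟨t, htC⟩, htS, rfl⟩
  have htS' : t ∈ S := htS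
  -- the commutator is in `T` and in `π K`
  have hcomC : t * k * t⁻¹ * k⁻¹ ∈ C :=
    C.mul_mem (C.mul_mem (C.mul_mem htC hkb) (C.inv_mem htC)) (C.inv_mem hkb)
  have hcomK : t * k * t⁻¹ * k⁻¹ ∈ K := K.mul_mem (hSK t htS' k hk) (K.inv_mem hk)
  have h1 : Odd (orderOf (π ⟨_, hcomC⟩)) := hodd _ hcomK hcomC
  have htT : π ⟨t, htC⟩ ∈ T := ⟨⟨t, htC⟩, htS, rfl⟩
  have he : π ⟨_, hcomC⟩ = π ⟨t, htC⟩ * (π ⟨k, hkb⟩ * (π ⟨t, htC⟩)⁻¹ * (π ⟨k, hkb⟩)⁻¹) := by
    rw [← map_inv, ← map_inv, ← map_mul, ← map_mul, ← map_mul]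
    congr 1
    apply Subtype.ext
    show t * k * t⁻¹ * k⁻¹ = t * (k * t⁻¹ * k⁻¹)
    group
  have h2 : π ⟨_, hcomC⟩ ∈ T := by
    rw [he]
    exact T.mul_mem htT (hn.conj_mem _ (T.inv_mem htT) _)
  have h3 : π ⟨_, hcomC⟩ = 1 := by
    obtain ⟨m, hm⟩ := (IsPGroup.iff_orderOf.1 hTp) ⟨_, h2⟩
    rw [Subgroup.orderOf_mk] at hm
    rw [hm] at h1
    have hm0 : m = 0 := by
      by_contra hm0
      obtain ⟨m', rfl⟩ := Nat.exists_eq_succ_of_ne_zero hm0
      rw [pow_succ] at h1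
      exact absurd (Nat.odd_mul.1 h1).2 (by decide)
    rw [hm0, pow_zero] at hm
    exact orderOf_eq_one_iff.1 hm
  rw [he, ← mul_assoc, ← mul_assoc, mul_inv_eq_one, mul_inv_eq_iff_eq_mul] at h3
  exact h3.symm

omit [Finite G] in
/-- Balance: in the situation of `map_eq_one_of_quot` with kernel of odd order, `C_K(b) ≤ O(C(b))`. -/
theorem bal_of_quot {b : G} {S K : Subgroup G}
    (hS : IsPGroup 2 S) (hSK : ∀ s ∈ S, ∀ k ∈ K, s * k * s⁻¹ ∈ K) (hKodd : Odd (Nat.card K))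
    {Q : Type*} [Group Q] (π : Subgroup.centralizer ({b} : Set G) →* Q)
    (hker : Odd (Nat.card π.ker))
    (hn : ((S.subgroupOf (Subgroup.centralizer ({b} : Set G))).map π).Normal)
    (hC : ∀ q : Q, (∀ t ∈ (S.subgroupOf (Subgroup.centralizer ({b} : Set G))).map π, q * t = t * q) →
      Odd (orderOf q) → q = 1) :
    ∀ k ∈ K, b * k = k * b → k ∈ centralizerPPrimeCore 2 b := by
  intro k hk hbk
  have hkb : k ∈ Subgroup.centralizer ({b} : Set G) := by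
    rw [Subgroup.mem_centralizer_singleton_iff]; exact hbk.symm
  have h1 : π ⟨k, hkb⟩ = 1 := by
    refine map_eq_one_of_quot hS hSK ?_ π hn hC hk hkb
    intro x hx
    refine Odd.of_dvd_nat hKodd ?_
    have := orderOf_dvd_natCard (⟨x, hx⟩ : K)
    rwa [Subgroup.orderOf_mk] at this
  rw [Balance.mem_cent_iff]
  exact ⟨hkb, Balance.le_pPrimeCore π.ker inferInstance hker.coprime_two_right h1⟩

end Cfsg.Agent.TwoFusion.U34CK
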