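import Mathlib
import Cfsg.Agent.TwoFusion.GoldM1Defs

/-!
# The small local frame of case [M1] of Goldschmidt's theorem

`Loc S A g0`: the fields of `GoldM1.Frame` used by the character theoretic proof (files `U34*`).
-/

set_option autoImplicit false

namespace Cfsg.Agent.TwoFusion.U34Loc

open Subgroup
open Cfsg.Agent.Classification.TypeB.Core (oc)

/-- The small local frame of case [M1]: `S` is a Sylow 2-subgroup of `U₃(4)`-type, `A = Z(S) = Ω₁(S)`,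
`C(x) = O(C(x)) C(A)` for `x ∈ A#`, `C(A)/O(C(A)) = S` or `S:5`. -/
structure Loc {G : Type*} [Group G] (S A : Subgroup G) (g0 : G) : Prop where
  cardS : Nat.card S = 64
  /-- `S` is a Sylow 2-subgroup -/
  sylow : ¬ 2 ∣ S.index
  AS : A ≤ S
  cardA : Nat.card A = 4
  cen : ∀ x ∈ A, ∀ s ∈ S, x * s = s * x
  sq : ∀ x ∈ A, x * x = 1
  inv : ∀ s ∈ S, s * s = 1 → s ∈ A
  comm : ∀ s ∈ S, ∀ u ∈ S, s * u * s⁻¹ * u⁻¹ ∈ A
  surj : ∀ s ∈ S, s ∉ A → ∀ x ∈ A, ∃ u ∈ S, s * u * s⁻¹ * u⁻¹ = x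
  g0S : g0 ∈ normalizer (S : Set G)
  g0A : ∀ x ∈ A, g0 * x * g0⁻¹ ∈ A
  g0_fpf : ∀ x ∈ A, g0 * x = x * g0 → x = 1
  /-- `C(x) = O(C(x)) C(A)` -/
  fact : ∀ x ∈ A, x ≠ 1 →
    centralizer ({x} : Set G) ≤ oc (centralizer ({x} : Set G)) ⊔ centralizer (A : Set G)
  /-- `O(C(A)) S` is normal in `C(A)` -/
  normCA : centralizer (A : Set G) ≤
    normalizer ((oc (centralizer (A : Set G)) ⊔ S : Subgroup G) : Set G)
  /-- the quotient `C(A) / O(C(A)) S` has order 1 or 5 -/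
  indexCA : (oc (centralizer (A : Set G)) ⊔ S).relIndex (centralizer (A : Set G)) = 1 ∨
    (oc (centralizer (A : Set G)) ⊔ S).relIndex (centralizer (A : Set G)) = 5

theorem of_frame {G : Type*} [Group G] {S A : Subgroup G} {g0 : G} (h : GoldM1.Frame S A g0) :
    Loc S A g0 :=
  ⟨h.cardS, h.sylow, h.AS, h.cardA, h.cen, h.sq, h.inv, h.comm, h.surj, h.g0S, h.g0A, h.g0_fpf,
    h.fact, h.normCA, h.indexCA⟩

end Cfsg.Agent.TwoFusion.U34Loc
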