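import Mathlib
import Cfsg.Agent.TwoFusion.U34Loc
import Cfsg.Agent.TwoFusion.U34CK
import Cfsg.Agent.TwoFusion.GoldM1Form
import Cfsg.Agent.Lib.Cores

/-!
# Case [M1] of Goldschmidt's theorem: balance

In the small local frame `U34Loc.Loc S A g0`: for `a ∈ A#` and `K = O(C(a))`, `C_K(s) ≤ O(C(s))` for all
`1 ≠ s ∈ S` (`hbal`).  This is the hypothesis of `U34CK.bounds`.
-/

set_option autoImplicit false

namespace Cfsg.Agent.TwoFusion.U34Bal

open Subgroup Cfsg
open Cfsg.Agent.Classification.TypeB.Core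
open Cfsg.Agent.TwoFusion.U34Loc

universe u

variable {G : Type u} [Group G] [Finite G]

/-- `O(X)` as a subgroup of `G`. -/
theorem oc_eq (X : Subgroup G) : oc X = (pPrimeCore 2 X).map X.subtype := by
  apply le_antisymm
  · have h1 : (oc X).subgroupOf X ≤ pPrimeCore 2 X := by
      refine Lib.Cores.le_pPrimeCore (normal_subgroupOf_of_le_normalizer (le_normalizer_oc X)) ?_
      rw [Nat.card_congr (subgroupOfEquivOfLe (oc_le X)).toEquiv]
      exact (odd_oc X).coprime_two_right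
    intro y hy
    exact ⟨⟨y, oc_le X hy⟩, h1 hy, rfl⟩
  · refine le_oc (map_subtype_le _) ?_ ?_
    · have h1 := le_normalizer_map (H := pPrimeCore 2 X) X.subtype
      have : (pPrimeCore 2 X).Normal := Lib.Cores.pPrimeCore_normal 2
      rw [normalizer_eq_top, ← MonoidHom.range_eq_map, range_subtype] at h1
      exact h1
    · rw [Nat.card_congr (equivMapOfInjective _ _ X.subtype_injective).toEquiv.symm]
      exact Nat.coprime_two_right.1 (Lib.Cores.pPrimeCore_coprime 2)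

theorem oc_eq_core (a : G) : oc (centralizer ({a} : Set G)) = centralizerPPrimeCore 2 a := oc_eq _

/-- An odd element centralising a 2-subgroup of index 1 or 5 is trivial if `O(Q) = 1`. -/
theorem eq_one_of_comm {Q : Type*} [Group Q] [Finite Q] (hO : pPrimeCore 2 Q = ⊥) {T : Subgroup Q}
    (hT : IsPGroup 2 T) (hi : T.index = 1 ∨ T.index = 5) {q : Q} (hq : ∀ t ∈ T, q * t = t * q)
    (hodd : Odd (orderOf q)) : q = 1 := by
  by_contra hq1
  have hqT : q ∉ T := by
    intro h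
    obtain ⟨m, hm⟩ := (IsPGroup.iff_orderOf.1 hT) ⟨q, h⟩
    rw [Subgroup.orderOf_mk] at hm
    rw [hm] at hodd
    have hm0 : m = 0 := by
      by_contra hm0
      obtain ⟨m', rfl⟩ := Nat.exists_eq_succ_of_ne_zero hm0
      rw [pow_succ] at hodd
      exact absurd (Nat.odd_mul.1 hodd).2 (by decide)
    rw [hm0, pow_zero] at hm
    exact hq1 (orderOf_eq_one_iff.1 hm)
  have hi5 : T.index = 5 := by
    rcases hi with h | h
    · rw [index_eq_one] at h
      exact absurd (h ▸ mem_top q) hqT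
    · exact h
  have htop : T ⊔ zpowers q = ⊤ := by
    rw [← index_eq_one]
    have h1 : (T ⊔ zpowers q).index ∣ 5 := by
      rw [← hi5]; exact index_dvd_of_le le_sup_left
    rcases (Nat.dvd_prime (by norm_num : Nat.Prime 5)).1 h1 with h2 | h2
    · exact h2
    · exfalso
      have h3 := relIndex_mul_index (le_sup_left : T ≤ T ⊔ zpowers q)
      rw [h2, hi5] at h3
      have h4 : T.relIndex (T ⊔ zpowers q) = 1 := by omega
      rw [relIndex_eq_one] at h4
      exact hqT (h4 (le_sup_right (a := T) (mem_zpowers q)))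
  have hn : (zpowers q).Normal := by
    rw [← normalizer_eq_top_iff, eq_top_iff, ← htop]
    refine sup_le ?_ le_normalizer
    intro t ht
    rw [mem_normalizer_iff]
    have h1 : ∀ x ∈ zpowers q, t * x * t⁻¹ = x := by
      rintro _ ⟨k, rfl⟩
      have h2 : Commute t (q ^ k) := (show Commute t q from (hq t ht).symm).zpow_right k
      show t * q ^ k * t⁻¹ = q ^ k
      rw [h2.eq, mul_inv_cancel_right]
    intro x
    constructor
    · intro hx
      rw [h1 x hx]; exact hx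
    · intro hx
      have h2 := h1 _ hx
      have h3 : t * x * t⁻¹ = x := by
        have := congrArg (fun y => t⁻¹ * y * t) h2
        simpa [mul_assoc] using this
      rwa [h3] at hx
  have h1 : zpowers q ≤ pPrimeCore 2 Q := by
    refine Lib.Cores.le_pPrimeCore hn ?_
    rw [Nat.card_zpowers]
    exact hodd.coprime_two_right
  rw [hO, le_bot_iff, zpowers_eq_bot] at h1
  exact hq1 h1

variable {S A : Subgroup G} {g0 : G}

theorem syl (h : Loc S A g0) : GoldM1.Syl S A :=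
  ⟨h.cardS, h.AS, h.cardA, h.cen, h.sq, h.inv, h.comm, h.surj⟩

theorem isPGroup (h : Loc S A g0) : IsPGroup 2 S :=
  IsPGroup.of_card (n := 6) (by rw [h.cardS]; norm_num)

theorem S_le (h : Loc S A g0) {x : G} (hx : x ∈ A) : S ≤ centralizer ({x} : Set G) := by
  intro s hs
  rw [mem_centralizer_singleton_iff]
  exact (h.cen x hx s hs).symm

theorem S_le_CA (h : Loc S A g0) : S ≤ centralizer (A : Set G) := by
  intro s hs
  rw [mem_centralizer_iff]
  intro x hx
  exact h.cen x hx s hs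

theorem sq_mem (h : Loc S A g0) : ∀ s ∈ S, s ≠ 1 → s ∉ A → s * s ∈ A ∧ s * s ≠ 1 := by
  intro s hs _ hsA
  exact ⟨(syl h).sq_mem hs, fun h1 => hsA (h.inv s hs h1)⟩

/-- `S` normalises `O(C(a))`. -/
theorem conj_mem (h : Loc S A g0) {a : G} (ha : a ∈ A) :
    ∀ s ∈ S, ∀ k ∈ oc (centralizer ({a} : Set G)), s * k * s⁻¹ ∈ oc (centralizer ({a} : Set G)) := by
  intro s hs k hk
  exact ((mem_normalizer_iff.1 (le_normalizer_oc _ (S_le h ha hs))) k).1 hk

/-- balance on `A#` -/
theorem hbalA (h : Loc S A g0) {K : Subgroup G} (hSK : ∀ s ∈ S, ∀ k ∈ K, s * k * s⁻¹ ∈ K)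
    (hK : Odd (Nat.card K)) {v : G} (hv : v ∈ A) (hv1 : v ≠ 1) :
    ∀ k ∈ K, v * k = k * v → k ∈ centralizerPPrimeCore 2 v := by
  set C := centralizer ({v} : Set G) with hC
  set O := pPrimeCore 2 C with hO
  have hOn : O.Normal := Lib.Cores.pPrimeCore_normal 2
  have hCC : centralizer (A : Set G) ≤ C := centralizer_le (Set.singleton_subset_iff.mpr hv)
  set f : centralizer (A : Set G) →* C ⧸ O := (QuotientGroup.mk' O).comp (inclusion hCC) with hf
  have hocO : ∀ c (hc : c ∈ C), c ∈ oc C → (QuotientGroup.mk' O) ⟨c, hc⟩ = 1 := by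
    intro c hc hco
    rw [oc_eq] at hco
    obtain ⟨y, hy, hyc⟩ := hco
    have : y = ⟨c, hc⟩ := Subtype.ext hyc
    rw [← this]
    exact (QuotientGroup.eq_one_iff y).2 hy
  have hfs : Function.Surjective f := by
    intro q
    obtain ⟨⟨c, hc⟩, rfl⟩ := QuotientGroup.mk'_surjective O q
    have h1 := h.fact v hv hv1 hc
    have h2 : centralizer (A : Set G) ≤ normalizer (oc C : Set G) := hCC.trans (le_normalizer_oc C)
    have h3 : c ∈ ((oc C ⊔ centralizer (A : Set G) : Subgroup G) : Set G) := h1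
    rw [coe_mul_of_right_le_normalizer_left _ _ h2] at h3
    obtain ⟨o, ho, d, hd, rfl⟩ := h3
    refine ⟨⟨d, hd⟩, ?_⟩
    have hoC : o ∈ C := oc_le C ho
    have h4 : (⟨o * d, hc⟩ : C) = ⟨o, hoC⟩ * ⟨d, hCC hd⟩ := rfl
    rw [h4, map_mul, hocO o hoC ho, one_mul]
    rfl
  have hquot : pPrimeCore 2 (C ⧸ O) = ⊥ := Lib.Cores.pPrimeCore_quotient_pPrimeCore 2
  set D := oc (centralizer (A : Set G)) with hD
  have hDn : (D.subgroupOf (centralizer (A : Set G))).Normal :=
    normal_subgroupOf_of_le_normalizer (le_normalizer_oc _)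
  have hfD : ∀ d (hd : d ∈ centralizer (A : Set G)), d ∈ D → f ⟨d, hd⟩ = 1 := by
    intro d hd hdD
    have h1 : (D.subgroupOf (centralizer (A : Set G))).map f ≤ pPrimeCore 2 (C ⧸ O) := by
      refine Lib.Cores.le_pPrimeCore (hDn.map f hfs) ?_
      refine Nat.Coprime.coprime_dvd_left (card_map_dvd _ _) ?_
      rw [Nat.card_congr (subgroupOfEquivOfLe (oc_le _)).toEquiv]
      exact (odd_oc _).coprime_two_right
    rw [hquot, le_bot_iff] at h1
    rw [← mem_bot, ← h1]
    exact ⟨⟨d, hd⟩, hdD, rfl⟩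
  set M := (D ⊔ S).subgroupOf (centralizer (A : Set G)) with hM
  have hMn : M.Normal := normal_subgroupOf_of_le_normalizer h.normCA
  have hSD : S ≤ normalizer (D : Set G) := (S_le_CA h).trans (le_normalizer_oc _)
  have hMT : (S.subgroupOf C).map (QuotientGroup.mk' O) = M.map f := by
    apply le_antisymm
    · rintro _ ⟨⟨s, hsC⟩, hs, rfl⟩
      have hs' : s ∈ S := hs
      refine ⟨⟨s, S_le_CA h hs'⟩, ?_, rfl⟩
      exact (le_sup_right : S ≤ D ⊔ S) hs'
    · rintro _ ⟨⟨m, hmA⟩, hm, rfl⟩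
      have hm' : m ∈ ((D ⊔ S : Subgroup G) : Set G) := hm
      rw [coe_mul_of_right_le_normalizer_left _ _ hSD] at hm'
      obtain ⟨d, hd, s, hs, rfl⟩ := hm'
      have hdA : d ∈ centralizer (A : Set G) := oc_le _ hd
      have hsA : s ∈ centralizer (A : Set G) := S_le_CA h hs
      have h4 : (⟨d * s, hmA⟩ : centralizer (A : Set G)) = ⟨d, hdA⟩ * ⟨s, hsA⟩ := rfl
      rw [h4, map_mul, hfD d hdA hd, one_mul]
      exact ⟨⟨s, hCC hsA⟩, hs, rfl⟩
  have hidx : ((S.subgroupOf C).map (QuotientGroup.mk' O)).index = 1 ∨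
      ((S.subgroupOf C).map (QuotientGroup.mk' O)).index = 5 := by
    rw [hMT]
    have h1 : (M.map f).index ∣ M.index := index_map_dvd M hfs
    have h2 : M.index = (D ⊔ S).relIndex (centralizer (A : Set G)) := rfl
    rw [h2] at h1
    rcases h.indexCA with h3 | h3
    · rw [h3] at h1
      exact Or.inl (Nat.dvd_one.1 h1)
    · rw [h3] at h1
      exact (Nat.dvd_prime (by norm_num : Nat.Prime 5)).1 h1
  have hTp : IsPGroup 2 ((S.subgroupOf C).map (QuotientGroup.mk' O)) :=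
    ((isPGroup h).comap_of_injective C.subtype C.subtype_injective).map _
  refine U34CK.bal_of_quot (isPGroup h) hSK hK (QuotientGroup.mk' O) ?_ ?_ ?_
  · rw [QuotientGroup.ker_mk']
    exact Nat.coprime_two_right.1 (Lib.Cores.pPrimeCore_coprime 2)
  · show ((S.subgroupOf C).map (QuotientGroup.mk' O)).Normal
    rw [hMT]
    exact hMn.map f hfs
  · intro q hq hodd
    exact eq_one_of_comm hquot hTp hidx hq hodd

/-- **Balance**: the hypothesis of `U34CK.bounds` for an odd subgroup `K` normalised by `S`. -/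
theorem hbal' (h : Loc S A g0) {K : Subgroup G} (hSK : ∀ s ∈ S, ∀ k ∈ K, s * k * s⁻¹ ∈ K)
    (hK : Odd (Nat.card K)) :
    ∀ s ∈ S, s ≠ 1 → ∀ k ∈ K, s * k = k * s → k ∈ centralizerPPrimeCore 2 s :=
  U34CK.bal_of_sq (sq_mem h) fun _ hv hv1 => hbalA h hSK hK hv hv1

/-- **Balance** for `K = O(C(a))`. -/
theorem hbal (h : Loc S A g0) {a : G} (ha : a ∈ A) :
    ∀ s ∈ S, s ≠ 1 → ∀ k ∈ oc (centralizer ({a} : Set G)), s * k = k * s →
      k ∈ centralizerPPrimeCore 2 s :=
  hbal' h (conj_mem h ha) (odd_oc _)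

/-- The lower bounds of `U34.Rows` in the local frame, for `K = O(C(a)) ≠ 1`. -/
theorem bounds [IsSimpleGroup G] (h : Loc S A g0) {M : Ideal AlgInt} (hM : IsPModular 2 M)
    {a : G} (ha : a ∈ A) (hK : oc (centralizer ({a} : Set G)) ≠ ⊥)
    {χ : IrrCharacter G} (hχ : χ ∈ principalBlock M G) (hχ1 : (χ : G → ℂ) ≠ 1)
    {n u s : ℤ} (h1 : (χ : G → ℂ) 1 = n)
    (hD : ∀ a ∈ A, a ≠ 1 → (χ : G → ℂ) a = ((-5 * u - 4 * s : ℤ) : ℂ))
    (hf : ∀ t ∈ S, t ∉ A → (χ : G → ℂ) t = ((-u : ℤ) : ℂ)) :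
    (64 : ℤ) ∣ n - (12 * s + 11 * u) ∧ 64 ≤ n ∧ 64 + (12 * s + 11 * u) ≤ n ∧
      64 + (12 * s + 75 * u) ≤ n ∧ 64 + (-5 * u - 4 * s) ≤ n :=
  U34CK.bounds hM h.cardS (odd_oc _) hK (conj_mem h ha) (hbal h ha) h.AS h.cardA hχ hχ1 h1 hD hf

end Cfsg.Agent.TwoFusion.U34Bal
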