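import Mathlib

/-!
# The numerical data of the principal 2-block in the `U₃(4)` case

`G` simple, `A = ⟨a, b⟩` a four-group, `C(a)/O(C(a)) = Q = S:5` of order 320 where `S` is of type `U₃(4)`.
`θ i` (`i : ZMod 5`) and `Θ` are the generalised characters of `Q`

* `θ i = λ i - η_a - χ_{a,i} + χ_{b,i} + χ_{c,i}` with value `-16` at `a`, `4 λ i (y^k)` at `a y^k`,
  `4` at the elements of order 4 with square `a` and `0` elsewhere;
* `Θ = - ∑ λ i + 3 η_a - η_b - η_c` with value `-16` at the elements of order 4 with square `a` and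
  `0` elsewhere.

`T i`, `U` are the functions of `G` induced from the inflations of `θ i`, `Θ` to `C(a)`.
For a non-principal character `χ` in the principal 2-block: `c χ i = (χ, T i)`, `u χ = (χ, U)`,
`x χ = χ 1`, `χ a = dd c u χ`, `χ (element of order 4) = - u χ`.

`Rows`: the conditions satisfied by these numbers if `O(C(a)) ≠ 1`.  The theorem `Rows.false`
(file `U34Num`) says that they are contradictory.
-/

set_option autoImplicit false

namespace Cfsg.Agent.TwoFusion.U34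

/-- The sum of the `c χ i`. -/
def ss {ι : Type*} (c : ι → ZMod 5 → ℤ) (j : ι) : ℤ := ∑ i, c j i

/-- The value at the involution `a`. -/
def dd {ι : Type*} (c : ι → ZMod 5 → ℤ) (u : ι → ℤ) (j : ι) : ℤ := -5 * u j - 4 * ss c j

/-- The conditions. `ι` is the set of non-principal irreducible characters of the principal
2-block; `σ` is a Galois automorphism with `ζ₅ ↦ ζ₅²`. -/
structure Rows {ι : Type*} [Fintype ι] (c : ι → ZMod 5 → ℤ) (u x : ι → ℤ) (σ : Equiv.Perm ι) :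
    Prop where
  /-- `(T i, T k) = 1 + 4 δ`, the trivial character contributes `δ_{i0} δ_{k0}` -/
  gram : ∀ i k, ∑ j, c j i * c j k = (if i = k then 5 else 1) - (if i = 0 ∧ k = 0 then 1 else 0)
  /-- `(T i, U) = -4` -/
  cross : ∀ i, ∑ j, c j i * u j = -4 + (if i = 0 then 1 else 0)
  /-- `(U, U) = 16` -/
  normU : ∑ j, u j ^ 2 = 15
  /-- Galois conjugation -/
  gal : ∀ j i, c (σ j) (2 * i) = c j i
  galu : ∀ j, u (σ j) = u j
  galx : ∀ j, x (σ j) = x j
  /-- `χ 1 ≡ -3 χ(a) + 4 χ(x₄)` modulo 64 -/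
  cong : ∀ j, (64 : ℤ) ∣ x j - (12 * ss c j + 11 * u j)
  /-- the multiplicities of the irreducible characters of `S` in `C_χ(O(C(a)))` are non-negative, and
  `dim C_χ(O(C(a))) ≤ χ 1 - 64` -/
  lb0 : ∀ j, 64 ≤ x j
  lb1 : ∀ j, 64 + (12 * ss c j + 11 * u j) ≤ x j
  lb2 : ∀ j, 64 + (12 * ss c j + 75 * u j) ≤ x j
  lb3 : ∀ j, 64 + dd c u j ≤ x j
  /-- `T i (1) = 0` -/
  deg : ∀ i, ∑ j, c j i * x j = -(if i = 0 then 1 else 0)
  /-- `U(1) = 0` -/
  degU : ∑ j, u j * x j = 1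
  /-- class algebra relation for `T 0 - T i` -/
  rel : ∀ i, i ≠ 0 → ∑ j, ((c j 0 - c j i : ℤ) : ℚ) * ((dd c u j : ℤ) : ℚ) ^ 2 / (x j : ℚ) = -1
  /-- class algebra relation for `U` -/
  relU : ∑ j, (u j : ℚ) * ((dd c u j : ℤ) : ℚ) ^ 2 / (x j : ℚ) = 1
  /-- class algebra relation for `T 0` -/
  neg : 1 + ∑ j, (c j 0 : ℚ) * ((dd c u j : ℤ) : ℚ) ^ 2 / (x j : ℚ) < 0

end Cfsg.Agent.TwoFusion.U34
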