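import Mathlib
import Cfsg.Agent.TwoFusion.U34Rows

/-!
# Configurations of rows

The rows `(c 0; c 1, …, c 4; u; x)` grouped: an entry `⟨k, c, S, u, x⟩` stands for `k` rows (a Galois
orbit or a part of it) with `c 0 = c`, `c 1 + c 2 + c 3 + c 4 = S` and the given `u` and degree `x`.

`Conf J E`: `J` is the list of entries with `c ≠ 0`, `E` the list of the other ones with
`(S, u) ≠ (0, 0)`.

* `U34Comb`: `Rows c u x σ → ∃ J E, Conf J E`;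
* `U34Check`: `¬ Conf J E`.
-/

set_option autoImplicit false

namespace Cfsg.Agent.TwoFusion.U34

/-- A group of `k` equal rows. -/
structure Ent where
  k : ℤ
  c : ℤ
  S : ℤ
  u : ℤ
  x : ℤ

namespace Ent

/-- The value at the involution `a`. -/
def d (e : Ent) : ℤ := -5 * e.u - 4 * (e.c + e.S)

/-- The congruence and the lower bounds for the degree. -/
structure Ok (e : Ent) : Prop where
  cong : (64 : ℤ) ∣ e.x - (12 * (e.c + e.S) + 11 * e.u)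
  lb0 : 64 ≤ e.x
  lb1 : 64 + (12 * (e.c + e.S) + 11 * e.u) ≤ e.x
  lb2 : 64 + (12 * (e.c + e.S) + 75 * e.u) ≤ e.x
  lb3 : 64 + e.d ≤ e.x

/-- `±(1; 0, 0, 0, 0)` -/
def tyA (e : Ent) : Prop := e.k = 1 ∧ (e.c = 1 ∨ e.c = -1) ∧ e.S = 0

/-- `±(1; 1, 1, 1, 1)` -/
def tyB (e : Ent) : Prop := e.k = 1 ∧ (e.c = 1 ∨ e.c = -1) ∧ e.S = 4 * e.c

/-- `±(1; 1, 0, 0, 1)`, `±(1; 0, 1, 1, 0)` -/
def tyC (e : Ent) : Prop := e.k = 2 ∧ (e.c = 1 ∨ e.c = -1) ∧ e.S = 2 * e.c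

/-- Multiplicity. -/
def kk (S : ℤ) : ℤ := if S % 2 = 1 then 4 else if S % 4 = 2 then 2 else 1

/-- `c = 0` -/
def tyE (e : Ent) : Prop := e.k = kk e.S ∧ e.c = 0 ∧ (e.S ≠ 0 ∨ e.u ≠ 0)

end Ent

/-- The configuration of the rows. -/
structure Conf (J E : List Ent) : Prop where
  shape : (∃ B A₁ A₂ A₃ : Ent, J = [B, A₁, A₂, A₃] ∧ B.tyB ∧ A₁.tyA ∧ A₂.tyA ∧ A₃.tyA) ∨
    (∃ C A₁ A₂ : Ent, J = [C, A₁, A₂] ∧ C.tyC ∧ A₁.tyA ∧ A₂.tyA)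
  out : ∀ e ∈ E, e.tyE
  ok : ∀ e ∈ J ++ E, e.Ok
  cu : (J.map fun e => e.k * (e.c * e.u)).sum = -3
  SS : ((J ++ E).map fun e => e.k * e.S ^ 2).sum = 32
  Su : ((J ++ E).map fun e => e.k * (e.S * e.u)).sum = -16
  uu : ((J ++ E).map fun e => e.k * e.u ^ 2).sum = 15
  absS : (E.map fun e => e.k * |e.S|).sum ≤ 16
  deg0 : ((J ++ E).map fun e => e.k * e.c * e.x).sum = -1
  degS : ((J ++ E).map fun e => e.k * e.S * e.x).sum = 0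
  degU : ((J ++ E).map fun e => e.k * e.u * e.x).sum = 1
  rel : ((J ++ E).map fun e => ((e.k * (4 * e.c - e.S) * e.d ^ 2 : ℤ) : ℚ) / (e.x : ℚ)).sum = -4
  relU : ((J ++ E).map fun e => ((e.k * e.u * e.d ^ 2 : ℤ) : ℚ) / (e.x : ℚ)).sum = 1
  neg : 1 + ((J ++ E).map fun e => ((e.k * e.c * e.d ^ 2 : ℤ) : ℚ) / (e.x : ℚ)).sum < 0

end Cfsg.Agent.TwoFusion.U34
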