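import Mathlib
import Cfsg.Agent.TwoFusion.U34Rows
import Cfsg.Agent.TwoFusion.U34Conf

/-!
# Grouping the rows with `c 0 = 0`
-/

set_option autoImplicit false

namespace Cfsg.Agent.TwoFusion.U34

/-- The sum of the last four entries. -/
def S4 {ι : Type*} (c : ι → ZMod 5 → ℤ) (j : ι) : ℤ := c j 1 + c j 2 + c j 3 + c j 4

/-- The multiplicity as a natural number. -/
def kn (S : ℤ) : ℕ := if S % 2 = 1 then 4 else if S % 4 = 2 then 2 else 1

lemma kn_cast (S : ℤ) : ((kn S : ℕ) : ℤ) = Ent.kk S := by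
  unfold kn Ent.kk
  split_ifs <;> rfl

lemma kn_pos (S : ℤ) : 0 < kn S := by
  unfold kn
  split_ifs <;> norm_num

/-- A permutation all of whose periods are divisible by `k`. -/
theorem dvd_card_of_period {α : Type*} [Fintype α] (σ : Equiv.Perm α) (k : ℕ)
    (hk : ∀ (j : α) (n : ℕ), (σ ^ n) j = j → k ∣ n) : k ∣ Fintype.card α := by
  classical
  by_cases h1 : k = 1
  · exact h1 ▸ one_dvd _
  have hfix : ∀ j, σ j ≠ j := by
    intro j hj
    exact h1 (Nat.dvd_one.mp (hk j 1 (by simpa using hj)))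
  have hsupp : σ.support = Finset.univ := by
    ext j; simp [hfix j]
  have hcard : Fintype.card α = σ.cycleType.sum := by
    rw [Equiv.Perm.sum_cycleType, hsupp, Finset.card_univ]
  rw [hcard]
  apply Multiset.dvd_sum
  intro n hn
  rw [Equiv.Perm.mem_cycleType_iff] at hn
  obtain ⟨a, b, hab, hdis, hcyc, hn⟩ := hn
  have hord := hcyc.orderOf
  obtain ⟨j, hj, -⟩ := hcyc
  have hbj : b j = j := (hdis j).resolve_left hj
  have hσn : (σ ^ n) j = j := by
    have hcomm : Commute a b := hdis.commute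
    rw [hab, hcomm.mul_pow, Equiv.Perm.mul_apply]
    have h1 : (b ^ n) j = j := by
      have : ∀ m : ℕ, (b ^ m) j = j := by
        intro m
        induction m with
        | zero => simp
        | succ m ih => rw [pow_succ, Equiv.Perm.mul_apply, hbj, ih]
      exact this n
    rw [h1]
    have h2 : a ^ n = 1 := by
      rw [← hn, ← hord, pow_orderOf_eq_one]
    rw [h2]; rfl
  exact hk j n hσn

section

variable {ι : Type*} [Fintype ι] {c : ι → ZMod 5 → ℤ} {u x : ι → ℤ} {σ : Equiv.Perm ι}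

lemma Rows.gal' (h : Rows c u x σ) (j : ι) (i : ZMod 5) : c (σ j) i = c j (3 * i) := by
  have := h.gal j (3 * i)
  rwa [← mul_assoc, show (2 * 3 : ZMod 5) = 1 from by decide, one_mul] at this

lemma Rows.gal_pow (h : Rows c u x σ) (n : ℕ) (j : ι) (i : ZMod 5) :
    c ((σ ^ n) j) i = c j (3 ^ n * i) := by
  induction n generalizing i with
  | zero => simp
  | succ n ih =>
    rw [pow_succ', Equiv.Perm.mul_apply, h.gal', ih, pow_succ, mul_assoc]

lemma Rows.c0 (h : Rows c u x σ) (j : ι) : c (σ j) 0 = c j 0 := by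
  rw [h.gal']; simp

lemma Rows.s4 (h : Rows c u x σ) (j : ι) : S4 c (σ j) = S4 c j := by
  unfold S4
  rw [h.gal', h.gal', h.gal', h.gal']
  have h1 : (3 * 1 : ZMod 5) = 3 := by decide
  have h2 : (3 * 2 : ZMod 5) = 1 := by decide
  have h3 : (3 * 3 : ZMod 5) = 4 := by decide
  have h4 : (3 * 4 : ZMod 5) = 2 := by decide
  rw [h1, h2, h3, h4]; ring

lemma Rows.period (h : Rows c u x σ) (j : ι) (n : ℕ) (hn : (σ ^ n) j = j) :
    kn (S4 c j) ∣ n := by
  have hp : ∀ i, c j (3 ^ n * i) = c j i := fun i => by rw [← h.gal_pow, hn]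
  have hmod : n % 4 = 0 ∨ n % 4 = 1 ∨ n % 4 = 2 ∨ n % 4 = 3 := by omega
  have h34 : (3 : ZMod 5) ^ 4 = 1 := by decide
  have hpow : (3 : ZMod 5) ^ n = 3 ^ (n % 4) := by
    conv_lhs => rw [← Nat.div_add_mod n 4]
    rw [pow_add, pow_mul, h34, one_pow, one_mul]
  rw [hpow] at hp
  rcases hmod with h0 | h0 | h0 | h0 <;> rw [h0] at hp
  · have : 4 ∣ n := Nat.dvd_of_mod_eq_zero h0
    unfold kn
    split_ifs
    · exact this
    · exact Dvd.dvd.trans (by norm_num) this
    · exact one_dvd _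
  · have e1 := hp 1; have e2 := hp 2; have e3 := hp 3; have e4 := hp 4
    rw [show ((3 : ZMod 5) ^ 1 * 1) = 3 from by decide] at e1
    rw [show ((3 : ZMod 5) ^ 1 * 2) = 1 from by decide] at e2
    rw [show ((3 : ZMod 5) ^ 1 * 3) = 4 from by decide] at e3
    have : S4 c j = 4 * c j 1 := by unfold S4; omega
    unfold kn
    rw [if_neg (by omega), if_neg (by omega)]
    exact one_dvd _
  · have e1 := hp 1; have e2 := hp 2
    rw [show ((3 : ZMod 5) ^ 2 * 1) = 4 from by decide] at e1
    rw [show ((3 : ZMod 5) ^ 2 * 2) = 3 from by decide] at e2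
    have : S4 c j = 2 * (c j 1 + c j 2) := by unfold S4; omega
    unfold kn
    rw [if_neg (by omega)]
    split_ifs
    · omega
    · exact one_dvd _
  · have e1 := hp 1; have e2 := hp 2; have e3 := hp 3; have e4 := hp 4
    rw [show ((3 : ZMod 5) ^ 3 * 1) = 2 from by decide] at e1
    rw [show ((3 : ZMod 5) ^ 3 * 2) = 4 from by decide] at e2
    rw [show ((3 : ZMod 5) ^ 3 * 3) = 1 from by decide] at e3
    have : S4 c j = 4 * c j 1 := by unfold S4; omega
    unfold kn
    rw [if_neg (by omega), if_neg (by omega)]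
    exact one_dvd _

/-- The fibres of the numerical data have cardinality divisible by `kn`. -/
lemma Rows.kn_dvd (h : Rows c u x σ) [DecidableEq ι] (v : ℤ × ℤ × ℤ) :
    kn v.1 ∣ (Finset.univ.filter fun j => c j 0 = 0 ∧ (S4 c j, u j, x j) = v).card := by
  classical
  let p : ι → Prop := fun j => c j 0 = 0 ∧ (S4 c j, u j, x j) = v
  have hp : ∀ j, p (σ j) ↔ p j := by
    intro j
    simp only [p, h.c0, h.s4, h.galu, h.galx]
  have hcard : (Finset.univ.filter fun j => c j 0 = 0 ∧ (S4 c j, u j, x j) = v).card =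
      Fintype.card {j // p j} := by
    rw [Fintype.card_subtype]
  rw [hcard]
  refine dvd_card_of_period (σ.subtypePerm hp) _ ?_
  intro j n hn
  have h1 : (σ ^ n) j.1 = j.1 := by
    have := congrArg Subtype.val hn
    rw [Equiv.Perm.subtypePerm_pow] at this
    simpa using this
  have h2 := h.period j.1 n h1
  have h3 : S4 c j.1 = v.1 := by
    have := j.2.2
    exact congrArg Prod.fst this
  rwa [h3] at h2

/-- The data with `c 0 = 0` and `(S, u) ≠ (0, 0)`. -/
def PE (c : ι → ZMod 5 → ℤ) (u : ι → ℤ) (j : ι) : Prop := c j 0 = 0 ∧ (S4 c j ≠ 0 ∨ u j ≠ 0)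

open Classical in
/-- The grouping of the rows with `c 0 = 0`. -/
theorem Rows.exists_E (h : Rows c u x σ) : ∃ E : List Ent,
    (∀ e ∈ E, e.k = Ent.kk e.S) ∧
    (∀ e ∈ E, ∃ j, PE c u j ∧ e.c = c j 0 ∧ e.S = S4 c j ∧ e.u = u j ∧ e.x = x j) ∧
    ∀ G : ℤ → ℤ → ℤ → ℤ → ℚ, (E.map fun e => (e.k : ℚ) * G e.c e.S e.u e.x).sum =
      ∑ j with PE c u j, G (c j 0) (S4 c j) (u j) (x j) := by
  classical
  let f : ι → ℤ × ℤ × ℤ := fun j => (S4 c j, u j, x j)
  let P : Finset ι := Finset.univ.filter fun j => PE c u j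
  let T : Finset (ℤ × ℤ × ℤ) := P.image f
  let num : ℤ × ℤ × ℤ → ℕ := fun v => (P.filter fun j => f j = v).card
  let mk : ℤ × ℤ × ℤ → Ent := fun v => ⟨Ent.kk v.1, 0, v.1, v.2.1, v.2.2⟩
  have hdvd : ∀ v ∈ T, kn v.1 ∣ num v := by
    intro v hv
    obtain ⟨j₀, hj₀, hv₀⟩ := Finset.mem_image.mp hv
    have hv' : v.1 ≠ 0 ∨ v.2.1 ≠ 0 := by
      have := (Finset.mem_filter.mp hj₀).2.2
      rw [← hv₀]; exact this
    have : P.filter (fun j => f j = v) =
        Finset.univ.filter fun j => c j 0 = 0 ∧ (S4 c j, u j, x j) = v := by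
      ext j
      have hPj : j ∈ P ↔ PE c u j := by simp [P]
      rw [Finset.mem_filter, hPj, Finset.mem_filter]
      constructor
      · rintro ⟨h0, h1⟩; exact ⟨Finset.mem_univ _, h0.1, h1⟩
      · rintro ⟨-, h0, h1⟩
        refine ⟨⟨h0, ?_⟩, h1⟩
        rw [← h1] at hv'; exact hv'
    simp only [num]
    rw [this]
    exact h.kn_dvd v
  refine ⟨T.toList.flatMap fun v => List.replicate (num v / kn v.1) (mk v), ?_, ?_, ?_⟩
  · intro e he
    obtain ⟨v, -, he⟩ := List.mem_flatMap.mp he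
    rw [List.eq_of_mem_replicate he]
  · intro e he
    obtain ⟨v, hv, he⟩ := List.mem_flatMap.mp he
    rw [List.eq_of_mem_replicate he]
    obtain ⟨j, hj, hjv⟩ := Finset.mem_image.mp (Finset.mem_toList.mp hv)
    have hP := (Finset.mem_filter.mp hj).2
    refine ⟨j, hP, ?_, ?_, ?_, ?_⟩
    · exact hP.1.symm
    · simp [mk, ← hjv, f]
    · simp [mk, ← hjv, f]
    · simp [mk, ← hjv, f]
  · intro G
    have h1 : ∀ l : List (ℤ × ℤ × ℤ), (∀ v ∈ l, v ∈ T) →
        ((l.flatMap fun v => List.replicate (num v / kn v.1) (mk v)).map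
          fun e => (e.k : ℚ) * G e.c e.S e.u e.x).sum =
        (l.map fun v => (num v : ℚ) * G 0 v.1 v.2.1 v.2.2).sum := by
      intro l hl
      induction l with
      | nil => simp
      | cons v l ih =>
        rw [List.flatMap_cons, List.map_append, List.sum_append,
          ih fun w hw => hl w (List.mem_cons_of_mem _ hw), List.map_cons, List.sum_cons,
          List.map_replicate, List.sum_replicate]
        congr 1
        have hk := hdvd v (hl v List.mem_cons_self)
        simp only [mk, nsmul_eq_mul]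
        rw [← kn_cast, ← mul_assoc]
        congr 1
        have h2 : (num v / kn v.1) * kn v.1 = num v := Nat.div_mul_cancel hk
        push_cast
        exact_mod_cast h2
    rw [h1 _ fun v hv => Finset.mem_toList.mp hv, Finset.sum_map_toList]
    have h3 : ∑ j ∈ P, G (c j 0) (S4 c j) (u j) (x j) =
        ∑ v ∈ T, ∑ j ∈ P with f j = v, G (c j 0) (S4 c j) (u j) (x j) :=
      (Finset.sum_fiberwise_of_maps_to (fun j hj => Finset.mem_image_of_mem f hj) _).symm
    change _ = ∑ j ∈ P, _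
    rw [h3]
    apply Finset.sum_congr rfl
    intro v _
    have h4 : ∀ j ∈ P.filter (fun j => f j = v),
        G (c j 0) (S4 c j) (u j) (x j) = G 0 v.1 v.2.1 v.2.2 := by
      intro j hj
      have h5 := (Finset.mem_filter.mp hj)
      have h6 := (Finset.mem_filter.mp h5.1).2.1
      rw [h6, ← h5.2]
    rw [Finset.sum_congr rfl h4, Finset.sum_const, nsmul_eq_mul]

end

end Cfsg.Agent.TwoFusion.U34
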