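import Mathlib
import Cfsg.Agent.TwoFusion.U34CombB

/-!
# The rows with `c 0 ≠ 0`
-/

set_option autoImplicit false

namespace Cfsg.Agent.TwoFusion.U34

variable {ι : Type*} [Fintype ι] {c : ι → ZMod 5 → ℤ} {u x : ι → ℤ} {σ : Equiv.Perm ι}

namespace CombA

lemma n1 : (1 : ZMod 5) ≠ 0 := by decide
lemma n2 : (2 : ZMod 5) ≠ 0 := by decide
lemma n3 : (3 : ZMod 5) ≠ 0 := by decide
lemma n4 : (4 : ZMod 5) ≠ 0 := by decide

lemma g (h : Rows c u x σ) (i k : ZMod 5) (hi : i ≠ 0) :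
    ∑ j, c j i * c j k = if i = k then 5 else 1 := by
  rw [h.gram i k, if_neg (fun hh : i = 0 ∧ k = 0 => hi hh.1), sub_zero]

lemma g0 (h : Rows c u x σ) (i : ZMod 5) (hi : i ≠ 0) : ∑ j, c j 0 * c j i = 1 := by
  rw [h.gram 0 i, if_neg (fun hh : (0 : ZMod 5) = i => hi hh.symm),
    if_neg (fun hh : (0 : ZMod 5) = 0 ∧ i = 0 => hi hh.2), sub_zero]

lemma sumSS (h : Rows c u x σ) : ∑ j, S4 c j ^ 2 = 32 := by
  have e : ∑ j, S4 c j ^ 2 =
      ∑ j, c j 1 * c j 1 + ∑ j, c j 2 * c j 2 + ∑ j, c j 3 * c j 3 + ∑ j, c j 4 * c j 4 +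
      2 * ∑ j, c j 1 * c j 2 + 2 * ∑ j, c j 1 * c j 3 + 2 * ∑ j, c j 1 * c j 4 +
      2 * ∑ j, c j 2 * c j 3 + 2 * ∑ j, c j 2 * c j 4 + 2 * ∑ j, c j 3 * c j 4 := by
    simp only [Finset.mul_sum, ← Finset.sum_add_distrib]
    apply Finset.sum_congr rfl
    intro j _
    unfold S4; ring
  rw [e, g h 1 1 n1, g h 2 2 n2, g h 3 3 n3, g h 4 4 n4, g h 1 2 n1, g h 1 3 n1,
    g h 1 4 n1, g h 2 3 n2, g h 2 4 n2, g h 3 4 n3]
  decide

lemma sumDD (h : Rows c u x σ) : ∑ j, (c j 1 + c j 4 - c j 2 - c j 3) ^ 2 = 16 := by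
  have e : ∑ j, (c j 1 + c j 4 - c j 2 - c j 3) ^ 2 =
      ∑ j, c j 1 * c j 1 + ∑ j, c j 2 * c j 2 + ∑ j, c j 3 * c j 3 + ∑ j, c j 4 * c j 4 -
      2 * ∑ j, c j 1 * c j 2 - 2 * ∑ j, c j 1 * c j 3 + 2 * ∑ j, c j 1 * c j 4 +
      2 * ∑ j, c j 2 * c j 3 - 2 * ∑ j, c j 2 * c j 4 - 2 * ∑ j, c j 3 * c j 4 := by
    simp only [Finset.mul_sum, ← Finset.sum_add_distrib, ← Finset.sum_sub_distrib]
    apply Finset.sum_congr rfl
    intro j _
    ring
  rw [e, g h 1 1 n1, g h 2 2 n2, g h 3 3 n3, g h 4 4 n4, g h 1 2 n1, g h 1 3 n1,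
    g h 1 4 n1, g h 2 3 n2, g h 2 4 n2, g h 3 4 n3]
  decide

/-- The rows with `c 0 ≠ 0`. -/
def J0 (c : ι → ZMod 5 → ℤ) : Finset ι := Finset.univ.filter fun j => c j 0 ≠ 0

lemma mem_J0 {j : ι} : j ∈ J0 c ↔ c j 0 ≠ 0 := by simp [J0]

lemma sum_J0 (f : ι → ℤ) (hf : ∀ j, c j 0 = 0 → f j = 0) : ∑ j ∈ J0 c, f j = ∑ j, f j := by
  apply Finset.sum_subset (Finset.subset_univ _)
  intro j _ hj
  rw [mem_J0, not_not] at hj
  exact hf j hj

lemma sum_J0_le (f : ι → ℤ) (hf : ∀ j, 0 ≤ f j) : ∑ j ∈ J0 c, f j ≤ ∑ j, f j :=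
  Finset.sum_le_sum_of_subset_of_nonneg (Finset.subset_univ _) fun j _ _ => hf j

lemma sq_sum (h : Rows c u x σ) : ∑ j ∈ J0 c, c j 0 * c j 0 = 4 := by
  rw [sum_J0 (fun j => c j 0 * c j 0) (fun j hj => by simp [hj]), h.gram 0 0]
  decide

lemma unit (h : Rows c u x σ) {j : ι} (hj : j ∈ J0 c) : c j 0 = 1 ∨ c j 0 = -1 := by
  classical
  have hne := mem_J0.mp hj
  by_contra hcon
  push Not at hcon
  have h1 : c j 0 * c j 0 + ∑ i ∈ (J0 c).erase j, c i 0 * c i 0 = 4 := by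
    rw [Finset.add_sum_erase (J0 c) (fun i => c i 0 * c i 0) hj, sq_sum h]
  have h2 : 0 ≤ ∑ i ∈ (J0 c).erase j, c i 0 * c i 0 :=
    Finset.sum_nonneg fun i _ => mul_self_nonneg _
  have h3 : c j 0 ≤ 2 := by nlinarith
  have h4 : -2 ≤ c j 0 := by nlinarith
  have h5 : c j 0 = 2 ∨ c j 0 = -2 := by omega
  have h6 : ∑ i ∈ (J0 c).erase j, c i 0 * c i 0 = 0 := by
    rcases h5 with h5 | h5 <;> rw [h5] at h1 <;> omega
  have h7 : ∀ i ∈ (J0 c).erase j, c i 0 * c i 0 = 0 :=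
    (Finset.sum_eq_zero_iff_of_nonneg fun i _ => mul_self_nonneg _).mp h6
  have h8 : ∑ i, c i 0 * x i = c j 0 * x j := by
    apply Finset.sum_eq_single j
    · intro i _ hij
      by_cases hi : c i 0 = 0
      · rw [hi, zero_mul]
      · have := h7 i (Finset.mem_erase.mpr ⟨hij, mem_J0.mpr hi⟩)
        exact absurd (mul_self_eq_zero.mp this) hi
    · intro hh; exact absurd (Finset.mem_univ _) hh
  have h9 := h.deg 0
  rw [if_pos rfl, h8] at h9
  rcases h5 with h5 | h5 <;> rw [h5] at h9 <;> omega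

lemma unit_sq (h : Rows c u x σ) {j : ι} (hj : j ∈ J0 c) : c j 0 * c j 0 = 1 := by
  rcases unit h hj with h1 | h1 <;> rw [h1] <;> norm_num

lemma card_J0 (h : Rows c u x σ) : (J0 c).card = 4 := by
  have h1 : ∑ j ∈ J0 c, c j 0 * c j 0 = ∑ j ∈ J0 c, (1 : ℤ) :=
    Finset.sum_congr rfl fun j hj => unit_sq h hj
  rw [sq_sum h] at h1
  have h2 : ∑ j ∈ J0 c, (1 : ℤ) = (J0 c).card := by simp
  omega

lemma sigma_mem (h : Rows c u x σ) {j : ι} : σ j ∈ J0 c ↔ j ∈ J0 c := by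
  rw [mem_J0, mem_J0, h.c0]

lemma cross0 (h : Rows c u x σ) : ∑ j ∈ J0 c, c j 0 * u j = -3 := by
  rw [sum_J0 (fun j => c j 0 * u j) (fun j hj => by simp [hj]), h.cross 0, if_pos rfl]
  norm_num

lemma c1 (h : Rows c u x σ) (j : ι) : c (σ j) 1 = c j 3 := by
  rw [h.gal']; rfl

lemma c2 (h : Rows c u x σ) (j : ι) : c (σ j) 2 = c j 1 := by
  rw [h.gal']; rfl

lemma c3 (h : Rows c u x σ) (j : ι) : c (σ j) 3 = c j 4 := by
  rw [h.gal']; rfl

lemma c4 (h : Rows c u x σ) (j : ι) : c (σ j) 4 = c j 2 := by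
  rw [h.gal']; rfl

lemma sym (h : Rows c u x σ) {j : ι} (hj : j ∈ J0 c) : c j 1 = c j 4 ∧ c j 2 = c j 3 := by
  classical
  by_contra hcon
  -- the four conjugates
  have e2 : ¬ σ (σ j) = j := by
    intro he
    apply hcon
    have a1 := c1 h (σ j); have a2 := c2 h (σ j)
    rw [he, c3 h] at a1
    rw [he, c1 h] at a2
    exact ⟨a1, a2⟩
  have e1 : ¬ σ j = j := by
    intro he; apply e2; rw [he, he]
  have e3 : ¬ σ (σ (σ j)) = j := by
    intro he
    apply hcon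
    have a1 := c1 h (σ (σ j)); have a2 := c2 h (σ (σ j)); have a3 := c3 h (σ (σ j))
    rw [he, c3 h, c4 h] at a1
    rw [he, c1 h, c3 h] at a2
    rw [he, c4 h, c2 h] at a3
    constructor <;> omega
  have f1 : ¬ σ (σ j) = σ j := fun he => e1 (σ.injective he)
  have f2 : ¬ σ (σ (σ j)) = σ j := fun he => e2 (σ.injective he)
  have f3 : ¬ σ (σ (σ j)) = σ (σ j) := fun he => f1 (σ.injective he)
  have hsub : ({j, σ j, σ (σ j), σ (σ (σ j))} : Finset ι) ⊆ J0 c := by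
    intro i hi
    simp only [Finset.mem_insert, Finset.mem_singleton] at hi
    rcases hi with rfl | rfl | rfl | rfl
    · exact hj
    · exact (sigma_mem h).mpr hj
    · exact (sigma_mem h).mpr ((sigma_mem h).mpr hj)
    · exact (sigma_mem h).mpr ((sigma_mem h).mpr ((sigma_mem h).mpr hj))
  have m1 : j ∉ ({σ j, σ (σ j), σ (σ (σ j))} : Finset ι) := by
    simp only [Finset.mem_insert, Finset.mem_singleton]
    rintro (h1 | h1 | h1)
    · exact e1 h1.symm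
    · exact e2 h1.symm
    · exact e3 h1.symm
  have m2 : σ j ∉ ({σ (σ j), σ (σ (σ j))} : Finset ι) := by
    simp only [Finset.mem_insert, Finset.mem_singleton]
    rintro (h1 | h1)
    · exact f1 h1.symm
    · exact f2 h1.symm
  have m3 : σ (σ j) ∉ ({σ (σ (σ j))} : Finset ι) := by
    simp only [Finset.mem_singleton]
    exact fun h1 => f3 h1.symm
  have hcard : ({j, σ j, σ (σ j), σ (σ (σ j))} : Finset ι).card = 4 := by
    rw [Finset.card_insert_of_notMem m1, Finset.card_insert_of_notMem m2,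
      Finset.card_insert_of_notMem m3, Finset.card_singleton]
  have heq : ({j, σ j, σ (σ j), σ (σ (σ j))} : Finset ι) = J0 c :=
    Finset.eq_of_subset_of_card_le hsub (by rw [hcard, card_J0 h])
  have hs := cross0 h
  rw [← heq, Finset.sum_insert m1, Finset.sum_insert m2, Finset.sum_insert m3,
    Finset.sum_singleton] at hs
  simp only [h.c0, h.galu] at hs
  generalize c j 0 * u j = t at hs
  omega

lemma s4_eq (h : Rows c u x σ) {j : ι} (hj : j ∈ J0 c) : S4 c j = 2 * (c j 1 + c j 2) := by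
  obtain ⟨h1, h2⟩ := sym h hj
  unfold S4; omega

lemma small {t B : ℤ} (h1 : t ^ 2 ≤ B) (hB : B < 4) :
    (t = -1 ∧ t ^ 2 = 1) ∨ (t = 0 ∧ t ^ 2 = 0) ∨ (t = 1 ∧ t ^ 2 = 1) := by
  have h2 : t < 2 := by nlinarith
  have h3 : -2 < t := by nlinarith
  have h4 : t = -1 ∨ t = 0 ∨ t = 1 := by omega
  rcases h4 with rfl | rfl | rfl
  · exact Or.inl ⟨rfl, by norm_num⟩
  · exact Or.inr (Or.inl ⟨rfl, by norm_num⟩)
  · exact Or.inr (Or.inr ⟨rfl, by norm_num⟩)

lemma four_int {a b d e : ℤ} (h1 : a + (b + (d + e)) = 1)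
    (h2 : 16 * a ^ 2 + (16 * b ^ 2 + (16 * d ^ 2 + 16 * e ^ 2)) ≤ 32) :
    (a = 1 ∧ b = 0 ∧ d = 0 ∧ e = 0) ∨ (a = 0 ∧ b = 1 ∧ d = 0 ∧ e = 0) ∨
      (a = 0 ∧ b = 0 ∧ d = 1 ∧ e = 0) ∨ (a = 0 ∧ b = 0 ∧ d = 0 ∧ e = 1) := by
  have sa := sq_nonneg a
  have sb := sq_nonneg b
  have sd := sq_nonneg d
  have se := sq_nonneg e
  have xa := small (t := a) (B := 2) (by omega) (by norm_num)
  have xb := small (t := b) (B := 2) (by omega) (by norm_num)
  have xd := small (t := d) (B := 2) (by omega) (by norm_num)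
  have xe := small (t := e) (B := 2) (by omega) (by norm_num)
  generalize a ^ 2 = a2 at *
  generalize b ^ 2 = b2 at *
  generalize d ^ 2 = d2 at *
  generalize e ^ 2 = e2 at *
  clear sa sb sd se
  rcases xa with ⟨rfl, rfl⟩ | ⟨rfl, rfl⟩ | ⟨rfl, rfl⟩ <;>
    rcases xb with ⟨rfl, rfl⟩ | ⟨rfl, rfl⟩ | ⟨rfl, rfl⟩ <;>
    rcases xd with ⟨rfl, rfl⟩ | ⟨rfl, rfl⟩ | ⟨rfl, rfl⟩ <;>
    rcases xe with ⟨rfl, rfl⟩ | ⟨rfl, rfl⟩ | ⟨rfl, rfl⟩ <;>
    first | (exfalso; omega) | simp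

lemma two_int {p q t t' : ℤ} (h1 : q < p) (h2 : p + q + (t + t') = 1)
    (h3 : 2 * (2 * (p + q)) ^ 2 + ((4 * t) ^ 2 + (4 * t') ^ 2) ≤ 32)
    (h4 : 2 * (2 * (p - q)) ^ 2 ≤ 16) : p = 1 ∧ q = 0 ∧ t = 0 ∧ t' = 0 := by
  have h3' : 8 * (p + q) ^ 2 + (16 * t ^ 2 + 16 * t' ^ 2) ≤ 32 := by nlinarith
  have h4' : 8 * (p - q) ^ 2 ≤ 16 := by nlinarith
  have s1 := sq_nonneg (p + q)
  have s2 := sq_nonneg t
  have s3 := sq_nonneg t'
  have x1 := small (t := p - q) (B := 2) (by omega) (by norm_num)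
  have x2 := small (t := t) (B := 2) (by omega) (by norm_num)
  have x3 := small (t := t') (B := 2) (by omega) (by norm_num)
  have h5 : p = q + 1 := by omega
  subst h5
  have x4 : q < 1 := by nlinarith
  have x5 : -2 < q := by nlinarith
  have x6 : q = 0 ∨ q = -1 := by omega
  rcases x6 with rfl | rfl
  · norm_num at h3'
    generalize t ^ 2 = t2 at *
    generalize t' ^ 2 = t2' at *
    omega
  · norm_num at h3'
    generalize t ^ 2 = t2 at *
    generalize t' ^ 2 = t2' at *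
    omega

/-- An entry. -/
def ent (c : ι → ZMod 5 → ℤ) (u x : ι → ℤ) (k : ℤ) (j : ι) : Ent :=
  ⟨k, c j 0, S4 c j, u j, x j⟩

end CombA

open CombA in
/-- The grouping of the rows with `c 0 ≠ 0`. -/
theorem Rows.exists_J (h : Rows c u x σ) : ∃ J : List Ent,
    ((∃ B A₁ A₂ A₃ : Ent, J = [B, A₁, A₂, A₃] ∧ B.tyB ∧ A₁.tyA ∧ A₂.tyA ∧ A₃.tyA) ∨
      (∃ C A₁ A₂ : Ent, J = [C, A₁, A₂] ∧ C.tyC ∧ A₁.tyA ∧ A₂.tyA)) ∧
    (∀ e ∈ J, ∃ j, e.c = c j 0 ∧ e.S = S4 c j ∧ e.u = u j ∧ e.x = x j) ∧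
    (∀ G : ℤ → ℤ → ℤ → ℤ → ℚ, (J.map fun e => (e.k : ℚ) * G e.c e.S e.u e.x).sum =
      ∑ j with c j 0 ≠ 0, G (c j 0) (S4 c j) (u j) (x j)) := by
  classical
  have hA : ∀ j ∈ J0 c, c j 1 = c j 2 → c j 0 * c j 1 = 0 → (ent c u x 1 j).tyA := by
    intro j hj h1 h2
    refine ⟨rfl, unit h hj, ?_⟩
    change S4 c j = 0
    have h3 : c j 1 = 0 := (mul_eq_zero.mp h2).resolve_left (mem_J0.mp hj)
    rw [s4_eq h hj, ← h1, h3]; norm_num
  have hB : ∀ j ∈ J0 c, c j 1 = c j 2 → c j 0 * c j 1 = 1 → (ent c u x 1 j).tyB := by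
    intro j hj h1 h2
    refine ⟨rfl, unit h hj, ?_⟩
    change S4 c j = 4 * c j 0
    have h3 : c j 1 = c j 0 := by
      rcases unit h hj with h4 | h4 <;> rw [h4] at h2 ⊢ <;> omega
    rw [s4_eq h hj, ← h1, h3]; ring
  let Dp : Finset ι := (J0 c).filter fun j => c j 0 * c j 2 < c j 0 * c j 1
  let Dm : Finset ι := (J0 c).filter fun j => c j 0 * c j 1 < c j 0 * c j 2
  let K : Finset ι := (J0 c).filter fun j => c j 1 = c j 2
  have hmDp : ∀ j, j ∈ Dp ↔ j ∈ J0 c ∧ c j 0 * c j 2 < c j 0 * c j 1 := fun j => by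
    simp only [Dp, Finset.mem_filter]
  have hmDm : ∀ j, j ∈ Dm ↔ j ∈ J0 c ∧ c j 0 * c j 1 < c j 0 * c j 2 := fun j => by
    simp only [Dm, Finset.mem_filter]
  have hmK : ∀ j, j ∈ K ↔ j ∈ J0 c ∧ c j 1 = c j 2 := fun j => by
    simp only [K, Finset.mem_filter]
  have hflip : ∀ j, σ j ∈ Dm ↔ j ∈ Dp := by
    intro j
    rw [hmDm, hmDp, sigma_mem h, h.c0, c1 h, c2 h]
    constructor
    · rintro ⟨h1, h2⟩; rw [(sym h h1).2]; exact ⟨h1, h2⟩
    · rintro ⟨h1, h2⟩; rw [(sym h h1).2] at h2; exact ⟨h1, h2⟩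
  -- decomposition of sums
  have hdec : ∀ {M : Type} [AddCommMonoid M] (f : ι → M),
      ∑ j ∈ J0 c, f j = ∑ j ∈ Dp, f j + ∑ j ∈ Dm, f j + ∑ j ∈ K, f j := by
    intro M _ f
    have hd1 : Disjoint Dp Dm := by
      rw [Finset.disjoint_left]
      intro j h1 h2
      rw [hmDp] at h1; rw [hmDm] at h2
      exact absurd h1.2 (not_lt.mpr h2.2.le)
    have hd2 : Disjoint (Dp ∪ Dm) K := by
      rw [Finset.disjoint_left]
      intro j h1 h2
      rw [hmK] at h2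
      rcases Finset.mem_union.mp h1 with h1 | h1
      · rw [hmDp, h2.2] at h1; exact lt_irrefl _ h1.2
      · rw [hmDm, h2.2] at h1; exact lt_irrefl _ h1.2
    rw [← Finset.sum_union hd1, ← Finset.sum_union hd2]
    congr 1
    ext j
    rw [Finset.mem_union, Finset.mem_union, hmDp, hmDm, hmK]
    constructor
    · intro hj
      rcases lt_trichotomy (c j 0 * c j 2) (c j 0 * c j 1) with h1 | h1 | h1
      · exact Or.inl (Or.inl ⟨hj, h1⟩)
      · exact Or.inr ⟨hj, (mul_left_cancel₀ (mem_J0.mp hj) h1).symm⟩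
      · exact Or.inl (Or.inr ⟨hj, h1⟩)
    · rintro ((h1 | h1) | h1)
      · exact h1.1
      · exact h1.1
      · exact h1.1
  have hswap : ∀ {M : Type} [AddCommMonoid M] (f : ι → M), (∀ j, f (σ j) = f j) →
      ∑ j ∈ Dm, f j = ∑ j ∈ Dp, f j := by
    intro M _ f hf
    symm
    refine Finset.sum_equiv σ (fun j => ?_) (fun j _ => (hf j).symm)
    exact (hflip j).symm
  have hcard : 2 * Dp.card + K.card = 4 := by
    have h1 := hdec (fun _ => (1 : ℕ))
    rw [hswap (fun _ => (1 : ℕ)) (fun _ => rfl)] at h1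
    simp only [Finset.sum_const, smul_eq_mul, mul_one] at h1
    rw [card_J0 h] at h1
    omega
  have hodd : K.card ≠ 0 := by
    intro h0
    have h1 := cross0 h
    rw [hdec, hswap (fun j => c j 0 * u j) (fun j => by rw [h.c0, h.galu]),
      Finset.card_eq_zero.mp h0, Finset.sum_empty] at h1
    omega
  have hcases : Dp.card = 0 ∨ Dp.card = 1 := by omega
  have hg1 : ∑ j ∈ J0 c, c j 0 * c j 1 = 1 := by
    rw [sum_J0 (fun j => c j 0 * c j 1) (fun j hj => by simp [hj]), g0 h 1 n1]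
  have hSS : ∑ j ∈ J0 c, S4 c j ^ 2 ≤ 32 :=
    (sum_J0_le (fun j => S4 c j ^ 2) fun j => sq_nonneg _).trans (sumSS h).le
  have hDD : ∑ j ∈ J0 c, (c j 1 + c j 4 - c j 2 - c j 3) ^ 2 ≤ 16 :=
    (sum_J0_le (fun j => (c j 1 + c j 4 - c j 2 - c j 3) ^ 2) fun j => sq_nonneg _).trans
      (sumDD h).le
  have hsumJ : ∀ G : ℤ → ℤ → ℤ → ℤ → ℚ,
      ∑ j with c j 0 ≠ 0, G (c j 0) (S4 c j) (u j) (x j) =
        ∑ j ∈ J0 c, G (c j 0) (S4 c j) (u j) (x j) := fun G => rfl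
  rcases hcases with h0 | h0
  · -- shape I
    have hDp : Dp = ∅ := Finset.card_eq_zero.mp h0
    have hDm : Dm = ∅ := by
      rw [Finset.eq_empty_iff_forall_notMem]
      intro j hj
      have : σ.symm j ∈ Dp := by rw [← hflip, Equiv.apply_symm_apply]; exact hj
      rw [hDp] at this; exact absurd this (Finset.notMem_empty _)
    have hconst : ∀ j ∈ J0 c, c j 1 = c j 2 := by
      intro j hj
      by_contra hne
      rcases lt_trichotomy (c j 0 * c j 2) (c j 0 * c j 1) with h1 | h1 | h1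
      · have : j ∈ Dp := (hmDp j).mpr ⟨hj, h1⟩
        rw [hDp] at this; exact absurd this (Finset.notMem_empty _)
      · exact hne (mul_left_cancel₀ (mem_J0.mp hj) h1).symm
      · have : j ∈ Dm := (hmDm j).mpr ⟨hj, h1⟩
        rw [hDm] at this; exact absurd this (Finset.notMem_empty _)
    have hsq : ∀ j ∈ J0 c, S4 c j ^ 2 = 16 * (c j 0 * c j 1) ^ 2 := by
      intro j hj
      rw [s4_eq h hj, ← hconst j hj]
      have := unit_sq h hj
      have e : (c j 0 * c j 1) ^ 2 = (c j 0 * c j 0) * c j 1 ^ 2 := by ring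
      rw [e, this]; ring
    have hlen : (J0 c).toList.length = 4 := by rw [Finset.length_toList, card_J0 h]
    have hs1 : ∀ f : ι → ℤ, ∑ j ∈ J0 c, f j = ((J0 c).toList.map f).sum := fun f =>
      (Finset.sum_map_toList _ _).symm
    have hs2 : ∀ f : ι → ℚ, ∑ j ∈ J0 c, f j = ((J0 c).toList.map f).sum := fun f =>
      (Finset.sum_map_toList _ _).symm
    have hmem : ∀ j ∈ (J0 c).toList, j ∈ J0 c := fun j hj => Finset.mem_toList.mp hj
    rw [Finset.sum_congr rfl hsq, hs1] at hSS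
    rw [hs1] at hg1
    obtain ⟨l, hl⟩ : ∃ l, l = (J0 c).toList := ⟨_, rfl⟩
    rw [← hl] at hSS hg1 hlen hmem
    have key : ∀ b a₁ a₂ a₃ : ι, [b, a₁, a₂, a₃].Perm l → c b 0 * c b 1 = 1 →
        c a₁ 0 * c a₁ 1 = 0 → c a₂ 0 * c a₂ 1 = 0 → c a₃ 0 * c a₃ 1 = 0 →
        ∃ J : List Ent,
        ((∃ B A₁ A₂ A₃ : Ent, J = [B, A₁, A₂, A₃] ∧ B.tyB ∧ A₁.tyA ∧ A₂.tyA ∧ A₃.tyA) ∨
          (∃ C A₁ A₂ : Ent, J = [C, A₁, A₂] ∧ C.tyC ∧ A₁.tyA ∧ A₂.tyA)) ∧
        (∀ e ∈ J, ∃ j, e.c = c j 0 ∧ e.S = S4 c j ∧ e.u = u j ∧ e.x = x j) ∧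
        (∀ G : ℤ → ℤ → ℤ → ℤ → ℚ, (J.map fun e => (e.k : ℚ) * G e.c e.S e.u e.x).sum =
          ∑ j with c j 0 ≠ 0, G (c j 0) (S4 c j) (u j) (x j)) := by
      intro b a₁ a₂ a₃ hperm tb t1 t2 t3
      have mb : b ∈ J0 c := hmem b (hperm.mem_iff.mp (by simp))
      have m1 : a₁ ∈ J0 c := hmem a₁ (hperm.mem_iff.mp (by simp))
      have m2 : a₂ ∈ J0 c := hmem a₂ (hperm.mem_iff.mp (by simp))
      have m3 : a₃ ∈ J0 c := hmem a₃ (hperm.mem_iff.mp (by simp))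
      refine ⟨[ent c u x 1 b, ent c u x 1 a₁, ent c u x 1 a₂, ent c u x 1 a₃],
        Or.inl ⟨_, _, _, _, rfl, hB b mb (hconst b mb) tb, hA _ m1 (hconst _ m1) t1,
          hA _ m2 (hconst _ m2) t2, hA _ m3 (hconst _ m3) t3⟩, ?_, ?_⟩
      · intro e he
        simp only [List.mem_cons, List.not_mem_nil, or_false] at he
        rcases he with rfl | rfl | rfl | rfl
        · exact ⟨b, rfl, rfl, rfl, rfl⟩
        · exact ⟨a₁, rfl, rfl, rfl, rfl⟩
        · exact ⟨a₂, rfl, rfl, rfl, rfl⟩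
        · exact ⟨a₃, rfl, rfl, rfl, rfl⟩
      · intro G
        rw [hsumJ, hs2, ← hl, ← (hperm.map _).sum_eq]
        simp [ent]
    match l, hlen, key, hmem, hSS, hg1 with
    | [a, b, d, e], _, key, hmem, hSS, hg1 =>
      simp only [List.map_cons, List.map_nil, List.sum_cons, List.sum_nil, add_zero] at hSS hg1
      generalize ha : c a 0 * c a 1 = ta at *
      generalize hb : c b 0 * c b 1 = tb at *
      generalize hd : c d 0 * c d 1 = td at *
      generalize he : c e 0 * c e 1 = te at *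
      have hc := four_int hg1 hSS
      rcases hc with ⟨h1, h2, h3, h4⟩ | ⟨h1, h2, h3, h4⟩ | ⟨h1, h2, h3, h4⟩ | ⟨h1, h2, h3, h4⟩
      · exact key a b d e (List.Perm.refl _) (by rw [ha, h1]) (by rw [hb, h2]) (by rw [hd, h3])
          (by rw [he, h4])
      · exact key b a d e (List.Perm.swap _ _ _) (by rw [hb, h2]) (by rw [ha, h1])
          (by rw [hd, h3]) (by rw [he, h4])
      · refine key d a b e ?_ (by rw [hd, h3]) (by rw [ha, h1]) (by rw [hb, h2]) (by rw [he, h4])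
        exact (List.perm_middle (l₁ := [a, b]) (l₂ := [e]) (a := d)).symm
      · refine key e a b d ?_ (by rw [he, h4]) (by rw [ha, h1]) (by rw [hb, h2]) (by rw [hd, h3])
        exact (List.perm_middle (l₁ := [a, b, d]) (l₂ := []) (a := e)).symm
  · -- shape II
    obtain ⟨a, hDp⟩ := Finset.card_eq_one.mp h0
    have hK2 : K.card = 2 := by omega
    obtain ⟨b, b', hbb, hK⟩ := Finset.card_eq_two.mp hK2
    have ma : a ∈ J0 c ∧ c a 0 * c a 2 < c a 0 * c a 1 := (hmDp a).mp (by rw [hDp]; simp)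
    have mb : b ∈ J0 c ∧ c b 1 = c b 2 := (hmK b).mp (by rw [hK]; simp)
    have mb' : b' ∈ J0 c ∧ c b' 1 = c b' 2 := (hmK b').mp (by rw [hK]; simp)
    have hDm : Dm = {σ a} := by
      ext j
      rw [Finset.mem_singleton]
      constructor
      · intro hj
        have : σ.symm j ∈ Dp := by rw [← hflip, Equiv.apply_symm_apply]; exact hj
        rw [hDp, Finset.mem_singleton] at this
        rw [← this, Equiv.apply_symm_apply]
      · rintro rfl
        rw [hflip, hDp]; simp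
    have hsum : ∀ {M : Type} [AddCommMonoid M] (f : ι → M),
        ∑ j ∈ J0 c, f j = f a + f (σ a) + (f b + f b') := by
      intro M _ f
      rw [hdec, hDp, hDm, hK, Finset.sum_singleton, Finset.sum_singleton, Finset.sum_pair hbb]
    have sa := sym h ma.1
    have eSa := s4_eq h ma.1
    have eSb := s4_eq h mb.1
    have eSb' := s4_eq h mb'.1
    have ea := unit h ma.1
    have eb := unit h mb.1
    have eb' := unit h mb'.1
    rw [hsum] at hg1 hSS hDD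
    rw [h.c0, c1 h] at hg1
    rw [h.s4] at hSS
    rw [c1 h, c2 h, c3 h, c4 h] at hDD
    have res := two_int (p := c a 0 * c a 1) (q := c a 0 * c a 2) (t := c b 0 * c b 1)
      (t' := c b' 0 * c b' 1) ma.2
      (by rw [← sa.2] at hg1; linarith)
      (by
        have u1 := unit_sq h ma.1
        have u2 := unit_sq h mb.1
        have u3 := unit_sq h mb'.1
        have e1 : (2 * (c a 0 * c a 1 + c a 0 * c a 2)) ^ 2 = S4 c a ^ 2 := by
          rw [eSa]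
          have : (2 * (c a 0 * c a 1 + c a 0 * c a 2)) ^ 2 =
            (c a 0 * c a 0) * (2 * (c a 1 + c a 2)) ^ 2 := by ring
          rw [this, u1, one_mul]
        have e2 : (4 * (c b 0 * c b 1)) ^ 2 = S4 c b ^ 2 := by
          rw [eSb, ← mb.2]
          have : (4 * (c b 0 * c b 1)) ^ 2 =
            (c b 0 * c b 0) * (2 * (c b 1 + c b 1)) ^ 2 := by ring
          rw [this, u2, one_mul]
        have e3 : (4 * (c b' 0 * c b' 1)) ^ 2 = S4 c b' ^ 2 := by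
          rw [eSb', ← mb'.2]
          have : (4 * (c b' 0 * c b' 1)) ^ 2 =
            (c b' 0 * c b' 0) * (2 * (c b' 1 + c b' 1)) ^ 2 := by ring
          rw [this, u3, one_mul]
        rw [e1, e2, e3]
        linarith)
      (by
        have u1 := unit_sq h ma.1
        have sb := sym h mb.1
        have sb' := sym h mb'.1
        have e1 : (2 * (c a 0 * c a 1 - c a 0 * c a 2)) ^ 2 = (2 * (c a 1 - c a 2)) ^ 2 := by
          have : (2 * (c a 0 * c a 1 - c a 0 * c a 2)) ^ 2 =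
            (c a 0 * c a 0) * (2 * (c a 1 - c a 2)) ^ 2 := by ring
          rw [this, u1, one_mul]
        rw [e1]
        have e2 : (c a 1 + c a 4 - c a 2 - c a 3) ^ 2 = (2 * (c a 1 - c a 2)) ^ 2 := by
          rw [← sa.1, ← sa.2]; ring
        have e3 : (c a 3 + c a 2 - c a 1 - c a 4) ^ 2 = (2 * (c a 1 - c a 2)) ^ 2 := by
          rw [← sa.1, ← sa.2]; ring
        rw [e2, e3] at hDD
        nlinarith [sq_nonneg (c b 1 + c b 4 - c b 2 - c b 3),
          sq_nonneg (c b' 1 + c b' 4 - c b' 2 - c b' 3)])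
    obtain ⟨r1, r2, r3, r4⟩ := res
    refine ⟨[ent c u x 2 a, ent c u x 1 b, ent c u x 1 b'], Or.inr ⟨_, _, _, rfl, ?_,
      hA _ mb.1 mb.2 r3, hA _ mb'.1 mb'.2 r4⟩, ?_, ?_⟩
    · refine ⟨rfl, ea, ?_⟩
      change S4 c a = 2 * c a 0
      rw [eSa]
      have h2 : c a 2 = 0 := (mul_eq_zero.mp r2).resolve_left (mem_J0.mp ma.1)
      have h1 : c a 1 = c a 0 := by
        rcases ea with h4 | h4 <;> rw [h4] at r1 ⊢ <;> omega
      rw [h1, h2]; ring
    · intro e he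
      simp only [List.mem_cons, List.not_mem_nil, or_false] at he
      rcases he with rfl | rfl | rfl
      · exact ⟨a, rfl, rfl, rfl, rfl⟩
      · exact ⟨b, rfl, rfl, rfl, rfl⟩
      · exact ⟨b', rfl, rfl, rfl, rfl⟩
    · intro G
      rw [hsumJ, hsum, h.c0, h.s4, h.galu, h.galx]
      simp only [ent, List.map_cons, List.map_nil, List.sum_cons, List.sum_nil]
      push_cast
      ring

end Cfsg.Agent.TwoFusion.U34
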