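import Mathlib
import Cfsg.Agent.TwoFusion.U34CombB

/-!
# The configuration of the rows: all sums
-/

set_option autoImplicit false

namespace Cfsg.Agent.TwoFusion.U34

variable {ι : Type*} [Fintype ι] {c : ι → ZMod 5 → ℤ} {u x : ι → ℤ} {σ : Equiv.Perm ι}

omit [Fintype ι] in
lemma ss_eq (c : ι → ZMod 5 → ℤ) (j : ι) : ss c j = c j 0 + S4 c j := by
  have hu : (Finset.univ : Finset (ZMod 5)) = {0, 1, 2, 3, 4} := by decide
  unfold ss S4
  rw [hu, Finset.sum_insert (by decide), Finset.sum_insert (by decide),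
    Finset.sum_insert (by decide), Finset.sum_insert (by decide), Finset.sum_singleton]
  ring

omit [Fintype ι] in
lemma dd_eq (c : ι → ZMod 5 → ℤ) (u : ι → ℤ) (j : ι) :
    dd c u j = -5 * u j - 4 * (c j 0 + S4 c j) := by
  unfold dd; rw [ss_eq]

lemma abs_le_sq' (a : ℤ) : |a| ≤ a ^ 2 := by
  rcases eq_or_ne a 0 with rfl | ha
  · simp
  · have h1 : 1 ≤ |a| := Int.one_le_abs ha
    rw [← sq_abs]; nlinarith

open Classical in
/-- From a grouping of the rows with `c 0 ≠ 0` to a configuration. -/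
theorem Rows.conf_of (h : Rows c u x σ) (J : List Ent)
    (hshape : (∃ B A₁ A₂ A₃ : Ent, J = [B, A₁, A₂, A₃] ∧ B.tyB ∧ A₁.tyA ∧ A₂.tyA ∧ A₃.tyA) ∨
      (∃ C A₁ A₂ : Ent, J = [C, A₁, A₂] ∧ C.tyC ∧ A₁.tyA ∧ A₂.tyA))
    (hmem : ∀ e ∈ J, ∃ j, e.c = c j 0 ∧ e.S = S4 c j ∧ e.u = u j ∧ e.x = x j)
    (hsum : ∀ G : ℤ → ℤ → ℤ → ℤ → ℚ, (J.map fun e => (e.k : ℚ) * G e.c e.S e.u e.x).sum =
      ∑ j with c j 0 ≠ 0, G (c j 0) (S4 c j) (u j) (x j)) :
    ∃ E, Conf J E := by
  classical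
  obtain ⟨E, hEk, hEmem, hEsum⟩ := h.exists_E
  -- total sums
  have htot : ∀ G : ℤ → ℤ → ℤ → ℤ → ℚ, (∀ y, G 0 0 0 y = 0) →
      ((J ++ E).map fun e => (e.k : ℚ) * G e.c e.S e.u e.x).sum =
        ∑ j, G (c j 0) (S4 c j) (u j) (x j) := by
    intro G hG
    rw [List.map_append, List.sum_append, hsum G, hEsum G]
    have h1 : ∑ j, G (c j 0) (S4 c j) (u j) (x j) =
        (∑ j with c j 0 ≠ 0, G (c j 0) (S4 c j) (u j) (x j)) +
        ∑ j with ¬ c j 0 ≠ 0, G (c j 0) (S4 c j) (u j) (x j) :=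
      (Finset.sum_filter_add_sum_filter_not _ _ _).symm
    rw [h1]
    congr 1
    apply Finset.sum_subset
    · intro j hj
      rw [Finset.mem_filter] at hj ⊢
      exact ⟨hj.1, not_not.mpr hj.2.1⟩
    · intro j hj hj'
      rw [Finset.mem_filter] at hj hj'
      have h0 : c j 0 = 0 := not_not.mp hj.2
      have h2 : S4 c j = 0 ∧ u j = 0 := by
        by_contra hcon
        apply hj'
        refine ⟨hj.1, h0, ?_⟩
        tauto
      rw [h0, h2.1, h2.2, hG]
  have hcast : ∀ (L : List Ent) (G : ℤ → ℤ → ℤ → ℤ → ℤ),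
      (((L.map fun e => e.k * G e.c e.S e.u e.x).sum : ℤ) : ℚ) =
        (L.map fun e => (e.k : ℚ) * ((G e.c e.S e.u e.x : ℤ) : ℚ)).sum := by
    intro L G
    induction L with
    | nil => simp
    | cons e L ih =>
      rw [List.map_cons, List.sum_cons, List.map_cons, List.sum_cons, ← ih]
      push_cast; ring
  have hZ : ∀ G : ℤ → ℤ → ℤ → ℤ → ℤ, (∀ y, G 0 0 0 y = 0) →
      ((J ++ E).map fun e => e.k * G e.c e.S e.u e.x).sum =
        ∑ j, G (c j 0) (S4 c j) (u j) (x j) := by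
    intro G hG
    have h1 := htot (fun a b d e => ((G a b d e : ℤ) : ℚ)) fun y => by simp [hG]
    rw [← hcast] at h1
    exact_mod_cast h1
  have hZJ : ∀ G : ℤ → ℤ → ℤ → ℤ → ℤ,
      (J.map fun e => e.k * G e.c e.S e.u e.x).sum =
        ∑ j with c j 0 ≠ 0, G (c j 0) (S4 c j) (u j) (x j) := by
    intro G
    have h1 := hsum (fun a b d e => ((G a b d e : ℤ) : ℚ))
    rw [← hcast] at h1
    exact_mod_cast h1
  have hZE : ∀ G : ℤ → ℤ → ℤ → ℤ → ℤ,
      (E.map fun e => e.k * G e.c e.S e.u e.x).sum =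
        ∑ j with PE c u j, G (c j 0) (S4 c j) (u j) (x j) := by
    intro G
    have h1 := hEsum (fun a b d e => ((G a b d e : ℤ) : ℚ))
    rw [← hcast] at h1
    exact_mod_cast h1
  -- Gram entries
  have g : ∀ i k : ZMod 5, i ≠ 0 → k ≠ 0 → ∑ j, c j i * c j k = if i = k then 5 else 1 := by
    intro i k hi hk
    rw [h.gram i k, if_neg (fun hh : i = 0 ∧ k = 0 => hi hh.1), sub_zero]
  have g0 : ∀ i : ZMod 5, i ≠ 0 → ∑ j, c j 0 * c j i = 1 := by
    intro i hi
    rw [h.gram 0 i, if_neg (fun hh : (0 : ZMod 5) = i => hi hh.symm),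
      if_neg (fun hh : (0 : ZMod 5) = 0 ∧ i = 0 => hi hh.2), sub_zero]
  have n1 : (1 : ZMod 5) ≠ 0 := by decide
  have n2 : (2 : ZMod 5) ≠ 0 := by decide
  have n3 : (3 : ZMod 5) ≠ 0 := by decide
  have n4 : (4 : ZMod 5) ≠ 0 := by decide
  have hSS : ∑ j, S4 c j ^ 2 = 32 := by
    have e : ∑ j, S4 c j ^ 2 =
        ∑ j, c j 1 * c j 1 + ∑ j, c j 2 * c j 2 + ∑ j, c j 3 * c j 3 + ∑ j, c j 4 * c j 4 +
        2 * ∑ j, c j 1 * c j 2 + 2 * ∑ j, c j 1 * c j 3 + 2 * ∑ j, c j 1 * c j 4 +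
        2 * ∑ j, c j 2 * c j 3 + 2 * ∑ j, c j 2 * c j 4 + 2 * ∑ j, c j 3 * c j 4 := by
      simp only [Finset.mul_sum, ← Finset.sum_add_distrib]
      apply Finset.sum_congr rfl
      intro j _
      unfold S4; ring
    rw [e, g 1 1 n1 n1, g 2 2 n2 n2, g 3 3 n3 n3, g 4 4 n4 n4, g 1 2 n1 n2, g 1 3 n1 n3,
      g 1 4 n1 n4, g 2 3 n2 n3, g 2 4 n2 n4, g 3 4 n3 n4]
    decide
  have cr : ∀ i : ZMod 5, i ≠ 0 → ∑ j, c j i * u j = -4 := by
    intro i hi
    rw [h.cross i, if_neg hi, add_zero]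
  have hSu : ∑ j, S4 c j * u j = -16 := by
    have e : ∑ j, S4 c j * u j = ∑ j, c j 1 * u j + ∑ j, c j 2 * u j + ∑ j, c j 3 * u j +
        ∑ j, c j 4 * u j := by
      simp only [← Finset.sum_add_distrib]
      apply Finset.sum_congr rfl
      intro j _
      unfold S4; ring
    rw [e, cr 1 n1, cr 2 n2, cr 3 n3, cr 4 n4]; norm_num
  refine ⟨E, hshape, ?_, ?_, ?_, ?_, ?_, ?_, ?_, ?_, ?_, ?_, ?_, ?_, ?_⟩
  · -- out
    intro e he
    obtain ⟨j, hj, h1, h2, h3, h4⟩ := hEmem e he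
    refine ⟨hEk e he, by rw [h1, hj.1], ?_⟩
    rw [h2, h3]; exact hj.2
  · -- ok
    intro e he
    have hj : ∃ j, e.c = c j 0 ∧ e.S = S4 c j ∧ e.u = u j ∧ e.x = x j := by
      rcases List.mem_append.mp he with he | he
      · exact hmem e he
      · obtain ⟨j, -, h1⟩ := hEmem e he
        exact ⟨j, h1⟩
    obtain ⟨j, h1, h2, h3, h4⟩ := hj
    have hcong := h.cong j
    have hl0 := h.lb0 j
    have hl1 := h.lb1 j
    have hl2 := h.lb2 j
    have hl3 := h.lb3 j
    rw [ss_eq] at hcong hl1 hl2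
    rw [dd_eq] at hl3
    refine ⟨?_, ?_, ?_, ?_, ?_⟩
    · rw [h1, h2, h3, h4]; exact hcong
    · rw [h4]; exact hl0
    · rw [h1, h2, h3, h4]; exact hl1
    · rw [h1, h2, h3, h4]; exact hl2
    · unfold Ent.d; rw [h1, h2, h3, h4]; exact hl3
  · -- cu
    rw [hZJ fun a _ d _ => a * d]
    have e : ∑ j with c j 0 ≠ 0, c j 0 * u j = ∑ j, c j 0 * u j := by
      apply Finset.sum_subset (Finset.filter_subset _ _)
      intro j _ hj
      rw [Finset.mem_filter] at hj
      have : c j 0 = 0 := by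
        by_contra hne
        exact hj ⟨Finset.mem_univ _, hne⟩
      rw [this, zero_mul]
    rw [e, h.cross 0, if_pos rfl]; norm_num
  · -- SS
    rw [hZ (fun _ b _ _ => b ^ 2) fun y => by norm_num]
    exact hSS
  · rw [hZ (fun _ b d _ => b * d) fun y => by norm_num]
    exact hSu
  · rw [hZ (fun _ _ d _ => d ^ 2) fun y => by norm_num]
    exact h.normU
  · -- absS
    rw [hZE fun _ b _ _ => |b|]
    have hi : ∀ i : ZMod 5, i ≠ 0 → ∑ j with c j 0 = 0, c j i ^ 2 ≤ 4 := by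
      intro i hi
      have hex : ∃ j, c j 0 ≠ 0 ∧ c j i ≠ 0 := by
        by_contra hcon
        push Not at hcon
        have h0 := g0 i hi
        have : ∑ j, c j 0 * c j i = 0 := by
          apply Finset.sum_eq_zero
          intro j _
          by_cases hj : c j 0 = 0
          · rw [hj, zero_mul]
          · rw [hcon j hj, mul_zero]
        omega
      obtain ⟨j₀, h1, h2⟩ := hex
      have h3 : ∑ j, c j i * c j i = 5 := by rw [g i i hi hi, if_pos rfl]
      have h4 : ∑ j, c j i * c j i = ∑ j with c j 0 = 0, c j i ^ 2 +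
          ∑ j with ¬ c j 0 = 0, c j i ^ 2 := by
        rw [Finset.sum_filter_add_sum_filter_not]
        apply Finset.sum_congr rfl
        intro j _; ring
      have h5 : c j₀ i ^ 2 ≤ ∑ j with ¬ c j 0 = 0, c j i ^ 2 :=
        Finset.single_le_sum (f := fun j => c j i ^ 2) (fun j _ => sq_nonneg _)
          (by rw [Finset.mem_filter]; exact ⟨Finset.mem_univ _, h1⟩)
      have h6 : 1 ≤ c j₀ i ^ 2 := by
        have := abs_le_sq' (c j₀ i)
        have := Int.one_le_abs h2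
        omega
      omega
    have h7 : ∑ j with PE c u j, |S4 c j| ≤ ∑ j with c j 0 = 0,
        (c j 1 ^ 2 + c j 2 ^ 2 + c j 3 ^ 2 + c j 4 ^ 2) := by
      have h8 : ∑ j with PE c u j, |S4 c j| ≤ ∑ j with c j 0 = 0, |S4 c j| := by
        apply Finset.sum_le_sum_of_subset_of_nonneg
        · intro j hj
          rw [Finset.mem_filter] at hj ⊢
          exact ⟨hj.1, hj.2.1⟩
        · intro j _ _; exact abs_nonneg _
      refine h8.trans (Finset.sum_le_sum fun j _ => ?_)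
      have a1 := abs_le_sq' (c j 1)
      have a2 := abs_le_sq' (c j 2)
      have a3 := abs_le_sq' (c j 3)
      have a4 := abs_le_sq' (c j 4)
      have b : |S4 c j| ≤ |c j 1| + |c j 2| + |c j 3| + |c j 4| := by
        unfold S4
        refine (abs_add_le _ _).trans ?_
        gcongr
        refine (abs_add_le _ _).trans ?_
        gcongr
        exact abs_add_le _ _
      omega
    refine h7.trans ?_
    rw [Finset.sum_add_distrib, Finset.sum_add_distrib, Finset.sum_add_distrib]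
    have := hi 1 n1
    have := hi 2 n2
    have := hi 3 n3
    have := hi 4 n4
    omega
  · -- deg0
    have e := hZ (fun a _ _ y => a * y) fun y => by norm_num
    simp only [← mul_assoc] at e
    rw [e, h.deg 0, if_pos rfl]
  · have e := hZ (fun _ b _ y => b * y) fun y => by norm_num
    simp only [← mul_assoc] at e
    rw [e]
    have e2 : ∑ j, S4 c j * x j = ∑ j, c j 1 * x j + ∑ j, c j 2 * x j + ∑ j, c j 3 * x j +
        ∑ j, c j 4 * x j := by
      simp only [← Finset.sum_add_distrib]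
      apply Finset.sum_congr rfl
      intro j _
      unfold S4; ring
    rw [e2, h.deg 1, h.deg 2, h.deg 3, h.deg 4, if_neg n1, if_neg n2, if_neg n3, if_neg n4]
    norm_num
  · have e := hZ (fun _ _ d y => d * y) fun y => by norm_num
    simp only [← mul_assoc] at e
    rw [e, h.degU]
  · -- rel
    have e := htot (fun a b d y => (((4 * a - b) * (-5 * d - 4 * (a + b)) ^ 2 : ℤ) : ℚ) / (y : ℚ))
      fun y => by norm_num
    have e1 : ((J ++ E).map fun e => ((e.k * (4 * e.c - e.S) * e.d ^ 2 : ℤ) : ℚ) / (e.x : ℚ)) =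
        ((J ++ E).map fun e => (e.k : ℚ) *
          ((((4 * e.c - e.S) * (-5 * e.u - 4 * (e.c + e.S)) ^ 2 : ℤ) : ℚ) / (e.x : ℚ))) := by
      apply List.map_congr_left
      intro e _
      unfold Ent.d
      push_cast; ring
    rw [e1, e]
    have e2 : ∑ j, (((4 * c j 0 - S4 c j) * (-5 * u j - 4 * (c j 0 + S4 c j)) ^ 2 : ℤ) : ℚ) /
        (x j : ℚ) =
        ∑ j, ((c j 0 - c j 1 : ℤ) : ℚ) * ((dd c u j : ℤ) : ℚ) ^ 2 / (x j : ℚ) +
        ∑ j, ((c j 0 - c j 2 : ℤ) : ℚ) * ((dd c u j : ℤ) : ℚ) ^ 2 / (x j : ℚ) +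
        ∑ j, ((c j 0 - c j 3 : ℤ) : ℚ) * ((dd c u j : ℤ) : ℚ) ^ 2 / (x j : ℚ) +
        ∑ j, ((c j 0 - c j 4 : ℤ) : ℚ) * ((dd c u j : ℤ) : ℚ) ^ 2 / (x j : ℚ) := by
      simp only [← Finset.sum_add_distrib]
      apply Finset.sum_congr rfl
      intro j _
      rw [dd_eq]
      unfold S4
      push_cast
      ring
    rw [e2, h.rel 1 n1, h.rel 2 n2, h.rel 3 n3, h.rel 4 n4]
    norm_num
  · -- relU
    have e := htot (fun a b d y => ((d * (-5 * d - 4 * (a + b)) ^ 2 : ℤ) : ℚ) / (y : ℚ))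
      fun y => by norm_num
    have e1 : ((J ++ E).map fun e => ((e.k * e.u * e.d ^ 2 : ℤ) : ℚ) / (e.x : ℚ)) =
        ((J ++ E).map fun e => (e.k : ℚ) *
          (((e.u * (-5 * e.u - 4 * (e.c + e.S)) ^ 2 : ℤ) : ℚ) / (e.x : ℚ))) := by
      apply List.map_congr_left
      intro e _
      unfold Ent.d
      push_cast; ring
    rw [e1, e, ← h.relU]
    apply Finset.sum_congr rfl
    intro j _
    rw [dd_eq]
    push_cast; ring
  · -- neg
    have e := htot (fun a b d y => ((a * (-5 * d - 4 * (a + b)) ^ 2 : ℤ) : ℚ) / (y : ℚ))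
      fun y => by norm_num
    have e1 : ((J ++ E).map fun e => ((e.k * e.c * e.d ^ 2 : ℤ) : ℚ) / (e.x : ℚ)) =
        ((J ++ E).map fun e => (e.k : ℚ) *
          (((e.c * (-5 * e.u - 4 * (e.c + e.S)) ^ 2 : ℤ) : ℚ) / (e.x : ℚ))) := by
      apply List.map_congr_left
      intro e _
      unfold Ent.d
      push_cast; ring
    rw [e1, e]
    have e2 : ∑ j, (((c j 0) * (-5 * u j - 4 * (c j 0 + S4 c j)) ^ 2 : ℤ) : ℚ) / (x j : ℚ) =
        ∑ j, (c j 0 : ℚ) * ((dd c u j : ℤ) : ℚ) ^ 2 / (x j : ℚ) := by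
      apply Finset.sum_congr rfl
      intro j _
      rw [dd_eq]
      push_cast; ring
    rw [e2]
    exact h.neg

end Cfsg.Agent.TwoFusion.U34
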