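import Mathlib
import Cfsg.Agent.TwoFusion.U34CombA
import Cfsg.Agent.TwoFusion.U34CombC

/-!
# From the rows to a configuration
-/

set_option autoImplicit false

namespace Cfsg.Agent.TwoFusion.U34

/-- The rows form a configuration. -/
theorem exists_conf {ι : Type*} [Fintype ι] {c : ι → ZMod 5 → ℤ} {u x : ι → ℤ}
    {σ : Equiv.Perm ι} (h : Rows c u x σ) : ∃ J E, Conf J E := by
  obtain ⟨J, hs, hm, hsum⟩ := h.exists_J
  obtain ⟨E, hE⟩ := h.conf_of J hs hm hsum
  exact ⟨J, E, hE⟩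

end Cfsg.Agent.TwoFusion.U34
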