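import Mathlib
import Cfsg.Prelude.Def_Characters
import Cfsg.Prelude.Def_Blocks
import Cfsg.Agent.Characters.Core
import Cfsg.Agent.Blocks.Basic
import Cfsg.Agent.Blocks.Deflate
import Cfsg.Agent.Blocks.UniqueBlock
import Cfsg.Agent.Blocks.PrincipalSection
import Cfsg.Agent.Blocks.SectionSum
import Cfsg.Agent.S0923
import Cfsg.Agent.S0941
import Cfsg.Agent.Classification.BGBlockB0
import Cfsg.Agent.Classification.RTwo.General

/-!
# Functions induced from the centraliser of an involution and the principal 2-block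

* `section_sum_eq_zero`: `x` a `p`-element, `H = C(x)`, `N` a normal subgroup of `H` such that `H ⧸ N`
  has only one `p`-block, `g` a class function of `H` constant on the cosets of `N` and vanishing off the
  `p`-regular elements: `∑ y, g y * conj (χ (x * y)) = 0` for `χ` outside the principal block of `G`.
* `classInner_ind_eq_zero`: in the situation of `RTwo.General.Hyp`, if `Q` has a self-centralising normal
  2-subgroup and `C_Q(q)` is a 2-group for the 2-elements `q ≠ z` having `z` as a power, then all the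
  constituents of the functions induced from the `b ∘ π` are in the principal 2-block.
-/

set_option autoImplicit false
set_option linter.unusedSectionVars false

namespace Cfsg.Agent.TwoFusion.U34Mem

open Cfsg Cfsg.Agent.Characters Cfsg.Agent.Blocks
open scoped ComplexConjugate

universe u v

section Coset

variable {H : Type*} [Group H] [Finite H]

theorem sum_irr_coset (N : Subgroup H) [N.Normal] [Fintype N] {ξ : H → ℂ}
    (hξ : IsIrrCharacter H ξ) (y : H) :
    (∑ n : N, ξ ((n : H) * y)) * ξ 1 = (∑ n : N, ξ n) * ξ y := by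
  obtain ⟨n, ρ, hρ, rfl⟩ := hξ
  set P : Module.End ℂ (Fin n → ℂ) := ∑ m : N, ρ m with hP
  have hcomm : ∀ g, P * ρ g = ρ g * P := by
    intro g
    rw [hP, Finset.sum_mul, Finset.mul_sum]
    refine Fintype.sum_equiv (MulAut.conjNormal g⁻¹ : MulAut N).toEquiv _ _ fun m => ?_
    rw [← map_mul, ← map_mul]
    congr 1
    simp only [MulEquiv.toEquiv_eq_coe, EquivLike.coe_coe, MulAut.conjNormal_apply]
    group
  obtain ⟨c, hc⟩ := Cfsg.Agent.Characters.Central.exists_smul_of_comm ρ hρ P hcomm
  have h1 : ∀ g : H, ∑ m : N, ρ.character ((m : H) * g) = c * ρ.character g := by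
    intro g
    have h2 : LinearMap.trace ℂ _ (P * ρ g) = ∑ m : N, ρ.character ((m : H) * g) := by
      rw [hP, Finset.sum_mul, map_sum]
      refine Finset.sum_congr rfl fun m _ => ?_
      rw [← map_mul]
      rfl
    rw [← h2, hc, smul_mul_assoc, one_mul, map_smul]
    rfl
  have h3 := h1 1
  simp only [mul_one] at h3
  rw [h1, h3]
  ring

theorem classInner_eq_zero_of_sum [Fintype H] (N : Subgroup H) [N.Normal] [Fintype N] {ξ : H → ℂ}
    (hξ : IsIrrCharacter H ξ) (hsum : ∑ n : N, ξ n = 0) {g : H → ℂ}
    (hg : ∀ n ∈ N, ∀ y, g (n * y) = g y) : classInner g ξ = 0 := by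
  have h1 : ∀ y, ∑ n : N, ξ ((n : H) * y) = 0 := by
    intro y
    have h2 := sum_irr_coset N hξ y
    rw [hsum, zero_mul] at h2
    exact (mul_eq_zero.1 h2).resolve_right (Core.isIrr_apply_one_ne_zero hξ)
  have h2 : ∑ n : N, ∑ y : H, g y * conj (ξ ((n : H) * y)) = 0 := by
    rw [Finset.sum_comm]
    refine Finset.sum_eq_zero fun y _ => ?_
    rw [← Finset.mul_sum, ← map_sum, h1, map_zero, mul_zero]
  have h3 : ∀ n : N, ∑ y : H, g y * conj (ξ ((n : H) * y)) = ∑ y : H, g y * conj (ξ y) := by
    intro n
    refine Fintype.sum_equiv (Equiv.mulLeft (n : H)) _ _ fun y => ?_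
    rw [Equiv.coe_mulLeft, hg n n.2]
  rw [Finset.sum_congr rfl (fun n _ => h3 n), Finset.sum_const, Finset.card_univ, nsmul_eq_mul] at h2
  have h4 : (Fintype.card N : ℂ) ≠ 0 := by exact_mod_cast Fintype.card_ne_zero
  rw [Core.classInner_def, (mul_eq_zero.1 h2).resolve_left h4, mul_zero]

end Coset

section Section

variable {G : Type u} [Group G] [Finite G] {p : ℕ} [hp : Fact p.Prime] {M : Ideal AlgInt}

theorem not_isInducedBlock (hM : IsPModular p M) (x : G) (hx : ∃ k : ℕ, orderOf x = p ^ k)
    {χ : IrrCharacter G} (hχ : χ ∉ principalBlock M G) :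
    ¬ IsInducedBlock M (Subgroup.centralizer ({x} : Set G))
      (principalBlock M (Subgroup.centralizer ({x} : Set G))) (blockOf M (χ : G → ℂ)) := by
  have hMp := Local.isPrime_of_isPModular hM
  intro h
  have h1 : IsInducedBlock M (Subgroup.centralizer ({x} : Set G))
      (principalBlock M (Subgroup.centralizer ({x} : Set G))) (principalBlock M G) :=
    (PrincipalSection.mem_principalBlock_iff_induced hM x hx rfl
      ⟨fun _ => 1, Basic.isIrrCharacter_one⟩).1 PrincipalSection.one_mem_principalBlock
  apply hχ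
  intro g
  have h2 := h.2.2 ⟨fun _ => 1, Basic.isIrrCharacter_one⟩ PrincipalSection.one_mem_principalBlock χ
    (Basic.sameBlock_refl _) g
  have h3 := h1.2.2 ⟨fun _ => 1, Basic.isIrrCharacter_one⟩ PrincipalSection.one_mem_principalBlock
    ⟨fun _ => 1, Basic.isIrrCharacter_one⟩ PrincipalSection.one_mem_principalBlock g
  exact Local.memLocalIdeal_sub_trans (Local.memLocalIdeal_sub_comm h3) h2

theorem section_sum_eq_zero (hM : IsPModular p M) (x : G) (hx : ∃ k : ℕ, orderOf x = p ^ k)
    {χ : IrrCharacter G} (hχ : χ ∉ principalBlock M G)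
    [Fintype (Subgroup.centralizer ({x} : Set G))]
    (N : Subgroup (Subgroup.centralizer ({x} : Set G))) [N.Normal]
    (hone : ∀ ξ : IrrCharacter (Subgroup.centralizer ({x} : Set G) ⧸ N),
      SameBlock M (fun _ => (1 : ℂ)) ξ.1)
    {g : Subgroup.centralizer ({x} : Set G) → ℂ} (hg : IsClassFunction _ g)
    (hgN : ∀ n ∈ N, ∀ y, g (n * y) = g y) (hg0 : ∀ y, p ∣ orderOf y → g y = 0) :
    ∑ y : Subgroup.centralizer ({x} : Set G), g y * conj ((χ : G → ℂ) (x * (y : G))) = 0 := by
  classical
  have hMp := Local.isPrime_of_isPModular hM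
  have hfin : Finite (IrrCharacter (Subgroup.centralizer ({x} : Set G))) := Core.finite_irr
  have := Fintype.ofFinite (IrrCharacter (Subgroup.centralizer ({x} : Set G)))
  have := Fintype.ofFinite N
  set b := principalBlock M (Subgroup.centralizer ({x} : Set G)) with hb
  -- the constituents of `g` are in the principal block
  have h1 : ∀ ξ : IrrCharacter (Subgroup.centralizer ({x} : Set G)), ξ ∉ b →
      classInner g ξ.1 = 0 := by
    intro ξ hξ
    refine classInner_eq_zero_of_sum N ξ.2 ?_ hgN
    by_contra hne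
    obtain ⟨ξ', hξ'⟩ := Deflate.exists_deflation N ξ.1 ξ.2 hne
    apply hξ
    have h2 := S0941.sameBlock_inflate N (hone ξ')
    rw [← hξ'] at h2
    exact h2
  set ϑ : Subgroup.centralizer ({x} : Set G) → ℂ := fun c => (χ : G → ℂ) (x * (c : G)) with hϑ
  have hϑc : IsClassFunction _ ϑ := by
    intro c k
    simp only [hϑ]
    have hk : (k : G) * x = x * k := Subgroup.mem_centralizer_singleton_iff.mp k.2
    have h2 : x * (((k * c * k⁻¹ : Subgroup.centralizer ({x} : Set G)) : G)) =
        (k : G) * (x * (c : G)) * (k : G)⁻¹ := by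
      push_cast
      rw [← mul_assoc, ← mul_assoc, ← hk]
      group
    rw [h2]
    exact Core.isIrr_isClassFunction χ.2 _ _
  -- the block part of `ϑ`
  have h2 : ∀ y : Subgroup.centralizer ({x} : Set G), ¬ p ∣ orderOf y →
      blockPart b ϑ y = 0 := by
    intro y hy
    exact S0923.result p M hM x hx (blockOf M (χ : G → ℂ)) ⟨χ, rfl⟩ χ (Basic.sameBlock_refl _) b
      PrincipalSection.isPBlock_principalBlock (not_isInducedBlock hM x hx hχ) y hy
  have h3 : classInner g (fun y => ∑ ξ : IrrCharacter (Subgroup.centralizer ({x} : Set G)) with ξ ∈ b,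
      classInner ϑ ξ.1 * ξ.1 y) = 0 := by
    rw [Core.classInner_def, Finset.sum_eq_zero, mul_zero]
    intro y _
    by_cases hy : p ∣ orderOf y
    · rw [hg0 y hy, zero_mul]
    · have h4 := h2 y hy
      rw [Classification.BGBlockB0.blockPart_sum] at h4
      rw [h4, map_zero, mul_zero]
  have h4 : classInner g ϑ = 0 := by
    rw [Core.classInner_eq_sum hg hϑc]
    have h5 : (fun y => ∑ ξ : IrrCharacter (Subgroup.centralizer ({x} : Set G)) with ξ ∈ b,
        classInner ϑ ξ.1 * ξ.1 y) =
        ∑ ξ : IrrCharacter (Subgroup.centralizer ({x} : Set G)) with ξ ∈ b,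
          classInner ϑ ξ.1 • ξ.1 := by
      funext y
      rw [Finset.sum_apply]
      rfl
    rw [h5, Core.classInner_sum_right] at h3
    rw [← h3]
    symm
    refine Finset.sum_subset_zero_on_sdiff (Finset.filter_subset _ _) ?_ ?_
    · intro ξ hξ
      simp only [Finset.mem_sdiff, Finset.mem_univ, Finset.mem_filter, true_and] at hξ
      rw [h1 ξ hξ, zero_mul]
    · intro ξ hξ
      rw [Core.classInner_smul_right]
      ring
  rw [Core.classInner_def] at h4
  exact (mul_eq_zero.1 h4).resolve_left (inv_ne_zero Core.card_ne_zero_complex)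

end Section

section Main

open Cfsg.Agent.Classification.RTwo.General Cfsg.Agent.Classification.BGIsometry

variable {G : Type u} [Group G] {Q : Type v} [Group Q] {t : G} {z : Q}
  {π : (Subgroup.centralizer ({t} : Set G)) →* Q}

theorem two_dvd_orderOf_iff [Finite G] (h : Hyp t z π) (y : Subgroup.centralizer ({t} : Set G)) :
    2 ∣ orderOf y ↔ 2 ∣ orderOf (π y) := by
  refine ⟨fun h2 => ?_, fun h2 => h2.trans (orderOf_map_dvd π y)⟩
  by_contra hn
  have h1 : π (y ^ orderOf (π y)) = 1 := by rw [map_pow, pow_orderOf_eq_one]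
  have h3 : (y ^ orderOf (π y)) ^ Nat.card π.ker = 1 :=
    congrArg Subtype.val (pow_card_eq_one' (x := (⟨y ^ orderOf (π y), h1⟩ : π.ker)))
  rw [← pow_mul] at h3
  have h4 : 2 ∣ orderOf (π y) * Nat.card π.ker := h2.trans (orderOf_dvd_of_pow_eq_one h3)
  rcases (Nat.Prime.dvd_mul Nat.prime_two).1 h4 with h5 | h5
  · exact hn h5
  · have := h.odd_ker
    rw [← Nat.not_even_iff_odd] at this
    exact this (even_iff_two_dvd.2 h5)

theorem mem_zpowers_of_mul {z α β : Q} (hz : z * z = 1) (hc : Commute α β)
    (hβ : ¬ 2 ∣ orderOf β) (h : z ∈ Subgroup.zpowers (α * β)) : z ∈ Subgroup.zpowers α := by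
  obtain ⟨k, hk⟩ := Subgroup.mem_zpowers_iff.1 h
  have hodd : Odd (orderOf β) := by
    rw [← Nat.not_even_iff_odd, even_iff_two_dvd]
    exact hβ
  have h1 : z ^ orderOf β = z := by
    obtain ⟨m, hm⟩ := hodd
    rw [hm, pow_succ, pow_mul, sq, hz, one_pow, one_mul]
  refine Subgroup.mem_zpowers_iff.2 ⟨k * orderOf β, ?_⟩
  have h2 : (β ^ k) ^ orderOf β = 1 := by
    rw [← zpow_natCast, ← zpow_mul, mul_comm, zpow_mul, zpow_natCast, pow_orderOf_eq_one, one_zpow]
  calc α ^ (k * orderOf β) = (α ^ k) ^ orderOf β := by rw [zpow_mul, zpow_natCast]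
    _ = (α ^ k) ^ orderOf β * (β ^ k) ^ orderOf β := by rw [h2, mul_one]
    _ = (α ^ k * β ^ k) ^ orderOf β := ((hc.zpow_zpow k k).mul_pow _).symm
    _ = z ^ orderOf β := by rw [← hc.mul_zpow, hk]
    _ = z := h1

/-- One block for the quotient of a subgroup mapping into a 2-group. -/
theorem sameBlock_of_range {H : Type*} [Group H] [Finite H] {M : Ideal AlgInt}
    (hM : IsPModular 2 M) (φ : H →* Q) (h2 : IsPGroup 2 φ.range) (ξ : IrrCharacter (H ⧸ φ.ker)) :
    SameBlock M (fun _ => (1 : ℂ)) ξ.1 := by
  have h3 : IsPGroup 2 (H ⧸ φ.ker) := h2.of_equiv (QuotientGroup.quotientKerEquivRange φ).symm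
  have h4 : IsPGroup 2 (⊤ : Subgroup (H ⧸ φ.ker)) := h3.to_subgroup _
  exact UniqueBlock.sameBlock_of_centralizer_le hM ⊤ h4 le_top ⟨fun _ => 1, Basic.isIrrCharacter_one⟩ ξ

/-- One block for the quotient of a group mapping onto a group with one block. -/
theorem sameBlock_of_surjective {H : Type*} [Group H] [Finite H] {M : Ideal AlgInt}
    (hM : IsPModular 2 M) (φ : H →* Q) (hφ : Function.Surjective φ) {P : Subgroup Q}
    (hPn : P.Normal) (hP : IsPGroup 2 P) (hPc : Subgroup.centralizer (P : Set Q) ≤ P)
    (ξ : IrrCharacter (H ⧸ φ.ker)) :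
    SameBlock M (fun _ => (1 : ℂ)) ξ.1 := by
  let e : H ⧸ φ.ker ≃* Q := QuotientGroup.quotientKerEquivOfSurjective φ hφ
  have h1 : (P.comap e.toMonoidHom).Normal := hPn.comap _
  have h2 : IsPGroup 2 (P.comap e.toMonoidHom) := hP.comap_of_injective _ e.injective
  refine UniqueBlock.sameBlock_of_centralizer_le hM (P.comap e.toMonoidHom) h2 ?_
    ⟨fun _ => 1, Basic.isIrrCharacter_one⟩ ξ
  intro x hx
  rw [Subgroup.mem_comap]
  apply hPc
  rw [Subgroup.mem_centralizer_iff] at hx ⊢
  intro y hy
  have h3 : e.symm y ∈ ((P.comap e.toMonoidHom : Subgroup (H ⧸ φ.ker)) : Set (H ⧸ φ.ker)) := by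
    show e (e.symm y) ∈ P
    rw [MulEquiv.apply_symm_apply]
    exact hy
  have h4 := congrArg e (hx _ h3)
  rw [map_mul, map_mul, MulEquiv.apply_symm_apply] at h4
  exact h4

theorem classInner_ind_eq_zero [Fintype G] {M : Ideal AlgInt} (hM : IsPModular 2 M)
    (h : Hyp t z π) {P : Subgroup Q} (hPn : P.Normal) (hP : IsPGroup 2 P)
    (hPc : Subgroup.centralizer (P : Set Q) ≤ P)
    (hcen : ∀ q ∈ DD z, q ≠ z → IsPGroup 2 (Subgroup.centralizer ({q} : Set Q)))
    {b : Q → ℂ} (hb : IsClassFunction Q b) (hb0 : ∀ q, b q ≠ 0 → z ∈ Subgroup.zpowers q)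
    {χ : IrrCharacter G} (hχ : χ ∉ principalBlock M G) :
    classInner (indFun (Subgroup.centralizer ({t} : Set G)) (fun x => b (π x))) (χ : G → ℂ) = 0 := by
  classical
  have : Fact (Nat.Prime 2) := ⟨Nat.prime_two⟩
  let _ : Fintype (Subgroup.centralizer ({t} : Set G)) := Fintype.ofFinite _
  rw [classInner_indFun_left _ _ (Core.isIrr_isClassFunction χ.2), Core.classInner_def,
    SectionSum.sum_eq_sum_sections 2, Finset.sum_eq_zero, mul_zero]
  intro x hx
  rw [Finset.mem_filter] at hx
  obtain ⟨k, hk⟩ := hx.2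
  by_cases hz : z ∈ Subgroup.zpowers (π x)
  · -- the section of `x`
    have htx : t ∈ Subgroup.zpowers (x : G) := mem_zpowers_of_map h hz
    have hle : Subgroup.centralizer ({(x : G)} : Set G) ≤ Subgroup.centralizer ({t} : Set G) := by
      intro y hy
      rw [Subgroup.mem_centralizer_singleton_iff] at hy ⊢
      obtain ⟨k, hk⟩ := Subgroup.mem_zpowers_iff.1 htx
      have hy' : Commute y (x : G) := hy
      rw [← hk]
      exact (hy'.zpow_right k).eq
    let _ : Fintype (Subgroup.centralizer ({(x : G)} : Set G)) := Fintype.ofFinite _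
    set φ : Subgroup.centralizer ({(x : G)} : Set G) →* Q := π.comp (Subgroup.inclusion hle) with hφ
    have hφa : ∀ y, φ y = π (Subgroup.inclusion hle y) := fun y => rfl
    set g : Subgroup.centralizer ({(x : G)} : Set G) → ℂ := fun y =>
      if 2 ∣ orderOf (φ y) then 0 else b (π x * φ y) with hg
    have hxc : ∀ y : Subgroup.centralizer ({(x : G)} : Set G),
        Commute x (Subgroup.inclusion hle y) := by
      intro y
      have h1 := Subgroup.mem_centralizer_singleton_iff.mp y.2
      exact Subtype.ext h1.symm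
    have hxc' : ∀ y : Subgroup.centralizer ({(x : G)} : Set G), Commute (π x) (φ y) :=
      fun y => (hxc y).map π
    have hpx : π x ∈ DD z := ⟨hz, k, by rw [← map_pow, ← hk, pow_orderOf_eq_one, map_one]⟩
    have key : ∑ y : Subgroup.centralizer ({(x : G)} : Set G),
        g y * conj ((χ : G → ℂ) ((x : G) * (y : G))) = 0 := by
      refine section_sum_eq_zero hM (x : G) ⟨k, by rw [Subgroup.orderOf_coe]; exact hk⟩ hχ φ.ker
        ?_ ?_ ?_ ?_
      · by_cases hxz : π x = z
        · have hxt : x = tt t := by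
            have h1 : π (x * tt t) = 1 := by rw [map_mul, hxz, map_tt h, z_mul_z h]
            have h2 : x * tt t = 1 := by
              refine eq_one_of_ker h h1 (m := k + 1) ?_
              have h3 : Commute x (tt t) := (tt_comm x).symm
              rw [h3.mul_pow, pow_succ, pow_mul, ← hk, pow_orderOf_eq_one, one_pow, one_mul,
                pow_mul', sq, tt_mul_tt h, one_pow]
            calc x = x * (tt t * tt t) := by rw [tt_mul_tt h, mul_one]
              _ = tt t := by rw [← mul_assoc, h2, one_mul]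
          refine sameBlock_of_surjective hM φ ?_ hPn hP hPc
          intro q
          obtain ⟨y, rfl⟩ := h.surj q
          have hy : (y : G) ∈ Subgroup.centralizer ({(x : G)} : Set G) := by
            rw [hxt]
            exact y.2
          exact ⟨⟨y, hy⟩, rfl⟩
        · refine sameBlock_of_range hM φ ?_
          refine (hcen _ hpx hxz).to_le ?_
          rintro _ ⟨y, rfl⟩
          rw [Subgroup.mem_centralizer_singleton_iff]
          exact (hxc' y).eq.symm
      · intro y c
        simp only [hg]
        have h1 : φ (c * y * c⁻¹) = φ c * φ y * (φ c)⁻¹ := by rw [map_mul, map_mul, map_inv]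
        have h2 : orderOf (φ c * φ y * (φ c)⁻¹) = orderOf (φ y) :=
          Cfsg.Agent.Classification.BGIsometry.orderOf_conj _ _
        have h3 : π x * (φ c * φ y * (φ c)⁻¹) = φ c * (π x * φ y) * (φ c)⁻¹ := by
          rw [← mul_assoc, ← mul_assoc, (hxc' c).eq]
          group
        rw [h1, h2, h3, hb]
      · intro n hn y
        simp only [hg]
        rw [map_mul, MonoidHom.mem_ker.1 hn, one_mul]
      · intro y hy
        simp only [hg]
        rw [if_pos]
        have h1 : orderOf y = orderOf (Subgroup.inclusion hle y) :=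
          (orderOf_injective _ (Subgroup.inclusion_injective hle) y).symm
        rw [h1] at hy
        exact (two_dvd_orderOf_iff h _).1 hy
    rw [← key]
    symm
    rw [← Finset.sum_filter_add_sum_filter_not Finset.univ
      (fun y : Subgroup.centralizer ({(x : G)} : Set G) => 2 ∣ orderOf (φ y)), Finset.sum_eq_zero,
      zero_add]
    · refine Finset.sum_bij (fun y _ => Subgroup.inclusion hle y) ?_ ?_ ?_ ?_
      · intro y hy
        rw [Finset.mem_filter] at hy ⊢
        exact ⟨Finset.mem_univ _, hxc y, fun h1 => hy.2 ((two_dvd_orderOf_iff h _).1 h1)⟩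
      · intro y _ y' _ hyy
        exact Subgroup.inclusion_injective hle hyy
      · intro y hy
        rw [Finset.mem_filter] at hy
        have h1 : (y : G) ∈ Subgroup.centralizer ({(x : G)} : Set G) := by
          rw [Subgroup.mem_centralizer_singleton_iff]
          have := congrArg Subtype.val hy.2.1.eq
          exact this.symm
        refine ⟨⟨y, h1⟩, ?_, rfl⟩
        rw [Finset.mem_filter]
        exact ⟨Finset.mem_univ _, fun h2 => hy.2.2 ((two_dvd_orderOf_iff h _).2 h2)⟩
      · intro y hy
        rw [Finset.mem_filter] at hy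
        simp only [hg]
        rw [if_neg hy.2, map_mul, hφa]
        rfl
    · intro y hy
      rw [Finset.mem_filter] at hy
      simp only [hg]
      rw [if_pos hy.2, zero_mul]
  · refine Finset.sum_eq_zero fun y hy => ?_
    rw [Finset.mem_filter] at hy
    have h1 : b (π (x * y)) = 0 := by
      by_contra hne
      have h2 := hb0 _ hne
      rw [map_mul] at h2
      refine hz (mem_zpowers_of_mul (z_mul_z h) (hy.2.1.map π) ?_ h2)
      intro h3
      exact hy.2.2 (h3.trans (orderOf_map_dvd π y))
    rw [h1, zero_mul]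

end Main

end Cfsg.Agent.TwoFusion.U34Mem
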