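import Mathlib
import Cfsg.Prelude.Def_Characters
import Cfsg.Agent.Characters.Core
import Cfsg.Agent.Characters.Values
import Cfsg.Agent.Characters.GaloisBasic
import Cfsg.Agent.Characters.Central
import Cfsg.Agent.Characters.Brauer
import Cfsg.Agent.Characters.Linear

/-!
# The group `S:5` of order 320, `S` a Sylow 2-subgroup of `U₃(4)`

`QHyp S A z`: `Q` of order 320, `S` normal of order 64, `A ≤ S` of order 4 central in `Q`, ...
We study the generalised characters of `Q` vanishing outside the `z`-section.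
-/

set_option autoImplicit false
set_option linter.unusedSectionVars false

namespace Cfsg.Agent.TwoFusion.U34Q

open Cfsg Cfsg.Agent.Characters
open scoped ComplexConjugate

universe u

variable {Q : Type u} [Group Q]

/-- `Q = S:5` with `S` of order 64, `A = Z(S)` of order 4 central in `Q`, `1 ≠ z ∈ A`. -/
structure QHyp (S A : Subgroup Q) (z : Q) : Prop where
  card_Q : Nat.card Q = 320
  normal : S.Normal
  card_S : Nat.card S = 64
  A_le : A ≤ S
  card_A : Nat.card A = 4
  central : ∀ a ∈ A, ∀ q : Q, a * q = q * a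
  z_mem : z ∈ A
  z_ne : z ≠ 1
  sq_one : ∀ a ∈ A, a * a = 1
  sq_mem : ∀ s ∈ S, s * s ∈ A
  inv : ∀ s ∈ S, s * s = 1 → s ∈ A
  surj : ∀ s ∈ S, s ∉ A → ∀ a ∈ A, ∃ u ∈ S, u * s * u⁻¹ = s * a
  fpf : ∀ y : Q, orderOf y = 5 → ∀ s ∈ S, s * y = y * s → s ∈ A
  sq_z : Nat.card {s : Q // s ∈ S ∧ s * s = z} = 20

section General

variable [Finite Q]

/-- A representation with `ρ(u)² = 1` and `det ρ(u) = 1`: the trace is congruent to the degree
modulo 4. -/
theorem exists_sub_four {χ : Q → ℂ} (hχ : IsCharacter Q χ) {u : Q} (hu : χ (u * u) = χ 1)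
    (hlin : ∀ f : Q →* ℂˣ, f u = 1) : ∃ m n : ℤ, χ 1 = n ∧ χ u = n - 4 * m := by
  classical
  obtain ⟨n, ρ, rfl⟩ := hχ
  have hf : (ρ u) ^ 2 = 1 := by
    rw [← map_pow, sq]
    exact (Values.character_eq_finrank_iff ρ (u * u)).mp (by rw [hu, Representation.char_one])
  obtain ⟨b, μ, h1, h2⟩ := GaloisBasic.exists_basis_eigenvectors (ρ u) two_ne_zero hf
  have hdet : ∏ i, μ i = 1 := by
    have h3 : LinearMap.toMatrix b b (ρ u) = Matrix.diagonal μ := by
      ext i j
      rw [LinearMap.toMatrix_apply, h1, map_smul, Finsupp.smul_apply, Module.Basis.repr_self,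
        Matrix.diagonal_apply, Finsupp.single_apply]
      by_cases hij : i = j
      · rw [if_pos hij, if_pos hij.symm, hij]; simp
      · rw [if_neg hij, if_neg (Ne.symm hij)]; simp
    have h4 : LinearMap.det (ρ u) = ∏ i, μ i := by
      rw [← LinearMap.det_toMatrix b, h3, Matrix.det_diagonal]
    rw [← h4]
    have h5 := hlin (LinearMap.det.comp ρ).toHomUnits
    have h6 := congrArg (fun f : ℂˣ => ((f : ℂˣ) : ℂ)) h5
    simp only [MonoidHom.coe_toHomUnits] at h6
    exact h6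
  have htr : ρ.character u = ∑ i, μ i := by
    have h3 := GaloisBasic.trace_pow_of_basis (ρ u) b μ h1 1
    rw [pow_one] at h3
    rw [Representation.character, h3]
    simp only [pow_one]
  have hk : ∀ i, ∃ k : ℕ, μ i = (-1) ^ k ∧ k ≤ 1 := by
    intro i
    have h3 : (μ i - 1) * (μ i + 1) = 0 := by linear_combination h2 i
    rcases mul_eq_zero.1 h3 with h | h
    · exact ⟨0, by rw [pow_zero]; exact sub_eq_zero.1 h, by norm_num⟩
    · exact ⟨1, by rw [pow_one]; exact eq_neg_of_add_eq_zero_left h, le_refl _⟩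
  choose k hk hk1 using hk
  have hsum : ∀ i, μ i = 1 - 2 * (k i : ℂ) := by
    intro i
    have := hk1 i
    rw [hk i]
    interval_cases k i <;> norm_num
  have hprod : (-1 : ℂ) ^ (∑ i, k i) = 1 := by
    rw [← Finset.prod_pow_eq_pow_sum]
    refine Eq.trans ?_ hdet
    exact Finset.prod_congr rfl fun i _ => (hk i).symm
  have heven : Even (∑ i, k i) := by
    by_contra ho
    rw [Nat.not_even_iff_odd] at ho
    rw [ho.neg_one_pow] at hprod
    norm_num at hprod
  obtain ⟨m, hm⟩ := heven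
  refine ⟨m, n, ?_, ?_⟩
  · rw [Representation.char_one]; simp
  · rw [htr, Finset.sum_congr rfl fun i _ => hsum i, Finset.sum_sub_distrib, ← Finset.mul_sum,
      ← Nat.cast_sum, hm]
    push_cast
    simp
    ring

end General

namespace QHyp

variable {S A : Subgroup Q} {z : Q}

theorem A_normal (h : QHyp S A z) : A.Normal :=
  ⟨fun a ha q => by rw [← h.central a ha q, mul_inv_cancel_right]; exact ha⟩

theorem z_S (h : QHyp S A z) : z ∈ S := h.A_le h.z_mem

theorem z_sq (h : QHyp S A z) : z * z = 1 := h.sq_one z h.z_mem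

theorem z_comm (h : QHyp S A z) (q : Q) : Commute z q := h.central z h.z_mem q

theorem card_quot (h : QHyp S A z) : Nat.card (Q ⧸ S) = 5 := by
  have h1 := Subgroup.card_eq_card_quotient_mul_card_subgroup S
  rw [h.card_Q, h.card_S] at h1
  omega

theorem finite (h : QHyp S A z) : Finite Q :=
  Nat.finite_of_card_ne_zero (by rw [h.card_Q]; norm_num)

theorem pow_four (h : QHyp S A z) {s : Q} (hs : s ∈ S) : s ^ 4 = 1 := by
  have h1 := h.sq_one _ (h.sq_mem s hs)
  calc s ^ 4 = (s * s) * (s * s) := by rw [← sq s, ← pow_add]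
    _ = 1 := h1

theorem pow_five_mem (h : QHyp S A z) (q : Q) : q ^ 5 ∈ S := by
  have := h.normal
  have := h.finite
  have h1 : (QuotientGroup.mk q : Q ⧸ S) ^ Nat.card (Q ⧸ S) = 1 := pow_card_eq_one'
  rw [h.card_quot, ← QuotientGroup.mk_pow, QuotientGroup.eq_one_iff] at h1
  exact h1

theorem pow_five_mem_A (h : QHyp S A z) {q : Q} (hq : q ∉ S) : q ^ 5 ∈ A ∧ orderOf (q ^ 16) = 5 := by
  have h1 := h.pow_five_mem q
  have h2 : q ^ 20 = 1 := by
    have := h.pow_four h1
    rwa [← pow_mul] at this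
  have h3 : (q ^ 16) ^ 5 = 1 := by
    have : (q ^ 16) ^ 5 = (q ^ 20) ^ 4 := by rw [← pow_mul, ← pow_mul]
    rw [this, h2, one_pow]
  have h4 : q ^ 16 ≠ 1 := by
    intro h5
    apply hq
    have h6 : q = (q ^ 16)⁻¹ * ((q ^ 5) ^ 3) * q ^ 2 := by
      rw [← pow_mul]; group
    have h7 : q ^ 4 = 1 := by
      have : q ^ 20 = q ^ 16 * q ^ 4 := by rw [← pow_add]
      rw [h2, h5, one_mul] at this
      exact this.symm
    have h8 : q = q ^ 5 := by
      calc q = q * 1 := (mul_one q).symm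
        _ = q * q ^ 4 := by rw [h7]
        _ = q ^ 5 := by rw [← pow_succ']
    rw [h8]
    exact h1
  have : Fact (Nat.Prime 5) := ⟨by norm_num⟩
  have h5 : orderOf (q ^ 16) = 5 := orderOf_eq_prime h3 h4
  refine ⟨h.fpf _ h5 _ h1 ?_, h5⟩
  rw [← pow_add, ← pow_add]

theorem pow_twenty (h : QHyp S A z) (q : Q) : q ^ 20 = 1 := by
  have := h.pow_four (h.pow_five_mem q)
  rwa [← pow_mul] at this

/-- The elements of the `z`-section. -/
theorem mem_zpowers_iff (h : QHyp S A z) (q : Q) :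
    z ∈ Subgroup.zpowers q ↔ q = z ∨ (q ∈ S ∧ q * q = z) ∨ (q ∉ S ∧ q ^ 5 = z) := by
  constructor
  · intro hz
    obtain ⟨k, hk⟩ := Subgroup.mem_zpowers_iff.1 hz
    by_cases hq : q ∈ S
    · by_cases hqA : q ∈ A
      · left
        have h1 := h.sq_one q hqA
        rcases Int.even_or_odd k with ⟨l, hl⟩ | ⟨l, hl⟩
        · exfalso
          apply h.z_ne
          rw [← hk, hl, ← two_mul, zpow_mul, zpow_ofNat, sq, h1, one_zpow]
        · rw [← hk, hl, zpow_add, zpow_mul, zpow_ofNat, sq, h1, one_zpow, one_mul, zpow_one]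
      · right; left
        refine ⟨hq, ?_⟩
        have h4 : (q * q) * (q * q) = 1 := h.sq_one _ (h.sq_mem q hq)
        rcases Int.even_or_odd k with ⟨l, hl⟩ | ⟨l, hl⟩
        · have h5 : (q * q) ^ l = z := by rw [← hk, hl, ← two_mul, zpow_mul, zpow_ofNat, sq]
          rcases Int.even_or_odd l with ⟨m, hm⟩ | ⟨m, hm⟩
          · exfalso
            apply h.z_ne
            rw [← h5, hm, ← two_mul, zpow_mul, zpow_ofNat, sq, h4, one_zpow]
          · rw [← h5, hm, zpow_add, zpow_mul, zpow_ofNat, sq, h4, one_zpow, one_mul, zpow_one]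
        · exfalso
          apply hqA
          have h6 : q = z * ((q * q) ^ l)⁻¹ := by
            rw [← hk, hl, add_comm, zpow_add, zpow_one, zpow_mul, zpow_ofNat, sq, mul_assoc,
              mul_inv_cancel, mul_one]
          rw [h6]
          exact mul_mem h.z_mem (inv_mem (zpow_mem (h.sq_mem q hq) _))
    · right; right
      refine ⟨hq, ?_⟩
      obtain ⟨h1, h2⟩ := h.pow_five_mem_A hq
      have h3 := h.pow_twenty q
      -- `q = q^16 * q^5`
      have h4 : z ^ 16 = 1 := by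
        have : z ^ 16 = (z * z) ^ 8 := by rw [← sq, ← pow_mul]
        rw [this, h.z_sq, one_pow]
      have h5 : (q ^ 16) ^ k = 1 := by
        rw [← zpow_natCast, ← zpow_mul, mul_comm, zpow_mul, hk, zpow_natCast]
        exact_mod_cast h4
      have h6 : z = (q ^ 5) ^ k := by
        have : (q ^ 5) ^ k = ((q ^ 16) ^ k)⁻¹ * q ^ k * (q ^ 20) ^ k := by
          rw [← zpow_natCast q 5, ← zpow_natCast q 16, ← zpow_natCast q 20, ← zpow_mul, ← zpow_mul,
            ← zpow_mul]
          group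
        rw [this, h5, h3, hk]
        simp
      have h7 := h.sq_one _ h1
      rcases Int.even_or_odd k with ⟨l, hl⟩ | ⟨l, hl⟩
      · exfalso
        apply h.z_ne
        rw [h6, hl, ← two_mul, zpow_mul, zpow_ofNat, sq, h7, one_zpow]
      · rw [h6, hl, zpow_add, zpow_mul, zpow_ofNat, sq, h7, one_zpow, one_mul, zpow_one]
  · rintro (rfl | ⟨-, rfl⟩ | ⟨-, rfl⟩)
    · exact Subgroup.mem_zpowers _
    · exact mul_mem (Subgroup.mem_zpowers _) (Subgroup.mem_zpowers _)
    · exact pow_mem (Subgroup.mem_zpowers _) _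

theorem pow_four_ne (h : QHyp S A z) : z ^ 4 = 1 := h.pow_four h.z_S

theorem exists_five (h : QHyp S A z) : ∃ y : Q, orderOf y = 5 := by
  have h1 : S ≠ ⊤ := by
    intro h2
    have h3 := h.card_S
    rw [h2, Subgroup.card_top, h.card_Q] at h3
    omega
  obtain ⟨q, hq⟩ := not_forall.1 (fun h2 => h1 ((Subgroup.eq_top_iff' S).2 h2))
  exact ⟨_, (h.pow_five_mem_A hq).2⟩

theorem notMem_of_orderOf (h : QHyp S A z) {y : Q} (hy : orderOf y = 5) : y ∉ S := by
  intro h1
  have h2 : orderOf y ∣ 4 := orderOf_dvd_of_pow_eq_one (h.pow_four h1)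
  rw [hy] at h2
  omega

theorem notMem_A_of_sq (h : QHyp S A z) {x : Q} (hx : x * x = z) : x ∉ A := by
  intro h1
  exact h.z_ne (by rw [← hx, h.sq_one x h1])

/-- An element of order 5 with `y x y⁻¹ = x a` forces `x ∈ A`. -/
theorem mem_A_of_conj (h : QHyp S A z) {y : Q} (hy : orderOf y = 5) {x a : Q} (hx : x ∈ S)
    (ha : a ∈ A) (hyx : y * x * y⁻¹ = x * a) : x ∈ A := by
  have h1 : x⁻¹ * y * x = a * y := by
    have : y * x = x * a * y := by rw [← hyx]; group
    rw [mul_assoc, this]; group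
  have h2 : (x⁻¹ * y * x) ^ 5 = 1 := by
    have : (x⁻¹ * y * x) ^ 5 = x⁻¹ * y ^ 5 * x := by
      have := conj_pow (i := 5) (a := x⁻¹) (b := y)
      rwa [inv_inv] at this
    rw [this, ← hy, pow_orderOf_eq_one]; group
  have h3 : (a * y) ^ 5 = a ^ 5 * y ^ 5 := Commute.mul_pow (h.central a ha y) 5
  have h4 : a ^ 5 = 1 := by
    rw [h1, h3, ← hy, pow_orderOf_eq_one, mul_one] at h2
    rw [hy] at h2
    exact h2
  have h5 : a = 1 := by
    have h6 : a ^ 5 = (a * a) * (a * a) * a := by rw [← sq a, ← pow_add, ← pow_succ]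
    rw [h6, h.sq_one a ha, one_mul, one_mul] at h4
    exact h4
  refine h.fpf y hy x hx ?_
  rw [h5, mul_one] at hyx
  exact (mul_inv_eq_iff_eq_mul.1 hyx).symm

/-- Commutators of elements of `S` lie in `A`. -/
theorem comm_mem (h : QHyp S A z) {u s : Q} (hu : u ∈ S) (hs : s ∈ S) :
    u * s * u⁻¹ * s⁻¹ ∈ A := by
  have h1 := h.sq_mem _ (mul_mem hu hs)
  have h2 := h.sq_mem _ (inv_mem hu)
  have h3 := h.sq_mem _ (inv_mem hs)
  have h4 : u * s * u⁻¹ * s⁻¹ = (u * s) * (u * s) * (s⁻¹ * (u⁻¹ * u⁻¹) * s) * (s⁻¹ * s⁻¹) := by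
    group
  rw [h4]
  exact mul_mem (mul_mem h1 (by
    have := h.A_normal
    have h5 := this.conj_mem _ h2 s⁻¹
    rwa [inv_inv] at h5)) h3

/-- All elements of `S` with square `z` are conjugate in `Q`. -/
theorem isConj_of_sq (h : QHyp S A z) {x x' : Q} (hx : x ∈ S) (hxz : x * x = z) (hx' : x' ∈ S)
    (hxz' : x' * x' = z) : IsConj x x' := by
  classical
  have := h.finite
  have := h.normal
  obtain ⟨y, hy⟩ := h.exists_five
  have hxA := h.notMem_A_of_sq hxz
  have hy5 : y ^ 5 = 1 := by rw [← hy, pow_orderOf_eq_one]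
  let g : Fin 5 × A → {s : Q // s ∈ S ∧ s * s = z} := fun k =>
    ⟨y ^ (k.1 : ℕ) * x * (y ^ (k.1 : ℕ))⁻¹ * k.2, mul_mem (this.conj_mem _ hx _) (h.A_le k.2.2), by
      have h1 := h.central _ k.2.2
      have h2 := h.sq_one _ k.2.2
      have h3 : y ^ (k.1 : ℕ) * x * (y ^ (k.1 : ℕ))⁻¹ * (k.2 : Q) *
          (y ^ (k.1 : ℕ) * x * (y ^ (k.1 : ℕ))⁻¹ * k.2) =
          (y ^ (k.1 : ℕ) * (x * x) * (y ^ (k.1 : ℕ))⁻¹) * ((k.2 : Q) * k.2) := by
        have h4 : (k.2 : Q) * (y ^ (k.1 : ℕ) * x * (y ^ (k.1 : ℕ))⁻¹ * k.2) =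
          (y ^ (k.1 : ℕ) * x * (y ^ (k.1 : ℕ))⁻¹) * (k.2 * k.2) := by
          rw [← mul_assoc, h1]; group
        rw [mul_assoc _ (k.2 : Q), h4]; group
      rw [h3, h2, mul_one, hxz, ← (h.z_comm (y ^ (k.1 : ℕ))).eq, mul_inv_cancel_right]⟩
  have hginj : Function.Injective g := by
    rintro ⟨i, a⟩ ⟨j, b⟩ hij
    have h1 : y ^ (i : ℕ) * x * (y ^ (i : ℕ))⁻¹ * (a : Q) = y ^ (j : ℕ) * x * (y ^ (j : ℕ))⁻¹ * b :=
      congrArg Subtype.val hij
    by_cases hne : i = j
    · subst hne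
      have h2 : (a : Q) = b := mul_left_cancel h1
      rw [Prod.mk.injEq]
      exact ⟨rfl, Subtype.ext h2⟩
    · exfalso
      apply hxA
      have hz0 : (y ^ ((i : ℤ) - j)) ≠ 1 := by
        intro h3
        have h4 := orderOf_dvd_iff_zpow_eq_one.2 h3
        rw [hy] at h4
        have h5 := i.2
        have h6 := j.2
        apply hne
        apply Fin.ext
        omega
      have ho : orderOf (y ^ ((i : ℤ) - j)) = 5 := by
        have : Fact (Nat.Prime 5) := ⟨by norm_num⟩
        refine orderOf_eq_prime ?_ hz0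
        rw [← zpow_natCast, ← zpow_mul, mul_comm, zpow_mul, zpow_natCast, hy5, one_zpow]
      refine h.mem_A_of_conj ho hx (mul_mem b.2 (inv_mem a.2)) ?_
      have h7 : y ^ ((i : ℤ) - j) * x * (y ^ ((i : ℤ) - j))⁻¹ =
          (y ^ (j : ℕ))⁻¹ * (y ^ (i : ℕ) * x * (y ^ (i : ℕ))⁻¹ * (a : Q)) * (a : Q)⁻¹ * y ^ (j : ℕ) := by
        rw [zpow_sub, zpow_natCast, zpow_natCast]
        have : (y ^ (i : ℕ)) * (y ^ (j : ℕ))⁻¹ = (y ^ (j : ℕ))⁻¹ * (y ^ (i : ℕ)) := by
          rw [← zpow_natCast, ← zpow_natCast, ← zpow_neg, ← zpow_add, ← zpow_add, add_comm]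
        rw [this]
        group
      rw [h7, h1]
      have h8 : (b : Q) * (a : Q)⁻¹ * y ^ (j : ℕ) = y ^ (j : ℕ) * (b * (a : Q)⁻¹) :=
        h.central _ (mul_mem b.2 (inv_mem a.2)) _
      calc (y ^ (j : ℕ))⁻¹ * (y ^ (j : ℕ) * x * (y ^ (j : ℕ))⁻¹ * b) * (a : Q)⁻¹ * y ^ (j : ℕ)
          = x * (y ^ (j : ℕ))⁻¹ * ((b : Q) * (a : Q)⁻¹ * y ^ (j : ℕ)) := by group
        _ = x * (b * (a : Q)⁻¹) := by rw [h8]; group
  have hcard : Nat.card {s : Q // s ∈ S ∧ s * s = z} ≤ Nat.card (Fin 5 × A) := by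
    rw [h.sq_z, Nat.card_prod, h.card_A, Nat.card_fin]
  have hbij := hginj.bijective_of_nat_card_le hcard
  obtain ⟨⟨k, a⟩, hk⟩ := hbij.2 ⟨x', hx', hxz'⟩
  have h1 : y ^ (k : ℕ) * x * (y ^ (k : ℕ))⁻¹ * (a : Q) = x' := congrArg Subtype.val hk
  obtain ⟨u, hu, hux⟩ := h.surj x hx hxA a a.2
  rw [isConj_iff]
  refine ⟨y ^ (k : ℕ) * u, ?_⟩
  rw [← h1]
  have h2 : (a : Q) * (y ^ (k : ℕ))⁻¹ = (y ^ (k : ℕ))⁻¹ * a := h.central _ a.2 _
  calc y ^ (k : ℕ) * u * x * (y ^ (k : ℕ) * u)⁻¹ = y ^ (k : ℕ) * (u * x * u⁻¹) * (y ^ (k : ℕ))⁻¹ := by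
        group
    _ = y ^ (k : ℕ) * x * (a * (y ^ (k : ℕ))⁻¹) := by rw [hux]; group
    _ = y ^ (k : ℕ) * x * (y ^ (k : ℕ))⁻¹ * a := by rw [h2]; group

/-- Homomorphisms to `ℂˣ` are trivial on the elements with square `z`. -/
theorem hom_eq_one (h : QHyp S A z) {x : Q} (hx : x ∈ S) (hxz : x * x = z) (f : Q →* ℂˣ) :
    f x = 1 := by
  have hxA := h.notMem_A_of_sq hxz
  have hA : ∀ a ∈ A, f a = 1 := by
    intro a ha
    obtain ⟨u, -, hu⟩ := h.surj x hx hxA a ha
    have h1 := congrArg f hu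
    rw [map_mul, map_mul, map_mul, map_inv, mul_comm (f u), mul_inv_cancel_right] at h1
    exact (mul_eq_left.1 h1.symm)
  obtain ⟨y, hy⟩ := h.exists_five
  have hxy : x * y ∉ S := by
    intro h1
    apply h.notMem_of_orderOf hy
    have := mul_mem (inv_mem hx) h1
    rwa [inv_mul_cancel_left] at this
  have h1 := hA _ (h.pow_five_mem_A hxy).1
  have h2 : f y ^ 5 = 1 := by rw [← map_pow, ← hy, pow_orderOf_eq_one, map_one]
  rw [map_pow, map_mul, mul_pow, h2, mul_one] at h1
  have h3 : f x ^ 2 = 1 := by rw [← map_pow, sq, hxz]; exact hA z h.z_mem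
  calc f x = f x ^ 5 * (f x ^ 2)⁻¹ ^ 2 := by
        rw [← inv_pow, ← pow_mul]
        have : f x ^ 5 = f x ^ 1 * f x ^ (2 * 2) := by rw [← pow_add]
        rw [this, mul_assoc, ← mul_pow, mul_inv_cancel, one_pow, mul_one, pow_one]
    _ = 1 := by rw [h1, h3, inv_one, one_pow, one_mul]

end QHyp

section Sums

variable [Fintype Q] {S A : Subgroup Q} {z : Q}

open Classical in
/-- The elements of `S` with square `z`. -/
noncomputable def XX (S : Subgroup Q) (z : Q) : Finset Q :=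
  Finset.univ.filter fun q => q ∈ S ∧ q * q = z

open Classical in
/-- The elements of order 10 with fifth power `z`. -/
noncomputable def YY (S : Subgroup Q) (z : Q) : Finset Q :=
  Finset.univ.filter fun q => q ∉ S ∧ q ^ 5 = z

open Classical in
/-- The elements of order 5. -/
noncomputable def FF (Q : Type u) [Group Q] [Fintype Q] : Finset Q :=
  Finset.univ.filter fun q => orderOf q = 5

theorem mem_XX {q : Q} : q ∈ XX S z ↔ q ∈ S ∧ q * q = z := by
  classical
  simp [XX]

theorem mem_YY {q : Q} : q ∈ YY S z ↔ q ∉ S ∧ q ^ 5 = z := by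
  classical
  simp [YY]

theorem mem_FF {q : Q} : q ∈ FF Q ↔ orderOf q = 5 := by
  classical
  simp [FF]

theorem card_XX (h : QHyp S A z) : (XX S z).card = 20 := by
  classical
  rw [← h.sq_z, Nat.card_eq_fintype_card, Fintype.card_subtype, XX]

theorem sum_section (h : QHyp S A z) (F : Q → ℂ) (hF : ∀ q, z ∉ Subgroup.zpowers q → F q = 0) :
    ∑ q, F q = F z + ∑ q ∈ XX S z, F q + ∑ q ∈ YY S z, F q := by
  classical
  have key : ∀ q, F q = (if q = z then F q else 0) + (if q ∈ S ∧ q * q = z then F q else 0) +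
      (if q ∉ S ∧ q ^ 5 = z then F q else 0) := by
    intro q
    by_cases h1 : q = z
    · have h2 : ¬ (q ∈ S ∧ q * q = z) := by
        rintro ⟨-, h3⟩
        exact h.notMem_A_of_sq h3 (by rw [h1]; exact h.z_mem)
      have h3 : ¬ (q ∉ S ∧ q ^ 5 = z) := fun h4 => h4.1 (by rw [h1]; exact h.z_S)
      rw [if_pos h1, if_neg h2, if_neg h3, add_zero, add_zero]
    · by_cases h2 : q ∈ S ∧ q * q = z
      · have h3 : ¬ (q ∉ S ∧ q ^ 5 = z) := fun h4 => h4.1 h2.1
        rw [if_neg h1, if_pos h2, if_neg h3, add_zero, zero_add]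
      · by_cases h3 : q ∉ S ∧ q ^ 5 = z
        · rw [if_neg h1, if_neg h2, if_pos h3, zero_add, zero_add]
        · rw [if_neg h1, if_neg h2, if_neg h3, add_zero, add_zero]
          apply hF
          rw [h.mem_zpowers_iff]
          rintro (h4 | h4 | h4)
          · exact h1 h4
          · exact h2 h4
          · exact h3 h4
  rw [Finset.sum_congr rfl fun q _ => key q, Finset.sum_add_distrib, Finset.sum_add_distrib,
    Finset.sum_ite_eq' Finset.univ z F, if_pos (Finset.mem_univ z), XX, YY, Finset.sum_filter,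
    Finset.sum_filter]

open Classical in
theorem sum_notMem (h : QHyp S A z) (f : Q → ℂ) :
    ∑ q ∈ Finset.univ.filter (fun q => q ∉ S), f q =
      ∑ a ∈ Finset.univ.filter (fun a => a ∈ A), ∑ q ∈ YY S z, f (a * q) := by
  have hzc := h.z_comm
  have hzz := h.z_sq
  rw [← Finset.sum_product' (f := fun a q => f (a * q))]
  refine Finset.sum_nbij' (fun q => (q ^ 5 * z, q ^ 16 * z)) (fun p => p.1 * p.2) ?_ ?_ ?_ ?_ ?_
  · intro q hq
    rw [Finset.mem_filter] at hq
    have h1 := h.pow_five_mem_A hq.2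
    rw [Finset.mem_product, Finset.mem_filter, mem_YY]
    refine ⟨⟨Finset.mem_univ _, mul_mem h1.1 h.z_mem⟩, ?_, ?_⟩
    · intro h2
      apply h.notMem_of_orderOf h1.2
      have := mul_mem h2 h.z_S
      rwa [mul_assoc, hzz, mul_one] at this
    · show (q ^ 16 * z) ^ 5 = z
      have h2 : (q ^ 16 * z) ^ 5 = (q ^ 16) ^ 5 * z ^ 5 := Commute.mul_pow (hzc _).symm 5
      have h3 : z ^ 5 = z := by rw [pow_succ, h.pow_four_ne, one_mul]
      rw [h2, ← h1.2, pow_orderOf_eq_one, one_mul, h1.2, h3]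
  · rintro ⟨a, q⟩ hq
    rw [Finset.mem_product, Finset.mem_filter, mem_YY] at hq
    rw [Finset.mem_filter]
    refine ⟨Finset.mem_univ _, fun h1 => hq.2.1 ?_⟩
    have := mul_mem (inv_mem (h.A_le hq.1.2)) h1
    rwa [inv_mul_cancel_left] at this
  · intro q hq
    show q ^ 5 * z * (q ^ 16 * z) = q
    rw [(hzc (q ^ 16)).symm.eq, mul_assoc, ← mul_assoc z z, hzz, one_mul, ← pow_add]
    have := h.pow_twenty q
    calc q ^ (5 + 16) = q ^ 20 * q := by rw [← pow_succ]
      _ = q := by rw [this, one_mul]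
  · rintro ⟨a, q⟩ hq
    rw [Finset.mem_product, Finset.mem_filter, mem_YY] at hq
    obtain ⟨⟨-, ha⟩, hqS, hq5⟩ := hq
    simp only at ha hqS hq5
    have hc : Commute a q := h.central a ha q
    have haa := h.sq_one a ha
    have ha4 := h.pow_four (h.A_le ha)
    have h20 := h.pow_twenty q
    have h1 : (a * q) ^ 5 * z = a := by
      rw [hc.mul_pow, hq5, mul_assoc, hzz, mul_one, pow_succ, ha4, one_mul]
    have h2 : (a * q) ^ 16 * z = q := by
      have ha16 : a ^ 16 = 1 := by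
        have : a ^ 16 = (a ^ 4) ^ 4 := by rw [← pow_mul]
        rw [this, ha4, one_pow]
      rw [hc.mul_pow, ha16, one_mul]
      calc q ^ 16 * z = q ^ 16 * q ^ 5 := by rw [hq5]
        _ = q ^ 20 * q := by rw [← pow_add, ← pow_succ]
        _ = q := by rw [h20, one_mul]
    show ((a * q) ^ 5 * z, (a * q) ^ 16 * z) = (a, q)
    rw [h1, h2]
  · intro q hq
    show f q = f (q ^ 5 * z * (q ^ 16 * z))
    congr 1
    rw [(hzc (q ^ 16)).symm.eq, mul_assoc, ← mul_assoc z z, hzz, one_mul, ← pow_add]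
    have := h.pow_twenty q
    symm
    calc q ^ (5 + 16) = q ^ 20 * q := by rw [← pow_succ]
      _ = q := by rw [this, one_mul]

open Classical in
theorem card_filter_A (h : QHyp S A z) : (Finset.univ.filter (fun a => a ∈ A)).card = 4 := by
  rw [← h.card_A, Nat.card_eq_fintype_card, ← Fintype.card_subtype]

open Classical in
theorem card_filter_S (h : QHyp S A z) : (Finset.univ.filter (fun a => a ∈ S)).card = 64 := by
  rw [← h.card_S, Nat.card_eq_fintype_card, ← Fintype.card_subtype]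

theorem card_YY (h : QHyp S A z) : (YY S z).card = 64 := by
  classical
  have h1 := sum_notMem h (fun _ => (1 : ℂ))
  simp only [Finset.sum_const, card_filter_A h, nsmul_eq_mul, mul_one] at h1
  have h2 : (Finset.univ.filter (fun a => a ∈ S)).card +
      (Finset.univ.filter (fun a => a ∉ S)).card = 320 := by
    rw [Finset.card_filter_add_card_filter_not, Finset.card_univ, ← Nat.card_eq_fintype_card,
      h.card_Q]
  rw [card_filter_S h] at h2
  have h3 : (Finset.univ.filter (fun a => a ∉ S)).card = 4 * (YY S z).card := by exact_mod_cast h1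
  omega

/-- `FF Q = z • YY`. -/
theorem sum_YY (h : QHyp S A z) (f : Q → ℂ) : ∑ q ∈ YY S z, f q = ∑ q ∈ FF Q, f (z * q) := by
  classical
  have hzz := h.z_sq
  have hz5 : z ^ 5 = z := by rw [pow_succ, h.pow_four_ne, one_mul]
  refine Finset.sum_nbij' (fun q => z * q) (fun q => z * q) ?_ ?_ ?_ ?_ ?_
  · intro q hq
    rw [mem_YY] at hq
    rw [mem_FF]
    have : Fact (Nat.Prime 5) := ⟨by norm_num⟩
    refine orderOf_eq_prime ?_ ?_
    · rw [(h.z_comm q).mul_pow, hz5, hq.2, hzz]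
    · intro h1
      apply hq.1
      rw [← inv_mul_cancel_left z q, h1, mul_one]
      exact inv_mem h.z_S
  · intro q hq
    rw [mem_FF] at hq
    rw [mem_YY]
    refine ⟨fun h1 => h.notMem_of_orderOf hq ?_, ?_⟩
    · have := mul_mem (inv_mem h.z_S) h1
      rwa [inv_mul_cancel_left] at this
    · rw [(h.z_comm q).mul_pow, hz5, ← hq, pow_orderOf_eq_one, mul_one]
  · intro q _
    show z * (z * q) = q
    rw [← mul_assoc, hzz, one_mul]
  · intro q _
    show z * (z * q) = q
    rw [← mul_assoc, hzz, one_mul]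
  · intro q _
    rw [← mul_assoc, hzz, one_mul]

theorem card_FF (h : QHyp S A z) : (FF Q).card = 64 := by
  have h1 := sum_YY h (fun _ => (1 : ℂ))
  rw [Finset.sum_const, Finset.sum_const, card_YY h, nsmul_eq_mul, nsmul_eq_mul, mul_one,
    mul_one] at h1
  exact_mod_cast h1.symm

end Sums

section Lam

variable {S A : Subgroup Q} {z : Q} {lam : Q →* ℂˣ}

/-- The linear characters `λ^i` of `Q`, `i : ZMod 5`. -/
noncomputable def chi (lam : Q →* ℂˣ) (i : ZMod 5) (q : Q) : ℂ := ((lam q : ℂˣ) : ℂ) ^ i.val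

theorem exists_lam (h : QHyp S A z) : ∃ lam : Q →* ℂˣ, lam.ker = S := by
  have := h.normal
  have h5 : Fact (Nat.Prime 5) := ⟨by norm_num⟩
  have hcyc : IsCyclic (Q ⧸ S) := isCyclic_of_prime_card (p := 5) h.card_quot
  let _ : CommGroup (Q ⧸ S) := IsCyclic.commGroup
  have := h.finite
  have : Finite (Q ⧸ S) := inferInstance
  have hnt : Nontrivial (Q ⧸ S) := by
    rw [← Finite.one_lt_card_iff_nontrivial, h.card_quot]; norm_num
  obtain ⟨a, ha⟩ := exists_ne (1 : Q ⧸ S)
  obtain ⟨φ, hφ⟩ := CommGroup.exists_apply_ne_one_of_hasEnoughRootsOfUnity (Q ⧸ S) ℂ ha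
  refine ⟨φ.comp (QuotientGroup.mk' S), ?_⟩
  have hker : φ.ker = ⊥ := by
    have hp : (Nat.card (Q ⧸ S)).Prime := by rw [h.card_quot]; norm_num
    have : Fact (Nat.card (Q ⧸ S)).Prime := ⟨hp⟩
    rcases Subgroup.eq_bot_or_eq_top_of_prime_card φ.ker with h1 | h1
    · exact h1
    · exfalso
      apply hφ
      have : a ∈ φ.ker := by rw [h1]; exact Subgroup.mem_top a
      exact this
  rw [← MonoidHom.comap_ker, hker, MonoidHom.comap_bot, QuotientGroup.ker_mk']

theorem lam_eq_one (hlam : lam.ker = S) {q : Q} (hq : q ∈ S) : lam q = 1 := by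
  rw [← hlam] at hq
  exact hq

theorem lam_ne_one (hlam : lam.ker = S) {q : Q} (hq : q ∉ S) : lam q ≠ 1 := by
  rw [← hlam] at hq
  exact hq

theorem lam_pow_five (h : QHyp S A z) (hlam : lam.ker = S) (q : Q) :
    ((lam q : ℂˣ) : ℂ) ^ 5 = 1 := by
  have h1 := lam_eq_one hlam (h.pow_five_mem q)
  rw [map_pow] at h1
  have := congrArg (fun u : ℂˣ => (u : ℂ)) h1
  simpa using this

theorem pow_val_add {x : ℂ} (hx : x ^ 5 = 1) (i j : ZMod 5) :
    x ^ (i + j).val = x ^ i.val * x ^ j.val := by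
  rw [ZMod.val_add, ← pow_add]
  conv_rhs => rw [← Nat.mod_add_div (i.val + j.val) 5, pow_add, pow_mul, hx, one_pow, mul_one]

theorem chi_add (h : QHyp S A z) (hlam : lam.ker = S) (i j : ZMod 5) (q : Q) :
    chi lam (i + j) q = chi lam i q * chi lam j q :=
  pow_val_add (lam_pow_five h hlam q) i j

theorem chi_zero (q : Q) : chi lam 0 q = 1 := by
  simp [chi]

theorem chi_of_mem (hlam : lam.ker = S) (i : ZMod 5) {q : Q} (hq : q ∈ S) : chi lam i q = 1 := by
  rw [chi, lam_eq_one hlam hq, Units.val_one, one_pow]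

theorem conj_lam (h : QHyp S A z) (hlam : lam.ker = S) (q : Q) :
    conj ((lam q : ℂˣ) : ℂ) * ((lam q : ℂˣ) : ℂ) = 1 := by
  have h1 : ‖((lam q : ℂˣ) : ℂ)‖ = 1 :=
    Complex.norm_eq_one_of_pow_eq_one (lam_pow_five h hlam q) (by norm_num)
  rw [mul_comm, Complex.mul_conj, Complex.normSq_eq_norm_sq, h1]
  norm_num

theorem conj_chi (h : QHyp S A z) (hlam : lam.ker = S) (i : ZMod 5) (q : Q) :
    conj (chi lam i q) = chi lam (-i) q := by
  have h1 : conj (chi lam i q) * chi lam i q = 1 := by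
    rw [chi, map_pow, ← mul_pow, conj_lam h hlam, one_pow]
  have h2 : chi lam (-i) q * chi lam i q = 1 := by
    rw [← chi_add h hlam, neg_add_cancel, chi_zero]
  have h3 : chi lam i q ≠ 0 := right_ne_zero_of_mul_eq_one h1
  exact mul_right_cancel₀ h3 (h1.trans h2.symm)

theorem chi_conj (i : ZMod 5) (g q : Q) : chi lam i (g * q * g⁻¹) = chi lam i q := by
  rw [chi, chi, map_mul, map_mul, map_inv, mul_comm (lam g), mul_inv_cancel_right]

theorem chi_mul (i : ZMod 5) (g q : Q) : chi lam i (g * q) = chi lam i g * chi lam i q := by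
  rw [chi, chi, chi, map_mul, Units.val_mul, mul_pow]

theorem isIrr_chi (i : ZMod 5) : IsIrrCharacter Q (chi lam i) := by
  have h1 := Linear.isIrrCharacter_hom (lam ^ i.val)
  convert h1 using 1
  funext q
  simp [chi]

theorem sum_lam [Fintype Q] (h : QHyp S A z) (hlam : lam.ker = S) (i : ZMod 5) (hi : i ≠ 0) :
    ∑ q : Q, chi lam i q = 0 := by
  have h1 : (((Units.coeHom ℂ).comp (lam ^ i.val)) : Q →* ℂ) ≠ 1 := by
    intro h2
    obtain ⟨y, hy⟩ := h.exists_five
    have h3 := lam_ne_one hlam (h.notMem_of_orderOf hy)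
    have h4 : (((lam y) ^ i.val : ℂˣ) : ℂ) = 1 := by
      have := DFunLike.congr_fun h2 y
      simpa using this
    have h5 : (lam y) ^ i.val = 1 := Units.ext (by rw [h4, Units.val_one])
    have h6 : (lam y) ^ 5 = 1 := by rw [← map_pow, ← hy, pow_orderOf_eq_one, map_one]
    have : Fact (Nat.Prime 5) := ⟨by norm_num⟩
    have h7 : orderOf (lam y) = 5 := orderOf_eq_prime h6 h3
    have h8 := orderOf_dvd_of_pow_eq_one h5
    rw [h7] at h8
    have h9 := ZMod.val_lt i
    have h10 : i.val = 0 := Nat.eq_zero_of_dvd_of_lt h8 h9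
    exact hi ((ZMod.val_eq_zero i).1 h10)
  have h2 := sum_hom_units_eq_zero _ h1
  rw [← h2]
  refine Finset.sum_congr rfl fun q _ => ?_
  simp [chi]

theorem sum_YY_chi [Fintype Q] (h : QHyp S A z) (hlam : lam.ker = S) (i : ZMod 5) :
    ∑ q ∈ YY S z, chi lam i q = if i = 0 then 64 else -16 := by
  classical
  by_cases hi : i = 0
  · rw [if_pos hi, hi, Finset.sum_congr rfl fun q _ => chi_zero q, Finset.sum_const, card_YY h]
    simp
  · rw [if_neg hi]
    have h1 := sum_notMem h (chi lam i)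
    have h2 : ∑ a ∈ Finset.univ.filter (fun a => a ∈ A), ∑ q ∈ YY S z, chi lam i (a * q) =
        4 * ∑ q ∈ YY S z, chi lam i q := by
      have h3 : ∀ a ∈ Finset.univ.filter (fun a => a ∈ A), ∑ q ∈ YY S z, chi lam i (a * q) =
          ∑ q ∈ YY S z, chi lam i q := by
        intro a ha
        rw [Finset.mem_filter] at ha
        refine Finset.sum_congr rfl fun q _ => ?_
        rw [chi_mul, chi_of_mem hlam i (h.A_le ha.2), one_mul]
      rw [Finset.sum_congr rfl h3, Finset.sum_const, card_filter_A h]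
      simp
    have h4 : ∑ q ∈ Finset.univ.filter (fun q => q ∈ S), chi lam i q = 64 := by
      rw [Finset.sum_congr rfl (fun q hq => chi_of_mem hlam i (Finset.mem_filter.1 hq).2),
        Finset.sum_const, card_filter_S h]
      simp
    have h5 := Finset.sum_filter_add_sum_filter_not Finset.univ (fun q => q ∈ S) (chi lam i)
    rw [sum_lam h hlam i hi, h4, h1, h2] at h5
    linear_combination h5 / 4

end Lam

section Theta

variable {S A : Subgroup Q} {z : Q} {lam : Q →* ℂˣ}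

open Classical in
/-- The generalised character `θ i`: value `-16` at `z`, `4 λ^i` at the other elements of the
`z`-section. -/
noncomputable def theta (lam : Q →* ℂˣ) (z : Q) (i : ZMod 5) (q : Q) : ℂ :=
  if z ∈ Subgroup.zpowers q then (if q = z then -16 else 4 * chi lam i q) else 0

open Classical in
/-- The generalised character `Θ`: value `-16` at the elements of `S` with square `z`. -/
noncomputable def Theta (S : Subgroup Q) (z : Q) (q : Q) : ℂ :=
  if q ∈ S ∧ q * q = z then -16 else 0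

theorem theta_z (i : ZMod 5) : theta lam z i z = -16 := by
  rw [theta, if_pos (Subgroup.mem_zpowers z), if_pos rfl]

theorem theta_of_notMem (i : ZMod 5) {q : Q} (hq : z ∉ Subgroup.zpowers q) :
    theta lam z i q = 0 := by
  rw [theta, if_neg hq]

theorem theta_sq (h : QHyp S A z) (hlam : lam.ker = S) (i : ZMod 5) {q : Q} (hq : q ∈ S)
    (hqz : q * q = z) : theta lam z i q = 4 := by
  have h1 : q ≠ z := by
    intro h2
    exact h.notMem_A_of_sq hqz (by rw [h2]; exact h.z_mem)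
  rw [theta, if_pos ((h.mem_zpowers_iff q).2 (Or.inr (Or.inl ⟨hq, hqz⟩))), if_neg h1,
    chi_of_mem hlam i hq, mul_one]

theorem theta_five (h : QHyp S A z) (i : ZMod 5) {q : Q} (hq : q ∉ S)
    (hqz : q ^ 5 = z) : theta lam z i q = 4 * chi lam i q := by
  have h1 : q ≠ z := by
    intro h2
    exact hq (by rw [h2]; exact h.z_S)
  rw [theta, if_pos ((h.mem_zpowers_iff q).2 (Or.inr (Or.inr ⟨hq, hqz⟩))), if_neg h1]

/-- The values of `θ i` on `A`. -/
theorem theta_of_mem_A (h : QHyp S A z) (i : ZMod 5) {q : Q} (hq : q ∈ A) (hqz : q ≠ z) :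
    theta lam z i q = 0 := by
  apply theta_of_notMem
  rw [h.mem_zpowers_iff]
  rintro (h1 | h1 | h1)
  · exact hqz h1
  · exact h.notMem_A_of_sq h1.2 hq
  · exact h1.1 (h.A_le hq)

theorem Theta_sq {q : Q} (hq : q ∈ S) (hqz : q * q = z) : Theta S z q = -16 := by
  rw [Theta, if_pos ⟨hq, hqz⟩]

theorem Theta_zero {q : Q} (hq : ¬ (q ∈ S ∧ q * q = z)) : Theta S z q = 0 := by
  rw [Theta, if_neg hq]

theorem Theta_of_notMem (h : QHyp S A z) {q : Q} (hq : z ∉ Subgroup.zpowers q) :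
    Theta S z q = 0 :=
  Theta_zero fun h1 => hq ((h.mem_zpowers_iff q).2 (Or.inr (Or.inl h1)))

theorem Theta_of_mem_A (h : QHyp S A z) {q : Q} (hq : q ∈ A) : Theta S z q = 0 :=
  Theta_zero fun h1 => h.notMem_A_of_sq h1.2 hq

theorem mem_zpowers_conj (h : QHyp S A z) (g q : Q) :
    z ∈ Subgroup.zpowers (g * q * g⁻¹) ↔ z ∈ Subgroup.zpowers q := by
  have h1 : ∀ g q : Q, z ∈ Subgroup.zpowers q → z ∈ Subgroup.zpowers (g * q * g⁻¹) := by
    intro g q hz
    obtain ⟨k, hk⟩ := Subgroup.mem_zpowers_iff.1 hz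
    refine Subgroup.mem_zpowers_iff.2 ⟨k, ?_⟩
    rw [conj_zpow, hk, ← (h.z_comm g).eq, mul_inv_cancel_right]
  refine ⟨fun h2 => ?_, h1 g q⟩
  have h3 := h1 g⁻¹ _ h2
  have h4 : g⁻¹ * (g * q * g⁻¹) * g⁻¹⁻¹ = q := by group
  rwa [h4] at h3

theorem isClassFunction_theta (h : QHyp S A z) (i : ZMod 5) :
    IsClassFunction Q (theta lam z i) := by
  intro q g
  by_cases hq : z ∈ Subgroup.zpowers q
  · have hq' := (mem_zpowers_conj h g q).2 hq
    by_cases h1 : q = z
    · subst h1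
      rw [← (h.z_comm g).eq, mul_inv_cancel_right]
    · have h2 : g * q * g⁻¹ ≠ z := by
        intro h3
        apply h1
        have : q = g⁻¹ * (g * q * g⁻¹) * g := by group
        rw [this, h3, ← (h.z_comm g⁻¹).eq, inv_mul_cancel_right]
      rw [theta, theta, if_pos hq, if_pos hq', if_neg h1, if_neg h2, chi_conj]
  · have hq' : z ∉ Subgroup.zpowers (g * q * g⁻¹) := fun h1 => hq ((mem_zpowers_conj h g q).1 h1)
    rw [theta_of_notMem i hq, theta_of_notMem i hq']

theorem isClassFunction_Theta (h : QHyp S A z) : IsClassFunction Q (Theta S z) := by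
  intro q g
  have := h.normal
  have h1 : (g * q * g⁻¹ ∈ S ∧ g * q * g⁻¹ * (g * q * g⁻¹) = z) ↔ (q ∈ S ∧ q * q = z) := by
    have h2 : g * q * g⁻¹ * (g * q * g⁻¹) = g * (q * q) * g⁻¹ := by group
    rw [h2]
    constructor
    · rintro ⟨h3, h4⟩
      refine ⟨?_, ?_⟩
      · have h5 := this.conj_mem _ h3 g⁻¹
        have h6 : g⁻¹ * (g * q * g⁻¹) * g⁻¹⁻¹ = q := by group
        rwa [h6] at h5
      · have : q * q = g⁻¹ * (g * (q * q) * g⁻¹) * g := by group
        rw [this, h4, ← (h.z_comm g⁻¹).eq, inv_mul_cancel_right]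
    · rintro ⟨h3, h4⟩
      exact ⟨this.conj_mem q h3 g, by rw [h4, ← (h.z_comm g).eq, mul_inv_cancel_right]⟩
  by_cases hq : q ∈ S ∧ q * q = z
  · rw [Theta, Theta, if_pos hq, if_pos (h1.2 hq)]
  · rw [Theta, Theta, if_neg hq, if_neg (fun h2 => hq (h1.1 h2))]

/-- Galois conjugation. -/
theorem theta_gal (h : QHyp S A z) (hlam : lam.ker = S) (σ : ℂ →+* ℂ)
    (hσ : ∀ x : ℂ, x ^ 5 = 1 → σ x = x ^ 2) (i : ZMod 5) (q : Q) :
    σ (theta lam z i q) = theta lam z (2 * i) q := by
  by_cases hq : z ∈ Subgroup.zpowers q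
  · by_cases h1 : q = z
    · subst h1
      rw [theta_z, theta_z, map_neg]
      congr 1
      exact map_ofNat σ 16
    · rw [theta, theta, if_pos hq, if_pos hq, if_neg h1, if_neg h1, map_mul, two_mul,
        chi_add h hlam, chi, map_pow, hσ _ (lam_pow_five h hlam q), ← pow_mul, mul_comm 2, pow_mul,
        sq]
      congr 1
      exact map_ofNat σ 4
  · rw [theta_of_notMem i hq, theta_of_notMem _ hq, map_zero]

theorem Theta_gal (σ : ℂ →+* ℂ) (q : Q) : σ (Theta S z q) = Theta S z q := by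
  by_cases hq : q ∈ S ∧ q * q = z
  · rw [Theta, if_pos hq, map_neg]
    congr 1
    exact map_ofNat σ 16
  · rw [Theta, if_neg hq, map_zero]

theorem mem_zpowers_pow_iff (h : QHyp S A z) {m : ℕ} (hm5 : m % 5 = 2) (hm2 : m % 2 = 1) (q : Q) :
    z ∈ Subgroup.zpowers (q ^ m) ↔ z ∈ Subgroup.zpowers q := by
  have h20 := h.pow_twenty q
  have hcop : Nat.Coprime 20 m := by
    have h1 : Nat.Coprime 5 m := by
      rw [Nat.Prime.coprime_iff_not_dvd (by norm_num)]
      omega
    have h2 : Nat.Coprime 2 m := by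
      rw [Nat.Prime.coprime_iff_not_dvd (by norm_num)]
      omega
    have h3 : Nat.Coprime (2 ^ 2 * 5) m := (h2.pow_left 2).mul_left h1
    exact h3
  have hcop2 : (orderOf q).Coprime m := hcop.coprime_dvd_left (orderOf_dvd_of_pow_eq_one h20)
  constructor
  · intro h1
    obtain ⟨k, hk⟩ := Subgroup.mem_zpowers_iff.1 h1
    refine Subgroup.mem_zpowers_iff.2 ⟨m * k, ?_⟩
    rw [zpow_mul, zpow_natCast, hk]
  · intro h1
    have := h.finite
    obtain ⟨k, hk⟩ := Subgroup.mem_zpowers_iff.1 h1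
    obtain ⟨l, hl⟩ := exists_pow_eq_self_of_coprime hcop2.symm
    refine Subgroup.mem_zpowers_iff.2 ⟨l * k, ?_⟩
    rw [zpow_mul, zpow_natCast, hl, hk]

theorem theta_pow (h : QHyp S A z) (hlam : lam.ker = S) {m : ℕ} (hm5 : m % 5 = 2)
    (hm2 : m % 2 = 1) (i : ZMod 5) (q : Q) : theta lam z i (q ^ m) = theta lam z (2 * i) q := by
  by_cases hq : z ∈ Subgroup.zpowers q
  · have hq' := (mem_zpowers_pow_iff h hm5 hm2 q).2 hq
    by_cases h1 : q = z
    · subst h1
      have h2 : q ^ m = q := by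
        obtain ⟨k, hk⟩ : ∃ k, m = 2 * k + 1 := ⟨m / 2, by omega⟩
        rw [hk, pow_succ, pow_mul, sq, h.z_sq, one_pow, one_mul]
      rw [h2, theta_z, theta_z]
    · have h2 : q ^ m ≠ z := by
        intro h3
        apply h1
        rcases (h.mem_zpowers_iff q).1 hq with h4 | h4 | h4
        · exact h4
        · exfalso
          obtain ⟨k, hk⟩ : ∃ k, m = 2 * k + 1 := ⟨m / 2, by omega⟩
          apply h.notMem_A_of_sq h4.2
          rw [hk, pow_succ, pow_mul, sq, h4.2] at h3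
          have h5 : q = (z ^ k)⁻¹ * z := eq_inv_mul_of_mul_eq h3
          rw [h5]
          exact mul_mem (inv_mem (pow_mem h.z_mem _)) h.z_mem
        · exfalso
          obtain ⟨k, hk⟩ : ∃ k, m = 5 * k + 2 := ⟨m / 5, by omega⟩
          apply h4.1
          rw [hk, pow_add, pow_mul, h4.2] at h3
          have h5 : q ^ 2 ∈ S := by
            have : q ^ 2 = (z ^ k)⁻¹ * z := eq_inv_mul_of_mul_eq h3
            rw [this]
            exact mul_mem (inv_mem (pow_mem h.z_S _)) h.z_S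
          have h6 : q = q ^ 5 * ((q ^ 2) ^ 2)⁻¹ := by
            rw [← pow_mul]; group
          rw [h6]
          exact mul_mem (h.pow_five_mem q) (inv_mem (pow_mem h5 _))
      have h3 : chi lam i (q ^ m) = chi lam (2 * i) q := by
        have h5 := lam_pow_five h hlam q
        have h6 : ((lam q : ℂˣ) : ℂ) ^ m = ((lam q : ℂˣ) : ℂ) ^ 2 := by
          obtain ⟨k, hk⟩ : ∃ k, m = 5 * k + 2 := ⟨m / 5, by omega⟩
          rw [hk, pow_add, pow_mul, h5, one_pow, one_mul]
        rw [two_mul, chi_add h hlam, chi, chi, map_pow, Units.val_pow_eq_pow_val, h6, ← pow_mul,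
          mul_comm 2, pow_mul, sq]
      rw [theta, theta, if_pos hq, if_pos hq', if_neg h1, if_neg h2, h3]
  · rw [theta_of_notMem _ hq,
      theta_of_notMem _ (fun h1 => hq ((mem_zpowers_pow_iff h hm5 hm2 q).1 h1))]

theorem Theta_pow (h : QHyp S A z) {m : ℕ} (hm5 : m % 5 = 2) (hm2 : m % 2 = 1) (q : Q) :
    Theta S z (q ^ m) = Theta S z q := by
  have h1 : (q ^ m ∈ S ∧ q ^ m * q ^ m = z) ↔ (q ∈ S ∧ q * q = z) := by
    have hz := mem_zpowers_pow_iff h hm5 hm2 q
    have hS : q ^ m ∈ S ↔ q ∈ S := by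
      refine ⟨fun h1 => ?_, fun h1 => pow_mem h1 _⟩
      obtain ⟨k, hk⟩ : ∃ k, m = 5 * k + 2 := ⟨m / 5, by omega⟩
      have h2 : q ^ 2 ∈ S := by
        have : q ^ 2 = ((q ^ 5) ^ k)⁻¹ * q ^ m := by
          rw [hk, pow_add, pow_mul]; group
        rw [this]
        exact mul_mem (inv_mem (pow_mem (h.pow_five_mem q) _)) h1
      have h6 : q = q ^ 5 * ((q ^ 2) ^ 2)⁻¹ := by
        rw [← pow_mul]; group
      rw [h6]
      exact mul_mem (h.pow_five_mem q) (inv_mem (pow_mem h2 _))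
    rw [hS]
    refine and_congr_right fun hqS => ?_
    have h4 := h.pow_four hqS
    have h5 : (q * q) * (q * q) = 1 := h.sq_one _ (h.sq_mem q hqS)
    obtain ⟨k, hk⟩ : ∃ k, m = 2 * k + 1 := ⟨m / 2, by omega⟩
    have h6 : q ^ m * q ^ m = q * q := by
      have h7 : q ^ m * q ^ m = (q ^ 4) ^ k * (q * q) := by
        rw [← pow_add, ← pow_mul, ← sq, ← pow_add]
        congr 1
        omega
      rw [h7, h4, one_pow, one_mul]
    rw [h6]
  by_cases hq : q ∈ S ∧ q * q = z
  · rw [Theta, Theta, if_pos hq, if_pos (h1.2 hq)]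
  · rw [Theta, Theta, if_neg hq, if_neg (fun h2 => hq (h1.1 h2))]

end Theta

section Inner

variable [Fintype Q] {S A : Subgroup Q} {z : Q} {lam : Q →* ℂˣ}

theorem classInner_section (h : QHyp S A z) (F c : Q → ℂ)
    (hF : ∀ q, z ∉ Subgroup.zpowers q → F q = 0) :
    classInner F c = 320⁻¹ * (F z * conj (c z) + ∑ q ∈ XX S z, F q * conj (c q) +
      ∑ q ∈ YY S z, F q * conj (c q)) := by
  rw [classInner, h.card_Q, sum_section h _ (fun q hq => by rw [hF q hq, zero_mul])]
  norm_num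

theorem classInner_theta (h : QHyp S A z) (hlam : lam.ker = S) (i : ZMod 5) (c : Q → ℂ) :
    classInner (theta lam z i) c = 320⁻¹ * (-16 * conj (c z) + 4 * ∑ q ∈ XX S z, conj (c q) +
      4 * ∑ q ∈ YY S z, chi lam i q * conj (c q)) := by
  have h1 : ∑ q ∈ XX S z, theta lam z i q * conj (c q) = 4 * ∑ q ∈ XX S z, conj (c q) := by
    rw [Finset.mul_sum]
    refine Finset.sum_congr rfl fun q hq => ?_
    rw [mem_XX] at hq
    rw [theta_sq h hlam i hq.1 hq.2]
  have h2 : ∑ q ∈ YY S z, theta lam z i q * conj (c q) =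
      4 * ∑ q ∈ YY S z, chi lam i q * conj (c q) := by
    rw [Finset.mul_sum]
    refine Finset.sum_congr rfl fun q hq => ?_
    rw [mem_YY] at hq
    rw [theta_five h i hq.1 hq.2, mul_assoc]
  rw [classInner_section h _ _ (fun q hq => theta_of_notMem i hq), theta_z, h1, h2]

theorem classInner_Theta (h : QHyp S A z) (c : Q → ℂ) :
    classInner (Theta S z) c = 320⁻¹ * (-16 * ∑ q ∈ XX S z, conj (c q)) := by
  rw [classInner_section h _ _ (fun q hq => Theta_of_notMem h hq), Finset.mul_sum,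
    Theta_of_mem_A h h.z_mem, zero_mul, zero_add]
  have h1 : ∑ q ∈ YY S z, Theta S z q * conj (c q) = 0 := by
    refine Finset.sum_eq_zero fun q hq => ?_
    rw [mem_YY] at hq
    rw [Theta_zero (fun h1 => hq.1 h1.1), zero_mul]
  rw [h1, add_zero]
  congr 1
  refine Finset.sum_congr rfl fun q hq => ?_
  rw [mem_XX] at hq
  rw [Theta_sq hq.1 hq.2]

/-- The Gram matrix. -/
theorem classInner_theta_theta (h : QHyp S A z) (hlam : lam.ker = S) (i j : ZMod 5) :
    classInner (theta lam z i) (theta lam z j) = if i = j then 5 else 1 := by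
  have h1 : ∑ q ∈ XX S z, conj (theta lam z j q) = 80 := by
    have h2 : ∀ q ∈ XX S z, conj (theta lam z j q) = 4 := by
      intro q hq
      rw [mem_XX] at hq
      rw [theta_sq h hlam j hq.1 hq.2]
      exact Complex.conj_ofNat 4
    rw [Finset.sum_congr rfl h2, Finset.sum_const, card_XX h]
    norm_num
  have h2 : ∑ q ∈ YY S z, chi lam i q * conj (theta lam z j q) =
      4 * ∑ q ∈ YY S z, chi lam (i - j) q := by
    rw [Finset.mul_sum]
    refine Finset.sum_congr rfl fun q hq => ?_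
    rw [mem_YY] at hq
    rw [theta_five h j hq.1 hq.2, map_mul, conj_chi h hlam, sub_eq_add_neg, chi_add h hlam,
      Complex.conj_ofNat]
    ring
  rw [classInner_theta h hlam, theta_z, h1, h2, sum_YY_chi h hlam, map_neg, Complex.conj_ofNat]
  by_cases hij : i = j
  · rw [if_pos hij, if_pos (sub_eq_zero.2 hij)]
    norm_num
  · rw [if_neg hij, if_neg (fun h3 => hij (sub_eq_zero.1 h3))]
    norm_num

theorem classInner_theta_Theta (h : QHyp S A z) (hlam : lam.ker = S) (i : ZMod 5) :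
    classInner (theta lam z i) (Theta S z) = -4 := by
  have h1 : ∑ q ∈ XX S z, conj (Theta S z q) = -320 := by
    have h2 : ∀ q ∈ XX S z, conj (Theta S z q) = -16 := by
      intro q hq
      rw [mem_XX] at hq
      rw [Theta_sq hq.1 hq.2, map_neg]
      congr 1
      exact Complex.conj_ofNat 16
    rw [Finset.sum_congr rfl h2, Finset.sum_const, card_XX h]
    norm_num
  have h2 : ∑ q ∈ YY S z, chi lam i q * conj (Theta S z q) = 0 := by
    refine Finset.sum_eq_zero fun q hq => ?_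
    rw [mem_YY] at hq
    rw [Theta_zero (fun h1 => hq.1 h1.1), map_zero, mul_zero]
  rw [classInner_theta h hlam, Theta_of_mem_A h h.z_mem, h1, h2, map_zero]
  norm_num

theorem classInner_Theta_Theta (h : QHyp S A z) :
    classInner (Theta S z) (Theta S z) = 16 := by
  have h1 : ∑ q ∈ XX S z, conj (Theta S z q) = -320 := by
    have h2 : ∀ q ∈ XX S z, conj (Theta S z q) = -16 := by
      intro q hq
      rw [mem_XX] at hq
      rw [Theta_sq hq.1 hq.2, map_neg]
      congr 1
      exact Complex.conj_ofNat 16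
    rw [Finset.sum_congr rfl h2, Finset.sum_const, card_XX h]
    norm_num
  rw [classInner_Theta h, h1]
  norm_num

theorem classInner_theta_one (h : QHyp S A z) (hlam : lam.ker = S) (i : ZMod 5) :
    classInner (theta lam z i) 1 = if i = 0 then 1 else 0 := by
  have h1 : ∑ q ∈ XX S z, conj ((1 : Q → ℂ) q) = 20 := by
    simp only [Pi.one_apply, map_one, Finset.sum_const, card_XX h]
    norm_num
  have h2 : ∑ q ∈ YY S z, chi lam i q * conj ((1 : Q → ℂ) q) = ∑ q ∈ YY S z, chi lam i q := by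
    simp only [Pi.one_apply, map_one, mul_one]
  rw [classInner_theta h hlam, h1, h2, sum_YY_chi h hlam, Pi.one_apply, map_one]
  by_cases hi : i = 0
  · rw [if_pos hi, if_pos hi]
    norm_num
  · rw [if_neg hi, if_neg hi]
    norm_num

theorem classInner_Theta_one (h : QHyp S A z) : classInner (Theta S z) 1 = -1 := by
  have h1 : ∑ q ∈ XX S z, conj ((1 : Q → ℂ) q) = 20 := by
    simp only [Pi.one_apply, map_one, Finset.sum_const, card_XX h]
    norm_num
  rw [classInner_Theta h, h1]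
  norm_num

theorem sum_XX (h : QHyp S A z) {c : Q → ℂ} (hc : IsClassFunction Q c) {x : Q} (hx : x ∈ S)
    (hxz : x * x = z) (g : ℂ → ℂ) : ∑ q ∈ XX S z, g (c q) = 20 * g (c x) := by
  have h1 : ∀ q ∈ XX S z, g (c q) = g (c x) := by
    intro q hq
    rw [mem_XX] at hq
    obtain ⟨u, hu⟩ := isConj_iff.1 (h.isConj_of_sq hx hxz hq.1 hq.2)
    rw [← hu, hc x u]
  rw [Finset.sum_congr rfl h1, Finset.sum_const, card_XX h]
  norm_num

/-- `(Θ, F) = - F(x)` and `4 ∑ (θ_i, F) = 5 F(x) - F(z)`. -/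
theorem classInner_Theta_eq (h : QHyp S A z) {c : Q → ℂ} (hc : IsClassFunction Q c) {x : Q}
    (hx : x ∈ S) (hxz : x * x = z) : classInner (Theta S z) c = - conj (c x) := by
  rw [classInner_Theta h, sum_XX h hc hx hxz]
  ring

theorem sum_chi_eq_zero (h : QHyp S A z) (hlam : lam.ker = S) {q : Q} (hq : q ∉ S) :
    ∑ i : ZMod 5, chi lam i q = 0 := by
  have h1 := lam_pow_five h hlam q
  have h2 : ((lam q : ℂˣ) : ℂ) ≠ 1 := by
    intro h3
    exact lam_ne_one hlam hq (Units.ext (by rw [h3, Units.val_one]))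
  have h3 : (((lam q : ℂˣ) : ℂ) - 1) * ∑ i : ZMod 5, chi lam i q = 0 := by
    have h4 : ∑ i : ZMod 5, chi lam i q = 1 + ((lam q : ℂˣ) : ℂ) + ((lam q : ℂˣ) : ℂ) ^ 2 +
        ((lam q : ℂˣ) : ℂ) ^ 3 + ((lam q : ℂˣ) : ℂ) ^ 4 := by
      rw [show (Finset.univ : Finset (ZMod 5)) = {0, 1, 2, 3, 4} from rfl]
      simp only [chi]
      rw [Finset.sum_insert (by decide), Finset.sum_insert (by decide), Finset.sum_insert (by decide),
        Finset.sum_insert (by decide), Finset.sum_singleton]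
      rw [show (0 : ZMod 5).val = 0 from rfl, show (1 : ZMod 5).val = 1 from rfl,
        show (2 : ZMod 5).val = 2 from rfl, show (3 : ZMod 5).val = 3 from rfl,
        show (4 : ZMod 5).val = 4 from rfl]
      ring
    rw [h4]
    linear_combination h1
  rcases mul_eq_zero.1 h3 with h4 | h4
  · exact absurd (sub_eq_zero.1 h4) h2
  · exact h4

theorem sum_classInner_theta (h : QHyp S A z) (hlam : lam.ker = S) {c : Q → ℂ}
    (hc : IsClassFunction Q c) {x : Q} (hx : x ∈ S) (hxz : x * x = z) :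
    4 * ∑ i : ZMod 5, classInner (theta lam z i) c = 5 * conj (c x) - conj (c z) := by
  have h1 : ∀ i : ZMod 5, classInner (theta lam z i) c = 320⁻¹ * (-16 * conj (c z) +
      80 * conj (c x)) + 320⁻¹ * 4 * ∑ q ∈ YY S z, chi lam i q * conj (c q) := by
    intro i
    rw [classInner_theta h hlam, sum_XX h hc hx hxz]
    ring
  have h2 : ∑ i : ZMod 5, ∑ q ∈ YY S z, chi lam i q * conj (c q) = 0 := by
    rw [Finset.sum_comm]
    refine Finset.sum_eq_zero fun q hq => ?_
    rw [mem_YY] at hq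
    rw [← Finset.sum_mul, sum_chi_eq_zero h hlam hq.1, zero_mul]
  rw [Finset.sum_congr rfl fun i _ => h1 i, Finset.sum_add_distrib, Finset.sum_const,
    Finset.card_univ, ZMod.card, ← Finset.mul_sum, h2, nsmul_eq_mul]
  push_cast
  ring

end Inner

end Cfsg.Agent.TwoFusion.U34Q
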