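import Cfsg.Agent.TwoFusion.U34Q

/-!
# `θ i` and `Θ` are generalised characters of `S:5`
-/

set_option autoImplicit false
set_option linter.unusedSectionVars false

namespace Cfsg.Agent.TwoFusion.U34Q

open Cfsg Cfsg.Agent.Characters
open scoped ComplexConjugate Pointwise

universe u

variable {Q : Type u} [Group Q] {S A : Subgroup Q} {z : Q} {lam : Q →* ℂˣ}

/-- Central elements of order two act by a sign. -/
theorem exists_sign [Finite Q] {ψ : Q → ℂ} (hψ : IsIrrCharacter Q ψ) {a : Q}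
    (ha : ∀ q, a * q = q * a) (haa : a * a = 1) :
    (∀ q, ψ (a * q) = ψ q) ∨ (∀ q, ψ (a * q) = - ψ q) := by
  obtain ⟨n, ρ, hρ, rfl⟩ := hψ
  obtain ⟨c, hc⟩ := Central.exists_smul_of_comm ρ hρ (ρ a) (fun g => by
    rw [← map_mul, ← map_mul, ha g])
  have h1 : ρ a * ρ a = 1 := by rw [← map_mul, haa, map_one]
  have hpos := Central.finrank_pos_of_irr ρ hρ
  have : Nontrivial (Fin n → ℂ) := Module.nontrivial_of_finrank_pos hpos
  obtain ⟨v, hv⟩ := exists_ne (0 : Fin n → ℂ)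
  have h2 : c * c = 1 := by
    rw [hc] at h1
    have h3 := congrArg (fun f : Module.End ℂ (Fin n → ℂ) => f v) h1
    simp only [smul_mul_smul_comm, mul_one, LinearMap.smul_apply, Module.End.one_apply] at h3
    have h4 : (c * c - 1) • v = 0 := by rw [sub_smul, h3, one_smul, sub_self]
    rcases smul_eq_zero.1 h4 with h5 | h5
    · exact sub_eq_zero.1 h5
    · exact absurd h5 hv
  have h3 : ∀ q, ρ.character (a * q) = c * ρ.character q := by
    intro q
    rw [Representation.character, Representation.character, map_mul, hc, smul_mul_assoc, one_mul,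
      map_smul, smul_eq_mul]
  rcases mul_self_eq_one_iff.1 h2 with h4 | h4
  · left
    intro q
    rw [h3, h4, one_mul]
  · right
    intro q
    rw [h3, h4, neg_one_mul]

/-- A character on which some element of `A` acts as `-1` vanishes on `S \ A`. -/
theorem eq_zero_of_neg (h : QHyp S A z) {ψ : Q → ℂ} (hψ : IsClassFunction Q ψ) {a : Q} (ha : a ∈ A)
    (hneg : ∀ q, ψ (a * q) = - ψ q) {s : Q} (hs : s ∈ S) (hsA : s ∉ A) : ψ s = 0 := by
  obtain ⟨u, -, hu⟩ := h.surj s hs hsA a ha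
  have h1 : ψ s = - ψ s := by
    calc ψ s = ψ (u * s * u⁻¹) := (hψ s u).symm
      _ = ψ (a * s) := by rw [hu, h.central a ha]
      _ = - ψ s := hneg s
  linear_combination h1 / 2

/-- The degree of such an irreducible character is divisible by 4. -/
theorem four_dvd_of_neg [Fintype Q] (h : QHyp S A z) {ψ : Q → ℂ} (hψ : IsIrrCharacter Q ψ) {a : Q}
    (ha : a ∈ A) (hneg : ∀ q, ψ (a * q) = - ψ q) {n : ℕ} (hn : ψ 1 = n) : 4 ∣ n := by
  classical
  have hcf := Core.isIrr_isClassFunction hψ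
  let _ : Fintype S := Fintype.ofFinite S
  have hch : IsCharacter S (fun s : S => ψ s) :=
    Core.isCharacter_comp S.subtype (Core.isIrr_isCharacter hψ)
  obtain ⟨k, hk⟩ := Core.classInner_isNat hch hch
  have h1 : ∀ b ∈ A, ψ b * conj (ψ b) = (n : ℂ) * n := by
    intro b hb
    have h2 : ψ b = n ∨ ψ b = - n := by
      rcases exists_sign hψ (h.central b hb) (h.sq_one b hb) with h3 | h3
      · left
        have := h3 1
        rwa [mul_one, hn] at this
      · right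
        have := h3 1
        rwa [mul_one, hn] at this
    rcases h2 with h3 | h3 <;> rw [h3] <;> simp
  have h2 : ∑ s : S, ψ s * conj (ψ s) = ∑ q ∈ Finset.univ.filter (fun q => q ∈ A),
      ψ q * conj (ψ q) := by
    have h3 : ∑ q ∈ Finset.univ.filter (fun q => q ∈ S), ψ q * conj (ψ q) =
        ∑ s : S, ψ s * conj (ψ s) :=
      Finset.sum_subtype _ (fun x => by simp) (fun q => ψ q * conj (ψ q))
    rw [← h3]
    symm
    refine Finset.sum_subset ?_ ?_
    · intro q hq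
      rw [Finset.mem_filter] at hq ⊢
      exact ⟨hq.1, h.A_le hq.2⟩
    · intro q hq hq'
      rw [Finset.mem_filter] at hq hq'
      have h4 : q ∉ A := fun h5 => hq' ⟨hq.1, h5⟩
      rw [eq_zero_of_neg h hcf ha hneg hq.2 h4, zero_mul]
  have h3 : ∑ q ∈ Finset.univ.filter (fun q => q ∈ A), ψ q * conj (ψ q) = 4 * ((n : ℂ) * n) := by
    rw [Finset.sum_congr rfl (fun q hq => h1 q (Finset.mem_filter.1 hq).2), Finset.sum_const,
      card_filter_A h]
    simp
  rw [classInner, h.card_S, h2, h3] at hk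
  have h4 : (n : ℂ) ^ 2 = 16 * k := by
    have : ((64 : ℕ) : ℂ)⁻¹ * (4 * ((n : ℂ) * n)) = k := hk
    push_cast at this
    linear_combination 16 * this
  have h5 : n ^ 2 = 16 * k := by exact_mod_cast h4
  have h6 : 4 ^ 2 ∣ n ^ 2 := ⟨k, by rw [h5]; norm_num⟩
  exact (Nat.pow_dvd_pow_iff (by norm_num)).1 h6

/-- The sum over a group of order 5. -/
theorem sum_five [Finite Q] {ψ : Q → ℂ} (hψ : IsCharacter Q ψ) {y : Q} (hy : orderOf y = 5) :
    ∃ m : ℕ, ψ 1 + ψ y + ψ (y ^ 2) + ψ (y ^ 3) + ψ (y ^ 4) = 5 * m := by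
  classical
  let P := Subgroup.zpowers y
  let _ : Fintype P := Fintype.ofFinite P
  have hch : IsCharacter P (fun s : P => ψ s) := Core.isCharacter_comp P.subtype hψ
  obtain ⟨m, hm⟩ := Core.classInner_isNat hch Core.isCharacter_one
  refine ⟨m, ?_⟩
  have hcard : Nat.card P = 5 := by rw [Nat.card_zpowers, hy]
  rw [classInner, hcard] at hm
  have h1 : ∑ s : P, ψ s * conj ((1 : P → ℂ) s) = ∑ i ∈ Finset.range 5, ψ (y ^ i) := by
    rw [← hy, ← Fin.sum_univ_eq_sum_range (fun i => ψ (y ^ i))]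
    symm
    refine Fintype.sum_equiv (finEquivZPowers (isOfFinOrder_of_finite y)) _ _ fun i => ?_
    rw [finEquivZPowers_apply]
    simp
  rw [h1] at hm
  simp only [Finset.sum_range_succ, Finset.sum_range_zero, pow_zero, pow_one, zero_add] at hm
  push_cast at hm
  linear_combination 5 * hm

theorem sum_five_eq [Finite Q] (h : QHyp S A z) {ψ : Q → ℂ} (hψ : IsCharacter Q ψ) :
    ∃ m : ℕ, ∀ q : Q, orderOf q = 5 → ψ 1 + ψ q + ψ (q ^ 2) + ψ (q ^ 3) + ψ (q ^ 4) = 5 * m := by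
  classical
  obtain ⟨y, hy⟩ := h.exists_five
  obtain ⟨m, hm⟩ := sum_five hψ hy
  have hcf := Core.isCharacter_isClassFunction hψ
  have h5 : Fact (Nat.Prime 5) := ⟨by norm_num⟩
  refine ⟨m, fun q hq => ?_⟩
  have hsyl : ∀ x : Q, orderOf x = 5 → ∃ P : Sylow 5 Q, (P : Subgroup Q) = Subgroup.zpowers x := by
    intro x hx
    have hpg : IsPGroup 5 (Subgroup.zpowers x) := by
      refine IsPGroup.of_card (n := 1) ?_
      rw [Nat.card_zpowers, hx, pow_one]
    have hidx : ¬ 5 ∣ (Subgroup.zpowers x).index := by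
      have h1 := Subgroup.card_mul_index (Subgroup.zpowers x)
      rw [Nat.card_zpowers, hx, h.card_Q] at h1
      have h2 : (Subgroup.zpowers x).index = 64 := by omega
      rw [h2]
      norm_num
    exact ⟨hpg.toSylow hidx, rfl⟩
  obtain ⟨P, hP⟩ := hsyl y hy
  obtain ⟨R, hR⟩ := hsyl q hq
  obtain ⟨g, hg⟩ := MulAction.exists_smul_eq Q P R
  have hg2 : MulAut.conj g • (P : Subgroup Q) = (R : Subgroup Q) := by
    rw [← hg]; rfl
  have h1 : q ∈ MulAut.conj g • (P : Subgroup Q) := by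
    rw [hg2, hR]; exact Subgroup.mem_zpowers q
  obtain ⟨x, hx, hxq⟩ := h1
  rw [hP] at hx
  have hxq' : g * x * g⁻¹ = q := hxq
  have hy5 : y ^ 5 = 1 := by rw [← hy, pow_orderOf_eq_one]
  obtain ⟨k, hk⟩ := (mem_zpowers_iff_mem_range_orderOf.1 hx |> Finset.mem_image.1)
  obtain ⟨hk1, hk2⟩ := hk
  rw [Finset.mem_range, hy] at hk1
  have hpow : ∀ i : ℕ, ψ (q ^ i) = ψ (y ^ (k * i)) := by
    intro i
    rw [← hxq', conj_pow, hcf, ← hk2, pow_mul]
  have e1 := hpow 1
  have e2 := hpow 2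
  have e3 := hpow 3
  have e4 := hpow 4
  rw [pow_one] at e1
  rw [e1, e2, e3, e4]
  have y6 : y ^ 6 = y := by rw [pow_succ, hy5, one_mul]
  have y8 : y ^ 8 = y ^ 3 := by
    have : y ^ 8 = y ^ 5 * y ^ 3 := by rw [← pow_add]
    rw [this, hy5, one_mul]
  have y9 : y ^ 9 = y ^ 4 := by
    have : y ^ 9 = y ^ 5 * y ^ 4 := by rw [← pow_add]
    rw [this, hy5, one_mul]
  have y12 : y ^ 12 = y ^ 2 := by
    have : y ^ 12 = y ^ 5 * y ^ 5 * y ^ 2 := by rw [← pow_add, ← pow_add]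
    rw [this, hy5, one_mul, one_mul]
  have y16 : y ^ 16 = y := by
    have : y ^ 16 = y ^ 5 * y ^ 5 * y ^ 5 * y := by rw [← pow_add, ← pow_add, ← pow_succ]
    rw [this, hy5, one_mul, one_mul, one_mul]
  interval_cases k
  · exfalso
    rw [pow_zero] at hk2
    rw [← hk2, mul_one, mul_inv_cancel] at hxq'
    rw [← hxq', orderOf_one] at hq
    omega
  · norm_num
    exact hm
  · norm_num
    rw [y6, y8]
    linear_combination hm
  · norm_num
    rw [y6, y9, y12]
    linear_combination hm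
  · norm_num
    rw [y8, y12, y16]
    linear_combination hm

theorem sum_FF_pow [Fintype Q] (f : Q → ℂ) (i j : ℕ) (hij : i * j % 5 = 1) :
    ∑ q ∈ FF Q, f (q ^ i) = ∑ q ∈ FF Q, f q := by
  have h5 : Fact (Nat.Prime 5) := ⟨by norm_num⟩
  have key : ∀ k : ℕ, k % 5 ≠ 0 → ∀ q ∈ FF Q, q ^ k ∈ FF Q := by
    intro k hk q hq
    rw [mem_FF] at hq ⊢
    refine orderOf_eq_prime ?_ ?_
    · rw [← pow_mul, mul_comm, pow_mul, ← hq, pow_orderOf_eq_one, one_pow]
    · intro h1
      have h2 := orderOf_dvd_of_pow_eq_one h1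
      rw [hq] at h2
      omega
  have hi : i % 5 ≠ 0 := by
    intro h1
    rw [Nat.mul_mod, h1] at hij
    simp at hij
  have hj : j % 5 ≠ 0 := by
    intro h1
    rw [Nat.mul_mod, h1] at hij
    simp at hij
  have hinv : ∀ q ∈ FF Q, q ^ (i * j) = q := by
    intro q hq
    rw [mem_FF] at hq
    obtain ⟨k, hk⟩ : ∃ k, i * j = 5 * k + 1 := ⟨i * j / 5, by omega⟩
    rw [hk, pow_succ, pow_mul, ← hq, pow_orderOf_eq_one, one_pow, one_mul]
  refine Finset.sum_nbij' (fun q => q ^ i) (fun q => q ^ j) (key i hi) (key j hj) ?_ ?_ ?_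
  · intro q hq
    show (q ^ i) ^ j = q
    rw [← pow_mul]; exact hinv q hq
  · intro q hq
    show (q ^ j) ^ i = q
    rw [← pow_mul, mul_comm]; exact hinv q hq
  · intro q _
    rfl

theorem sum_FF [Fintype Q] (h : QHyp S A z) {ψ : Q → ℂ} (hψ : IsCharacter Q ψ) :
    ∃ m : ℕ, ∑ q ∈ FF Q, ψ q = 16 * (5 * m - ψ 1) := by
  obtain ⟨m, hm⟩ := sum_five_eq h hψ
  refine ⟨m, ?_⟩
  have h1 : ∑ q ∈ FF Q, (ψ 1 + ψ q + ψ (q ^ 2) + ψ (q ^ 3) + ψ (q ^ 4)) = 64 * (5 * m) := by
    rw [Finset.sum_congr rfl (fun q hq => hm q (mem_FF.1 hq)), Finset.sum_const, card_FF h]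
    simp
  rw [Finset.sum_add_distrib, Finset.sum_add_distrib, Finset.sum_add_distrib,
    Finset.sum_add_distrib, sum_FF_pow ψ 2 3 (by norm_num), sum_FF_pow ψ 3 2 (by norm_num),
    sum_FF_pow ψ 4 4 (by norm_num), Finset.sum_const, card_FF h] at h1
  push_cast at h1
  linear_combination h1 / 4

theorem exists_sq (h : QHyp S A z) : ∃ x ∈ S, x * x = z := by
  have h1 : 0 < Nat.card {s : Q // s ∈ S ∧ s * s = z} := by rw [h.sq_z]; norm_num
  obtain ⟨⟨x, hx⟩⟩ := (Nat.card_pos_iff.1 h1).1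
  exact ⟨x, hx.1, hx.2⟩

/-- Values of irreducible characters of `Q`. -/
theorem irr_data [Fintype Q] (h : QHyp S A z) {ψ : Q → ℂ} (hψ : IsIrrCharacter Q ψ) {x : Q}
    (hx : x ∈ S) (hxz : x * x = z) :
    ∃ w n e m : ℤ, (w = 1 ∨ w = -1) ∧ (∀ q, ψ (z * q) = w * ψ q) ∧ ψ 1 = n ∧
      ψ x = w * n + 4 * e ∧ ∑ q ∈ YY S z, ψ q = 16 * w * (5 * m - n) := by
  have hcf := Core.isIrr_isClassFunction hψ
  have hch := Core.isIrr_isCharacter hψ
  obtain ⟨m, hm⟩ := sum_FF h hch
  have hY : ∀ w : ℤ, (∀ q, ψ (z * q) = w * ψ q) → ∀ n : ℤ, ψ 1 = n →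
      ∑ q ∈ YY S z, ψ q = 16 * w * (5 * (m : ℤ) - n) := by
    intro w hw n hn
    rw [sum_YY h, Finset.sum_congr rfl (fun q _ => hw q), ← Finset.mul_sum, hm, hn]
    push_cast
    ring
  by_cases hA : ∃ a ∈ A, ∀ q, ψ (a * q) = - ψ q
  · obtain ⟨a, ha, hneg⟩ := hA
    obtain ⟨n, -, hn⟩ := Core.isIrr_apply_one hψ
    obtain ⟨n', hn'⟩ := four_dvd_of_neg h hψ ha hneg hn
    have hn2 : ψ 1 = ((n : ℤ) : ℂ) := by rw [hn]; push_cast; rfl
    have hx0 : ψ x = 0 := eq_zero_of_neg h hcf ha hneg hx (h.notMem_A_of_sq hxz)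
    rcases exists_sign hψ (h.z_comm · |>.eq) h.z_sq with h1 | h1
    · have h2 : ∀ q, ψ (z * q) = ((1 : ℤ) : ℂ) * ψ q := by intro q; rw [h1]; simp
      refine ⟨1, n, -n', m, Or.inl rfl, h2, hn2, ?_, hY 1 h2 n hn2⟩
      rw [hx0, hn']
      push_cast
      ring
    · have h2 : ∀ q, ψ (z * q) = ((-1 : ℤ) : ℂ) * ψ q := by intro q; rw [h1]; simp
      refine ⟨-1, n, n', m, Or.inr rfl, h2, hn2, ?_, hY (-1) h2 n hn2⟩
      rw [hx0, hn']
      push_cast
      ring
  · have h1 : ∀ a ∈ A, ∀ q, ψ (a * q) = ψ q := by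
      intro a ha
      rcases exists_sign hψ (h.central a ha) (h.sq_one a ha) with h2 | h2
      · exact h2
      · exact absurd ⟨a, ha, h2⟩ hA
    have h2 : ∀ q, ψ (z * q) = ((1 : ℤ) : ℂ) * ψ q := by
      intro q
      rw [h1 z h.z_mem]
      simp
    have h3 : ψ (x * x) = ψ 1 := by
      rw [hxz]
      have := h1 z h.z_mem 1
      rwa [mul_one] at this
    obtain ⟨e, n, hn, he⟩ := exists_sub_four hch h3 (fun f => h.hom_eq_one hx hxz f)
    refine ⟨1, n, -e, m, Or.inl rfl, h2, hn, ?_, hY 1 h2 n hn⟩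
    rw [he]
    push_cast
    ring

theorem isInt_classInner_theta [Fintype Q] (h : QHyp S A z) (hlam : lam.ker = S) {ψ : Q → ℂ}
    (hψ : IsIrrCharacter Q ψ) : ∃ k : ℤ, classInner (theta lam z 0) ψ = k := by
  obtain ⟨x, hx, hxz⟩ := exists_sq h
  obtain ⟨w, n, e, m, hw, hwz, hn, hxe, hY⟩ := irr_data h hψ hx hxz
  have hcf := Core.isIrr_isClassFunction hψ
  refine ⟨w * m + e, ?_⟩
  have h1 : ψ z = w * n := by
    have := hwz 1
    rwa [mul_one, hn] at this
  have h2 : ∑ q ∈ YY S z, chi lam 0 q * conj (ψ q) = conj (∑ q ∈ YY S z, ψ q) := by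
    rw [map_sum]
    exact Finset.sum_congr rfl fun q _ => by rw [chi_zero, one_mul]
  rw [classInner_theta h hlam, sum_XX h hcf hx hxz, h2, hY, h1, hxe]
  simp only [map_mul, map_add, map_sub, map_intCast, Complex.conj_ofNat]
  push_cast
  ring

theorem isInt_classInner_Theta [Fintype Q] (h : QHyp S A z) {ψ : Q → ℂ}
    (hψ : IsIrrCharacter Q ψ) : ∃ k : ℤ, classInner (Theta S z) ψ = k := by
  obtain ⟨x, hx, hxz⟩ := exists_sq h
  obtain ⟨w, n, e, m, hw, hwz, hn, hxe, hY⟩ := irr_data h hψ hx hxz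
  have hcf := Core.isIrr_isClassFunction hψ
  refine ⟨-(w * n + 4 * e), ?_⟩
  rw [classInner_Theta_eq h hcf hx hxz, hxe]
  simp only [map_mul, map_add, map_intCast, Complex.conj_ofNat]
  push_cast
  ring

theorem isGeneralized_of_isInt [Fintype Q] {b : Q → ℂ} (hb : IsClassFunction Q b)
    (hint : ∀ ψ : Q → ℂ, IsIrrCharacter Q ψ → ∃ k : ℤ, classInner b ψ = k) :
    IsGeneralizedCharacter Q b := by
  classical
  have := Core.finite_irr (G := Q)
  let _ : Fintype (IrrCharacter Q) := Fintype.ofFinite _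
  rw [Core.isGeneralizedCharacter_iff]
  choose k hk using fun ψ : IrrCharacter Q => hint ψ ψ.2
  refine ⟨k, ?_⟩
  conv_lhs => rw [Core.classFunction_eq_sum hb]
  refine Finset.sum_congr rfl fun ψ _ => ?_
  rw [hk ψ, Int.cast_smul_eq_zsmul]

theorem isGeneralized_Theta [Fintype Q] (h : QHyp S A z) :
    IsGeneralizedCharacter Q (Theta S z) :=
  isGeneralized_of_isInt (isClassFunction_Theta h) fun _ hψ => isInt_classInner_Theta h hψ

theorem isGeneralized_theta [Fintype Q] (h : QHyp S A z) (hlam : lam.ker = S) (i : ZMod 5) :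
    IsGeneralizedCharacter Q (theta lam z i) := by
  have h1 : IsGeneralizedCharacter Q (theta lam z 0) :=
    isGeneralized_of_isInt (isClassFunction_theta h 0) fun _ hψ => isInt_classInner_theta h hlam hψ
  have h2 : IsGeneralizedCharacter Q (chi lam i) :=
    ⟨chi lam i, 0, Core.isIrr_isCharacter (isIrr_chi i), Core.isCharacter_zero, (sub_zero _).symm⟩
  have h3 : theta lam z i = chi lam i * theta lam z 0 := by
    funext q
    rw [Pi.mul_apply]
    by_cases hq : z ∈ Subgroup.zpowers q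
    · by_cases h1 : q = z
      · rw [h1, theta_z, theta_z, chi_of_mem hlam i h.z_S, one_mul]
      · rw [theta, theta, if_pos hq, if_pos hq, if_neg h1, if_neg h1, chi_zero]
        ring
    · rw [theta_of_notMem i hq, theta_of_notMem 0 hq, mul_zero]
  rw [h3]
  exact Brauer.isGeneralizedCharacter_mul h2 h1

end Cfsg.Agent.TwoFusion.U34Q
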