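import Mathlib
import Cfsg.Prelude.Def_Characters
import Cfsg.Prelude.Def_Blocks
import Cfsg.Agent.Characters.Core
import Cfsg.Agent.Classification.BGOrder
import Cfsg.Agent.Classification.RTwo.General
import Cfsg.Agent.Classification.RTwo.BlockMem
import Cfsg.Agent.TwoFusion.U34Q
import Cfsg.Agent.TwoFusion.U34QGen
import Cfsg.Agent.TwoFusion.U34Mem
import Cfsg.Agent.TwoFusion.U34Rows

/-!
# The `U₃(4)` case: the induced functions in the group

`h : General.Hyp t z π`, `hq : QHyp S A z` (`Q = S:5`), `lam : Q →* ℂˣ` with kernel `S`, `M` a modular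
ideal.  `TT π lam z i`, `UU π S z` are the functions of `G` induced from `θ i ∘ π`, `Θ ∘ π`.
`cT χ i = (TT i, χ)`, `cU χ = (UU, χ)`, `dg χ = χ 1` as integers.
`Iota M G`: the non-principal characters of the principal 2-block.

All the conditions of `U34.Rows` which do not involve the core or the Galois action are proved:
`gram`, `cross`, `normU`, `deg_eq`, `degU_eq`, `rel_eq`, `relU_eq`, `neg_lt`; the values are `val_t`
(`χ t = dd`) and `val_sq` (`χ x = - u` for `π x ∈ S`, `(π x)² = z`).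
-/

set_option autoImplicit false
set_option linter.unusedSectionVars false

namespace Cfsg.Agent.TwoFusion.U34G

open Cfsg Cfsg.Agent.Characters Cfsg.Agent.TwoFusion.U34Q Cfsg.Agent.TwoFusion.U34
  Cfsg.Agent.Classification.RTwo.General Cfsg.Agent.Classification.BGIsometry
open scoped ComplexConjugate

universe u v

section Defs

variable {G : Type u} [Group G] {Q : Type v} [Group Q] {t : G}

/-- The function of `G` induced from `θ i ∘ π`. -/
noncomputable def TT [Fintype G] (π : (Subgroup.centralizer ({t} : Set G)) →* Q) (lam : Q →* ℂˣ)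
    (z : Q) (i : ZMod 5) : G → ℂ :=
  indFun (Subgroup.centralizer ({t} : Set G)) (fun x => theta lam z i (π x))

/-- The function of `G` induced from `Θ ∘ π`. -/
noncomputable def UU [Fintype G] (π : (Subgroup.centralizer ({t} : Set G)) →* Q) (S : Subgroup Q)
    (z : Q) : G → ℂ :=
  indFun (Subgroup.centralizer ({t} : Set G)) (fun x => Theta S z (π x))

/-- `(T i, χ)` as an integer. -/
noncomputable def cT [Fintype G] (π : (Subgroup.centralizer ({t} : Set G)) →* Q) (lam : Q →* ℂˣ)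
    (z : Q) (χ : G → ℂ) (i : ZMod 5) : ℤ := ⌊(classInner (TT π lam z i) χ).re⌋

/-- `(U, χ)` as an integer. -/
noncomputable def cU [Fintype G] (π : (Subgroup.centralizer ({t} : Set G)) →* Q) (S : Subgroup Q)
    (z : Q) (χ : G → ℂ) : ℤ := ⌊(classInner (UU π S z) χ).re⌋

/-- The degree as an integer. -/
noncomputable def dg (χ : G → ℂ) : ℤ := ⌊(χ 1).re⌋

/-- The non-principal characters in the principal 2-block. -/
abbrev Iota (M : Ideal AlgInt) (G : Type u) [Group G] : Type u :=
  {χ : IrrCharacter G // χ ∈ principalBlock M G ∧ (χ : G → ℂ) ≠ 1}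

end Defs

theorem floor_spec {w : ℂ} (h : ∃ n : ℤ, w = n) : w = ((⌊w.re⌋ : ℤ) : ℂ) := by
  obtain ⟨n, rfl⟩ := h
  simp

section Basic

variable {G : Type u} [Group G] [Fintype G] {Q : Type v} [Group Q] [Fintype Q] {t : G} {z : Q}
  {π : (Subgroup.centralizer ({t} : Set G)) →* Q} {S A : Subgroup Q} {lam : Q →* ℂˣ}

theorem dg_spec {χ : G → ℂ} (hχ : IsIrrCharacter G χ) : χ 1 = (dg χ : ℂ) := by
  refine floor_spec ?_
  obtain ⟨n, -, hn⟩ := Core.isIrr_apply_one hχ
  exact ⟨n, by rw [hn]; norm_cast⟩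

theorem dg_pos {χ : G → ℂ} (hχ : IsIrrCharacter G χ) : 0 < dg χ := by
  obtain ⟨n, hn0, hn⟩ := Core.isIrr_apply_one hχ
  rw [dg, hn]
  simpa using hn0

theorem theta_ne (q : Q) (i : ZMod 5) (h : theta lam z i q ≠ 0) : z ∈ Subgroup.zpowers q := by
  by_contra h1
  exact h (theta_of_notMem i h1)

theorem Theta_ne (hq : QHyp S A z) (q : Q) (h : Theta S z q ≠ 0) : z ∈ Subgroup.zpowers q := by
  by_contra h1
  exact h (Theta_of_notMem hq h1)

theorem isGen_TT (hq : QHyp S A z) (hlam : lam.ker = S) (i : ZMod 5) :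
    IsGeneralizedCharacter G (TT π lam z i) := by
  have h1 := isGeneralized_theta hq hlam i
  unfold TT
  exact isGeneralized_ind_comp (b := theta lam z i) h1

theorem isGen_UU (hq : QHyp S A z) : IsGeneralizedCharacter G (UU π S z) := by
  have h1 := isGeneralized_Theta hq
  unfold UU
  exact isGeneralized_ind_comp (b := Theta S z) h1

theorem isClass_of_gen {f : G → ℂ} (hf : IsGeneralizedCharacter G f) : IsClassFunction G f := by
  obtain ⟨χ, ψ, hχ, hψ, rfl⟩ := hf
  intro g k
  rw [Pi.sub_apply, Pi.sub_apply, Core.isCharacter_isClassFunction hχ g k,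
    Core.isCharacter_isClassFunction hψ g k]

theorem isInt_of_gen {f : G → ℂ} (hf : IsGeneralizedCharacter G f) {χ : G → ℂ}
    (hχ : IsIrrCharacter G χ) : ∃ n : ℤ, classInner f χ = n := by
  classical
  have : Finite (IrrCharacter G) := Core.finite_irr
  have := Fintype.ofFinite (IrrCharacter G)
  obtain ⟨m, hm⟩ := (Core.isGeneralizedCharacter_iff).1 hf
  refine ⟨m ⟨χ, hχ⟩, ?_⟩
  rw [hm]
  exact Core.classInner_sum_zsmul_irr m ⟨χ, hχ⟩

/-- The defining property of `cT`. -/
theorem cT_spec (hq : QHyp S A z) (hlam : lam.ker = S) {χ : G → ℂ} (hχ : IsIrrCharacter G χ)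
    (i : ZMod 5) : classInner (TT π lam z i) χ = (cT π lam z χ i : ℂ) :=
  floor_spec (isInt_of_gen (isGen_TT hq hlam i) hχ)

/-- The defining property of `cU`. -/
theorem cU_spec (hq : QHyp S A z) {χ : G → ℂ} (hχ : IsIrrCharacter G χ) :
    classInner (UU π S z) χ = (cU π S z χ : ℂ) :=
  floor_spec (isInt_of_gen (isGen_UU hq) hχ)

theorem cT_one (h : Hyp t z π) (hq : QHyp S A z) (hlam : lam.ker = S) (i : ZMod 5) :
    cT π lam z (1 : G → ℂ) i = if i = 0 then 1 else 0 := by
  have h1 := cT_spec (π := π) hq hlam (Core.isIrr_one (G := G)) i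
  rw [TT, classInner_ind_one h, classInner_theta_one hq hlam] at h1
  have h2 : ((cT π lam z (1 : G → ℂ) i : ℤ) : ℂ) = ((if i = 0 then 1 else 0 : ℤ) : ℂ) := by
    rw [← h1]
    split_ifs <;> simp
  exact_mod_cast h2

theorem cU_one (h : Hyp t z π) (hq : QHyp S A z) : cU π S z (1 : G → ℂ) = -1 := by
  have h1 := cU_spec (π := π) hq (Core.isIrr_one (G := G))
  rw [UU, classInner_ind_one h, classInner_Theta_one hq] at h1
  have h2 : ((cU π S z (1 : G → ℂ) : ℤ) : ℂ) = ((-1 : ℤ) : ℂ) := by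
    rw [← h1]
    simp
  exact_mod_cast h2

theorem dg_one : dg (1 : G → ℂ) = 1 := by
  simp [dg]

theorem sq_mem_A (hq : QHyp S A z) {q : Q} (h : q * q = 1) : q ∈ A := by
  have h5 := hq.pow_five_mem q
  have h1 : q ^ 5 = q := by
    calc q ^ 5 = (q * q) * (q * q) * q := by simp only [pow_succ, pow_zero, one_mul, mul_assoc]
      _ = q := by rw [h, one_mul, one_mul]
  rw [h1] at h5
  exact hq.inv q h5 h

theorem hS_centralizer (hq : QHyp S A z) : Subgroup.centralizer (S : Set Q) ≤ S := by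
  intro q hqc
  by_contra hqS
  obtain ⟨-, h5⟩ := hq.pow_five_mem_A hqS
  obtain ⟨x, hx, hxz⟩ := exists_sq hq
  have h1 : x * q ^ 16 = q ^ 16 * x := by
    have h2 := pow_mem hqc 16
    rw [Subgroup.mem_centralizer_iff] at h2
    exact h2 x hx
  exact hq.notMem_A_of_sq hxz (hq.fpf _ h5 x hx h1)

theorem hS_pgroup (hq : QHyp S A z) : IsPGroup 2 S :=
  IsPGroup.of_card (n := 6) (by rw [hq.card_S]; norm_num)

theorem hcen (hq : QHyp S A z) : ∀ q ∈ DD z, q ≠ z →
    IsPGroup 2 (Subgroup.centralizer ({q} : Set Q)) := by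
  rintro q ⟨hz, m, hm⟩ hne
  refine (hS_pgroup hq).to_le ?_
  have hqS : q ∈ S := by
    by_contra hqS
    obtain ⟨-, h5⟩ := hq.pow_five_mem_A hqS
    have h1 : orderOf (q ^ 16) ∣ 2 ^ m := by
      apply orderOf_dvd_of_pow_eq_one
      rw [← pow_mul, mul_comm, pow_mul, hm, one_pow]
    rw [h5] at h1
    have := (Nat.Prime.dvd_of_dvd_pow (by norm_num : Nat.Prime 5) h1)
    omega
  have hqq : q * q = z := by
    rcases (hq.mem_zpowers_iff q).1 hz with h1 | h1 | h1
    · exact absurd h1 hne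
    · exact h1.2
    · exact absurd hqS h1.1
  intro y hy
  by_contra hyS
  obtain ⟨-, h5⟩ := hq.pow_five_mem_A hyS
  rw [Subgroup.mem_centralizer_singleton_iff] at hy
  have h1 : q * y ^ 16 = y ^ 16 * q := by
    have h2 : Commute y q := hy
    exact ((h2.pow_left 16).eq).symm
  exact hq.notMem_A_of_sq hqq (hq.fpf _ h5 q hqS h1)

/-- Block membership for the `T i`. -/
theorem cT_eq_zero {M : Ideal AlgInt} (hM : IsPModular 2 M) (h : Hyp t z π) (hq : QHyp S A z)
    (hlam : lam.ker = S) {χ : IrrCharacter G} (hχ : χ ∉ principalBlock M G) (i : ZMod 5) :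
    cT π lam z (χ : G → ℂ) i = 0 := by
  have h1 := cT_spec (π := π) hq hlam χ.2 i
  rw [TT, U34Mem.classInner_ind_eq_zero hM h hq.normal (hS_pgroup hq) (hS_centralizer hq) (hcen hq)
    (isClassFunction_theta hq i) (fun q => theta_ne q i) hχ] at h1
  exact_mod_cast h1.symm

/-- Block membership for `U`. -/
theorem cU_eq_zero {M : Ideal AlgInt} (hM : IsPModular 2 M) (h : Hyp t z π) (hq : QHyp S A z)
    {χ : IrrCharacter G} (hχ : χ ∉ principalBlock M G) :
    cU π S z (χ : G → ℂ) = 0 := by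
  have h1 := cU_spec (π := π) hq χ.2
  rw [UU, U34Mem.classInner_ind_eq_zero hM h hq.normal (hS_pgroup hq) (hS_centralizer hq) (hcen hq)
    (isClassFunction_Theta hq) (Theta_ne hq) hχ] at h1
  exact_mod_cast h1.symm

/-- Sums over all irreducible characters and over `Iota M G`. -/
theorem sum_irr_eq [Fintype (IrrCharacter G)] {M : Ideal AlgInt} [Fintype (Iota M G)]
    {R : Type*} [AddCommGroup R] (F : (G → ℂ) → R)
    (hF : ∀ χ : IrrCharacter G, χ ∉ principalBlock M G → F χ = 0) :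
    ∑ χ : IrrCharacter G, F χ = F 1 + ∑ j : Iota M G, F (j.1 : G → ℂ) := by
  classical
  have h1 : ∑ j : Iota M G, F (j.1 : G → ℂ) =
      ∑ χ ∈ (Finset.univ : Finset (IrrCharacter G)).erase ⟨1, Core.isIrr_one⟩, F χ := by
    have h2 : ∑ j : Iota M G, F (j.1 : G → ℂ) =
        ∑ χ : IrrCharacter G with (χ ∈ principalBlock M G ∧ (χ : G → ℂ) ≠ 1), F χ := by
      symm
      refine Finset.sum_subtype _ (fun χ => ?_) (fun χ : IrrCharacter G => F χ)
      rw [Finset.mem_filter]
      simp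
    rw [h2]
    refine Finset.sum_subset ?_ ?_
    · intro χ hχ
      rw [Finset.mem_filter] at hχ
      rw [Finset.mem_erase]
      exact ⟨fun h3 => hχ.2.2 (by rw [h3]), Finset.mem_univ _⟩
    · intro χ hχ hχ'
      rw [Finset.mem_erase] at hχ
      rw [Finset.mem_filter] at hχ'
      apply hF
      intro h3
      exact hχ' ⟨Finset.mem_univ _, h3, fun h4 => hχ.1 (Subtype.ext h4)⟩
  rw [h1, ← Finset.add_sum_erase _ _ (Finset.mem_univ (⟨1, Core.isIrr_one⟩ : IrrCharacter G))]

end Basic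

section Main

variable {G : Type u} [Group G] [Fintype G] {Q : Type v} [Group Q] [Fintype Q] {t : G} {z : Q}
  {π : (Subgroup.centralizer ({t} : Set G)) →* Q} {S A : Subgroup Q} {lam : Q →* ℂˣ}
  {M : Ideal AlgInt}

/-! ### Values -/

open Classical in
theorem tau_eq (hq : QHyp S A z) (hlam : lam.ker = S) (q : Q) :
    -5 * Theta S z q - 4 * ∑ i : ZMod 5, theta lam z i q =
      if q = z then (Nat.card Q : ℂ) else 0 := by
  rw [hq.card_Q]
  by_cases hz : z ∈ Subgroup.zpowers q
  · rcases (hq.mem_zpowers_iff q).1 hz with h1 | h1 | h1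
    · subst h1
      rw [if_pos rfl, Theta_of_mem_A hq hq.z_mem, Finset.sum_congr rfl fun i _ => theta_z i,
        Finset.sum_const, Finset.card_univ, ZMod.card]
      norm_num
    · have h2 : q ≠ z := by
        rintro rfl
        exact hq.notMem_A_of_sq h1.2 hq.z_mem
      rw [if_neg h2, Theta_sq h1.1 h1.2, Finset.sum_congr rfl fun i _ => theta_sq hq hlam i h1.1 h1.2,
        Finset.sum_const, Finset.card_univ, ZMod.card]
      norm_num
    · have h2 : q ≠ z := by
        rintro rfl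
        exact h1.1 hq.z_S
      rw [if_neg h2, Theta_zero (fun h3 => h1.1 h3.1),
        Finset.sum_congr rfl fun i _ => theta_five hq i h1.1 h1.2, ← Finset.mul_sum,
        sum_chi_eq_zero hq hlam h1.1]
      norm_num
  · have h2 : q ≠ z := by
      rintro rfl
      exact hz (Subgroup.mem_zpowers q)
    rw [if_neg h2, Theta_of_notMem hq hz, Finset.sum_congr rfl fun i _ => theta_of_notMem i hz]
    simp

/-- The value at the involution `t`. -/
theorem val_t (hM : IsPModular 2 M) (h : Hyp t z π) (hq : QHyp S A z) (hlam : lam.ker = S)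
    {χ : IrrCharacter G} (hχ : χ ∈ principalBlock M G) :
    (χ : G → ℂ) t = ((-5 * cU π S z (χ : G → ℂ) - 4 * ∑ i, cT π lam z (χ : G → ℂ) i : ℤ) : ℂ) := by
  classical
  let _ : Fintype (Subgroup.centralizer ({t} : Set G)) := Fintype.ofFinite _
  have h1 := Classification.RTwo.BlockMem.classInner_tau h M hM (X := (χ : G → ℂ))
    ⟨χ, hχ, Or.inl rfl⟩ (fun q => -5 * Theta S z q - 4 * ∑ i : ZMod 5, theta lam z i q)
    (tau_eq hq hlam)
  rw [classInner_indFun_left _ _ (Core.isIrr_isClassFunction χ.2)] at h1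
  have h2 : ∀ i, classInner (fun x : Subgroup.centralizer ({t} : Set G) => theta lam z i (π x))
      (fun x => (χ : G → ℂ) x) = (cT π lam z (χ : G → ℂ) i : ℂ) := by
    intro i
    rw [← cT_spec (π := π) hq hlam χ.2 i, TT,
      classInner_indFun_left _ _ (Core.isIrr_isClassFunction χ.2)]
  have h3 : classInner (fun x : Subgroup.centralizer ({t} : Set G) => Theta S z (π x))
      (fun x => (χ : G → ℂ) x) = (cU π S z (χ : G → ℂ) : ℂ) := by
    rw [← cU_spec (π := π) hq χ.2, UU,
      classInner_indFun_left _ _ (Core.isIrr_isClassFunction χ.2)]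
  have h4 : (fun x : Subgroup.centralizer ({t} : Set G) =>
      -5 * Theta S z (π x) - 4 * ∑ i : ZMod 5, theta lam z i (π x)) =
      ((-5 : ℂ) • (fun x => Theta S z (π x))) -
        (4 : ℂ) • ∑ i : ZMod 5, (fun x => theta lam z i (π x)) := by
    funext x
    simp [Finset.sum_apply]
  rw [h4, Core.classInner_sub_left, Core.classInner_smul_left, Core.classInner_smul_left,
    Core.classInner_sum_left, h3, Finset.sum_congr rfl fun i _ => h2 i] at h1
  have h5 := congrArg (starRingEnd ℂ) h1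
  rw [Complex.conj_conj] at h5
  rw [← h5]
  push_cast
  simp [Complex.conj_ofNat]

/-- The value at the elements mapping to an element of `S` with square `z`. -/
theorem val_sq (hM : IsPModular 2 M) (h : Hyp t z π) (hq : QHyp S A z)
    {χ : IrrCharacter G} (hχ : χ ∈ principalBlock M G)
    (x : Subgroup.centralizer ({t} : Set G)) (hx : π x ∈ S) (hxz : π x * π x = z) :
    (χ : G → ℂ) x = ((- cU π S z (χ : G → ℂ) : ℤ) : ℂ) := by
  obtain ⟨F, hF, hFx⟩ := exists_values h M hM (X := (χ : G → ℂ)) ⟨χ, hχ, Or.inl rfl⟩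
  have hDD : ∀ q : Q, q ∈ S → q * q = z → q ∈ DD z := by
    intro q h1 h2
    refine ⟨(hq.mem_zpowers_iff q).2 (Or.inr (Or.inl ⟨h1, h2⟩)), 2, ?_⟩
    exact hq.pow_four h1
  have h1 : classInner (UU π S z) (χ : G → ℂ) = classInner (Theta S z) F := by
    refine classInner_ind_values h (Core.isIrr_isClassFunction χ.2) ?_
    intro y hy
    apply hFx
    have h2 : π y ∈ S ∧ π y * π y = z := by
      by_contra h3
      exact hy (Theta_zero h3)
    exact hDD _ h2.1 h2.2
  rw [cU_spec hq χ.2, classInner_Theta_eq hq hF hx hxz, ← hFx x (hDD _ hx hxz)] at h1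
  have h2 := congrArg (fun w => - (starRingEnd ℂ) w) h1
  simp only [map_neg, Complex.conj_conj, neg_neg] at h2
  rw [← h2]
  push_cast
  simp

/-! ### Gram matrix -/

theorem parseval [Fintype (IrrCharacter G)] {f f' : G → ℂ} (hf : IsClassFunction G f)
    (hf' : IsClassFunction G f') {a a' : (G → ℂ) → ℤ}
    (ha : ∀ χ : IrrCharacter G, classInner f (χ : G → ℂ) = a χ)
    (ha' : ∀ χ : IrrCharacter G, classInner f' (χ : G → ℂ) = a' χ) {n : ℤ}
    (hn : classInner f f' = n) : ∑ χ : IrrCharacter G, a χ * a' χ = n := by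
  rw [Core.classInner_eq_sum hf hf'] at hn
  have h1 : ∀ χ : IrrCharacter G, classInner f (χ : G → ℂ) * conj (classInner f' (χ : G → ℂ)) =
      ((a χ * a' χ : ℤ) : ℂ) := by
    intro χ
    rw [ha, ha', map_intCast]
    push_cast
    rfl
  rw [Finset.sum_congr rfl fun χ _ => h1 χ] at hn
  exact_mod_cast hn

theorem gram [Fintype (Iota M G)] (hM : IsPModular 2 M) (h : Hyp t z π) (hq : QHyp S A z)
    (hlam : lam.ker = S) (i k : ZMod 5) :
    ∑ j : Iota M G, cT π lam z (j.1 : G → ℂ) i * cT π lam z (j.1 : G → ℂ) k =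
      (if i = k then 5 else 1) - (if i = 0 ∧ k = 0 then 1 else 0) := by
  classical
  have : Finite (IrrCharacter G) := Core.finite_irr
  have := Fintype.ofFinite (IrrCharacter G)
  have h1 := parseval (isClass_of_gen (isGen_TT (π := π) hq hlam i))
    (isClass_of_gen (isGen_TT (π := π) hq hlam k)) (a := fun χ => cT π lam z χ i)
    (a' := fun χ => cT π lam z χ k) (fun χ => cT_spec hq hlam χ.2 i)
    (fun χ => cT_spec hq hlam χ.2 k) (n := if i = k then 5 else 1) (by
      rw [TT, TT, classInner_ind_comp h (isClassFunction_theta hq i) (isClassFunction_theta hq k)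
        (fun q => theta_ne q i) (fun q => theta_ne q k), classInner_theta_theta hq hlam]
      split_ifs <;> simp)
  rw [sum_irr_eq (M := M) (fun χ => cT π lam z χ i * cT π lam z χ k)
    (fun χ hχ => by rw [cT_eq_zero hM h hq hlam hχ, zero_mul]), cT_one h hq hlam,
    cT_one h hq hlam] at h1
  rw [← h1]
  by_cases hi : i = 0 <;> by_cases hk : k = 0 <;> simp [hi, hk]

theorem cross [Fintype (Iota M G)] (hM : IsPModular 2 M) (h : Hyp t z π) (hq : QHyp S A z)
    (hlam : lam.ker = S) (i : ZMod 5) :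
    ∑ j : Iota M G, cT π lam z (j.1 : G → ℂ) i * cU π S z (j.1 : G → ℂ) =
      -4 + (if i = 0 then 1 else 0) := by
  classical
  have : Finite (IrrCharacter G) := Core.finite_irr
  have := Fintype.ofFinite (IrrCharacter G)
  have h1 := parseval (isClass_of_gen (isGen_TT (π := π) hq hlam i))
    (isClass_of_gen (isGen_UU (π := π) hq)) (a := fun χ => cT π lam z χ i)
    (a' := fun χ => cU π S z χ) (fun χ => cT_spec hq hlam χ.2 i)
    (fun χ => cU_spec hq χ.2) (n := -4) (by
      rw [TT, UU, classInner_ind_comp h (isClassFunction_theta hq i) (isClassFunction_Theta hq)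
        (fun q => theta_ne q i) (Theta_ne hq), classInner_theta_Theta hq hlam]
      simp)
  rw [sum_irr_eq (M := M) (fun χ => cT π lam z χ i * cU π S z χ)
    (fun χ hχ => by rw [cT_eq_zero hM h hq hlam hχ, zero_mul]), cT_one h hq hlam,
    cU_one h hq] at h1
  rw [← h1]
  by_cases hi : i = 0 <;> simp [hi]

theorem normU [Fintype (Iota M G)] (hM : IsPModular 2 M) (h : Hyp t z π) (hq : QHyp S A z) :
    ∑ j : Iota M G, cU π S z (j.1 : G → ℂ) ^ 2 = 15 := by
  classical
  have : Finite (IrrCharacter G) := Core.finite_irr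
  have := Fintype.ofFinite (IrrCharacter G)
  have h1 := parseval (isClass_of_gen (isGen_UU (π := π) hq))
    (isClass_of_gen (isGen_UU (π := π) hq)) (a := fun χ => cU π S z χ)
    (a' := fun χ => cU π S z χ) (fun χ => cU_spec hq χ.2)
    (fun χ => cU_spec hq χ.2) (n := 16) (by
      rw [UU, classInner_ind_comp h (isClassFunction_Theta hq) (isClassFunction_Theta hq)
        (Theta_ne hq) (Theta_ne hq), classInner_Theta_Theta hq]
      simp)
  rw [sum_irr_eq (M := M) (fun χ => cU π S z χ * cU π S z χ)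
    (fun χ hχ => by rw [cU_eq_zero hM h hq hχ, zero_mul]), cU_one h hq] at h1
  simp only [sq]
  linarith

/-! ### Degrees -/

theorem apply_one_eq [Fintype (IrrCharacter G)] {f : G → ℂ} (hf : IsClassFunction G f)
    {a : (G → ℂ) → ℤ} (ha : ∀ χ : IrrCharacter G, classInner f (χ : G → ℂ) = a χ)
    (h0 : f 1 = 0) : ∑ χ : IrrCharacter G, a χ * dg (χ : G → ℂ) = 0 := by
  have h1 := congrFun (Core.classFunction_eq_sum hf) 1
  rw [h0, Finset.sum_apply] at h1
  have h2 : ∀ χ : IrrCharacter G, (classInner f (χ : G → ℂ) • (χ : G → ℂ)) 1 =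
      ((a χ * dg (χ : G → ℂ) : ℤ) : ℂ) := by
    intro χ
    rw [Pi.smul_apply, ha, dg_spec χ.2, smul_eq_mul]
    push_cast
    rfl
  rw [Finset.sum_congr rfl fun χ _ => h2 χ] at h1
  exact_mod_cast h1.symm

theorem deg_eq [Fintype (Iota M G)] (hM : IsPModular 2 M) (h : Hyp t z π) (hq : QHyp S A z)
    (hlam : lam.ker = S) (i : ZMod 5) :
    ∑ j : Iota M G, cT π lam z (j.1 : G → ℂ) i * dg (j.1 : G → ℂ) = -(if i = 0 then 1 else 0) := by
  classical
  have : Finite (IrrCharacter G) := Core.finite_irr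
  have := Fintype.ofFinite (IrrCharacter G)
  have h1 := apply_one_eq (isClass_of_gen (isGen_TT (π := π) hq hlam i))
    (a := fun χ => cT π lam z χ i) (fun χ => cT_spec hq hlam χ.2 i)
    (ind_one h (fun q => theta_ne q i))
  rw [sum_irr_eq (M := M) (fun χ => cT π lam z χ i * dg χ)
    (fun χ hχ => by rw [cT_eq_zero hM h hq hlam hχ, zero_mul]), cT_one h hq hlam, dg_one,
    mul_one] at h1
  linarith

theorem degU_eq [Fintype (Iota M G)] (hM : IsPModular 2 M) (h : Hyp t z π) (hq : QHyp S A z) :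
    ∑ j : Iota M G, cU π S z (j.1 : G → ℂ) * dg (j.1 : G → ℂ) = 1 := by
  classical
  have : Finite (IrrCharacter G) := Core.finite_irr
  have := Fintype.ofFinite (IrrCharacter G)
  have h1 := apply_one_eq (isClass_of_gen (isGen_UU (π := π) hq))
    (a := fun χ => cU π S z χ) (fun χ => cU_spec hq χ.2) (ind_one h (Theta_ne hq))
  rw [sum_irr_eq (M := M) (fun χ => cU π S z χ * dg χ)
    (fun χ hχ => by rw [cU_eq_zero hM h hq hχ, zero_mul]), cU_one h hq, dg_one, mul_one] at h1
  linarith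

/-! ### The class algebra relations -/

theorem isClass_indFun (H : Subgroup G) (θ : H → ℂ) : IsClassFunction G (indFun H θ) := by
  intro g k
  rw [Core.indFun_apply, Core.indFun_apply]
  congr 1
  refine Fintype.sum_equiv (Equiv.mulLeft k⁻¹) _ _ fun x => ?_
  rw [Equiv.coe_mulLeft]
  congr 1
  group

theorem ind_decomp [Fintype (IrrCharacter G)] (H : Subgroup G) (θ : H → ℂ) {a : (G → ℂ) → ℂ}
    (ha : ∀ χ : IrrCharacter G, classInner (indFun H θ) (χ : G → ℂ) = a χ) :
    indFun H θ = fun g => ∑ χ ∈ (Finset.univ : Finset (IrrCharacter G)), a χ * (χ : G → ℂ) g := by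
  conv_lhs => rw [Core.classFunction_eq_sum (isClass_indFun H θ)]
  funext g
  rw [Finset.sum_apply]
  refine Finset.sum_congr rfl fun χ _ => ?_
  rw [Pi.smul_apply, ha, smul_eq_mul]

/-- Passage to the sums over `Iota M G`. -/
theorem to_iota [Fintype (IrrCharacter G)] [Fintype (Iota M G)] (hM : IsPModular 2 M)
    (h : Hyp t z π) (hq : QHyp S A z) (hlam : lam.ker = S) (a : (G → ℂ) → ℤ)
    (ha : ∀ χ : IrrCharacter G, χ ∉ principalBlock M G → a χ = 0) :
    ∑ χ : IrrCharacter G, (a χ : ℂ) * ((χ : G → ℂ) t ^ 2 / (χ : G → ℂ) 1) =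
      (((a 1 : ℚ) + ∑ j : Iota M G, (a (j.1 : G → ℂ) : ℚ) *
        ((dd (fun j : Iota M G => cT π lam z (j.1 : G → ℂ))
          (fun j : Iota M G => cU π S z (j.1 : G → ℂ)) j : ℤ) : ℚ) ^ 2 /
        ((dg (j.1 : G → ℂ) : ℤ) : ℚ) : ℚ) : ℂ) := by
  rw [sum_irr_eq (M := M) (fun χ : G → ℂ => (a χ : ℂ) * (χ t ^ 2 / χ 1))
    (fun χ hχ => by simp only [ha χ hχ, Int.cast_zero, zero_mul])]
  rw [Pi.one_apply, Pi.one_apply, one_pow, div_one, mul_one]
  push_cast
  congr 1
  refine Finset.sum_congr rfl fun j _ => ?_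
  rw [val_t hM h hq hlam j.2.1, dg_spec j.1.2, mul_div_assoc, dd, ss]

open Classical in
theorem theta_mul (hq : QHyp S A z) {p q : Q} (hp : p * p = 1) (hqq : q * q = 1) (i : ZMod 5) :
    theta lam z i (p * q) = if p * q = z then -16 else 0 := by
  have h1 : p * q ∈ A := mul_mem (sq_mem_A hq hp) (sq_mem_A hq hqq)
  by_cases h2 : p * q = z
  · rw [if_pos h2, h2, theta_z]
  · rw [if_neg h2, theta_of_mem_A hq i h1 h2]

theorem rel_eq [Fintype (Iota M G)] (hM : IsPModular 2 M) (h : Hyp t z π) (hq : QHyp S A z)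
    (hlam : lam.ker = S) (i : ZMod 5) (hi : i ≠ 0) :
    ∑ j : Iota M G, ((cT π lam z (j.1 : G → ℂ) 0 - cT π lam z (j.1 : G → ℂ) i : ℤ) : ℚ) *
        ((dd (fun j : Iota M G => cT π lam z (j.1 : G → ℂ))
          (fun j : Iota M G => cU π S z (j.1 : G → ℂ)) j : ℤ) : ℚ) ^ 2 /
        ((dg (j.1 : G → ℂ) : ℤ) : ℚ) = -1 := by
  classical
  have : Finite (IrrCharacter G) := Core.finite_irr
  have := Fintype.ofFinite (IrrCharacter G)
  let _ : Fintype (Subgroup.centralizer ({t} : Set G)) := Fintype.ofFinite _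
  have h1 : ∑ χ : IrrCharacter G, (((cT π lam z (χ : G → ℂ) 0 - cT π lam z (χ : G → ℂ) i : ℤ)) : ℂ) *
      ((χ : G → ℂ) t ^ 2 / (χ : G → ℂ) 1) = 0 := by
    refine relation h (b := fun q => theta lam z 0 q - theta lam z i q) ?_ ?_
      (Finset.univ : Finset (IrrCharacter G))
      (fun χ => (((cT π lam z (χ : G → ℂ) 0 - cT π lam z (χ : G → ℂ) i : ℤ)) : ℂ))
      (fun χ => (χ : G → ℂ)) (fun χ _ => Or.inl χ.2) ?_
    · intro q hne
      by_contra hz
      exact hne (by rw [theta_of_notMem 0 hz, theta_of_notMem i hz, sub_zero])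
    · intro p q hp hqq
      rw [theta_mul hq hp hqq, theta_mul hq hp hqq, sub_self]
    · refine ind_decomp (Subgroup.centralizer ({t} : Set G)) _
        (a := fun χ => (((cT π lam z χ 0 - cT π lam z χ i : ℤ)) : ℂ)) ?_
      intro χ
      push_cast
      rw [← cT_spec (π := π) hq hlam χ.2 0, ← cT_spec (π := π) hq hlam χ.2 i, TT, TT,
        classInner_indFun_left _ _ (Core.isIrr_isClassFunction χ.2),
        classInner_indFun_left _ _ (Core.isIrr_isClassFunction χ.2),
        classInner_indFun_left _ _ (Core.isIrr_isClassFunction χ.2), ← Core.classInner_sub_left]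
      rfl
  rw [to_iota hM h hq hlam (fun χ => cT π lam z χ 0 - cT π lam z χ i) (fun χ hχ => by
    simp only [cT_eq_zero hM h hq hlam hχ, sub_self])] at h1
  have h2 := (Rat.cast_injective (α := ℂ)) (h1.trans Rat.cast_zero.symm)
  rw [cT_one h hq hlam, cT_one h hq hlam, if_pos rfl, if_neg hi] at h2
  push_cast at h2 ⊢
  linarith

theorem relU_eq [Fintype (Iota M G)] (hM : IsPModular 2 M) (h : Hyp t z π) (hq : QHyp S A z)
    (hlam : lam.ker = S) :
    ∑ j : Iota M G, (cU π S z (j.1 : G → ℂ) : ℚ) *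
        ((dd (fun j : Iota M G => cT π lam z (j.1 : G → ℂ))
          (fun j : Iota M G => cU π S z (j.1 : G → ℂ)) j : ℤ) : ℚ) ^ 2 /
        ((dg (j.1 : G → ℂ) : ℤ) : ℚ) = 1 := by
  classical
  have : Finite (IrrCharacter G) := Core.finite_irr
  have := Fintype.ofFinite (IrrCharacter G)
  let _ : Fintype (Subgroup.centralizer ({t} : Set G)) := Fintype.ofFinite _
  have h1 : ∑ χ : IrrCharacter G, (cU π S z (χ : G → ℂ) : ℂ) *
      ((χ : G → ℂ) t ^ 2 / (χ : G → ℂ) 1) = 0 := by
    refine relation h (b := Theta S z) (Theta_ne hq) ?_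
      (Finset.univ : Finset (IrrCharacter G))
      (fun χ => (cU π S z (χ : G → ℂ) : ℂ))
      (fun χ => (χ : G → ℂ)) (fun χ _ => Or.inl χ.2) ?_
    · intro p q hp hqq
      exact Theta_of_mem_A hq (mul_mem (sq_mem_A hq hp) (sq_mem_A hq hqq))
    · exact ind_decomp (Subgroup.centralizer ({t} : Set G)) _
        (a := fun χ => (cU π S z χ : ℂ)) (fun χ => cU_spec hq χ.2)
  rw [to_iota hM h hq hlam (fun χ => cU π S z χ) (fun χ hχ => by
    simp only [cU_eq_zero hM h hq hχ])] at h1
  have h2 := (Rat.cast_injective (α := ℂ)) (h1.trans Rat.cast_zero.symm)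
  rw [cU_one h hq] at h2
  push_cast at h2 ⊢
  linarith

/-- The fibres of `π` over the involutions of `A` contain involutions. -/
theorem exists_involution (h : Hyp t z π) {b : Q} (hb : b * b = 1) (hb1 : b ≠ 1) :
    ∃ x : Subgroup.centralizer ({t} : Set G), orderOf x = 2 ∧ π x = b := by
  obtain ⟨s, hs⟩ := h.surj b
  obtain ⟨a, u, -, hpa, -, ha, -⟩ := exists_two_part h s (m := 1) (by rw [hs, pow_one, sq, hb])
  refine ⟨a, orderOf_eq_prime (by rw [pow_one] at ha; exact ha) ?_, by rw [hpa, hs]⟩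
  intro h1
  rw [h1, map_one] at hpa
  exact hb1 (by rw [← hs, ← hpa])

theorem exists_b (hq : QHyp S A z) : ∃ b ∈ A, b ≠ 1 ∧ b ≠ z := by
  by_contra hcon
  push Not at hcon
  have h1 : (A : Set Q) ⊆ {1, z} := by
    intro b hb
    by_cases hb1 : b = 1
    · exact Or.inl hb1
    · exact Or.inr (hcon b hb hb1)
  have h2 := Set.ncard_le_ncard h1 (Set.toFinite _)
  have h3 : (A : Set Q).ncard = 4 := hq.card_A
  have h4 := Set.ncard_insert_le (1 : Q) {z}
  rw [Set.ncard_singleton] at h4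
  omega

theorem neg_lt [Fintype (Iota M G)] (hM : IsPModular 2 M) (h : Hyp t z π) (hq : QHyp S A z)
    (hlam : lam.ker = S) :
    1 + ∑ j : Iota M G, (cT π lam z (j.1 : G → ℂ) 0 : ℚ) *
        ((dd (fun j : Iota M G => cT π lam z (j.1 : G → ℂ))
          (fun j : Iota M G => cU π S z (j.1 : G → ℂ)) j : ℤ) : ℚ) ^ 2 /
        ((dg (j.1 : G → ℂ) : ℤ) : ℚ) < 0 := by
  classical
  have : Finite (IrrCharacter G) := Core.finite_irr
  have := Fintype.ofFinite (IrrCharacter G)
  let _ : Fintype (Subgroup.centralizer ({t} : Set G)) := Fintype.ofFinite _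
  have key := Classification.BGOrder.sum_pairs_eq t h.orderOf_t h.one_class _ rfl
    (fun x => theta lam z 0 (π x)) (Finset.univ : Finset (IrrCharacter G))
    (fun χ => (cT π lam z (χ : G → ℂ) 0 : ℂ)) (fun χ => (χ : G → ℂ)) (fun χ _ => χ.2)
    (ind_decomp (Subgroup.centralizer ({t} : Set G)) _
      (a := fun χ => (cT π lam z χ 0 : ℂ)) (fun χ => cT_spec hq hlam χ.2 0))
  rw [Classification.BGOrder.sum_pairs_restrict t h.orderOf_t _ rfl
    (fun x => theta lam z 0 (π x)) (supp_comp h (fun q => theta_ne q 0)),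
    to_iota hM h hq hlam (fun χ => cT π lam z χ 0) (fun χ hχ => by
      simp only [cT_eq_zero hM h hq hlam hχ]), cT_one h hq hlam, if_pos rfl] at key
  have hsq : ∀ x : Subgroup.centralizer ({t} : Set G), orderOf x = 2 → π x * π x = 1 := by
    intro x hx
    have h1 := pow_orderOf_eq_one x
    rw [hx, sq] at h1
    rw [← map_mul, h1, map_one]
  set I : Finset (Subgroup.centralizer ({t} : Set G)) := Finset.univ.filter (fun x => orderOf x = 2)
    with hI
  have h1 : ∑ x ∈ I, ∑ y ∈ I, theta lam z 0 (π (x * y)) =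
      ((-16 * ((∑ x ∈ I, ∑ y ∈ I, if π x * π y = z then 1 else 0 : ℕ) : ℚ) : ℚ) : ℂ) := by
    push_cast
    rw [Finset.mul_sum]
    refine Finset.sum_congr rfl fun x hx => ?_
    rw [Finset.mul_sum]
    refine Finset.sum_congr rfl fun y hy => ?_
    rw [hI, Finset.mem_filter] at hx hy
    rw [map_mul, theta_mul hq (hsq x hx.2) (hsq y hy.2)]
    split_ifs <;> simp
  have hpos : 0 < ∑ x ∈ I, ∑ y ∈ I, if π x * π y = z then 1 else 0 := by
    obtain ⟨b, hb, hb1, hbz⟩ := exists_b hq
    have hbb := hq.sq_one b hb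
    obtain ⟨x, hx, hxb⟩ := exists_involution h hbb hb1
    have hc1 : b * z ≠ 1 := by
      intro h2
      apply hbz
      calc b = b * (z * z) := by rw [hq.z_sq, mul_one]
        _ = z := by rw [← mul_assoc, h2, one_mul]
    have hcc : b * z * (b * z) = 1 := hq.sq_one _ (mul_mem hb hq.z_mem)
    obtain ⟨y, hy, hyc⟩ := exists_involution h hcc hc1
    have hxI : x ∈ I := by rw [hI, Finset.mem_filter]; exact ⟨Finset.mem_univ _, hx⟩
    have hyI : y ∈ I := by rw [hI, Finset.mem_filter]; exact ⟨Finset.mem_univ _, hy⟩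
    refine Finset.sum_pos' (fun _ _ => Finset.sum_nonneg fun _ _ => Nat.zero_le _) ⟨x, hxI, ?_⟩
    refine Finset.sum_pos' (fun _ _ => Nat.zero_le _) ⟨y, hyI, ?_⟩
    rw [hxb, hyc, ← mul_assoc, hbb, one_mul, if_pos rfl]
    exact one_pos
  rw [h1] at key
  have hidx : (0 : ℚ) < ((Subgroup.centralizer ({t} : Set G)).index : ℚ) := by
    have : (Subgroup.centralizer ({t} : Set G)).index ≠ 0 := Subgroup.index_ne_zero_of_finite
    exact_mod_cast Nat.pos_of_ne_zero this
  have h2 : (-16 * ((∑ x ∈ I, ∑ y ∈ I, if π x * π y = z then 1 else 0 : ℕ) : ℚ) : ℚ) =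
      ((Subgroup.centralizer ({t} : Set G)).index : ℚ) *
      ((((1 : ℤ) : ℚ) + ∑ j : Iota M G, (cT π lam z (j.1 : G → ℂ) 0 : ℚ) *
        ((dd (fun j : Iota M G => cT π lam z (j.1 : G → ℂ))
          (fun j : Iota M G => cU π S z (j.1 : G → ℂ)) j : ℤ) : ℚ) ^ 2 /
        ((dg (j.1 : G → ℂ) : ℤ) : ℚ))) := by
    apply (Rat.cast_injective (α := ℂ))
    rw [key]
    push_cast
    rfl
  have h3 : (0 : ℚ) < ((∑ x ∈ I, ∑ y ∈ I, if π x * π y = z then 1 else 0 : ℕ) : ℚ) := by
    exact_mod_cast hpos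
  rw [Int.cast_one] at h2
  by_contra hge
  push Not at hge
  have h4 := mul_nonneg hidx.le hge
  rw [← h2] at h4
  linarith

/-- The functions of the numerical theorem. -/
noncomputable abbrev cR (M : Ideal AlgInt) (π : (Subgroup.centralizer ({t} : Set G)) →* Q)
    (lam : Q →* ℂˣ) (z : Q) (j : Iota M G) (i : ZMod 5) : ℤ := cT π lam z (j.1 : G → ℂ) i

/-- The functions of the numerical theorem. -/
noncomputable abbrev uR (M : Ideal AlgInt) (π : (Subgroup.centralizer ({t} : Set G)) →* Q)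
    (S : Subgroup Q) (z : Q) (j : Iota M G) : ℤ := cU π S z (j.1 : G → ℂ)

/-- The functions of the numerical theorem. -/
noncomputable abbrev xR (M : Ideal AlgInt) (G : Type u) [Group G] (j : Iota M G) : ℤ :=
  dg (j.1 : G → ℂ)

/-- Assembly: `Rows` from the Galois and the core conditions. -/
theorem rows [Fintype (Iota M G)] (hM : IsPModular 2 M) (h : Hyp t z π) (hq : QHyp S A z)
    (hlam : lam.ker = S) (σ : Equiv.Perm (Iota M G))
    (gal : ∀ j i, cR M π lam z (σ j) (2 * i) = cR M π lam z j i)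
    (galu : ∀ j, uR M π S z (σ j) = uR M π S z j)
    (galx : ∀ j, xR M G (σ j) = xR M G j)
    (cong : ∀ j, (64 : ℤ) ∣ xR M G j - (12 * ss (cR M π lam z) j + 11 * uR M π S z j))
    (lb0 : ∀ j, 64 ≤ xR M G j)
    (lb1 : ∀ j, 64 + (12 * ss (cR M π lam z) j + 11 * uR M π S z j) ≤ xR M G j)
    (lb2 : ∀ j, 64 + (12 * ss (cR M π lam z) j + 75 * uR M π S z j) ≤ xR M G j)
    (lb3 : ∀ j, 64 + dd (cR M π lam z) (uR M π S z) j ≤ xR M G j) :
    Rows (cR M π lam z) (uR M π S z) (xR M G) σ where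
  gram i k := gram hM h hq hlam i k
  cross i := cross hM h hq hlam i
  normU := normU hM h hq
  gal := gal
  galu := galu
  galx := galx
  cong := cong
  lb0 := lb0
  lb1 := lb1
  lb2 := lb2
  lb3 := lb3
  deg i := deg_eq hM h hq hlam i
  degU := degU_eq hM h hq
  rel i hi := rel_eq hM h hq hlam i hi
  relU := relU_eq hM h hq hlam
  neg := neg_lt hM h hq hlam

end Main

end Cfsg.Agent.TwoFusion.U34G
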