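import Cfsg.Agent.M23.BlockInt
import Cfsg.Agent.Characters.GaloisIrr
import Cfsg.Agent.Classification.RTwo.General

/-!
# Power maps on the principal block

For `m` coprime to `|G|` the map `χ ↦ (g ↦ χ (g ^ m))` permutes the non-principal irreducible
characters of the principal block.  Inner products with induced functions are transported.
`exists_m`: there is `m` coprime to `n` with `m ≡ 2 (mod 5)` and `m ≡ 1 (mod 4)`.
-/

set_option autoImplicit false
set_option linter.unusedSectionVars false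

namespace Cfsg.Agent.TwoFusion.U34Gal

open Cfsg Cfsg.Agent.Characters Cfsg.Agent.M23.BlockInt
open scoped ComplexConjugate

universe u v

/-- There is `m` coprime to `n` with `m ≡ 2 (mod 5)` and `m ≡ 1 (mod 4)`. -/
theorem exists_m {n : ℕ} (hn : n ≠ 0) : ∃ m : ℕ, m.Coprime n ∧ m % 5 = 2 ∧ m % 4 = 1 := by
  obtain ⟨k, n', hn', h⟩ := Nat.exists_eq_pow_mul_and_not_dvd (n := 4 * n) (by omega) 5 (by norm_num)
  have hco : Nat.Coprime 5 n' := (Nat.Prime.coprime_iff_not_dvd (by norm_num)).2 hn'
  obtain ⟨m, h1, h2⟩ := Nat.chineseRemainder hco 2 1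
  have hm5 : m % 5 = 2 := h1
  have hmn : m ≡ 1 [MOD n'] := h2
  have hmn' : m.Coprime n' := by
    have h3 : Nat.gcd m n' = Nat.gcd 1 n' := hmn.gcd_eq
    rw [Nat.gcd_one_left] at h3
    exact h3
  have hm5' : m.Coprime 5 := by
    rw [Nat.coprime_comm]
    exact (Nat.Prime.coprime_iff_not_dvd (by norm_num)).2 (by omega)
  have hm4n : m.Coprime (4 * n) := by
    rw [h]
    exact Nat.Coprime.mul_right (Nat.Coprime.pow_right _ hm5') hmn'
  refine ⟨m, hm4n.coprime_dvd_right (Dvd.intro_left _ rfl), hm5, ?_⟩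
  have h4 : 4 ∣ n' := by
    have : Nat.Coprime 4 (5 ^ k) := Nat.Coprime.pow_right _ (by norm_num)
    exact this.dvd_of_dvd_mul_left (by rw [← h]; exact Dvd.intro _ rfl)
  have := hmn.of_dvd h4
  exact this

section

variable {G : Type u} [Group G]

theorem pow_injective [Finite G] {m : ℕ} (hm : m.Coprime (Nat.card G)) :
    Function.Injective fun g : G => g ^ m := by
  intro a b hab
  exact (powCoprime hm.symm).injective hab

theorem pow_bijective [Finite G] {m : ℕ} (hm : m.Coprime (Nat.card G)) :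
    Function.Bijective fun g : G => g ^ m := (powCoprime hm.symm).bijective

theorem classInner_pow [Fintype G] {m : ℕ} (hm : m.Coprime (Nat.card G)) (φ ψ : G → ℂ) :
    classInner (fun g => φ (g ^ m)) (fun g => ψ (g ^ m)) = classInner φ ψ := by
  show (Nat.card G : ℂ)⁻¹ * ∑ g : G, φ (g ^ m) * conj (ψ (g ^ m)) =
    (Nat.card G : ℂ)⁻¹ * ∑ g : G, φ g * conj (ψ g)
  congr 1
  exact (powCoprime hm.symm).sum_comp fun g => φ g * conj (ψ g)

/-- A subgroup contains an element iff it contains its `m`-th power. -/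
theorem pow_mem_iff [Finite G] {m : ℕ} (hm : m.Coprime (Nat.card G)) (H : Subgroup G) (g : G) :
    g ^ m ∈ H ↔ g ∈ H := by
  refine ⟨fun h => ?_, fun h => pow_mem h _⟩
  obtain ⟨k, hk⟩ := exists_pow_eq_self_of_coprime
    (Nat.Coprime.coprime_dvd_right (orderOf_dvd_natCard g) hm)
  rw [← hk]
  exact pow_mem h k

theorem extendByZero_pow [Finite G] {m : ℕ} (hm : m.Coprime (Nat.card G)) (H : Subgroup G)
    (f : H → ℂ) (g : G) :
    extendByZero H (fun x => f (x ^ m)) g = extendByZero H f (g ^ m) := by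
  by_cases h : g ∈ H
  · have h1 : extendByZero H (fun x => f (x ^ m)) ((⟨g, h⟩ : H) : G) = f (⟨g, h⟩ ^ m) :=
      Subtype.val_injective.extend_apply _ _ _
    have h2 : extendByZero H f (((⟨g, h⟩ : H) ^ m : H) : G) = f (⟨g, h⟩ ^ m) :=
      Subtype.val_injective.extend_apply _ _ _
    exact h1.trans h2.symm
  · have h3 : g ^ m ∉ H := fun h' => h ((pow_mem_iff hm H g).1 h')
    have h1 : extendByZero H (fun x => f (x ^ m)) g = 0 :=
      Function.extend_apply' _ _ _ (by rintro ⟨a, rfl⟩; exact h a.2)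
    have h2 : extendByZero H f (g ^ m) = 0 :=
      Function.extend_apply' _ _ _ (by rintro ⟨a, ha⟩; exact h3 (ha ▸ a.2))
    rw [h1, h2]

theorem indFun_pow [Fintype G] {m : ℕ} (hm : m.Coprime (Nat.card G)) (H : Subgroup G)
    (f : H → ℂ) : indFun H (fun x => f (x ^ m)) = fun g => indFun H f (g ^ m) := by
  funext g
  show (Nat.card H : ℂ)⁻¹ * ∑ x : G, extendByZero H (fun x => f (x ^ m)) (x⁻¹ * g * x) =
    (Nat.card H : ℂ)⁻¹ * ∑ x : G, extendByZero H f (x⁻¹ * g ^ m * x)
  congr 1
  refine Finset.sum_congr rfl fun x _ => ?_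
  rw [extendByZero_pow hm]
  congr 1
  have := conj_pow (i := m) (a := x⁻¹) (b := g)
  rw [inv_inv] at this
  exact this

/-- Transport of inner products of induced inflated functions with irreducible characters. -/
theorem classInner_ind_powIrr [Fintype G] {Q : Type v} [Group Q] {m : ℕ}
    (hm : m.Coprime (Nat.card G)) (H : Subgroup G) (π : H →* Q) {b b' : Q → ℂ}
    (hb : ∀ q, b' q = b (q ^ m)) (χ : IrrCharacter G) :
    classInner (indFun H fun x => b' (π x)) (powIrr hm χ : G → ℂ) =
      classInner (indFun H fun x => b (π x)) (χ : G → ℂ) := by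
  have h1 : (fun x : H => b' (π x)) = fun x : H => (fun y : H => b (π y)) (x ^ m) := by
    funext x
    show b' (π x) = b (π (x ^ m))
    rw [hb, map_pow]
  rw [h1, indFun_pow hm H fun y : H => b (π y)]
  exact classInner_pow hm _ _

theorem powIrr_one [Finite G] {m : ℕ} (hm : m.Coprime (Nat.card G)) (χ : IrrCharacter G) :
    (powIrr hm χ : G → ℂ) 1 = (χ : G → ℂ) 1 := by
  rw [powIrr_apply, one_pow]

theorem charDegree_powIrr [Finite G] {m : ℕ} (hm : m.Coprime (Nat.card G)) (χ : IrrCharacter G) :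
    charDegree (powIrr hm χ : G → ℂ) = charDegree (χ : G → ℂ) := by
  unfold charDegree
  rw [powIrr_one]

theorem powIrr_injective [Finite G] {m : ℕ} (hm : m.Coprime (Nat.card G)) :
    Function.Injective (powIrr hm : IrrCharacter G → IrrCharacter G) := by
  intro χ ψ h
  apply Subtype.ext
  funext g
  obtain ⟨x, rfl⟩ := (pow_bijective hm).2 g
  have := congrArg (fun χ : IrrCharacter G => (χ : G → ℂ) x) h
  exact this

theorem powIrr_ne_one [Finite G] {m : ℕ} (hm : m.Coprime (Nat.card G)) {χ : IrrCharacter G}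
    (h : (χ : G → ℂ) ≠ 1) : (powIrr hm χ : G → ℂ) ≠ 1 := by
  intro h'
  apply h
  funext g
  obtain ⟨x, rfl⟩ := (pow_bijective hm).2 g
  exact congrFun h' x

/-- The non-principal irreducible characters in the principal block. -/
abbrev Idx (M : Ideal AlgInt) (G : Type u) [Group G] : Type u :=
  {χ : IrrCharacter G // χ ∈ principalBlock M G ∧ (χ : G → ℂ) ≠ 1}

instance finite_idx [Finite G] (M : Ideal AlgInt) : Finite (Idx M G) := by
  have := Core.finite_irr (G := G)
  infer_instance

/-- The power map as a permutation of the non-principal irreducible characters of the principal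
block. -/
noncomputable def sigma [Finite G] (M : Ideal AlgInt) {m : ℕ} (hm : m.Coprime (Nat.card G)) :
    Equiv.Perm (Idx M G) :=
  Equiv.ofBijective (fun χ => ⟨powIrr hm χ.1, powIrr_mem hm χ.2.1, powIrr_ne_one hm χ.2.2⟩)
    (Finite.injective_iff_bijective.1 fun _ _ h =>
      Subtype.ext (powIrr_injective hm (congrArg Subtype.val h)))

theorem sigma_val [Finite G] (M : Ideal AlgInt) {m : ℕ} (hm : m.Coprime (Nat.card G))
    (χ : Idx M G) : (sigma M hm χ).1 = powIrr hm χ.1 := rfl

theorem sigma_apply [Finite G] (M : Ideal AlgInt) {m : ℕ} (hm : m.Coprime (Nat.card G))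
    (χ : Idx M G) (g : G) : ((sigma M hm χ).1 : G → ℂ) g = (χ.1 : G → ℂ) (g ^ m) := rfl

theorem classInner_ind_sigma [Fintype G] {Q : Type v} [Group Q] (M : Ideal AlgInt) {m : ℕ}
    (hm : m.Coprime (Nat.card G)) (H : Subgroup G) (π : H →* Q) {b b' : Q → ℂ}
    (hb : ∀ q, b' q = b (q ^ m)) (χ : Idx M G) :
    classInner (indFun H fun x => b' (π x)) ((sigma M hm χ).1 : G → ℂ) =
      classInner (indFun H fun x => b (π x)) (χ.1 : G → ℂ) :=
  classInner_ind_powIrr hm H π hb χ.1

/-- The integer version: `gal`, `galu`. -/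
theorem int_sigma [Fintype G] {Q : Type v} [Group Q] (M : Ideal AlgInt) {m : ℕ}
    (hm : m.Coprime (Nat.card G)) (H : Subgroup G) (π : H →* Q) {b b' : Q → ℂ}
    (hb : ∀ q, b' q = b (q ^ m)) {c c' : Idx M G → ℤ}
    (hc : ∀ χ : Idx M G, classInner (indFun H fun x => b (π x)) (χ.1 : G → ℂ) = c χ)
    (hc' : ∀ χ : Idx M G, classInner (indFun H fun x => b' (π x)) (χ.1 : G → ℂ) = c' χ)
    (χ : Idx M G) : c' (sigma M hm χ) = c χ := by
  have h := classInner_ind_sigma M hm H π hb χ
  rw [hc, hc'] at h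
  exact_mod_cast h

/-- The integer version: `galx`. -/
theorem degree_sigma [Finite G] (M : Ideal AlgInt) {m : ℕ} (hm : m.Coprime (Nat.card G))
    {x : Idx M G → ℤ} (hx : ∀ χ : Idx M G, (χ.1 : G → ℂ) 1 = x χ) (χ : Idx M G) :
    x (sigma M hm χ) = x χ := by
  have h := sigma_apply M hm χ 1
  rw [one_pow, hx, hx] at h
  exact_mod_cast h

end

end Cfsg.Agent.TwoFusion.U34Gal
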