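import Mathlib
import Cfsg.Agent.TwoFusion.U34Loc
import Cfsg.Agent.TwoFusion.U34Q
import Cfsg.Agent.TwoFusion.GoldM1Loc
import Cfsg.Agent.TwoFusion.GoldM1CA
import Cfsg.Agent.Classification.RTwo.General

/-!
# The `U₃(4)` case: the quotient `C(a)/O(C(a))`

* `QLoc S A z`: the properties of the quotient `Q = C(a)/O(C(a))`.
* `exists_qloc`: they hold for `U34Loc.Loc`.
* `exists_qhyp`: if the index is 5, then `General.Hyp` and `U34Q.QHyp` hold.
-/

set_option autoImplicit false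

namespace Cfsg.Agent.TwoFusion.U34Hyp

open Subgroup
open Cfsg.Agent.Classification.TypeB.Core (oc oc_le odd_oc le_normalizer_oc le_oc oc_def)
open Cfsg.Agent.TwoFusion

universe u

section Conj

variable {G : Type u} [Group G] {S A : Subgroup G} {g0 : G} (h : U34Loc.Loc S A g0)

include h

/-- The local structure of `GoldM1Loc`. -/
theorem toLoc : GoldM1Loc.Loc S A := ⟨h.AS, h.cardS, h.cardA, h.cen, h.sq, h.inv, h.comm, h.surj⟩

theorem conj_ne {a : G} (ha : a ∈ A) (ha1 : a ≠ 1) : g0 * a * g0⁻¹ ≠ a := by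
  intro e
  exact ha1 (h.g0_fpf a ha (mul_inv_eq_iff_eq_mul.1 e))

/-- The three involutions of `A`. -/
theorem cases {a b : G} (ha : a ∈ A) (ha1 : a ≠ 1) (hb : b ∈ A) (hb1 : b ≠ 1) :
    b = a ∨ b = g0 * a * g0⁻¹ ∨ b = g0 * (g0 * a * g0⁻¹) * g0⁻¹ := by
  obtain ⟨c, hc⟩ : ∃ c, c = g0 * a * g0⁻¹ := ⟨_, rfl⟩
  rw [← hc]
  have hcA : c ∈ A := hc ▸ h.g0A a ha
  have hc1 : c ≠ 1 := by
    intro e
    rw [e] at hc
    apply ha1
    have : a = g0⁻¹ * (g0 * a * g0⁻¹) * g0 := by group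
    rw [this, ← hc]; group
  have hca : c ≠ a := hc ▸ conj_ne h ha ha1
  obtain ⟨d, hd⟩ : ∃ d, d = g0 * c * g0⁻¹ := ⟨_, rfl⟩
  rw [← hd]
  have hdA : d ∈ A := hd ▸ h.g0A c hcA
  have hd1 : d ≠ 1 := by
    intro e
    rw [e] at hd
    apply hc1
    have : c = g0⁻¹ * (g0 * c * g0⁻¹) * g0 := by group
    rw [this, ← hd]; group
  have hdc : d ≠ c := hd ▸ conj_ne h hcA hc1
  have hda : d ≠ a := by
    intro e
    have h1 : a * c ∈ A := mul_mem ha hcA
    have h2 : g0 * (a * c) * g0⁻¹ = a * c := by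
      have : g0 * (a * c) * g0⁻¹ = (g0 * a * g0⁻¹) * (g0 * c * g0⁻¹) := by group
      rw [this, ← hc, ← hd, e]
      exact (toLoc h).cen c hcA a (h.AS ha)
    have h3 : a * c ≠ 1 := by
      intro e
      apply hca
      have := (toLoc h).inv_eq ha
      rw [← this]
      exact eq_inv_of_mul_eq_one_right e
    exact conj_ne h h1 h3 h2
  have key := (toLoc h).mem_A_cases ha hcA ha1 hc1 hca hb
  have key2 := (toLoc h).mem_A_cases ha hcA ha1 hc1 hca hdA
  have hdac : d = a * c := by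
    rcases key2 with e | e | e | e
    · exact absurd e hd1
    · exact absurd e hda
    · exact absurd e hdc
    · exact e
  rw [hdac]
  rcases key with e | e | e | e
  · exact absurd e hb1
  · exact Or.inl e
  · exact Or.inr (Or.inl e)
  · exact Or.inr (Or.inr e)

/-- The involutions of `A` are conjugate. -/
theorem isConj {a b : G} (ha : a ∈ A) (ha1 : a ≠ 1) (hb : b ∈ A) (hb1 : b ≠ 1) : IsConj a b := by
  rw [isConj_iff]
  rcases cases h ha ha1 hb hb1 with e | e | e
  · exact ⟨1, by rw [e]; group⟩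
  · exact ⟨g0, e.symm⟩
  · exact ⟨g0 * g0, by rw [e]; group⟩

/-- All involutions are conjugate. -/
theorem one_class [Finite G] {a : G} (ha : a ∈ A) (ha1 : a ≠ 1) (x : G) (hx : orderOf x = 2) : IsConj a x := by
  have : Fact (Nat.Prime 2) := ⟨Nat.prime_two⟩
  have hSp : IsPGroup 2 S := IsPGroup.of_card (n := 6) (by rw [h.cardS]; norm_num)
  let P : Sylow 2 G := hSp.toSylow h.sylow
  have hxp : IsPGroup 2 (zpowers x) := by
    refine IsPGroup.of_card (n := 1) ?_
    rw [Nat.card_zpowers, hx, pow_one]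
  obtain ⟨R, hR⟩ := hxp.exists_le_sylow
  obtain ⟨c, hc⟩ := MulAction.exists_smul_eq G R P
  have h1 : c * x * c⁻¹ ∈ (P : Subgroup G) := by
    rw [← hc]
    exact ⟨x, hR (mem_zpowers x), rfl⟩
  have hxx : x * x = 1 := by rw [← pow_two, ← hx, pow_orderOf_eq_one]
  have h2 : c * x * c⁻¹ ∈ A := by
    apply h.inv _ h1
    calc c * x * c⁻¹ * (c * x * c⁻¹) = c * (x * x) * c⁻¹ := by group
      _ = 1 := by rw [hxx]; group
  have h3 : c * x * c⁻¹ ≠ 1 := by
    intro e
    have : x = c⁻¹ * (c * x * c⁻¹) * c := by group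
    rw [e] at this
    have h4 : x = 1 := by rw [this]; group
    rw [h4, orderOf_one] at hx
    omega
  exact (isConj h ha ha1 h2 h3).trans (isConj_iff.2 ⟨c⁻¹, by group⟩)

/-- The number of square roots. -/
theorem card_sq {a : G} (ha : a ∈ A) (ha1 : a ≠ 1) : Nat.card {s : G // s ∈ S ∧ s * s = a} = 20 := by
  classical
  have hfin : Finite S := Nat.finite_of_card_ne_zero (by rw [h.cardS]; norm_num)
  obtain ⟨b, hb⟩ : ∃ b, b = g0 * a * g0⁻¹ := ⟨_, rfl⟩
  obtain ⟨c, hc⟩ : ∃ c, c = g0 * b * g0⁻¹ := ⟨_, rfl⟩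
  have hbA : b ∈ A := hb ▸ h.g0A a ha
  have hcA : c ∈ A := hc ▸ h.g0A b hbA
  have hne : ∀ x : G, x ≠ 1 → g0 * x * g0⁻¹ ≠ 1 := by
    intro x hx e
    apply hx
    have : x = g0⁻¹ * (g0 * x * g0⁻¹) * g0 := by group
    rw [this, e]; group
  have hb1 : b ≠ 1 := hb ▸ hne a ha1
  have hc1 : c ≠ 1 := hc ▸ hne b hb1
  -- conjugation by `g0`
  have heq : ∀ x y : G, y = g0 * x * g0⁻¹ →
      Nat.card {s : G // s ∈ S ∧ s * s = y} = Nat.card {s : G // s ∈ S ∧ s * s = x} := by
    intro x y hxy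
    refine (Nat.card_congr ?_).symm
    refine Equiv.subtypeEquiv (MulAut.conj g0).toEquiv ?_
    intro s
    change s ∈ S ∧ s * s = x ↔ g0 * s * g0⁻¹ ∈ S ∧ g0 * s * g0⁻¹ * (g0 * s * g0⁻¹) = y
    have e1 := mem_normalizer_iff.1 h.g0S s
    have e2 : g0 * s * g0⁻¹ * (g0 * s * g0⁻¹) = g0 * (s * s) * g0⁻¹ := by group
    rw [e2, hxy]
    refine and_congr e1 ?_
    constructor
    · intro e; rw [e]
    · intro e
      have : s * s = g0⁻¹ * (g0 * (s * s) * g0⁻¹) * g0 := by group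
      rw [this, e]; group
  have n1 := heq a b hb
  have n2 := heq b c hc
  have hba : b ≠ a := hb ▸ conj_ne h ha ha1
  have hcb : c ≠ b := hc ▸ conj_ne h hbA hb1
  have hfS : Fintype S := Fintype.ofFinite S
  have hcount : ∀ y : G, Nat.card {s : G // s ∈ S ∧ s * s = y} =
      (Finset.univ.filter (fun s : S => (s : G) * s = y)).card := by
    intro y
    rw [← Fintype.card_subtype, ← Nat.card_eq_fintype_card]
    exact Nat.card_congr (Equiv.subtypeSubtypeEquivSubtypeInter (fun s : G => s ∈ S) (fun s => s * s = y)).symm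
  have hone : (Finset.univ.filter (fun s : S => (s : G) * s = 1)).card = 4 := by
    rw [← hcount, ← h.cardA]
    refine Nat.card_congr (Equiv.subtypeEquivRight ?_)
    intro s
    exact ⟨fun e => h.inv s e.1 e.2, fun e => ⟨h.AS e, h.sq s e⟩⟩
  have hmaps : ∀ s ∈ (Finset.univ : Finset S), (s : G) * s ∈ ({1, a, b, c} : Finset G) := by
    intro s _
    have hs := (toLoc h).sq_mem s.2
    simp only [Finset.mem_insert, Finset.mem_singleton]
    by_cases h1 : (s : G) * s = 1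
    · exact Or.inl h1
    · rw [hc, hb]
      exact Or.inr (cases h ha ha1 hs h1)
  have hca : c ≠ a := by
    intro e
    have h3 : b * a ≠ 1 := by
      intro e
      apply hba
      rw [← (toLoc h).inv_eq ha]
      exact eq_inv_of_mul_eq_one_left e
    apply conj_ne h (mul_mem hbA ha) h3
    have e1 : g0 * (b * a) * g0⁻¹ = (g0 * b * g0⁻¹) * (g0 * a * g0⁻¹) := by group
    rw [e1, ← hc, ← hb, e]
    exact h.cen a ha b (h.AS hbA)
  have hsum := Finset.card_eq_sum_card_fiberwise (f := fun s : S => (s : G) * s) (s := Finset.univ)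
    (t := ({1, a, b, c} : Finset G)) hmaps
  rw [Finset.card_univ, ← Nat.card_eq_fintype_card, h.cardS, Finset.sum_insert (by simp [ha1.symm, hb1.symm, hc1.symm]),
    Finset.sum_insert (by simp [hba.symm, hca.symm]), Finset.sum_insert (by simp [hcb.symm]), Finset.sum_singleton,
    hone, ← hcount, ← hcount, ← hcount, n2, n1] at hsum
  omega

end Conj

/-- The properties of the quotient `Q = C(a)/O(C(a))`. -/
structure QLoc {Q : Type*} [Group Q] (S A : Subgroup Q) (z : Q) : Prop where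
  loc : GoldM1Loc.Loc S A
  normal : S.Normal
  cent : centralizer (S : Set Q) ≤ S
  central : ∀ a ∈ A, ∀ q : Q, a * q = q * a
  z_mem : z ∈ A
  z_ne : z ≠ 1
  sq_z : Nat.card {s : Q // s ∈ S ∧ s * s = z} = 20
  core : Cfsg.oddCore Q = ⊥
  odd : ¬ 2 ∣ S.index

/-- Elements of odd order have no fixed points on `S/A`. -/
theorem QLoc.fpf {Q : Type*} [Group Q] [Finite Q] {S A : Subgroup Q} {z : Q} (h : QLoc S A z) {y : Q} {p : ℕ}
    (hp : p.Prime) (hp2 : p ≠ 2) (hy : orderOf y = p) {s : Q} (hs : s ∈ S) (hys : s * y = y * s) : s ∈ A := by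
  by_contra hsA
  refine GoldM1CA.no_fixed h.loc h.normal h.cent h.central hp hp2 hy hs hsA ?_
  have e : y * s * y⁻¹ * s⁻¹ = 1 := by rw [← hys]; group
  rw [e]
  exact one_mem _

theorem cent_le {G : Type*} [Group G] {A : Subgroup G} {a : G} (ha : a ∈ A) : centralizer (A : Set G) ≤ centralizer ({a} : Set G) := by
  intro x hx
  rw [mem_centralizer_iff] at hx
  rw [mem_centralizer_singleton_iff]
  exact (hx a ha).symm

section Quot

variable {G : Type u} [Group G] [Finite G] {S A : Subgroup G} {g0 : G} (h : U34Loc.Loc S A g0)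

include h

/-- `C(a) = C(A) O(C(a))`. -/
theorem exists_mul {a : G} (ha : a ∈ A) (ha1 : a ≠ 1) {x : G} (hx : x ∈ centralizer ({a} : Set G)) :
    ∃ c ∈ centralizer (A : Set G), ∃ k ∈ oc (centralizer ({a} : Set G)), c * k = x := by
  have h1 := h.fact a ha ha1 hx
  rw [sup_comm, ← SetLike.mem_coe, coe_mul_of_left_le_normalizer_right _ _
    ((cent_le ha).trans (le_normalizer_oc _))] at h1
  obtain ⟨c, hc, k, hk, e⟩ := Set.mem_mul.1 h1
  exact ⟨c, hc, k, hk, e⟩

/-- `O(C(A)) ≤ O(C(a))`. -/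
theorem oc_le_oc {a : G} (ha : a ∈ A) (ha1 : a ≠ 1) :
    oc (centralizer (A : Set G)) ≤ oc (centralizer ({a} : Set G)) := by
  obtain ⟨C, hC⟩ : ∃ C, C = centralizer ({a} : Set G) := ⟨_, rfl⟩
  obtain ⟨D, hD⟩ : ∃ D, D = oc (centralizer (A : Set G)) := ⟨_, rfl⟩
  have hCA := cent_le ha
  have hDA : D ≤ centralizer (A : Set G) := hD ▸ oc_le _
  rw [← hD, ← hC]
  rw [← hC] at hCA
  have hDK : D ≤ normalizer (oc C : Set G) := (hDA.trans hCA).trans (le_normalizer_oc C)
  refine le_sup_left.trans (le_oc (Y := D ⊔ oc C) (sup_le (hDA.trans hCA) (oc_le C)) ?_ ?_)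
  · have h1 : centralizer (A : Set G) ≤ normalizer ((D ⊔ oc C : Subgroup G) : Set G) := by
      refine le_trans (le_inf ?_ ?_) (Subgroup.normalizer_inf_normalizer_le_normalizer_sup D (oc C))
      · rw [hD]; exact le_normalizer_oc _
      · exact hCA.trans (le_normalizer_oc C)
    intro x hx
    rw [hC] at hx
    obtain ⟨c, hc, k, hk, rfl⟩ := exists_mul h ha ha1 hx
    rw [← hC] at hk
    exact mul_mem (h1 hc) (le_normalizer (mem_sup_right hk))
  · refine Odd.of_dvd_nat ?_ (Cfsg.Agent.OddOrderLocal.PiCoreOf.card_sup_dvd_of_le_normalizer hDK)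
    exact Odd.mul (hD ▸ odd_oc _) (odd_oc _)

omit h in
theorem oddCore_eq (C : Subgroup G) : Cfsg.oddCore C = (oc C).subgroupOf C := by
  have hoc : oc C = (Cfsg.oddCore C).map C.subtype := by
    rw [oc_def]
    exact (Cfsg.Agent.OddOrderLocal.UniqZL.map_pPrimeCore_eq 2 C).symm
  rw [hoc, subgroupOf, comap_map_eq_self_of_injective C.subtype_injective]

/-- The quotient `C(a)/O(C(a))`. -/
theorem exists_qloc {a : G} (ha : a ∈ A) (ha1 : a ≠ 1) :
    ∃ (Q : Type u) (_ : Group Q) (π : centralizer ({a} : Set G) →* Q) (S' A' : Subgroup Q) (z : Q),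
      Finite Q ∧ QLoc S' A' z ∧ Function.Surjective π ∧
      (∀ h : a ∈ centralizer ({a} : Set G), π ⟨a, h⟩ = z) ∧
      π.ker = (oc (centralizer ({a} : Set G))).subgroupOf (centralizer ({a} : Set G)) ∧
      (∀ x : centralizer ({a} : Set G), (x : G) ∈ S → π x ∈ S') ∧
      (∀ x : centralizer ({a} : Set G), (x : G) ∈ A → π x ∈ A') ∧
      (∀ x : centralizer ({a} : Set G), (x : G) ∈ S → π x ∈ A' → (x : G) ∈ A) ∧
      S'.index = (oc (centralizer (A : Set G)) ⊔ S).relIndex (centralizer (A : Set G)) := by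
  classical
  have hfact : Fact (Nat.Prime 2) := ⟨Nat.prime_two⟩
  have hSC : S ≤ centralizer ({a} : Set G) := by
    intro s hs
    rw [mem_centralizer_singleton_iff]
    exact (h.cen a ha s hs).symm
  obtain ⟨C, hC⟩ : ∃ C, C = centralizer ({a} : Set G) := ⟨_, rfl⟩
  have hCA : centralizer (A : Set G) ≤ C := hC ▸ cent_le ha
  have hmul : ∀ x ∈ C, ∃ c ∈ centralizer (A : Set G), ∃ k ∈ oc C, c * k = x := by
    intro x hx
    rw [hC] at hx ⊢
    exact exists_mul h ha ha1 hx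
  have hDK : oc (centralizer (A : Set G)) ≤ oc C := hC ▸ oc_le_oc h ha ha1
  have haC : a ∈ C := by rw [hC, mem_centralizer_singleton_iff]
  rw [← hC] at hSC ⊢
  have hloc := toLoc h
  let f := QuotientGroup.mk' (Cfsg.oddCore C)
  have hf : Function.Surjective f := QuotientGroup.mk'_surjective _
  have hker : f.ker = (oc C).subgroupOf C := by
    rw [QuotientGroup.ker_mk', oddCore_eq]
  have hker1 : ∀ k : C, (k : G) ∈ oc C → f k = 1 := by
    intro k hk
    have : k ∈ f.ker := by rw [hker]; exact hk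
    exact this
  have hlocC : GoldM1Loc.Loc (S.subgroupOf C) (A.subgroupOf C) := hloc.subgroupOf hSC
  have hinj : ∀ s ∈ S.subgroupOf C, f s = 1 → s = 1 := by
    intro s hs h1
    have h2 : s ∈ Cfsg.oddCore C := (QuotientGroup.eq_one_iff s).1 h1
    have h3 : (Nat.card (Cfsg.oddCore C)).Coprime 2 := Cfsg.Agent.Lib.Cores.pPrimeCore_coprime 2
    have h4 : Disjoint (S.subgroupOf C) (Cfsg.oddCore C) := by
      apply Subgroup.disjoint_of_coprime_natCard
      rw [hlocC.cardS]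
      have e : (64 : ℕ) = 2 ^ 6 := by norm_num
      rw [e]
      exact Nat.Coprime.pow_left 6 h3.symm
    exact (Subgroup.disjoint_def.1 h4) hs h2
  have hlocX := hlocC.map f hinj
  have hO : Cfsg.oddCore (C ⧸ Cfsg.oddCore C) = ⊥ := Cfsg.Agent.Lib.Cores.pPrimeCore_quotient_pPrimeCore 2
  -- every element comes from `C(A)`
  have hlift : ∀ q, ∃ c : C, (c : G) ∈ centralizer (A : Set G) ∧ f c = q := by
    intro q
    obtain ⟨x, rfl⟩ := hf q
    obtain ⟨c, hc, k, hk, e⟩ := hmul x x.2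
    have hkC : k ∈ C := oc_le C hk
    refine ⟨⟨c, hCA hc⟩, hc, ?_⟩
    have e2 : x = ⟨c, hCA hc⟩ * ⟨k, hkC⟩ := Subtype.ext e.symm
    rw [e2, map_mul, hker1 ⟨k, hkC⟩ hk, mul_one]
  have hcentral : ∀ b ∈ (A.subgroupOf C).map f, ∀ q, b * q = q * b := by
    rintro _ ⟨b, hb, rfl⟩ q
    obtain ⟨c, hc, rfl⟩ := hlift q
    rw [← map_mul, ← map_mul]
    congr 1
    rw [mem_centralizer_iff] at hc
    exact Subtype.ext (hc b hb)
  have hSD : S ≤ normalizer (oc (centralizer (A : Set G)) : Set G) := by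
    refine le_trans ?_ (le_normalizer_oc _)
    intro s hs
    rw [mem_centralizer_iff]
    intro b hb
    exact h.cen b hb s hs
  have hn : ((S.subgroupOf C).map f).Normal := by
    refine ⟨?_⟩
    rintro _ ⟨s, hs, rfl⟩ q
    obtain ⟨c, hc, rfl⟩ := hlift q
    have h1 := (mem_normalizer_iff.1 (h.normCA hc) s).1 (mem_sup_right hs)
    rw [sup_comm, ← SetLike.mem_coe, coe_mul_of_left_le_normalizer_right _ _ hSD] at h1
    obtain ⟨s', hs', k, hk, e⟩ := Set.mem_mul.1 h1
    have hkC : k ∈ C := oc_le C (hDK hk)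
    refine ⟨⟨s', hSC hs'⟩, hs', ?_⟩
    rw [← map_inv, ← map_mul, ← map_mul]
    have e2 : c * s * c⁻¹ = ⟨s', hSC hs'⟩ * ⟨k, hkC⟩ := Subtype.ext e.symm
    rw [e2, map_mul, hker1 ⟨k, hkC⟩ (hDK hk), mul_one]
  have hSX : ¬ 2 ∣ ((S.subgroupOf C).map f).index := by
    intro h1
    have h2 : ((S.subgroupOf C).map f).index ∣ (S.subgroupOf C).index := Subgroup.index_map_dvd _ hf
    have h3 : (S.subgroupOf C).index ∣ S.index := Subgroup.relIndex_dvd_index_of_le hSC
    exact h.sylow ((h1.trans h2).trans h3)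
  have hS2 : IsPGroup 2 ((S.subgroupOf C).map f) := IsPGroup.of_card (n := 6) (by rw [hlocX.cardS]; norm_num)
  have hcent : centralizer ((S.subgroupOf C).map f : Set (C ⧸ Cfsg.oddCore C)) ≤ (S.subgroupOf C).map f := by
    refine ClosedZ.le_of_central_odd_index hO _ _ inferInstance hS2 ?_ ?_
    · intro s hs c hc
      exact (mem_centralizer_iff.1 hc) s hs
    · refine Nat.not_even_iff_odd.1 ?_
      rw [even_iff_two_dvd]
      intro h1
      exact hSX (h1.trans (Subgroup.relIndex_dvd_index_of_normal _ _))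
  refine ⟨C ⧸ Cfsg.oddCore C, inferInstance, f, (S.subgroupOf C).map f, (A.subgroupOf C).map f, f ⟨a, haC⟩,
    inferInstance, ⟨hlocX, hn, hcent, hcentral, ⟨⟨a, haC⟩, ha, rfl⟩, ?_, ?_, hO, hSX⟩, hf, fun _ => rfl, hker,
    fun x hx => ⟨x, hx, rfl⟩, fun x hx => ⟨x, hx, rfl⟩, ?_, ?_⟩
  · intro e
    have := hinj ⟨a, haC⟩ (h.AS ha) e
    exact ha1 (congrArg Subtype.val this)
  · rw [← card_sq h ha ha1]
    symm
    refine Nat.card_congr (Equiv.ofBijective (fun s : {s : G // s ∈ S ∧ s * s = a} =>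
      (⟨f ⟨s, hSC s.2.1⟩, ⟨⟨s, hSC s.2.1⟩, s.2.1, rfl⟩, by
        rw [← map_mul]; congr 1; exact Subtype.ext s.2.2⟩ :
        {q // q ∈ (S.subgroupOf C).map f ∧ q * q = f ⟨a, haC⟩})) ⟨?_, ?_⟩)
    · rintro ⟨s, hs⟩ ⟨t, ht⟩ e
      have e1 : f ⟨s, hSC hs.1⟩ = f ⟨t, hSC ht.1⟩ := congrArg Subtype.val e
      have e2 : f (⟨s, hSC hs.1⟩ * ⟨t, hSC ht.1⟩⁻¹) = 1 := by
        rw [map_mul, map_inv, e1, mul_inv_cancel]
      have e3 := hinj _ (mul_mem hs.1 (inv_mem ht.1)) e2
      have e4 : s * t⁻¹ = 1 := congrArg Subtype.val e3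
      exact Subtype.ext (mul_inv_eq_one.1 e4)
    · rintro ⟨_, ⟨s, hs, rfl⟩, hq⟩
      refine ⟨⟨s, hs, ?_⟩, rfl⟩
      have e2 : f (s * s * (⟨a, haC⟩ : C)⁻¹) = 1 := by
        rw [map_mul, map_mul, map_inv, hq, mul_inv_cancel]
      have e3 := hinj _ (mul_mem (mul_mem hs hs) (inv_mem (show (⟨a, haC⟩ : C) ∈ S.subgroupOf C from h.AS ha))) e2
      have e4 : (s : G) * s * a⁻¹ = 1 := congrArg Subtype.val e3
      exact mul_inv_eq_one.1 e4
  · intro x hx hxA
    obtain ⟨y, hy, e⟩ := hxA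
    have e2 : f (x * y⁻¹) = 1 := by rw [map_mul, map_inv, e, mul_inv_cancel]
    have e3 := hinj _ (mul_mem (show x ∈ S.subgroupOf C from hx) (inv_mem (show y ∈ S.subgroupOf C from h.AS hy))) e2
    have e4 : x = y := mul_inv_eq_one.1 e3
    rw [e4]
    exact hy
  · -- the index
    obtain ⟨B, hB⟩ : ∃ B, B = centralizer (A : Set G) := ⟨_, rfl⟩
    rw [← hB] at hCA hDK hlift ⊢
    have hSB : S ≤ B := by
      intro s hs
      rw [hB, mem_centralizer_iff]
      intro b hb
      exact h.cen b hb s hs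
    let ρ : B →* C ⧸ Cfsg.oddCore C := f.comp (inclusion hCA)
    have hρ : Function.Surjective ρ := by
      intro q
      obtain ⟨c, hc, e⟩ := hlift q
      exact ⟨⟨c, hc⟩, e⟩
    have hρk : ρ.ker = (oc B).subgroupOf B := by
      apply le_antisymm
      · intro x hx
        have h1 : inclusion hCA x ∈ f.ker := hx
        rw [hker] at h1
        have h2 : (x : G) ∈ oc C := h1
        have h3 : oc C ⊓ B ≤ oc B := by
          refine le_oc inf_le_right ?_ ?_
          · refine le_trans (le_inf (hCA.trans (le_normalizer_oc C)) le_normalizer) ?_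
            exact inf_normalizer_le_normalizer_inf
          · exact Odd.of_dvd_nat (odd_oc C) (card_dvd_of_le inf_le_left)
        exact h3 ⟨h2, x.2⟩
      · intro x hx
        exact hker1 _ (hDK hx)
    have hSρ : (S.subgroupOf C).map f = (S.subgroupOf B).map ρ := by
      ext q
      constructor
      · rintro ⟨s, hs, rfl⟩
        exact ⟨⟨s, hSB hs⟩, hs, rfl⟩
      · rintro ⟨s, hs, rfl⟩
        exact ⟨inclusion hCA s, hs, rfl⟩
    rw [hSρ]
    obtain ⟨M, hM⟩ : ∃ M, M = ((S.subgroupOf B).map ρ).comap ρ := ⟨_, rfl⟩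
    have hM1 : M = S.subgroupOf B ⊔ (oc B).subgroupOf B := by
      rw [hM, Subgroup.comap_map_eq, hρk]
    have hM2 : oc B ⊔ S = M.map B.subtype := by
      rw [hM1, Subgroup.map_sup, subgroupOf_map_subtype, subgroupOf_map_subtype, inf_eq_left.2 hSB,
        inf_eq_left.2 (oc_le B), sup_comm]
    have e : (M.map B.subtype).relIndex B = M.index := by
      change ((M.map B.subtype).subgroupOf B).index = _
      rw [subgroupOf, comap_map_eq_self_of_injective B.subtype_injective]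
    rw [hM2, e, hM, Subgroup.index_comap_of_surjective _ hρ]

/-- `[M1]` route B, (e1): the hypotheses of the character theoretic part. -/
theorem exists_qhyp {a : G} (ha : a ∈ A) (ha1 : a ≠ 1)
    (h5 : (oc (centralizer (A : Set G)) ⊔ S).relIndex (centralizer (A : Set G)) = 5) :
    ∃ (Q : Type u) (_ : Group Q) (π : centralizer ({a} : Set G) →* Q) (S' A' : Subgroup Q) (z : Q)
      (lam : Q →* ℂˣ), Finite Q ∧ Classification.RTwo.General.Hyp a z π ∧ U34Q.QHyp S' A' z ∧ lam.ker = S' ∧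
      QLoc S' A' z ∧
      π.ker = (oc (centralizer ({a} : Set G))).subgroupOf (centralizer ({a} : Set G)) ∧
      ∀ x : centralizer ({a} : Set G), (x : G) ∈ S →
        π x ∈ S' ∧ ((x : G) ∈ A → π x ∈ A') ∧ (π x ∈ A' → (x : G) ∈ A) := by
  obtain ⟨Q, iQ, π, S', A', z, hfin, hq, hsurj, hz, hker, hS', hA', hA'', hidx⟩ := exists_qloc h ha ha1
  have hcard : Nat.card Q = 320 := by
    rw [← Subgroup.card_mul_index S', hq.loc.cardS, hidx, h5]
  have h2 : orderOf a = 2 := orderOf_eq_prime (by rw [pow_two]; exact h.sq a ha) ha1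
  have hQ : U34Q.QHyp S' A' z := by
    refine ⟨hcard, hq.normal, hq.loc.cardS, hq.loc.AS, hq.loc.cardA, hq.central, hq.z_mem, hq.z_ne, hq.loc.sq,
      fun s hs => hq.loc.sq_mem hs, hq.loc.inv, ?_, ?_, hq.sq_z⟩
    · intro s hs hsA b hb
      obtain ⟨u, hu, e⟩ := hq.loc.surj s hs hsA b hb
      refine ⟨u, hu, ?_⟩
      have e1 := hq.loc.comm_symm hs hu
      rw [e] at e1
      have e2 := hq.central b hb s
      calc u * s * u⁻¹ = (u * s * u⁻¹ * s⁻¹) * s := by group
        _ = b * s := by rw [e1]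
        _ = s * b := e2
    · intro y hy s hs hsy
      exact hq.fpf (by norm_num : Nat.Prime 5) (by norm_num) hy hs hsy
  obtain ⟨lam, hlam⟩ := U34Q.exists_lam hQ
  refine ⟨Q, iQ, π, S', A', z, lam, hfin, ⟨h2, one_class h ha ha1, hsurj, ?_, hz⟩, hQ, hlam, hq, hker,
    fun x hx => ⟨hS' x hx, hA' x, hA'' x hx⟩⟩
  rw [hker]
  refine Odd.of_dvd_nat (odd_oc (centralizer ({a} : Set G))) ?_
  rw [Nat.card_congr (subgroupOfEquivOfLe (oc_le (centralizer ({a} : Set G)))).toEquiv]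

end Quot

end Cfsg.Agent.TwoFusion.U34Hyp
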