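import Mathlib
import Cfsg.Agent.TwoFusion.GoldM1Char

/-!
# The case `C(a) = O(C(a)) S` of the `U₃(4)` situation, characters

`numerics`, `false_of_data`: `G` has elements `x 0, …, x 3` of order four in different classes with
`|C(x i) : O(C(x i))| = 16`, an involution `a` with `|C(a) : O(C(a))| ≤ 64`, no product of two conjugates of
`a` has 2-part conjugate to `x i`; the nonprincipal characters `χ` of the principal 2-block have integral values with
`χ (x i) ≡ χ (x k) (mod 4)` and `χ 1 ≥ 64`.  This is impossible.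
-/

set_option autoImplicit false

open Cfsg Cfsg.Agent.Blocks.Basic Cfsg.Agent.Blocks.Local
open scoped ComplexConjugate

namespace Cfsg.Agent.TwoFusion.U34One

/-- The entries of one row. -/
theorem row_bound (v : Fin 4 → ℤ) (h4 : ∀ i k, (4 : ℤ) ∣ v i - v k)
    (h1 : ∀ i, v i ^ 2 ≤ 15) (h2 : ∀ i k, i ≠ k → (v i + v k) ^ 2 ≤ 28)
    (h5 : (∑ i, v i) ^ 2 ≤ 48) : |∑ i, v i| ≤ 4 := by
  have b : ∀ i, -3 ≤ v i ∧ v i ≤ 3 := fun i => ⟨by nlinarith [h1 i], by nlinarith [h1 i]⟩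
  have b2 : ∀ i k, i ≠ k → -5 ≤ v i + v k ∧ v i + v k ≤ 5 := fun i k hik =>
    ⟨by nlinarith [h2 i k hik], by nlinarith [h2 i k hik]⟩
  have b4 : -6 ≤ ∑ i, v i ∧ ∑ i, v i ≤ 6 := ⟨by nlinarith [h5], by nlinarith [h5]⟩
  rw [abs_le]
  rw [Fin.sum_univ_four] at b4 ⊢
  have c01 := b2 0 1 (by decide)
  have c02 := b2 0 2 (by decide)
  have c03 := b2 0 3 (by decide)
  have c12 := b2 1 2 (by decide)
  have c13 := b2 1 3 (by decide)
  have c23 := b2 2 3 (by decide)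
  have d1 := h4 1 0
  have d2 := h4 2 0
  have d3 := h4 3 0
  have e0 := b 0
  have e1 := b 1
  have e2 := b 2
  have e3 := b 3
  omega

/-- The numerical contradiction in the case of index one. -/
theorem numerics {ι : Type*} (I : Finset ι) (v : ι → Fin 4 → ℤ) (y n : ι → ℤ)
    (h4 : ∀ j ∈ I, ∀ i k, (4 : ℤ) ∣ v j i - v j k)
    (gram : ∀ i k, ∑ j ∈ I, v j i * v j k = if i = k then 15 else -1)
    (hy : ∑ j ∈ I, y j ^ 2 ≤ 63) (hn : ∀ j ∈ I, 64 ≤ n j)
    (rel : ∀ i, ∑ j ∈ I, (v j i : ℚ) * ((y j : ℚ) ^ 2 / (n j : ℚ)) = -1) : False := by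
  classical
  have g2 : ∀ i k, i ≠ k → ∑ j ∈ I, (v j i + v j k) ^ 2 = 28 := by
    intro i k hik
    have : ∀ j, (v j i + v j k) ^ 2 = v j i * v j i + 2 * (v j i * v j k) + v j k * v j k := by
      intro j; ring
    rw [Finset.sum_congr rfl fun j _ => this j, Finset.sum_add_distrib, Finset.sum_add_distrib,
      ← Finset.mul_sum, gram, gram, gram, if_pos rfl, if_pos rfl, if_neg hik]
    norm_num
  have g4 : ∑ j ∈ I, (∑ i, v j i) ^ 2 = 48 := by
    have : ∀ j, (∑ i, v j i) ^ 2 = ∑ i, ∑ k, v j i * v j k := by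
      intro j; rw [sq, Finset.sum_mul_sum]
    rw [Finset.sum_congr rfl fun j _ => this j, Finset.sum_comm]
    rw [Finset.sum_congr rfl fun i _ => Finset.sum_comm]
    rw [Finset.sum_congr rfl fun i _ => Finset.sum_congr rfl fun k _ => gram i k]
    decide
  have hT : ∀ j ∈ I, |∑ i, v j i| ≤ 4 := by
    intro j hj
    refine row_bound (v j) (h4 j hj) ?_ ?_ ?_
    · intro i
      have := Finset.single_le_sum (f := fun j => v j i ^ 2) (fun j _ => sq_nonneg _) hj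
      have e : ∑ j ∈ I, v j i ^ 2 = 15 := by
        rw [← (show (∑ j ∈ I, v j i * v j i) = 15 by rw [gram, if_pos rfl])]
        exact Finset.sum_congr rfl fun j _ => sq _
      linarith
    · intro i k hik
      have := Finset.single_le_sum (f := fun j => (v j i + v j k) ^ 2) (fun j _ => sq_nonneg _) hj
      rw [g2 i k hik] at this
      exact this
    · have := Finset.single_le_sum (f := fun j => (∑ i, v j i) ^ 2) (fun j _ => sq_nonneg _) hj
      rw [g4] at this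
      exact this
  have hsum : ∑ j ∈ I, ((∑ i, v j i : ℤ) : ℚ) * ((y j : ℚ) ^ 2 / (n j : ℚ)) = -4 := by
    have : ∀ j, ((∑ i, v j i : ℤ) : ℚ) * ((y j : ℚ) ^ 2 / (n j : ℚ)) =
        ∑ i, (v j i : ℚ) * ((y j : ℚ) ^ 2 / (n j : ℚ)) := by
      intro j
      push_cast
      rw [Finset.sum_mul]
    rw [Finset.sum_congr rfl fun j _ => this j, Finset.sum_comm,
      Finset.sum_congr rfl fun i _ => rel i]
    norm_num
  have hle : ∀ j ∈ I, |((∑ i, v j i : ℤ) : ℚ) * ((y j : ℚ) ^ 2 / (n j : ℚ))| ≤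
      (1 / 16) * (y j : ℚ) ^ 2 := by
    intro j hj
    have hn0 : (64 : ℚ) ≤ n j := by exact_mod_cast hn j hj
    have h1 : |((∑ i, v j i : ℤ) : ℚ)| ≤ 4 := by exact_mod_cast hT j hj
    have h2 : |(y j : ℚ) ^ 2 / (n j : ℚ)| ≤ (y j : ℚ) ^ 2 / 64 := by
      rw [abs_of_nonneg (div_nonneg (sq_nonneg _) (by linarith))]
      exact div_le_div_of_nonneg_left (sq_nonneg _) (by norm_num) hn0
    rw [abs_mul]
    calc _ ≤ 4 * ((y j : ℚ) ^ 2 / 64) :=
          mul_le_mul h1 h2 (abs_nonneg _) (by norm_num)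
      _ = _ := by ring
  have h6 : |∑ j ∈ I, ((∑ i, v j i : ℤ) : ℚ) * ((y j : ℚ) ^ 2 / (n j : ℚ))| ≤
      ∑ j ∈ I, (1 / 16) * (y j : ℚ) ^ 2 :=
    (Finset.abs_sum_le_sum_abs _ _).trans (Finset.sum_le_sum fun j hj => hle j hj)
  rw [hsum, ← Finset.mul_sum] at h6
  have h7 : (∑ j ∈ I, (y j : ℚ) ^ 2) ≤ 63 := by exact_mod_cast hy
  rw [abs_neg] at h6
  norm_num at h6
  linarith

open Classical in
/-- **The contradiction in the case of index one.** -/
theorem false_of_data {G : Type*} [Group G] [Finite G] {M : Ideal AlgInt} (hM : IsPModular 2 M)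
    (x : Fin 4 → G) (a : G) (ha : orderOf a = 2)
    (hx : ∀ i, ∃ k : ℕ, orderOf (x i) = 2 ^ k)
    (hidx : ∀ i, (pPrimeCore 2 (Subgroup.centralizer ({x i} : Set G))).index = 16)
    (hidxa : (pPrimeCore 2 (Subgroup.centralizer ({a} : Set G))).index ≤ 64)
    (hnc : ∀ i k, i ≠ k → ¬ IsConj (x i) (x k))
    (hprod : ∀ i, ∀ u w z : G, IsConj a u → IsConj a w → IsPPart 2 (u * w) z →
      ¬ IsConj (x i) z)
    (hval : ∀ χ : IrrCharacter G, χ ∈ principalBlock M G → (χ : G → ℂ) ≠ 1 →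
      ∃ (v : Fin 4 → ℤ) (y n : ℤ), (χ : G → ℂ) 1 = n ∧ (χ : G → ℂ) a = y ∧
        (∀ i, (χ : G → ℂ) (x i) = v i) ∧ (∀ i k, (4 : ℤ) ∣ v i - v k) ∧ 64 ≤ n) : False := by
  have : Fact (Nat.Prime 2) := ⟨Nat.prime_two⟩
  have hfinI : Finite (IrrCharacter G) := Characters.Core.finite_irr
  have hMp := isPrime_of_isPModular hM
  have hfin : (principalBlock M G).Finite := Set.toFinite _
  have ha2 : a⁻¹ = a := by
    have h := pow_orderOf_eq_one a
    rw [ha, sq] at h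
    exact inv_eq_of_mul_eq_one_left h
  set one : IrrCharacter G := ⟨fun _ => 1, isIrrCharacter_one⟩ with hone
  have hone_mem : one ∈ hfin.toFinset := by
    rw [Set.Finite.mem_toFinset]
    exact Blocks.PrincipalSection.one_mem_principalBlock
  set B : Finset (IrrCharacter G) := hfin.toFinset.erase one with hB
  have hBmem : ∀ χ ∈ B, χ ∈ principalBlock M G ∧ (χ : G → ℂ) ≠ 1 := by
    intro χ hχ
    refine ⟨(Set.Finite.mem_toFinset _).1 (Finset.mem_erase.1 hχ).2, fun h => ?_⟩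
    exact (Finset.mem_erase.1 hχ).1 (Subtype.ext h)
  have hval' : ∀ χ : IrrCharacter G, ∃ (v : Fin 4 → ℤ) (y n : ℤ), χ ∈ B →
      (χ : G → ℂ) 1 = n ∧ (χ : G → ℂ) a = y ∧
        (∀ i, (χ : G → ℂ) (x i) = v i) ∧ (∀ i k, (4 : ℤ) ∣ v i - v k) ∧ 64 ≤ n := by
    intro χ
    by_cases hχ : χ ∈ B
    · obtain ⟨v, y, n, h⟩ := hval χ (hBmem χ hχ).1 (hBmem χ hχ).2
      exact ⟨v, y, n, fun _ => h⟩
    · exact ⟨fun _ => 0, 0, 0, fun h => absurd h hχ⟩
  choose v y n hv using hval'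
  have hI : ∀ i, ∀ χ ∈ B, (χ : G → ℂ) (x i) = v χ i := fun i χ hχ => (hv χ hχ).2.2.1 i
  have hpp : ∀ i, IsPPart 2 (x i) (x i) := fun i => Blocks.PPart.isPPart_of_isPGroup (hx i)
  have hsec : ∀ i k, ∑ᶠ χ ∈ principalBlock M G, (χ : G → ℂ) (x i) * conj ((χ : G → ℂ) (x k)) =
      if i = k then 16 else 0 := by
    intro i k
    split_ifs with hik
    · subst hik
      have h2 := GoldM1Char.sum_section_eq hM (hx i) ⟨4, by rw [hidx i]; norm_num⟩ (hpp i)
        (IsConj.refl (x i))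
      rw [h2, hidx i]; norm_num
    · have h2 := (Cfsg.Agent.S0925.result 2 M hM).2 (x i) (x k) (x i) (x k) (hpp i) (hpp k)
        (hnc i k hik) _ Blocks.PrincipalSection.isPBlock_principalBlock
      rw [← h2]
      refine finsum_congr fun χ => finsum_congr fun _ => ?_
      rw [Blocks.Orthogonality.irr_apply_inv χ.2]
  refine numerics B v y n (fun χ hχ => (hv χ hχ).2.2.2.1) ?_ ?_
    (fun χ hχ => (hv χ hχ).2.2.2.2) ?_
  · intro i k
    have h2 := hsec i k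
    rw [finsum_mem_eq_finite_toFinset_sum _ hfin, ← Finset.add_sum_erase _ _ hone_mem] at h2
    have h3 : (one : G → ℂ) (x i) * conj ((one : G → ℂ) (x k)) = 1 := by simp [hone]
    rw [h3] at h2
    have h4 : ((∑ χ ∈ B, v χ i * v χ k : ℤ) : ℂ) =
        ∑ χ ∈ B, (χ : G → ℂ) (x i) * conj ((χ : G → ℂ) (x k)) := by
      push_cast
      refine Finset.sum_congr rfl fun χ hχ => ?_
      rw [hI i χ hχ, hI k χ hχ, map_intCast]
    have h5 : ((∑ χ ∈ B, v χ i * v χ k : ℤ) : ℂ) = ((if i = k then 15 else -1 : ℤ) : ℂ) := by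
      rw [h4]
      split_ifs at h2 ⊢ with hik
      · push_cast
        linear_combination h2
      · push_cast
        linear_combination h2
    exact_mod_cast h5
  · have h2 := GoldM1Char.sum_norm_sq_le M hM a ⟨1, by rw [ha, pow_one]⟩ hfin
    rw [← Finset.add_sum_erase _ _ hone_mem] at h2
    have h3 : ‖(one : G → ℂ) a‖ ^ 2 = 1 := by simp [hone]
    rw [h3] at h2
    have h4 : ((pPrimeCore 2 (Subgroup.centralizer ({a} : Set G))).index : ℝ) ≤ 64 := by
      exact_mod_cast hidxa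
    have h5 : ((∑ χ ∈ B, y χ ^ 2 : ℤ) : ℝ) = ∑ χ ∈ B, ‖(χ : G → ℂ) a‖ ^ 2 := by
      push_cast
      refine Finset.sum_congr rfl fun χ hχ => ?_
      rw [(hv χ hχ).2.1, Complex.norm_intCast, sq_abs]
    have h6 : ((∑ χ ∈ B, y χ ^ 2 : ℤ) : ℝ) ≤ 63 := by
      rw [h5]; linarith
    exact_mod_cast h6
  · intro i
    have h2 := GoldM1Char.sum_block_eq_zero M hM a (x i) ha2 (hx i) (hprod i) hfin
    rw [← Finset.add_sum_erase _ _ hone_mem] at h2
    have h1 : (one : G → ℂ) (x i) * ((one : G → ℂ) a ^ 2 / (one : G → ℂ) 1) = 1 := by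
      simp [hone]
    rw [h1] at h2
    have h4 : ((∑ χ ∈ B, (v χ i : ℚ) * ((y χ : ℚ) ^ 2 / (n χ : ℚ)) : ℚ) : ℂ) =
        ∑ χ ∈ B, (χ : G → ℂ) (x i) * ((χ : G → ℂ) a ^ 2 / (χ : G → ℂ) 1) := by
      push_cast
      refine Finset.sum_congr rfl fun χ hχ => ?_
      rw [hI i χ hχ, (hv χ hχ).2.1, (hv χ hχ).1]
    have h5 : ((∑ χ ∈ B, (v χ i : ℚ) * ((y χ : ℚ) ^ 2 / (n χ : ℚ)) : ℚ) : ℂ) =
        ((-1 : ℚ) : ℂ) := by
      rw [h4]
      push_cast
      linear_combination h2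
    exact_mod_cast h5

end Cfsg.Agent.TwoFusion.U34One
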