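import Mathlib
import Cfsg.Agent.TwoFusion.U34Loc
import Cfsg.Agent.TwoFusion.GoldM1Form
import Cfsg.Agent.OddOrderLocal.UniqZL
import Cfsg.Agent.Blocks.PPart
import Cfsg.Agent.Lib.GoldschmidtFusion

/-!
# The case `C(A) = O(C(A)) S` of the `U₃(4)` situation, local structure

* `conj_of_comm`: elements of `S - A` which commute are conjugate;
* `comm_of_conj`: conjugate elements of `S - A` commute;
* `index_cent`: `|C(x) : O(C(x))| = 16` for `x ∈ S - A`;
* `hprod`: no product of two involutions has 2-part conjugate to `x ∈ S - A`;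
* `exists_four`: four pairwise non-commuting elements of `S - A`.
-/

set_option autoImplicit false

namespace Cfsg.Agent.TwoFusion.U34OneLoc

open Subgroup
open Cfsg.Agent.TwoFusion.U34Loc
open Cfsg.Agent.TwoFusion.GoldM1 (Syl k k_eq_one_iff)
open Cfsg.Agent.Classification.TypeB.Core (oc oc_def oc_le odd_oc le_normalizer_oc le_oc)

variable {G : Type*} [Group G] {S A : Subgroup G} {g0 : G}

theorem syl (h : Loc S A g0) : Syl S A :=
  ⟨h.cardS, h.AS, h.cardA, h.cen, h.sq, h.inv, h.comm, h.surj⟩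

section

variable (h : Loc S A g0)

include h

theorem conjS {x : G} (hx : x ∈ S) : g0 * x * g0⁻¹ ∈ S := (mem_normalizer_iff.1 h.g0S x).1 hx

theorem conjA_iff {x : G} : g0 * x * g0⁻¹ ∈ A ↔ x ∈ A := by
  have := (syl h).finA
  refine ⟨fun hx => ?_, h.g0A x⟩
  let f : A → A := fun a => ⟨g0 * a * g0⁻¹, h.g0A a a.2⟩
  have hf : Function.Injective f := by
    intro a b hab
    have h1 : g0 * (a : G) * g0⁻¹ = g0 * b * g0⁻¹ := congrArg Subtype.val hab
    exact Subtype.ext (mul_left_cancel (mul_right_cancel h1))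
  obtain ⟨a, ha⟩ := (Finite.injective_iff_surjective.1 hf) ⟨_, hx⟩
  have h1 : g0 * (a : G) * g0⁻¹ = g0 * x * g0⁻¹ := congrArg Subtype.val ha
  have h2 : (a : G) = x := mul_left_cancel (mul_right_cancel h1)
  rw [← h2]
  exact a.2

/-- `g0` has no fixed points in `A#`. -/
theorem conj_ne {a : G} (ha : a ∈ A) (ha1 : a ≠ 1) : g0 * a * g0⁻¹ ≠ a := by
  intro e
  apply ha1
  apply h.g0_fpf a ha
  calc g0 * a = (g0 * a * g0⁻¹) * g0 := by group
    _ = a * g0 := by rw [e]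

theorem conj_conj_ne {a : G} (ha : a ∈ A) (ha1 : a ≠ 1) :
    g0 * (g0 * a * g0⁻¹) * g0⁻¹ ≠ a := by
  intro e
  have h1 : a * (g0 * a * g0⁻¹) = 1 := by
    by_contra hne
    apply conj_ne h (mul_mem ha (h.g0A a ha)) hne
    calc g0 * (a * (g0 * a * g0⁻¹)) * g0⁻¹ = (g0 * a * g0⁻¹) * (g0 * (g0 * a * g0⁻¹) * g0⁻¹) := by
          group
      _ = (g0 * a * g0⁻¹) * a := by rw [e]
      _ = a * (g0 * a * g0⁻¹) := (syl h).cenA (h.g0A a ha) ha
  apply conj_ne h ha ha1
  rw [mul_eq_one_iff_inv_eq.1 h1 |>.symm, (syl h).invA ha]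

/-- `a · a^{g0} = a^{g0²}` -/
theorem mul_conj {a : G} (ha : a ∈ A) (ha1 : a ≠ 1) :
    a * (g0 * a * g0⁻¹) = g0 * (g0 * a * g0⁻¹) * g0⁻¹ := by
  have h1 := h.g0A a ha
  have h2 := h.g0A _ h1
  have h3 : g0 * a * g0⁻¹ ≠ 1 := by
    intro e
    apply ha1
    calc a = g0⁻¹ * (g0 * a * g0⁻¹) * g0 := by group
      _ = 1 := by rw [e]; group
  have h4 : g0 * (g0 * a * g0⁻¹) * g0⁻¹ ≠ 1 := by
    intro e
    apply h3
    calc g0 * a * g0⁻¹ = g0⁻¹ * (g0 * (g0 * a * g0⁻¹) * g0⁻¹) * g0 := by group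
      _ = 1 := by rw [e]; group
  rcases (syl h).mem_A ha h1 ha1 h3 (conj_ne h ha ha1).symm h2 with e | e | e | e
  · exact absurd e h4
  · exact absurd e (conj_conj_ne h ha ha1)
  · exact absurd e (conj_ne h h1 h3)
  · exact e.symm

/-- The elements of `A#`. -/
theorem cases_A {a c : G} (ha : a ∈ A) (ha1 : a ≠ 1) (hc : c ∈ A) (hc1 : c ≠ 1) :
    c = a ∨ c = g0 * a * g0⁻¹ ∨ c = g0 * (g0 * a * g0⁻¹) * g0⁻¹ := by
  have h1 := h.g0A a ha
  have h3 : g0 * a * g0⁻¹ ≠ 1 := by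
    intro e
    apply ha1
    calc a = g0⁻¹ * (g0 * a * g0⁻¹) * g0 := by group
      _ = 1 := by rw [e]; group
  rcases (syl h).mem_A ha h1 ha1 h3 (conj_ne h ha ha1).symm hc with e | e | e | e
  · exact absurd e hc1
  · exact Or.inl e
  · exact Or.inr (Or.inl e)
  · exact Or.inr (Or.inr (e.trans (mul_conj h ha ha1)))

/-- `g0³` centralizes `A`. -/
theorem conj3 {a : G} (ha : a ∈ A) : g0 * (g0 * (g0 * a * g0⁻¹) * g0⁻¹) * g0⁻¹ = a := by
  by_cases ha1 : a = 1
  · subst ha1; group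
  have h1 := h.g0A a ha
  have h2 := h.g0A _ h1
  have hne : ∀ x : G, x ≠ 1 → g0 * x * g0⁻¹ ≠ 1 := by
    intro x hx e
    apply hx
    calc x = g0⁻¹ * (g0 * x * g0⁻¹) * g0 := by group
      _ = 1 := by rw [e]; group
  rcases cases_A h ha ha1 (h.g0A _ h2) (hne _ (hne _ (hne _ ha1))) with e | e | e
  · exact e
  · exact absurd e (conj_conj_ne h h1 (hne _ ha1))
  · exact absurd e (conj_ne h h2 (hne _ (hne _ ha1)))

/-- `xA` is contained in the class of `x`. -/
theorem conj_mul {x a : G} (hx : x ∈ S) (hxA : x ∉ A) (ha : a ∈ A) : IsConj x (x * a) := by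
  obtain ⟨u, hu, e⟩ := h.surj x hx hxA a ha
  rw [isConj_iff]
  refine ⟨u, ?_⟩
  have h2 : u * x * u⁻¹ * x⁻¹ = a := by
    have h3 : u * x * u⁻¹ * x⁻¹ = (x * u * x⁻¹ * u⁻¹)⁻¹ := by group
    rw [h3, e, (syl h).invA ha]
  calc u * x * u⁻¹ = (u * x * u⁻¹ * x⁻¹) * x := by group
    _ = a * x := by rw [h2]
    _ = x * a := h.cen a ha x hx

end

section Index

variable [Finite G] (h : Loc S A g0)
  (h1 : (oc (centralizer (A : Set G)) ⊔ S).relIndex (centralizer (A : Set G)) = 1)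

include h

omit [Finite G] in
theorem pgroupS : IsPGroup 2 S := IsPGroup.of_card (n := 6) (by rw [h.cardS]; norm_num)

omit [Finite G] in
/-- Odd subgroups meet `S` trivially. -/
theorem eq_one_of_odd {K : Subgroup G} (hK : Odd (Nat.card K)) {x : G} (hx : x ∈ S) (hxK : x ∈ K) : x = 1 := by
  have h4 : Disjoint S K := by
    apply Subgroup.disjoint_of_coprime_natCard
    rw [h.cardS]
    have e : (64 : ℕ) = 2 ^ 6 := by norm_num
    rw [e]
    exact Nat.Coprime.pow_left 6 (Nat.coprime_two_left.2 hK)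
  exact (Subgroup.disjoint_def.1 h4) hx hxK

omit [Finite G] in
theorem S_le_cent : S ≤ centralizer (A : Set G) := by
  intro s hs
  rw [mem_centralizer_iff]
  intro a ha
  exact h.cen a ha s hs

omit [Finite G] h in
theorem centA_le {b : G} (hb : b ∈ A) : centralizer (A : Set G) ≤ centralizer ({b} : Set G) :=
  centralizer_le (by simpa using hb)

omit [Finite G] in
theorem S_le_centb {b : G} (hb : b ∈ A) : S ≤ centralizer ({b} : Set G) :=
  (S_le_cent h).trans (centA_le hb)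

/-- `O(C(A)) ≤ O(C(b))`. -/
theorem oc_le_oc {b : G} (hb : b ∈ A) (hb1 : b ≠ 1) :
    oc (centralizer (A : Set G)) ≤ oc (centralizer ({b} : Set G)) := by
  set V := oc (centralizer (A : Set G)) with hV
  set K := oc (centralizer ({b} : Set G)) with hK
  have hCb := centA_le hb
  have hVC : V ≤ centralizer ({b} : Set G) := (oc_le _).trans hCb
  have hVK : V ≤ normalizer (K : Set G) := hVC.trans (le_normalizer_oc _)
  have hle : V ⊔ K ≤ centralizer ({b} : Set G) := sup_le hVC (oc_le _)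
  have hn : centralizer ({b} : Set G) ≤ normalizer ((V ⊔ K : Subgroup G) : Set G) := by
    refine (h.fact b hb hb1).trans (sup_le ?_ ?_)
    · exact (le_sup_right : K ≤ V ⊔ K).trans le_normalizer
    · intro c hc
      have e1 : c ∈ normalizer (V : Set G) := le_normalizer_oc _ hc
      have e2 : c ∈ normalizer (K : Set G) := le_normalizer_oc _ (hCb hc)
      rw [Cfsg.Agent.Lib.GoldschmidtFusion.mem_normalizer_iff_map_conj] at e1 e2 ⊢
      rw [Subgroup.map_sup, e1, e2]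
  refine le_sup_left.trans (le_oc hle hn ?_)
  have e1 : Odd (Nat.card V) := odd_oc _
  have e2 : Odd (Nat.card K) := odd_oc _
  refine (e2.mul e1).of_dvd_nat ?_
  set C := V ⊔ K with hC
  have hVC : V ≤ C := le_sup_left
  have hKC : K ≤ C := le_sup_right
  have hn : (K.subgroupOf C).Normal :=
    (normal_subgroupOf_iff_le_normalizer hKC).2 (sup_le hVK le_normalizer)
  have h1 := Cfsg.Agent.Lib.Cores.card_sup_dvd (K.subgroupOf C) (V.subgroupOf C) hn
  rw [← subgroupOf_sup hKC hVC, sup_comm K V, ← hC, subgroupOf_self, card_top,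
    Nat.card_congr (subgroupOfEquivOfLe hKC).toEquiv,
    Nat.card_congr (subgroupOfEquivOfLe hVC).toEquiv] at h1
  exact h1

include h1

/-- `C(A) = O(C(A)) S`. -/
theorem decompA {c : G} (hc : c ∈ centralizer (A : Set G)) :
    ∃ o ∈ oc (centralizer (A : Set G)), ∃ s ∈ S, c = o * s := by
  have h2 : centralizer (A : Set G) ≤ oc (centralizer (A : Set G)) ⊔ S := relIndex_eq_one.1 h1
  have h3 := h2 hc
  have hn : S ≤ normalizer (oc (centralizer (A : Set G)) : Set G) :=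
    (S_le_cent h).trans (le_normalizer_oc _)
  have h4 : c ∈ ((oc (centralizer (A : Set G)) ⊔ S : Subgroup G) : Set G) := h3
  rw [coe_mul_of_right_le_normalizer_left _ _ hn, Set.mem_mul] at h4
  obtain ⟨o, ho, s, hs, e⟩ := h4
  exact ⟨o, ho, s, hs, e.symm⟩

/-- `C(b) = O(C(b)) S`. -/
theorem decomp {b : G} (hb : b ∈ A) (hb1 : b ≠ 1) {c : G} (hc : c ∈ centralizer ({b} : Set G)) :
    ∃ o ∈ oc (centralizer ({b} : Set G)), ∃ s ∈ S, c = o * s := by
  have h2 := h.fact b hb hb1 hc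
  have hn : centralizer (A : Set G) ≤ normalizer (oc (centralizer ({b} : Set G)) : Set G) :=
    (centA_le hb).trans (le_normalizer_oc _)
  have h4 : c ∈ ((oc (centralizer ({b} : Set G)) ⊔ centralizer (A : Set G) : Subgroup G) : Set G) := h2
  rw [coe_mul_of_right_le_normalizer_left _ _ hn, Set.mem_mul] at h4
  obtain ⟨o, ho, n, hn', e⟩ := h4
  obtain ⟨o', ho', s, hs, e'⟩ := decompA h h1 hn'
  refine ⟨o * o', mul_mem ho (oc_le_oc h hb hb1 ho'), s, hs, ?_⟩
  rw [← e, e', mul_assoc]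

omit h1 in
/-- `c x c⁻¹ = x'`, `c = o s`: then `s x s⁻¹ = x'`. -/
theorem conj_eq {b : G} (hb : b ∈ A) {o s x x' : G} (ho : o ∈ oc (centralizer ({b} : Set G)))
    (hs : s ∈ S) (hx : x ∈ S) (hx' : x' ∈ S) (e : o * s * x * (o * s)⁻¹ = x') : s * x * s⁻¹ = x' := by
  have hy : s * x * s⁻¹ ∈ S := mul_mem (mul_mem hs hx) (inv_mem hs)
  have h2 : x' * (s * x * s⁻¹)⁻¹ ∈ oc (centralizer ({b} : Set G)) := by
    have h3 : x' * (s * x * s⁻¹)⁻¹ = o * ((s * x * s⁻¹) * o⁻¹ * (s * x * s⁻¹)⁻¹) := by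
      rw [← e]; group
    rw [h3]
    refine mul_mem ho ?_
    have h4 := le_normalizer_oc _ (S_le_centb h hb hy)
    exact (mem_normalizer_iff.1 h4 _).1 (inv_mem ho)
  have h5 := eq_one_of_odd h (odd_oc _) (mul_mem hx' (inv_mem hy)) h2
  exact (mul_inv_eq_one.1 h5).symm

/-- `g0³` acts trivially on `S/A`. -/
theorem conj3_mem {x : G} (hx : x ∈ S) :
    (g0 * (g0 * (g0 * x * g0⁻¹) * g0⁻¹) * g0⁻¹) * x⁻¹ ∈ A := by
  have hc : g0 * g0 * g0 ∈ centralizer (A : Set G) := by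
    rw [mem_centralizer_iff]
    intro a ha
    have h2 := conj3 h ha
    calc a * (g0 * g0 * g0) = (g0 * (g0 * (g0 * a * g0⁻¹) * g0⁻¹) * g0⁻¹) * (g0 * g0 * g0) := by
          rw [h2]
      _ = g0 * g0 * g0 * a := by group
  obtain ⟨o, ho, s, hs, e⟩ := decompA h h1 hc
  have hoN : o ∈ normalizer (S : Set G) := by
    have h2 : o = g0 * g0 * g0 * s⁻¹ := by rw [e]; group
    rw [h2]
    exact mul_mem (mul_mem (mul_mem h.g0S h.g0S) h.g0S) (inv_mem (le_normalizer hs))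
  have hoc : ∀ t ∈ S, o * t * o⁻¹ = t := by
    intro t ht
    have h3 : o * t * o⁻¹ * t⁻¹ ∈ S := mul_mem ((mem_normalizer_iff.1 hoN t).1 ht) (inv_mem ht)
    have h4 : o * t * o⁻¹ * t⁻¹ ∈ oc (centralizer (A : Set G)) := by
      have h5 : o * t * o⁻¹ * t⁻¹ = o * (t * o⁻¹ * t⁻¹) := by group
      rw [h5]
      refine mul_mem ho ?_
      exact (mem_normalizer_iff.1 (le_normalizer_oc _ (S_le_cent h ht)) _).1 (inv_mem ho)
    exact mul_inv_eq_one.1 (eq_one_of_odd h (odd_oc _) h3 h4)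
  have h6 : g0 * (g0 * (g0 * x * g0⁻¹) * g0⁻¹) * g0⁻¹ = s * x * s⁻¹ := by
    calc g0 * (g0 * (g0 * x * g0⁻¹) * g0⁻¹) * g0⁻¹ = (g0 * g0 * g0) * x * (g0 * g0 * g0)⁻¹ := by group
      _ = (o * s) * x * (o * s)⁻¹ := by rw [e]
      _ = o * (s * x * s⁻¹) * o⁻¹ := by group
      _ = s * x * s⁻¹ := hoc _ (mul_mem (mul_mem hs hx) (inv_mem hs))
  rw [h6]
  exact h.comm s hs x hx

/-- `x` commutes with `x^{g0}`. -/
theorem comm_conj {x : G} (hx : x ∈ S) (hxA : x ∉ A) : x * (g0 * x * g0⁻¹) = (g0 * x * g0⁻¹) * x := by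
  have hS := syl h
  set x' := g0 * x * g0⁻¹ with hx'
  set x'' := g0 * x' * g0⁻¹ with hx''
  have hxS' : x' ∈ S := conjS h hx
  have hxS'' : x'' ∈ S := conjS h hxS'
  have hw : x * x' * x'' ∈ A := by
    by_contra hwA
    have hwS : x * x' * x'' ∈ S := mul_mem (mul_mem hx hxS') hxS''
    -- `w` and its conjugate are congruent modulo `A`
    have h2 : (g0 * (x * x' * x'') * g0⁻¹) * (x * x' * x'')⁻¹ ∈ A := by
      have h3 := conj3_mem h h1 hx
      rw [← hx', ← hx''] at h3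
      set x3 := g0 * x'' * g0⁻¹ with hx3
      have hx3S : x3 ∈ S := conjS h hxS''
      have h4 : g0 * (x * x' * x'') * g0⁻¹ = x' * x'' * x3 := by
        rw [hx3, hx'', hx']; group
      rw [h4]
      have h5 : x' * x'' * x3 * (x * x' * x'')⁻¹ =
          ((x' * x'') * x3 * (x' * x'')⁻¹ * x3⁻¹) * (x3 * x⁻¹) := by group
      rw [h5]
      exact mul_mem (h.comm _ (mul_mem hxS' hxS'') _ hx3S) h3
    set w := x * x' * x'' with hw
    obtain ⟨a, ha, e⟩ : ∃ a ∈ A, g0 * w * g0⁻¹ = a * w := ⟨_, h2, by group⟩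
    have h6 : g0 * (w * w) * g0⁻¹ = w * w := by
      calc g0 * (w * w) * g0⁻¹ = (g0 * w * g0⁻¹) * (g0 * w * g0⁻¹) := by group
        _ = a * w * (a * w) := by rw [e]
        _ = a * (w * a) * w := by group
        _ = a * (a * w) * w := by rw [h.cen a ha w hwS]
        _ = (a * a) * (w * w) := by group
        _ = w * w := by rw [h.sq a ha, one_mul]
    exact conj_ne h (hS.sq_mem hwS) (hS.sq_ne hwS hwA) h6
  have h7 : x'' * x'' = (x * x') * (x * x') := by
    obtain ⟨a, ha, e⟩ : ∃ a ∈ A, x * x' * x'' = a := ⟨_, hw, rfl⟩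
    have h8 : x'' = (x * x')⁻¹ * a := by rw [← e]; group
    have h9 : (x * x')⁻¹ ∈ S := inv_mem (mul_mem hx hxS')
    have h10 : x'' * x'' = (x * x')⁻¹ * (x * x')⁻¹ := by
      rw [h8]
      calc (x * x')⁻¹ * a * ((x * x')⁻¹ * a) = (x * x')⁻¹ * (a * (x * x')⁻¹) * a := by group
        _ = (x * x')⁻¹ * ((x * x')⁻¹ * a) * a := by rw [h.cen a ha _ h9]
        _ = (x * x')⁻¹ * (x * x')⁻¹ * (a * a) := by group
        _ = (x * x')⁻¹ * (x * x')⁻¹ := by rw [h.sq a ha, mul_one]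
    rw [h10, ← mul_inv_rev]
    exact hS.invA (hS.sq_mem (mul_mem hx hxS'))
  rw [hS.sq_mul hx hxS'] at h7
  have h11 : x'' * x'' = x * x * (x' * x') := by
    have h12 := mul_conj h (hS.sq_mem hx) (hS.sq_ne hx hxA)
    have h13 : g0 * (x * x) * g0⁻¹ = x' * x' := by rw [hx']; group
    have h14 : g0 * (x' * x') * g0⁻¹ = x'' * x'' := by rw [hx'']; group
    rw [h13, h14] at h12
    exact h12.symm
  rw [h11] at h7
  exact k_eq_one_iff.1 (mul_eq_left.1 h7.symm)

/-- The conjugates of `x` under `g0`, `g0²` commute with `x`. -/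
theorem comm_conj2 {x : G} (hx : x ∈ S) (hxA : x ∉ A) :
    x * (g0 * (g0 * x * g0⁻¹) * g0⁻¹) = (g0 * (g0 * x * g0⁻¹) * g0⁻¹) * x :=
  (syl h).trans hx (conjS h hx) (fun e => hxA ((conjA_iff h).1 e)) (conjS h (conjS h hx))
    (comm_conj h h1 hx hxA)
    (comm_conj h h1 (conjS h hx) (fun e => hxA ((conjA_iff h).1 e)))

/-- Commuting elements of `S - A` are conjugate in `G`. -/
theorem conj_of_comm {x u : G} (hx : x ∈ S) (hxA : x ∉ A) (hu : u ∈ S) (huA : u ∉ A)
    (hxu : x * u = u * x) : IsConj x u := by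
  have hS := syl h
  have key : ∀ y ∈ S, y ∉ A → u * y = y * u → u * u = y * y → IsConj y u := by
    intro y hy hyA huy e
    have h2 : (y⁻¹ * u) * (y⁻¹ * u) = 1 := by
      calc (y⁻¹ * u) * (y⁻¹ * u) = y⁻¹ * (u * y⁻¹) * u := by group
        _ = y⁻¹ * (y⁻¹ * u) * u := by
            rw [show u * y⁻¹ = y⁻¹ * u from (Commute.inv_right (show Commute u y from huy)).eq]
        _ = y⁻¹ * y⁻¹ * (u * u) := by group
        _ = 1 := by rw [e]; group
    have h3 := h.inv _ (mul_mem (inv_mem hy) hu) h2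
    have h4 := conj_mul h hy hyA h3
    rwa [mul_inv_cancel_left] at h4
  have hx'A : g0 * x * g0⁻¹ ∉ A := fun e => hxA ((conjA_iff h).1 e)
  have hx''A : g0 * (g0 * x * g0⁻¹) * g0⁻¹ ∉ A := fun e => hx'A ((conjA_iff h).1 e)
  have c1 : IsConj x (g0 * x * g0⁻¹) := isConj_iff.2 ⟨g0, rfl⟩
  have c2 : IsConj (g0 * x * g0⁻¹) (g0 * (g0 * x * g0⁻¹) * g0⁻¹) := isConj_iff.2 ⟨g0, rfl⟩
  have hux : u * x = x * u := hxu.symm
  rcases cases_A h (hS.sq_mem hx) (hS.sq_ne hx hxA) (hS.sq_mem hu) (hS.sq_ne hu huA) with e | e | e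
  · exact key x hx hxA hux e
  · refine c1.trans (key _ (conjS h hx) hx'A ?_ (e.trans (by group)))
    exact hS.trans hu hx hxA (conjS h hx) hux (comm_conj h h1 hx hxA)
  · refine (c1.trans c2).trans (key _ (conjS h (conjS h hx)) hx''A ?_ (e.trans (by group)))
    exact hS.trans hu hx hxA (conjS h (conjS h hx)) hux (comm_conj2 h h1 hx hxA)

/-- Conjugate elements of `S - A` commute. -/
theorem comm_of_conj {x y : G} (hx : x ∈ S) (hxA : x ∉ A) (hy : y ∈ S) (hyA : y ∉ A)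
    (hxy : IsConj x y) : x * y = y * x := by
  have hS := syl h
  obtain ⟨g, hg⟩ := isConj_iff.1 hxy
  have key : ∀ (m y' : G), y' ∈ S → y' ∉ A → y * y' = y' * y → m * y * m⁻¹ = y' → x * x = y' * y' →
      x * y = y * x := by
    intro m y' hy' hyA' hyy hm e
    have hc : (m * g) ∈ centralizer ({x * x} : Set G) := by
      rw [mem_centralizer_singleton_iff]
      have h2 : m * g * (x * x) * (m * g)⁻¹ = x * x := by
        calc m * g * (x * x) * (m * g)⁻¹ = m * ((g * x * g⁻¹) * (g * x * g⁻¹)) * m⁻¹ := by group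
          _ = m * (y * y) * m⁻¹ := by rw [hg]
          _ = (m * y * m⁻¹) * (m * y * m⁻¹) := by group
          _ = x * x := by rw [hm, e]
      calc m * g * (x * x) = (m * g * (x * x) * (m * g)⁻¹) * (m * g) := by group
        _ = x * x * (m * g) := by rw [h2]
    obtain ⟨o, ho, s, hs, e2⟩ := decomp h h1 (hS.sq_mem hx) (hS.sq_ne hx hxA) hc
    have h3 : s * x * s⁻¹ = y' := by
      refine conj_eq h (hS.sq_mem hx) ho hs hx hy' ?_
      rw [← e2]
      calc m * g * x * (m * g)⁻¹ = m * (g * x * g⁻¹) * m⁻¹ := by group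
        _ = y' := by rw [hg, hm]
    -- `x` and `y'` commute
    have h4 : x * y' = y' * x := by
      obtain ⟨a, ha, e3⟩ : ∃ a ∈ A, y' = a * x := ⟨s * x * s⁻¹ * x⁻¹, h.comm s hs x hx, by
        rw [← h3]; group⟩
      rw [e3]
      calc x * (a * x) = (x * a) * x := by group
        _ = (a * x) * x := by rw [h.cen a ha x hx]
    exact hS.trans hx hy' hyA' hy h4 hyy.symm
  rcases cases_A h (hS.sq_mem hy) (hS.sq_ne hy hyA) (hS.sq_mem hx) (hS.sq_ne hx hxA) with e | e | e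
  · exact key 1 y hy hyA rfl (by group) e
  · exact key g0 _ (conjS h hy) (fun e => hyA ((conjA_iff h).1 e)) (comm_conj h h1 hy hyA) rfl
      (e.trans (by group))
  · exact key (g0 * g0) _ (conjS h (conjS h hy))
      (fun e => hyA ((conjA_iff h).1 ((conjA_iff h).1 e))) (comm_conj2 h h1 hy hyA) (by group)
      (e.trans (by group))

end Index

end Cfsg.Agent.TwoFusion.U34OneLoc
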