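import Mathlib
import Cfsg.Agent.TwoFusion.U34OneLoc
import Cfsg.Agent.Lib.Cores

/-!
# The case `C(A) = O(C(A)) S` of the `U₃(4)` situation, indices of the cores

* `index_cent`: `|C(x) : O(C(x))| = 16` for `x ∈ S - A`;
* `index_centA`: `|C(b) : O(C(b))| = 64` for `b ∈ A#`;
* `hprod`: no product of two involutions has 2-part conjugate to `x ∈ S - A`;
* `exists_four`: four pairwise non-commuting elements of `S - A`.
-/

set_option autoImplicit false

namespace Cfsg.Agent.TwoFusion.U34OneIdx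

open Subgroup Cfsg
open Cfsg.Agent.TwoFusion.U34Loc Cfsg.Agent.TwoFusion.U34OneLoc
open Cfsg.Agent.TwoFusion.GoldM1 (Syl k k_eq_one_iff)
open Cfsg.Agent.Classification.TypeB.Core (oc oc_def oc_le odd_oc le_normalizer_oc le_oc)

variable {G : Type*} [Group G]

/-- `H = K T` with `K` normal of odd order and `T` of order `2^n`: `|H : O(H)| = |T|`. -/
theorem index_core [Finite G] {H K T : Subgroup G} (hKH : K ≤ H) (hTH : T ≤ H)
    (hn : H ≤ normalizer (K : Set G)) (hK : Odd (Nat.card K)) {n : ℕ} (hT : Nat.card T = 2 ^ n)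
    (hHT : ∀ c ∈ H, ∃ o ∈ K, ∃ s ∈ T, c = o * s) : (pPrimeCore 2 H).index = 2 ^ n := by
  have : Fact (Nat.Prime 2) := ⟨Nat.prime_two⟩
  have hKn : (K.subgroupOf H).Normal := (normal_subgroupOf_iff_le_normalizer hKH).2 hn
  have hKle : K.subgroupOf H ≤ pPrimeCore 2 H := by
    refine Cfsg.Agent.Lib.Cores.le_pPrimeCore hKn ?_
    rw [Nat.card_congr (subgroupOfEquivOfLe hKH).toEquiv]
    exact Nat.coprime_two_right.2 hK
  have hc : IsComplement' (T.subgroupOf H) (pPrimeCore 2 H) := by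
    refine (isComplement'_of_disjoint_and_mul_eq_univ ?_ ?_).symm
    · apply Subgroup.disjoint_of_coprime_natCard
      rw [Nat.card_congr (subgroupOfEquivOfLe hTH).toEquiv, hT]
      exact Nat.Coprime.pow_right n (Cfsg.Agent.Lib.Cores.pPrimeCore_coprime 2)
    · rw [Set.eq_univ_iff_forall]
      rintro ⟨c, hc⟩
      obtain ⟨o, ho, s, hs, e⟩ := hHT c hc
      exact ⟨⟨o, hKH ho⟩, hKle (mem_subgroupOf.2 ho), ⟨s, hTH hs⟩, mem_subgroupOf.2 hs,
        Subtype.ext e.symm⟩
  rw [hc.index_eq_card, Nat.card_congr (subgroupOfEquivOfLe hTH).toEquiv, hT]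

variable {S A : Subgroup G} {g0 : G} [Finite G] (h : Loc S A g0)
  (h1 : (oc (centralizer (A : Set G)) ⊔ S).relIndex (centralizer (A : Set G)) = 1)

include h h1

/-- `|C(b) : O(C(b))| = 64` for `b ∈ A#`. -/
theorem index_centA {b : G} (hb : b ∈ A) (hb1 : b ≠ 1) :
    (pPrimeCore 2 (centralizer ({b} : Set G))).index = 64 := by
  have := index_core (K := oc (centralizer ({b} : Set G))) (T := S) (oc_le _) (S_le_centb h hb)
    (le_normalizer_oc _) (odd_oc _) (n := 6) (by rw [h.cardS]; norm_num)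
    (fun c hc => decomp h h1 hb hb1 hc)
  rw [this]; norm_num

/-- `|C(x) : O(C(x))| = 16` for `x ∈ S - A`. -/
theorem index_cent {x : G} (hx : x ∈ S) (hxA : x ∉ A) :
    (pPrimeCore 2 (centralizer ({x} : Set G))).index = 16 := by
  have hS := syl h
  have hb := hS.sq_mem hx
  have hb1 := hS.sq_ne hx hxA
  have hle : centralizer ({x} : Set G) ≤ centralizer ({x * x} : Set G) := by
    intro c hc
    rw [mem_centralizer_singleton_iff] at hc ⊢
    rw [← mul_assoc, hc, mul_assoc, hc, mul_assoc]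
  have := index_core (H := centralizer ({x} : Set G))
    (K := oc (centralizer ({x * x} : Set G)) ⊓ centralizer ({x} : Set G))
    (T := S ⊓ centralizer ({x} : Set G)) inf_le_right inf_le_right ?_ ?_
    (n := 4) (by rw [hS.card_cent hx hxA]; norm_num) ?_
  · rw [this]; norm_num
  · intro c hc
    rw [Cfsg.Agent.Lib.GoldschmidtFusion.mem_normalizer_iff_map_conj]
    have e1 : c ∈ normalizer (oc (centralizer ({x * x} : Set G)) : Set G) := le_normalizer_oc _ (hle hc)
    have e2 : c ∈ normalizer ((centralizer ({x} : Set G) : Subgroup G) : Set G) := le_normalizer hc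
    rw [Cfsg.Agent.Lib.GoldschmidtFusion.mem_normalizer_iff_map_conj] at e1 e2
    rw [Subgroup.map_inf _ _ _ (MulAut.conj c).injective, e1, e2]
  · exact (odd_oc (centralizer ({x * x} : Set G))).of_dvd_nat (Subgroup.card_dvd_of_le inf_le_left)
  · intro c hc
    obtain ⟨o, ho, s, hs, e⟩ := decomp h h1 hb hb1 (hle hc)
    have h2 : s * x * s⁻¹ = x := by
      refine conj_eq h hb ho hs hx hx ?_
      rw [← e]
      rw [mem_centralizer_singleton_iff] at hc
      rw [hc]; group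
    have hsx : s ∈ centralizer ({x} : Set G) := by
      rw [mem_centralizer_singleton_iff]
      calc s * x = (s * x * s⁻¹) * s := by group
        _ = x * s := by rw [h2]
    refine ⟨o, mem_inf.2 ⟨ho, ?_⟩, s, mem_inf.2 ⟨hs, hsx⟩, e⟩
    have h3 : o = c * s⁻¹ := by rw [e]; group
    rw [h3]
    exact mul_mem hc (inv_mem hsx)

/-- The 2-part of a product of two involutions is not an element of `S - A`. -/
theorem hprod_aux {x : G} (hx : x ∈ S) (hxA : x ∉ A) {u w : G} (hu : u * u = 1) (hw : w * w = 1)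
    (hz : IsPPart 2 (u * w) x) : False := by
  have : Fact (Nat.Prime 2) := ⟨Nat.prime_two⟩
  have hS := syl h
  obtain ⟨n, hn⟩ := Cfsg.Agent.Blocks.PPart.exists_pow_eq (G := G) 2
  have hxn := hn _ _ hz
  have hui : u⁻¹ = u := inv_eq_of_mul_eq_one_left hu
  have hwi : w⁻¹ = w := inv_eq_of_mul_eq_one_left hw
  have hb := hS.sq_mem hx
  have hb1 := hS.sq_ne hx hxA
  have hbb := h.sq _ hb
  -- `u` and `w` invert `x`
  have hux : u * x * u⁻¹ = x⁻¹ := by
    rw [← hxn, ← conj_pow, ← inv_pow]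
    congr 1
    rw [mul_inv_rev, hui, hwi]
    calc u * (u * w) * u = (u * u) * w * u := by group
      _ = w * u := by rw [hu, one_mul]
  have hwx : w * x * w⁻¹ = x⁻¹ := by
    rw [← hxn, ← conj_pow, ← inv_pow]
    congr 1
    rw [mul_inv_rev, hui, hwi]
    calc w * (u * w) * w = w * u * (w * w) := by group
      _ = w * u := by rw [hw, mul_one]
  have hmem : ∀ v : G, v * x * v⁻¹ = x⁻¹ → v ∈ centralizer ({x * x} : Set G) := by
    intro v hv
    rw [mem_centralizer_singleton_iff]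
    have h2 : v * (x * x) * v⁻¹ = x * x := by
      calc v * (x * x) * v⁻¹ = (v * x * v⁻¹) * (v * x * v⁻¹) := by group
        _ = (x * x)⁻¹ := by rw [hv]; group
        _ = x * x := hS.invA hb
    calc v * (x * x) = (v * (x * x) * v⁻¹) * v := by group
      _ = x * x * v := by rw [h2]
  obtain ⟨o, ho, s, hs, e⟩ := decomp h h1 hb hb1 (hmem u hux)
  obtain ⟨o', ho', s', hs', e'⟩ := decomp h h1 hb hb1 (hmem w hwx)
  set C := centralizer ({x * x} : Set G) with hC
  have hSC : S ≤ C := S_le_centb h hb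
  have hN : ((oc C).subgroupOf C).Normal :=
    (normal_subgroupOf_iff_le_normalizer (oc_le C)).2 (le_normalizer_oc C)
  let f : C →* C ⧸ (oc C).subgroupOf C := QuotientGroup.mk' ((oc C).subgroupOf C)
  have hf1 : ∀ c : C, f c = 1 ↔ (c : G) ∈ oc C := fun c => (QuotientGroup.eq_one_iff c).trans mem_subgroupOf
  have hfS : ∀ c : C, (c : G) ∈ S → f c = 1 → (c : G) = 1 := fun c hc hc1 =>
    eq_one_of_odd h (odd_oc C) hc ((hf1 c).1 hc1)
  have key : ∀ (v o s : G) (hv : v ∈ C), v * v = 1 → o ∈ oc C → ∀ hs : s ∈ S, v = o * s →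
      s ∈ A ∧ f ⟨v, hv⟩ = f ⟨s, hSC hs⟩ := by
    intro v o s hvC hv ho hs e
    have h2 : f ⟨v, hvC⟩ = f ⟨s, hSC hs⟩ := by
      have h3 : (⟨v, hvC⟩ : C) = ⟨o, oc_le C ho⟩ * ⟨s, hSC hs⟩ := Subtype.ext e
      rw [h3, map_mul, (hf1 ⟨o, oc_le C ho⟩).2 ho, one_mul]
    refine ⟨h.inv s hs ?_, h2⟩
    have h3 : f (⟨s, hSC hs⟩ * ⟨s, hSC hs⟩) = 1 := by
      rw [map_mul, ← h2, ← map_mul]
      have h4 : (⟨v, hvC⟩ * ⟨v, hvC⟩ : C) = 1 := Subtype.ext hv
      rw [h4, map_one]
    exact hfS _ (mul_mem hs hs) h3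
  obtain ⟨k1, k2⟩ := key u o s (hmem u hux) hu ho hs e
  obtain ⟨k3, k4⟩ := key w o' s' (hmem w hwx) hw ho' hs' e'
  have h5 : (⟨x, hSC hx⟩ : C) = (⟨u, hmem u hux⟩ * ⟨w, hmem w hwx⟩) ^ n := Subtype.ext hxn.symm
  have h6 : f ⟨x, hSC hx⟩ = f ((⟨s, hSC hs⟩ * ⟨s', hSC hs'⟩) ^ n) := by
    rw [h5, map_pow, map_pow, map_mul, map_mul, k2, k4]
  have h7 : f (⟨x, hSC hx⟩ * ((⟨s, hSC hs⟩ * ⟨s', hSC hs'⟩) ^ n)⁻¹) = 1 := by
    rw [map_mul, map_inv, h6, mul_inv_cancel]
  have h8 := hfS _ (mul_mem hx (inv_mem (pow_mem (mul_mem hs hs') n))) h7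
  have h9 : x = (s * s') ^ n := mul_inv_eq_one.1 h8
  exact hxA (h9 ▸ pow_mem (mul_mem k1 k3) n)

/-- No product of two involutions has 2-part conjugate to `x ∈ S - A`. -/
theorem hprod {a x : G} (ha : orderOf a = 2) (hx : x ∈ S) (hxA : x ∉ A) (u w z : G)
    (hu : IsConj a u) (hw : IsConj a w) (hz : IsPPart 2 (u * w) z) : ¬ IsConj x z := by
  intro hxz
  obtain ⟨g, hg⟩ := isConj_iff.1 hxz
  have haa : a * a = 1 := by rw [← pow_two, ← ha, pow_orderOf_eq_one]
  have hsq : ∀ v : G, IsConj a v → (g⁻¹ * v * g) * (g⁻¹ * v * g) = 1 := by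
    intro v hv
    obtain ⟨c, hc⟩ := isConj_iff.1 hv
    calc (g⁻¹ * v * g) * (g⁻¹ * v * g) = g⁻¹ * (v * v) * g := by group
      _ = g⁻¹ * (c * (a * a) * c⁻¹) * g := by rw [← hc]; group
      _ = 1 := by rw [haa]; group
  refine hprod_aux h h1 hx hxA (hsq u hu) (hsq w hw) ?_
  have h2 := Cfsg.Agent.Blocks.PPart.isPPart_conj hz g⁻¹
  have e1 : g⁻¹ * (u * w) * g⁻¹⁻¹ = g⁻¹ * u * g * (g⁻¹ * w * g) := by group
  have e2 : g⁻¹ * z * g⁻¹⁻¹ = x := by rw [← hg]; group
  rwa [e1, e2] at h2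

omit h1 in
/-- Four pairwise non-commuting elements of `S - A`. -/
theorem exists_four : ∃ x : Fin 4 → G, (∀ i, x i ∈ S) ∧ (∀ i, x i ∉ A) ∧
    ∀ i j, i ≠ j → x i * x j ≠ x j * x i := by
  have hS := syl h
  have := hS.finS
  have := hS.finA
  obtain ⟨u, hu, huA⟩ : ∃ u ∈ S, u ∉ A := by
    by_contra hc
    push Not at hc
    have h2 := Subgroup.card_le_of_le (show S ≤ A from hc)
    rw [h.cardS, h.cardA] at h2
    omega
  obtain ⟨w, hw, huw⟩ : ∃ w ∈ S, u * w ≠ w * u := by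
    obtain ⟨a, ha, ha1⟩ : ∃ a ∈ A, a ≠ 1 := ⟨u * u, hS.sq_mem hu, hS.sq_ne hu huA⟩
    obtain ⟨w, hw, e⟩ := h.surj u hu huA a ha
    refine ⟨w, hw, fun e2 => ha1 ?_⟩
    rw [← e, e2]; group
  have hwA : w ∉ A := fun hc => huw (h.cen w hc u hu).symm
  obtain ⟨v, hv, hwv, hvA, hwvA⟩ := hS.exists_comm hw hwA
  have hk : ∀ {a b : G}, k a b ≠ 1 ↔ a * b ≠ b * a := fun {a b} => not_congr k_eq_one_iff
  have kuw : k u w ≠ 1 := hk.2 huw
  have kwv : k w v = 1 := k_eq_one_iff.2 hwv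
  have kwu : k w u ≠ 1 := by rw [hS.k_symm hu hw]; exact kuw
  have huv : u * v ≠ v * u := fun e => huw (hS.trans hu hv hvA hw e hwv.symm)
  have kuv : k u v ≠ 1 := hk.2 huv
  have kuwv : k u w * k u v ≠ 1 := by
    rw [← hS.k_mul_right hu hw hv, hk]
    intro e
    refine huw (hS.trans hu (mul_mem hw hv) hwvA hw e ?_)
    rw [mul_assoc, ← hwv]
  -- the elements
  have n01 : u * w ≠ w * u := huw
  have n02 : u * (u * w) ≠ u * w * u := by
    rw [← hk, hS.k_mul_right hu hu hw, Syl.k_self, one_mul]; exact kuw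
  have n03 : u * (u * v) ≠ u * v * u := by
    rw [← hk, hS.k_mul_right hu hu hv, Syl.k_self, one_mul]; exact kuv
  have n12 : w * (u * w) ≠ u * w * w := by
    rw [← hk, hS.k_mul_right hw hu hw, Syl.k_self, mul_one]; exact kwu
  have n13 : w * (u * v) ≠ u * v * w := by
    rw [← hk, hS.k_mul_right hw hu hv, kwv, mul_one]; exact kwu
  have n23 : u * w * (u * v) ≠ u * v * (u * w) := by
    rw [← hk, hS.k_mul_left hu hw (mul_mem hu hv), hS.k_mul_right hu hu hv, Syl.k_self, one_mul,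
      hS.k_mul_right hw hu hv, kwv, mul_one, hS.k_symm hu hw]
    intro e
    apply kuwv
    rw [hS.cenA (hS.k_mem hu hw) (hS.k_mem hu hv)]
    exact e
  refine ⟨![u, w, u * w, u * v], ?_, ?_, ?_⟩
  · intro i
    fin_cases i
    · exact hu
    · exact hw
    · exact mul_mem hu hw
    · exact mul_mem hu hv
  · intro i
    fin_cases i
    · exact huA
    · exact hwA
    · exact fun hc => n02 (h.cen _ hc u hu).symm
    · exact fun hc => n03 (h.cen _ hc u hu).symm
  · intro i j hij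
    fin_cases i <;> fin_cases j
    · exact absurd rfl hij
    · exact n01
    · exact n02
    · exact n03
    · exact n01.symm
    · exact absurd rfl hij
    · exact n12
    · exact n13
    · exact n02.symm
    · exact n12.symm
    · exact absurd rfl hij
    · exact n23
    · exact n03.symm
    · exact n13.symm
    · exact n23.symm
    · exact absurd rfl hij

end Cfsg.Agent.TwoFusion.U34OneIdx
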