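import Mathlib
import Cfsg.Agent.TwoFusion.U34One
import Cfsg.Agent.TwoFusion.U34OneIdx
import Cfsg.Agent.TwoFusion.U34CK
import Cfsg.Agent.Characters.GaloisBasic

/-!
# The case `C(A) = O(C(A)) S` of the `U₃(4)` situation, end

`false_of_index_one`: if `G` is simple, `C(A) = O(C(A)) S` and `K = O(C(a)) ≠ 1` for some `a ∈ A#` with
`C_K(s) ≤ O(C(s))` for `s ∈ S#`, then we get a contradiction.
-/

set_option autoImplicit false

namespace Cfsg.Agent.TwoFusion.U34OneEnd

open Cfsg Cfsg.Agent.Characters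
open Cfsg.Agent.TwoFusion.U34Loc Cfsg.Agent.TwoFusion.U34OneLoc Cfsg.Agent.TwoFusion.U34OneIdx
open Cfsg.Agent.Classification.TypeB.Core (oc oc_def oc_le odd_oc le_normalizer_oc le_oc)

universe u

variable {G : Type u} [Group G]

/-- Rational classes have integral values. -/
theorem int_of_conj [Finite G] {χ : G → ℂ} (hχ : IsCharacter G χ) (g : G)
    (h : ∀ m : ℕ, m.Coprime (orderOf g) → IsConj g (g ^ m)) : ∃ k : ℤ, χ g = k := by
  apply Cfsg.Agent.Characters.GaloisBasic.exists_int_of_rat hχ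
  rw [Cfsg.Agent.Characters.GaloisBasic.exists_rat_iff hχ]
  intro m hm
  have h1 := h m (Nat.Coprime.coprime_dvd_right (orderOf_dvd_natCard g) hm)
  rw [isConj_iff] at h1
  obtain ⟨c, hc⟩ := h1
  rw [← hc]
  exact Characters.Core.isCharacter_isClassFunction hχ g c

theorem class_eq {χ : G → ℂ} (hχ : IsCharacter G χ) {g g' : G} (h : IsConj g g') : χ g = χ g' := by
  rw [isConj_iff] at h
  obtain ⟨c, rfl⟩ := h
  exact (Characters.Core.isCharacter_isClassFunction hχ g c).symm

/-- If `S` normalises `K ≠ 1` of odd order and `C_K(s) ≤ O(C(s))` for `s ∈ S#`, then the degrees of the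
nonprincipal characters in the principal 2-block of the simple group `G` are at least `|S|`. -/
theorem le_degree [Finite G] [IsSimpleGroup G] {M : Ideal AlgInt} (hM : IsPModular 2 M) {S K : Subgroup G} {m : ℕ}
    (hS : Nat.card S = 2 ^ m) (hK : Odd (Nat.card K)) (hK1 : K ≠ ⊥)
    (hSK : ∀ s ∈ S, ∀ k ∈ K, s * k * s⁻¹ ∈ K)
    (hbal : ∀ s ∈ S, s ≠ 1 → ∀ k ∈ K, s * k = k * s → k ∈ centralizerPPrimeCore 2 s)
    {χ : IrrCharacter G} (hχ : χ ∈ principalBlock M G) (hχ1 : (χ : G → ℂ) ≠ 1) {n : ℤ}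
    (h1 : (χ : G → ℂ) 1 = n) : (2 : ℤ) ^ m ≤ n := by
  classical
  have : Fact (Nat.Prime 2) := ⟨Nat.prime_two⟩
  have := Fintype.ofFinite K
  have := Fintype.ofFinite S
  have hcop : (Nat.card K).Coprime 2 := hK.coprime_two_right
  have hpS : IsPGroup 2 S := IsPGroup.of_card hS
  have hdisj : Disjoint S K := by
    apply Subgroup.disjoint_of_coprime_natCard
    rw [hS]
    exact (Nat.Coprime.pow_right m hcop).symm
  have hchar := Core.isIrr_isCharacter χ.2
  obtain ⟨c, d, hc, -, -, hd⟩ := U34S.fixK hchar hSK hdisj (U34CK.val hM hpS hcop hSK hbal hχ)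
  obtain ⟨d', -, hd', -⟩ := U34S.exists_fix hchar
  have e1 := hd S le_rfl
  rw [hd' S, h1, hS] at e1
  have e2 : n - c = 2 ^ m * ((d' S : ℤ) - d S) := by
    have : ((n - c : ℤ) : ℂ) = ((2 ^ m * ((d' S : ℤ) - d S) : ℤ) : ℂ) := by
      push_cast at e1 ⊢
      linear_combination -e1
    exact_mod_cast this
  have hlt := U34CK.lt_degree hχ1 hK1 h1 hc
  have hpos : (0 : ℤ) < 2 ^ m := by positivity
  have h3 : 1 ≤ (d' S : ℤ) - d S := by
    by_contra hcon
    push Not at hcon
    have : (d' S : ℤ) - d S ≤ 0 := by omega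
    nlinarith
  nlinarith [Int.natCast_nonneg c]

variable {S A : Subgroup G} {g0 : G}

/-- **The case of index one.** -/
theorem false_of_index_one [Finite G] [IsSimpleGroup G] (h : Loc S A g0)
    (h1 : (oc (Subgroup.centralizer (A : Set G)) ⊔ S).relIndex (Subgroup.centralizer (A : Set G)) = 1)
    {a : G} (ha : a ∈ A) (ha1 : a ≠ 1) (hK1 : oc (Subgroup.centralizer ({a} : Set G)) ≠ ⊥)
    (hbal : ∀ s ∈ S, s ≠ 1 → ∀ k ∈ oc (Subgroup.centralizer ({a} : Set G)), s * k = k * s →
      k ∈ centralizerPPrimeCore 2 s) : False := by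
  classical
  have : Fact (Nat.Prime 2) := ⟨Nat.prime_two⟩
  have hS := syl h
  obtain ⟨M, hM⟩ := Blocks.ExistsModular.exists_isPModular Nat.prime_two
  obtain ⟨x, hxS, hxA, hxn⟩ := exists_four h
  have haa : orderOf a = 2 := orderOf_eq_prime (by rw [pow_two]; exact h.sq a ha) ha1
  refine U34One.false_of_data hM x a haa ?_ (fun i => index_cent h h1 (hxS i) (hxA i))
    (index_centA h h1 ha ha1).le ?_ ?_ ?_
  · intro i
    obtain ⟨k, hk⟩ := (IsPGroup.iff_orderOf.1 (pgroupS h)) ⟨x i, hxS i⟩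
    exact ⟨k, by rw [← hk, ← Subgroup.orderOf_coe]⟩
  · intro i k hik hc
    exact hxn i k hik (comm_of_conj h h1 (hxS i) (hxA i) (hxS k) (hxA k) hc)
  · intro i u w z hu hw hz
    exact hprod h h1 haa (hxS i) (hxA i) u w z hu hw hz
  · intro χ hχ hχ1
    have hchar := Core.isIrr_isCharacter χ.2
    obtain ⟨n, -, hn⟩ := Core.isIrr_apply_one χ.2
    have hy : ∃ y : ℤ, (χ : G → ℂ) a = y := by
      refine int_of_conj hchar a fun m hm => ?_
      rw [haa, Nat.coprime_two_right] at hm
      obtain ⟨j, rfl⟩ := hm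
      rw [pow_succ, pow_mul, ← haa, pow_orderOf_eq_one, one_pow, one_mul]
    obtain ⟨y, hy⟩ := hy
    have hv : ∀ i, ∃ v : ℤ, (χ : G → ℂ) (x i) = v := by
      intro i
      refine int_of_conj hchar (x i) fun m hm => ?_
      have hodd : Odd m := by
        rw [← Nat.coprime_two_right]
        refine Nat.Coprime.coprime_dvd_right ?_ hm
        obtain ⟨k, hk⟩ := (IsPGroup.iff_orderOf.1 (pgroupS h)) ⟨x i, hxS i⟩
        rw [Subgroup.orderOf_mk] at hk
        rw [hk]
        refine dvd_pow_self 2 ?_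
        rintro rfl
        rw [pow_zero, orderOf_eq_one_iff] at hk
        exact hxA i (hk ▸ one_mem A)
      obtain ⟨j, rfl⟩ := hodd
      have e : x i ^ (2 * j + 1) = x i * (x i * x i) ^ j := by
        rw [pow_succ', pow_mul, pow_two]
      rw [e]
      exact conj_mul h (hxS i) (hxA i) (pow_mem (hS.sq_mem (hxS i)) j)
    choose v hv using hv
    have hn' : (χ : G → ℂ) 1 = ((n : ℤ) : ℂ) := by rw [hn]; push_cast; rfl
    refine ⟨v, y, n, hn', hy, hv, ?_, ?_⟩
    · -- the congruences
      obtain ⟨d, -, hd, -⟩ := U34S.exists_fix hchar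
      have hD : ∀ b ∈ A, b ≠ 1 → (χ : G → ℂ) b = (y : ℂ) := by
        intro b hb hb1
        rw [← hy]
        rcases cases_A h ha ha1 hb hb1 with e | e | e
        · rw [e]
        · exact (class_eq hchar (isConj_iff.2 ⟨g0, e.symm⟩)).symm
        · refine (class_eq hchar (isConj_iff.2 ⟨g0 * g0, ?_⟩)).symm
          rw [e]; group
      have key : ∀ i, (n : ℤ) + 3 * y + 12 * v i =
          16 * d (S ⊓ Subgroup.centralizer ({x i} : Set G)) := by
        intro i
        set L := S ⊓ Subgroup.centralizer ({x i} : Set G) with hL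
        have := Fintype.ofFinite L
        have hAL : A ≤ L := by
          intro b hb
          refine Subgroup.mem_inf.2 ⟨h.AS hb, ?_⟩
          rw [Subgroup.mem_centralizer_singleton_iff]
          exact h.cen b hb _ (hxS i)
        have e1 := U34S.sum_eq_aux (L := L) (A := A) (χ : G → ℂ) hAL hn' hD (f := ((v i : ℤ) : ℂ)) (by
          intro s hs hsA
          obtain ⟨hs1, hs2⟩ := Subgroup.mem_inf.1 hs
          rw [Subgroup.mem_centralizer_singleton_iff] at hs2
          rw [← hv i]
          exact (class_eq hchar (conj_of_comm h h1 (hxS i) (hxA i) hs1 hsA hs2.symm)).symm)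
        rw [hd L, hS.card_cent (hxS i) (hxA i), h.cardA] at e1
        have e2 : (((n : ℤ) + 3 * y + 12 * v i : ℤ) : ℂ) = ((16 * d L : ℤ) : ℂ) := by
          push_cast at e1 ⊢
          linear_combination -e1
        exact_mod_cast e2
      intro i k
      have e1 := key i
      have e2 := key k
      omega
    · have := le_degree hM (m := 6) (by rw [h.cardS]; norm_num) (odd_oc _) hK1 (by
        intro s hs k hk
        exact (Subgroup.mem_normalizer_iff.1 (le_normalizer_oc _ (S_le_centb h ha hs)) k).1 hk)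
        hbal hχ hχ1 hn'
      norm_num at this
      exact_mod_cast this

end Cfsg.Agent.TwoFusion.U34OneEnd
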