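import Mathlib
import Cfsg.Agent.TwoFusion.U34Bal
import Cfsg.Agent.TwoFusion.U34Hyp
import Cfsg.Agent.TwoFusion.U34G
import Cfsg.Agent.TwoFusion.U34Gal
import Cfsg.Agent.TwoFusion.U34OneEnd
import Cfsg.Agent.TwoFusion.U34Comb

/-!
# Case [M1] of Goldschmidt's theorem: the cores are trivial

`exists_conf`: in the small local frame with `|C(A) : O(C(A)) S| = 5`, `O(C(a)) ≠ 1` leads to a configuration of the
numerical theorem.  `oc_eq_bot`: `O(C(a)) = 1` for all `a ∈ A#`.
-/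

set_option autoImplicit false

namespace Cfsg.Agent.TwoFusion.GoldM1Core

open Cfsg Cfsg.Agent.Characters
open Cfsg.Agent.TwoFusion.U34Loc
open Cfsg.Agent.Classification.RTwo.General (Hyp)
open Cfsg.Agent.Classification.TypeB.Core (oc oc_def oc_le odd_oc le_normalizer_oc le_oc)
open Cfsg.Agent.TwoFusion.U34G

universe u

variable {G : Type u} [Group G] {S A : Subgroup G} {g0 : G}

/-- **The case of index five.** -/
theorem exists_conf [Finite G] [IsSimpleGroup G] (h : Loc S A g0)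
    (h5 : (oc (Subgroup.centralizer (A : Set G)) ⊔ S).relIndex (Subgroup.centralizer (A : Set G)) = 5)
    {a : G} (ha : a ∈ A) (ha1 : a ≠ 1) (hK : oc (Subgroup.centralizer ({a} : Set G)) ≠ ⊥) :
    ∃ J E, U34.Conf J E := by
  classical
  have : Fact (Nat.Prime 2) := ⟨Nat.prime_two⟩
  have := Fintype.ofFinite G
  obtain ⟨M, hM⟩ := Blocks.ExistsModular.exists_isPModular Nat.prime_two
  obtain ⟨Q, iQ, π, S', A', z, lam, hfin, hyp, hq, hlam, -, -, hS⟩ := U34Hyp.exists_qhyp h ha ha1 h5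
  have := Fintype.ofFinite Q
  have hfinI : Finite (Iota M G) := U34Gal.finite_idx M
  have := Fintype.ofFinite (Iota M G)
  obtain ⟨m, hm, hm5, hm4⟩ := U34Gal.exists_m (n := Nat.card G) Nat.card_pos.ne'
  have hm2 : m % 2 = 1 := by omega
  have hcT : ∀ (χ : IrrCharacter G) (i : ZMod 5), classInner (TT π lam z i) (χ : G → ℂ) =
      (cT π lam z (χ : G → ℂ) i : ℂ) := fun χ i => cT_spec hq hlam χ.2 i
  have hcU : ∀ (χ : IrrCharacter G), classInner (UU π S' z) (χ : G → ℂ) =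
      (cU π S' z (χ : G → ℂ) : ℂ) := fun χ => cU_spec hq χ.2
  have hdg : ∀ χ : IrrCharacter G, (χ : G → ℂ) 1 = (dg (χ : G → ℂ) : ℂ) := fun χ => dg_spec χ.2
  have hS2 := U34Bal.syl h
  have haS : ∀ s ∈ S, s ∈ Subgroup.centralizer ({a} : Set G) := U34Bal.S_le h ha
  have hclass : ∀ (χ : IrrCharacter G) {g g' : G}, IsConj g g' → (χ : G → ℂ) g = (χ : G → ℂ) g' :=
    fun χ g g' hc => U34OneEnd.class_eq (Core.isIrr_isCharacter χ.2) hc
  have hb : ∀ j : Iota M G, (64 : ℤ) ∣ xR M G j - (12 * U34.ss (cR M π lam z) j + 11 * uR M π S' z j) ∧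
      64 ≤ xR M G j ∧ 64 + (12 * U34.ss (cR M π lam z) j + 11 * uR M π S' z j) ≤ xR M G j ∧
      64 + (12 * U34.ss (cR M π lam z) j + 75 * uR M π S' z j) ≤ xR M G j ∧
      64 + (-5 * uR M π S' z j - 4 * U34.ss (cR M π lam z) j) ≤ xR M G j := by
    intro j
    refine U34Bal.bounds h hM ha hK (χ := j.1) j.2.1 j.2.2 (hdg j.1) ?_ ?_
    · intro b hb hb1
      have hob : orderOf b = 2 := orderOf_eq_prime (by rw [pow_two]; exact h.sq b hb) hb1
      rw [← hclass j.1 (hyp.one_class b hob)]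
      exact val_t hM hyp hq hlam j.2.1
    · -- elements of order four
      have key : ∀ t ∈ S, t * t = a → (j.1 : G → ℂ) t = ((-uR M π S' z j : ℤ) : ℂ) := by
        intro t ht hta
        have h2 := val_sq hM hyp hq j.2.1 ⟨t, haS t ht⟩ (hS ⟨t, haS t ht⟩ ht).1 (by
          rw [← map_mul, ← hyp.map_t (haS a (h.AS ha))]
          congr 1
          exact Subtype.ext hta)
        exact h2
      intro t ht htA
      rcases U34OneLoc.cases_A h (hS2.sq_mem ht) (hS2.sq_ne ht htA) ha ha1 with e | e | e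
      · exact key t ht e.symm
      · rw [← key (g0 * t * g0⁻¹) (U34OneLoc.conjS h ht) (by rw [e]; group)]
        exact hclass j.1 (isConj_iff.2 ⟨g0, rfl⟩)
      · rw [← key (g0 * (g0 * t * g0⁻¹) * g0⁻¹) (U34OneLoc.conjS h (U34OneLoc.conjS h ht))
          (by rw [e]; group)]
        exact hclass j.1 (isConj_iff.2 ⟨g0 * g0, by group⟩)
  refine U34.exists_conf (rows hM hyp hq hlam (U34Gal.sigma M hm) ?_ ?_ ?_ (fun j => (hb j).1)
    (fun j => (hb j).2.1) (fun j => (hb j).2.2.1) (fun j => (hb j).2.2.2.1) (fun j => (hb j).2.2.2.2))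
  · intro j i
    exact U34Gal.int_sigma M hm (Subgroup.centralizer ({a} : Set G)) π
      (b := U34Q.theta lam z i) (b' := U34Q.theta lam z (2 * i))
      (fun q => (U34Q.theta_pow hq hlam hm5 hm2 i q).symm)
      (fun χ => hcT χ.1 i) (fun χ => hcT χ.1 (2 * i)) j
  · intro j
    exact U34Gal.int_sigma M hm (Subgroup.centralizer ({a} : Set G)) π
      (b := U34Q.Theta S' z) (b' := U34Q.Theta S' z)
      (fun q => (U34Q.Theta_pow hq hm5 hm2 q).symm)
      (fun χ => hcU χ.1) (fun χ => hcU χ.1) j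
  · intro j
    exact U34Gal.degree_sigma M hm (fun χ => hdg χ.1) j

/-- `O(C(a)) = 1` for `a ∈ A#`. -/
theorem oc_eq_bot [Finite G] [IsSimpleGroup G] (h : Loc S A g0) (hnum : ∀ J E, ¬ U34.Conf J E)
    {a : G} (ha : a ∈ A) (ha1 : a ≠ 1) : oc (Subgroup.centralizer ({a} : Set G)) = ⊥ := by
  by_contra hK
  rcases h.indexCA with h1 | h5
  · exact U34OneEnd.false_of_index_one h h1 ha ha1 hK (U34Bal.hbal h ha)
  · obtain ⟨J, E, hJE⟩ := exists_conf h h5 ha ha1 hK
    exact hnum J E hJE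

end Cfsg.Agent.TwoFusion.GoldM1Core
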