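import Mathlib
import Cfsg.Agent.TwoFusion.GoldM1Base
import Cfsg.Agent.TwoFusion.GoldM1CA
import Cfsg.Agent.TwoFusion.U34Loc

/-!
# Case [M1] of Goldschmidt's theorem: the small local frame holds in the minimal counterexample
-/

set_option autoImplicit false

namespace Cfsg.Agent.TwoFusion.GoldM1Link

open Subgroup
open Cfsg.Agent.TwoFusion.ClosedFam Cfsg.Agent.TwoFusion.Gold Cfsg.Agent.TwoFusion.GoldSetup
open Cfsg.Agent.TwoFusion.GoldM1Base

universe u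

/-- The small local frame `U34Loc.Loc` (and the elementary fields of `GoldM1.Frame`) in the minimal counterexample
with a four-group `A = Ω₁(S)` and non-commutative `S`. -/
theorem exists_loc {G : Type u} [Group G] [Finite G] {𝒜 : Set G} (h : Setup 𝒜) (S : Sylow 2 G)
    (h4 : Nat.card (fam 𝒜 (S : Subgroup G)) = 4)
    (hinv : ∀ s ∈ (S : Subgroup G), s * s = 1 → s ∈ fam 𝒜 (S : Subgroup G))
    (hnc : ∃ x ∈ (S : Subgroup G), ∃ y ∈ (S : Subgroup G), x * y ≠ y * x) :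
    ∃ g0 : G, Pre (S : Subgroup G) (fam 𝒜 (S : Subgroup G)) g0 ∧
      U34Loc.Loc (S : Subgroup G) (fam 𝒜 (S : Subgroup G)) g0 := by
  obtain ⟨g0, hp⟩ := exists_pre h S h4 hinv hnc
  have hne : centralizer (fam 𝒜 (S : Subgroup G) : Set G) ≠ ⊤ := fun e =>
    h.normalizer_ne_top S (top_unique (e ▸ centralizer_le_normalizer _))
  obtain ⟨h1, h2⟩ := GoldM1CA.norm_and_index (S := (S : Subgroup G)) (A := fam 𝒜 (S : Subgroup G))
    ⟨hp.AS, hp.cardS, hp.cardA, hp.cen, hp.sq, hp.inv, hp.comm, hp.surj⟩ hp.sylow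
    (h.ctxAll _ hne).T
  exact ⟨g0, hp, ⟨hp.cardS, hp.sylow, hp.AS, hp.cardA, hp.cen, hp.sq, hp.inv, hp.comm, hp.surj, hp.g0S, hp.g0A,
    hp.g0_fpf, hp.fact, h1, h2⟩⟩

end Cfsg.Agent.TwoFusion.GoldM1Link
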