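import Mathlib
import Cfsg.Agent.TwoFusion.GoldM1Core
import Cfsg.Agent.TwoFusion.GoldM1Link
import Cfsg.Agent.TwoFusion.GoldSolid

/-!
# Case [M1] of Goldschmidt's theorem: end (modulo the numerical theorem)
-/

set_option autoImplicit false

namespace Cfsg.Agent.TwoFusion.GoldM1End

open Subgroup
open Cfsg.Agent.TwoFusion.ClosedFam Cfsg.Agent.TwoFusion.Gold Cfsg.Agent.TwoFusion.GoldSetup
open Cfsg.Agent.Classification.TypeB.Core (oc)

universe u

/-- **Case [M1].** `|A| = 4`, `Ω₁(S) = A`, `S` not commutative: contradiction. -/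
theorem false_of_num (hnum : ∀ J E, ¬ U34.Conf J E) {G : Type u} [Group G] [Finite G] {𝒜 : Set G}
    (h : Setup 𝒜) (S : Sylow 2 G) (h4 : Nat.card (fam 𝒜 (S : Subgroup G)) = 4)
    (hO : ∀ x ∈ (S : Subgroup G), x * x = 1 → x ∈ fam 𝒜 (S : Subgroup G))
    (hnab : ∃ x ∈ (S : Subgroup G), ∃ y ∈ (S : Subgroup G), x * y ≠ y * x)
    (h1174 : SE1174 G) : False := by
  haveI := h.simple
  obtain ⟨g0, -, hloc⟩ := GoldM1Link.exists_loc h S h4 hO hnab
  refine GoldFour.false_of_core_le h S h4 h1174 (GoldSolid.solid h S h4) ?_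
  intro w hw hw1
  have h1 : core (centralizer ({w} : Set G)) = ⊥ := by
    have h2 := GoldM1Core.oc_eq_bot hloc hnum hw hw1
    rwa [U34Bal.oc_eq] at h2
  rw [h1]
  exact bot_le

end Cfsg.Agent.TwoFusion.GoldM1End
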