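import Mathlib

/-!
# A verified search for positive integral solutions of linear and reciprocal equations

Unknowns `x₀, x₁, …` with `x_i ≥ m_i > 0`, `x_i ≡ m_i` modulo 64, satisfying equations
`c + ∑ a_i x_i = 0`, `c + ∑ a_i / x_i = 0` and one inequality `c + ∑ a_i / x_i < 0`.

`run_sound`: if the search `run P n ms s` (guided by the digits of the number `s`) succeeds there is no
solution.
-/

set_option autoImplicit false

namespace Cfsg.Agent.TwoFusion.U34.Search

/-- The range of an unknown: `(m, true)` means `x = m`, `(m, false)` means `x ≥ m`, `x ≡ m`. -/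
def R (p : Int × Bool) (x : Int) : Prop :=
  0 < p.1 ∧ if p.2 then x = p.1 else p.1 ≤ x ∧ (64 : Int) ∣ x - p.1

/-- `∑ a_i x_i` -/
def val : List Int → List Int → Int
  | a :: as, x :: xs => a * x + val as xs
  | _, _ => 0

/-- `∑ a_i / x_i` -/
def rval : List Int → List Int → ℚ
  | a :: as, x :: xs => (a : ℚ) / (x : ℚ) + rval as xs
  | _, _ => 0

/-- `∑ a_i m_i` -/
def linS : List Int → List (Int × Bool) → Int
  | a :: as, (m, _) :: ms => a * m + linS as ms
  | _, _ => 0

/-- Is there an unknown with positive coefficient? -/
def hasPos : List Int → List (Int × Bool) → Bool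
  | a :: as, (_, k) :: ms => (!k && (0 < a : Bool)) || hasPos as ms
  | _, _ => false

/-- Is there an unknown with negative coefficient? -/
def hasNeg : List Int → List (Int × Bool) → Bool
  | a :: as, (_, k) :: ms => (!k && (a < 0 : Bool)) || hasNeg as ms
  | _, _ => false

/-- Upper bound for `∑ a_i / x_i`, added to the fraction `f`. -/
def ubF : List Int → List (Int × Bool) → Int → Int → Int × Int
  | a :: as, (m, k) :: ms, p, q =>
    if k || (0 < a : Bool) then ubF as ms (p * m + a * q) (q * m) else ubF as ms p q
  | _, _, p, q => (p, q)

/-- Lower bound for `∑ a_i / x_i`, added to the fraction `f`. -/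
def lbF : List Int → List (Int × Bool) → Int → Int → Int × Int
  | a :: as, (m, k) :: ms, p, q =>
    if k || (a < 0 : Bool) then lbF as ms (p * m + a * q) (q * m) else lbF as ms p q
  | _, _, p, q => (p, q)

/-- An equation. -/
structure Eqn where
  c : Int
  a : List Int

/-- A problem. -/
structure Prob where
  lin : List Eqn
  rat : List Eqn
  neg : List Eqn

/-- `xs` solves the problem. -/
structure Sol (P : Prob) (xs : List Int) : Prop where
  lin : ∀ e ∈ P.lin, e.c + val e.a xs = 0
  rat : ∀ e ∈ P.rat, (e.c : ℚ) + rval e.a xs = 0
  neg : ∀ e ∈ P.neg, (e.c : ℚ) + rval e.a xs < 0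

theorem R_le {p : Int × Bool} {x : Int} (h : R p x) : p.1 ≤ x := by
  obtain ⟨h0, h⟩ := h
  split_ifs at h
  · exact h.ge
  · exact h.1

theorem R_pos {p : Int × Bool} {x : Int} (h : R p x) : 0 < x := lt_of_lt_of_le h.1 (R_le h)

theorem val_le (as : List Int) : ∀ (ms : List (Int × Bool)) (xs : List Int),
    List.Forall₂ R ms xs → hasPos as ms = false → val as xs ≤ linS as ms := by
  induction as with
  | nil => intro ms xs _ _; simp [val, linS]
  | cons a as ih =>
    intro ms xs h hp
    cases h with
    | nil => simp [val, linS]
    | @cons p x ms xs h1 h2 =>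
      obtain ⟨m, k⟩ := p
      simp only [hasPos, Bool.or_eq_false_iff] at hp
      have h3 := ih ms xs h2 hp.2
      simp only [val, linS]
      have h4 : a * x ≤ a * m := by
        rcases k with _ | _
        · have ha : ¬ 0 < a := by simpa using hp.1
          have := R_le h1
          simp only at this
          nlinarith
        · have : x = m := by simpa [R] using h1.2
          rw [this]
      linarith

theorem le_val (as : List Int) : ∀ (ms : List (Int × Bool)) (xs : List Int),
    List.Forall₂ R ms xs → hasNeg as ms = false → linS as ms ≤ val as xs := by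
  induction as with
  | nil => intro ms xs _ _; simp [val, linS]
  | cons a as ih =>
    intro ms xs h hp
    cases h with
    | nil => simp [val, linS]
    | @cons p x ms xs h1 h2 =>
      obtain ⟨m, k⟩ := p
      simp only [hasNeg, Bool.or_eq_false_iff] at hp
      have h3 := ih ms xs h2 hp.2
      simp only [val, linS]
      have h4 : a * m ≤ a * x := by
        rcases k with _ | _
        · have ha : ¬ a < 0 := by simpa using hp.1
          have := R_le h1
          simp only at this
          nlinarith
        · have : x = m := by simpa [R] using h1.2
          rw [this]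
      linarith

theorem ubF_sound (as : List Int) : ∀ (ms : List (Int × Bool)) (xs : List Int) (p q : Int),
    List.Forall₂ R ms xs → 0 < q → 0 < (ubF as ms p q).2 ∧
      (p : ℚ) / q + rval as xs ≤ ((ubF as ms p q).1 : ℚ) / (ubF as ms p q).2 := by
  induction as with
  | nil => intro ms xs p q _ hq; simp [rval, ubF, hq]
  | cons a as ih =>
    intro ms xs p q h hq
    cases h with
    | nil => simp [rval, ubF, hq]
    | @cons r x ms xs h1 h2 =>
      obtain ⟨m, k⟩ := r
      have hm : 0 < m := h1.1
      have hx : 0 < x := R_pos h1
      have hmx : m ≤ x := R_le h1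
      have hq' : (0 : ℚ) < q := by exact_mod_cast hq
      have hm' : (0 : ℚ) < m := by exact_mod_cast hm
      have hx' : (0 : ℚ) < x := by exact_mod_cast hx
      simp only [ubF, rval]
      split_ifs with hk
      · obtain ⟨h3, h4⟩ := ih ms xs (p * m + a * q) (q * m) h2 (mul_pos hq hm)
        refine ⟨h3, le_trans ?_ h4⟩
        push_cast
        have h5 : ((p : ℚ) * m + a * q) / (q * m) = p / q + a / m := by
          field_simp
        rw [h5]
        have h6 : (a : ℚ) / x ≤ a / m := by
          rcases k with _ | _
          · have ha : 0 < a := by simpa using hk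
            have ha' : (0 : ℚ) < a := by exact_mod_cast ha
            have : (m : ℚ) ≤ x := by exact_mod_cast hmx
            exact div_le_div_of_nonneg_left ha'.le hm' this
          · have : x = m := by simpa [R] using h1.2
            rw [this]
        linarith
      · obtain ⟨h3, h4⟩ := ih ms xs p q h2 hq
        refine ⟨h3, le_trans ?_ h4⟩
        have ha : a ≤ 0 := by
          simp only [Bool.or_eq_true, not_or, decide_eq_true_eq, not_lt] at hk
          exact hk.2
        have ha' : (a : ℚ) ≤ 0 := by exact_mod_cast ha
        have : (a : ℚ) / x ≤ 0 := div_nonpos_of_nonpos_of_nonneg ha' hx'.le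
        linarith

theorem lbF_sound (as : List Int) : ∀ (ms : List (Int × Bool)) (xs : List Int) (p q : Int),
    List.Forall₂ R ms xs → 0 < q → 0 < (lbF as ms p q).2 ∧
      ((lbF as ms p q).1 : ℚ) / (lbF as ms p q).2 ≤ (p : ℚ) / q + rval as xs := by
  induction as with
  | nil => intro ms xs p q _ hq; simp [rval, lbF, hq]
  | cons a as ih =>
    intro ms xs p q h hq
    cases h with
    | nil => simp [rval, lbF, hq]
    | @cons r x ms xs h1 h2 =>
      obtain ⟨m, k⟩ := r
      have hm : 0 < m := h1.1
      have hx : 0 < x := R_pos h1
      have hmx : m ≤ x := R_le h1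
      have hq' : (0 : ℚ) < q := by exact_mod_cast hq
      have hm' : (0 : ℚ) < m := by exact_mod_cast hm
      have hx' : (0 : ℚ) < x := by exact_mod_cast hx
      simp only [lbF, rval]
      split_ifs with hk
      · obtain ⟨h3, h4⟩ := ih ms xs (p * m + a * q) (q * m) h2 (mul_pos hq hm)
        refine ⟨h3, le_trans h4 ?_⟩
        push_cast
        have h5 : ((p : ℚ) * m + a * q) / (q * m) = p / q + a / m := by
          field_simp
        rw [h5]
        have h6 : (a : ℚ) / m ≤ a / x := by
          rcases k with _ | _
          · have ha : a < 0 := by simpa using hk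
            have ha' : (a : ℚ) < 0 := by exact_mod_cast ha
            have : (m : ℚ) ≤ x := by exact_mod_cast hmx
            have h7 : (-(a : ℚ)) / x ≤ (-a) / m := div_le_div_of_nonneg_left (by linarith) hm' this
            rw [neg_div, neg_div] at h7
            linarith
          · have : x = m := by simpa [R] using h1.2
            rw [this]
        linarith
      · obtain ⟨h3, h4⟩ := ih ms xs p q h2 hq
        refine ⟨h3, le_trans h4 ?_⟩
        have ha : 0 ≤ a := by
          simp only [Bool.or_eq_true, not_or, decide_eq_true_eq, not_lt] at hk
          exact hk.2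
        have ha' : (0 : ℚ) ≤ a := by exact_mod_cast ha
        have : 0 ≤ (a : ℚ) / x := div_nonneg ha' hx'.le
        linarith

/-- Pruning test for a linear equation. -/
def linPrune (ms : List (Int × Bool)) (e : Eqn) : Bool :=
  let s := e.c + linS e.a ms
  (!(hasPos e.a ms) && (s < 0 : Bool)) || (!(hasNeg e.a ms) && (0 < s : Bool))

/-- Pruning test for a reciprocal equation. -/
def ratPrune (ms : List (Int × Bool)) (e : Eqn) : Bool :=
  ((ubF e.a ms e.c 1).1 < 0 : Bool) || (0 < (lbF e.a ms e.c 1).1 : Bool)

/-- Pruning test for the inequality. -/
def negPrune (ms : List (Int × Bool)) (e : Eqn) : Bool :=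
  (0 ≤ (lbF e.a ms e.c 1).1 : Bool)

theorem linPrune_sound {ms : List (Int × Bool)} {xs : List Int} (h : List.Forall₂ R ms xs) {e : Eqn}
    (he : e.c + val e.a xs = 0) : linPrune ms e = false := by
  by_contra hc
  rw [Bool.not_eq_false] at hc
  simp only [linPrune, Bool.or_eq_true, Bool.and_eq_true, Bool.not_eq_true', decide_eq_true_eq] at hc
  rcases hc with ⟨h1, h2⟩ | ⟨h1, h2⟩
  · have := val_le e.a ms xs h h1; linarith
  · have := le_val e.a ms xs h h1; linarith

theorem ratPrune_sound {ms : List (Int × Bool)} {xs : List Int} (h : List.Forall₂ R ms xs) {e : Eqn}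
    (he : (e.c : ℚ) + rval e.a xs = 0) : ratPrune ms e = false := by
  by_contra hc
  rw [Bool.not_eq_false] at hc
  simp only [ratPrune, Bool.or_eq_true, decide_eq_true_eq] at hc
  rcases hc with h1 | h1
  · obtain ⟨h2, h3⟩ := ubF_sound e.a ms xs e.c 1 h one_pos
    have h2' : (0 : ℚ) < (ubF e.a ms e.c 1).2 := by exact_mod_cast h2
    have h1' : ((ubF e.a ms e.c 1).1 : ℚ) < 0 := by exact_mod_cast h1
    have := div_neg_of_neg_of_pos h1' h2'
    simp only [Int.cast_one, div_one] at h3
    linarith
  · obtain ⟨h2, h3⟩ := lbF_sound e.a ms xs e.c 1 h one_pos
    have h2' : (0 : ℚ) < (lbF e.a ms e.c 1).2 := by exact_mod_cast h2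
    have h1' : (0 : ℚ) < ((lbF e.a ms e.c 1).1 : ℚ) := by exact_mod_cast h1
    have := div_pos h1' h2'
    simp only [Int.cast_one, div_one] at h3
    linarith

theorem negPrune_sound {ms : List (Int × Bool)} {xs : List Int} (h : List.Forall₂ R ms xs) {e : Eqn}
    (he : (e.c : ℚ) + rval e.a xs < 0) : negPrune ms e = false := by
  by_contra hc
  rw [Bool.not_eq_false] at hc
  simp only [negPrune, decide_eq_true_eq] at hc
  obtain ⟨h2, h3⟩ := lbF_sound e.a ms xs e.c 1 h one_pos
  have h2' : (0 : ℚ) < (lbF e.a ms e.c 1).2 := by exact_mod_cast h2
  have h1' : (0 : ℚ) ≤ ((lbF e.a ms e.c 1).1 : ℚ) := by exact_mod_cast hc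
  have := div_nonneg h1' h2'.le
  simp only [Int.cast_one, div_one] at h3
  linarith

/-- Replacing a range. -/
theorem forall₂_set (ms : List (Int × Bool)) : ∀ (xs : List Int) (j : ℕ) (p : Int × Bool),
    List.Forall₂ R ms xs → ms[j]? = some p →
      ∃ x, xs[j]? = some x ∧ R p x ∧ ∀ r, R r x → List.Forall₂ R (ms.set j r) xs := by
  induction ms with
  | nil => intro xs j p _ h; simp at h
  | cons m ms ih =>
    intro xs j p h hj
    cases h with
    | @cons _ x _ xs h1 h2 =>
      cases j with
      | zero =>
        simp only [List.getElem?_cons_zero, Option.some.injEq] at hj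
        subst hj
        exact ⟨x, rfl, h1, fun r hr => by simpa using List.Forall₂.cons hr h2⟩
      | succ j =>
        obtain ⟨y, hy, h3, h4⟩ := ih xs j p h2 (by simpa using hj)
        exact ⟨y, by simpa using hy, h3, fun r hr => by
          simpa using List.Forall₂.cons h1 (h4 r hr)⟩

/-- The index of the only unknown with a non-zero coefficient: `none` if there is none, `some none` if there
are two or more. -/
def uniq : List Int → List (Int × Bool) → ℕ → Option (Option ℕ)
  | a :: as, (_, k) :: ms, i =>
    if k || a == 0 then uniq as ms (i + 1)
    else match uniq as ms (i + 1) with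
      | none => some (some i)
      | some _ => some none
  | _, _, _ => none

theorem uniq_none (as : List Int) : ∀ (ms : List (Int × Bool)) (xs : List Int) (i : ℕ),
    List.Forall₂ R ms xs → uniq as ms i = none → val as xs = linS as ms := by
  induction as with
  | nil => intro ms xs i _ _; simp [val, linS]
  | cons a as ih =>
    intro ms xs i h hu
    cases h with
    | nil => simp [val, linS]
    | @cons p x ms xs h1 h2 =>
      obtain ⟨m, k⟩ := p
      simp only [uniq] at hu
      split_ifs at hu with hk
      · simp only [val, linS]
        rw [ih ms xs (i + 1) h2 hu]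
        simp only [Bool.or_eq_true, beq_iff_eq] at hk
        rcases hk with hk | hk
        · subst hk
          have : x = m := by simpa [R] using h1.2
          rw [this]
        · rw [hk]; ring
      · split at hu <;> simp at hu

theorem uniq_some (as : List Int) : ∀ (ms : List (Int × Bool)) (xs : List Int) (i j : ℕ),
    List.Forall₂ R ms xs → uniq as ms i = some (some j) →
      ∃ l, j = i + l ∧ ∃ a p x, as[l]? = some a ∧ ms[l]? = some p ∧ xs[l]? = some x ∧ a ≠ 0 ∧
        val as xs = linS as ms - a * p.1 + a * x := by
  induction as with
  | nil => intro ms xs i j _ h; simp [uniq] at h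
  | cons a as ih =>
    intro ms xs i j h hu
    cases h with
    | nil => simp [uniq] at hu
    | @cons p x ms xs h1 h2 =>
      obtain ⟨m, k⟩ := p
      simp only [uniq] at hu
      split_ifs at hu with hk
      · obtain ⟨l, hl, b, p, y, hb, hp, hy, hb0, hv⟩ := ih ms xs (i + 1) j h2 hu
        refine ⟨l + 1, by omega, b, p, y, by simpa using hb, by simpa using hp, by simpa using hy,
          hb0, ?_⟩
        simp only [val, linS]
        rw [hv]
        simp only [Bool.or_eq_true, beq_iff_eq] at hk
        rcases hk with hk | hk
        · subst hk
          have : x = m := by simpa [R] using h1.2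
          rw [this]; ring
        · rw [hk]; ring
      · split at hu
        · rename_i h3
          simp only [Option.some.injEq] at hu
          subst hu
          simp only [Bool.or_eq_true, beq_iff_eq, not_or] at hk
          refine ⟨0, rfl, a, (m, k), x, by simp, by simp, by simp, hk.2, ?_⟩
          simp only [val, linS]
          rw [uniq_none as ms xs _ h2 h3]
          ring
        · simp at hu

/-- The search, guided by the digits (in base 64) of the number `s`. -/
def run (P : Prob) : ℕ → List (Int × Bool) → ℕ → Option ℕ
  | 0, _, _ => none
  | n + 1, ms, s =>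
    let c := s % 64
    if Nat.blt c 8 then
      match P.lin[c]? with
      | some e => if linPrune ms e then some (s / 64) else none
      | none => none
    else if Nat.blt c 16 then
      match P.rat[c - 8]? with
      | some e => if ratPrune ms e then some (s / 64) else none
      | none => none
    else if Nat.blt c 24 then
      match P.neg[c - 16]? with
      | some e => if negPrune ms e then some (s / 64) else none
      | none => none
    else if Nat.blt c 32 then
      match P.lin[c - 24]? with
      | some e =>
        match uniq e.a ms 0 with
        | some (some j) =>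
          match e.a[j]?, ms[j]? with
          | some a, some (m, false) =>
            let t := e.c + linS e.a ms - a * m
            let v := -t / a
            if (-t) % a == 0 && (m ≤ v : Bool) && (v - m) % 64 == 0 then
              run P n (ms.set j (v, true)) (s / 64)
            else some (s / 64)
          | _, _ => none
        | _ => none
      | none => none
    else
      match ms[c - 32]? with
      | some (m, false) =>
        match run P n (ms.set (c - 32) (m, true)) (s / 64) with
        | some s' => run P n (ms.set (c - 32) (m + 64, false)) s'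
        | none => none
      | _ => none

/-- If there is a solution then the search fails. -/
theorem run_sound (P : Prob) {xs : List Int} (hs : Sol P xs) :
    ∀ (n : ℕ) (ms : List (Int × Bool)) (s : ℕ), List.Forall₂ R ms xs → run P n ms s = none := by
  intro n
  induction n with
  | zero => intro ms s _; rfl
  | succ n ih =>
    intro ms s h
    rw [run]
    simp only
    split_ifs with h1 h2 h3 h4
    · split
      · rename_i e he
        rw [linPrune_sound h (hs.lin e (List.mem_of_getElem? he)), if_neg (by simp)]
      · rfl
    · split
      · rename_i e he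
        rw [ratPrune_sound h (hs.rat e (List.mem_of_getElem? he)), if_neg (by simp)]
      · rfl
    · split
      · rename_i e he
        rw [negPrune_sound h (hs.neg e (List.mem_of_getElem? he)), if_neg (by simp)]
      · rfl
    · split
      · rename_i e he
        have he' := List.mem_of_getElem? he
        split
        · rename_i j hu
          obtain ⟨l, hl, a, p, x, ha, hp, hx, ha0, hv⟩ := uniq_some e.a ms xs 0 j h hu
          rw [zero_add] at hl
          subst hl
          rw [ha, hp]
          obtain ⟨m, k⟩ := p
          rcases k with _ | _
          swap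
          · rfl
          · obtain ⟨y, hy, hR, hset⟩ := forall₂_set ms xs j _ h hp
            rw [hx] at hy
            simp only [Option.some.injEq] at hy
            subst hy
            have h1 := hs.lin e he'
            have h2 : -(e.c + linS e.a ms - a * m) = a * x := by
              rw [hv] at h1
              simp only at h1
              linarith
            have h3 : -(e.c + linS e.a ms - a * m) / a = x := by
              rw [h2, Int.mul_ediv_cancel_left _ ha0]
            have hR' : m ≤ x ∧ (64 : Int) ∣ x - m := by simpa [R] using hR.2
            have h4 : (-(e.c + linS e.a ms - a * m)) % a = 0 := by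
              rw [h2]; exact Int.mul_emod_right a x
            simp only [h3, h4]
            rw [if_pos]
            · exact ih _ _ (hset _ ⟨lt_of_lt_of_le hR.1 hR'.1, by simp⟩)
            · simp [hR'.1, Int.emod_eq_zero_of_dvd hR'.2]
        · rfl
      · rfl
    · split
      · rename_i m hm
        obtain ⟨x, -, hR, hset⟩ := forall₂_set ms xs _ _ h hm
        have hR' : m ≤ x ∧ (64 : Int) ∣ x - m := by simpa [R] using hR.2
        have hm0 : 0 < m := hR.1
        rcases eq_or_lt_of_le hR'.1 with h1 | h1
        · rw [ih _ _ (hset _ ⟨hm0, by simp [h1]⟩)]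
        · split
          · refine ih _ _ (hset _ ⟨by linarith, ?_⟩)
            obtain ⟨t, ht⟩ := hR'.2
            have ht0 : 0 < t := by omega
            simp only [Bool.false_eq_true, if_false]
            exact ⟨by omega, ⟨t - 1, by linarith⟩⟩
          · rfl
      · rfl

end Cfsg.Agent.TwoFusion.U34.Search
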