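import Mathlib
import Cfsg.Agent.TwoFusion.U34Search

/-!
# Enumeration of the configurations of rows: the computation

`Ty`: the type `(k, c, S, u)` of an entry.  `goJ` runs through all the lists of types of configurations
`Conf J E` (`JAll` for `J`, `enumN` and `expand` for `E`) and runs the guided search on each of them.
-/

set_option autoImplicit false

namespace Cfsg.Agent.TwoFusion.U34.Enum

open Cfsg.Agent.TwoFusion.U34.Search

/-- The type of an entry. -/
structure Ty where
  k : Int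
  c : Int
  S : Int
  u : Int

namespace Ty

/-- The value at the involution `a`. -/
def d (t : Ty) : Int := -5 * t.u - 4 * (t.c + t.S)

/-- The residue of the degree modulo 64. -/
def r (t : Ty) : Int := 12 * (t.c + t.S) + 11 * t.u

/-- A lower bound for the degree. -/
def M (t : Ty) : Int :=
  64 + max (max 0 t.r) (max (12 * (t.c + t.S) + 75 * t.u) t.d)

/-- The least possible degree. -/
def m (t : Ty) : Int := t.M + (t.r - t.M) % 64

/-- Coefficients. -/
def a (t : Ty) : Int := t.k * t.c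
/-- Coefficients. -/
def b (t : Ty) : Int := t.k * t.S
/-- Coefficients. -/
def g (t : Ty) : Int := t.k * t.u
/-- Coefficients. -/
def r0 (t : Ty) : Int := t.k * t.c * t.d ^ 2
/-- Coefficients. -/
def r1 (t : Ty) : Int := t.k * (4 * t.c - t.S) * t.d ^ 2
/-- Coefficients. -/
def r2 (t : Ty) : Int := t.k * t.u * t.d ^ 2

end Ty

/-- The equations for the degrees. -/
def mkProb (l : List Ty) : Prob where
  lin := [⟨1, l.map Ty.a⟩, ⟨0, l.map Ty.b⟩, ⟨-1, l.map Ty.g⟩,
    ⟨-2, l.map fun t => -t.a + t.b + t.g⟩]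
  rat := [⟨4, l.map Ty.r1⟩, ⟨-1, l.map Ty.r2⟩, ⟨-6, l.map fun t => -t.r1 + 2 * t.r2⟩,
    ⟨-7, l.map fun t => -t.r1 + 3 * t.r2⟩]
  neg := [⟨1, l.map Ty.r0⟩, ⟨2, l.map fun t => t.r0 - t.r2⟩]

/-- The ranges at the beginning. -/
def mkMs (l : List Ty) : List (Int × Bool) := l.map fun t => (t.m, false)

/-- Multiplicity. -/
def kk (S : Int) : Int := if S % 2 = 1 then 4 else if S % 4 = 2 then 2 else 1

/-- The lists of types `(S, u)` (taken from `ts`, in this order) with given `∑ k S²`, `∑ k S u`, `∑ k u²`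
and bounded `∑ k |S|`. -/
def enumN : ℕ → List (Int × Int) → Int → Int → Int → Int → List (List (Int × Int))
  | 0, _, _, _, _, _ => []
  | _ + 1, [], ss, su, uu, _ => if ss == 0 && su == 0 && uu == 0 then [[]] else []
  | n + 1, (S, u) :: ts, ss, su, uu, ab =>
    if (ss * uu < su * su : Bool) then [] else
      (if (kk S * S ^ 2 ≤ ss : Bool) && (kk S * u ^ 2 ≤ uu : Bool) && (kk S * |S| ≤ ab : Bool) then
        (enumN n ((S, u) :: ts) (ss - kk S * S ^ 2) (su - kk S * (S * u)) (uu - kk S * u ^ 2)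
          (ab - kk S * |S|)).map ((S, u) :: ·) else []) ++
      enumN n ts ss su uu ab

/-- All sign choices, in each group of equal types first `+`, then `-`. -/
def expand : Option (Int × Int) → List (Int × Int) → List (List (Int × Int))
  | _, [] => [[]]
  | b, t :: ts =>
    (if b = some t then [] else (expand b ts).map (t :: ·)) ++
      (expand (some t) ts).map ((-t.1, -t.2) :: ·)

/-- The types up to sign. -/
def tys : List (Int × Int) :=
  [(4, -3), (4, -2), (4, -1), (4, 0), (4, 1), (4, 2), (4, 3), (2, -2), (2, -1), (2, 0), (2, 1), (2, 2),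
    (1, -1), (1, 0), (1, 1), (0, 1), (0, 2), (0, 3)]

/-- The search for one list of types. -/
def goE (J : List Ty) : List (List (Int × Int)) → ℕ → Option ℕ
  | [], s => some s
  | o :: os, s =>
    let l := J ++ o.map fun p => ⟨kk p.1, 0, p.1, p.2⟩
    match run (mkProb l) 400 (mkMs l) s with
    | some s' => goE J os s'
    | none => none

/-- All signs. -/
def goN (J : List Ty) : List (List (Int × Int)) → ℕ → Option ℕ
  | [], s => some s
  | N :: Ns, s =>
    match goE J (expand none N) s with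
    | some s' => goN J Ns s'
    | none => none

/-- `J` is impossible by the equations for the coefficients `c`. -/
def dead (J : List Ty) : Bool :=
  linPrune (mkMs J) ⟨1, J.map Ty.a⟩ || negPrune (mkMs J) ⟨1, J.map Ty.r0⟩

/-- Sums over the types. -/
def tot (f : Ty → Int) (l : List Ty) : Int := (l.map f).sum

/-- The possible `E` for a given `J`. -/
def outs (J : List Ty) : List (List (Int × Int)) :=
  enumN 60 tys (32 - tot (fun t => t.k * t.S ^ 2) J) (-16 - tot (fun t => t.k * (t.S * t.u)) J)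
    (15 - tot (fun t => t.k * t.u ^ 2) J) 16

/-- Everything. -/
def goJ : List (List Ty) → ℕ → Option ℕ
  | [], s => some s
  | J :: Js, s =>
    if dead J then goJ Js s
    else
      match goN J (outs J) s with
      | some s' => goJ Js s'
      | none => none

/-- Range of the `u`. -/
def rg : List Int := [-3, -2, -1, 0, 1, 2, 3]

/-- Signs. -/
def sg : List Int := [1, -1]

/-- Order on the pairs `(u, sign)`. -/
def le2 (w e w' e' : Int) : Bool := (w < w' : Bool) || (w == w' && (e' ≤ e : Bool))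

/-- The `J` with an entry `(1; 1, 1, 1, 1)`. -/
def JI : List (List Ty) :=
  rg.flatMap fun w₀ => rg.flatMap fun w₁ => rg.flatMap fun w₂ => rg.flatMap fun w₃ =>
    if w₀ + w₁ + w₂ + w₃ == -3 && (w₀ ^ 2 + w₁ ^ 2 + w₂ ^ 2 + w₃ ^ 2 ≤ 15 : Bool) then
      sg.flatMap fun e₀ => sg.flatMap fun e₁ => sg.flatMap fun e₂ => sg.flatMap fun e₃ =>
        if le2 w₁ e₁ w₂ e₂ && le2 w₂ e₂ w₃ e₃ then
          [[⟨1, e₀, 4 * e₀, e₀ * w₀⟩, ⟨1, e₁, 0, e₁ * w₁⟩, ⟨1, e₂, 0, e₂ * w₂⟩, ⟨1, e₃, 0, e₃ * w₃⟩]]
        else []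
    else []

/-- The `J` with an entry `(1; 1, 0, 0, 1)`. -/
def JII : List (List Ty) :=
  rg.flatMap fun w₀ => rg.flatMap fun w₁ => rg.flatMap fun w₂ =>
    if 2 * w₀ + w₁ + w₂ == -3 && (2 * w₀ ^ 2 + w₁ ^ 2 + w₂ ^ 2 ≤ 15 : Bool) then
      sg.flatMap fun e₀ => sg.flatMap fun e₁ => sg.flatMap fun e₂ =>
        if le2 w₁ e₁ w₂ e₂ then
          [[⟨2, e₀, 2 * e₀, e₀ * w₀⟩, ⟨1, e₁, 0, e₁ * w₁⟩, ⟨1, e₂, 0, e₂ * w₂⟩]]
        else []
    else []

end Cfsg.Agent.TwoFusion.U34.Enum
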