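import Mathlib
import Cfsg.Agent.TwoFusion.U34Enum

/-!
# Soundness of the enumeration
-/

set_option autoImplicit false

namespace Cfsg.Agent.TwoFusion.U34.Enum

open Cfsg.Agent.TwoFusion.U34.Search

/-! ## The runs -/

theorem goE_mem (J : List Ty) : ∀ (os : List (List (Int × Int))) (s : ℕ), (goE J os s).isSome = true →
    ∀ o ∈ os, ∃ s', (run (mkProb (J ++ o.map fun p => ⟨kk p.1, 0, p.1, p.2⟩)) 400
      (mkMs (J ++ o.map fun p => ⟨kk p.1, 0, p.1, p.2⟩)) s').isSome = true := by
  intro os
  induction os with
  | nil => intro s _ o ho; simp at ho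
  | cons o os ih =>
    intro s h o' ho'
    rw [goE] at h
    split at h
    · rename_i s' hs'
      rcases List.mem_cons.1 ho' with rfl | ho'
      · exact ⟨s, by rw [hs']; rfl⟩
      · exact ih s' h o' ho'
    · simp at h

theorem goN_mem (J : List Ty) : ∀ (Ns : List (List (Int × Int))) (s : ℕ), (goN J Ns s).isSome = true →
    ∀ N ∈ Ns, ∀ o ∈ expand none N, ∃ s', (run (mkProb (J ++ o.map fun p => ⟨kk p.1, 0, p.1, p.2⟩)) 400
      (mkMs (J ++ o.map fun p => ⟨kk p.1, 0, p.1, p.2⟩)) s').isSome = true := by
  intro Ns
  induction Ns with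
  | nil => intro s _ o ho; simp at ho
  | cons N Ns ih =>
    intro s h N' hN' o ho
    rw [goN] at h
    split at h
    · rename_i s' hs'
      rcases List.mem_cons.1 hN' with rfl | hN'
      · exact goE_mem J _ s (by rw [hs']; rfl) o ho
      · exact ih s' h N' hN' o ho
    · simp at h

theorem goJ_mem : ∀ (Js : List (List Ty)) (s : ℕ), (goJ Js s).isSome = true →
    ∀ J ∈ Js, dead J = true ∨ ∀ N ∈ outs J, ∀ o ∈ expand none N,
      ∃ s', (run (mkProb (J ++ o.map fun p => ⟨kk p.1, 0, p.1, p.2⟩)) 400
        (mkMs (J ++ o.map fun p => ⟨kk p.1, 0, p.1, p.2⟩)) s').isSome = true := by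
  intro Js
  induction Js with
  | nil => intro s _ o ho; simp at ho
  | cons J Js ih =>
    intro s h J' hJ'
    rw [goJ] at h
    split_ifs at h with hd
    · rcases List.mem_cons.1 hJ' with rfl | hJ'
      · exact Or.inl hd
      · exact ih s h J' hJ'
    · split at h
      · rename_i s' hs'
        rcases List.mem_cons.1 hJ' with rfl | hJ'
        · exact Or.inr fun N hN o ho => goN_mem _ _ s (by rw [hs']; rfl) N hN o ho
        · exact ih s' h J' hJ'
      · simp at h

/-! ## Signs -/

/-- The type of a signed type. -/
def sgn (p : (Int × Int) × Bool) : Int × Int := if p.2 then p.1 else (-p.1.1, -p.1.2)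

/-- `+` before `-` for equal types. -/
def Good : Option (Int × Int) → List ((Int × Int) × Bool) → Prop
  | _, [] => True
  | b, (t, true) :: l => b ≠ some t ∧ Good b l
  | _, (t, false) :: l => Good (some t) l

theorem expand_sound : ∀ (L : List ((Int × Int) × Bool)) (b : Option (Int × Int)), Good b L →
    L.map sgn ∈ expand b (L.map Prod.fst) := by
  intro L
  induction L with
  | nil => intro b _; simp [expand]
  | cons p L ih =>
    intro b h
    obtain ⟨t, s⟩ := p
    cases s with
    | true =>
      obtain ⟨h1, h2⟩ := h
      simp only [List.map_cons, expand]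
      rw [List.mem_append]
      left
      rw [if_neg h1]
      exact List.mem_map.2 ⟨_, ih b h2, rfl⟩
    | false =>
      simp only [List.map_cons, expand]
      rw [List.mem_append]
      right
      exact List.mem_map.2 ⟨_, ih (some t) h, rfl⟩

theorem good_replicate_false (t : Int × Int) : ∀ (n : ℕ) (b : Option (Int × Int))
    (l : List ((Int × Int) × Bool)), Good (some t) l → Good b l →
      Good b (List.replicate n (t, false) ++ l) := by
  intro n
  induction n with
  | zero => intro b l _ h; simpa using h
  | succ n ih =>
    intro b l h1 h2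
    rw [List.replicate_succ, List.cons_append]
    exact ih (some t) l h1 h1

theorem good_replicate_true (t : Int × Int) : ∀ (n : ℕ) (b : Option (Int × Int))
    (l : List ((Int × Int) × Bool)), b ≠ some t → Good b l →
      Good b (List.replicate n (t, true) ++ l) := by
  intro n
  induction n with
  | zero => intro b l _ h; simpa using h
  | succ n ih =>
    intro b l h1 h2
    rw [List.replicate_succ, List.cons_append]
    exact ⟨h1, ih b l h1 h2⟩

/-- The signed types in order. -/
def cls (ts : List (Int × Int)) : List ((Int × Int) × Bool) :=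
  ts.flatMap fun t => [(t, true), (t, false)]

theorem good_cls (n : (Int × Int) × Bool → ℕ) : ∀ (ts : List (Int × Int)), ts.Nodup →
    ∀ b : Option (Int × Int), (∀ t ∈ ts, b ≠ some t) →
      Good b ((cls ts).flatMap fun c => List.replicate (n c) c) := by
  intro ts
  induction ts with
  | nil => intro _ b _; simp [cls, Good]
  | cons t ts ih =>
    intro hnd b hb
    rw [List.nodup_cons] at hnd
    have h1 : (cls (t :: ts)).flatMap (fun c => List.replicate (n c) c) =
        List.replicate (n (t, true)) (t, true) ++ (List.replicate (n (t, false)) (t, false) ++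
          (cls ts).flatMap fun c => List.replicate (n c) c) := by
      simp [cls]
    rw [h1]
    refine good_replicate_true t _ b _ (hb t List.mem_cons_self) ?_
    refine good_replicate_false t _ b _ ?_ ?_
    · refine ih hnd.2 _ fun t' ht' h => ?_
      rw [Option.some.injEq] at h
      exact hnd.1 (h ▸ ht')
    · exact ih hnd.2 _ fun t' ht' => hb t' (List.mem_cons_of_mem _ ht')

/-! ## Sorted lists -/

/-- Lists sorted by `ts`. -/
inductive Srt : List (Int × Int) → List (Int × Int) → Prop
  | nil : Srt [] []
  | skip {t ts N} : Srt ts N → Srt (t :: ts) N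
  | take {t ts N} : Srt (t :: ts) N → Srt (t :: ts) (t :: N)

theorem srt_replicate {t : Int × Int} {ts N : List (Int × Int)} (h : Srt ts N) (n : ℕ) :
    Srt (t :: ts) (List.replicate n t ++ N) := by
  induction n with
  | zero => exact Srt.skip h
  | succ n ih => rw [List.replicate_succ, List.cons_append]; exact Srt.take ih

theorem srt_cls (n : (Int × Int) × Bool → ℕ) : ∀ ts : List (Int × Int),
    Srt ts (((cls ts).flatMap fun c => List.replicate (n c) c).map Prod.fst) := by
  intro ts
  induction ts with
  | nil => simp only [cls, List.flatMap_nil, List.map_nil]; exact Srt.nil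
  | cons t ts ih =>
    have h1 : ((cls (t :: ts)).flatMap (fun c => List.replicate (n c) c)).map Prod.fst =
        List.replicate (n (t, true) + n (t, false)) t ++
          ((cls ts).flatMap fun c => List.replicate (n c) c).map Prod.fst := by
      rw [← List.replicate_append_replicate]
      simp only [cls, List.flatMap_cons, List.map_append, List.map_flatMap, List.flatMap_append,
        List.map_replicate, List.append_assoc, List.flatMap_nil, List.nil_append, List.cons_append]
    rw [h1]
    exact srt_replicate ih _

/-- `∑ k S²` -/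
def sSS (l : List (Int × Int)) : Int := (l.map fun p => kk p.1 * p.1 ^ 2).sum
/-- `∑ k S u` -/
def sSU (l : List (Int × Int)) : Int := (l.map fun p => kk p.1 * (p.1 * p.2)).sum
/-- `∑ k u²` -/
def sUU (l : List (Int × Int)) : Int := (l.map fun p => kk p.1 * p.2 ^ 2).sum
/-- `∑ k |S|` -/
def sAB (l : List (Int × Int)) : Int := (l.map fun p => kk p.1 * |p.1|).sum

theorem kk_pos (S : Int) : 0 < kk S := by unfold kk; split_ifs <;> norm_num

theorem sSS_nonneg (l : List (Int × Int)) : 0 ≤ sSS l :=
  List.sum_nonneg (by simp only [List.mem_map]; rintro _ ⟨p, _, rfl⟩; have := kk_pos p.1; positivity)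

theorem sUU_nonneg (l : List (Int × Int)) : 0 ≤ sUU l :=
  List.sum_nonneg (by simp only [List.mem_map]; rintro _ ⟨p, _, rfl⟩; have := kk_pos p.1; positivity)

theorem sAB_nonneg (l : List (Int × Int)) : 0 ≤ sAB l :=
  List.sum_nonneg (by simp only [List.mem_map]; rintro _ ⟨p, _, rfl⟩; have := kk_pos p.1; positivity)

theorem quad (l : List (Int × Int)) (a b : Int) :
    0 ≤ a ^ 2 * sSS l + 2 * a * b * sSU l + b ^ 2 * sUU l := by
  induction l with
  | nil => simp [sSS, sSU, sUU]
  | cons p l ih =>
    simp only [sSS, sSU, sUU, List.map_cons, List.sum_cons] at ih ⊢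
    have h1 := kk_pos p.1
    have h2 : 0 ≤ kk p.1 * (a * p.1 + b * p.2) ^ 2 := by positivity
    nlinarith

theorem cs (l : List (Int × Int)) : sSU l ^ 2 ≤ sSS l * sUU l := by
  have h0 := sSS_nonneg l
  have h0' := sUU_nonneg l
  rcases h0'.lt_or_eq with h | h
  · have := quad l (sUU l) (-sSU l)
    have h2 : 0 ≤ sUU l * (sSS l * sUU l - sSU l ^ 2) := by nlinarith
    have := nonneg_of_mul_nonneg_right h2 h
    linarith
  · rcases h0.lt_or_eq with h1 | h1
    · have := quad l (-sSU l) (sSS l)
      have h2 : 0 ≤ sSS l * (sSS l * sUU l - sSU l ^ 2) := by nlinarith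
      have := nonneg_of_mul_nonneg_right h2 h1
      linarith
    · have h2 := quad l 1 1
      have h3 := quad l 1 (-1)
      rw [← h, ← h1] at h2 h3
      have : sSU l = 0 := by linarith
      rw [this, ← h, ← h1]; norm_num

theorem enumN_sound {ts N : List (Int × Int)} (h : Srt ts N) : ∀ (n : ℕ) (ab : Int),
    ts.length + N.length < n → sAB N ≤ ab → N ∈ enumN n ts (sSS N) (sSU N) (sUU N) ab := by
  induction h with
  | nil =>
    intro n ab hn _
    obtain ⟨n, rfl⟩ := Nat.exists_eq_add_of_lt hn
    simp [enumN, sSS, sSU, sUU]
  | @skip t ts N h ih =>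
    intro n ab hn hab
    cases n with
    | zero => omega
    | succ n =>
      obtain ⟨S, u⟩ := t
      rw [enumN]
      have hcs := cs N
      rw [if_neg (by simp only [decide_eq_true_eq, not_lt]; nlinarith), List.mem_append]
      right
      exact ih n ab (by simp only [List.length_cons] at hn; omega) hab
  | @take t ts N h ih =>
    intro n ab hn hab
    cases n with
    | zero => omega
    | succ n =>
      obtain ⟨S, u⟩ := t
      rw [enumN]
      have hcs := cs ((S, u) :: N)
      have h1 := sSS_nonneg N
      have h2 := sUU_nonneg N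
      have h3 := sAB_nonneg N
      have e1 : sSS ((S, u) :: N) = kk S * S ^ 2 + sSS N := by simp [sSS]
      have e2 : sSU ((S, u) :: N) = kk S * (S * u) + sSU N := by simp [sSU]
      have e3 : sUU ((S, u) :: N) = kk S * u ^ 2 + sUU N := by simp [sUU]
      have e4 : sAB ((S, u) :: N) = kk S * |S| + sAB N := by simp [sAB]
      rw [if_neg (by simp only [decide_eq_true_eq, not_lt]; nlinarith), List.mem_append]
      left
      rw [if_pos (by
        simp only [Bool.and_eq_true, decide_eq_true_eq]
        refine ⟨⟨by linarith, by linarith⟩, by linarith⟩)]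
      refine List.mem_map.2 ⟨N, ?_, rfl⟩
      have := ih n (ab - kk S * |S|) (by simp only [List.length_cons] at hn ⊢; omega) (by linarith)
      rw [e1, e2, e3, add_sub_cancel_left, add_sub_cancel_left, add_sub_cancel_left]
      exact this

/-! ## Grouping by keys -/

theorem perm_group {α β : Type*} [DecidableEq β] (f : α → β) : ∀ (K : List β), K.Nodup →
    ∀ E : List α, (∀ e ∈ E, f e ∈ K) → (K.flatMap fun k => E.filter fun e => f e = k).Perm E := by
  intro K
  induction K with
  | nil =>
    intro _ E hE
    rcases E with _ | ⟨e, E⟩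
    · simp
    · have := hE e List.mem_cons_self; simp at this
  | cons k K ih =>
    intro hnd E hE
    rw [List.nodup_cons] at hnd
    rw [List.flatMap_cons]
    have h1 : (E.filter (fun e => f e = k) ++ E.filter (fun e => ¬ f e = k)).Perm E := by
      have := List.filter_append_perm (fun e => decide (f e = k)) E
      simpa using this
    refine List.Perm.trans (List.Perm.append_left _ ?_) h1
    have h2 := ih hnd.2 (E.filter (fun e => ¬ f e = k)) (by
      intro e he
      rw [List.mem_filter] at he
      rcases List.mem_cons.1 (hE e he.1) with h | h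
      · exact absurd h (by simpa using he.2)
      · exact h)
    refine List.Perm.trans (List.Perm.of_eq ?_) h2
    refine List.flatMap_congr fun k' hk' => ?_
    rw [List.filter_filter]
    refine List.filter_congr fun e _ => ?_
    have : f e = k' → ¬ f e = k := fun h h' => hnd.1 (by rw [← h', h]; exact hk')
    by_cases hh : f e = k'
    · simp [hh]
      intro h'; exact this hh (hh.trans h')
    · simp [hh]

end Cfsg.Agent.TwoFusion.U34.Enum
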