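import Mathlib
import Cfsg.Agent.TwoFusion.U34Conf
import Cfsg.Agent.TwoFusion.U34EnumSound
import Cfsg.Agent.TwoFusion.U34Data

/-!
# There is no configuration of rows: preparations
-/

set_option autoImplicit false

namespace Cfsg.Agent.TwoFusion.U34.Check

open Cfsg.Agent.TwoFusion.U34 Cfsg.Agent.TwoFusion.U34.Search Cfsg.Agent.TwoFusion.U34.Enum

/-- The type of an entry. -/
def ty (e : Ent) : Ty := ⟨e.k, e.c, e.S, e.u⟩

theorem kk_eq (S : Int) : Ent.kk S = Enum.kk S := rfl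

theorem kk_neg (S : Int) : Enum.kk (-S) = Enum.kk S := by
  unfold Enum.kk
  have h1 : (-S) % 2 = 1 ↔ S % 2 = 1 := by omega
  have h2 : (-S) % 4 = 2 ↔ S % 4 = 2 := by omega
  simp only [h1, h2]

theorem R_ty {e : Ent} (h : e.Ok) : R ((ty e).m, false) e.x := by
  have hd : (ty e).d = e.d := rfl
  have hr : (ty e).r = 12 * (e.c + e.S) + 11 * e.u := rfl
  have hM : (ty e).M = 64 + max (max 0 (ty e).r) (max (12 * (e.c + e.S) + 75 * e.u) (ty e).d) := rfl
  have h1 : (ty e).M ≤ e.x := by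
    rw [hM, hd, hr]
    have := h.lb0
    have := h.lb1
    have := h.lb2
    have := h.lb3
    rcases max_cases (0 : Int) (12 * (e.c + e.S) + 11 * e.u) with ⟨h1, -⟩ | ⟨h1, -⟩ <;>
    rcases max_cases (12 * (e.c + e.S) + 75 * e.u) e.d with ⟨h2, -⟩ | ⟨h2, -⟩ <;>
    rcases max_cases (max (0 : Int) (12 * (e.c + e.S) + 11 * e.u))
      (max (12 * (e.c + e.S) + 75 * e.u) e.d) with ⟨h3, -⟩ | ⟨h3, -⟩ <;> omega
  have h0 : 0 < (ty e).M := by
    rw [hM]
    have : (0 : Int) ≤ max (max 0 (ty e).r) (max (12 * (e.c + e.S) + 75 * e.u) (ty e).d) :=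
      le_trans (le_max_left _ _) (le_max_left _ _)
    omega
  have hm : (ty e).m = (ty e).M + ((ty e).r - (ty e).M) % 64 := rfl
  obtain ⟨t, ht⟩ := h.cong
  rw [← hr] at ht
  refine ⟨?_, ?_⟩
  · simp only; omega
  · simp only [Bool.false_eq_true, if_false]
    constructor
    · omega
    · omega

theorem val_map (f g : Ent → Int) (L : List Ent) :
    val (L.map f) (L.map g) = (L.map fun e => f e * g e).sum := by
  induction L with
  | nil => simp [val]
  | cons e L ih => simp only [List.map_cons, val, List.sum_cons, ih]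

theorem rval_map (f g : Ent → Int) (L : List Ent) :
    rval (L.map f) (L.map g) = (L.map fun e => (f e : ℚ) / (g e : ℚ)).sum := by
  induction L with
  | nil => simp [rval]
  | cons e L ih => simp only [List.map_cons, rval, List.sum_cons, ih]

theorem sum_lin (L : List Ent) (f g h : Ent → Int) (p q r : Int) :
    (L.map fun e => (p * f e + q * g e + r * h e)).sum =
      p * (L.map f).sum + q * (L.map g).sum + r * (L.map h).sum := by
  induction L with
  | nil => simp
  | cons e L ih => simp only [List.map_cons, List.sum_cons, ih]; ring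

theorem sum_lin_rat (L : List Ent) (f g h : Ent → ℚ) (p q r : ℚ) :
    (L.map fun e => (p * f e + q * g e + r * h e)).sum =
      p * (L.map f).sum + q * (L.map g).sum + r * (L.map h).sum := by
  induction L with
  | nil => simp
  | cons e L ih => simp only [List.map_cons, List.sum_cons, ih]; ring

theorem sol (L : List Ent)
    (deg0 : (L.map fun e => e.k * e.c * e.x).sum = -1)
    (degS : (L.map fun e => e.k * e.S * e.x).sum = 0)
    (degU : (L.map fun e => e.k * e.u * e.x).sum = 1)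
    (rel : (L.map fun e => ((e.k * (4 * e.c - e.S) * e.d ^ 2 : ℤ) : ℚ) / (e.x : ℚ)).sum = -4)
    (relU : (L.map fun e => ((e.k * e.u * e.d ^ 2 : ℤ) : ℚ) / (e.x : ℚ)).sum = 1)
    (neg : 1 + (L.map fun e => ((e.k * e.c * e.d ^ 2 : ℤ) : ℚ) / (e.x : ℚ)).sum < 0) :
    Sol (mkProb (L.map ty)) (L.map Ent.x) := by
  have hd : ∀ e : Ent, (ty e).d = e.d := fun _ => rfl
  constructor
  · intro e he
    simp only [mkProb, List.mem_cons, List.not_mem_nil, or_false, List.map_map] at he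
    rcases he with rfl | rfl | rfl | rfl
    · simp only [val_map, Function.comp_def, Ty.a, ty]; linarith
    · simp only [val_map, Function.comp_def, Ty.b, ty]; linarith
    · simp only [val_map, Function.comp_def, Ty.g, ty]; linarith
    · simp only [val_map, Function.comp_def, Ty.a, Ty.b, Ty.g, ty]
      have := sum_lin L (fun e => e.k * e.c * e.x) (fun e => e.k * e.S * e.x)
        (fun e => e.k * e.u * e.x) (-1) 1 1
      have h2 : (L.map fun e => (-(e.k * e.c) + e.k * e.S + e.k * e.u) * e.x) =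
          (L.map fun e => (-1 * (e.k * e.c * e.x) + 1 * (e.k * e.S * e.x) + 1 * (e.k * e.u * e.x))) := by
        refine List.map_congr_left fun e _ => by ring
      rw [h2, this]
      linarith
  · intro e he
    simp only [mkProb, List.mem_cons, List.not_mem_nil, or_false, List.map_map] at he
    rcases he with rfl | rfl | rfl | rfl
    · simp only [rval_map, Function.comp_def, Ty.r1, hd]
      simp only [ty]
      rw [rel]; norm_num
    · simp only [rval_map, Function.comp_def, Ty.r2, hd]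
      simp only [ty]
      rw [relU]; norm_num
    · simp only [rval_map, Function.comp_def, Ty.r1, Ty.r2, hd]
      simp only [ty]
      have := sum_lin_rat L (fun e => ((e.k * (4 * e.c - e.S) * e.d ^ 2 : ℤ) : ℚ) / (e.x : ℚ))
        (fun e => ((e.k * e.u * e.d ^ 2 : ℤ) : ℚ) / (e.x : ℚ)) (fun _ => 0) (-1) 2 0
      have h2 : (L.map fun e => ((-(e.k * (4 * e.c - e.S) * e.d ^ 2) +
          2 * (e.k * e.u * e.d ^ 2) : ℤ) : ℚ) / (e.x : ℚ)) = (L.map fun e =>
          ((-1) * (((e.k * (4 * e.c - e.S) * e.d ^ 2 : ℤ) : ℚ) / (e.x : ℚ)) +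
          2 * (((e.k * e.u * e.d ^ 2 : ℤ) : ℚ) / (e.x : ℚ)) + 0 * 0)) := by
        refine List.map_congr_left fun e _ => by push_cast; ring
      rw [h2, this, rel, relU]; norm_num
    · simp only [rval_map, Function.comp_def, Ty.r1, Ty.r2, hd]
      simp only [ty]
      have := sum_lin_rat L (fun e => ((e.k * (4 * e.c - e.S) * e.d ^ 2 : ℤ) : ℚ) / (e.x : ℚ))
        (fun e => ((e.k * e.u * e.d ^ 2 : ℤ) : ℚ) / (e.x : ℚ)) (fun _ => 0) (-1) 3 0
      have h2 : (L.map fun e => ((-(e.k * (4 * e.c - e.S) * e.d ^ 2) +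
          3 * (e.k * e.u * e.d ^ 2) : ℤ) : ℚ) / (e.x : ℚ)) = (L.map fun e =>
          ((-1) * (((e.k * (4 * e.c - e.S) * e.d ^ 2 : ℤ) : ℚ) / (e.x : ℚ)) +
          3 * (((e.k * e.u * e.d ^ 2 : ℤ) : ℚ) / (e.x : ℚ)) + 0 * 0)) := by
        refine List.map_congr_left fun e _ => by push_cast; ring
      rw [h2, this, rel, relU]; norm_num
  · intro e he
    simp only [mkProb, List.mem_cons, List.not_mem_nil, or_false, List.map_map] at he
    rcases he with rfl | rfl
    · simp only [rval_map, Function.comp_def, Ty.r0, hd]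
      simp only [ty]
      simpa using neg
    · simp only [rval_map, Function.comp_def, Ty.r0, Ty.r2, hd]
      simp only [ty]
      have := sum_lin_rat L (fun e => ((e.k * e.c * e.d ^ 2 : ℤ) : ℚ) / (e.x : ℚ))
        (fun e => ((e.k * e.u * e.d ^ 2 : ℤ) : ℚ) / (e.x : ℚ)) (fun _ => 0) 1 (-1) 0
      have h2 : (L.map fun e => ((e.k * e.c * e.d ^ 2 - e.k * e.u * e.d ^ 2 : ℤ) : ℚ) / (e.x : ℚ)) =
          (L.map fun e => (1 * (((e.k * e.c * e.d ^ 2 : ℤ) : ℚ) / (e.x : ℚ)) +
          (-1) * (((e.k * e.u * e.d ^ 2 : ℤ) : ℚ) / (e.x : ℚ)) + 0 * 0)) := by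
        refine List.map_congr_left fun e _ => by push_cast; ring
      rw [h2, this, relU]
      have h3 : (((2 : Int) : ℚ)) = 2 := by norm_num
      rw [h3]
      linarith

/-! ## Sorting `J` -/

theorem sort3 {α : Type*} (r : α → α → Bool) (hr : ∀ a b, r a b = true ∨ r b a = true) (x y z : α) :
    ∃ a b c, [a, b, c].Perm [x, y, z] ∧ r a b = true ∧ r b c = true := by
  obtain ⟨p, q, hpq, h1⟩ : ∃ p q, [p, q].Perm [x, y] ∧ r p q = true := by
    rcases hr x y with h | h
    · exact ⟨x, y, List.Perm.refl _, h⟩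
    · exact ⟨y, x, List.Perm.swap _ _ _, h⟩
  have h0 : [p, q, z].Perm [x, y, z] := by
    have := List.Perm.append_right [z] hpq
    simpa using this
  rcases hr q z with h | h
  · exact ⟨p, q, z, h0, h1, h⟩
  · rcases hr p z with h' | h'
    · exact ⟨p, z, q, (List.Perm.cons p (List.Perm.swap _ _ _)).trans h0, h', h⟩
    · refine ⟨z, p, q, ?_, h', h1⟩
      exact (List.Perm.swap p z [q]).trans ((List.Perm.cons p (List.Perm.swap _ _ _)).trans h0)

theorem sort2 {α : Type*} (r : α → α → Bool) (hr : ∀ a b, r a b = true ∨ r b a = true) (x y : α) :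
    ∃ a b, [a, b].Perm [x, y] ∧ r a b = true := by
  rcases hr x y with h | h
  · exact ⟨x, y, List.Perm.refl _, h⟩
  · exact ⟨y, x, List.Perm.swap _ _ _, h⟩

/-- Order of entries. -/
def leE (a b : Ent) : Bool := le2 (a.c * a.u) a.c (b.c * b.u) b.c

theorem leE_total (a b : Ent) : leE a b = true ∨ leE b a = true := by
  simp only [leE, le2, Bool.or_eq_true, decide_eq_true_eq, Bool.and_eq_true, beq_iff_eq]
  omega

theorem mem_rg {w : Int} (h : w ^ 2 ≤ 15) : w ∈ rg := by
  have h1 : -3 ≤ w := by nlinarith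
  have h2 : w ≤ 3 := by nlinarith
  simp only [rg, List.mem_cons, List.not_mem_nil, or_false]
  omega

theorem mem_sg {e : Int} (h : e = 1 ∨ e = -1) : e ∈ sg := by
  simpa [sg] using h

theorem mem_JI {B A₁ A₂ A₃ : Ent} (hB : B.tyB) (h1 : A₁.tyA) (h2 : A₂.tyA) (h3 : A₃.tyA)
    (l12 : leE A₁ A₂ = true) (l23 : leE A₂ A₃ = true)
    (hs : B.c * B.u + A₁.c * A₁.u + A₂.c * A₂.u + A₃.c * A₃.u = -3)
    (hq : B.u ^ 2 + A₁.u ^ 2 + A₂.u ^ 2 + A₃.u ^ 2 ≤ 15) :
    [ty B, ty A₁, ty A₂, ty A₃] ∈ JI := by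
  obtain ⟨kB, cB, SB⟩ := hB
  obtain ⟨k1, c1, S1⟩ := h1
  obtain ⟨k2, c2, S2⟩ := h2
  obtain ⟨k3, c3, S3⟩ := h3
  have sq : ∀ {c u : Int}, (c = 1 ∨ c = -1) → (c * u) ^ 2 = u ^ 2 := by
    rintro c u (rfl | rfl) <;> ring
  have un : ∀ {c u : Int}, (c = 1 ∨ c = -1) → c * (c * u) = u := by
    rintro c u (rfl | rfl) <;> ring
  have e0 := sq (u := B.u) cB
  have e1 := sq (u := A₁.u) c1
  have e2 := sq (u := A₂.u) c2
  have e3 := sq (u := A₃.u) c3
  have p0 := sq_nonneg B.u
  have p1 := sq_nonneg A₁.u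
  have p2 := sq_nonneg A₂.u
  have p3 := sq_nonneg A₃.u
  simp only [JI, List.mem_flatMap]
  refine ⟨B.c * B.u, mem_rg (by rw [e0]; linarith), A₁.c * A₁.u, mem_rg (by rw [e1]; linarith),
    A₂.c * A₂.u, mem_rg (by rw [e2]; linarith), A₃.c * A₃.u, mem_rg (by rw [e3]; linarith), ?_⟩
  rw [if_pos (by
    simp only [Bool.and_eq_true, beq_iff_eq, decide_eq_true_eq]
    exact ⟨hs, by rw [e0, e1, e2, e3]; exact hq⟩)]
  simp only [List.mem_flatMap]
  refine ⟨B.c, mem_sg cB, A₁.c, mem_sg c1, A₂.c, mem_sg c2, A₃.c, mem_sg c3, ?_⟩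
  rw [if_pos (by
    simp only [Bool.and_eq_true]
    exact ⟨l12, l23⟩)]
  simp only [List.mem_singleton, un cB, un c1, un c2, un c3, ty, kB, k1, k2, k3, SB, S1, S2, S3]

theorem mem_JII {C A₁ A₂ : Ent} (hC : C.tyC) (h1 : A₁.tyA) (h2 : A₂.tyA)
    (l12 : leE A₁ A₂ = true)
    (hs : 2 * (C.c * C.u) + A₁.c * A₁.u + A₂.c * A₂.u = -3)
    (hq : 2 * C.u ^ 2 + A₁.u ^ 2 + A₂.u ^ 2 ≤ 15) :
    [ty C, ty A₁, ty A₂] ∈ JII := by
  obtain ⟨kB, cB, SB⟩ := hC
  obtain ⟨k1, c1, S1⟩ := h1
  obtain ⟨k2, c2, S2⟩ := h2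
  have sq : ∀ {c u : Int}, (c = 1 ∨ c = -1) → (c * u) ^ 2 = u ^ 2 := by
    rintro c u (rfl | rfl) <;> ring
  have un : ∀ {c u : Int}, (c = 1 ∨ c = -1) → c * (c * u) = u := by
    rintro c u (rfl | rfl) <;> ring
  have e0 := sq (u := C.u) cB
  have e1 := sq (u := A₁.u) c1
  have e2 := sq (u := A₂.u) c2
  have p0 := sq_nonneg C.u
  have p1 := sq_nonneg A₁.u
  have p2 := sq_nonneg A₂.u
  simp only [JII, List.mem_flatMap]
  refine ⟨C.c * C.u, mem_rg (by rw [e0]; linarith), A₁.c * A₁.u, mem_rg (by rw [e1]; linarith),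
    A₂.c * A₂.u, mem_rg (by rw [e2]; linarith), ?_⟩
  rw [if_pos (by
    simp only [Bool.and_eq_true, beq_iff_eq, decide_eq_true_eq]
    exact ⟨hs, by rw [e0, e1, e2]; exact hq⟩)]
  simp only [List.mem_flatMap]
  refine ⟨C.c, mem_sg cB, A₁.c, mem_sg c1, A₂.c, mem_sg c2, ?_⟩
  have l12' : le2 (A₁.c * A₁.u) A₁.c (A₂.c * A₂.u) A₂.c = true := l12
  rw [if_pos l12']
  simp only [List.mem_singleton, un cB, un c1, un c2, ty, kB, k1, k2, SB, S1, S2]

/-! ## The types of `E` -/

theorem nodup_tys : tys.Nodup := by decide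

theorem nodup_cls : ((cls tys).map sgn).Nodup := by decide

theorem mem_cls {S u : Int} (h0 : S ≠ 0 ∨ u ≠ 0) (h1 : Enum.kk S * S ^ 2 ≤ 24)
    (h2 : Enum.kk S * u ^ 2 ≤ 15) : (S, u) ∈ (cls tys).map sgn := by
  have hk := kk_pos S
  have hS : -4 ≤ S ∧ S ≤ 4 := by
    have : S ^ 2 ≤ 24 := by nlinarith [sq_nonneg S]
    constructor <;> nlinarith
  have hu : -3 ≤ u ∧ u ≤ 3 := by
    have : u ^ 2 ≤ 15 := by nlinarith [sq_nonneg u]
    constructor <;> nlinarith
  obtain ⟨hS1, hS2⟩ := hS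
  obtain ⟨hu1, hu2⟩ := hu
  interval_cases S <;> interval_cases u <;> first
    | (exact absurd h0 (by decide))
    | (exact absurd h1 (by decide))
    | (exact absurd h2 (by decide))
    | decide

theorem map_filter_eq {α β : Type*} [DecidableEq β] (f : α → β) (k : β) (E : List α) :
    (E.filter fun e => f e = k).map f = List.replicate (E.filter fun e => f e = k).length k := by
  rw [List.eq_replicate_iff]
  refine ⟨by simp, fun b hb => ?_⟩
  obtain ⟨a, ha, rfl⟩ := List.mem_map.1 hb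
  simpa using (List.mem_filter.1 ha).2

theorem length_le (N : List (Int × Int)) (h : ∀ p ∈ N, p.1 ≠ 0 ∨ p.2 ≠ 0) :
    (N.length : Int) ≤ sSS N + sUU N := by
  induction N with
  | nil => simp [sSS, sUU]
  | cons p N ih =>
    have h1 := ih fun q hq => h q (List.mem_cons_of_mem _ hq)
    have h2 := h p List.mem_cons_self
    have h3 := kk_pos p.1
    simp only [sSS, sUU, List.map_cons, List.sum_cons, List.length_cons] at h1 ⊢
    push_cast
    have h4 : 1 ≤ kk p.1 * p.1 ^ 2 + kk p.1 * p.2 ^ 2 := by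
      rw [← mul_add]
      have h5 : 1 ≤ p.1 ^ 2 + p.2 ^ 2 := by
        rcases h2 with h2 | h2
        · have : 0 < p.1 ^ 2 := by positivity
          nlinarith [sq_nonneg p.2]
        · have : 0 < p.2 ^ 2 := by positivity
          nlinarith [sq_nonneg p.1]
      nlinarith
    linarith

/-- All runs succeed. -/
def Runs (J : List Ty) : Prop :=
  dead J = true ∨ ∀ N ∈ outs J, ∀ o ∈ expand none N,
      ∃ s', (run (mkProb (J ++ o.map fun p => ⟨Enum.kk p.1, 0, p.1, p.2⟩)) 400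
        (mkMs (J ++ o.map fun p => ⟨Enum.kk p.1, 0, p.1, p.2⟩)) s').isSome = true

theorem runs_I {J : List Ty} (h : J ∈ JI) : Runs J := goJ_mem JI certI goI J h

theorem runs_II {J : List Ty} (h : J ∈ JII) : Runs J := goJ_mem JII certII goII J h


end Cfsg.Agent.TwoFusion.U34.Check
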