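import Mathlib
import Cfsg.Agent.TwoFusion.U34CheckPrep

/-!
# There is no configuration of rows

`no_conf : Conf J E → False`.
-/

set_option autoImplicit false

namespace Cfsg.Agent.TwoFusion.U34.Check

open Cfsg.Agent.TwoFusion.U34 Cfsg.Agent.TwoFusion.U34.Search Cfsg.Agent.TwoFusion.U34.Enum

/-- The conditions used after sorting `J`. -/
structure Core (J E : List Ent) : Prop where
  hJ : J.map ty ∈ JI ∨ J.map ty ∈ JII
  hJk : ∀ e ∈ J, 0 < e.k
  hJS : 8 ≤ (J.map fun e => e.k * e.S ^ 2).sum
  out : ∀ e ∈ E, e.tyE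
  ok : ∀ e ∈ J ++ E, e.Ok
  SS : ((J ++ E).map fun e => e.k * e.S ^ 2).sum = 32
  Su : ((J ++ E).map fun e => e.k * (e.S * e.u)).sum = -16
  uu : ((J ++ E).map fun e => e.k * e.u ^ 2).sum = 15
  absS : (E.map fun e => e.k * |e.S|).sum ≤ 16
  deg0 : ((J ++ E).map fun e => e.k * e.c * e.x).sum = -1
  degS : ((J ++ E).map fun e => e.k * e.S * e.x).sum = 0
  degU : ((J ++ E).map fun e => e.k * e.u * e.x).sum = 1
  rel : ((J ++ E).map fun e => ((e.k * (4 * e.c - e.S) * e.d ^ 2 : ℤ) : ℚ) / (e.x : ℚ)).sum = -4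
  relU : ((J ++ E).map fun e => ((e.k * e.u * e.d ^ 2 : ℤ) : ℚ) / (e.x : ℚ)).sum = 1
  neg : 1 + ((J ++ E).map fun e => ((e.k * e.c * e.d ^ 2 : ℤ) : ℚ) / (e.x : ℚ)).sum < 0

theorem forall2_ms (J : List Ent) (ok : ∀ e ∈ J, e.Ok) :
    List.Forall₂ R (mkMs (J.map ty)) (J.map Ent.x) := by
  rw [mkMs, List.map_map, List.forall₂_map_left_iff, List.forall₂_map_right_iff]
  exact List.forall₂_same.2 fun e he => R_ty (ok e he)

theorem not_dead (J : List Ent) (ok : ∀ e ∈ J, e.Ok)
    (deg0 : (J.map fun e => e.k * e.c * e.x).sum = -1)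
    (neg : 1 + (J.map fun e => ((e.k * e.c * e.d ^ 2 : ℤ) : ℚ) / (e.x : ℚ)).sum < 0) :
    dead (J.map ty) = false := by
  have hF := forall2_ms J ok
  have h1 : (1 : Int) + val ((J.map ty).map Ty.a) (J.map Ent.x) = 0 := by
    rw [List.map_map, val_map]
    simp only [Function.comp_def, Ty.a, ty]
    linarith
  have h2 : ((1 : Int) : ℚ) + rval ((J.map ty).map Ty.r0) (J.map Ent.x) < 0 := by
    rw [List.map_map, rval_map]
    simp only [Function.comp_def, Ty.r0, ty]
    have hd : ∀ e : Ent, Ty.d ⟨e.k, e.c, e.S, e.u⟩ = e.d := fun _ => rfl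
    simp only [hd]
    push_cast at neg ⊢
    linarith
  have h3 := linPrune_sound hF (e := ⟨1, (J.map ty).map Ty.a⟩) h1
  have h4 := negPrune_sound hF (e := ⟨1, (J.map ty).map Ty.r0⟩) h2
  rw [dead, h3, h4]
  rfl

theorem arrange (E : List Ent) (out : ∀ e ∈ E, e.tyE)
    (SSE : (E.map fun e => e.k * e.S ^ 2).sum ≤ 24)
    (uuE : (E.map fun e => e.k * e.u ^ 2).sum ≤ 15) :
    ∃ (E' : List Ent) (o N : List (Int × Int)), E'.Perm E ∧
      E'.map ty = (o.map fun p => (⟨Enum.kk p.1, 0, p.1, p.2⟩ : Ty)) ∧ o ∈ expand none N ∧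
      Srt tys N ∧ N.length ≤ 39 ∧ sSS N = (E.map fun e => e.k * e.S ^ 2).sum ∧
      sSU N = (E.map fun e => e.k * (e.S * e.u)).sum ∧
      sUU N = (E.map fun e => e.k * e.u ^ 2).sum ∧
      sAB N = (E.map fun e => e.k * |e.S|).sum := by
  have hEk : ∀ e ∈ E, e.k = Enum.kk e.S := fun e he => (out e he).1
  have hEkpos : ∀ e ∈ E, 0 < e.k := fun e he => by rw [hEk e he]; exact kk_pos _
  set f : Ent → Int × Int := fun e => (e.S, e.u) with hf
  have sumE : ∀ g : Ent → Int, (∀ e, 0 < e.k → 0 ≤ g e) → ∀ e ∈ E, g e ≤ (E.map g).sum := by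
    intro g hg e he
    exact List.single_le_sum (fun x hx => by
      obtain ⟨y, hy, rfl⟩ := List.mem_map.1 hx
      exact hg y (hEkpos y hy)) _ (List.mem_map.2 ⟨e, he, rfl⟩)
  have hmem : ∀ e ∈ E, f e ∈ (cls tys).map sgn := by
    intro e he
    refine mem_cls (out e he).2.2 ?_ ?_
    · rw [← hEk e he]
      exact (sumE (fun e => e.k * e.S ^ 2) (fun e h => by positivity) e he).trans SSE
    · rw [← hEk e he]
      exact (sumE (fun e => e.k * e.u ^ 2) (fun e h => by positivity) e he).trans uuE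
  have hperm := perm_group f ((cls tys).map sgn) nodup_cls E hmem
  rw [List.flatMap_map] at hperm
  set E' : List Ent := (cls tys).flatMap fun c => E.filter fun e => f e = sgn c with hE'
  let n : (Int × Int) × Bool → ℕ := fun c => (E.filter fun e => f e = sgn c).length
  set L : List ((Int × Int) × Bool) := (cls tys).flatMap fun c => List.replicate (n c) c with hL
  have hEL : E'.map f = L.map sgn := by
    rw [hE', hL, List.map_flatMap, List.map_flatMap]
    refine List.flatMap_congr fun c _ => ?_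
    rw [map_filter_eq, List.map_replicate]
  have hgood : Good none L := good_cls n tys nodup_tys none fun t _ h => by simp at h
  have hexp := expand_sound L none hgood
  have hsrt : Srt tys (L.map Prod.fst) := srt_cls n tys
  have hout' : ∀ e ∈ E', e.tyE := fun e he => out e (hperm.subset he)
  -- sums
  have key : ∀ (g : Int × Int → Int), (∀ c, g (sgn c) = g c.1) →
      ((L.map Prod.fst).map g).sum = (E.map fun e => g (f e)).sum := by
    intro g hg
    have h1 : (L.map Prod.fst).map g = (E'.map f).map g := by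
      rw [hEL, List.map_map, List.map_map]
      refine List.map_congr_left fun c _ => (hg c).symm
    rw [h1, List.map_map]
    exact (hperm.map (g ∘ f)).sum_eq
  have hkk : ∀ c : (Int × Int) × Bool, Enum.kk (sgn c).1 = Enum.kk c.1.1 := by
    rintro ⟨⟨S, u⟩, b⟩
    cases b
    · simp only [sgn, Bool.false_eq_true, if_false]; exact kk_neg S
    · simp [sgn]
  have cong : ∀ g g' : Ent → Int, (∀ e ∈ E, g e = g' e) → (E.map g).sum = (E.map g').sum := by
    intro g g' h
    rw [List.map_congr_left h]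
  have k1 : sSS (L.map Prod.fst) = (E.map fun e => e.k * e.S ^ 2).sum := by
    rw [sSS, key]
    · exact cong _ _ fun e he => by rw [hEk e he]
    · intro c
      rw [hkk c]
      rcases c with ⟨⟨S, u⟩, _ | _⟩ <;> simp [sgn]
  have k2 : sSU (L.map Prod.fst) = (E.map fun e => e.k * (e.S * e.u)).sum := by
    rw [sSU, key]
    · exact cong _ _ fun e he => by rw [hEk e he]
    · intro c
      rw [hkk c]
      rcases c with ⟨⟨S, u⟩, _ | _⟩ <;> simp [sgn]
  have k3 : sUU (L.map Prod.fst) = (E.map fun e => e.k * e.u ^ 2).sum := by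
    rw [sUU, key]
    · exact cong _ _ fun e he => by rw [hEk e he]
    · intro c
      rw [hkk c]
      rcases c with ⟨⟨S, u⟩, _ | _⟩ <;> simp [sgn]
  have k4 : sAB (L.map Prod.fst) = (E.map fun e => e.k * |e.S|).sum := by
    rw [sAB, key]
    · exact cong _ _ fun e he => by rw [hEk e he]
    · intro c
      rw [hkk c]
      rcases c with ⟨⟨S, u⟩, _ | _⟩ <;> simp [sgn]
  have hlen : (L.map Prod.fst).length ≤ 39 := by
    have h1 := length_le (L.map Prod.fst) (by
      intro p hp
      obtain ⟨c, hc, rfl⟩ := List.mem_map.1 hp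
      have h2 : sgn c ∈ E'.map f := by rw [hEL]; exact List.mem_map.2 ⟨c, hc, rfl⟩
      obtain ⟨e, he, hec⟩ := List.mem_map.1 h2
      have h3 := (hout' e he).2.2
      have h4 : e.S = (sgn c).1 := by rw [← hec]
      have h5 : e.u = (sgn c).2 := by rw [← hec]
      rw [h4, h5] at h3
      rcases c with ⟨⟨S, u⟩, _ | _⟩ <;> simpa [sgn] using h3)
    rw [k1, k3] at h1
    omega
  refine ⟨E', L.map sgn, L.map Prod.fst, hperm, ?_, hexp, hsrt, hlen, k1, k2, k3, k4⟩
  rw [← hEL, List.map_map]
  refine List.map_congr_left fun e he => ?_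
  obtain ⟨h1, h2, -⟩ := hout' e he
  simp only [ty, Function.comp_apply, hf, h1, h2, kk_eq]

theorem mem_outs {J : List Ent} {N : List (Int × Int)} (hs : Srt tys N) (hl : N.length ≤ 39)
    (h1 : (J.map fun e => e.k * e.S ^ 2).sum + sSS N = 32)
    (h2 : (J.map fun e => e.k * (e.S * e.u)).sum + sSU N = -16)
    (h3 : (J.map fun e => e.k * e.u ^ 2).sum + sUU N = 15) (h4 : sAB N ≤ 16) :
    N ∈ outs (J.map ty) := by
  rw [outs]
  have t1 : tot (fun t => t.k * t.S ^ 2) (J.map ty) = (J.map fun e => e.k * e.S ^ 2).sum := by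
    rw [tot, List.map_map]; rfl
  have t2 : tot (fun t => t.k * (t.S * t.u)) (J.map ty) =
      (J.map fun e => e.k * (e.S * e.u)).sum := by
    rw [tot, List.map_map]; rfl
  have t3 : tot (fun t => t.k * t.u ^ 2) (J.map ty) = (J.map fun e => e.k * e.u ^ 2).sum := by
    rw [tot, List.map_map]; rfl
  have r1 : 32 - tot (fun t => t.k * t.S ^ 2) (J.map ty) = sSS N := by
    rw [t1, ← h1]; ring
  have r2 : -16 - tot (fun t => t.k * (t.S * t.u)) (J.map ty) = sSU N := by
    rw [t2, ← h2]; ring
  have r3 : 15 - tot (fun t => t.k * t.u ^ 2) (J.map ty) = sUU N := by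
    rw [t3, ← h3]; ring
  rw [r1, r2, r3]
  refine enumN_sound hs 60 16 ?_ h4
  have : tys.length = 18 := rfl
  omega

theorem core_false {J E : List Ent} (h : Core J E) : False := by
  have hJ := h.hJ
  have hJk := h.hJk
  have out := h.out
  have ok := h.ok
  have hgo : Runs (J.map ty) := hJ.elim runs_I runs_II
  have hE0 : ∀ e ∈ E, e.c = 0 := fun e he => (out e he).2.1
  rcases hgo with hdead | hgo
  · rw [not_dead J (fun e he => ok e (List.mem_append_left _ he))] at hdead
    · simp at hdead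
    · have deg0 := h.deg0
      rw [List.map_append, List.sum_append] at deg0
      have : (E.map fun e => e.k * e.c * e.x).sum = 0 := by
        refine List.sum_eq_zero fun y hy => ?_
        obtain ⟨e, he, rfl⟩ := List.mem_map.1 hy
        rw [hE0 e he]; ring
      rwa [this, add_zero] at deg0
    · have neg := h.neg
      rw [List.map_append, List.sum_append] at neg
      have : (E.map fun e => ((e.k * e.c * e.d ^ 2 : ℤ) : ℚ) / (e.x : ℚ)).sum = 0 := by
        refine List.sum_eq_zero fun y hy => ?_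
        obtain ⟨e, he, rfl⟩ := List.mem_map.1 hy
        rw [hE0 e he]; simp
      rwa [this, add_zero] at neg
  · have SS := h.SS
    have Su := h.Su
    have uu := h.uu
    have hJS := h.hJS
    rw [List.map_append, List.sum_append] at SS Su uu
    have huJ : 0 ≤ (J.map fun e => e.k * e.u ^ 2).sum := List.sum_nonneg (by
      intro x hx
      obtain ⟨y, hy, rfl⟩ := List.mem_map.1 hx
      have := hJk y hy
      positivity)
    obtain ⟨E', o, N, hperm, htyE, hexp, hsrt, hlen, k1, k2, k3, k4⟩ :=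
      arrange E out (by omega) (by omega)
    have hN : N ∈ outs (J.map ty) := mem_outs hsrt hlen (by rw [k1]; exact SS)
      (by rw [k2]; exact Su) (by rw [k3]; exact uu) (by rw [k4]; exact h.absS)
    obtain ⟨s', hs'⟩ := hgo _ hN _ hexp
    rw [← htyE, ← List.map_append] at hs'
    have hP : (J ++ E').Perm (J ++ E) := List.Perm.append_left J hperm
    have hsol : Sol (mkProb ((J ++ E').map ty)) ((J ++ E').map Ent.x) := by
      refine sol (J ++ E') ?_ ?_ ?_ ?_ ?_ ?_
      · rw [(hP.map _).sum_eq]; exact h.deg0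
      · rw [(hP.map _).sum_eq]; exact h.degS
      · rw [(hP.map _).sum_eq]; exact h.degU
      · rw [(hP.map _).sum_eq]; exact h.rel
      · rw [(hP.map _).sum_eq]; exact h.relU
      · rw [(hP.map _).sum_eq]; exact h.neg
    have hF := forall2_ms (J ++ E') fun e he => ok e (hP.subset he)
    rw [run_sound _ hsol _ _ _ hF] at hs'
    simp at hs'

/-- There is no configuration. -/
theorem no_conf {J E : List Ent} (h : Conf J E) : False := by
  have sumJ : ∀ (J' : List Ent), J'.Perm J → ∀ g : Ent → Int,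
      ((J' ++ E).map g).sum = ((J ++ E).map g).sum := fun J' hp g =>
    ((hp.append_right E).map g).sum_eq
  have sumJq : ∀ (J' : List Ent), J'.Perm J → ∀ g : Ent → ℚ,
      ((J' ++ E).map g).sum = ((J ++ E).map g).sum := fun J' hp g =>
    ((hp.append_right E).map g).sum_eq
  have fin : ∀ (J' : List Ent), J'.Perm J → (J'.map ty ∈ JI ∨ J'.map ty ∈ JII) →
      (∀ e ∈ J', 0 < e.k) → 8 ≤ (J'.map fun e => e.k * e.S ^ 2).sum → False := by
    intro J' hp h1 h2 h3
    refine core_false (J := J') (E := E) ⟨h1, h2, h3, h.out, ?_, ?_, ?_, ?_, h.absS, ?_, ?_, ?_, ?_,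
      ?_, ?_⟩
    · intro e he; exact h.ok e ((hp.append_right E).subset he)
    · rw [sumJ J' hp]; exact h.SS
    · rw [sumJ J' hp]; exact h.Su
    · rw [sumJ J' hp]; exact h.uu
    · rw [sumJ J' hp]; exact h.deg0
    · rw [sumJ J' hp]; exact h.degS
    · rw [sumJ J' hp]; exact h.degU
    · rw [sumJq J' hp]; exact h.rel
    · rw [sumJq J' hp]; exact h.relU
    · rw [sumJq J' hp]; exact h.neg
  have huE : 0 ≤ (E.map fun e => e.k * e.u ^ 2).sum := List.sum_nonneg (by
    intro x hx
    obtain ⟨y, hy, rfl⟩ := List.mem_map.1 hx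
    have h1 : y.k = Enum.kk y.S := (h.out y hy).1
    have := kk_pos y.S
    rw [← h1] at this
    positivity)
  have huJ : (J.map fun e => e.k * e.u ^ 2).sum ≤ 15 := by
    have := h.uu
    rw [List.map_append, List.sum_append] at this
    linarith
  have hcu := h.cu
  rcases h.shape with ⟨B, A₁, A₂, A₃, rfl, hB, h1, h2, h3⟩ | ⟨C, A₁, A₂, rfl, hC, h1, h2⟩
  · obtain ⟨P, Q, S, hp, l1, l2⟩ := sort3 leE leE_total A₁ A₂ A₃
    have hA : ∀ e ∈ [P, Q, S], e.tyA := by
      intro e he
      have := hp.subset he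
      simp only [List.mem_cons, List.not_mem_nil, or_false] at this
      rcases this with rfl | rfl | rfl
      exacts [h1, h2, h3]
    have hP : P.tyA := hA P (by simp)
    have hQ : Q.tyA := hA Q (by simp)
    have hS : S.tyA := hA S (by simp)
    have hp' : [B, P, Q, S].Perm [B, A₁, A₂, A₃] := List.Perm.cons B hp
    have s1 := (hp'.map fun e => e.k * (e.c * e.u)).sum_eq
    have s2 := (hp'.map fun e => e.k * e.u ^ 2).sum_eq
    rw [← s1] at hcu
    rw [← s2] at huJ
    simp only [List.map_cons, List.map_nil, List.sum_cons, List.sum_nil, hB.1, hP.1, hQ.1, hS.1,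
      one_mul, add_zero] at hcu huJ
    refine fin [B, P, Q, S] hp' (Or.inl ?_) ?_ ?_
    · exact mem_JI hB hP hQ hS l1 l2 (by linarith) (by linarith)
    · intro e he
      simp only [List.mem_cons, List.not_mem_nil, or_false] at he
      rcases he with rfl | rfl | rfl | rfl
      · rw [hB.1]; norm_num
      · rw [hP.1]; norm_num
      · rw [hQ.1]; norm_num
      · rw [hS.1]; norm_num
    · simp only [List.map_cons, List.map_nil, List.sum_cons, List.sum_nil, hB.1, hP.1, hQ.1, hS.1,
        hB.2.2, hP.2.2, hQ.2.2, hS.2.2]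
      rcases hB.2.1 with h | h <;> rw [h] <;> norm_num
  · obtain ⟨P, Q, hp, l1⟩ := sort2 leE leE_total A₁ A₂
    have hA : ∀ e ∈ [P, Q], e.tyA := by
      intro e he
      have := hp.subset he
      simp only [List.mem_cons, List.not_mem_nil, or_false] at this
      rcases this with rfl | rfl
      exacts [h1, h2]
    have hP : P.tyA := hA P (by simp)
    have hQ : Q.tyA := hA Q (by simp)
    have hp' : [C, P, Q].Perm [C, A₁, A₂] := List.Perm.cons C hp
    have s1 := (hp'.map fun e => e.k * (e.c * e.u)).sum_eq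
    have s2 := (hp'.map fun e => e.k * e.u ^ 2).sum_eq
    rw [← s1] at hcu
    rw [← s2] at huJ
    simp only [List.map_cons, List.map_nil, List.sum_cons, List.sum_nil, hC.1, hP.1, hQ.1,
      one_mul, add_zero] at hcu huJ
    refine fin [C, P, Q] hp' (Or.inr ?_) ?_ ?_
    · exact mem_JII hC hP hQ l1 (by linarith) (by linarith)
    · intro e he
      simp only [List.mem_cons, List.not_mem_nil, or_false] at he
      rcases he with rfl | rfl | rfl
      · rw [hC.1]; norm_num
      · rw [hP.1]; norm_num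
      · rw [hQ.1]; norm_num
    · simp only [List.map_cons, List.map_nil, List.sum_cons, List.sum_nil, hC.1, hP.1, hQ.1,
        hC.2.2, hP.2.2, hQ.2.2]
      rcases hC.2.1 with h | h <;> rw [h] <;> norm_num

end Cfsg.Agent.TwoFusion.U34.Check
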