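import Mathlib
import Cfsg.Agent.TwoFusion.GoldM1EndAux
import Cfsg.Agent.TwoFusion.U34Check

/-!
# Case [M1] of Goldschmidt's theorem: end (route B)
-/

set_option autoImplicit false

namespace Cfsg.Agent.TwoFusion.GoldM1End

open Subgroup
open Cfsg.Agent.TwoFusion.ClosedFam Cfsg.Agent.TwoFusion.GoldSetup

universe u

/-- **Case [M1].** `|A| = 4`, `Ω₁(S) = A`, `S` not commutative: contradiction. -/
theorem false_of_u34 {G : Type u} [Group G] [Finite G] {𝒜 : Set G}
    (h : Setup 𝒜) (S : Sylow 2 G) (h4 : Nat.card (fam 𝒜 (S : Subgroup G)) = 4)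
    (hO : ∀ x ∈ (S : Subgroup G), x * x = 1 → x ∈ fam 𝒜 (S : Subgroup G))
    (hnab : ∃ x ∈ (S : Subgroup G), ∃ y ∈ (S : Subgroup G), x * y ≠ y * x)
    (h1174 : SE1174 G) : False :=
  false_of_num (fun _ _ hc => U34.Check.no_conf hc) h S h4 hO hnab h1174

end Cfsg.Agent.TwoFusion.GoldM1End
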