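import Cfsg.Agent.TwoFusion.GoldM1Loc
import Cfsg.Agent.S0215

/-!
# Case [M1] of Goldschmidt's theorem (S1169): the type of an overgroup of `S`

`type_of`: a subgroup `H` containing `S` either centralizes `A` modulo `O(H)` or contains an element of `N(S)` which
acts on `A` like `g0` (Burnside's fusion lemma and the `Z*`-theorem).
-/

set_option autoImplicit false

namespace Cfsg.Agent.TwoFusion.GoldM1Type

open Subgroup
open Cfsg.Agent.TwoFusion.GoldM1Loc
open Cfsg.Agent.Classification.TypeB.Core (oc oc_def le_oc)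

variable {G : Type*} [Group G]

/-- Two automorphisms of a four-group without fixed points are equal or inverse to each other. -/
theorem act_eq {S A : Subgroup G} (h : Loc S A) {n g0 : G} (hn : ∀ x ∈ A, n * x * n⁻¹ ∈ A)
    (hg : ∀ x ∈ A, g0 * x * g0⁻¹ ∈ A) (hn1 : ∀ x ∈ A, n * x * n⁻¹ = x → x = 1)
    (hg1 : ∀ x ∈ A, g0 * x * g0⁻¹ = x → x = 1) :
    (∀ x ∈ A, n * x * n⁻¹ = g0 * x * g0⁻¹) ∨ (∀ x ∈ A, n⁻¹ * x * n = g0 * x * g0⁻¹) := by
  have hA : A ≠ ⊥ := by
    intro e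
    have := h.cardA
    rw [e, card_bot] at this
    omega
  obtain ⟨x₀, hx₀⟩ := Subgroup.ne_bot_iff_exists_ne_one.1 hA
  set x : G := (x₀ : G) with hxd
  have hx : x ∈ A := x₀.2
  have hx1 : x ≠ 1 := fun e => hx₀ (Subtype.ext e)
  -- general facts on an automorphism without fixed points
  have key : ∀ m : G, (∀ x ∈ A, m * x * m⁻¹ ∈ A) → (∀ x ∈ A, m * x * m⁻¹ = x → x = 1) →
      m * (m * x * m⁻¹) * m⁻¹ = x * (m * x * m⁻¹) := by
    intro m hm hm1
    set y := m * x * m⁻¹ with hy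
    have hyA : y ∈ A := hm x hx
    have hy1 : y ≠ 1 := by
      intro e
      apply hx1
      rw [hy, mul_inv_eq_one, mul_eq_left] at e
      exact e
    have hyx : y ≠ x := fun e => hx1 (hm1 x hx e)
    rcases h.mem_A_cases hx hyA hx1 hy1 hyx (hm y hyA) with e | e | e | e
    · rw [mul_inv_eq_one, mul_eq_left] at e
      exact absurd e hy1
    · exfalso
      have h1 : m * (x * y) * m⁻¹ = x * y := by
        calc m * (x * y) * m⁻¹ = (m * x * m⁻¹) * (m * y * m⁻¹) := by group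
          _ = y * x := by rw [e, ← hy]
          _ = x * y := (h.cen x hx y (h.AS hyA)).symm
      have h2 := hm1 _ (mul_mem hx hyA) h1
      apply hyx
      have h3 := h.inv_eq hx
      rw [← h3]
      exact eq_inv_of_mul_eq_one_right h2
    · exact absurd (hm1 y hyA e) hy1
    · exact e
  have kn := key n hn hn1
  have kg := key g0 hg hg1
  have hgen : ∀ m m' : G, (∀ x ∈ A, m * x * m⁻¹ ∈ A) → m * x * m⁻¹ ≠ x →
      m' * x * m'⁻¹ = m * x * m⁻¹ → m' * (m * x * m⁻¹) * m'⁻¹ = m * (m * x * m⁻¹) * m⁻¹ →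
      ∀ z ∈ A, m' * z * m'⁻¹ = m * z * m⁻¹ := by
    intro m m' hm hmx e1 e2 z hz
    have hy1 : m * x * m⁻¹ ≠ 1 := by
      intro e
      apply hx1
      rw [mul_inv_eq_one, mul_eq_left] at e
      exact e
    rcases h.mem_A_cases hx (hm x hx) hx1 hy1 hmx hz with e | e | e | e
    · rw [e]; group
    · rw [e, e1]
    · rw [e, e2]
    · rw [e]
      calc m' * (x * (m * x * m⁻¹)) * m'⁻¹ = (m' * x * m'⁻¹) * (m' * (m * x * m⁻¹) * m'⁻¹) := by group
        _ = (m * x * m⁻¹) * (m * (m * x * m⁻¹) * m⁻¹) := by rw [e1, e2]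
        _ = m * (x * (m * x * m⁻¹)) * m⁻¹ := by group
  have hgx : g0 * x * g0⁻¹ ≠ x := fun e => hx1 (hg1 x hx e)
  have hnx : n * x * n⁻¹ ≠ x := fun e => hx1 (hn1 x hx e)
  have hgx1 : g0 * x * g0⁻¹ ≠ 1 := by
    intro e
    apply hx1
    rw [mul_inv_eq_one, mul_eq_left] at e
    exact e
  rcases h.mem_A_cases hx (hg x hx) hx1 hgx1 hgx (hn x hx) with e | e | e | e
  · exfalso
    apply hx1
    rw [mul_inv_eq_one, mul_eq_left] at e
    exact e
  · exact absurd e hnx
  · left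
    refine hgen g0 n hg hgx e ?_
    rw [kg, ← e, kn]
  · -- `n x n⁻¹ = x (g0 x g0⁻¹)`, so `n⁻¹` acts as `g0`
    right
    have e1 : n⁻¹ * x * n⁻¹⁻¹ = g0 * x * g0⁻¹ := by
      -- `n (g0 x g0⁻¹) n⁻¹ = x`
      have h1 : n * (g0 * x * g0⁻¹) * n⁻¹ = x := by
        have h2 : g0 * x * g0⁻¹ = x * (n * x * n⁻¹) := by
          rw [e, ← mul_assoc, h.sq x hx, one_mul]
        calc n * (g0 * x * g0⁻¹) * n⁻¹ = n * (x * (n * x * n⁻¹)) * n⁻¹ := by rw [h2]
          _ = (n * x * n⁻¹) * (n * (n * x * n⁻¹) * n⁻¹) := by group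
          _ = (n * x * n⁻¹) * (x * (n * x * n⁻¹)) := by rw [kn]
          _ = (n * x * n⁻¹) * ((n * x * n⁻¹) * x) := by
            rw [h.cen x hx _ (h.AS (hn x hx))]
          _ = ((n * x * n⁻¹) * (n * x * n⁻¹)) * x := by group
          _ = x := by rw [h.sq _ (hn x hx), one_mul]
      calc n⁻¹ * x * n⁻¹⁻¹ = n⁻¹ * (n * (g0 * x * g0⁻¹) * n⁻¹) * n⁻¹⁻¹ := by rw [h1]
        _ = g0 * x * g0⁻¹ := by group
    have e2 : n⁻¹ * (g0 * x * g0⁻¹) * n⁻¹⁻¹ = g0 * (g0 * x * g0⁻¹) * g0⁻¹ := by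
      rw [kg, ← e]
      have h2 : g0 * x * g0⁻¹ = n * (n * x * n⁻¹) * n⁻¹ := by
        rw [kn, e, ← mul_assoc, h.sq x hx, one_mul]
      rw [h2]
      group
    intro z hz
    have := hgen g0 n⁻¹ hg hgx e1 e2 z hz
    rwa [inv_inv] at this

/-- The type of an overgroup of `S`. -/
theorem type_of [Finite G] {S A : Subgroup G} (h : Loc S A) (hS : ¬ 2 ∣ S.index) {g0 : G}
    (hg : ∀ x ∈ A, g0 * x * g0⁻¹ ∈ A) (hg1 : ∀ x ∈ A, g0 * x = x * g0 → x = 1) {H : Subgroup G} (hSH : S ≤ H) :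
    (∀ x ∈ A, ∀ k ∈ H, k * x * k⁻¹ * x⁻¹ ∈ oc H) ∨
      (∃ g ∈ H, g ∈ normalizer (S : Set G) ∧ ∀ x ∈ A, g * x * g⁻¹ = g0 * x * g0⁻¹) := by
  classical
  have : Fact (Nat.Prime 2) := ⟨Nat.prime_two⟩
  have hS2 : IsPGroup 2 S := IsPGroup.of_card (n := 6) (by rw [h.cardS]; norm_num)
  have hS2' : IsPGroup 2 (S.subgroupOf H) := hS2.of_equiv (subgroupOfEquivOfLe hSH).symm
  have hidx : ¬ 2 ∣ (S.subgroupOf H).index := fun h2 =>
    hS (h2.trans (Subgroup.relIndex_dvd_index_of_le hSH))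
  let P : Sylow 2 H := hS2'.toSylow hidx
  have hP : (P : Subgroup H) = S.subgroupOf H := rfl
  have hPm : ∀ x : H, x ∈ (P : Subgroup H) ↔ (x : G) ∈ S := fun x => by rw [hP, mem_subgroupOf]
  by_cases hiso : ∀ x ∈ A, ∀ k ∈ H, k * x * k⁻¹ ∈ S → k * x * k⁻¹ = x
  · left
    intro x hx k hk
    by_cases hx1 : x = 1
    · rw [hx1]
      have : k * 1 * k⁻¹ * 1⁻¹ = 1 := by group
      rw [this]; exact one_mem _
    have hxS := h.AS hx
    obtain ⟨N, hN, hNodd, hNc⟩ := Cfsg.Agent.S0215.result P ⟨x, hSH hxS⟩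
      (by
        rw [Subgroup.orderOf_mk]
        exact orderOf_eq_prime (by rw [pow_two]; exact h.sq x hx) hx1)
      (by
        change _ ∈ (P : Subgroup H)
        rw [hPm]; exact hxS) (by
        intro g hgP
        change _ ∈ (P : Subgroup H) at hgP
        rw [hPm] at hgP
        exact Subtype.ext (hiso x hx g g.2 hgP))
    have hle : N.map H.subtype ≤ oc H := by
      refine le_oc (map_subtype_le N) ?_ ?_
      · intro y hy
        rw [mem_normalizer_iff]
        intro z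
        constructor
        · rintro ⟨w, hw, rfl⟩
          exact ⟨⟨y, hy⟩ * w * ⟨y, hy⟩⁻¹, hN.conj_mem w hw _, rfl⟩
        · rintro ⟨w, hw, hwz⟩
          refine ⟨⟨y, hy⟩⁻¹ * w * ⟨y, hy⟩⁻¹⁻¹, hN.conj_mem w hw _, ?_⟩
          have h1 : ((w : H) : G) = y * z * y⁻¹ := hwz
          change y⁻¹ * (w : G) * y⁻¹⁻¹ = z
          rw [h1]; group
      · rwa [Nat.card_congr (N.equivMapOfInjective H.subtype H.subtype_injective).toEquiv.symm]
    have h1 : k * x * k⁻¹ * x⁻¹ = (x * k * x⁻¹ * k⁻¹)⁻¹ := by group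
    rw [h1]
    exact inv_mem (hle ⟨_, hNc ⟨k, hk⟩, rfl⟩)
  · right
    push Not at hiso
    obtain ⟨x, hx, k, hk, hkS, hkx⟩ := hiso
    have hkA : k * x * k⁻¹ ∈ A := by
      apply h.inv _ hkS
      calc k * x * k⁻¹ * (k * x * k⁻¹) = k * (x * x) * k⁻¹ := by group
        _ = 1 := by rw [h.sq x hx]; group
    have hcenP : ∀ a ∈ A, ∀ haH : a ∈ H, (⟨a, haH⟩ : H) ∈ centralizer ((P : Subgroup H) : Set H) := by
      intro a ha haH
      rw [mem_centralizer_iff]
      intro s hs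
      exact Subtype.ext (h.cen a ha s ((hPm s).1 hs)).symm
    have hxH : x ∈ H := hSH (h.AS hx)
    obtain ⟨n, hn, hnx⟩ := Sylow.conj_eq_normalizer_conj_of_mem_centralizer P ⟨x, hxH⟩ ⟨k, hk⟩⁻¹
      (hcenP x hx hxH) (by
        have e : (⟨k, hk⟩ : H)⁻¹⁻¹ * ⟨x, hxH⟩ * ⟨k, hk⟩⁻¹ = ⟨k * x * k⁻¹, hSH hkS⟩ :=
          Subtype.ext (by simp)
        rw [e]
        exact hcenP _ hkA _)
    -- pass to `n⁻¹`
    obtain ⟨m, hmH, hmS, hmx⟩ : ∃ m ∈ H, m ∈ normalizer (S : Set G) ∧ m * x * m⁻¹ = k * x * k⁻¹ := by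
      refine ⟨(n : G)⁻¹, inv_mem n.2, ?_, ?_⟩
      · apply inv_mem
        rw [mem_normalizer_iff]
        intro z
        change n ∈ normalizer ((P : Subgroup H) : Set H) at hn
        rw [mem_normalizer_iff] at hn
        constructor
        · intro hz
          have := (hn ⟨z, hSH hz⟩).1 ((hPm _).2 hz)
          exact (hPm _).1 this
        · intro hz
          have hzH : z ∈ H := by
            have h1 : (n : G)⁻¹ * ((n : G) * z * (n : G)⁻¹) * n ∈ H :=
              mul_mem (mul_mem (inv_mem n.2) (hSH hz)) n.2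
            have e : (n : G)⁻¹ * ((n : G) * z * (n : G)⁻¹) * n = z := by group
            rwa [e] at h1
          have := (hn ⟨z, hzH⟩).2 ((hPm _).2 hz)
          exact (hPm _).1 this
      · have h1 := congrArg Subtype.val hnx
        simp only [Subgroup.coe_mul, Subgroup.coe_inv, inv_inv] at h1
        rw [inv_inv, ← h1]
    -- `m` normalizes `A`
    have hmA : ∀ z ∈ A, m * z * m⁻¹ ∈ A := by
      intro z hz
      apply h.inv _ ((mem_normalizer_iff.1 hmS z).1 (h.AS hz))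
      calc m * z * m⁻¹ * (m * z * m⁻¹) = m * (z * z) * m⁻¹ := by group
        _ = 1 := by rw [h.sq z hz]; group
    have hx1 : x ≠ 1 := by
      rintro rfl
      apply hkx
      group
    -- `m` acts without fixed points
    have hfix : ∀ z ∈ A, m * z * m⁻¹ = z → z = 1 := by
      by_contra hcon
      push Not at hcon
      obtain ⟨z, hz, hmz, hz1⟩ := hcon
      -- `m ^ 2` centralizes `A`
      have hxz : x ≠ z := by
        rintro rfl
        apply hkx
        rw [← hmx, hmz]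
      have hmx' : m * x * m⁻¹ = x * z := by
        rcases h.mem_A_cases hx hz hx1 hz1 hxz.symm (hmA x hx) with e | e | e | e
        · exfalso
          apply hx1
          rwa [mul_inv_eq_one, mul_eq_left] at e
        · exfalso
          exact hkx (by rw [← hmx, e])
        · exfalso
          apply hxz
          have : m * x * m⁻¹ = m * z * m⁻¹ := by rw [e, hmz]
          simpa using this
        · exact e
      have hm2 : ∀ w ∈ A, m ^ 2 * w * (m ^ 2)⁻¹ = w := by
        have hstep : ∀ w, m ^ 2 * w * (m ^ 2)⁻¹ = m * (m * w * m⁻¹) * m⁻¹ := fun w => by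
          rw [pow_two]; group
        have hx2 : m ^ 2 * x * (m ^ 2)⁻¹ = x := by
          rw [hstep, hmx']
          calc m * (x * z) * m⁻¹ = (m * x * m⁻¹) * (m * z * m⁻¹) := by group
            _ = x * (z * z) := by rw [hmx', hmz, mul_assoc]
            _ = x := by rw [h.sq z hz, mul_one]
        have hz2 : m ^ 2 * z * (m ^ 2)⁻¹ = z := by rw [hstep, hmz, hmz]
        intro w hw
        rcases h.mem_A_cases hx hz hx1 hz1 hxz.symm hw with e | e | e | e
        · rw [e]; group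
        · rw [e, hx2]
        · rw [e, hz2]
        · rw [e]
          calc m ^ 2 * (x * z) * (m ^ 2)⁻¹ = (m ^ 2 * x * (m ^ 2)⁻¹) * (m ^ 2 * z * (m ^ 2)⁻¹) := by group
            _ = x * z := by rw [hx2, hz2]
      -- the odd part
      obtain ⟨r, q, hq, hr⟩ := Nat.exists_eq_two_pow_mul_odd (n := orderOf m) (orderOf_pos m).ne'
      obtain ⟨c, hc⟩ := hq
      have hmq : m ^ q * x * (m ^ q)⁻¹ = m * x * m⁻¹ := by
        have h1 : ∀ c : ℕ, (m ^ 2) ^ c * x * ((m ^ 2) ^ c)⁻¹ = x := by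
          intro c
          induction c with
          | zero => simp
          | succ c ih =>
            rw [pow_succ]
            calc (m ^ 2) ^ c * m ^ 2 * x * ((m ^ 2) ^ c * m ^ 2)⁻¹ =
                (m ^ 2) ^ c * (m ^ 2 * x * (m ^ 2)⁻¹) * ((m ^ 2) ^ c)⁻¹ := by group
              _ = x := by rw [hm2 x hx, ih]
        have h2 : m ^ q = m * (m ^ 2) ^ c := by rw [hc, ← pow_mul, pow_succ']
        rw [h2]
        calc m * (m ^ 2) ^ c * x * (m * (m ^ 2) ^ c)⁻¹ = m * ((m ^ 2) ^ c * x * ((m ^ 2) ^ c)⁻¹) * m⁻¹ := by group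
          _ = m * x * m⁻¹ := by rw [h1]
      have hq2 : IsPGroup 2 (zpowers (m ^ q)) := by
        apply IsPGroup.of_card (n := r)
        rw [Nat.card_zpowers, orderOf_pow, hr]
        rw [Nat.gcd_eq_right (Dvd.intro_left _ rfl)]
        exact Nat.mul_div_cancel _ (by omega)
      have hqS : m ^ q ∈ S := by
        let PG : Sylow 2 G := hS2.toSylow hS
        have hPG : (PG : Subgroup G) = S := rfl
        have hzn : zpowers (m ^ q) ≤ normalizer ((PG : Subgroup G) : Set G) := by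
          rw [zpowers_le, hPG]; exact pow_mem hmS q
        have h5 := PG.is_maximal' (IsPGroup.to_sup_of_normal_right' hq2 PG.2 hzn) le_sup_right
        change m ^ q ∈ (PG : Subgroup G)
        rw [← h5]
        exact mem_sup_left (mem_zpowers _)
      apply hkx
      rw [← hmx, ← hmq]
      rw [← h.cen x hx _ hqS]
      group
    rcases act_eq h hmA hg hfix (fun x hx e => hg1 x hx (by rwa [mul_inv_eq_iff_eq_mul] at e)) with h1 | h1
    · exact ⟨m, hmH, hmS, h1⟩
    · refine ⟨m⁻¹, inv_mem hmH, inv_mem hmS, fun x hx => ?_⟩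
      rw [inv_inv]
      exact h1 x hx

end Cfsg.Agent.TwoFusion.GoldM1Type
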