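import Mathlib
import Cfsg.Agent.TwoFusion.GoldM1ZEnd
import Cfsg.Agent.TwoFusion.GoldM1In

/-!
# Case [M1] of Goldschmidt's theorem, type Z: the contradiction

`cent_of_coatom`: in the frame of [M1], if `C(a)` is a maximal subgroup, `a ∈ A`, `a ≠ 1`, then `O(C(a)) ≤ C(A)`.
-/

set_option autoImplicit false

namespace Cfsg.Agent.TwoFusion.GoldM1Z

open Subgroup
open Cfsg.Agent.Classification.TypeB.Core (oc)
open Cfsg.Agent.TwoFusion.GoldM1

/-- Case Z is impossible. -/
theorem false_of_coatom {G : Type*} [Group G] [Finite G] {S A : Subgroup G} {g0 a b : G}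
    (F : Frame S A g0) (ha : a ∈ A) (ha1 : a ≠ 1) (hb : b ∈ A)
    (hmax : IsCoatom (centralizer ({a} : Set G)))
    (hne : ¬ oc (centralizer ({a} : Set G)) ≤ centralizer ({b} : Set G)) : False := by
  obtain ⟨p, hp, hp2, D, hDp, hD, hDn, hinv, hDC⟩ := exists_data F ha ha1 hb hmax hne
  have := Fact.mk hp
  exact Frame.z5_false F hp2 ha ha1 hb D hDp hD hDn hinv hDC

/-- If `C(a)` is a maximal subgroup then `O(C(a)) ≤ C(A)`. -/
theorem cent_of_coatom {G : Type*} [Group G] [Finite G] {S A : Subgroup G} {g0 a : G}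
    (F : Frame S A g0) (ha : a ∈ A) (ha1 : a ≠ 1)
    (hmax : IsCoatom (centralizer ({a} : Set G))) :
    oc (centralizer ({a} : Set G)) ≤ centralizer (A : Set G) := by
  intro x hx
  rw [mem_centralizer_iff]
  intro b hb
  by_contra hne
  refine false_of_coatom F ha ha1 hb hmax fun h => hne ?_
  exact (mem_centralizer_singleton_iff.mp (h hx)).symm

end Cfsg.Agent.TwoFusion.GoldM1Z
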