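import Cfsg.Agent.TwoFusion.GoldFourRed
import Cfsg.Agent.TwoFusion.GoldBadEx
import Cfsg.Agent.TwoFusion.GoldCenBal

/-!
# Goldschmidt's theorem, `|A| = 4`: case M2, there are no involutions in `S - A`
-/

set_option autoImplicit false

namespace Cfsg.Agent.TwoFusion.GoldMTwo

open Subgroup
open Cfsg.Agent.TwoFusion.ClosedFam Cfsg.Agent.TwoFusion.Gold Cfsg.Agent.TwoFusion.GoldSetup

universe u

/-- **M2.** -/
theorem false_of_involution {G : Type u} [Group G] [Finite G] {𝒜 : Set G} (h : Setup 𝒜) (S : Sylow 2 G)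
    (h4 : Nat.card (fam 𝒜 (S : Subgroup G)) = 4)
    (hOO : ∀ H : Subgroup G, Odd (Nat.card H) → Group.IsSolvable H) (h1174 : SE1174 G)
    (hB : ∀ (K : Type u) [Group K] [Finite K], Cfsg.Agent.StrongEmb.Split.BenderHolds K)
    (hC1 : GoldP.C1 G) {t : G} (ht : t ∈ (S : Subgroup G)) (htt : t * t = 1)
    (htA : t ∉ fam 𝒜 (S : Subgroup G)) : False := by
  refine GoldFourRed.false_of_involution h hC1 ?_ ?_ S h4 ht htt htA
  · intro T t ht htt htA
    have h4T : Nat.card (fam 𝒜 (T : Subgroup G)) = 4 := by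
      rw [card_fam_sylow h.fam.toIsClosedFam T S, h4]
    exact GoldBadEx.exists_bad h hOO h1174 hB T h4T ht htt htA
  · intro T h4T e f he hAe hff hf1 hf hAf
    exact GoldCenBal.bal h T h4T he hAe hff hf1 hf hAf

end Cfsg.Agent.TwoFusion.GoldMTwo
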