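import Cfsg.Agent.TwoFusion.GoldFourRed
import Cfsg.Agent.TwoFusion.GoldCenBal

/-!
# Goldschmidt's theorem, `|A| = 4`: no involution in `S - A` (M2)
-/

set_option autoImplicit false

namespace Cfsg.Agent.TwoFusion.GoldMTwoAux

open Subgroup
open Cfsg.Agent.TwoFusion.ClosedFam Cfsg.Agent.TwoFusion.Gold Cfsg.Agent.TwoFusion.GoldSetup
open Cfsg.Agent.TwoFusion.GoldFourRed

universe u

variable {G : Type u} [Group G] [Finite G] {𝒜 : Set G}

theorem hBal (h : Setup 𝒜) : HBal 𝒜 := by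
  intro T h4 e f he hAe hff hf1 hf hAf
  exact GoldCenBal.bal h T h4 he hAe hff hf1 hf hAf

theorem hBad (h : Setup 𝒜) (S : Sylow 2 G) (h4 : Nat.card (fam 𝒜 (S : Subgroup G)) = 4)
    (hsol : ∀ H : Subgroup G, Odd (Nat.card H) → Group.IsSolvable H) (h1174 : SE1174 G)
    (hSE : GoldLambda.SEHyp.{u}) : HBad 𝒜 := by
  intro T t ht htt htA
  have h4T : Nat.card (fam 𝒜 (T : Subgroup G)) = 4 := by rw [card_fam_sylow h.fam.toIsClosedFam T S, h4]
  exact GoldBadOf.exists_bad h T h4T hsol h1174 hSE ht htt htA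

/-- **M2**: `A` contains all involutions of `S`. -/
theorem false_of_involution (h : Setup 𝒜) (S : Sylow 2 G) (h4 : Nat.card (fam 𝒜 (S : Subgroup G)) = 4)
    (hC1 : GoldP.C1 G) (hsol : ∀ H : Subgroup G, Odd (Nat.card H) → Group.IsSolvable H) (h1174 : SE1174 G)
    (hSE : GoldLambda.SEHyp.{u}) : ∀ t ∈ (S : Subgroup G), t * t = 1 → t ∉ fam 𝒜 (S : Subgroup G) → False :=
  fun _ ht htt htA => GoldFourRed.false_of_involution h hC1 (hBad h S h4 hsol h1174 hSE) (hBal h) S h4 ht htt htA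

end Cfsg.Agent.TwoFusion.GoldMTwoAux
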