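import Cfsg.Agent.TwoFusion.GoldCen
import Cfsg.Agent.TwoFusion.GoldLFourBad
import Cfsg.Agent.TwoFusion.GoldLFour

/-!
# Goldschmidt's theorem, `|A| = 4`: conjugation of `cen 𝒜 e` and of `Simp A K`
-/

set_option autoImplicit false
set_option linter.style.haveILetI false

namespace Cfsg.Agent.TwoFusion.GoldRedConj

open Subgroup
open Cfsg.Agent.TwoFusion.ClosedFam
open Cfsg.Agent.TwoFusion.ClosedLocal Cfsg.Agent.TwoFusion.GoldCen
open Cfsg.Agent.TwoFusion.GoldLFourBad (Simp)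
open Cfsg.Agent.TwoFusion.GoldLFour (conj_mem_core' comm_conj)

variable {G : Type*} [Group G]

theorem conj_mem_cen {𝒜 : Set G} [Finite G] (hA : ∀ x ∈ 𝒜, ∀ g : G, g * x * g⁻¹ ∈ 𝒜) {w x : G} (n : G)
    (hx : x ∈ cen 𝒜 w) : n * x * n⁻¹ ∈ cen 𝒜 (n * w * n⁻¹) := by
  rw [mem_cen] at hx ⊢
  refine ⟨comm_conj n hx.1, fun k hk hkw => ?_⟩
  have hk' : n⁻¹ * k * n ∈ 𝒜 := by
    have := hA k hk n⁻¹
    rwa [inv_inv] at this
  have hkw' : (n⁻¹ * k * n) * w = w * (n⁻¹ * k * n) := by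
    have h1 := comm_conj n⁻¹ hkw
    have e : n⁻¹ * (n * w * n⁻¹) * n⁻¹⁻¹ = w := by group
    rw [e, inv_inv] at h1
    exact h1
  have h2 := conj_mem_core' n (hx.2 _ hk' hkw')
  have e1 : n * x * n⁻¹ * k * (n * x * n⁻¹)⁻¹ * k⁻¹ =
      n * (x * (n⁻¹ * k * n) * x⁻¹ * (n⁻¹ * k * n)⁻¹) * n⁻¹ := by group
  rw [e1]; exact h2

theorem conj_mem_cen_iff {𝒜 : Set G} [Finite G] (hA : ∀ x ∈ 𝒜, ∀ g : G, g * x * g⁻¹ ∈ 𝒜) {w x : G} (n : G) :
    n * x * n⁻¹ ∈ cen 𝒜 (n * w * n⁻¹) ↔ x ∈ cen 𝒜 w := by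
  refine ⟨fun h => ?_, conj_mem_cen hA n⟩
  have h1 := conj_mem_cen hA n⁻¹ h
  have e : n⁻¹ * (n * w * n⁻¹) * n⁻¹⁻¹ = w := by group
  have e' : n⁻¹ * (n * x * n⁻¹) * n⁻¹⁻¹ = x := by group
  rwa [e, e'] at h1

/-- `Simp A K` is invariant under conjugation. -/
theorem simp_map [Finite G] {A K : Subgroup G} (h : Simp A K) (n : G) :
    Simp (A.map (MulAut.conj n).toMonoidHom) (K.map (MulAut.conj n).toMonoidHom) := by
  have hinj : Function.Injective (MulAut.conj n).toMonoidHom := (MulAut.conj n).injective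
  have hfact : Fact (Nat.Prime 2) := ⟨Nat.prime_two⟩
  set K' := K.map (MulAut.conj n).toMonoidHom with hK'
  let φ : K ≃* K' := K.equivMapOfInjective _ hinj
  let ψ : K ⧸ Cfsg.oddCore K ≃* K' ⧸ Cfsg.oddCore K' :=
    QuotientGroup.congr (Cfsg.oddCore K) (Cfsg.oddCore K') φ (Cfsg.Agent.Lib.Cores.map_equiv_pPrimeCore φ 2)
  haveI := h.simple
  obtain ⟨P, hP⟩ := h.sylow
  have hAp : IsPGroup 2 (A.subgroupOf K) := by rw [← hP]; exact P.2
  have hAp' : IsPGroup 2 A := hAp.of_equiv (subgroupOfEquivOfLe h.le)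
  have hidx : ¬ 2 ∣ A.relIndex K := by
    have := P.not_dvd_index
    rw [hP] at this
    exact this
  refine ⟨Subgroup.map_mono h.le, ψ.symm.isSimpleGroup, ?_, ?_⟩
  · obtain ⟨x, y, hxy⟩ := h.nonab
    refine ⟨ψ x, ψ y, fun e => hxy (ψ.injective ?_)⟩
    rw [map_mul, map_mul, e]
  · have h1 : IsPGroup 2 ((A.map (MulAut.conj n).toMonoidHom).subgroupOf K') :=
      (hAp'.map _).comap_of_injective K'.subtype K'.subtype_injective
    refine ⟨h1.toSylow ?_, rfl⟩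
    change ¬ 2 ∣ (A.map (MulAut.conj n).toMonoidHom).relIndex K'
    rw [hK', relIndex_map_map_of_injective A K hinj]
    exact hidx

theorem simp_conj [Finite G] {𝒜 : Set G} (hA : IsClosedFam 𝒜) {A : Subgroup G} {e : G}
    (h : Simp A (fam 𝒜 (centralizer ({e} : Set G)))) {n : G} (hn : n ∈ normalizer (A : Set G)) :
    Simp A (fam 𝒜 (centralizer ({n * e * n⁻¹} : Set G))) := by
  have h1 := simp_map h n
  rw [hA.map_conj_fam] at h1
  have h2 : A.map (MulAut.conj n).toMonoidHom = A :=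
    Cfsg.Agent.Lib.GoldschmidtFusion.mem_normalizer_iff_map_conj.1 hn
  have h3 : (centralizer ({e} : Set G)).map (MulAut.conj n).toMonoidHom = centralizer ({n * e * n⁻¹} : Set G) := by
    ext x
    rw [Cfsg.Agent.Lib.GoldschmidtFusion.mem_map_conj, mem_centralizer_singleton_iff,
      mem_centralizer_singleton_iff]
    constructor
    · intro h4
      have := comm_conj n h4
      have e1 : n * (n⁻¹ * x * n) * n⁻¹ = x := by group
      rwa [e1] at this
    · intro h4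
      have := comm_conj n⁻¹ h4
      have e1 : n⁻¹ * (n * e * n⁻¹) * n⁻¹⁻¹ = e := by group
      rw [e1, inv_inv] at this
      exact this
  rwa [h2, h3] at h1

end Cfsg.Agent.TwoFusion.GoldRedConj
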