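import Cfsg.Agent.TwoFusion.GoldCenAct
import Cfsg.Agent.TwoFusion.GoldRedConj
import Cfsg.Agent.TwoFusion.GoldP

/-!
# Goldschmidt's theorem, `|A| = 4`: bad involutions with maximal centralizer in a Sylow 2-subgroup

`MaxPair 𝒜 S e`: `e ∈ S` is bad and `|C_S(e)|` is maximal among all such pairs `(S, e)`.  Then `P = C_S(e)` is
elementary abelian of order 8 or 16.
-/

set_option autoImplicit false
set_option linter.style.haveILetI false

namespace Cfsg.Agent.TwoFusion.GoldRedMax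

open Subgroup
open Cfsg.Agent.TwoFusion.ClosedFam Cfsg.Agent.TwoFusion.Gold Cfsg.Agent.TwoFusion.GoldSetup
open Cfsg.Agent.TwoFusion.ClosedLocal Cfsg.Agent.TwoFusion.GoldCen Cfsg.Agent.TwoFusion.GoldBad

universe u

variable {G : Type u} [Group G]

/-- The balance statement (B3) for the Sylow subgroup `S`. -/
def Bal (𝒜 : Set G) (A : Subgroup G) : Prop :=
  ∀ e f : G, Bad 𝒜 e → (∀ a ∈ A, a * e = e * a) → f * f = 1 → f ≠ 1 → f ∈ cen 𝒜 e → (∀ a ∈ A, a * f = f * a) →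
    Bad 𝒜 f ∧ ∀ p, (∃ k : ℕ, p ^ 2 ^ k = 1) → p * e = e * p → p * f = f * p → (∀ a ∈ A, p * a = a * p) →
      (p ∈ cen 𝒜 e ↔ p ∈ cen 𝒜 f)

/-- `e ∈ S` is bad and `|C_S(e)|` is maximal. -/
structure MaxPair (𝒜 : Set G) (S : Sylow 2 G) (e : G) : Prop where
  mem : e ∈ (S : Subgroup G)
  bad : Bad 𝒜 e
  max : ∀ (T : Sylow 2 G) (f : G), f ∈ (T : Subgroup G) → Bad 𝒜 f →
    Nat.card ((T : Subgroup G) ⊓ centralizer ({f} : Set G) : Subgroup G) ≤
      Nat.card ((S : Subgroup G) ⊓ centralizer ({e} : Set G) : Subgroup G)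

/-- `C_S(e)` -/
abbrev Pe (S : Sylow 2 G) (e : G) : Subgroup G := (S : Subgroup G) ⊓ centralizer ({e} : Set G)

/-- `C_S(e) ∩ cen 𝒜 e` -/
abbrev Re (𝒜 : Set G) (S : Sylow 2 G) (e : G) : Subgroup G := Pe S e ⊓ cen 𝒜 e

theorem exists_maxPair [Finite G] {𝒜 : Set G} (S : Sylow 2 G) {e : G} (he : e ∈ (S : Subgroup G)) (hb : Bad 𝒜 e) :
    ∃ (T : Sylow 2 G) (f : G), MaxPair 𝒜 T f := by
  classical
  let X : Set (Sylow 2 G × G) := {x | x.2 ∈ (x.1 : Subgroup G) ∧ Bad 𝒜 x.2}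
  have hne : X.Nonempty := ⟨(S, e), he, hb⟩
  obtain ⟨⟨T, f⟩, hx, hmax⟩ := Set.exists_max_image X
    (fun x : Sylow 2 G × G => Nat.card ((x.1 : Subgroup G) ⊓ centralizer ({x.2} : Set G) : Subgroup G))
    (Set.toFinite X) hne
  exact ⟨T, f, hx.1, hx.2, fun T' f' h1 h2 => hmax (T', f') ⟨h1, h2⟩⟩

theorem mem_Pe {S : Sylow 2 G} {e x : G} : x ∈ Pe S e ↔ x ∈ (S : Subgroup G) ∧ x * e = e * x := by
  rw [mem_inf, mem_cent]

theorem mem_Re {𝒜 : Set G} {S : Sylow 2 G} {e x : G} : x ∈ Re 𝒜 S e ↔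
    x ∈ (S : Subgroup G) ∧ x * e = e * x ∧ x ∈ cen 𝒜 e := by
  rw [mem_inf, mem_Pe, and_assoc]

theorem two_pow [Finite G] {S : Sylow 2 G} {p : G} (hp : p ∈ (S : Subgroup G)) : ∃ k : ℕ, p ^ 2 ^ k = 1 := by
  obtain ⟨k, hk⟩ := S.2 ⟨p, hp⟩
  exact ⟨k, congrArg Subtype.val hk⟩

section

variable [Finite G] {𝒜 : Set G} (h : Setup 𝒜) {S : Sylow 2 G} (h4 : Nat.card (fam 𝒜 (S : Subgroup G)) = 4)
  {e : G} (hm : MaxPair 𝒜 S e)

include h h4 hm

theorem comm_e : ∀ a ∈ fam 𝒜 (S : Subgroup G), a * e = e * a := fun a ha =>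
  (GoldFour.central h S h4 a ha e hm.mem).symm

theorem notMem : e ∉ fam 𝒜 (S : Subgroup G) := by
  intro he
  exact hm.bad.2.1 (GoldCenAct.eq_one_of_mem_cen h.fam S h4 hm.bad (comm_e h h4 hm) he GoldCenAct.self_mem_cen)

theorem fam_le_Pe : fam 𝒜 (S : Subgroup G) ≤ Pe S e := fun a ha => mem_Pe.2 ⟨fam_le _ _ ha, comm_e h h4 hm a ha⟩

omit [Finite G] h h4 in
theorem e_mem_Re : e ∈ Re 𝒜 S e := mem_Re.2 ⟨hm.mem, rfl, GoldCenAct.self_mem_cen⟩

theorem exists_mul_mem {p : G} (hp : p ∈ Pe S e) : ∃ a ∈ fam 𝒜 (S : Subgroup G), a * p ∈ Re 𝒜 S e := by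
  rw [mem_Pe] at hp
  obtain ⟨a, ha, hap⟩ := GoldCenAct.exists_mul_mem_cen h.fam S h4 hm.bad (comm_e h h4 hm) hp.2
    (fun a ha => GoldFour.central h S h4 a ha p hp.1) (two_pow hp.1)
  refine ⟨a, ha, mem_Re.2 ⟨mul_mem (fam_le _ _ ha) hp.1, ?_, hap⟩⟩
  rw [mul_assoc, hp.2, ← mul_assoc, comm_e h h4 hm a ha, mul_assoc]

theorem eq_one {a : G} (ha : a ∈ fam 𝒜 (S : Subgroup G)) (haR : a ∈ Re 𝒜 S e) : a = 1 :=
  GoldCenAct.eq_one_of_mem_cen h.fam S h4 hm.bad (comm_e h h4 hm) ha (mem_Re.1 haR).2.2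

omit [Finite G] h4 hm in
theorem conj_mem_Re {p r : G} (hp : p ∈ Pe S e) (hr : r ∈ Re 𝒜 S e) : p * r * p⁻¹ ∈ Re 𝒜 S e := by
  have hp' := mem_Pe.1 hp
  refine mem_inf.2 ⟨mul_mem (mul_mem hp (mem_inf.1 hr).1) (inv_mem hp), ?_⟩
  exact GoldCenAct.conj_mem_cen h.fam hp'.2 (mem_inf.1 hr).2

/-- Subgroups of Sylow subgroups centralizing an involution outside `𝒜` have order at most `|C_S(e)|`. -/
theorem card_le (hbad : ∀ (T : Sylow 2 G) (t : G), t ∈ (T : Subgroup G) → t * t = 1 → t ∉ fam 𝒜 (T : Subgroup G) →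
      ∃ a ∈ fam 𝒜 (T : Subgroup G), Bad 𝒜 (t * a))
    (T : Sylow 2 G) {u : G} (hu : u ∈ (T : Subgroup G)) (huu : u * u = 1) (huA : u ∉ fam 𝒜 (T : Subgroup G)) :
    ∃ f ∈ (T : Subgroup G), Bad 𝒜 f ∧ (∃ a ∈ fam 𝒜 (T : Subgroup G), f = u * a) ∧
      ∀ Q : Subgroup G, Q ≤ (T : Subgroup G) → (∀ q ∈ Q, q * u = u * q) →
        Q ≤ Pe T f ∧ Nat.card Q ≤ Nat.card (Pe S e) := by
  obtain ⟨a, ha, hb⟩ := hbad T u hu huu huA
  have h4T : Nat.card (fam 𝒜 (T : Subgroup G)) = 4 := by rw [card_fam_sylow h.fam.toIsClosedFam T S, h4]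
  have hf : u * a ∈ (T : Subgroup G) := mul_mem hu (fam_le _ _ ha)
  refine ⟨u * a, hf, hb, ⟨a, ha, rfl⟩, fun Q hQ hQu => ?_⟩
  have h1 : Q ≤ Pe T (u * a) := by
    intro q hq
    refine mem_Pe.2 ⟨hQ hq, ?_⟩
    have h2 := GoldFour.central h T h4T a ha q (hQ hq)
    rw [← mul_assoc, hQu q hq, mul_assoc, h2, ← mul_assoc]
  refine ⟨h1, (Subgroup.card_le_of_le h1).trans (hm.max T _ hf hb)⟩

/-- `P ≠ S` (Lemma P). -/
theorem ne (hC1 : GoldP.C1 G) : Pe S e ≠ (S : Subgroup G) := by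
  classical
  intro heq
  have hPe : ∀ s : (S : Subgroup G), (s : G) ∈ Pe S e := fun s => by rw [heq]; exact s.2
  choose f hf hfR using fun s : (S : Subgroup G) => exists_mul_mem h h4 hm (hPe s)
  have hcen := GoldFour.central h S h4
  have hsq := h.sq S
  -- uniqueness
  have huniq : ∀ (s : (S : Subgroup G)) (a : G), a ∈ fam 𝒜 (S : Subgroup G) → a * s ∈ Re 𝒜 S e → a = f s := by
    intro s a ha has
    have h1 : (a * s) * (f s * s)⁻¹ ∈ Re 𝒜 S e := mul_mem has (inv_mem (hfR s))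
    have e1 : (a * s) * (f s * (s : G))⁻¹ = a * (f s)⁻¹ := by group
    rw [e1] at h1
    exact mul_inv_eq_one.1 (eq_one h h4 hm (mul_mem ha (inv_mem (hf s))) h1)
  let π : (S : Subgroup G) →* fam 𝒜 (S : Subgroup G) :=
    { toFun := fun s => ⟨f s, hf s⟩
      map_one' := by
        apply Subtype.ext
        exact (huniq 1 1 (one_mem _) (by simp [one_mem])).symm
      map_mul' := by
        intro s t
        apply Subtype.ext
        change f (s * t) = f s * f t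
        refine (huniq (s * t) (f s * f t) (mul_mem (hf s) (hf t)) ?_).symm
        have e1 : f s * f t * ((s * t : (S : Subgroup G)) : G) = (f s * s) * (f t * t) := by
          have := hcen (f t) (hf t) s s.2
          calc f s * f t * ((s * t : (S : Subgroup G)) : G) = f s * (f t * s) * t := by
                rw [coe_mul]; group
            _ = f s * (s * f t) * t := by rw [this]
            _ = (f s * s) * (f t * t) := by group
        rw [e1]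
        exact mul_mem (hfR s) (hfR t) }
  have hπ : ∀ a (ha : a ∈ ClosedFam.fam 𝒜 (S : Subgroup G)), (π ⟨a, (h.sc S).1 ha⟩ : G) = a := by
    intro a ha
    change f ⟨a, _⟩ = a
    exact (huniq ⟨a, (h.sc S).1 ha⟩ a ha (by
      change a * a ∈ _
      rw [hsq a ha]; exact one_mem _)).symm
  exact notMem h h4 hm (GoldP.eq_of_split h S hC1 hcen π hπ hm.mem)

end

/-- A nontrivial normal subgroup of a 2-group contains a central involution. -/
theorem exists_central [Finite G] {Q R : Subgroup G} (hQ : IsPGroup 2 Q) (hRQ : R ≤ Q)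
    (hn : ∀ q ∈ Q, ∀ r ∈ R, q * r * q⁻¹ ∈ R) (hR : R ≠ ⊥) :
    ∃ f ∈ R, f ≠ 1 ∧ f * f = 1 ∧ ∀ q ∈ Q, q * f = f * q := by
  haveI : Fact (Nat.Prime 2) := ⟨Nat.prime_two⟩
  haveI hN : (R.subgroupOf Q).Normal := by
    refine ⟨fun y hy g => ?_⟩
    rw [mem_subgroupOf] at hy ⊢
    exact hn g g.2 y hy
  have hne : R.subgroupOf Q ≠ ⊥ := by
    intro hb
    apply hR
    rw [eq_bot_iff]
    intro x hx
    have : (⟨x, hRQ hx⟩ : Q) ∈ R.subgroupOf Q := hx
    rw [hb, mem_bot] at this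
    rw [mem_bot]
    exact congrArg Subtype.val this
  obtain ⟨z, hz, hzc, hz2⟩ := Cfsg.Agent.Involutions.NormalFour.exists_mem_center_of_normal hQ _ hne
  have hz2' : orderOf (z : G) = 2 := by rw [Subgroup.orderOf_coe]; exact hz2
  refine ⟨z, hz, ne_one hz2', mul_self hz2', fun q hq => ?_⟩
  exact congrArg Subtype.val (mem_center_iff.1 hzc ⟨q, hq⟩)

section

variable [Finite G] {𝒜 : Set G} (h : Setup 𝒜) {S : Sylow 2 G} (h4 : Nat.card (fam 𝒜 (S : Subgroup G)) = 4)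
  {e : G} (hm : MaxPair 𝒜 S e) (hbal : Bal 𝒜 (fam 𝒜 (S : Subgroup G)))

include h h4 hm hbal

/-- For an involution `v ∈ R` central in `P`: `v` is bad and `P ∩ cen 𝒜 v = R`. -/
theorem bad_and_iff {v : G} (hv : v ∈ Re 𝒜 S e) (hv1 : v ≠ 1) (hvv : v * v = 1)
    (hvc : ∀ p ∈ Pe S e, p * v = v * p) :
    Bad 𝒜 v ∧ ∀ p ∈ Pe S e, (p ∈ cen 𝒜 e ↔ p ∈ cen 𝒜 v) := by
  have hv' := mem_Re.1 hv
  have hcen := GoldFour.central h S h4
  obtain ⟨h1, h2⟩ := hbal e v hm.bad (comm_e h h4 hm) hvv hv1 hv'.2.2 (fun a ha => (hcen a ha v hv'.1).symm)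
  refine ⟨h1, fun p hp => ?_⟩
  have hp' := mem_Pe.1 hp
  exact h2 p (two_pow hp'.1) hp'.2 (hvc p hp) (fun a ha => hcen a ha p hp'.1)

/-- `R ∩ nRn⁻¹ = 1` for `n ∈ N_S(P) - P`. -/
theorem disj {n : G} (hnS : n ∈ (S : Subgroup G)) (hn : n ∈ normalizer (Pe S e : Set G)) (hnP : n ∉ Pe S e) :
    ∀ x ∈ Re 𝒜 S e, n⁻¹ * x * n ∈ Re 𝒜 S e → x = 1 := by
  classical
  haveI : Fact (Nat.Prime 2) := ⟨Nat.prime_two⟩
  set P := Pe S e with hP
  set R := Re 𝒜 S e with hR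
  have hPp : IsPGroup 2 P := S.2.to_le inf_le_left
  have hRP : R ≤ P := inf_le_left
  have hPn : ∀ p ∈ P, n * p * n⁻¹ ∈ P := fun p hp => (mem_normalizer_iff.1 hn p).1 hp
  have hPn' : ∀ p ∈ P, n⁻¹ * p * n ∈ P := fun p hp => by
    have := (mem_normalizer_iff.1 (inv_mem hn) p).1 hp
    rwa [inv_inv] at this
  let R' : Subgroup G := R.map (MulAut.conj n).toMonoidHom
  have hR' : ∀ x, x ∈ R' ↔ n⁻¹ * x * n ∈ R := fun x => mem_map_conj
  by_contra hcon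
  push Not at hcon
  obtain ⟨x, hx, hxR', hx1⟩ := hcon
  have hD : ∃ v ∈ R ⊓ R', v ≠ 1 ∧ v * v = 1 ∧ ∀ q ∈ P, q * v = v * q := by
    apply exists_central hPp (inf_le_left.trans hRP)
    · intro p hp r hr
      rw [mem_inf, hR'] at hr ⊢
      refine ⟨conj_mem_Re h hp hr.1, ?_⟩
      have e1 : n⁻¹ * (p * r * p⁻¹) * n = (n⁻¹ * p * n) * (n⁻¹ * r * n) * (n⁻¹ * p * n)⁻¹ := by group
      rw [e1]
      exact conj_mem_Re h (hPn' p hp) hr.2
    · intro hb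
      have : x ∈ R ⊓ R' := mem_inf.2 ⟨hx, (hR' x).2 hxR'⟩
      rw [hb, mem_bot] at this
      exact hx1 this
  obtain ⟨v, hv, hv1, hvv, hvc⟩ := hD
  have hvR := (mem_inf.1 hv).1
  have hwR : n⁻¹ * v * n ∈ R := (hR' v).1 (mem_inf.1 hv).2
  set w := n⁻¹ * v * n with hw
  have hw1 : w ≠ 1 := by
    intro hw1
    apply hv1
    have e1 : v = n * w * n⁻¹ := by rw [hw]; group
    rw [e1, hw1]; group
  have hww : w * w = 1 := by
    calc w * w = n⁻¹ * (v * v) * n := by rw [hw]; group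
      _ = 1 := by rw [hvv]; group
  have hwc : ∀ p ∈ P, p * w = w * p := by
    intro p hp
    have h1 := hvc _ (hPn p hp)
    calc p * w = n⁻¹ * ((n * p * n⁻¹) * v) * n := by rw [hw]; group
      _ = n⁻¹ * (v * (n * p * n⁻¹)) * n := by rw [h1]
      _ = w * p := by rw [hw]; group
  obtain ⟨-, hv2⟩ := bad_and_iff h h4 hm hbal hvR hv1 hvv hvc
  obtain ⟨-, hw2⟩ := bad_and_iff h h4 hm hbal hwR hw1 hww hwc
  -- `n` normalises `R`
  have hnR : ∀ r ∈ R, n * r * n⁻¹ ∈ R := by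
    intro r hr
    have hrP := hRP hr
    have h1 : r ∈ cen 𝒜 w := (hw2 r hrP).1 (mem_inf.1 hr).2
    have h2 := GoldRedConj.conj_mem_cen h.fam.conj_mem n h1
    have e1 : n * w * n⁻¹ = v := by rw [hw]; group
    rw [e1] at h2
    exact mem_inf.2 ⟨hPn r hrP, (hv2 _ (hPn r hrP)).2 h2⟩
  have hnR' : n ∈ normalizer (R : Set G) := by
    rw [Lib.GoldschmidtFusion.mem_normalizer_iff_map_conj]
    apply Subgroup.eq_of_le_of_card_ge
    · rintro _ ⟨r, hr, rfl⟩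
      exact hnR r hr
    · rw [Lib.GoldschmidtFusion.card_map_conj]
  set Q : Subgroup G := (S : Subgroup G) ⊓ normalizer (R : Set G) with hQ
  have hPQ : P ≤ Q := by
    intro p hp
    refine mem_inf.2 ⟨(mem_inf.1 hp).1, ?_⟩
    rw [Lib.GoldschmidtFusion.mem_normalizer_iff_map_conj]
    apply Subgroup.eq_of_le_of_card_ge
    · rintro _ ⟨r, hr, rfl⟩
      exact conj_mem_Re h hp hr
    · rw [Lib.GoldschmidtFusion.card_map_conj]
  have hnQ : n ∈ Q := mem_inf.2 ⟨hnS, hnR'⟩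
  have hQp : IsPGroup 2 Q := S.2.to_le inf_le_left
  obtain ⟨f, hfR, hf1, hff, hfc⟩ := exists_central hQp (hRP.trans hPQ)
    (fun q hq r hr => (mem_normalizer_iff.1 (mem_inf.1 hq).2 r).1 hr) (by
      intro hb
      have : x ∈ R := hx
      rw [hb, mem_bot] at this
      exact hx1 this)
  obtain ⟨hfb, -⟩ := bad_and_iff h h4 hm hbal hfR hf1 hff (fun p hp => hfc p (hPQ hp))
  have hlt : P < Q := lt_of_le_of_ne hPQ (fun e1 => hnP (by rw [e1]; exact hnQ))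
  have h1 : Q ≤ (S : Subgroup G) ⊓ centralizer ({f} : Set G) := fun q hq =>
    mem_inf.2 ⟨(mem_inf.1 hq).1, mem_cent.2 (hfc q hq)⟩
  have h2 := hm.max S f ((mem_Re.1 hfR).1) hfb
  have h3 := Subgroup.card_le_of_le h1
  have h5 : Nat.card P < Nat.card Q := by
    by_contra h5
    exact hlt.ne (Subgroup.eq_of_le_of_card_ge hlt.le (not_lt.1 h5))
  have h6 : Nat.card ((S : Subgroup G) ⊓ centralizer ({e} : Set G) : Subgroup G) = Nat.card P := rfl
  omega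

omit hbal in
/-- `|P| = 4 |R|`. -/
theorem card_Pe : Nat.card (Pe S e) = 4 * Nat.card (Re 𝒜 S e) := by
  classical
  have hcen := GoldFour.central h S h4
  let φ : fam 𝒜 (S : Subgroup G) × Re 𝒜 S e → Pe S e := fun x =>
    ⟨(x.1 : G) * x.2, mul_mem (fam_le_Pe h h4 hm x.1.2) (mem_inf.1 x.2.2).1⟩
  have hφ : Function.Bijective φ := by
    constructor
    · rintro ⟨⟨a, ha⟩, ⟨r, hr⟩⟩ ⟨⟨b, hb⟩, ⟨s, hs⟩⟩ hxy
      have h1 : a * r = b * s := congrArg Subtype.val hxy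
      have h2 : b⁻¹ * a = s * r⁻¹ := by
        calc b⁻¹ * a = b⁻¹ * (a * r) * r⁻¹ := by group
          _ = s * r⁻¹ := by rw [h1]; group
      have h3 : b⁻¹ * a = 1 := by
        apply eq_one h h4 hm (mul_mem (inv_mem hb) ha)
        rw [h2]; exact mul_mem hs (inv_mem hr)
      have h5 : a = b := (inv_mul_eq_one.1 h3).symm
      subst h5
      have h6 : r = s := mul_left_cancel h1
      subst h6
      rfl
    · rintro ⟨p, hp⟩
      obtain ⟨a, ha, hap⟩ := exists_mul_mem h h4 hm hp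
      refine ⟨(⟨a⁻¹, inv_mem ha⟩, ⟨a * p, hap⟩), Subtype.ext ?_⟩
      change a⁻¹ * (a * p) = p
      group
  rw [← Nat.card_congr (Equiv.ofBijective φ hφ), Nat.card_prod, h4]

/-- **The structure of `P = C_S(e)`.** -/
theorem structure_Pe (hC1 : GoldP.C1 G) :
    (∀ x ∈ Pe S e, x * x = 1) ∧ ((Nat.card (Re 𝒜 S e) = 2 ∧ Nat.card (Pe S e) = 8) ∨
      (Nat.card (Re 𝒜 S e) = 4 ∧ Nat.card (Pe S e) = 16)) := by
  classical
  haveI : Fact (Nat.Prime 2) := ⟨Nat.prime_two⟩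
  have hcen := GoldFour.central h S h4
  have hsq := h.sq S
  set P := Pe S e with hP
  set R := Re 𝒜 S e with hR
  set A := fam 𝒜 (S : Subgroup G) with hA
  have hPp : IsPGroup 2 P := S.2.to_le inf_le_left
  have hRP : R ≤ P := inf_le_left
  have hPS : P < (S : Subgroup G) := lt_of_le_of_ne inf_le_left (ne h h4 hm hC1)
  obtain ⟨n, hn, hnP⟩ := SetLike.exists_of_lt (Lib.GoldschmidtFusion.lt_inf_normalizer S.2 hPS)
  have hnS := (mem_inf.1 hn).1
  have hnN := (mem_inf.1 hn).2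
  have hdis := disj h h4 hm hbal hnS hnN hnP
  have hPn : ∀ p ∈ P, n * p * n⁻¹ ∈ P := fun p hp => (mem_normalizer_iff.1 hnN p).1 hp
  have hPn' : ∀ p ∈ P, n⁻¹ * p * n ∈ P := fun p hp => by
    have := (mem_normalizer_iff.1 (inv_mem hnN) p).1 hp
    rwa [inv_inv] at this
  -- every `r ∈ R` is `a r'` with `r' ∈ n R n⁻¹`
  have hdec : ∀ p ∈ P, ∃ a ∈ A, n⁻¹ * (a * p) * n ∈ R := by
    intro p hp
    obtain ⟨a, ha, har⟩ := exists_mul_mem h h4 hm (hPn' p hp)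
    refine ⟨a, ha, ?_⟩
    have h1 := hcen a ha n hnS
    have e1 : n⁻¹ * (a * p) * n = a * (n⁻¹ * p * n) := by
      calc n⁻¹ * (a * p) * n = n⁻¹ * (a * n) * (n⁻¹ * p * n) := by group
        _ = n⁻¹ * (n * a) * (n⁻¹ * p * n) := by rw [h1]
        _ = a * (n⁻¹ * p * n) := by group
    rw [e1]; exact har
  -- `R` has exponent two
  have hR2 : ∀ r ∈ R, r * r = 1 := by
    intro r hr
    obtain ⟨a, ha, har⟩ := hdec r (hRP hr)
    apply hdis (r * r) (mul_mem hr hr)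
    have h1 := mul_mem har har
    have h2 := hcen a ha r (mem_inf.1 (hRP hr)).1
    have e1 : n⁻¹ * (a * r) * n * (n⁻¹ * (a * r) * n) = n⁻¹ * (r * r) * n := by
      calc n⁻¹ * (a * r) * n * (n⁻¹ * (a * r) * n) = n⁻¹ * (a * (r * a) * r) * n := by group
        _ = n⁻¹ * ((a * a) * (r * r)) * n := by rw [h2]; group
        _ = n⁻¹ * (r * r) * n := by rw [hsq a ha, one_mul]
    rwa [e1] at h1
  have hP2 : ∀ x ∈ P, x * x = 1 := by
    intro p hp
    obtain ⟨a, ha, har⟩ := exists_mul_mem h h4 hm hp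
    have h1 := hR2 _ har
    have h2 := hcen a ha p (mem_inf.1 hp).1
    calc p * p = (a * a) * (p * p) := by rw [hsq a ha, one_mul]
      _ = a * (a * p) * p := by group
      _ = a * (p * a) * p := by rw [h2]
      _ = (a * p) * (a * p) := by group
      _ = 1 := h1
  -- `|R| ≤ 4`
  have hR4 : Nat.card R ≤ 4 := by
    choose f hf hfR using fun r : R => hdec r (hRP r.2)
    rw [← h4]
    apply Nat.card_le_card_of_injective (fun r : R => (⟨f r, hf r⟩ : A))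
    intro r s hrs
    have h1 : f r = f s := congrArg Subtype.val hrs
    have h2 := mul_mem (hfR r) (inv_mem (hfR s))
    have hfi : (f r)⁻¹ = f r := inv_eq_of_mul_eq_one_right (hsq _ (hf r))
    have e1 : n⁻¹ * (f r * r) * n * (n⁻¹ * (f s * s) * n)⁻¹ = n⁻¹ * (r * (s : G)⁻¹) * n := by
      rw [← h1]
      have h3 := hcen (f r) (hf r) (r * (s : G)⁻¹) (mem_inf.1 (hRP (mul_mem r.2 (inv_mem s.2)))).1
      calc n⁻¹ * (f r * r) * n * (n⁻¹ * (f r * s) * n)⁻¹ = n⁻¹ * (f r * (r * (s : G)⁻¹) * (f r)⁻¹) * n := by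
            group
        _ = n⁻¹ * (r * (s : G)⁻¹ * f r * (f r)⁻¹) * n := by rw [h3]
        _ = n⁻¹ * (r * (s : G)⁻¹) * n := by group
    rw [e1] at h2
    have h3 := hdis _ (mul_mem r.2 (inv_mem s.2)) h2
    exact Subtype.ext (mul_inv_eq_one.1 h3)
  have hc := card_Pe h h4 hm
  have hRp : IsPGroup 2 R := hPp.to_le hRP
  obtain ⟨k, hk⟩ := IsPGroup.iff_card.1 hRp
  have hk1 : 2 ≤ Nat.card R := by
    have hne : Nontrivial R := by
      refine ⟨⟨e, e_mem_Re hm⟩, 1, fun e1 => hm.bad.2.1 (congrArg Subtype.val e1)⟩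
    exact Finite.one_lt_card_iff_nontrivial.2 hne
  refine ⟨hP2, ?_⟩
  rcases k with _ | _ | _ | k
  · rw [hk] at hk1; omega
  · left
    constructor
    · rw [hk]; norm_num
    · rw [hc, hk]; norm_num
  · right
    constructor
    · rw [hk]; norm_num
    · rw [hc, hk]; norm_num
  · exfalso
    rw [hk, pow_succ, pow_succ, pow_succ] at hR4
    have : 1 ≤ 2 ^ k := Nat.one_le_two_pow
    omega

end

end Cfsg.Agent.TwoFusion.GoldRedMax
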