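import Cfsg.Agent.TwoFusion.GoldW
import Cfsg.Agent.TwoFusion.GoldSetup
import Cfsg.Agent.TwoFusion.ClosedCommutator

/-!
# Goldschmidt's theorem: case (W) cannot occur

The glue between `GoldSetup.Setup` and `GoldW.CaseW`.
-/

set_option autoImplicit false
set_option linter.style.haveILetI false

namespace Cfsg.Agent.TwoFusion.GoldWEnd

open Subgroup
open Cfsg.Agent.TwoFusion.ClosedFam Cfsg.Agent.TwoFusion.Gold Cfsg.Agent.TwoFusion.GoldSetup
open Cfsg.Agent.TwoFusion.GoldW

universe u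

variable {G : Type u} [Group G] [Finite G] {𝒜 : Set G}

/-- weak closure, in the form used by `CaseW` -/
theorem weak_of_commute (h : Setup 𝒜) (S : Sylow 2 G) (g : G)
    (hg : ∀ a ∈ ClosedFam.fam 𝒜 (S : Subgroup G), ∀ b ∈ ClosedFam.fam 𝒜 (S : Subgroup G),
      g * a * g⁻¹ * b = b * (g * a * g⁻¹)) :
    g ∈ normalizer (ClosedFam.fam 𝒜 (S : Subgroup G) : Set G) := by
  haveI : Fact (Nat.Prime 2) := ⟨Nat.prime_two⟩
  set A := ClosedFam.fam 𝒜 (S : Subgroup G) with hA
  set A' := A.map (MulAut.conj g).toMonoidHom with hA'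
  have hc : ∀ x ∈ A', ∀ y ∈ A, x * y = y * x := by
    rintro _ ⟨a, ha, rfl⟩ b hb
    exact hg a ha b hb
  have hAp : IsPGroup 2 A := S.2.to_le (fam_le _ _)
  have hn : A' ≤ normalizer (A : Set G) := by
    refine ClosedFour.le_normalizer_of_conj fun x hx y hy => ?_
    rw [hc x hx y hy]
    simpa using hy
  refine h.weak S (Q := A ⊔ A') ?_ le_sup_left le_sup_right
  exact hAp.to_sup_of_normal_left' (hAp.map _) hn

/-- **Case (W) does not occur.** -/
theorem false_of_caseW (h : Setup 𝒜) (S : Sylow 2 G) (h1174 : SE1174 G)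
    {ι : Type*} {B : ι → Subgroup G} (hW : CaseW (ClosedFam.fam 𝒜 (S : Subgroup G)) B) (i₀ : ι) : False := by
  haveI := h.simple
  obtain ⟨M, hM, hle⟩ := hW.exists_proper ClosedCommutator.complete i₀
  exact h.false_of_cent_le S h1174 hM hle

end Cfsg.Agent.TwoFusion.GoldWEnd
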