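import Cfsg.Agent.TwoFusion.ClosedFunctor

/-!
# The core-separated signalizer functor depends only on two involutions

`ClosedFunctor` proves this for the four-groups of a minimal pair of closed families; the computation only uses that
the two four-groups are core-separated and that the functor is complete. Here it is for such four-groups, and then for
two "long" commuting groups `P, Q` all of whose pairs of four-subgroups are core-separated: `Wab x y` does not depend
on `x ∈ P#`, `y ∈ Q#`.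
-/

set_option autoImplicit false
set_option linter.style.haveILetI false
set_option maxHeartbeats 400000

namespace Cfsg.Agent.TwoFusion.GoldWFunctor

open Subgroup
open scoped commutatorElement
open Cfsg.Agent.TwoFusion.ClosedFam Cfsg.Agent.TwoFusion.ClosedSimple Cfsg.Agent.TwoFusion.ClosedMin
open Cfsg.Agent.Lib.CoprimeCommutator
open Cfsg.Agent.TwoFusion.ClosedFour Cfsg.Agent.TwoFusion.ClosedFunctor

variable {G : Type*} [Group G]

/-- Two commuting core-separated four-groups. -/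
structure CS (E F : Subgroup G) : Prop where
  left : Four Set.univ E
  right : Four Set.univ F
  comm : ∀ x ∈ E, ∀ y ∈ F, x * y = y * x
  disj : E ⊓ F = ⊥
  cs : Cfsg.IsCoreSeparated E F

theorem isCoreSeparated_symm {E F : Subgroup G} (h : Cfsg.IsCoreSeparated E F) : Cfsg.IsCoreSeparated F E := by
  obtain ⟨h1, h2, h3, h4, h5, h6, h7, h8⟩ := h
  refine ⟨h2, h1, h4, h3, Ne.symm h5, by rw [inf_comm]; exact h6, fun x hx y hy => (h7 y hy x hx).symm, ?_⟩
  intro a ha ha1 L hL
  rw [sup_comm] at ha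
  exact (h8 a ha ha1 L hL).symm

namespace CS

variable {E F : Subgroup G}

theorem symm (h : CS E F) : CS F E :=
  ⟨h.right, h.left, fun x hx y hy => (h.comm y hy x hx).symm, by rw [inf_comm]; exact h.disj,
    isCoreSeparated_symm h.cs⟩

theorem fours (h : CS E F) : Fours Set.univ Set.univ E F := ⟨h.left, h.right, h.comm⟩

theorem mul_ne_one (h : CS E F) {x y : G} (hx : x ∈ E) (hx1 : x ≠ 1) (hy : y ∈ F) : x * y ≠ 1 := by
  intro e
  apply hx1
  have h1 : x = y⁻¹ := eq_inv_of_mul_eq_one_left e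
  have h2 : x ∈ E ⊓ F := ⟨hx, by rw [h1]; exact F.inv_mem hy⟩
  rw [h.disj] at h2
  exact mem_bot.1 h2

variable [Finite G] (hC : Complete G) (h : CS E F)
include hC h

omit [Finite G] in
theorem vc_odd : Odd (Nat.card (Vc E F)) := (hC E F h.cs).1

omit [Finite G] in
theorem vc_inf {a : G} (ha : a ∈ E ⊔ F) (ha1 : a ≠ 1) :
    Vc E F ⊓ centralizer ({a} : Set G) = theta E F a := (hC E F h.cs).2.1 a ha ha1

omit [Finite G] in
theorem le_normalizer_vc : E ⊔ F ≤ normalizer (Vc E F : Set G) := (hC E F h.cs).2.2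

omit [Finite G] in
theorem theta_le_vc {a : G} (ha : a ∈ E ⊔ F) (ha1 : a ≠ 1) : theta E F a ≤ Vc E F := by
  rw [← vc_inf hC h ha ha1]
  exact inf_le_left

omit [Finite G] in
theorem le_normalizer_theta {a : G} (ha : a ∈ E ⊔ F) (ha1 : a ≠ 1) :
    E ⊔ F ≤ normalizer (theta E F a : Set G) := by
  rw [← vc_inf hC h ha ha1]
  refine le_normalizer_inf (le_normalizer_vc hC h) ?_
  refine (show E ⊔ F ≤ centralizer ({a} : Set G) from fun g hg => ?_).trans le_normalizer
  exact mem_centralizer_singleton.2 (comm_sup h.left h.right h.comm g hg a ha)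

/-- `C_W(x)`, for `x ∈ E`, is `T(x; y)` for every `y ∈ F`. -/
theorem theta_eq_T {x y : G} (hx : x ∈ E) (hx1 : x ≠ 1) (hy : y ∈ F) (hy1 : y ≠ 1) :
    theta E F x = T x y := by
  have hEF := h.fours
  have hth := Fours.theta_eq hEF hx
  have hFx : F ≤ normalizer (Oc x : Set G) := Fours.le_normalizer_Oc' fun g hg => (hEF.comm x hx g hg).symm
  have hFy : F ≤ normalizer (Oc y : Set G) := Fours.le_normalizer_Oc' fun g hg => hEF.right.comm g hg y hy
  have hle : theta E F x ≤ Oc x := by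
    rw [hth]
    exact sup_le (commutator_le_left hFx) inf_le_left
  have h2 : Oc x ⊓ Oc y ≤ theta E F x := by
    rw [hth]
    refine (le_commutator_sup hEF.right.isPGroup
      (Odd.of_dvd_nat (Oc_odd x) (card_dvd_of_le inf_le_left)) (le_normalizer_inf hFx hFy)).trans ?_
    refine sup_le_sup (commutator_mono inf_le_left le_rfl) (le_inf (inf_le_left.trans inf_le_left) ?_)
    refine le_trans ?_ (Fours.Oc_inf_centralizer_le (E := F) hy)
    exact le_inf (inf_le_left.trans inf_le_right) inf_le_right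
  have hyF : zpowers y ≤ F := by rw [zpowers_le]; exact hy
  have hxs : x ∈ E ⊔ F := mem_sup_left hx
  have hys : y ∈ E ⊔ F := mem_sup_right hy
  apply le_antisymm
  · have h3 : theta E F x ⊓ centralizer ({y} : Set G) ≤ Oc x ⊓ Oc y := by
      refine le_inf (inf_le_left.trans hle) ?_
      have h4 : theta E F x ⊓ centralizer ({y} : Set G) ≤ theta E F y := by
        rw [← vc_inf hC h hys hy1]
        exact inf_le_inf (theta_le_vc hC h hxs hx1) le_rfl
      refine h4.trans ?_
      rw [theta_comm, Fours.theta_eq hEF.symm hy]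
      refine sup_le (commutator_le_left ?_) inf_le_left
      exact Fours.le_normalizer_Oc' fun g hg => hEF.comm g hg y hy
    refine (le_commutator_sup (Fours.isPGroup_zpowers_of_sq (hEF.right.sq y hy))
      (Odd.of_dvd_nat (Oc_odd x) (card_dvd_of_le hle))
      ((hyF.trans le_sup_right).trans (le_normalizer_theta hC h hxs hx1))).trans ?_
    rw [Fours.centralizer_zpowers]
    exact sup_le_sup (commutator_mono hle le_rfl) h3
  · refine sup_le ?_ h2
    rw [hth]
    exact (commutator_mono le_rfl hyF).trans le_sup_left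

theorem vc_inf_centralizer_left {x y : G} (hx : x ∈ E) (hx1 : x ≠ 1) (hy : y ∈ F) (hy1 : y ≠ 1) :
    Vc E F ⊓ centralizer ({x} : Set G) = T x y := by
  rw [vc_inf hC h (mem_sup_left hx) hx1, theta_eq_T hC h hx hx1 hy hy1]

theorem vc_inf_centralizer_right {x y : G} (hx : x ∈ E) (hx1 : x ≠ 1) (hy : y ∈ F) (hy1 : y ≠ 1) :
    Vc E F ⊓ centralizer ({y} : Set G) = T y x := by
  rw [Vc_comm]
  exact vc_inf_centralizer_left hC h.symm hy hy1 hx hx1

omit [Finite G] in
/-- `[O_{xy}, y] ≤ W` -/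
theorem commutator_le_vc {x y : G} (hx : x ∈ E) (hx1 : x ≠ 1) (hy : y ∈ F) :
    ⁅Oc (x * y), zpowers y⁆ ≤ Vc E F := by
  have hEF := h.fours
  have hz : x * y ∈ E ⊔ F := mul_mem (mem_sup_left hx) (mem_sup_right hy)
  refine le_trans ?_ (theta_le_vc hC h hz (h.mul_ne_one hx hx1 hy))
  rw [Subgroup.commutator_le]
  intro v hv w hw
  rcases Fours.zpowers_eq_of_sq (hEF.right.sq y hy) hw with rfl | rfl
  · rw [commutatorElement_one_right]; exact one_mem _
  have hvz : v * (x * w) = (x * w) * v := mem_centralizer_singleton.1 (Oc_le _ hv)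
  have hww : w * w = 1 := hEF.right.sq w hy
  have hxw : x * w = w * x := hEF.comm x hx w hy
  have e : ⁅v, w⁆ = ⁅v, x⁆ := by
    have key : ∀ z : G, w = z * x → v * z = z * v → z * x = x * z →
        v * w * v⁻¹ * w⁻¹ = v * x * v⁻¹ * x⁻¹ := by
      intro z hz1 hz2 hz3
      have c1 : Commute z v := hz2.symm
      have c2 : Commute z x := hz3
      have c3 : Commute z (v * x * v⁻¹ * x⁻¹) :=
        ((c1.mul_right c2).mul_right c1.inv_right).mul_right c2.inv_right
      calc v * w * v⁻¹ * w⁻¹ = (v * z) * x * v⁻¹ * x⁻¹ * z⁻¹ := by rw [hz1]; group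
        _ = z * (v * x * v⁻¹ * x⁻¹) * z⁻¹ := by rw [hz2]; group
        _ = v * x * v⁻¹ * x⁻¹ := by rw [c3.eq]; group
    have hxx : x * x = 1 := hEF.left.sq x hx
    rw [commutatorElement_def, commutatorElement_def]
    refine key (x * w) ?_ hvz ?_
    · rw [hxw, mul_assoc, hxx, mul_one]
    · calc x * w * x = x * (w * x) := by group
        _ = x * (x * w) := by rw [hxw]
  refine mem_inf.2 ⟨mem_sup_left ?_, mem_sup_left ?_⟩
  · rw [e]; exact commutator_mem_commutator hv hx
  · exact commutator_mem_commutator hv hy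

/-- The closure of the functor depends only on two involutions. -/
theorem vc_eq_Wab {x y : G} (hx : x ∈ E) (hx1 : x ≠ 1) (hy : y ∈ F) (hy1 : y ≠ 1) :
    Vc E F = Wab x y := by
  have hEF := h.fours
  have hxs : x ∈ E ⊔ F := mem_sup_left hx
  have hys : y ∈ E ⊔ F := mem_sup_right hy
  have hz : x * y ∈ E ⊔ F := mul_mem hxs hys
  have hz1 := h.mul_ne_one hx hx1 hy
  have hn := le_normalizer_vc hC h
  apply le_antisymm
  · refine Cfsg.Agent.Lib.KleinGen.le_of_klein (Vc E F) _ (vc_odd hC h) x y (hEF.left.sq x hx)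
      (hEF.right.sq y hy) (hEF.comm x hx y hy) (fun g hg => conj_mem_of_le_normalizer hn hxs hg)
      (fun g hg => conj_mem_of_le_normalizer hn hys hg) ?_ ?_ ?_
    · rw [vc_inf_centralizer_left hC h hx hx1 hy hy1]
      exact le_sup_left.trans le_sup_left
    · rw [vc_inf_centralizer_right hC h hx hx1 hy hy1]
      exact le_sup_right.trans le_sup_left
    · rw [vc_inf hC h hz hz1]
      have hth : theta E F (x * y) ≤ Oc (x * y) := by
        refine inf_le_left.trans (sup_le (commutator_le_left ?_) inf_le_left)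
        exact Fours.le_normalizer_Oc' fun g hg =>
          comm_sup hEF.left hEF.right hEF.comm g (mem_sup_left hg) _ hz
      refine (le_commutator_sup (Fours.isPGroup_zpowers_of_sq (hEF.right.sq y hy))
        (Odd.of_dvd_nat (Oc_odd _) (card_dvd_of_le hth)) ?_).trans ?_
      · refine le_trans ?_ (le_normalizer_theta hC h hz hz1)
        rw [zpowers_le]; exact hys
      · refine sup_le ((commutator_mono hth le_rfl).trans le_sup_right) ?_
        rw [Fours.centralizer_zpowers]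
        refine le_trans ?_ (le_sup_right.trans le_sup_left : T y x ≤ Wab x y)
        rw [← vc_inf_centralizer_right hC h hx hx1 hy hy1]
        exact inf_le_inf (theta_le_vc hC h hz hz1) le_rfl
  · refine sup_le (sup_le ?_ ?_) (commutator_le_vc hC h hx hx1 hy)
    · rw [← vc_inf_centralizer_left hC h hx hx1 hy hy1]; exact inf_le_left
    · rw [← vc_inf_centralizer_right hC h hx hx1 hy hy1]; exact inf_le_left

end CS

/-! ### Larger groups -/

/-- a four-group containing two given involutions of an elementary abelian group of order at least 4 -/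
theorem exists_four_le [Finite G] {P : Subgroup G} (hsq : ∀ a ∈ P, a * a = 1)
    (hcomm : ∀ a ∈ P, ∀ b ∈ P, a * b = b * a) (hcard : 4 ≤ Nat.card P) {x x' : G} (hx : x ∈ P) (hx' : x' ∈ P)
    (hx1 : x ≠ 1) (hx'1 : x' ≠ 1) :
    ∃ E : Subgroup G, E ≤ P ∧ Four Set.univ E ∧ x ∈ E ∧ x' ∈ E := by
  classical
  -- an element `y ∈ P`, `y ≠ 1, x` with `x' ∈ {x, y}`
  have hex : ∃ y ∈ P, y ≠ 1 ∧ y ≠ x ∧ (x' = x ∨ x' = y) := by
    by_cases he : x' = x
    · by_contra hcon
      push Not at hcon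
      have h1 : (P : Set G) ⊆ {1, x} := by
        intro y hy
        by_contra h2
        simp only [Set.mem_insert_iff, Set.mem_singleton_iff, not_or] at h2
        exact (hcon y hy h2.1 h2.2).1 he
      have h2 : Nat.card P ≤ Nat.card ({1, x} : Set G) := Nat.card_mono (Set.toFinite _) h1
      have h3 : Nat.card ({1, x} : Set G) ≤ 2 := by
        rw [Nat.card_coe_set_eq, Set.ncard_pair (Ne.symm hx1)]
      omega
    · exact ⟨x', hx', hx'1, he, Or.inr rfl⟩
  obtain ⟨y, hy, hy1, hyx, hxy⟩ := hex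
  have hxx := hsq x hx
  have hyy := hsq y hy
  have hc := hcomm x hx y hy
  let E := WreathedFour.klein x y hxx hyy hc
  have hE : IsKleinFour E := WreathedFour.isKleinFour_klein x y hxx hyy hc hx1 hy1 (Ne.symm hyx)
  have hmem : ∀ z, z ∈ E ↔ z = 1 ∨ z = x ∨ z = y ∨ z = x * y := fun z => Iff.rfl
  have hEP : E ≤ P := by
    intro z hz
    rcases (hmem z).1 hz with rfl | rfl | rfl | rfl
    · exact one_mem P
    · exact hx
    · exact hy
    · exact mul_mem hx hy
  have hxE : x ∈ E := (hmem x).2 (Or.inr (Or.inl rfl))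
  refine ⟨E, hEP, ⟨fun a ha b hb => hcomm a (hEP ha) b (hEP hb), fun a ha => hsq a (hEP ha), hE.card_four,
    fun _ _ => Set.mem_univ _⟩, hxE, ?_⟩
  rcases hxy with rfl | rfl
  · exact hxE
  · exact (hmem _).2 (Or.inr (Or.inr (Or.inl rfl)))

/-- Two commuting elementary abelian groups of order at least 4, meeting trivially, with all pairs of four-subgroups
core-separated. -/
structure SepPair (P Q : Subgroup G) : Prop where
  sqL : ∀ a ∈ P, a * a = 1
  sqR : ∀ a ∈ Q, a * a = 1
  commL : ∀ a ∈ P, ∀ b ∈ P, a * b = b * a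
  commR : ∀ a ∈ Q, ∀ b ∈ Q, a * b = b * a
  comm : ∀ a ∈ P, ∀ b ∈ Q, a * b = b * a
  disj : P ⊓ Q = ⊥
  cardL : 4 ≤ Nat.card P
  cardR : 4 ≤ Nat.card Q
  cs : ∀ E F : Subgroup G, E ≤ P → F ≤ Q → Nat.card E = 4 → Nat.card F = 4 → Cfsg.IsCoreSeparated E F

namespace SepPair

variable {P Q : Subgroup G}

theorem symm (h : SepPair P Q) : SepPair Q P where
  sqL := h.sqR
  sqR := h.sqL
  commL := h.commR
  commR := h.commL
  comm a ha b hb := (h.comm b hb a ha).symm
  disj := by rw [inf_comm]; exact h.disj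
  cardL := h.cardR
  cardR := h.cardL
  cs E F hE hF hE4 hF4 := isCoreSeparated_symm (h.cs F E hF hE hF4 hE4)

variable [Finite G] (h : SepPair P Q)
include h

theorem exists_cs {x x' y y' : G} (hx : x ∈ P) (hx' : x' ∈ P) (hy : y ∈ Q) (hy' : y' ∈ Q) (hx1 : x ≠ 1)
    (hx'1 : x' ≠ 1) (hy1 : y ≠ 1) (hy'1 : y' ≠ 1) :
    ∃ E F : Subgroup G, CS E F ∧ E ≤ P ∧ F ≤ Q ∧ x ∈ E ∧ x' ∈ E ∧ y ∈ F ∧ y' ∈ F := by
  obtain ⟨E, hEP, hE, hxE, hx'E⟩ := exists_four_le h.sqL h.commL h.cardL hx hx' hx1 hx'1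
  obtain ⟨F, hFQ, hF, hyF, hy'F⟩ := exists_four_le h.sqR h.commR h.cardR hy hy' hy1 hy'1
  refine ⟨E, F, ⟨hE, hF, fun a ha b hb => h.comm a (hEP ha) b (hFQ hb), ?_, h.cs E F hEP hFQ hE.card hF.card⟩,
    hEP, hFQ, hxE, hx'E, hyF, hy'F⟩
  rw [eq_bot_iff, ← h.disj]
  exact inf_le_inf hEP hFQ

variable (hC : Complete G)
include hC

/-- `Wab x y` does not depend on `x ∈ P#`, `y ∈ Q#`. -/
theorem wab_eq {x x' y y' : G} (hx : x ∈ P) (hx' : x' ∈ P) (hy : y ∈ Q) (hy' : y' ∈ Q) (hx1 : x ≠ 1)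
    (hx'1 : x' ≠ 1) (hy1 : y ≠ 1) (hy'1 : y' ≠ 1) : Wab x y = Wab x' y' := by
  obtain ⟨E, F, hEF, -, -, hxE, hx'E, hyF, hy'F⟩ := h.exists_cs hx hx' hy hy' hx1 hx'1 hy1 hy'1
  rw [← CS.vc_eq_Wab hC hEF hxE hx1 hyF hy1, CS.vc_eq_Wab hC hEF hx'E hx'1 hy'F hy'1]

theorem wab_comm {x y : G} (hx : x ∈ P) (hy : y ∈ Q) (hx1 : x ≠ 1) (hy1 : y ≠ 1) : Wab x y = Wab y x := by
  obtain ⟨E, F, hEF, -, -, hxE, -, hyF, -⟩ := h.exists_cs hx hx hy hy hx1 hx1 hy1 hy1
  rw [← CS.vc_eq_Wab hC hEF hxE hx1 hyF hy1, Vc_comm, CS.vc_eq_Wab hC hEF.symm hyF hy1 hxE hx1]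

theorem wab_odd {x y : G} (hx : x ∈ P) (hy : y ∈ Q) (hx1 : x ≠ 1) (hy1 : y ≠ 1) :
    Odd (Nat.card (Wab x y)) := by
  obtain ⟨E, F, hEF, -, -, hxE, -, hyF, -⟩ := h.exists_cs hx hx hy hy hx1 hx1 hy1 hy1
  rw [← CS.vc_eq_Wab hC hEF hxE hx1 hyF hy1]
  exact CS.vc_odd hC hEF

end SepPair

/-- if the closure is trivial, `[O_x, y] = 1` -/
theorem commutator_eq_bot {x y : G} (hW : Wab x y = ⊥) : ⁅Oc x, zpowers y⁆ = ⊥ := by
  rw [eq_bot_iff, ← hW]
  exact (le_sup_left : ⁅Oc x, zpowers y⁆ ≤ T x y).trans (le_sup_left.trans le_sup_left)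

end Cfsg.Agent.TwoFusion.GoldWFunctor
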