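import Cfsg.Prelude.Def_TwoFusion
import Cfsg.Prelude.Def_CaseTheorems
import Cfsg.Agent.S1250

/-!
# The largest normal subgroup in which `A` cuts out a Sylow subgroup

For a subgroup `A` of a finite group `G` the normal subgroups `N` such that `A ∩ N` has odd index in `N` form
a lattice ideal; so there is a largest one, `N₀`.  For `A` strongly closed in a Sylow `2`-subgroup the image of
`A` in `G ⧸ N₀` satisfies the hypotheses of Foote's theorem (S1252).
-/

set_option autoImplicit false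

namespace Cfsg.Agent.TwoFusion.LargestSylowNormal

open Subgroup

universe u

variable {G : Type u} [Group G]

/-- for `N ≤ L` normal, the index of `L` in `LK` only depends on the index of `L` in `K` -/
theorem relIndex_map_of_le (N : Subgroup G) [N.Normal] {L : Subgroup G} (hNL : N ≤ L) (K : Subgroup G) :
    (L.map (QuotientGroup.mk' N)).relIndex (K.map (QuotientGroup.mk' N)) = L.relIndex K := by
  have h := Subgroup.relIndex_comap (L.map (QuotientGroup.mk' N)) (QuotientGroup.mk' N) K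
  rw [Subgroup.comap_map_eq, QuotientGroup.ker_mk', sup_eq_left.2 hNL] at h
  exact h.symm

theorem relIndex_map (A N K : Subgroup G) [N.Normal] :
    (A.map (QuotientGroup.mk' N)).relIndex (K.map (QuotientGroup.mk' N)) = (A ⊔ N).relIndex K := by
  have h := relIndex_map_of_le N (L := A ⊔ N) le_sup_right K
  rw [Subgroup.map_sup] at h
  have hN : N.map (QuotientGroup.mk' N) = ⊥ := by
    rw [Subgroup.map_eq_bot_iff, QuotientGroup.ker_mk']
  rwa [hN, sup_bot_eq] at h

/-- `|BN : B| = |N : B ∩ N|` -/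
theorem relIndex_sup_self [Finite G] (B N : Subgroup G) [N.Normal] : B.relIndex (B ⊔ N) = B.relIndex N := by
  have h1 : N.relIndex (B ⊔ N) = N.relIndex B := relIndex_sup_right (H := B) (K := N)
  have c1 : Nat.card (B ⊔ N : Subgroup G) = Nat.card N * N.relIndex (B ⊔ N) := by
    have := Subgroup.card_mul_index (N.subgroupOf (B ⊔ N))
    rw [← this, Nat.card_congr (Subgroup.subgroupOfEquivOfLe (le_sup_right : N ≤ B ⊔ N)).toEquiv]
    rfl
  have c2 : Nat.card B = Nat.card (N ⊓ B : Subgroup G) * N.relIndex B := by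
    have := Subgroup.card_mul_index ((N ⊓ B).subgroupOf B)
    rw [← this, Nat.card_congr (Subgroup.subgroupOfEquivOfLe (inf_le_right : N ⊓ B ≤ B)).toEquiv]
    congr 1
    exact inf_relIndex_right N B
  have c3 : Nat.card (B ⊔ N : Subgroup G) = Nat.card B * B.relIndex (B ⊔ N) := by
    have := Subgroup.card_mul_index (B.subgroupOf (B ⊔ N))
    rw [← this, Nat.card_congr (Subgroup.subgroupOfEquivOfLe (le_sup_left : B ≤ B ⊔ N)).toEquiv]
    rfl
  have c4 : Nat.card N = Nat.card (B ⊓ N : Subgroup G) * B.relIndex N := by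
    have := Subgroup.card_mul_index ((B ⊓ N).subgroupOf N)
    rw [← this, Nat.card_congr (Subgroup.subgroupOfEquivOfLe (inf_le_right : B ⊓ N ≤ N)).toEquiv]
    congr 1
    exact inf_relIndex_right B N
  have e : Nat.card (N ⊓ B : Subgroup G) = Nat.card (B ⊓ N : Subgroup G) := by rw [inf_comm]
  have p1 : 0 < Nat.card (B ⊓ N : Subgroup G) := Nat.card_pos
  have p2 : 0 < N.relIndex B := by
    rcases Nat.eq_zero_or_pos (N.relIndex B) with h | h
    · rw [h, mul_zero] at c2
      exact absurd c2 (Nat.card_pos (α := B)).ne'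
    · exact h
  have key : Nat.card (B ⊓ N : Subgroup G) * N.relIndex B * B.relIndex (B ⊔ N) =
      Nat.card (B ⊓ N : Subgroup G) * N.relIndex B * B.relIndex N := by
    calc Nat.card (B ⊓ N : Subgroup G) * N.relIndex B * B.relIndex (B ⊔ N)
        = Nat.card B * B.relIndex (B ⊔ N) := by rw [c2, e]
      _ = Nat.card N * N.relIndex (B ⊔ N) := by rw [← c3, c1]
      _ = Nat.card (B ⊓ N : Subgroup G) * B.relIndex N * N.relIndex B := by rw [h1, ← c4]
      _ = _ := by ring
  exact Nat.eq_of_mul_eq_mul_left (Nat.mul_pos p1 p2) key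

/-- multiplicativity of `|K : A ∩ K|` along a normal subgroup `N ≤ K` -/
theorem relIndex_eq_mul [Finite G] (A : Subgroup G) {N K : Subgroup G} [N.Normal] (hNK : N ≤ K) :
    A.relIndex K = A.relIndex N * (A ⊔ N).relIndex K := by
  have e1 : (A ⊓ K) ⊔ N = (A ⊔ N) ⊓ K := by
    refine le_antisymm (sup_le (inf_le_inf_right _ le_sup_left) (le_inf le_sup_right hNK)) ?_
    rintro x ⟨hx, hxK⟩
    obtain ⟨a, ha, n, hn, rfl⟩ := Subgroup.mem_sup_of_normal_right.1 hx
    refine mul_mem (mem_sup_left ⟨ha, ?_⟩) (mem_sup_right hn)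
    have h := K.mul_mem hxK (K.inv_mem (hNK hn))
    simpa [mul_assoc] using h
  have e2 : (A ⊓ K).relIndex ((A ⊓ K) ⊔ N) = A.relIndex N := by
    rw [relIndex_sup_self, ← inf_relIndex_right (A ⊓ K) N, inf_assoc, inf_eq_right.2 hNK, inf_relIndex_right]
  have e3 : (A ⊓ K) ⊔ N ≤ K := sup_le inf_le_right hNK
  rw [← inf_relIndex_right A K, ← relIndex_mul_relIndex (A ⊓ K) ((A ⊓ K) ⊔ N) K le_sup_left e3, e2, e1,
    inf_relIndex_right]

theorem odd_sup [Finite G] (A : Subgroup G) {N M : Subgroup G} [N.Normal] (hN : Odd (A.relIndex N))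
    (hM : Odd (A.relIndex M)) : Odd (A.relIndex (N ⊔ M)) := by
  rw [relIndex_eq_mul A (le_sup_left : N ≤ N ⊔ M)]
  refine Nat.odd_mul.2 ⟨hN, ?_⟩
  have h1 : (A ⊔ N).relIndex (N ⊔ M) = (A ⊔ N).relIndex M := by
    rw [← relIndex_map_of_le N (L := A ⊔ N) le_sup_right (N ⊔ M),
      ← relIndex_map_of_le N (L := A ⊔ N) le_sup_right M, Subgroup.map_sup N M]
    have hN' : N.map (QuotientGroup.mk' N) = ⊥ := by
      rw [Subgroup.map_eq_bot_iff, QuotientGroup.ker_mk']
    rw [hN', bot_sup_eq]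
  rw [h1]
  exact Odd.of_dvd_nat hM (relIndex_dvd_of_le_left M le_sup_left)

/-- **The largest normal subgroup in which `A` has odd index.** -/
theorem exists_largest [Finite G] (A : Subgroup G) : ∃ N₀ : Subgroup G, N₀.Normal ∧ Odd (A.relIndex N₀) ∧
    ∀ N : Subgroup G, N.Normal → Odd (A.relIndex N) → N ≤ N₀ := by
  classical
  obtain ⟨N₀, hmax⟩ := (Set.toFinite {N : Subgroup G | N.Normal ∧ Odd (A.relIndex N)}).exists_maximal
    ⟨⊥, inferInstance, by simp⟩
  refine ⟨N₀, hmax.1.1, hmax.1.2, fun N hN hodd => ?_⟩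
  have := hmax.1.1
  have := hN
  have h := hmax.2 (y := N₀ ⊔ N) ⟨inferInstance, odd_sup A hmax.1.2 hodd⟩ le_sup_left
  exact le_sup_right.trans h

/-- the normal subgroups of `G ⧸ N₀` -/
theorem even_relIndex_quotient [Finite G] (A : Subgroup G) {N₀ : Subgroup G} [N₀.Normal]
    (hodd : Odd (A.relIndex N₀)) (hmax : ∀ N : Subgroup G, N.Normal → Odd (A.relIndex N) → N ≤ N₀)
    (M : Subgroup (G ⧸ N₀)) (hM : M.Normal) (hM1 : M ≠ ⊥) :
    Even ((A.map (QuotientGroup.mk' N₀)).relIndex M) := by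
  by_contra hcon
  rw [Nat.not_even_iff_odd] at hcon
  set π := QuotientGroup.mk' N₀ with hπ
  have hMn : (M.comap π).Normal := hM.comap π
  have hmap : (M.comap π).map π = M := Subgroup.map_comap_eq_self_of_surjective (QuotientGroup.mk'_surjective N₀) M
  have hle : N₀ ≤ M.comap π := by
    intro x hx
    rw [mem_comap]
    have : π x = 1 := by rw [hπ, QuotientGroup.mk'_apply, QuotientGroup.eq_one_iff]; exact hx
    rw [this]; exact one_mem M
  have h1 : Odd (A.relIndex (M.comap π)) := by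
    rw [relIndex_eq_mul A hle]
    refine Nat.odd_mul.2 ⟨hodd, ?_⟩
    rwa [← relIndex_map, hmap]
  have h2 := hmax _ hMn h1
  refine hM1 ?_
  rw [← hmap, Subgroup.map_eq_bot_iff, hπ, QuotientGroup.ker_mk']
  exact h2

/-- a normal `2`-subgroup of `N` lies in `A` when `A ∩ N` is a Sylow `2`-subgroup of `N` -/
theorem le_of_isPGroup [Finite G] {A N Z : Subgroup G} (hA : IsPGroup 2 A) (hZ : IsPGroup 2 Z) [Z.Normal]
    (hZN : Z ≤ N) (hodd : Odd (A.relIndex N)) : Z ≤ A := by
  have hW : IsPGroup 2 (Z ⊔ (A ⊓ N) : Subgroup G) := by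
    have := IsPGroup.to_sup_of_normal_left hZ (hA.to_le (inf_le_left : A ⊓ N ≤ A))
    exact this
  have h1 : (A ⊓ N).relIndex (Z ⊔ (A ⊓ N)) ∣ A.relIndex N := by
    rw [← inf_relIndex_right A N,
      ← relIndex_mul_relIndex (A ⊓ N) (Z ⊔ (A ⊓ N)) N le_sup_right (sup_le hZN inf_le_right)]
    exact dvd_mul_right _ _
  have h2 : Odd ((A ⊓ N).relIndex (Z ⊔ (A ⊓ N))) := Odd.of_dvd_nat hodd h1
  obtain ⟨k, hk⟩ := IsPGroup.iff_card.1 hW
  have h3 : (A ⊓ N).relIndex (Z ⊔ (A ⊓ N)) ∣ 2 ^ k := by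
    rw [← hk]; exact relIndex_dvd_card _ _
  have h4 : (A ⊓ N).relIndex (Z ⊔ (A ⊓ N)) = 1 := by
    rcases (Nat.dvd_prime_pow Nat.prime_two).1 h3 with ⟨j, -, hj⟩
    rcases Nat.eq_zero_or_pos j with rfl | hj0
    · simpa using hj
    · exfalso
      rw [hj] at h2
      exact (Nat.not_even_iff_odd.2 h2) (Even.pow_of_ne_zero (by norm_num) (by omega))
  rw [relIndex_eq_one] at h4
  exact (le_sup_left.trans h4).trans inf_le_left

/-- an abelian normal subgroup of a group without odd order normal subgroups is a `2`-group -/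
theorem isPGroup_of_abelian_normal [Finite G] (hO : Cfsg.oddCore G = ⊥) {Z : Subgroup G} [Z.Normal]
    (hc : ∀ x ∈ Z, ∀ y ∈ Z, x * y = y * x) : IsPGroup 2 Z := by
  classical
  let W : Subgroup G :=
    { carrier := {z | z ∈ Z ∧ Odd (orderOf z)}
      one_mem' := ⟨one_mem Z, by simp⟩
      mul_mem' := by
        rintro a b ⟨ha, ha'⟩ ⟨hb, hb'⟩
        refine ⟨mul_mem ha hb, ?_⟩
        have h := (show Commute a b from hc a ha b hb).orderOf_mul_dvd_mul_orderOf
        exact Odd.of_dvd_nat (Nat.odd_mul.2 ⟨ha', hb'⟩) h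
      inv_mem' := by
        rintro a ⟨ha, ha'⟩
        exact ⟨inv_mem ha, by rwa [orderOf_inv]⟩ }
  have hWn : W.Normal := ⟨by
    rintro a ⟨ha, ha'⟩ g
    refine ⟨Normal.conj_mem inferInstance a ha g, ?_⟩
    have : orderOf (g * a * g⁻¹) = orderOf a := orderOf_injective (MulAut.conj g).toMonoidHom
      (MulAut.conj g).injective a
    rwa [this]⟩
  have hWodd : Odd (Nat.card W) := by
    by_contra hcon
    rw [Nat.not_odd_iff_even, even_iff_two_dvd] at hcon
    obtain ⟨w, hw⟩ := exists_prime_orderOf_dvd_card' 2 hcon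
    have h2 := w.2.2
    have : orderOf (w : G) = 2 := by rw [Subgroup.orderOf_coe, hw]
    rw [this] at h2
    exact absurd h2 (by decide)
  have hWbot : W = ⊥ := by
    rw [eq_bot_iff, ← hO]
    exact le_sSup ⟨hWn, Nat.coprime_two_right.2 hWodd⟩
  intro z
  obtain ⟨k, m, hm, hkm⟩ := Nat.exists_eq_two_pow_mul_odd (n := orderOf (z : G)) (orderOf_pos (z : G)).ne'
  refine ⟨k, Subtype.ext ?_⟩
  have hz : (z : G) ^ 2 ^ k ∈ W := by
    refine ⟨pow_mem z.2 _, ?_⟩
    have h0 : orderOf ((z : G) ^ 2 ^ k) = m := by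
      have hd : 2 ^ k ∣ orderOf (z : G) := by rw [hkm]; exact dvd_mul_right _ _
      rw [orderOf_pow_of_dvd (by positivity) hd, hkm, Nat.mul_div_cancel_left _ (by positivity)]
    rw [h0]; exact hm
  rw [hWbot, mem_bot] at hz
  simpa using hz

end Cfsg.Agent.TwoFusion.LargestSylowNormal
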