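import Mathlib

/-!
# Anisotropic squaring maps with values in a four-group

If `E` is a central four-subgroup of the finite 2-group `R` containing all squares and all
involutions, then `|R| ≤ 64`.
-/

set_option autoImplicit false

namespace Cfsg.Agent.TwoFusion.QuadCount

open Finset

/-- the sign of an element of `ZMod 2` -/
def ep (a : ZMod 2) : ℤ := if a = 0 then 1 else -1

theorem ep_add (a b : ZMod 2) : ep (a + b) = ep a * ep b := by
  revert a b; decide

theorem ep_mul_self (a : ZMod 2) : ep a * ep a = 1 := by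
  revert a; decide

theorem ep_zero : ep 0 = 1 := rfl

theorem ep_of_ne (a : ZMod 2) (h : a ≠ 0) : ep a = -1 := by
  revert a; decide

/-- character sum of a quadratic function -/
theorem card_dvd_sq {V : Type*} [Group V] [Fintype V] (q : V → ZMod 2) (b : V → V → ZMod 2)
    (hq : ∀ x y, q (x * y) = q x + q y + b x y) (hb : ∀ x x' y, b (x * x') y = b x y + b x' y) :
    (Fintype.card V : ℤ) ∣ (∑ x, ep (q x)) ^ 2 := by
  have h1 : (∑ x, ep (q x)) ^ 2 = ∑ u, ep (q u) * ∑ x, ep (b x u) := by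
    rw [pow_two, Finset.sum_mul]
    have : ∀ x, ep (q x) * ∑ y, ep (q y) = ∑ u, ep (q u) * ep (b x u) := by
      intro x
      rw [← Equiv.sum_comp (Equiv.mulLeft x) (fun y => ep (q y)), Finset.mul_sum]
      apply Finset.sum_congr rfl
      intro u _
      rw [Equiv.coe_mulLeft, hq, ep_add, ep_add, ← mul_assoc, ← mul_assoc, ep_mul_self, one_mul]
    rw [Finset.sum_congr rfl (fun x _ => this x), Finset.sum_comm]
    apply Finset.sum_congr rfl
    intro u _
    rw [Finset.mul_sum]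
  rw [h1]
  apply Finset.dvd_sum
  intro u _
  apply Dvd.dvd.mul_left
  by_cases h : ∀ x, b x u = 0
  · have : ∑ x, ep (b x u) = Fintype.card V := by
      rw [Finset.sum_congr rfl (fun x _ => by rw [h x, ep_zero])]
      simp
    rw [this]
  · push Not at h
    obtain ⟨x0, hx0⟩ := h
    have h2 : ∑ x, ep (b x u) = - ∑ x, ep (b x u) := by
      conv_lhs => rw [← Equiv.sum_comp (Equiv.mulLeft x0) (fun y => ep (b y u))]
      rw [← Finset.sum_neg_distrib]
      apply Finset.sum_congr rfl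
      intro x _
      rw [Equiv.coe_mulLeft, hb, ep_add, ep_of_ne _ hx0]
      ring
    have h3 : ∑ x, ep (b x u) = 0 := by linarith
    rw [h3]
    exact dvd_zero _

theorem eight_dvd (s : ℤ) (h : (32 : ℤ) ∣ s ^ 2) : (8 : ℤ) ∣ s := by
  have h1 : (s ^ 2) % 32 = 0 := Int.emod_eq_zero_of_dvd h
  have h2 : (s % 32) ^ 2 % 32 = 0 := by
    rw [← h1]
    exact (Int.mod_modEq s 32).pow 2
  apply Int.dvd_of_emod_eq_zero
  have h3 : s % 8 = (s % 32) % 8 := by omega
  have h4 : 0 ≤ s % 32 := Int.emod_nonneg _ (by norm_num)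
  have h5 : s % 32 < 32 := Int.emod_lt_of_pos _ (by norm_num)
  rw [h3]
  generalize s % 32 = r at h2 h4 h5
  interval_cases r <;> simp_all

/-- An anisotropic quadratic map from an elementary group of order `2 ^ n` to the four-group has `n ≤ 4`. -/
theorem le_four {V : Type*} [Group V] [Fintype V] (n : ℕ) (hV : Fintype.card V = 2 ^ n)
    (Q : V → ZMod 2 × ZMod 2) (B : V → V → ZMod 2 × ZMod 2)
    (hQ : ∀ x y, Q (x * y) = Q x + Q y + B x y) (hB : ∀ x x' y, B (x * x') y = B x y + B x' y)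
    (h0 : ∀ x, Q x = 0 ↔ x = 1) : n ≤ 4 := by
  classical
  by_contra hn
  push Not at hn
  have hd : (32 : ℤ) ∣ (Fintype.card V : ℤ) := by
    rw [hV]
    have : (2 : ℤ) ^ 5 ∣ 2 ^ n := pow_dvd_pow 2 hn
    exact_mod_cast this
  have s1 := card_dvd_sq (fun x => (Q x).1) (fun x y => (B x y).1) (fun x y => by simp [hQ])
    (fun x x' y => by simp [hB])
  have s2 := card_dvd_sq (fun x => (Q x).2) (fun x y => (B x y).2) (fun x y => by simp [hQ])
    (fun x x' y => by simp [hB])
  have s3 := card_dvd_sq (fun x => (Q x).1 + (Q x).2) (fun x y => (B x y).1 + (B x y).2)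
    (fun x y => by simp only [hQ, Prod.fst_add, Prod.snd_add]; ring)
    (fun x x' y => by simp only [hB, Prod.fst_add, Prod.snd_add]; ring)
  have d1 := eight_dvd _ (hd.trans s1)
  have d2 := eight_dvd _ (hd.trans s2)
  have d3 := eight_dvd _ (hd.trans s3)
  have hsum : (Fintype.card V : ℤ) + ∑ x, ep (Q x).1 + ∑ x, ep (Q x).2 + ∑ x, ep ((Q x).1 + (Q x).2) = 4 := by
    have e1 : (Fintype.card V : ℤ) = ∑ _x : V, (1 : ℤ) := by simp
    rw [e1, ← Finset.sum_add_distrib, ← Finset.sum_add_distrib, ← Finset.sum_add_distrib]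
    have e2 : ∀ x : V, (1 : ℤ) + ep (Q x).1 + ep (Q x).2 + ep ((Q x).1 + (Q x).2) = if x = 1 then 4 else 0 := by
      intro x
      by_cases hx : x = 1
      · rw [if_pos hx, (h0 x).2 hx]; decide
      · rw [if_neg hx]
        have : Q x ≠ 0 := fun h => hx ((h0 x).1 h)
        generalize Q x = w at this
        revert w; decide
    rw [Finset.sum_congr rfl (fun x _ => e2 x)]
    simp
  have h8 : (8 : ℤ) ∣ (Fintype.card V : ℤ) := (by norm_num : (8 : ℤ) ∣ 32).trans hd
  have : (8 : ℤ) ∣ 4 := by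
    rw [← hsum]
    exact dvd_add (dvd_add (dvd_add h8 d1) d2) d3
  norm_num at this

/-- The group-theoretic form. -/
theorem card_le {R : Type*} [Group R] [Finite R] (hR : IsPGroup 2 R) (E : Subgroup R)
    (hE : ∀ e ∈ E, ∀ x : R, e * x = x * e) (hcard : Nat.card E = 4) (hE2 : ∀ e ∈ E, e * e = 1)
    (hsq : ∀ x : R, x * x ∈ E) (hinv : ∀ x : R, x * x = 1 → x ∈ E) : Nat.card R ≤ 64 := by
  classical
  have hN : E.Normal := ⟨fun e he g => by
    rw [← hE e he g, mul_inv_cancel_right]; exact he⟩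
  have : Nontrivial E := by
    rw [← Finite.one_lt_card_iff_nontrivial, hcard]; norm_num
  have hK : IsKleinFour E := ⟨hcard, by
    rw [Monoid.exponent_eq_prime_iff Nat.prime_two]
    intro g hg
    apply orderOf_eq_prime _ hg
    apply Subtype.ext
    rw [pow_two]
    exact hE2 g.1 g.2⟩
  obtain ⟨e⟩ : Nonempty (E ≃* Multiplicative (ZMod 2 × ZMod 2)) := IsKleinFour.nonempty_mulEquiv
  -- `ι` is additive on `E`
  let ι : R → ZMod 2 × ZMod 2 := fun x => if h : x ∈ E then (e ⟨x, h⟩).toAdd else 0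
  have hι : ∀ x y, x ∈ E → y ∈ E → ι (x * y) = ι x + ι y := by
    intro x y hx hy
    simp only [ι, dif_pos hx, dif_pos hy, dif_pos (mul_mem hx hy)]
    rw [← toAdd_mul, ← map_mul]; rfl
  have hι0 : ∀ x ∈ E, ι x = 0 → x = 1 := by
    intro x hx h
    simp only [ι, dif_pos hx] at h
    have h1 : e ⟨x, hx⟩ = 1 := h
    have h2 := (MulEquiv.map_eq_one_iff e).1 h1
    exact congrArg Subtype.val h2
  have hι1 : ι 1 = 0 := by
    have h1 := hι 1 1 (one_mem E) (one_mem E)
    rw [mul_one] at h1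
    simpa using h1
  have hcm : ∀ x y : R, x⁻¹ * y⁻¹ * x * y ∈ E := by
    intro x y
    have h1 := mul_mem (mul_mem (inv_mem (hsq x)) (hsq (x * y⁻¹))) (hsq y)
    have : (x * x)⁻¹ * (x * y⁻¹ * (x * y⁻¹)) * (y * y) = x⁻¹ * y⁻¹ * x * y := by group
    rw [this] at h1; exact h1
  -- squares and commutators only depend on the cosets
  have sq_coset : ∀ x e : R, e ∈ E → x * e * (x * e) = x * x := by
    intro x e he
    calc x * e * (x * e) = x * (e * x) * e := by group
      _ = x * x * (e * e) := by rw [hE e he x]; group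
      _ = x * x := by rw [hE2 e he, mul_one]
  have cm_left : ∀ x x' y : R, (x * x')⁻¹ * y⁻¹ * (x * x') * y = (x⁻¹ * y⁻¹ * x * y) * (x'⁻¹ * y⁻¹ * x' * y) := by
    intro x x' y
    have h1 := hE _ (hcm x y) x'⁻¹
    calc (x * x')⁻¹ * y⁻¹ * (x * x') * y = x'⁻¹ * (x⁻¹ * y⁻¹ * x * y) * (y⁻¹ * x' * y) := by group
      _ = _ := by rw [← h1]; group
  have cm_right : ∀ x y y' : R, x⁻¹ * (y * y')⁻¹ * x * (y * y') = (x⁻¹ * y⁻¹ * x * y) * (x⁻¹ * y'⁻¹ * x * y') := by
    intro x y y'
    have h1 := hE _ (hcm x y) (x⁻¹ * y'⁻¹ * x)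
    calc x⁻¹ * (y * y')⁻¹ * x * (y * y') = (x⁻¹ * y'⁻¹ * x) * (x⁻¹ * y⁻¹ * x * y) * y' := by group
      _ = _ := by rw [← h1]; group
  have cm_E_left : ∀ e y : R, e ∈ E → e⁻¹ * y⁻¹ * e * y = 1 := by
    intro e y he
    have h1 := hE _ (inv_mem he) y⁻¹
    rw [h1]; group
  have cm_E_right : ∀ x e : R, e ∈ E → x⁻¹ * e⁻¹ * x * e = 1 := by
    intro x e he
    have h1 := hE _ (inv_mem he) x⁻¹
    rw [← h1]; group
  have out : ∀ x : R, ∃ e ∈ E, (QuotientGroup.mk x : R ⧸ E).out = x * e := by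
    intro x
    obtain ⟨⟨e, he⟩, h1⟩ := QuotientGroup.mk_out_eq_mul E x
    exact ⟨e, he, h1⟩
  let Q : R ⧸ E → ZMod 2 × ZMod 2 := fun v => ι (v.out * v.out)
  let B : R ⧸ E → R ⧸ E → ZMod 2 × ZMod 2 := fun v w => ι (v.out⁻¹ * w.out⁻¹ * v.out * w.out)
  have hQm : ∀ x : R, Q (QuotientGroup.mk x) = ι (x * x) := by
    intro x
    obtain ⟨e, he, h1⟩ := out x
    simp only [Q]
    rw [h1, sq_coset x e he]
  have hBm : ∀ x y : R, B (QuotientGroup.mk x) (QuotientGroup.mk y) = ι (x⁻¹ * y⁻¹ * x * y) := by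
    intro x y
    obtain ⟨e, he, h1⟩ := out x
    obtain ⟨f, hf, h2⟩ := out y
    simp only [B]
    rw [h1, h2, cm_left, cm_right, cm_right, cm_E_left _ _ he, cm_E_right _ _ hf, cm_E_left _ _ he]
    simp
  have : Finite (R ⧸ E) := inferInstance
  have : Fintype (R ⧸ E) := Fintype.ofFinite _
  obtain ⟨n, hn⟩ := IsPGroup.iff_card.1 (hR.to_quotient E)
  have hn4 : n ≤ 4 := by
    apply le_four (V := R ⧸ E) n (by rw [← hn, Nat.card_eq_fintype_card]) Q B
    · intro v w
      induction v using QuotientGroup.induction_on with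
      | H x =>
      induction w using QuotientGroup.induction_on with
      | H y =>
      rw [← QuotientGroup.mk_mul, hQm, hQm, hQm, hBm, ← hι _ _ (hsq x) (hsq y),
        ← hι _ _ (mul_mem (hsq x) (hsq y)) (hcm x y)]
      congr 1
      have h1 := hE _ (hcm y x) y
      have h2 : x⁻¹ * y⁻¹ * x * y = y⁻¹ * x⁻¹ * y * x := by
        have h3 : (x⁻¹ * y⁻¹ * x * y) * (y⁻¹ * x⁻¹ * y * x) = 1 := by group
        exact mul_right_cancel (h3.trans (hE2 _ (hcm y x)).symm)
      calc x * y * (x * y) = x * (x * y * (y⁻¹ * x⁻¹ * y * x)) * y := by group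
        _ = x * x * y * ((y⁻¹ * x⁻¹ * y * x) * y) := by group
        _ = _ := by rw [h1, h2]; group
    · intro v v' w
      induction v using QuotientGroup.induction_on with
      | H x =>
      induction v' using QuotientGroup.induction_on with
      | H x' =>
      induction w using QuotientGroup.induction_on with
      | H y =>
      rw [← QuotientGroup.mk_mul, hBm, hBm, hBm, cm_left, hι _ _ (hcm x y) (hcm x' y)]
    · intro v
      induction v using QuotientGroup.induction_on with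
      | H x =>
      rw [hQm, QuotientGroup.eq_one_iff]
      constructor
      · intro h
        exact hinv x (hι0 _ (hsq x) h)
      · intro h
        rw [hE2 x h, hι1]
  rw [Subgroup.card_eq_card_quotient_mul_card_subgroup E, hn, hcard]
  calc 2 ^ n * 4 ≤ 2 ^ 4 * 4 := Nat.mul_le_mul_right 4 (Nat.pow_le_pow_right (by norm_num) hn4)
    _ = 64 := by norm_num

end Cfsg.Agent.TwoFusion.QuadCount
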