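import Cfsg.Agent.TwoFusion.NormalSL2
import Cfsg.Agent.TwoFusion.GoldM1Defs

/-!
# A subgroup `Q₈ : 3` of `SL(2,F)`, and sections `SL(2,F)` of finite groups

`exists_quat_three`: `SL(2,F)`, `F` a finite field of odd order, contains a nonabelian 2-subgroup `Q` and an element
`w` of order 3 in its normaliser, with `i, j ∈ Q`, `w i w⁻¹ = j ≠ i`.
-/

set_option autoImplicit false

namespace Cfsg.Agent.TwoFusion.QuatThree

open Matrix Cfsg.Agent.Lib.SL2Mat Cfsg.Agent.TwoFusion.NormalSL2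

section sl2

variable {F : Type*} [Field F]

theorem exists_quat_three [Finite F] (h2 : (2 : F) ≠ 0) :
    ∃ (Q : Subgroup (Matrix.SpecialLinearGroup (Fin 2) F)), IsPGroup 2 Q ∧
      ∃ i ∈ Q, ∃ j ∈ Q, i * j ≠ j * i ∧ (neg1 F) ∈ Q ∧
      ∃ w ∈ Subgroup.normalizer (Q : Set (Matrix.SpecialLinearGroup (Fin 2) F)), w ^ 3 = 1 ∧ w * i * w⁻¹ = j := by
  obtain ⟨a, b, hab⟩ : ∃ a b : F, a ^ 2 + b ^ 2 = -1 := by
    obtain ⟨p, hpc⟩ := CharP.exists F
    have : CharP F p := hpc
    have hp : p.Prime := CharP.char_is_prime F p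
    have : NeZero p := ⟨hp.ne_zero⟩
    obtain ⟨a, b, hab⟩ := CharP.sq_add_sq F p (-1)
    refine ⟨a, b, ?_⟩
    rw [hab]; push_cast; rfl
  obtain ⟨c, hc⟩ : ∃ c : F, 2 * c = 1 := ⟨(2 : F)⁻¹, mul_inv_cancel₀ h2⟩
  let i : Matrix.SpecialLinearGroup (Fin 2) F := mk 0 1 (-1) 0 (by ring)
  let j : Matrix.SpecialLinearGroup (Fin 2) F := mk a b b (-a) (by linear_combination -hab)
  let w : Matrix.SpecialLinearGroup (Fin 2) F :=
    mk (-c * (1 + a + b)) (-c * (1 + b - a)) (-c * (-1 + b - a)) (-c * (1 - a - b))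
      (by linear_combination (-2 * c ^ 2) * hab + (2 * c + 1) * hc)
  have hii : i * i = neg1 F := by
    refine ext_ent ?_ ?_ ?_ ?_ <;> simp [ent_mul, i]
  have hjj : j * j = neg1 F := by
    refine ext_ent ?_ ?_ ?_ ?_ <;> simp [ent_mul, j]
    · linear_combination hab
    · ring
    · ring
    · linear_combination hab
  have hij : i * j = neg1 F * (j * i) := by
    refine ext_ent ?_ ?_ ?_ ?_ <;> simp [ent_mul, i, j]
  have hwi : w * i = j * w := by
    refine ext_ent ?_ ?_ ?_ ?_ <;> simp [ent_mul, i, j, w]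
    · linear_combination (c) * hab
    · linear_combination (-c) * hab
    · linear_combination (c) * hab
    · linear_combination (c) * hab
  have hwj : w * j = (i * j) * w := by
    refine ext_ent ?_ ?_ ?_ ?_ <;> simp [ent_mul, i, j, w]
    · ring
    · ring
    · ring
    · ring
  have hw3 : w ^ 3 = 1 := by
    have e00 : ent (w * w) 0 0 = -(ent w 0 0) - 1 := by
      simp only [ent_mul, w, mk_00, mk_01, mk_10]
      linear_combination (2 * c ^ 2) * hab + (c * (a + b) - (c + 1)) * hc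
    have e01 : ent (w * w) 0 1 = -(ent w 0 1) := by
      simp only [ent_mul, w, mk_00, mk_01, mk_11]
      linear_combination (c * (1 + b - a)) * hc
    have e10 : ent (w * w) 1 0 = -(ent w 1 0) := by
      simp only [ent_mul, w, mk_00, mk_10, mk_11]
      linear_combination (c * (-1 + b - a)) * hc
    have e11 : ent (w * w) 1 1 = -(ent w 1 1) - 1 := by
      simp only [ent_mul, w, mk_01, mk_10, mk_11]
      linear_combination (2 * c ^ 2) * hab + (-c * (a + b) - (c + 1)) * hc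
    have f00 := e00
    have f01 := e01
    have f10 := e10
    have f11 := e11
    rw [ent_mul] at f00 f01 f10 f11
    rw [show w ^ 3 = (w * w) * w by rw [pow_succ, sq]]
    refine ext_ent ?_ ?_ ?_ ?_
    · rw [ent_mul, e00, e01, ent_one_00]
      linear_combination -f00
    · rw [ent_mul, e00, e01, ent_one_01]
      linear_combination -f01
    · rw [ent_mul, e10, e11, ent_one_10]
      linear_combination -f10
    · rw [ent_mul, e10, e11, ent_one_11]
      linear_combination -f11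
  have h4 : ∀ x : Matrix.SpecialLinearGroup (Fin 2) F, x * x = neg1 F → IsPGroup 2 (Subgroup.zpowers x) := by
    intro x hx
    rintro ⟨_, ⟨n, rfl⟩⟩
    refine ⟨2, ?_⟩
    apply Subtype.ext
    change (x ^ n) ^ (2 ^ 2) = 1
    rw [← zpow_natCast, zpow_comm]
    have : x ^ ((2 ^ 2 : ℕ) : ℤ) = 1 := by
      rw [zpow_natCast]
      calc x ^ 2 ^ 2 = (x * x) * (x * x) := by rw [show 2 ^ 2 = 2 + 2 from rfl, pow_add, sq]
        _ = 1 := by rw [hx, neg1_mul_neg1]
    rw [this, _root_.one_zpow]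
  have hnorm : Subgroup.zpowers j ≤ Subgroup.normalizer (Subgroup.zpowers i : Set (Matrix.SpecialLinearGroup (Fin 2) F)) := by
    have hi3 : j * i * j⁻¹ = i⁻¹ := by
      have e1 : i⁻¹ = neg1 F * i := by
        refine inv_eq_of_mul_eq_one_right ?_
        rw [← mul_assoc, ← neg1_comm, mul_assoc, hii, neg1_mul_neg1]
      have e2 : j * i = i⁻¹ * j := by
        rw [e1, mul_assoc, hij, ← mul_assoc, neg1_mul_neg1, one_mul]
      rw [e2, mul_inv_cancel_right]
    rw [Subgroup.zpowers_le, Subgroup.mem_normalizer_iff]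
    intro h
    have e3 : ∀ y, j * y * j⁻¹ = MulAut.conj j y := fun y => rfl
    constructor
    · rintro ⟨n, rfl⟩
      refine ⟨-n, ?_⟩
      change i ^ (-n) = j * i ^ n * j⁻¹
      rw [e3, map_zpow, ← e3, hi3, _root_.inv_zpow, _root_.zpow_neg]
    · rintro ⟨n, hn⟩
      refine ⟨-n, ?_⟩
      change i ^ (-n) = h
      change i ^ n = j * h * j⁻¹ at hn
      apply (MulAut.conj j).injective
      rw [← e3 h, ← hn, map_zpow, ← e3, hi3, _root_.inv_zpow, _root_.zpow_neg, inv_inv]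
  have hiQ : i ∈ Subgroup.zpowers i ⊔ Subgroup.zpowers j := Subgroup.mem_sup_left (Subgroup.mem_zpowers i)
  have hjQ : j ∈ Subgroup.zpowers i ⊔ Subgroup.zpowers j := Subgroup.mem_sup_right (Subgroup.mem_zpowers j)
  refine ⟨Subgroup.zpowers i ⊔ Subgroup.zpowers j, (h4 i hii).to_sup_of_normal_left' (h4 j hjj) hnorm,
    i, hiQ, j, hjQ, ?_, ?_, w, ?_, hw3, ?_⟩
  · intro h
    rw [h] at hij
    have : neg1 F = 1 := by
      have := mul_right_cancel (a := neg1 F) (b := j * i) (c := 1) (by rw [← hij, one_mul])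
      exact this
    exact neg1_ne_one h2 this
  · rw [← hii]
    exact mul_mem hiQ hiQ
  · have hle : (Subgroup.zpowers i ⊔ Subgroup.zpowers j).map (MulAut.conj w).toMonoidHom ≤
        Subgroup.zpowers i ⊔ Subgroup.zpowers j := by
      rw [Subgroup.map_sup, sup_le_iff, MonoidHom.map_zpowers, MonoidHom.map_zpowers, Subgroup.zpowers_le,
        Subgroup.zpowers_le]
      constructor
      · change w * i * w⁻¹ ∈ _
        rw [hwi, mul_inv_cancel_right]
        exact hjQ
      · change w * j * w⁻¹ ∈ _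
        rw [hwj, mul_inv_cancel_right]
        exact mul_mem hiQ hjQ
    have heq : (Subgroup.zpowers i ⊔ Subgroup.zpowers j).map (MulAut.conj w).toMonoidHom =
        Subgroup.zpowers i ⊔ Subgroup.zpowers j :=
      Subgroup.eq_of_le_of_card_ge hle
        (by rw [Subgroup.card_map_of_injective (MulAut.conj w).injective])
    rw [Subgroup.mem_normalizer_iff]
    intro h
    constructor
    · intro hh
      rw [← heq]
      exact ⟨h, hh, rfl⟩
    · intro hh
      rw [← heq] at hh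
      obtain ⟨y, hy, hyh⟩ := hh
      have : y = h := (MulAut.conj w).injective hyh
      rwa [← this]
  · rw [hwi, mul_inv_cancel_right]

end sl2

section abstract_part

open Subgroup Cfsg.Agent.Classification.TypeB.Core

variable {G X L : Type*} [Group G] [Group X] [Group L]

theorem exists_three_power {h : X} [Finite X] {w : L} (φ : X →* L) (hw : w ^ 3 = 1) (hh : φ h = w) :
    ∃ e : ℕ, φ (h ^ e) = w ∧ ∃ k : ℕ, (h ^ e) ^ 3 ^ k = 1 := by
  have hn : orderOf h ≠ 0 := (orderOf_pos h).ne'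
  obtain ⟨k, m, hm, hkm⟩ := Nat.exists_eq_pow_mul_and_not_dvd hn 3 (by norm_num)
  refine ⟨m * m, ?_, k, ?_⟩
  · rw [map_pow, hh]
    have h1 : (m * m) % 3 = 1 := by
      have : m % 3 = 1 ∨ m % 3 = 2 := by omega
      rcases this with h | h <;> simp [Nat.mul_mod, h]
    have h2 : w ^ (m * m) = w ^ (3 * (m * m / 3) + m * m % 3) := by rw [Nat.div_add_mod]
    rw [h2, h1, pow_add, pow_mul, hw, one_pow, one_mul, pow_one]
  · rw [← pow_mul, show m * m * 3 ^ k = (3 ^ k * m) * m by ring, ← hkm, pow_mul, pow_orderOf_eq_one, one_pow]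

/-- the final step -/
theorem false_of_central [Finite G] [Finite X] [Finite L]
    (h3 : ∀ x : G, x * x = 1 → x ≠ 1 → ∀ h, h * x = x * h → (∃ k, h ^ 3 ^ k = 1) →
      h ∈ oc (centralizer ({x} : Set G)))
    (ι : X →* G) (hι : Function.Injective ι) (φ : X →* L) (Q : Subgroup L) [hQn : Q.Normal]
    (hQ : IsPGroup 2 Q) {i w : L} (hi : i ∈ Q) (hw3 : w ^ 3 = 1)
    (hwi : w * i * w⁻¹ ≠ i) {x : G} (hx2 : x * x = 1) (hx1 : x ≠ 1) (X1 : Subgroup X)
    (hX1 : X1.map φ = ⊤) (hcent : ∀ y ∈ X1, ι y * x = x * ι y) : False := by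
  obtain ⟨h, hhX, hhw⟩ : w ∈ X1.map φ := by rw [hX1]; trivial
  obtain ⟨e, he, k, hk⟩ := exists_three_power φ hw3 hhw
  have heX : h ^ e ∈ X1 := pow_mem hhX e
  have hmem : ι (h ^ e) ∈ oc (centralizer ({x} : Set G)) :=
    h3 x hx2 hx1 _ (hcent _ heX) ⟨k, by rw [← map_pow, hk, map_one]⟩
  set O : Subgroup G := oc (centralizer ({x} : Set G)) with hO
  have hwN : w ∈ (O.comap ι ⊓ X1).map φ := ⟨h ^ e, ⟨hmem, heX⟩, he⟩
  have hnorm : ∀ n ∈ (O.comap ι ⊓ X1).map φ, ∀ g : L, g * n * g⁻¹ ∈ (O.comap ι ⊓ X1).map φ := by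
    rintro _ ⟨n, ⟨hnO, hnX⟩, rfl⟩ g
    obtain ⟨y, hyX, rfl⟩ : g ∈ X1.map φ := by rw [hX1]; trivial
    refine ⟨y * n * y⁻¹, ⟨?_, X1.mul_mem (X1.mul_mem hyX hnX) (X1.inv_mem hyX)⟩, by simp⟩
    change ι (y * n * y⁻¹) ∈ O
    rw [map_mul, map_mul, map_inv]
    have hyn : ι y ∈ normalizer (O : Set G) := by
      rw [hO]
      exact le_normalizer_oc _ (mem_centralizer_singleton_iff.mpr (hcent y hyX))
    exact (mem_normalizer_iff.mp hyn _).mp hnO
  have hodd : Odd (Nat.card ((O.comap ι ⊓ X1).map φ : Subgroup L)) := by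
    have h1 : Nat.card ((O.comap ι ⊓ X1).map φ : Subgroup L) ∣ Nat.card (O.comap ι ⊓ X1 : Subgroup X) :=
      card_map_dvd _ _
    have h2 : Nat.card (O.comap ι ⊓ X1 : Subgroup X) = Nat.card ((O.comap ι ⊓ X1).map ι : Subgroup G) :=
      (card_map_of_injective hι).symm
    have h4 : (O.comap ι ⊓ X1).map ι ≤ O := by
      rintro _ ⟨n, ⟨hnO, -⟩, rfl⟩
      exact hnO
    rw [h2] at h1
    exact (odd_oc _).of_dvd_nat (h1.trans (card_dvd_of_le h4))
  have hdisj : (O.comap ι ⊓ X1).map φ ⊓ Q = ⊥ := by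
    obtain ⟨n, hn⟩ := (IsPGroup.iff_card (p := 2)).mp hQ
    refine (disjoint_of_coprime_natCard ?_).eq_bot
    rw [hn]
    exact (Nat.coprime_two_right.mpr hodd).pow_right _
  have hmem2 : w * i * w⁻¹ * i⁻¹ ∈ (O.comap ι ⊓ X1).map φ ⊓ Q := by
    refine ⟨?_, Q.mul_mem (hQn.conj_mem i hi w) (Q.inv_mem hi)⟩
    have := mul_mem hwN (hnorm _ (inv_mem hwN) i)
    rwa [show w * (i * w⁻¹ * i⁻¹) = w * i * w⁻¹ * i⁻¹ by group] at this
  rw [hdisj, mem_bot] at hmem2
  exact hwi (mul_inv_eq_one.mp hmem2)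

theorem unique_inv [Finite X] (N : Subgroup X) [N.Normal] (P : Sylow 2 N) {x0 : X}
    (hx0 : x0 ∈ (P : Subgroup N).map N.subtype) (hx1 : x0 ≠ 1) (hx2 : x0 * x0 = 1)
    (huniq : ∀ y ∈ (P : Subgroup N).map N.subtype, y ≠ 1 → y * y = 1 → y = x0) :
    ∃ X1 : Subgroup X, X1 ⊔ N = ⊤ ∧ (∀ y ∈ X1, y * x0 = x0 * y) ∧ x0 ∈ X1 := by
  refine ⟨normalizer ((P : Subgroup N).map N.subtype : Set X), P.normalizer_sup_eq_top, ?_,
    le_normalizer hx0⟩
  intro y hy
  have h1 : y * x0 * y⁻¹ ∈ (P : Subgroup N).map N.subtype := (mem_normalizer_iff.mp hy _).mp hx0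
  have h2 : y * x0 * y⁻¹ ≠ 1 := fun h => hx1 (by
    have := conj_eq_one_iff.mp h
    exact this)
  have h3 : (y * x0 * y⁻¹) * (y * x0 * y⁻¹) = 1 := by
    rw [show (y * x0 * y⁻¹) * (y * x0 * y⁻¹) = y * (x0 * x0) * y⁻¹ by group, hx2]; group
  have h4 := huniq _ h1 h2 h3
  calc y * x0 = y * x0 * y⁻¹ * y := by group
    _ = x0 * y := by rw [h4]

theorem exists_inv_of_two_group [Finite X] {P : Subgroup X} (hP : IsPGroup 2 P) (hne : P ≠ ⊥) :
    ∃ x ∈ P, x ≠ 1 ∧ x * x = 1 := by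
  have : Nontrivial P := (Subgroup.nontrivial_iff_ne_bot P).mpr hne
  obtain ⟨n, hn, hcard⟩ := (IsPGroup.nontrivial_iff_card hP).mp inferInstance
  have h2 : 2 ∣ Nat.card P := by rw [hcard]; exact dvd_pow_self 2 hn.ne'
  obtain ⟨x, hx⟩ := exists_prime_orderOf_dvd_card' 2 h2
  refine ⟨x, x.2, fun h => ?_, ?_⟩
  · have : x = 1 := Subtype.ext h
    rw [this, orderOf_one] at hx
    omega
  · have := pow_orderOf_eq_one x
    rw [hx, sq] at this
    exact congrArg Subtype.val this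

theorem exists_cover [Finite G] [Finite X] [Finite L]
    (h2 : ∀ T : Subgroup G, IsPGroup 2 T → ∃ A' : Subgroup G, Nat.card A' = 4 ∧
      (∀ s ∈ T, s * s = 1 → s ∈ A') ∧ (∀ s ∈ T, ∀ u ∈ T, s * u * s⁻¹ * u⁻¹ ∈ A'))
    (ι : X →* G) (hι : Function.Injective ι) (φ : X →* L) (hφ : Function.Surjective φ)
    (Q : Subgroup L) [hQn : Q.Normal] (hQ : IsPGroup 2 Q) {i j z : L} (hi : i ∈ Q) (hj : j ∈ Q)
    (hij : i * j ≠ j * i) (hz2 : z * z = 1) (hz1 : z ≠ 1) (hzc : ∀ y, y * z = z * y) :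
    ∃ x0 : X, x0 * x0 = 1 ∧ x0 ≠ 1 ∧ ∃ X1 : Subgroup X, X1.map φ = ⊤ ∧
      ∀ y ∈ X1, y * x0 = x0 * y := by
  obtain ⟨P⟩ : Nonempty (Sylow 2 φ.ker) := inferInstance
  by_cases hP : (P : Subgroup φ.ker) = ⊥
  · -- the kernel has odd order
    have hker : ¬ 2 ∣ Nat.card φ.ker := by
      have := P.not_dvd_index
      rwa [hP, index_bot] at this
    have hodd : ∀ u : X, φ u = 1 → (∃ k, u ^ 2 ^ k = 1) → u = 1 := by
      rintro u hu ⟨k, hk⟩
      have h1 : orderOf u ∣ 2 ^ k := orderOf_dvd_of_pow_eq_one hk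
      have h3 : orderOf u ∣ Nat.card φ.ker := by
        have := orderOf_dvd_natCard (⟨u, hu⟩ : φ.ker)
        rwa [← Subgroup.orderOf_coe] at this
      have h4 : Nat.Coprime (2 ^ k) (Nat.card φ.ker) :=
        (Nat.Coprime.pow_left k ((Nat.Prime.coprime_iff_not_dvd Nat.prime_two).mpr hker))
      exact orderOf_eq_one_iff.mp (Nat.eq_one_of_dvd_coprimes h4 h1 h3)
    have hNn : ((zpowers z).comap φ).Normal := by
      have : (zpowers z).Normal := by
        refine ⟨?_⟩
        rintro _ ⟨n, rfl⟩ g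
        refine ⟨n, ?_⟩
        change z ^ n = g * z ^ n * g⁻¹
        rw [((show Commute g z from hzc g).zpow_right n).eq, mul_inv_cancel_right]
      exact this.comap φ
    obtain ⟨P2⟩ : Nonempty (Sylow 2 ((zpowers z).comap φ)) := inferInstance
    have hz01 : ∀ y ∈ zpowers z, y = 1 ∨ y = z := by
      rintro _ ⟨n, rfl⟩
      change z ^ n = 1 ∨ z ^ n = z
      have hz2' : z ^ (2 : ℤ) = 1 := by rw [zpow_ofNat, sq, hz2]
      rcases Int.even_or_odd' n with ⟨m, rfl | rfl⟩
      · left; rw [_root_.zpow_mul, hz2', _root_.one_zpow]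
      · right; rw [_root_.zpow_add, _root_.zpow_mul, hz2', _root_.one_zpow, one_mul, zpow_one]
    have hP2 : IsPGroup 2 ((P2 : Subgroup ((zpowers z).comap φ)).map ((zpowers z).comap φ).subtype) :=
      P2.2.map _
    have hφP : ∀ y ∈ (P2 : Subgroup ((zpowers z).comap φ)).map ((zpowers z).comap φ).subtype, y ≠ 1 →
        φ y = z := by
      intro y hy hy1
      obtain ⟨⟨y', hy'⟩, hyP, rfl⟩ := hy
      rcases hz01 _ hy' with h | h
      · exfalso
        apply hy1
        refine hodd _ h ?_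
        obtain ⟨k, hk⟩ := P2.2 ⟨_, hyP⟩
        exact ⟨k, by
          have := congrArg Subtype.val (congrArg Subtype.val hk)
          simpa using this⟩
      · exact h
    have hne : (P2 : Subgroup ((zpowers z).comap φ)).map ((zpowers z).comap φ).subtype ≠ ⊥ := by
      intro h
      have h1 : (P2 : Subgroup ((zpowers z).comap φ)) = ⊥ :=
        (map_eq_bot_iff_of_injective _ ((zpowers z).comap φ).subtype_injective).mp h
      have h3 : ¬ 2 ∣ Nat.card ((zpowers z).comap φ) := by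
        have := P2.not_dvd_index
        rwa [h1, index_bot] at this
      obtain ⟨u, hu⟩ := hφ z
      have huN : u ∈ (zpowers z).comap φ := by
        change φ u ∈ zpowers z
        rw [hu]; exact mem_zpowers z
      have h4 : z ^ Nat.card ((zpowers z).comap φ) = 1 := by
        have h5 : (⟨u, huN⟩ : ((zpowers z).comap φ : Subgroup X)) ^ Nat.card ((zpowers z).comap φ) = 1 :=
          pow_card_eq_one'
        have h6 : u ^ Nat.card ((zpowers z).comap φ) = 1 := by
          have := congrArg Subtype.val h5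
          simpa using this
        have h7 := congrArg φ h6
        rwa [map_pow, hu, map_one] at h7
      obtain ⟨m, hm⟩ := Nat.odd_iff.mpr (Nat.two_dvd_ne_zero.mp h3)
      rw [hm, pow_succ, pow_mul, sq, hz2, one_pow, one_mul] at h4
      exact hz1 h4
    obtain ⟨x0, hx0, hx1, hx2⟩ := exists_inv_of_two_group hP2 hne
    obtain ⟨X1, hsup, hcent, hxX⟩ := unique_inv ((zpowers z).comap φ) P2 hx0 hx1 hx2 (by
      intro y hy hy1 _
      by_contra hyx
      have h1 : y * x0⁻¹ ≠ 1 := fun h => hyx (mul_inv_eq_one.mp h)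
      have h3 := hφP _ (mul_mem hy (inv_mem hx0)) h1
      rw [map_mul, map_inv, hφP _ hy hy1, hφP _ hx0 hx1, mul_inv_cancel] at h3
      exact hz1 h3.symm)
    refine ⟨x0, hx2, hx1, X1, ?_, hcent⟩
    have h5 : (X1 ⊔ (zpowers z).comap φ).map φ = ⊤ := by
      rw [hsup]; exact map_top_of_surjective φ hφ
    rw [Subgroup.map_sup, map_comap_eq_self_of_surjective hφ] at h5
    rw [← h5, left_eq_sup, zpowers_le]
    exact ⟨x0, hxX, hφP _ hx0 hx1⟩
  · have hne : (P : Subgroup φ.ker).map φ.ker.subtype ≠ ⊥ := by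
      intro h
      exact hP ((map_eq_bot_iff_of_injective _ φ.ker.subtype_injective).mp h)
    have hPg : IsPGroup 2 ((P : Subgroup φ.ker).map φ.ker.subtype) := P.2.map _
    obtain ⟨x0, hx0, hx1, hx2⟩ := exists_inv_of_two_group hPg hne
    obtain ⟨T, hT⟩ := hPg.exists_le_sylow
    obtain ⟨A', hA4, hAinv, hAcomm⟩ := h2 ((T : Subgroup X).map ι) (T.2.map _)
    have hQT : Q ≤ (T : Subgroup X).map φ := by
      have := hQ.le_sylow_of_normal (T.mapSurjective hφ)
      simpa using this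
    -- `A'` is not contained in the kernel
    have hnot : ¬ A' ≤ ((P : Subgroup φ.ker).map φ.ker.subtype).map ι := by
      intro hle
      obtain ⟨s, hs, rfl⟩ := hQT hi
      obtain ⟨u, hu, rfl⟩ := hQT hj
      apply hij
      have h1 := hle (hAcomm (ι s) (mem_map_of_mem ι hs) (ι u) (mem_map_of_mem ι hu))
      obtain ⟨v, ⟨⟨v', hv'⟩, -, rfl⟩, hv⟩ := h1
      have h3 : v' = s * u * s⁻¹ * u⁻¹ := hι (by simpa using hv)
      have h4 : φ (s * u * s⁻¹ * u⁻¹) = 1 := by rw [← h3]; exact hv'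
      simp only [map_mul, map_inv] at h4
      have h6 : φ s * φ u * (φ s)⁻¹ = φ u := mul_inv_eq_one.mp h4
      exact mul_inv_eq_iff_eq_mul.mp h6
    obtain ⟨X1, hsup, hcent, hxX⟩ := unique_inv φ.ker P hx0 hx1 hx2 (by
      intro y hy hy1 hy2
      by_contra hyx
      apply hnot
      -- `1, x0, y, x0 y` are the elements of `A'`
      have hB : (A' ⊓ ((P : Subgroup φ.ker).map φ.ker.subtype).map ι) = A' := by
        have hmem : ∀ v ∈ (P : Subgroup φ.ker).map φ.ker.subtype, v * v = 1 →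
            ι v ∈ A' ⊓ ((P : Subgroup φ.ker).map φ.ker.subtype).map ι := by
          intro v hv hvv
          refine ⟨hAinv _ (mem_map_of_mem ι (hT hv)) (by rw [← map_mul, hvv, map_one]), mem_map_of_mem ι hv⟩
        have hd : Nat.card (A' ⊓ ((P : Subgroup φ.ker).map φ.ker.subtype).map ι : Subgroup G) ∣ 4 := by
          rw [← hA4]; exact card_dvd_of_le inf_le_left
        have h3 : 3 ≤ Nat.card (A' ⊓ ((P : Subgroup φ.ker).map φ.ker.subtype).map ι : Subgroup G) := by
          have hinj : Function.Injective (![⟨1, one_mem _⟩, ⟨ι x0, hmem x0 hx0 hx2⟩, ⟨ι y, hmem y hy hy2⟩] :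
              Fin 3 → (A' ⊓ ((P : Subgroup φ.ker).map φ.ker.subtype).map ι : Subgroup G)) := by
            have e1 : (1 : G) ≠ ι x0 := fun h => hx1 (hι (by rw [← h, map_one]))
            have e2 : (1 : G) ≠ ι y := fun h => hy1 (hι (by rw [← h, map_one]))
            have e3 : ι x0 ≠ ι y := fun h => hyx (hι h.symm)
            intro a b hab
            fin_cases a <;> fin_cases b <;> first | rfl | (exfalso; simp [Subtype.ext_iff, e1, e2, e3, e1.symm, e2.symm, e3.symm] at hab)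
          have := Nat.card_le_card_of_injective _ hinj
          simpa using this
        have h4 : Nat.card (A' ⊓ ((P : Subgroup φ.ker).map φ.ker.subtype).map ι : Subgroup G) = 4 := by
          have hle := Nat.le_of_dvd (by norm_num) hd
          interval_cases hc : Nat.card (A' ⊓ ((P : Subgroup φ.ker).map φ.ker.subtype).map ι : Subgroup G)
          · omega
          · rfl
        exact eq_of_le_of_card_ge inf_le_left (by rw [h4, hA4])
      rw [← hB]
      exact inf_le_right)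
    refine ⟨x0, hx2, hx1, X1, ?_, hcent⟩
    have h5 : (X1 ⊔ φ.ker).map φ = ⊤ := by
      rw [hsup]; exact map_top_of_surjective φ hφ
    rwa [Subgroup.map_sup, (map_eq_bot_iff φ.ker).mpr le_rfl, sup_bot_eq] at h5

/-- `SL(2,F)` is not a section of `G` -/
theorem not_section {F : Type*} [Field F] [Finite F] (hF2 : (2 : F) ≠ 0) [Finite G] [Finite X]
    (h2 : ∀ T : Subgroup G, IsPGroup 2 T → ∃ A' : Subgroup G, Nat.card A' = 4 ∧
      (∀ s ∈ T, s * s = 1 → s ∈ A') ∧ (∀ s ∈ T, ∀ u ∈ T, s * u * s⁻¹ * u⁻¹ ∈ A'))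
    (h3 : ∀ x : G, x * x = 1 → x ≠ 1 → ∀ h, h * x = x * h → (∃ k, h ^ 3 ^ k = 1) →
      h ∈ oc (centralizer ({x} : Set G)))
    (ι : X →* G) (hι : Function.Injective ι) (φ : X →* Matrix.SpecialLinearGroup (Fin 2) F)
    (hφ : Function.Surjective φ) : False := by
  obtain ⟨Q, hQ, i, hi, j, hj, hij, hzQ, w, hw, hw3, hwi⟩ := exists_quat_three (F := F) hF2
  have hQL : Q ≤ normalizer (Q : Set (Matrix.SpecialLinearGroup (Fin 2) F)) := le_normalizer
  have hQn : (Q.subgroupOf (normalizer (Q : Set (Matrix.SpecialLinearGroup (Fin 2) F)))).Normal :=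
    normal_in_normalizer
  have hQp : IsPGroup 2 (Q.subgroupOf (normalizer (Q : Set (Matrix.SpecialLinearGroup (Fin 2) F)))) :=
    hQ.comap_subtype
  let ι' : ((normalizer (Q : Set (Matrix.SpecialLinearGroup (Fin 2) F))).comap φ) →* G :=
    ι.comp (Subgroup.subtype _)
  have hι' : Function.Injective ι' := hι.comp (Subgroup.subtype_injective _)
  let φ' : ((normalizer (Q : Set (Matrix.SpecialLinearGroup (Fin 2) F))).comap φ) →*
      (normalizer (Q : Set (Matrix.SpecialLinearGroup (Fin 2) F))) := φ.subgroupComap _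
  have hφ' : Function.Surjective φ' := φ.subgroupComap_surjective_of_surjective _ hφ
  obtain ⟨x0, hx2, hx1, X1, hX1, hcent⟩ := exists_cover h2 ι' hι' φ' hφ'
    (Q.subgroupOf (normalizer (Q : Set (Matrix.SpecialLinearGroup (Fin 2) F)))) hQp
    (i := ⟨i, hQL hi⟩) (j := ⟨j, hQL hj⟩) (z := ⟨neg1 F, hQL hzQ⟩) hi hj
    (fun h => hij (congrArg Subtype.val h)) (Subtype.ext neg1_mul_neg1)
    (fun h => neg1_ne_one hF2 (congrArg Subtype.val h))
    (fun y => Subtype.ext (neg1_comm y.1).symm)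
  refine false_of_central h3 ι' hι' φ'
    (Q.subgroupOf (normalizer (Q : Set (Matrix.SpecialLinearGroup (Fin 2) F)))) hQp
    (i := ⟨i, hQL hi⟩) (w := ⟨w, hw⟩) hi (Subtype.ext hw3) ?_ (x := ι' x0) ?_ ?_ X1 hX1 ?_
  · intro h
    have h4 : w * i * w⁻¹ = i := congrArg Subtype.val h
    apply hij
    rw [← hwi, h4]
  · rw [← map_mul, hx2, map_one]
  · intro h
    exact hx1 (hι' (by rw [h, map_one]))
  · intro y hy
    rw [← map_mul, hcent y hy, map_mul]

end abstract_part

end Cfsg.Agent.TwoFusion.QuatThree
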