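import Mathlib

/-!
# Perfect groups of automorphisms commuting with a semiregular group

`eq_bot_of_star`: let `V` be an abelian 2-group, `K` a group acting on `V`, `L` a perfect group of
automorphisms of `V` commuting with `K`, such that `g v = k v` with `g ∈ L`, `k ∈ K`, `v ≠ 1` implies `k = 1`,
and `|V| = |K| + 1` or `(|K| + 1)²`.  Then `L = 1`.
-/

set_option autoImplicit false
set_option linter.style.haveILetI false

namespace Cfsg.Agent.TwoFusion.StarLemma

open Subgroup

/-- A perfect group whose Sylow 2-subgroup is central in its normalizer has odd order. -/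
theorem odd_of_perfect {M : Type*} [Group M] [Finite M] (A : Sylow 2 M)
    (hA : normalizer ((A : Subgroup M) : Set M) ≤ centralizer ((A : Subgroup M) : Set M))
    (hM : ⁅(⊤ : Subgroup M), (⊤ : Subgroup M)⁆ = (⊤ : Subgroup M)) : Odd (Nat.card M) := by
  haveI : Fact (Nat.Prime 2) := ⟨Nat.prime_two⟩
  have hcomm : ∀ x y : A, x * y = y * x := fun a b => Subtype.ext (hA (le_normalizer b.2) a a.2)
  set f : M →* A := MonoidHom.transferSylow A hA with hf
  have hker : f.ker = ⊤ := by
    rw [eq_top_iff, ← hM, commutator_le]
    intro x _ y _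
    rw [MonoidHom.mem_ker, map_commutatorElement, commutatorElement_def, hcomm (f x) (f y)]
    group
  have h1 := MonoidHom.not_dvd_card_ker_transferSylow A hA
  rw [← hf, hker, card_top] at h1
  rw [← Nat.not_even_iff_odd, even_iff_two_dvd]
  exact h1

/-- A free action of a finite group on a finite type: the order of the group divides the cardinality. -/
theorem card_dvd_of_free {H X : Type*} [Group H] [Finite H] [Finite X] [MulAction H X]
    (h : ∀ (g : H) (x : X), g • x = x → g = 1) : Nat.card H ∣ Nat.card X := by
  classical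
  have : Fintype H := Fintype.ofFinite H
  have : Fintype X := Fintype.ofFinite X
  have hst : ∀ x : X, MulAction.stabilizer H x = ⊥ := by
    intro x
    rw [eq_bot_iff]
    intro g hg
    exact Subgroup.mem_bot.2 (h g x (MulAction.mem_stabilizer_iff.1 hg))
  rw [Nat.card_eq_fintype_card, Nat.card_eq_fintype_card,
    MulAction.card_eq_sum_card_group_div_card_stabilizer H X]
  apply Finset.dvd_sum
  intro ω _
  have h1 : Fintype.card (MulAction.stabilizer H ω.out) = 1 := by
    rw [← Nat.card_eq_fintype_card, hst]; simp
  rw [h1, Nat.div_one]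

theorem card_eq_ne_one_add_one {W : Type*} [Group W] [Finite W] :
    Nat.card W = Nat.card {w : W // w ≠ 1} + 1 := by
  classical
  rw [← Nat.card_congr (Equiv.optionSubtypeNe (1 : W)), Finite.card_option]

theorem arith {m q w u : ℕ} (hq : q = m + 1) (hm : 0 < m) (h : w * u = q ^ 2) (hw : 1 < w)
    (hdvd : m ∣ w - 1) : w = q ∨ w = q ^ 2 := by
  obtain ⟨a, ha⟩ := hdvd
  have hw' : w = m * a + 1 := by omega
  have ha0 : 0 < a := by
    rcases Nat.eq_zero_or_pos a with h0 | h0
    · rw [h0, Nat.mul_zero] at ha; omega
    · exact h0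
  -- `u ≡ 1 mod m`
  have hu : m ∣ u - 1 ∧ 0 < u := by
    have hu0 : 0 < u := by
      rcases Nat.eq_zero_or_pos u with h0 | h0
      · rw [h0, Nat.mul_zero] at h
        have : 0 < q ^ 2 := by rw [hq]; positivity
        omega
      · exact h0
    refine ⟨?_, hu0⟩
    have h1 : m ∣ m * a * u + u - 1 := by
      have h2 : m * a * u + u = w * u := by rw [hw']; ring
      rw [h2, h, hq]
      have h3 : (m + 1) ^ 2 - 1 = m * (m + 2) := by
        have : (m + 1) ^ 2 = m * (m + 2) + 1 := by ring
        omega
      rw [h3]
      exact Dvd.intro _ rfl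
    have h4 : m * a * u + u - 1 = m * a * u + (u - 1) := by omega
    rw [h4] at h1
    exact (Nat.dvd_add_right (Dvd.intro _ (by rw [Nat.mul_assoc]))).1 h1
  obtain ⟨⟨b, hb⟩, hu0⟩ := hu
  have hu' : u = m * b + 1 := by omega
  rcases Nat.eq_zero_or_pos b with hb0 | hb0
  · right
    rw [hb0, Nat.mul_zero] at hu'
    rw [hu', zero_add, Nat.mul_one] at h
    exact h
  · left
    have h1 : q ≤ w := by
      rw [hq, hw']
      have : m ≤ m * a := Nat.le_mul_of_pos_right m ha0
      omega
    have h2 : q ≤ u := by
      rw [hq, hu']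
      have : m ≤ m * b := Nat.le_mul_of_pos_right m hb0
      omega
    by_contra hne
    have h3 : q < w := lt_of_le_of_ne h1 (Ne.symm hne)
    have h4 : q * q < w * u := Nat.mul_lt_mul_of_lt_of_le h3 h2 (by omega)
    rw [h, sq] at h4
    exact lt_irrefl _ h4

variable {V : Type*} [CommGroup V] [Finite V] {K : Type*} [Group K] [Finite K]

/-- The main lemma. -/
theorem eq_bot_of_star (hFT : ∀ L : Subgroup (MulAut V), Odd (Nat.card L) → Group.IsSolvable L)
    (hV : IsPGroup 2 V) (κ : K →* MulAut V) (L : Subgroup (MulAut V)) (hL : ⁅L, L⁆ = L)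
    (hcomm : ∀ k : K, ∀ g ∈ L, ∀ v : V, κ k (g v) = g (κ k v))
    (hstar : ∀ g ∈ L, ∀ k : K, ∀ v : V, v ≠ 1 → g v = κ k v → k = 1)
    (hcard : Nat.card V = Nat.card K + 1 ∨ Nat.card V = (Nat.card K + 1) ^ 2) : L = ⊥ := by
  classical
  haveI : Fact (Nat.Prime 2) := ⟨Nat.prime_two⟩
  have hKpos : 0 < Nat.card K := Nat.card_pos
  -- `K` acts semiregularly
  have hfree : ∀ k : K, ∀ v : V, v ≠ 1 → κ k v = v → k = 1 := fun k v hv h =>
    hstar 1 (one_mem L) k v hv h.symm
  have hmove : ∀ k : K, ∀ v : V, v ≠ 1 → κ k v ≠ 1 := by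
    intro k v hv h
    exact hv ((MulEquiv.map_eq_one_iff (κ k)).1 h)
  rcases hcard with hcard | hcard
  · -- `K` is regular on the nonidentity elements
    rw [eq_bot_iff]
    intro g hg
    rw [mem_bot]
    ext v
    by_cases hv : v = 1
    · rw [hv, map_one]; rfl
    · set φ : K → {w : V // w ≠ 1} := fun k => ⟨κ k v, hmove k v hv⟩ with hφ
      have hinj : Function.Injective φ := by
        intro k k' hkk
        have h1 : κ k v = κ k' v := congrArg Subtype.val hkk
        have h2 : κ (k'⁻¹ * k) v = v := by
          rw [map_mul, MulAut.mul_apply, h1, ← MulAut.mul_apply, ← map_mul, inv_mul_cancel, map_one]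
          rfl
        exact (inv_mul_eq_one.1 (hfree _ v hv h2)).symm
      have hbij : Function.Bijective φ := by
        rw [Nat.bijective_iff_injective_and_card]
        refine ⟨hinj, ?_⟩
        have := card_eq_ne_one_add_one (W := V)
        omega
      have hgv : g v ≠ 1 := fun h => hv ((MulEquiv.map_eq_one_iff g).1 h)
      obtain ⟨k, hk⟩ := hbij.2 ⟨g v, hgv⟩
      have h1 : κ k v = g v := congrArg Subtype.val hk
      have h2 := hstar g hg k v hv h1.symm
      rw [h2, map_one] at h1
      exact h1.symm
  · set q : ℕ := Nat.card K + 1 with hq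
    obtain ⟨A⟩ : Nonempty (Sylow 2 L) := inferInstance
    have hact : ∀ (a : (A : Subgroup L)) (v : V), a • v = ((a : L) : MulAut V) v := fun _ _ => rfl
    let W : Subgroup V :=
      { carrier := {v | ∀ a ∈ (A : Subgroup L), ((a : L) : MulAut V) v = v}
        one_mem' := fun a _ => map_one _
        mul_mem' := fun hx hy a ha => by rw [map_mul, hx a ha, hy a ha]
        inv_mem' := fun hx a ha => by rw [map_inv, hx a ha] }
    have hWmem : ∀ v, v ∈ W ↔ ∀ a ∈ (A : Subgroup L), ((a : L) : MulAut V) v = v := fun _ => Iff.rfl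
    -- `W ≠ 1`
    have hW1 : 1 < Nat.card W := by
      have h2 : 2 ∣ Nat.card V := by
        obtain ⟨n, hn⟩ := IsPGroup.iff_card.1 hV
        rw [hn]
        apply dvd_pow_self
        rintro rfl
        rw [pow_zero] at hn
        rw [hn] at hcard
        have : 4 ≤ q ^ 2 := by
          have : 2 ≤ q := by omega
          nlinarith
        omega
      obtain ⟨b, hb, hb1⟩ := A.2.exists_fixed_point_of_prime_dvd_card_of_fixed_point V h2
        (a := (1 : V)) (fun a => by rw [hact, map_one])
      have hbW : b ∈ W := fun a ha => hb ⟨a, ha⟩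
      rw [Finite.one_lt_card_iff_nontrivial]
      exact ⟨⟨⟨1, one_mem _⟩, ⟨b, hbW⟩, fun h => hb1 (congrArg Subtype.val h)⟩⟩
    have hKW : ∀ k : K, ∀ v ∈ W, κ k v ∈ W := by
      intro k v hv a ha
      rw [← hcomm k _ a.2, hv a ha]
    -- `|K|` divides `|W| - 1`
    have hdvd : Nat.card K ∣ Nat.card W - 1 := by
      letI : MulAction K {w : W // w ≠ 1} :=
        { smul := fun k w => ⟨⟨κ k w.1, hKW k _ w.1.2⟩, fun h => hmove k (w.1 : V)
            (fun h1 => w.2 (Subtype.ext h1)) (congrArg Subtype.val h)⟩
          one_smul := fun w => Subtype.ext (Subtype.ext (by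
            change κ 1 (w.1 : V) = w.1
            rw [map_one]; rfl))
          mul_smul := fun k k' w => Subtype.ext (Subtype.ext (by
            change κ (k * k') (w.1 : V) = κ k (κ k' w.1)
            rw [map_mul]; rfl)) }
      have h1 : Nat.card K ∣ Nat.card {w : W // w ≠ 1} := by
        apply card_dvd_of_free
        intro k w h
        have h2 : κ k (w.1 : V) = w.1 := congrArg (fun z : {w : W // w ≠ 1} => ((z.1 : W) : V)) h
        exact hfree k _ (fun h1 => w.2 (Subtype.ext h1)) h2
      have h2 := card_eq_ne_one_add_one (W := W)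
      rw [h2, Nat.add_sub_cancel]
      exact h1
    have hWV : Nat.card W * W.index = q ^ 2 := by rw [card_mul_index, hcard]
    have hodd : Odd (Nat.card L) → L = ⊥ := by
      intro ho
      obtain ⟨n, hn⟩ := (Group.isSolvable_def _).1 (hFT L ho)
      have htop : ⁅(⊤ : Subgroup L), (⊤ : Subgroup L)⁆ = (⊤ : Subgroup L) := by
        apply (Subgroup.map_injective L.subtype_injective)
        rw [map_commutator, ← MonoidHom.range_eq_map, Subgroup.range_subtype]
        exact hL
      have h1 : ∀ n, derivedSeries L n = ⊤ := by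
        intro n
        induction n with
        | zero => rfl
        | succ n ih => rw [derivedSeries_succ, ih, htop]
      rw [h1 n] at hn
      have h2 := congrArg (Subgroup.map L.subtype) hn
      rwa [← MonoidHom.range_eq_map, Subgroup.range_subtype, Subgroup.map_bot] at h2
    have htop : ⁅(⊤ : Subgroup L), (⊤ : Subgroup L)⁆ = (⊤ : Subgroup L) := by
      apply (Subgroup.map_injective L.subtype_injective)
      rw [map_commutator, ← MonoidHom.range_eq_map, Subgroup.range_subtype]
      exact hL
    rcases arith hq hKpos hWV hW1 hdvd with hw | hw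
    · -- `|W| = q`
      apply hodd
      apply odd_of_perfect A _ htop
      -- `K` is regular on `W`
      have hreg : ∀ v ∈ W, v ≠ 1 → ∀ v' ∈ W, v' ≠ 1 → ∃ k : K, κ k v = v' := by
        intro v hv hv1 v' hv' hv'1
        set φ : K → {w : W // w ≠ 1} := fun k => ⟨⟨κ k v, hKW k v hv⟩, fun h =>
          hmove k v hv1 (congrArg Subtype.val h)⟩ with hφ
        have hinj : Function.Injective φ := by
          intro k k' hkk
          have h1 : κ k v = κ k' v := congrArg (fun z : {w : W // w ≠ 1} => ((z.1 : W) : V)) hkk
          have h2 : κ (k'⁻¹ * k) v = v := by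
            rw [map_mul, MulAut.mul_apply, h1, ← MulAut.mul_apply, ← map_mul, inv_mul_cancel, map_one]
            rfl
          exact (inv_mul_eq_one.1 (hfree _ v hv1 h2)).symm
        have hbij : Function.Bijective φ := by
          rw [Nat.bijective_iff_injective_and_card]
          refine ⟨hinj, ?_⟩
          have := card_eq_ne_one_add_one (W := W)
          omega
        obtain ⟨k, hk⟩ := hbij.2 ⟨⟨v', hv'⟩, fun h => hv'1 (congrArg Subtype.val h)⟩
        exact ⟨k, congrArg (fun z : {w : W // w ≠ 1} => ((z.1 : W) : V)) hk⟩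
      -- for `k ≠ 1` the map `w ↦ κ k w * w⁻¹` is surjective on `W`
      have hsurj : ∀ k : K, k ≠ 1 → ∀ w ∈ W, ∃ w₁ ∈ W, κ k w₁ * w₁⁻¹ = w := by
        intro k hk w hw'
        set ψ : W → W := fun x => ⟨κ k x * (x : V)⁻¹, mul_mem (hKW k x x.2) (inv_mem x.2)⟩ with hψ
        have hinj : Function.Injective ψ := by
          intro x y hxy
          have h1 : κ k x * (x : V)⁻¹ = κ k y * (y : V)⁻¹ := congrArg Subtype.val hxy
          by_contra hne
          apply hk
          apply hfree k ((x : V) * (y : V)⁻¹)
          · intro h2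
            exact hne (Subtype.ext (mul_inv_eq_one.1 h2))
          · rw [map_mul, map_inv]
            have h3 : κ k x = κ k y * (y : V)⁻¹ * x := by rw [← h1]; group
            rw [h3]
            rw [mul_comm (κ k (y : V) * (y : V)⁻¹ * x) (κ k (y : V))⁻¹]
            rw [mul_assoc (κ k (y : V)), inv_mul_cancel_left, mul_comm]
        obtain ⟨w₁, hw₁⟩ := (Finite.injective_iff_surjective.1 hinj) ⟨w, hw'⟩
        exact ⟨w₁, w₁.2, congrArg Subtype.val hw₁⟩
      -- `N_L(A)` acts trivially on `W`
      have hNW : ∀ g ∈ normalizer ((A : Subgroup L) : Set L), ∀ v ∈ W, ((g : L) : MulAut V) v = v := by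
        intro g hg v hv
        by_cases hv1 : v = 1
        · rw [hv1, map_one]
        have hgv : ((g : L) : MulAut V) v ∈ W := by
          intro a ha
          have h1 : g⁻¹ * a * g ∈ (A : Subgroup L) := by
            have := (mem_normalizer_iff.1 (inv_mem hg) a).1 ha
            simpa using this
          have h2 := hv _ h1
          have h3 : ((g⁻¹ * a * g : L) : MulAut V) v =
              ((g : L) : MulAut V)⁻¹ (((a : L) : MulAut V) (((g : L) : MulAut V) v)) := rfl
          rw [h3] at h2
          rw [MulAut.inv_apply, MulEquiv.symm_apply_eq] at h2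
          exact h2
        have hgv1 : ((g : L) : MulAut V) v ≠ 1 := fun h => hv1 ((MulEquiv.map_eq_one_iff _).1 h)
        obtain ⟨k, hk⟩ := hreg v hv hv1 _ hgv hgv1
        have h2 := hstar g g.2 k v hv1 hk.symm
        rw [h2, map_one] at hk
        exact hk.symm
      -- each element outside `W` is `κ k v * w`
      have hout : ∀ v : V, v ∉ W → ∀ v' : V, v' ∉ W → ∃ k : K, ∃ w ∈ W, v' = κ k v * w := by
        intro v hv v' hv'
        have hne1 : ∀ x : V, x ∉ W → x ≠ 1 := fun x hx h => hx (h ▸ one_mem W)
        have hnotmem : ∀ (k : K) (w : W), κ k v * w ∉ W := by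
          intro k w h
          have h1 : κ k v ∈ W := by
            have := mul_mem h (inv_mem w.2)
            simpa [mul_assoc] using this
          have h2 := hKW k⁻¹ _ h1
          rw [← MulAut.mul_apply, ← map_mul, inv_mul_cancel, map_one] at h2
          exact hv h2
        set φ : K × W → {x : V // x ∉ W} := fun p => ⟨κ p.1 v * p.2, hnotmem p.1 p.2⟩ with hφ
        have hinj : Function.Injective φ := by
          rintro ⟨k, w⟩ ⟨k', w'⟩ h
          have h1 : κ k v * (w : V) = κ k' v * w' := congrArg Subtype.val h
          have hkk : k'⁻¹ * k = 1 := by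
            by_contra hk1
            have h2 : κ (k'⁻¹ * k) v = v * κ k'⁻¹ ((w' : V) * (w : V)⁻¹) := by
              have h3 : κ k v = κ k' v * ((w' : V) * (w : V)⁻¹) := by
                rw [← mul_assoc, ← h1]; group
              rw [map_mul, MulAut.mul_apply, h3, map_mul, ← MulAut.mul_apply, ← map_mul, inv_mul_cancel,
                map_one]
              rfl
            set w₂ : V := κ k'⁻¹ ((w' : V) * (w : V)⁻¹) with hw₂
            have hw₂W : w₂ ∈ W := hKW _ _ (mul_mem w'.2 (inv_mem w.2))
            obtain ⟨w₁, hw₁, hw₁e⟩ := hsurj _ hk1 w₂⁻¹ (inv_mem hw₂W)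
            apply hk1
            apply hfree _ (v * w₁)
            · intro h3
              apply hv
              have : v = w₁⁻¹ := eq_inv_of_mul_eq_one_left h3
              rw [this]
              exact inv_mem hw₁
            · have h4 : κ (k'⁻¹ * k) w₁ = w₂⁻¹ * w₁ := by rw [← hw₁e]; group
              rw [map_mul, h2, h4, mul_assoc, ← mul_assoc w₂, mul_inv_cancel, one_mul]
          have hkk' : k' = k := inv_mul_eq_one.1 hkk
          subst hkk'
          have h3 : (w : V) = w' := mul_left_cancel h1
          exact Prod.ext rfl (Subtype.ext h3)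
        have hbij : Function.Bijective φ := by
          rw [Nat.bijective_iff_injective_and_card]
          refine ⟨hinj, ?_⟩
          have h1 : Nat.card V = Nat.card W + Nat.card {x : V // x ∉ W} := by
            rw [← Nat.card_congr (Equiv.sumCompl (fun x : V => x ∈ W)), Nat.card_sum]
          rw [Nat.card_prod]
          rw [hcard, hw] at h1
          rw [hw]
          have h2 : Nat.card K = q - 1 := by omega
          have h3 : q ^ 2 = q + Nat.card K * q := by
            rw [hq]; ring
          omega
        obtain ⟨⟨k, w⟩, hkw⟩ := hbij.2 ⟨v', hv'⟩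
        exact ⟨k, w, w.2, (congrArg Subtype.val hkw).symm⟩
      -- `N_L(A)` acts trivially on `V / W`
      have hNV : ∀ g ∈ normalizer ((A : Subgroup L) : Set L), ∀ v : V, ((g : L) : MulAut V) v * v⁻¹ ∈ W := by
        intro g hg v
        by_cases hv : v ∈ W
        · rw [hNW g hg v hv, mul_inv_cancel]
          exact one_mem W
        have hgv : ((g : L) : MulAut V) v ∉ W := by
          intro h
          have h1 := hNW g⁻¹ (inv_mem hg) _ h
          have h2 : ((g⁻¹ : L) : MulAut V) (((g : L) : MulAut V) v) = v := by
            have h3 : ((g⁻¹ * g : L) : MulAut V) v = v := by rw [inv_mul_cancel]; rfl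
            exact h3
          rw [h2] at h1
          rw [← h1] at h
          exact hv h
        obtain ⟨k, w, hw', hkw⟩ := hout v hv _ hgv
        by_cases hk : k = 1
        · rw [hkw, hk, map_one]
          change v * w * v⁻¹ ∈ W
          rw [mul_comm v w, mul_assoc, mul_inv_cancel, mul_one]
          exact hw'
        · exfalso
          obtain ⟨w₁, hw₁, hw₁e⟩ := hsurj k hk w hw'
          apply hk
          refine hstar g g.2 k (v * w₁) ?_ ?_
          · intro h3
            apply hv
            have : v = w₁⁻¹ := eq_inv_of_mul_eq_one_left h3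
            rw [this]
            exact inv_mem hw₁
          · rw [map_mul, map_mul, hkw, hNW g hg w₁ hw₁, ← hw₁e]
            group
      -- so `N_L(A)` is commutative
      intro g hg
      rw [mem_centralizer_iff]
      intro a ha
      have haN : a ∈ normalizer ((A : Subgroup L) : Set L) := le_normalizer ha
      apply Subtype.ext
      ext v
      change ((a : L) : MulAut V) (((g : L) : MulAut V) v) = ((g : L) : MulAut V) (((a : L) : MulAut V) v)
      have h1 := hNV g hg v
      have h2 := hNV a haN v
      have e1 : ((g : L) : MulAut V) v = (((g : L) : MulAut V) v * v⁻¹) * v := by group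
      have e2 : ((a : L) : MulAut V) v = (((a : L) : MulAut V) v * v⁻¹) * v := by group
      calc ((a : L) : MulAut V) (((g : L) : MulAut V) v)
          = ((a : L) : MulAut V) ((((g : L) : MulAut V) v * v⁻¹) * v) := by rw [← e1]
        _ = (((g : L) : MulAut V) v * v⁻¹) * ((a : L) : MulAut V) v := by
            rw [map_mul, hNW a haN _ h1]
        _ = (((g : L) : MulAut V) v * v⁻¹) * ((((a : L) : MulAut V) v * v⁻¹) * v) := by rw [← e2]
        _ = (((a : L) : MulAut V) v * v⁻¹) * ((((g : L) : MulAut V) v * v⁻¹) * v) :=
            mul_left_comm _ _ _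
        _ = (((a : L) : MulAut V) v * v⁻¹) * ((g : L) : MulAut V) v := by rw [← e1]
        _ = ((g : L) : MulAut V) ((((a : L) : MulAut V) v * v⁻¹) * v) := by
            rw [map_mul, hNW g hg _ h2]
        _ = ((g : L) : MulAut V) (((a : L) : MulAut V) v) := by rw [← e2]
    · -- `W = V`: then `A = 1`
      apply hodd
      have hWtop : W = ⊤ := by
        rw [← Subgroup.card_eq_iff_eq_top, hw, hcard]
      have hA : (A : Subgroup L) = ⊥ := by
        rw [eq_bot_iff]
        intro a ha
        rw [mem_bot]
        apply Subtype.ext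
        ext v
        have hv : v ∈ W := by rw [hWtop]; exact mem_top v
        exact hv a ha
      rw [← Nat.not_even_iff_odd, even_iff_two_dvd]
      have h1 := A.not_dvd_index
      rwa [hA, index_bot] at h1

end Cfsg.Agent.TwoFusion.StarLemma
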