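import Mathlib
import Cfsg.Agent.TwoFusion.QuadCount

/-!
# 2-groups with three involutions permuted transitively by an automorphism
-/

set_option autoImplicit false
set_option linter.unusedSectionVars false

namespace Cfsg.Agent.TwoFusion.ThreeInvol

variable {T : Type*} [Group T] [Finite T]

/-- the configuration -/
structure Hyp (φ : MulAut T) : Prop where
  two : IsPGroup 2 T
  card : Nat.card {t : T // orderOf t = 2} = 3
  trans : ∀ s t : T, orderOf s = 2 → orderOf t = 2 → ∃ k : ℕ, (φ ^ k) s = t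

theorem cube_eq_one (hT : IsPGroup 2 T) (y : T) (hy : y * y * y = 1) : y = 1 := by
  obtain ⟨k, hk⟩ := hT y
  have h3 : y ^ 3 = 1 := by rw [pow_succ, pow_two]; exact hy
  have h1 : orderOf y ∣ 2 ^ k := orderOf_dvd_of_pow_eq_one hk
  have h2 : orderOf y ∣ 3 := orderOf_dvd_of_pow_eq_one h3
  have h4 : Nat.Coprime (2 ^ k) 3 := Nat.Coprime.pow_left k (by norm_num)
  have h5 : orderOf y = 1 := Nat.dvd_one.1 (by rw [← h4]; exact Nat.dvd_gcd h1 h2)
  exact orderOf_eq_one_iff.1 h5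

theorem orderOf_two {x : T} (h : x * x = 1) (h1 : x ≠ 1) : orderOf x = 2 :=
  orderOf_eq_prime (by rw [pow_two]; exact h) h1

theorem sq_of_order {x : T} (h : orderOf x = 2) : x * x = 1 := by
  rw [← pow_two, ← h]; exact pow_orderOf_eq_one x

/-- a nontrivial element of a 2-group has a power which is an involution -/
theorem exists_pow (hT : IsPGroup 2 T) (x : T) (hx : x ≠ 1) :
    ∃ k : ℕ, x ^ 2 ^ k * x ^ 2 ^ k = 1 ∧ x ^ 2 ^ k ≠ 1 := by
  obtain ⟨n, hn⟩ := hT x
  classical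
  have hex : ∃ n, x ^ 2 ^ n = 1 := ⟨n, hn⟩
  have h0 : Nat.find hex ≠ 0 := by
    intro h
    have := Nat.find_spec hex
    rw [h, pow_zero, pow_one] at this
    exact hx this
  obtain ⟨k, hk⟩ := Nat.exists_eq_succ_of_ne_zero h0
  refine ⟨k, ?_, ?_⟩
  · rw [← pow_two, ← pow_mul, ← pow_succ]
    have := Nat.find_spec hex
    rwa [hk] at this
  · exact Nat.find_min hex (by rw [hk]; exact Nat.lt_succ_self k)

variable {φ : MulAut T}

namespace Hyp

theorem central (h : Hyp φ) {x : T} (hx : x * x = 1) (y : T) : x * y = y * x := by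
  by_cases hx1 : x = 1
  · rw [hx1]; simp
  have hxo := orderOf_two hx hx1
  have : Nontrivial T := ⟨x, 1, hx1⟩
  have : Fact (Nat.Prime 2) := ⟨Nat.prime_two⟩
  have hc := h.two.center_nontrivial
  obtain ⟨⟨z, hz⟩, hz1⟩ := exists_ne (1 : Subgroup.center T)
  have hz1' : z ≠ 1 := fun e => hz1 (Subtype.ext e)
  obtain ⟨k, hk1, hk2⟩ := exists_pow h.two z hz1'
  obtain ⟨j, hj⟩ := h.trans _ x (orderOf_two hk1 hk2) hxo
  have hzc : z ^ 2 ^ k ∈ Subgroup.center T := pow_mem hz _
  have e1 := Subgroup.mem_center_iff.1 hzc ((φ ^ j)⁻¹ y)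
  have e2 := congrArg (φ ^ j) e1
  rw [map_mul, map_mul, hj, MulAut.apply_inv_self] at e2
  exact e2.symm

theorem pow_of_fix (x : T) (n : ℕ) (hn : (φ ^ n) x = x) (k : ℕ) : (φ ^ k) x = (φ ^ (k % n)) x := by
  conv_lhs => rw [← Nat.mod_add_div k n, pow_add, pow_mul]
  have : ∀ j : ℕ, ((φ ^ n) ^ j) x = x := by
    intro j
    induction j with
    | zero => simp
    | succ j ih => rw [pow_succ, MulAut.mul_apply, hn, ih]
  rw [MulAut.mul_apply, this]

/-- `φ` acts on the involutions as a three-cycle -/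
theorem three (h : Hyp φ) {x : T} (hx : orderOf x = 2) : φ x ≠ x ∧ φ (φ x) ≠ x ∧ φ (φ (φ x)) = x := by
  classical
  have hcard : ({t : T | orderOf t = 2} : Set T).ncard = 3 := by
    rw [← h.card]; exact (Nat.card_coe_set_eq _).symm
  have hsub : ∀ n : ℕ, 0 < n → (φ ^ n) x = x → ({t : T | orderOf t = 2} : Set T) ⊆
      ((Finset.range n).image (fun k => (φ ^ k) x) : Finset T) := by
    intro n hn0 hn t ht
    obtain ⟨k, hk⟩ := h.trans x t hx ht
    rw [pow_of_fix x n hn k] at hk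
    simp only [Finset.coe_image, Set.mem_image, Finset.coe_range, Set.mem_Iio]
    exact ⟨k % n, Nat.mod_lt _ hn0, hk⟩
  have hle : ∀ n : ℕ, 0 < n → (φ ^ n) x = x → 3 ≤ n := by
    intro n hn0 hn
    have h1 := Set.ncard_le_ncard (hsub n hn0 hn) (Finset.finite_toSet _)
    rw [hcard, Set.ncard_coe_finset] at h1
    exact h1.trans (Finset.card_image_le.trans (by simp))
  have n1 : φ x ≠ x := by
    intro e
    have := hle 1 (by norm_num) (by simpa using e)
    omega
  have n2 : φ (φ x) ≠ x := by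
    intro e
    have := hle 2 (by norm_num) (by rw [pow_two, MulAut.mul_apply]; exact e)
    omega
  refine ⟨n1, n2, ?_⟩
  have o : ∀ y : T, orderOf y = 2 → orderOf (φ y) = 2 := by
    intro y hy; rw [← hy]; exact orderOf_injective φ.toMonoidHom φ.injective y
  have hn3 : φ (φ x) ≠ φ x := fun e => n1 (φ.injective e)
  have hset : ({x, φ x, φ (φ x)} : Set T) = {t : T | orderOf t = 2} := by
    refine Set.eq_of_subset_of_ncard_le ?_ ?_ (Set.toFinite _)
    · rintro y (rfl | rfl | rfl)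
      · exact hx
      · exact o _ hx
      · exact o _ (o _ hx)
    · rw [hcard, Set.ncard_eq_toFinset_card']
      simp [n1.symm, n2.symm, hn3.symm]
  have h3 : φ (φ (φ x)) ∈ ({x, φ x, φ (φ x)} : Set T) := by
    rw [hset]; exact o _ (o _ (o _ hx))
  rcases h3 with h3 | h3 | h3
  · exact h3
  · exact absurd (φ.injective h3) n2
  · exact absurd (φ.injective (φ.injective h3)) n1

theorem three' (h : Hyp φ) {x : T} (hx : x * x = 1) : φ (φ (φ x)) = x := by
  by_cases h1 : x = 1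
  · rw [h1]; simp
  · exact (h.three (orderOf_two hx h1)).2.2

/-- the subgroup of elements with square one -/
def E (h : Hyp φ) : Subgroup T where
  carrier := {x | x * x = 1}
  one_mem' := by simp
  mul_mem' := by
    intro a b ha hb
    have ha' : a * a = 1 := ha
    have hb' : b * b = 1 := hb
    show a * b * (a * b) = 1
    calc a * b * (a * b) = a * (b * a) * b := by group
      _ = (a * a) * (b * b) := by rw [h.central hb' a]; group
      _ = 1 := by rw [ha', hb', one_mul]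
  inv_mem' := by
    intro a ha
    have ha' : a * a = 1 := ha
    show a⁻¹ * a⁻¹ = 1
    rw [← mul_inv_rev, ha', inv_one]

theorem mem_E (h : Hyp φ) (x : T) : x ∈ h.E ↔ x * x = 1 := Iff.rfl

theorem card_E (h : Hyp φ) : Nat.card h.E = 4 := by
  have h1 : (h.E : Set T) = insert 1 {t : T | orderOf t = 2} := by
    ext x
    constructor
    · intro hx
      by_cases h1 : x = 1
      · exact Or.inl h1
      · exact Or.inr (orderOf_two hx h1)
    · rintro (rfl | hx)
      · exact one_mem h.E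
      · exact sq_of_order hx
  have h2 : Nat.card h.E = (h.E : Set T).ncard := Nat.card_coe_set_eq _
  rw [h2, h1, Set.ncard_insert_of_notMem (by simp)]
  have h3 : ({t : T | orderOf t = 2} : Set T).ncard = 3 := by
    rw [← h.card]; exact (Nat.card_coe_set_eq _).symm
  rw [h3]

theorem orderOf_map (y : T) : orderOf (φ y) = orderOf y := orderOf_injective φ.toMonoidHom φ.injective y

/-- A `φ`-invariant subgroup which is not trivial contains all involutions. -/
theorem E_le (h : Hyp φ) (N : Subgroup T) (hN : ∀ x ∈ N, φ x ∈ N) (y : T) (hy : y ∈ N) (hy1 : y ≠ 1) :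
    h.E ≤ N := by
  intro e he
  by_cases he1 : e = 1
  · rw [he1]; exact one_mem N
  obtain ⟨k, hk1, hk2⟩ := exists_pow h.two y hy1
  obtain ⟨j, hj⟩ := h.trans _ e (orderOf_two hk1 hk2) (orderOf_two he he1)
  have : ∀ (j : ℕ) (x : T), x ∈ N → (φ ^ j) x ∈ N := by
    intro j
    induction j with
    | zero => intro x hx; simpa using hx
    | succ j ih => intro x hx; rw [pow_succ, MulAut.mul_apply]; exact ih _ (hN x hx)
  rw [← hj]
  exact this j _ (pow_mem hy _)

end Hyp

/-- the minimal configuration: `R` is minimal among the `φ`-invariant subgroups on which `γ` acts nontrivially -/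
structure Min (φ γ : MulAut T) (R : Subgroup T) : Prop where
  inv : ∀ x ∈ R, φ x ∈ R
  ne : ∃ x ∈ R, γ x ≠ x
  min : ∀ N : Subgroup T, N ≤ R → N ≠ R → (∀ x ∈ N, φ x ∈ N) → ∀ x ∈ N, γ x = x
  comm : ∀ x, φ (γ x) = γ (φ x)
  mem : ∀ N : Subgroup T, (∀ x ∈ N, φ x ∈ N) → ∀ x ∈ N, γ x ∈ N
  cube : ∀ x, γ (γ (γ x)) = x
  fixE : ∀ x : T, x * x = 1 → γ x = x

theorem exists_min (φ γ : MulAut T) (hne : γ ≠ 1) (hcomm : ∀ x, φ (γ x) = γ (φ x))
    (hmem : ∀ N : Subgroup T, (∀ x ∈ N, φ x ∈ N) → ∀ x ∈ N, γ x ∈ N)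
    (hcube : ∀ x, γ (γ (γ x)) = x) (hfix : ∀ x : T, x * x = 1 → γ x = x) : ∃ R : Subgroup T, Min φ γ R := by
  have hwf : WellFounded (fun A B : Subgroup T => A < B) := wellFounded_lt
  obtain ⟨R, ⟨hR1, hR2⟩, hR3⟩ := hwf.has_min {R : Subgroup T | (∀ x ∈ R, φ x ∈ R) ∧ ∃ x ∈ R, γ x ≠ x} (by
    refine ⟨⊤, fun x _ => Subgroup.mem_top _, ?_⟩
    by_contra hcon
    push Not at hcon
    apply hne
    ext x
    exact hcon x (Subgroup.mem_top x))
  refine ⟨R, hR1, hR2, ?_, hcomm, hmem, hcube, hfix⟩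
  intro N hN1 hN2 hN3
  by_contra hcon
  push Not at hcon
  exact hR3 N ⟨hN3, hcon⟩ (lt_of_le_of_ne hN1 hN2)

namespace Min

variable {γ : MulAut T} {R : Subgroup T}

theorem tele (m : Min φ γ R) (x : T) : x⁻¹ * γ x * γ (x⁻¹ * γ x) * γ (γ (x⁻¹ * γ x)) = 1 := by
  rw [map_mul, map_mul, map_inv, map_inv, m.cube]; group

theorem eq_of_fix (m : Min φ γ R) (h : Hyp φ) (x : T) (hx : γ (x⁻¹ * γ x) = x⁻¹ * γ x) : γ x = x := by
  have h1 := m.tele x
  rw [hx, hx] at h1
  have h2 := cube_eq_one h.two _ h1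
  exact (inv_mul_eq_one.1 h2).symm

theorem closure_eq (m : Min φ γ R) (h : Hyp φ) : Subgroup.closure {y | ∃ x ∈ R, y = x⁻¹ * γ x} = R := by
  set D := Subgroup.closure {y | ∃ x ∈ R, y = x⁻¹ * γ x} with hD
  have h1 : D ≤ R := by
    rw [hD, Subgroup.closure_le]
    rintro y ⟨x, hx, rfl⟩
    exact mul_mem (inv_mem hx) (m.mem R m.inv x hx)
  by_contra hne
  have h2 : ∀ x ∈ D, φ x ∈ D := by
    intro x hx
    rw [hD] at hx
    induction hx using Subgroup.closure_induction with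
    | mem y hy =>
      obtain ⟨x, hx, rfl⟩ := hy
      apply Subgroup.subset_closure
      exact ⟨φ x, m.inv x hx, by rw [map_mul, map_inv, m.comm]⟩
    | one => rw [map_one]; exact one_mem D
    | mul a b _ _ ha hb => rw [map_mul]; exact mul_mem ha hb
    | inv a _ ha => rw [map_inv]; exact inv_mem ha
  have h3 := m.min D h1 hne h2
  obtain ⟨x, hx, hx1⟩ := m.ne
  exact hx1 (m.eq_of_fix h x (h3 _ (Subgroup.subset_closure ⟨x, hx, rfl⟩)))

/-- proper normal `φ`-invariant subgroups are central -/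
theorem central_of_normal (m : Min φ γ R) (h : Hyp φ) (N : Subgroup T) (hNR : N ≤ R) (hne : N ≠ R)
    (hφ : ∀ x ∈ N, φ x ∈ N) (hn : ∀ x ∈ R, ∀ n ∈ N, x * n * x⁻¹ ∈ N) : ∀ n ∈ N, ∀ x ∈ R, n * x = x * n := by
  have h3 := m.min N hNR hne hφ
  intro n hnN x hx
  have hle : R ≤ Subgroup.centralizer {n} := by
    conv_lhs => rw [← m.closure_eq h]
    rw [Subgroup.closure_le]
    rintro y ⟨x, hx, rfl⟩
    have e1 := h3 _ (hn x hx n hnN)
    rw [map_mul, map_mul, map_inv, h3 n hnN] at e1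
    show x⁻¹ * γ x ∈ Subgroup.centralizer {n}
    rw [Subgroup.mem_centralizer_singleton_iff]
    -- γ x * n * (γ x)⁻¹ = x * n * x⁻¹
    have e2 : γ x * n = x * n * x⁻¹ * γ x := by rw [← e1]; group
    calc x⁻¹ * γ x * n = x⁻¹ * (γ x * n) := by group
      _ = n * (x⁻¹ * γ x) := by rw [e2]; group
  have h4 := hle hx
  rw [Subgroup.mem_centralizer_singleton_iff] at h4
  exact h4.symm

theorem nonabelian (m : Min φ γ R) (h : Hyp φ) : ∃ x ∈ R, ∃ y ∈ R, x * y ≠ y * x := by
  by_contra hcon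
  push Not at hcon
  obtain ⟨x, hx, hx1⟩ := m.ne
  have hgx : γ x ∈ R := m.mem R m.inv x hx
  have hy1 : x⁻¹ * γ x ≠ 1 := fun e => hx1 (inv_mul_eq_one.1 e).symm
  obtain ⟨k, hk1, hk2⟩ := exists_pow h.two _ hy1
  have hc : Commute x⁻¹ (γ x) := hcon _ (inv_mem hx) _ hgx
  have e1 : (x⁻¹ * γ x) ^ 2 ^ k = (x ^ 2 ^ k)⁻¹ * γ (x ^ 2 ^ k) := by
    rw [hc.mul_pow, inv_pow, map_pow]
  rw [e1] at hk1 hk2
  have e2 := m.fixE _ hk1
  have e3 := m.eq_of_fix h _ e2
  exact hk2 (by rw [e3]; group)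

theorem proper_sq (m : Min φ γ R) (h : Hyp φ) : ∀ x ∈ R, ∀ y ∈ R, x * x * y = y * (x * x) := by
  have : Fact (Nat.Prime 2) := ⟨Nat.prime_two⟩
  set M := Subgroup.closure {y | ∃ x ∈ R, y = x * x} with hM
  have h1 : M ≤ R := by
    rw [hM, Subgroup.closure_le]
    rintro y ⟨x, hx, rfl⟩
    exact mul_mem hx hx
  have h2 : ∀ x ∈ M, φ x ∈ M := by
    intro x hx
    rw [hM] at hx
    induction hx using Subgroup.closure_induction with
    | mem y hy =>
      obtain ⟨x, hx, rfl⟩ := hy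
      apply Subgroup.subset_closure
      exact ⟨φ x, m.inv x hx, by rw [map_mul]⟩
    | one => rw [map_one]; exact one_mem M
    | mul a b _ _ ha hb => rw [map_mul]; exact mul_mem ha hb
    | inv a _ ha => rw [map_inv]; exact inv_mem ha
  have h3 : ∀ g ∈ R, ∀ n ∈ M, g * n * g⁻¹ ∈ M := by
    intro g hg n hn
    rw [hM] at hn
    induction hn using Subgroup.closure_induction with
    | mem y hy =>
      obtain ⟨x, hx, rfl⟩ := hy
      apply Subgroup.subset_closure
      exact ⟨g * x * g⁻¹, mul_mem (mul_mem hg hx) (inv_mem hg), by group⟩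
    | one => rw [mul_one, mul_inv_cancel]; exact one_mem M
    | mul a b _ _ ha hb =>
      have : g * (a * b) * g⁻¹ = g * a * g⁻¹ * (g * b * g⁻¹) := by group
      rw [this]; exact mul_mem ha hb
    | inv a _ ha =>
      have : g * a⁻¹ * g⁻¹ = (g * a * g⁻¹)⁻¹ := by group
      rw [this]; exact inv_mem ha
  -- index two subgroup
  have h4 : M ≠ R := by
    have hR1 : ∃ x ∈ R, x ≠ 1 := by
      obtain ⟨x, hx, hx1⟩ := m.ne
      exact ⟨x, hx, fun e => hx1 (by rw [e, map_one])⟩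
    obtain ⟨x0, hx0, hx01⟩ := hR1
    have hnt : Nontrivial R := ⟨⟨x0, hx0⟩, 1, fun e => hx01 (congrArg Subtype.val e)⟩
    obtain ⟨n, hn⟩ := IsPGroup.iff_card.1 (h.two.to_subgroup R)
    have hn0 : n ≠ 0 := by
      rintro rfl
      rw [pow_zero] at hn
      have := Finite.one_lt_card (α := R)
      omega
    obtain ⟨k, rfl⟩ := Nat.exists_eq_succ_of_ne_zero hn0
    obtain ⟨H, hH⟩ := Sylow.exists_subgroup_card_pow_prime (G := R) 2 (n := k) (by
      rw [hn]; exact pow_dvd_pow 2 (Nat.le_succ k))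
    have hidx : H.index = 2 := by
      have := H.card_mul_index
      rw [hH, hn, pow_succ] at this
      exact Nat.eq_of_mul_eq_mul_left (by positivity) this
    intro e
    have hle : M ≤ H.map R.subtype := by
      rw [hM, Subgroup.closure_le]
      rintro y ⟨x, hx, rfl⟩
      exact ⟨⟨x, hx⟩ * ⟨x, hx⟩, Subgroup.mul_self_mem_of_index_two hidx _, rfl⟩
    rw [e] at hle
    have : H = ⊤ := by
      rw [eq_top_iff]
      rintro ⟨x, hx⟩ _
      obtain ⟨y, hy, hyx⟩ := hle hx
      have : y = ⟨x, hx⟩ := Subtype.ext hyx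
      rw [← this]; exact hy
    rw [this, Subgroup.index_top] at hidx
    omega
  intro x hx y hy
  exact m.central_of_normal h M h1 h4 h2 h3 _ (Subgroup.subset_closure ⟨x, hx, rfl⟩) y hy

theorem surj (m : Min φ γ R) : ∀ y ∈ R, ∃ x ∈ R, φ x = y := by
  intro y hy
  let f : R → R := fun x => ⟨φ x, m.inv x x.2⟩
  have hf : Function.Injective f := by
    intro a b hab
    have : φ (a : T) = φ (b : T) := congrArg Subtype.val hab
    exact Subtype.ext (φ.injective this)
  obtain ⟨x, hx⟩ := (Finite.injective_iff_surjective.1 hf) ⟨y, hy⟩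
  exact ⟨x, x.2, congrArg Subtype.val hx⟩

/-- the centre of `R` -/
def cen (R : Subgroup T) : Subgroup T where
  carrier := {z | z ∈ R ∧ ∀ y ∈ R, z * y = y * z}
  one_mem' := ⟨one_mem R, fun y _ => by simp⟩
  mul_mem' := by
    rintro a b ⟨ha, ha'⟩ ⟨hb, hb'⟩
    exact ⟨mul_mem ha hb, fun y hy => by rw [mul_assoc, hb' y hy, ← mul_assoc, ha' y hy, mul_assoc]⟩
  inv_mem' := by
    rintro a ⟨ha, ha'⟩
    exact ⟨inv_mem ha, fun y hy => by
      have := ha' y⁻¹ (inv_mem hy)
      have h2 := congrArg Inv.inv this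
      simp only [mul_inv_rev, inv_inv] at h2
      exact h2.symm⟩

theorem mem_cen (z : T) : z ∈ cen R ↔ z ∈ R ∧ ∀ y ∈ R, z * y = y * z := Iff.rfl

theorem cen_inv (m : Min φ γ R) : ∀ x ∈ cen R, φ x ∈ cen R := by
  rintro x ⟨hx, hx'⟩
  refine ⟨m.inv x hx, fun y hy => ?_⟩
  obtain ⟨y', hy', rfl⟩ := m.surj y hy
  rw [← map_mul, hx' y' hy', map_mul]

theorem cen_fix (m : Min φ γ R) (h : Hyp φ) : ∀ x ∈ cen R, γ x = x := by
  apply m.min (cen R) (fun x hx => hx.1) _ m.cen_inv
  intro e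
  obtain ⟨x, hx, y, hy, hxy⟩ := m.nonabelian h
  have : x ∈ cen R := by rw [e]; exact hx
  exact hxy (this.2 y hy)

theorem sq_cen (m : Min φ γ R) (h : Hyp φ) {x : T} (hx : x ∈ R) : x * x ∈ cen R :=
  ⟨mul_mem hx hx, m.proper_sq h x hx⟩

theorem comm_cen (m : Min φ γ R) (h : Hyp φ) {x y : T} (hx : x ∈ R) (hy : y ∈ R) :
    x⁻¹ * y⁻¹ * x * y ∈ cen R := by
  have h1 := mul_mem (mul_mem (inv_mem (m.sq_cen h hx)) (m.sq_cen h (mul_mem hx (inv_mem hy)))) (m.sq_cen h hy)
  have : (x * x)⁻¹ * (x * y⁻¹ * (x * y⁻¹)) * (y * y) = x⁻¹ * y⁻¹ * x * y := by group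
  rw [this] at h1; exact h1

theorem comm_sq (m : Min φ γ R) (h : Hyp φ) {x y : T} (hx : x ∈ R) (hy : y ∈ R) :
    (x⁻¹ * y⁻¹ * x * y) * (x⁻¹ * y⁻¹ * x * y) = 1 := by
  have h1 := (m.comm_cen h hx hy).2
  have h2 := (m.sq_cen h hx).2 y hy
  -- x * y = y * x * c
  generalize hc : x⁻¹ * y⁻¹ * x * y = c at h1 ⊢
  have e1 : x * y = y * x * c := by rw [← hc]; group
  have e2 : x * x * y = y * (x * x) * (c * c) := by
    calc x * x * y = x * (x * y) := by group
      _ = x * (y * x * c) := by rw [e1]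
      _ = x * y * x * c := by group
      _ = y * x * c * x * c := by rw [e1]
      _ = y * x * (c * x) * c := by group
      _ = y * (x * x) * (c * c) := by rw [h1 x hx]; group
  rw [h2] at e2
  exact (mul_eq_left.1 e2.symm)

theorem mul_sq (m : Min φ γ R) (h : Hyp φ) {x y : T} (hx : x ∈ R) (hy : y ∈ R) :
    x * y * (x * y) = x * x * (y * y) * (y⁻¹ * x⁻¹ * y * x) := by
  have h1 := (m.comm_cen h hy hx).2
  generalize hc : y⁻¹ * x⁻¹ * y * x = c at h1 ⊢
  have e1 : y * x = x * y * c := by rw [← hc]; group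
  calc x * y * (x * y) = x * (y * x) * y := by group
    _ = x * x * y * (c * y) := by rw [e1]; group
    _ = _ := by rw [h1 y hy]; group

/-- elements of `R` of order dividing four -/
def R4 (m : Min φ γ R) (h : Hyp φ) : Subgroup T where
  carrier := {x | x ∈ R ∧ x * x * (x * x) = 1}
  one_mem' := ⟨one_mem R, by simp⟩
  mul_mem' := by
    rintro a b ⟨ha, ha'⟩ ⟨hb, hb'⟩
    refine ⟨mul_mem ha hb, ?_⟩
    rw [m.mul_sq h ha hb]
    have h1 := (m.comm_cen h hb ha).2
    have h2 := m.comm_sq h hb ha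
    generalize b⁻¹ * a⁻¹ * b * a = c at h1 h2 ⊢
    have h3 := (m.sq_cen h ha).2
    calc a * a * (b * b) * c * (a * a * (b * b) * c) = a * a * (b * b) * (c * (a * a * (b * b))) * c := by group
      _ = a * a * (b * b * (a * a)) * (b * b) * (c * c) := by
        rw [h1 _ (mul_mem (mul_mem ha ha) (mul_mem hb hb))]; group
      _ = a * a * (a * a) * (b * b * (b * b)) * (c * c) := by
        rw [← h3 _ (mul_mem hb hb)]; group
      _ = 1 := by rw [ha', hb', h2, one_mul, one_mul]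
  inv_mem' := by
    rintro a ⟨ha, ha'⟩
    refine ⟨inv_mem ha, ?_⟩
    have : a⁻¹ * a⁻¹ * (a⁻¹ * a⁻¹) = (a * a * (a * a))⁻¹ := by group
    rw [this, ha', inv_one]

theorem four (m : Min φ γ R) (h : Hyp φ) : ∀ x ∈ R, x * x * (x * x) = 1 := by
  have key : R ≤ m.R4 h := by
    conv_lhs => rw [← m.closure_eq h]
    rw [Subgroup.closure_le]
    rintro y ⟨x, hx, rfl⟩
    have hgx : γ x ∈ R := m.mem R m.inv x hx
    refine ⟨mul_mem (inv_mem hx) hgx, ?_⟩
    have hyR : x⁻¹ * γ x ∈ R := mul_mem (inv_mem hx) hgx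
    have e1 : γ (x * x) = x * x := m.cen_fix h _ (m.sq_cen h hx)
    rw [map_mul] at e1
    generalize hy : x⁻¹ * γ x = y at hyR ⊢
    have e2 : γ x = x * y := by rw [← hy]; group
    rw [e2] at e1
    -- x * y * (x * y) = x * x
    have e3 : y * x * y = x := by
      have : x * (y * x * y) = x * x := by rw [← e1]; group
      exact mul_left_cancel this
    have e4 := (m.sq_cen h hyR).2 x hx
    -- y * y * x = x * (y * y)
    have e5 : x * (y * y) * (y * y) = x := by
      calc x * (y * y) * (y * y) = y * y * x * (y * y) := by rw [e4]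
        _ = y * (y * x * y) * y := by group
        _ = x := by rw [e3, e3]
    rw [mul_assoc] at e5
    exact mul_eq_left.1 e5
  intro x hx
  exact (key hx).2

/-- central elements of `R` are of order at most two -/
theorem cen_sq (m : Min φ γ R) (h : Hyp φ) : ∀ z ∈ cen R, z * z = 1 := by
  intro z hz
  by_contra hz1
  obtain ⟨x, hx, y, hy, hxy⟩ := m.nonabelian h
  apply hxy
  by_cases hx1 : x * x = 1
  · exact h.central hx1 y
  obtain ⟨j, hj⟩ := h.trans (z * z) (x * x) (orderOf_two (m.four h z hz.1) hz1) (orderOf_two (m.four h x hx) hx1)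
  have hpow : ∀ (j : ℕ) (x : T), x ∈ cen R → (φ ^ j) x ∈ cen R := by
    intro j
    induction j with
    | zero => intro x hx; simpa using hx
    | succ j ih => intro x hx; rw [pow_succ, MulAut.mul_apply]; exact ih _ (m.cen_inv x hx)
  have hz' := hpow j z hz
  rw [map_mul] at hj
  generalize (φ ^ j) z = w at hz' hj
  have e1 := (inv_mem hz' : w⁻¹ ∈ cen R).2 x hx
  have e2 : x * w⁻¹ * (x * w⁻¹) = 1 := by
    calc x * w⁻¹ * (x * w⁻¹) = x * (w⁻¹ * x) * w⁻¹ := by group
      _ = x * x * (w * w)⁻¹ := by rw [e1]; group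
      _ = 1 := by rw [hj, mul_inv_cancel]
  have e3 := h.central e2 y
  have e4 := hz'.2 y hy
  calc x * y = x * w⁻¹ * (w * y) := by group
    _ = x * w⁻¹ * y * w := by rw [e4]; group
    _ = y * x := by rw [e3]; group

/-- fixed points of `γ` in `R` have order at most two -/
theorem fix_sq (m : Min φ γ R) (h : Hyp φ) : ∀ x ∈ R, γ x = x → x * x = 1 := by
  let K : Subgroup T :=
    { carrier := {x | x ∈ R ∧ γ x = x}
      one_mem' := ⟨one_mem R, map_one γ⟩
      mul_mem' := by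
        rintro a b ⟨ha, ha'⟩ ⟨hb, hb'⟩
        exact ⟨mul_mem ha hb, by rw [map_mul, ha', hb']⟩
      inv_mem' := by
        rintro a ⟨ha, ha'⟩
        exact ⟨inv_mem ha, by rw [map_inv, ha']⟩ }
  have hK1 : K ≤ R := fun x hx => hx.1
  have hK2 : K ≠ R := by
    intro e
    obtain ⟨x, hx, hx1⟩ := m.ne
    rw [← e] at hx
    exact hx1 hx.2
  have hK3 : ∀ x ∈ K, φ x ∈ K := by
    rintro x ⟨hx, hx'⟩
    exact ⟨m.inv x hx, by rw [← m.comm, hx']⟩
  have hK4 : ∀ x ∈ R, ∀ n ∈ K, x * n * x⁻¹ ∈ K := by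
    rintro x hx n ⟨hn, hn'⟩
    refine ⟨mul_mem (mul_mem hx hn) (inv_mem hx), ?_⟩
    have e1 := m.cen_fix h _ (m.comm_cen h (inv_mem hx) (inv_mem hn))
    have e2 : x * n * x⁻¹ = (x⁻¹⁻¹ * n⁻¹⁻¹ * x⁻¹ * n⁻¹) * n := by group
    rw [e2, map_mul, e1, hn']
  have hc := m.central_of_normal h K hK1 hK2 hK3 hK4
  intro x hx hgx
  exact m.cen_sq h x ⟨hx, fun y hy => hc x ⟨hx, hgx⟩ y hy⟩

theorem E_le_R (m : Min φ γ R) (h : Hyp φ) : h.E ≤ R := by
  obtain ⟨x, hx, hx1⟩ := m.ne
  exact h.E_le R m.inv x hx (fun e => hx1 (by rw [e, map_one]))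

theorem card_R (m : Min φ γ R) (h : Hyp φ) : Nat.card R ≤ 64 := by
  apply Cfsg.Agent.TwoFusion.QuadCount.card_le (h.two.to_subgroup R) (h.E.subgroupOf R)
  · rintro ⟨e, he⟩ he' ⟨x, hx⟩
    exact Subtype.ext (h.central ((h.mem_E e).1 (Subgroup.mem_subgroupOf.1 he')) x)
  · rw [Nat.card_congr (Subgroup.subgroupOfEquivOfLe (m.E_le_R h)).toEquiv, h.card_E]
  · rintro ⟨e, he⟩ he'
    exact Subtype.ext ((h.mem_E e).1 (Subgroup.mem_subgroupOf.1 he'))
  · rintro ⟨x, hx⟩
    rw [Subgroup.mem_subgroupOf]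
    exact m.four h x hx
  · rintro ⟨x, hx⟩ hx1
    rw [Subgroup.mem_subgroupOf]
    exact congrArg Subtype.val hx1

end Min

/-- an automorphism of order nine in `⟨φ⟩` is impossible -/
theorem pow_three_eq_one (h : Hyp φ) (r : ℕ) (h9 : (φ ^ r) ^ 9 = 1) : (φ ^ r) ^ 3 = 1 := by
  by_contra hne
  set ψ := φ ^ r with hψ
  set γ := ψ ^ 3 with hγ
  have hγφ : γ = φ ^ (r * 3) := by rw [hγ, hψ, pow_mul]
  have hpow : ∀ N : Subgroup T, (∀ x ∈ N, φ x ∈ N) → ∀ (j : ℕ) (x : T), x ∈ N → (φ ^ j) x ∈ N := by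
    intro N hN j
    induction j with
    | zero => intro x hx; simpa using hx
    | succ j ih => intro x hx; rw [pow_succ, MulAut.mul_apply]; exact ih _ (hN x hx)
  obtain ⟨R, m⟩ := exists_min φ γ hne
    (by
      intro x
      rw [hγφ, ← MulAut.mul_apply, ← MulAut.mul_apply, ← pow_succ, ← pow_succ'])
    (by
      intro N hN x hx
      rw [hγφ]
      exact hpow N hN _ x hx)
    (by
      intro x
      have : γ ^ 3 = 1 := by rw [hγ, ← pow_mul]; exact h9
      have h2 := congrArg (fun f : MulAut T => f x) this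
      simpa [pow_succ] using h2)
    (by
      intro x hx
      have h3 : (φ ^ 3) x = x := by
        have := h.three' hx
        simpa [pow_succ] using this
      have h4 : ∀ j : ℕ, ((φ ^ 3) ^ j) x = x := by
        intro j
        induction j with
        | zero => simp
        | succ j ih => rw [pow_succ, MulAut.mul_apply, h3, ih]
      rw [hγφ, mul_comm, pow_mul]
      exact h4 r)
  -- elements of `zpowers ψ` are powers
  have hz : ∀ g : Subgroup.zpowers ψ, ∃ k : ℕ, (g : MulAut T) = ψ ^ k := by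
    rintro ⟨g, hg⟩
    rw [← mem_powers_iff_mem_zpowers] at hg
    obtain ⟨k, hk⟩ := hg
    exact ⟨k, hk.symm⟩
  let X := {x : T // x ∈ R ∧ x ∉ h.E}
  have hact : ∀ (g : Subgroup.zpowers ψ) (x : T), x ∈ R ∧ x ∉ h.E →
      (g : MulAut T) x ∈ R ∧ (g : MulAut T) x ∉ h.E := by
    rintro g x ⟨hx1, hx2⟩
    obtain ⟨k, hk⟩ := hz g
    constructor
    · rw [hk, hψ, ← pow_mul]; exact hpow R m.inv _ x hx1
    · intro hcon
      apply hx2
      rw [h.mem_E] at hcon ⊢
      rw [← map_mul] at hcon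
      exact (map_eq_one_iff _ (MulEquiv.injective _)).1 hcon
  let act : MulAction (Subgroup.zpowers ψ) X :=
    { smul := fun g x => ⟨(g : MulAut T) x.1, hact g x.1 x.2⟩
      one_smul := fun x => Subtype.ext rfl
      mul_smul := fun g g' x => Subtype.ext rfl }
  have ho : orderOf ψ = 9 := by
    have := orderOf_eq_prime_pow (x := ψ) (p := 3) (n := 1) (by rw [pow_one]; exact hne)
      (by rw [show 3 ^ (1 + 1) = 9 by norm_num]; exact h9)
    rw [this]; norm_num
  have hfree : ∀ x : X, MulAction.stabilizer (Subgroup.zpowers ψ) x = ⊥ := by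
    rintro ⟨x, hx1, hx2⟩
    rw [eq_bot_iff]
    intro g hg
    rw [MulAction.mem_stabilizer_iff] at hg
    have hgx : (g : MulAut T) x = x := congrArg Subtype.val hg
    rw [Subgroup.mem_bot]
    by_contra hg1
    obtain ⟨k, hk⟩ := hz g
    have hk9 : ψ ^ k = ψ ^ (k % 9) := by
      conv_lhs => rw [← Nat.mod_add_div k 9, pow_add, pow_mul, h9, one_pow, mul_one]
    have hk0 : k % 9 ≠ 0 := by
      intro e
      apply hg1
      apply Subtype.ext
      rw [hk, hk9, e, pow_zero]; rfl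
    have hlt : k % 9 < 9 := Nat.mod_lt _ (by norm_num)
    have hj : ∀ a < 9, a ≠ 0 → ∃ j < 9, a * j % 9 = 3 := by decide
    obtain ⟨j, -, hj⟩ := hj _ hlt hk0
    have hγj : γ = (g : MulAut T) ^ j := by
      rw [hk, hk9, ← pow_mul, hγ]
      conv_rhs => rw [← Nat.mod_add_div (k % 9 * j) 9, pow_add, pow_mul, h9, one_pow, mul_one, hj]
    have hgj : ∀ j : ℕ, ((g : MulAut T) ^ j) x = x := by
      intro j
      induction j with
      | zero => simp
      | succ j ih => rw [pow_succ, MulAut.mul_apply, hgx, ih]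
    apply hx2
    rw [h.mem_E]
    apply m.fix_sq h x hx1
    rw [hγj]
    exact hgj j
  have hX : 9 ∣ Nat.card X := by
    rw [Nat.card_congr (MulAction.selfEquivOrbitsQuotientProd hfree), Nat.card_prod, Nat.card_zpowers, ho]
    exact dvd_mul_left _ _
  have hcard : Nat.card R = Nat.card X + 4 := by
    have e1 : Nat.card X = ((R : Set T) \ (h.E : Set T)).ncard := Nat.card_coe_set_eq _
    have e2 : Nat.card R = (R : Set T).ncard := Nat.card_coe_set_eq _
    have e3 : Nat.card h.E = (h.E : Set T).ncard := Nat.card_coe_set_eq _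
    rw [e1, e2, ← h.card_E, e3]
    exact (Set.ncard_sdiff_add_ncard_of_subset (m.E_le_R h) (Set.toFinite _)).symm
  obtain ⟨n, hn⟩ := IsPGroup.iff_card.1 (h.two.to_subgroup R)
  have h64 := m.card_R h
  have hn6 : n ≤ 6 := by
    by_contra hcon
    push Not at hcon
    have : 2 ^ 7 ≤ 2 ^ n := Nat.pow_le_pow_right (by norm_num) hcon
    omega
  have h4 : Nat.card R = 4 := by
    obtain ⟨t, ht⟩ := hX
    rw [hn] at hcard ⊢
    interval_cases n <;> omega
  have hRE : h.E = R := Subgroup.eq_of_le_of_card_ge (m.E_le_R h) (by rw [h4, h.card_E])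
  obtain ⟨x, hx, hx1⟩ := m.ne
  rw [← hRE] at hx
  exact hx1 (m.fixE x hx)

/-- Main result: a 2-group with exactly three involutions, transitively permuted by an automorphism, has a
fixed-point-free automorphism of order three. -/
theorem exists_fpf (h : Hyp φ) : ∃ (r : ℕ), (∀ x, (φ ^ r) ((φ ^ r) ((φ ^ r) x)) = x) ∧ ∀ x, (φ ^ r) x = x → x = 1 := by
  have hn0 : orderOf φ ≠ 0 := (orderOf_pos φ).ne'
  obtain ⟨a, r, hr, ha⟩ := Nat.exists_eq_pow_mul_and_not_dvd hn0 3 (by norm_num)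
  refine ⟨r, ?_, ?_⟩
  · have ha1 : a ≤ 1 := by
      by_contra hcon
      push Not at hcon
      obtain ⟨b, rfl⟩ : ∃ b, a = b + 2 := ⟨a - 2, by omega⟩
      have e1 : (φ ^ (r * 3 ^ b)) ^ 9 = 1 := by
        rw [← pow_mul]
        have : r * 3 ^ b * 9 = orderOf φ := by rw [ha]; ring
        rw [this, pow_orderOf_eq_one]
      have e2 := pow_three_eq_one h _ e1
      rw [← pow_mul] at e2
      have e3 := orderOf_dvd_of_pow_eq_one e2
      have hr0 : 0 < r := Nat.pos_of_ne_zero (by rintro rfl; simp at hr)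
      have e4 := Nat.le_of_dvd (by positivity) e3
      rw [ha] at e4
      have : 3 ^ (b + 2) * r = 3 * (r * 3 ^ b * 3) := by ring
      rw [this] at e4
      have : 0 < r * 3 ^ b * 3 := by positivity
      omega
    intro x
    have e1 : (φ ^ r) ^ 3 = 1 := by
      rw [← pow_mul]
      apply orderOf_dvd_iff_pow_eq_one.1
      rw [ha, mul_comm]
      exact Nat.mul_dvd_mul_left r (pow_dvd_pow 3 ha1 |>.trans (by norm_num))
    have e2 := congrArg (fun f : MulAut T => f x) e1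
    simpa [pow_succ] using e2
  · intro x hx
    by_contra hx1
    obtain ⟨k, hk1, hk2⟩ := exists_pow h.two x hx1
    have hs : (φ ^ r) (x ^ 2 ^ k) = x ^ 2 ^ k := by rw [map_pow, hx]
    have ho := orderOf_two hk1 hk2
    generalize x ^ 2 ^ k = s at hs ho
    obtain ⟨h1, h2, h3⟩ := h.three ho
    have h3' : (φ ^ 3) s = s := by simpa [pow_succ] using h3
    rw [Hyp.pow_of_fix s 3 h3' r] at hs
    have hlt : r % 3 < 3 := Nat.mod_lt _ (by norm_num)
    have hne : r % 3 ≠ 0 := fun e => hr (Nat.dvd_of_mod_eq_zero e)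
    generalize r % 3 = b at hs hlt hne
    interval_cases b
    · exact hne rfl
    · exact h1 (by simpa using hs)
    · exact h2 (by simpa [pow_succ] using hs)

end Cfsg.Agent.TwoFusion.ThreeInvol
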