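import Mathlib

/-!
# An explicit model of the Sylow 2-subgroup of `U_3(4)`

`K64` is a group structure on `(ZMod 2)^6`; `exists_mulEquiv_of_rel`: any group of order 64 containing elements
`x, x', y, y', z, z'` satisfying suitable relations is isomorphic to it.
-/

set_option autoImplicit false

namespace Cfsg.Agent.TwoFusion.U34Model

/-- The model: 6-tuples of elements of `ZMod 2`. -/
@[ext]
structure K64 : Type where
  i : ZMod 2
  j : ZMod 2
  k : ZMod 2
  l : ZMod 2
  m : ZMod 2
  n : ZMod 2

/-- the equivalence of the model with a product type -/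
def K64.equivProd : K64 ≃ (ZMod 2 × ZMod 2 × ZMod 2 × ZMod 2 × ZMod 2 × ZMod 2) where
  toFun p := (p.i, p.j, p.k, p.l, p.m, p.n)
  invFun q := ⟨q.1, q.2.1, q.2.2.1, q.2.2.2.1, q.2.2.2.2.1, q.2.2.2.2.2⟩
  left_inv _ := rfl
  right_inv _ := rfl

instance K64.instMul : Mul K64 where
  mul p q := ⟨p.i + q.i, p.j + q.j, p.k + q.k, p.l + q.l,
    p.m + q.m + p.i * q.i + p.l * q.l + p.k * q.i + p.k * q.j + p.l * q.i,
    p.n + q.n + p.j * q.j + p.k * q.k + p.l * q.l + p.k * q.j + p.l * q.i + p.l * q.j⟩

instance K64.instOne : One K64 where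
  one := ⟨0, 0, 0, 0, 0, 0⟩

instance K64.instInv : Inv K64 where
  inv p := ⟨p.i, p.j, p.k, p.l,
    p.m + p.i * p.i + p.l * p.l + p.k * p.i + p.k * p.j + p.l * p.i,
    p.n + p.j * p.j + p.k * p.k + p.l * p.l + p.k * p.j + p.l * p.i + p.l * p.j⟩

theorem K64.mul_def (p q : K64) : p * q = ⟨p.i + q.i, p.j + q.j, p.k + q.k, p.l + q.l,
    p.m + q.m + p.i * q.i + p.l * q.l + p.k * q.i + p.k * q.j + p.l * q.i,
    p.n + q.n + p.j * q.j + p.k * q.k + p.l * q.l + p.k * q.j + p.l * q.i + p.l * q.j⟩ := rfl

theorem K64.one_def : (1 : K64) = ⟨0, 0, 0, 0, 0, 0⟩ := rfl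

theorem K64.inv_def (p : K64) : p⁻¹ = ⟨p.i, p.j, p.k, p.l,
    p.m + p.i * p.i + p.l * p.l + p.k * p.i + p.k * p.j + p.l * p.i,
    p.n + p.j * p.j + p.k * p.k + p.l * p.l + p.k * p.j + p.l * p.i + p.l * p.j⟩ := rfl

theorem two_mul_zmod (a : ZMod 2) : a + a = 0 := by
  revert a; decide

instance K64.instGroup : Group K64 :=
  Group.ofLeftAxioms
    (by
      intro a b c
      ext <;> simp only [K64.mul_def] <;> ring)
    (by
      intro a
      ext <;> simp only [K64.mul_def, K64.one_def] <;> ring)
    (by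
      intro a
      ext
      · simp only [K64.mul_def, K64.one_def, K64.inv_def]; exact two_mul_zmod _
      · simp only [K64.mul_def, K64.one_def, K64.inv_def]; exact two_mul_zmod _
      · simp only [K64.mul_def, K64.one_def, K64.inv_def]; exact two_mul_zmod _
      · simp only [K64.mul_def, K64.one_def, K64.inv_def]; exact two_mul_zmod _
      · simp only [K64.mul_def, K64.one_def, K64.inv_def]
        have := two_mul_zmod (a.m + a.i * a.i + a.l * a.l + a.k * a.i + a.k * a.j + a.l * a.i)
        linear_combination this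
      · simp only [K64.mul_def, K64.one_def, K64.inv_def]
        have := two_mul_zmod (a.n + a.j * a.j + a.k * a.k + a.l * a.l + a.k * a.j + a.l * a.i + a.l * a.j)
        linear_combination this)

theorem K64.card : Nat.card K64 = 64 := by
  rw [Nat.card_congr K64.equivProd, Nat.card_eq_fintype_card]
  rfl

instance K64.instFinite : Finite K64 := Finite.of_equiv _ K64.equivProd.symm

section pw

variable {T : Type*} [Group T]

/-- `pw x i` is `x ^ i` for `i : ZMod 2` read as `0` or `1`. -/
def pw (x : T) (i : ZMod 2) : T := if i = 0 then 1 else x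

theorem pw_zero (x : T) : pw x 0 = 1 := rfl

theorem pw_one (x : T) : pw x 1 = x := rfl

theorem zmod_cases (i : ZMod 2) : i = 0 ∨ i = 1 := by
  revert i; decide

theorem pw_mul_self {x z : T} (h : x * x = z) (i a : ZMod 2) :
    pw x i * pw x a = pw x (i + a) * pw z (i * a) := by
  rcases zmod_cases i with rfl | rfl <;> rcases zmod_cases a with rfl | rfl
  · simp [pw_zero]
  · simp [pw_zero]
  · simp [pw_zero]
  · rw [show (1 : ZMod 2) + 1 = 0 from rfl, show (1 : ZMod 2) * 1 = 1 from rfl, pw_zero, pw_one, pw_one, one_mul, h]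

theorem pw_add {z : T} (h : z * z = 1) (i a : ZMod 2) : pw z i * pw z a = pw z (i + a) := by
  rw [pw_mul_self h]
  rcases zmod_cases (i * a) with h | h <;> rw [h]
  · rw [pw_zero, mul_one]
  · rw [pw_one, mul_one]

theorem pw_swap {x y c : T} (h : y * x = x * y * c) (k a : ZMod 2) :
    pw y k * pw x a = pw x a * pw y k * pw c (k * a) := by
  rcases zmod_cases k with rfl | rfl <;> rcases zmod_cases a with rfl | rfl
  · simp [pw_zero]
  · simp [pw_zero]
  · simp [pw_zero]
  · rw [show (1 : ZMod 2) * 1 = 1 from rfl, pw_one, pw_one, pw_one, h]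

theorem pw_mul (z z' : T) (i : ZMod 2) : pw (z * z') i = pw z i * pw z' i := by
  rcases zmod_cases i with rfl | rfl
  · simp [pw_zero]
  · simp [pw_one]

theorem pw_central {z : T} (hz : ∀ t, z * t = t * z) (i : ZMod 2) (t : T) : pw z i * t = t * pw z i := by
  rcases zmod_cases i with rfl | rfl
  · simp [pw_zero]
  · simp [pw_one, hz]

/-- The relations between the six generators. -/
structure Rel (x x' y y' z z' : T) : Prop where
  hz : ∀ t, z * t = t * z
  hz' : ∀ t, z' * t = t * z'
  zz : z * z = 1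
  z'z' : z' * z' = 1
  xx : x * x = z
  x'x' : x' * x' = z'
  yy : y * y = z'
  y'y' : y' * y' = z * z'
  x'x : x' * x = x * x'
  y'y : y' * y = y * y'
  yx : y * x = x * y * z
  yx' : y * x' = x' * y * (z * z')
  y'x : y' * x = x * y' * (z * z')
  y'x' : y' * x' = x' * y' * z'

/-- the map from the model -/
def toT (x x' y y' z z' : T) (p : K64) : T :=
  pw x p.i * pw x' p.j * (pw y p.k * pw y' p.l) * (pw z p.m * pw z' p.n)

theorem toT_def (x x' y y' z z' : T) (p : K64) : toT x x' y y' z z' p =
  pw x p.i * pw x' p.j * (pw y p.k * pw y' p.l) * (pw z p.m * pw z' p.n) := rfl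

variable {x x' y y' z z' : T}

theorem xpart (h : Rel x x' y y' z z') (i j a b : ZMod 2) :
    (pw x i * pw x' j) * (pw x a * pw x' b) =
      (pw x (i + a) * pw x' (j + b)) * (pw z (i * a) * pw z' (j * b)) := by
  have h1 : pw x' j * pw x a = pw x a * pw x' j := by
    have := pw_swap (x := x) (y := x') (c := (1 : T)) (by rw [mul_one]; exact h.x'x) j a
    rw [this]
    rcases zmod_cases (j * a) with h | h <;> rw [h]
    · rw [pw_zero, mul_one]
    · rw [pw_one, mul_one]
  calc (pw x i * pw x' j) * (pw x a * pw x' b) = pw x i * (pw x' j * pw x a) * pw x' b := by group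
    _ = (pw x i * pw x a) * (pw x' j * pw x' b) := by rw [h1]; group
    _ = (pw x (i + a) * pw z (i * a)) * (pw x' (j + b) * pw z' (j * b)) := by
        rw [pw_mul_self h.xx, pw_mul_self h.x'x']
    _ = pw x (i + a) * (pw z (i * a) * pw x' (j + b)) * pw z' (j * b) := by group
    _ = (pw x (i + a) * pw x' (j + b)) * (pw z (i * a) * pw z' (j * b)) := by
        rw [pw_central h.hz]; group

theorem ypart (h : Rel x x' y y' z z') (k l c d : ZMod 2) :
    (pw y k * pw y' l) * (pw y c * pw y' d) =
      (pw y (k + c) * pw y' (l + d)) * (pw z (l * d) * pw z' (k * c + l * d)) := by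
  have h1 : pw y' l * pw y c = pw y c * pw y' l := by
    have := pw_swap (x := y) (y := y') (c := (1 : T)) (by rw [mul_one]; exact h.y'y) l c
    rw [this]
    rcases zmod_cases (l * c) with h | h <;> rw [h]
    · rw [pw_zero, mul_one]
    · rw [pw_one, mul_one]
  calc (pw y k * pw y' l) * (pw y c * pw y' d) = pw y k * (pw y' l * pw y c) * pw y' d := by group
    _ = (pw y k * pw y c) * (pw y' l * pw y' d) := by rw [h1]; group
    _ = (pw y (k + c) * pw z' (k * c)) * (pw y' (l + d) * pw (z * z') (l * d)) := by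
        rw [pw_mul_self h.yy, pw_mul_self h.y'y']
    _ = pw y (k + c) * (pw z' (k * c) * (pw y' (l + d) * pw (z * z') (l * d))) := by group
    _ = pw y (k + c) * ((pw y' (l + d) * pw (z * z') (l * d)) * pw z' (k * c)) := by
        rw [pw_central h.hz']
    _ = (pw y (k + c) * pw y' (l + d)) * (pw z (l * d) * (pw z' (l * d) * pw z' (k * c))) := by
        rw [pw_mul]; group
    _ = (pw y (k + c) * pw y' (l + d)) * (pw z (l * d) * pw z' (k * c + l * d)) := by
        rw [pw_add h.z'z', add_comm (l * d)]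

theorem yxpart (h : Rel x x' y y' z z') (k l a b : ZMod 2) :
    (pw y k * pw y' l) * (pw x a * pw x' b) =
      (pw x a * pw x' b) * (pw y k * pw y' l) *
        (pw z (k * a + k * b + l * a) * pw z' (k * b + l * a + l * b)) := by
  have hzz : ∀ t, (z * z') * t = t * (z * z') := by
    intro t
    rw [mul_assoc, h.hz', ← mul_assoc, h.hz, mul_assoc]
  calc (pw y k * pw y' l) * (pw x a * pw x' b)
      = pw y k * (pw y' l * pw x a) * pw x' b := by group
    _ = pw y k * (pw x a * pw y' l * pw (z * z') (l * a)) * pw x' b := by rw [pw_swap h.y'x]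
    _ = pw y k * pw x a * pw y' l * (pw (z * z') (l * a) * pw x' b) := by group
    _ = pw y k * pw x a * (pw y' l * pw x' b) * pw (z * z') (l * a) := by
        rw [pw_central hzz]; group
    _ = (pw y k * pw x a) * (pw x' b * pw y' l * pw z' (l * b)) * pw (z * z') (l * a) := by
        rw [pw_swap h.y'x']
    _ = (pw x a * pw y k * pw z (k * a)) * (pw x' b * pw y' l * pw z' (l * b)) * pw (z * z') (l * a) := by
        rw [pw_swap h.yx]
    _ = pw x a * pw y k * (pw z (k * a) * (pw x' b * pw y' l * pw z' (l * b))) * pw (z * z') (l * a) := by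
        group
    _ = pw x a * (pw y k * pw x' b) * pw y' l * pw z' (l * b) * pw z (k * a) * pw (z * z') (l * a) := by
        rw [pw_central h.hz]; group
    _ = pw x a * pw x' b * pw y k * (pw (z * z') (k * b) * pw y' l) * pw z' (l * b) * pw z (k * a)
          * pw (z * z') (l * a) := by
        rw [pw_swap h.yx']; group
    _ = (pw x a * pw x' b) * (pw y k * pw y' l) * (pw (z * z') (k * b) * (pw z' (l * b) * pw z (k * a))
          * pw (z * z') (l * a)) := by
        rw [pw_central hzz]; group
    _ = (pw x a * pw x' b) * (pw y k * pw y' l) *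
        (pw z (k * a + k * b + l * a) * pw z' (k * b + l * a + l * b)) := by
        congr 1
        rw [pw_mul, pw_mul, ← pw_add h.zz (k * a + k * b) (l * a), ← pw_add h.zz (k * a) (k * b),
          ← pw_add h.z'z' (k * b + l * a) (l * b), ← pw_add h.z'z' (k * b) (l * a)]
        have e1 := pw_central h.hz (k * a)
        have e2 := pw_central h.hz (k * b)
        have e3 := pw_central h.hz (l * a)
        have e4 := pw_central h.hz' (k * b)
        have e5 := pw_central h.hz' (l * b)
        have e6 := pw_central h.hz' (l * a)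
        calc pw z (k * b) * pw z' (k * b) * (pw z' (l * b) * pw z (k * a)) * (pw z (l * a) * pw z' (l * a))
            = (pw z (k * b) * (pw z' (k * b) * pw z' (l * b))) * pw z (k * a) * (pw z (l * a) * pw z' (l * a)) := by
              group
          _ = pw z (k * a) * (pw z (k * b) * (pw z' (k * b) * pw z' (l * b))) * (pw z (l * a) * pw z' (l * a)) := by
              rw [← e1]
          _ = pw z (k * a) * pw z (k * b) * ((pw z' (k * b) * pw z' (l * b)) * pw z (l * a)) * pw z' (l * a) := by
              group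
          _ = pw z (k * a) * pw z (k * b) * (pw z (l * a) * (pw z' (k * b) * pw z' (l * b))) * pw z' (l * a) := by
              rw [← e3]
          _ = pw z (k * a) * pw z (k * b) * pw z (l * a) * (pw z' (k * b) * (pw z' (l * b) * pw z' (l * a))) := by
              group
          _ = pw z (k * a) * pw z (k * b) * pw z (l * a) * (pw z' (k * b) * pw z' (l * a) * pw z' (l * b)) := by
              rw [e5]; group

theorem zpart (h : Rel x x' y y' z z') (m n e f : ZMod 2) :
    (pw z m * pw z' n) * (pw z e * pw z' f) = pw z (m + e) * pw z' (n + f) := by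
  calc (pw z m * pw z' n) * (pw z e * pw z' f) = pw z m * (pw z' n * pw z e) * pw z' f := by group
    _ = pw z m * (pw z e * pw z' n) * pw z' f := by rw [pw_central h.hz']
    _ = (pw z m * pw z e) * (pw z' n * pw z' f) := by group
    _ = _ := by rw [pw_add h.zz, pw_add h.z'z']

theorem zcentral (h : Rel x x' y y' z z') (m n : ZMod 2) (t : T) :
    (pw z m * pw z' n) * t = t * (pw z m * pw z' n) := by
  rw [mul_assoc, pw_central h.hz', ← mul_assoc, pw_central h.hz, mul_assoc]

theorem toT_mul (h : Rel x x' y y' z z') (p q : K64) :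
    toT x x' y y' z z' (p * q) = toT x x' y y' z z' p * toT x x' y y' z z' q := by
  obtain ⟨i, j, k, l, m, n⟩ := p
  obtain ⟨a, b, c, d, e, f⟩ := q
  simp only [toT_def, K64.mul_def]
  symm
  set X := pw x i * pw x' j with hX
  set Y := pw y k * pw y' l with hY
  set Z := pw z m * pw z' n with hZ
  calc X * Y * Z * (pw x a * pw x' b * (pw y c * pw y' d) * (pw z e * pw z' f))
      = X * Y * (Z * (pw x a * pw x' b * (pw y c * pw y' d))) * (pw z e * pw z' f) := by group
    _ = X * Y * ((pw x a * pw x' b * (pw y c * pw y' d)) * Z) * (pw z e * pw z' f) := by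
        rw [hZ, zcentral h]
    _ = X * (Y * (pw x a * pw x' b)) * (pw y c * pw y' d) * (Z * (pw z e * pw z' f)) := by group
    _ = X * ((pw x a * pw x' b) * Y *
        (pw z (k * a + k * b + l * a) * pw z' (k * b + l * a + l * b))) * (pw y c * pw y' d) *
          (pw z (m + e) * pw z' (n + f)) := by
        rw [hY, yxpart h, hZ, zpart h]
    _ = (X * (pw x a * pw x' b)) * Y *
        ((pw z (k * a + k * b + l * a) * pw z' (k * b + l * a + l * b)) * (pw y c * pw y' d)) *
          (pw z (m + e) * pw z' (n + f)) := by group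
    _ = (X * (pw x a * pw x' b)) * (Y * (pw y c * pw y' d)) *
        ((pw z (k * a + k * b + l * a) * pw z' (k * b + l * a + l * b)) *
          (pw z (m + e) * pw z' (n + f))) := by rw [zcentral h]; group
    _ = ((pw x (i + a) * pw x' (j + b)) * (pw z (i * a) * pw z' (j * b))) *
        ((pw y (k + c) * pw y' (l + d)) * (pw z (l * d) * pw z' (k * c + l * d))) *
        (pw z ((k * a + k * b + l * a) + (m + e)) * pw z' ((k * b + l * a + l * b) + (n + f))) := by
        rw [hX, hY, xpart h, ypart h, zpart h]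
    _ = (pw x (i + a) * pw x' (j + b)) * ((pw z (i * a) * pw z' (j * b)) *
        (pw y (k + c) * pw y' (l + d))) * (pw z (l * d) * pw z' (k * c + l * d)) *
        (pw z ((k * a + k * b + l * a) + (m + e)) * pw z' ((k * b + l * a + l * b) + (n + f))) := by
        group
    _ = (pw x (i + a) * pw x' (j + b)) * (pw y (k + c) * pw y' (l + d)) *
        (((pw z (i * a) * pw z' (j * b)) * (pw z (l * d) * pw z' (k * c + l * d))) *
        (pw z ((k * a + k * b + l * a) + (m + e)) * pw z' ((k * b + l * a + l * b) + (n + f)))) := by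
        rw [zcentral h]; group
    _ = _ := by
        rw [zpart h, zpart h]
        congr 1
        congr 1
        · congr 1; ring
        · congr 1; ring

/-- the homomorphism from the model -/
def hom (h : Rel x x' y y' z z') : K64 →* T where
  toFun := toT x x' y y' z z'
  map_one' := by
    simp only [toT_def, K64.one_def, pw_zero, mul_one]
  map_mul' p q := toT_mul h p q

theorem hom_apply (h : Rel x x' y y' z z') (p : K64) : hom h p = toT x x' y y' z z' p := rfl

theorem hom_central (h : Rel x x' y y' z z') (m n : ZMod 2) : hom h ⟨0, 0, 0, 0, m, n⟩ = pw z m * pw z' n := by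
  simp [hom_apply, toT_def, pw_zero]

theorem central_eq_zero (h : Rel x x' y y' z z') (hz : z ≠ 1) (hz' : z' ≠ 1) (hzz' : z * z' ≠ 1) (m n : ZMod 2)
    (h1 : hom h ⟨0, 0, 0, 0, m, n⟩ = 1) : m = 0 ∧ n = 0 := by
  rw [hom_central] at h1
  rcases zmod_cases m with rfl | rfl <;> rcases zmod_cases n with rfl | rfl
  · exact ⟨rfl, rfl⟩
  · exfalso; rw [pw_zero, pw_one, one_mul] at h1; exact hz' h1
  · exfalso; rw [pw_zero, pw_one, mul_one] at h1; exact hz h1
  · exfalso; rw [pw_one, pw_one] at h1; exact hzz' h1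

theorem comm_x (p : K64) : (⟨1, 0, 0, 0, 0, 0⟩ : K64) * p * (⟨1, 0, 0, 0, 0, 0⟩ : K64)⁻¹ * p⁻¹ =
    ⟨0, 0, 0, 0, p.k + p.l, p.l⟩ := by
  obtain ⟨i, j, k, l, m, n⟩ := p
  have key : ∀ i j k l m n : ZMod 2,
      K64.equivProd ((⟨1, 0, 0, 0, 0, 0⟩ : K64) * ⟨i, j, k, l, m, n⟩ * (⟨1, 0, 0, 0, 0, 0⟩ : K64)⁻¹ *
        (⟨i, j, k, l, m, n⟩ : K64)⁻¹) = (0, 0, 0, 0, k + l, l) := by decide +kernel
  exact K64.equivProd.injective (key i j k l m n)

theorem comm_y (p : K64) : (⟨0, 0, 1, 0, 0, 0⟩ : K64) * p * (⟨0, 0, 1, 0, 0, 0⟩ : K64)⁻¹ * p⁻¹ =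
    ⟨0, 0, 0, 0, p.i + p.j, p.j⟩ := by
  obtain ⟨i, j, k, l, m, n⟩ := p
  have key : ∀ i j k l m n : ZMod 2,
      K64.equivProd ((⟨0, 0, 1, 0, 0, 0⟩ : K64) * ⟨i, j, k, l, m, n⟩ * (⟨0, 0, 1, 0, 0, 0⟩ : K64)⁻¹ *
        (⟨i, j, k, l, m, n⟩ : K64)⁻¹) = (0, 0, 0, 0, i + j, j) := by decide +kernel
  exact K64.equivProd.injective (key i j k l m n)

theorem hom_injective (h : Rel x x' y y' z z') (hz : z ≠ 1) (hz' : z' ≠ 1) (hzz' : z * z' ≠ 1) :
    Function.Injective (hom h) := by
  rw [injective_iff_map_eq_one]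
  intro p hp
  have h1 : hom h ⟨0, 0, 0, 0, p.k + p.l, p.l⟩ = 1 := by
    rw [← comm_x, map_mul, map_mul, map_mul, map_inv, map_inv, hp]
    group
  have h2 : hom h ⟨0, 0, 0, 0, p.i + p.j, p.j⟩ = 1 := by
    rw [← comm_y, map_mul, map_mul, map_mul, map_inv, map_inv, hp]
    group
  obtain ⟨h3, h4⟩ := central_eq_zero h hz hz' hzz' _ _ h1
  obtain ⟨h5, h6⟩ := central_eq_zero h hz hz' hzz' _ _ h2
  obtain ⟨i, j, k, l, m, n⟩ := p
  simp only at h3 h4 h5 h6
  subst h4 h6
  rw [add_zero] at h3 h5
  subst h3 h5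
  obtain ⟨h7, h8⟩ := central_eq_zero h hz hz' hzz' _ _ hp
  subst h7 h8
  rfl

/-- A group of order 64 with elements satisfying the relations is isomorphic to the model. -/
theorem nonempty_mulEquiv_of_rel (hcard : Nat.card T = 64) (h : Rel x x' y y' z z') (hz : z ≠ 1) (hz' : z' ≠ 1)
    (hzz' : z * z' ≠ 1) : Nonempty (K64 ≃* T) := by
  haveI : Finite T := Nat.finite_of_card_ne_zero (by rw [hcard]; norm_num)
  have hb : Function.Bijective (hom h) := by
    rw [Nat.bijective_iff_injective_and_card]
    exact ⟨hom_injective h hz hz' hzz', by rw [K64.card, hcard]⟩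
  exact ⟨MulEquiv.ofBijective (hom h) hb⟩

end pw

/-! ### Groups with a fixed-point-free automorphism of order 3 -/

section fpf

variable {T : Type*} [Group T]

/-- the commutator as a bilinear map -/
def B (s t : T) : T := s⁻¹ * t⁻¹ * s * t

theorem B_def (s t : T) : B s t = s⁻¹ * t⁻¹ * s * t := rfl

theorem swap_eq (s t : T) : s * t = t * s * B s t := by rw [B_def]; group

theorem map_B (α : T →* T) (s t : T) : α (B s t) = B (α s) (α t) := by
  simp only [B_def, map_mul, map_inv]

variable (hsq : ∀ t : T, t * t ∈ Subgroup.center T)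

include hsq in
theorem B_central (s t : T) : B s t ∈ Subgroup.center T := by
  have h1 : B s t = (s⁻¹ * t⁻¹) * (s⁻¹ * t⁻¹) * (t * (s * s) * t⁻¹) * (t * t) := by rw [B_def]; group
  rw [h1]
  refine Subgroup.mul_mem _ (Subgroup.mul_mem _ (hsq _) ?_) (hsq _)
  exact (inferInstance : (Subgroup.center T).Normal).conj_mem _ (hsq s) t

include hsq in
theorem B_comm (s t r : T) : B s t * r = r * B s t :=
  (Subgroup.mem_center_iff.mp (B_central hsq s t) r).symm

include hsq in
theorem B_mul_right (s t r : T) : B s (t * r) = B s t * B s r := by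
  have h1 : B s (t * r) = (s⁻¹ * r⁻¹ * s) * (s⁻¹ * t⁻¹ * s * t) * r := by rw [B_def]; group
  rw [h1, ← B_def s t, mul_assoc, B_comm hsq, ← mul_assoc, ← B_def, B_comm hsq]

include hsq in
theorem B_mul_left (s t r : T) : B (s * t) r = B s r * B t r := by
  have h1 : B (s * t) r = t⁻¹ * (s⁻¹ * r⁻¹ * s * r) * (r⁻¹ * t * r) := by rw [B_def]; group
  rw [h1, ← B_def s r, ← B_comm hsq, mul_assoc]
  congr 1
  rw [B_def]; group

theorem B_inv (s t : T) : (B s t)⁻¹ = B t s := by rw [B_def, B_def]; group

theorem B_self (s : T) : B s s = 1 := by rw [B_def]; group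

variable (hinv : ∀ t : T, t ∈ Subgroup.center T → t * t = 1)

include hsq hinv in
theorem B_symm (s t : T) : B s t = B t s := by
  rw [← B_inv t s]
  exact inv_eq_of_mul_eq_one_left (hinv _ (B_central hsq t s))

theorem B_eq_one_of_commute {s t : T} (h : Commute s t) : B s t = 1 := by
  rw [B_def]
  calc s⁻¹ * t⁻¹ * s * t = s⁻¹ * t⁻¹ * (s * t) := by group
    _ = s⁻¹ * t⁻¹ * (t * s) := by rw [h.eq]
    _ = 1 := by group

section auto

variable [Finite T] (α : T →* T) (h3 : ∀ t, α (α (α t)) = t) (hf : ∀ t, α t = t → t = 1)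

include hf in
theorem surj_comm (t : T) : ∃ s, s⁻¹ * α s = t := by
  have hinj : Function.Injective (fun s : T => s⁻¹ * α s) := by
    intro a b hab
    have h1 : a⁻¹ * α a = b⁻¹ * α b := hab
    have h2 : α (a * b⁻¹) = a * b⁻¹ := by
      rw [map_mul, map_inv]
      calc α a * (α b)⁻¹ = a * (a⁻¹ * α a) * (α b)⁻¹ := by group
        _ = a * (b⁻¹ * α b) * (α b)⁻¹ := by rw [h1]
        _ = a * b⁻¹ := by group
    have h3 := hf _ h2
    exact mul_inv_eq_one.mp h3
  exact Finite.surjective_of_injective hinj t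

include h3 hf in
theorem mul_map_map (t : T) : t * α t * α (α t) = 1 := by
  obtain ⟨s, rfl⟩ := surj_comm α hf t
  simp only [map_mul, map_inv, h3]
  group

include h3 hf in
theorem commute_map (t : T) : Commute t (α t) := by
  have h1 := mul_map_map α h3 hf t
  have h2 := mul_map_map α h3 hf t⁻¹
  simp only [map_inv] at h2
  -- α(α t) * α t * t = 1
  have h4 : α (α t) * α t * t = 1 := by
    have := congrArg (·⁻¹) h2
    simpa [mul_assoc] using this
  have h5 : t * α t = (α (α t))⁻¹ := mul_eq_one_iff_eq_inv.mp h1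
  have h6 : α t * t = (α (α t))⁻¹ := by
    rw [mul_assoc] at h4
    exact (inv_eq_of_mul_eq_one_right h4).symm
  exact h5.trans h6.symm

include h3 hf in
theorem map_map_eq (t : T) : α (α t) = (t * α t)⁻¹ :=
  (inv_eq_of_mul_eq_one_right (mul_map_map α h3 hf t)).symm

include h3 hf hsq in
/-- `b(s, αr) = b(αs, r)` -/
theorem B_map_swap (hinv : ∀ t : T, t ∈ Subgroup.center T → t * t = 1) (s r : T) : B s (α r) = B (α s) r := by
  have h1 : B (s * r) (α (s * r)) = 1 := B_eq_one_of_commute (commute_map α h3 hf _)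
  rw [map_mul, B_mul_left hsq, B_mul_right hsq, B_mul_right hsq,
    B_eq_one_of_commute (commute_map α h3 hf s), B_eq_one_of_commute (commute_map α h3 hf r), one_mul,
    mul_one] at h1
  have h2 : B s (α r) = (B r (α s))⁻¹ := mul_eq_one_iff_eq_inv.mp h1
  rw [h2, B_inv]

include h3 hf hsq in
/-- `b(αs, r) = α² b(s, r)` -/
theorem B_map_left (hinv : ∀ t : T, t ∈ Subgroup.center T → t * t = 1) (s r : T) :
    B (α s) r = α (α (B s r)) := by
  have h1 : ∀ s r : T, B (α (α s)) r = α (B s r) := by
    intro s r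
    rw [← B_map_swap hsq α h3 hf hinv, map_B]
  have h2 := h1 (α (α s)) r
  rw [h3, h1 s r] at h2
  exact h2

end auto

end fpf

/-- Relations from the automorphism: `b(x, y) = x²`, `y² = α(x²)`. -/
theorem rel_of_fpf {T : Type*} [Group T] [Finite T] (hsq : ∀ t : T, t * t ∈ Subgroup.center T)
    (hinv : ∀ t : T, t ∈ Subgroup.center T → t * t = 1)
    (α : T →* T) (h3 : ∀ t, α (α (α t)) = t) (hf : ∀ t, α t = t → t = 1) (x y : T)
    (hxy : B x y = x * x) (hyy : y * y = α (x * x)) :
    Rel x (α x) y (α y) (x * x) (α (x * x)) := by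
  have hc : ∀ t, α t ∈ Subgroup.center T → ∀ r, α t * r = r * α t := fun t ht r =>
    (Subgroup.mem_center_iff.mp ht r).symm
  have hzc : x * x ∈ Subgroup.center T := hsq x
  have hz'c : α (x * x) ∈ Subgroup.center T := by rw [map_mul]; exact hsq _
  have hz1 : ∀ t, (x * x) * t = t * (x * x) := fun t => (Subgroup.mem_center_iff.mp hzc t).symm
  have hz2 : ∀ t, α (x * x) * t = t * α (x * x) := fun t => (Subgroup.mem_center_iff.mp hz'c t).symm
  have hzz : (x * x) * (x * x) = 1 := hinv _ hzc
  have hz'z' : α (x * x) * α (x * x) = 1 := hinv _ hz'c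
  have hzz' : α (α (x * x)) = (x * x) * α (x * x) := by
    rw [map_map_eq α h3 hf]
    apply inv_eq_of_mul_eq_one_left
    apply hinv
    exact Subgroup.mul_mem _ hzc hz'c
  have hBsymm := fun s t => B_symm hsq hinv s t
  have hBl := fun s t => B_map_left hsq α h3 hf hinv s t
  have hBr : ∀ s t, B s (α t) = α (α (B s t)) := by
    intro s t
    rw [hBsymm, hBl, hBsymm]
  refine ⟨hz1, hz2, hzz, hz'z', rfl, (map_mul α x x).symm, hyy, ?_, ?_, ?_, ?_, ?_, ?_, ?_⟩
  · rw [← map_mul, hyy, hzz']
  · exact (commute_map α h3 hf x).symm.eq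
  · exact (commute_map α h3 hf y).symm.eq
  · rw [swap_eq y x, hBsymm, hxy]
  · rw [swap_eq y (α x), hBr, hBsymm y x, hxy, hzz']
  · rw [swap_eq (α y) x, hBl, hBsymm y x, hxy, hzz']
  · rw [swap_eq (α y) (α x), ← map_B, hBsymm y x, hxy]

/-- Uniqueness of the group. -/
theorem nonempty_mulEquiv_K64 {T : Type*} [Group T] (hcard : Nat.card T = 64)
    (α : T →* T) (h3 : ∀ t, α (α (α t)) = t) (hf : ∀ t, α t = t → t = 1)
    (hZ : Nat.card (Subgroup.center T) = 4) (hsq : ∀ t : T, t * t ∈ Subgroup.center T)
    (hinv : ∀ t : T, t * t = 1 ↔ t ∈ Subgroup.center T) : Nonempty (K64 ≃* T) := by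
  classical
  haveI : Finite T := Nat.finite_of_card_ne_zero (by rw [hcard]; norm_num)
  have hinv' : ∀ t : T, t ∈ Subgroup.center T → t * t = 1 := fun t ht => (hinv t).mpr ht
  have hαc : ∀ t ∈ Subgroup.center T, α t ∈ Subgroup.center T := by
    intro t ht
    rw [← hinv, ← map_mul, hinv' t ht, map_one]
  have hαinj : Function.Injective α := by
    intro a b hab
    rw [← h3 a, hab, h3]
  have hα1 : ∀ t, α t = 1 → t = 1 := fun t ht => hαinj (by rw [ht, map_one])
  -- an element outside the centre
  obtain ⟨x, hx⟩ : ∃ x : T, x ∉ Subgroup.center T := by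
    by_contra h
    push Not at h
    have h1 : Subgroup.center T = ⊤ := by
      rw [Subgroup.eq_top_iff']; exact h
    rw [h1, Subgroup.card_top, hcard] at hZ
    norm_num at hZ
  have hz1 : x * x ≠ 1 := fun h => hx ((hinv x).mp h)
  set z := x * x with hz
  have hzc : z ∈ Subgroup.center T := hsq x
  -- the elements of the centre
  have hcen : ∀ t ∈ Subgroup.center T, t ≠ 1 → t = z ∨ t = α z ∨ t = α (α z) := by
    intro t ht ht1
    by_contra hcon
    push Not at hcon
    obtain ⟨hc1, hc2, hc3⟩ := hcon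
    have hd1 : z ≠ α z := fun h => hz1 (hf z h.symm)
    have hd2 : α z ≠ α (α z) := fun h => hd1 (hαinj h)
    have hd3 : z ≠ α (α z) := by
      intro h
      have h4 := congrArg α h
      rw [h3] at h4
      exact hd1 h4.symm
    have hsub : ({1, z, α z, α (α z), t} : Finset T) ⊆ (Subgroup.center T : Set T).toFinite.toFinset := by
      intro s hs
      simp only [Finset.mem_insert, Finset.mem_singleton] at hs
      simp only [Set.Finite.mem_toFinset, SetLike.mem_coe]
      rcases hs with rfl | rfl | rfl | rfl | rfl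
      · exact Subgroup.one_mem _
      · exact hzc
      · exact hαc _ hzc
      · exact hαc _ (hαc _ hzc)
      · exact ht
    have hle := Finset.card_le_card hsub
    have h5 : ({1, z, α z, α (α z), t} : Finset T).card = 5 := by
      rw [Finset.card_insert_of_notMem, Finset.card_insert_of_notMem, Finset.card_insert_of_notMem,
        Finset.card_insert_of_notMem, Finset.card_singleton]
      · simp only [Finset.mem_singleton]; exact fun h => hc3 h.symm
      · simp only [Finset.mem_insert, Finset.mem_singleton, not_or]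
        exact ⟨hd2, fun h => hc2 h.symm⟩
      · simp only [Finset.mem_insert, Finset.mem_singleton, not_or]
        exact ⟨hd1, hd3, fun h => hc1 h.symm⟩
      · simp only [Finset.mem_insert, Finset.mem_singleton, not_or]
        exact ⟨fun h => hz1 h.symm, fun h => hz1 (hα1 _ h.symm), fun h => hz1 (hα1 _ (hα1 _ h.symm)),
          fun h => ht1 h.symm⟩
    rw [h5, ← Set.ncard_eq_toFinset_card (Subgroup.center T : Set T)] at hle
    have : Set.ncard (Subgroup.center T : Set T) = 4 := hZ
    omega
  have hBr : ∀ s t, B s (α t) = α (α (B s t)) := by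
    intro s t
    rw [B_symm hsq hinv' s, B_map_left hsq α h3 hf hinv', B_symm hsq hinv' t s]
  -- choose `y` with `b(x,y) = z`
  obtain ⟨y, hy⟩ : ∃ y : T, B x y = z := by
    obtain ⟨y, hy⟩ : ∃ y : T, y * x ≠ x * y := by
      by_contra h
      push Not at h
      exact hx (Subgroup.mem_center_iff.mpr h)
    have hB1 : B x y ≠ 1 := by
      intro h
      have := swap_eq x y
      rw [h, mul_one] at this
      exact hy this.symm
    rcases hcen _ (B_central hsq x y) hB1 with h | h | h
    · exact ⟨y, h⟩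
    · refine ⟨α y, ?_⟩
      rw [hBr, h, h3]
    · refine ⟨α (α y), ?_⟩
      rw [hBr, hBr, h, h3, h3]
  have hyc : y ∉ Subgroup.center T := by
    intro h
    apply hz1
    rw [← hy]
    exact B_eq_one_of_commute (Subgroup.mem_center_iff.mp h x)
  have hyy : y * y ≠ 1 := fun h => hyc ((hinv y).mp h)
  have hzz' : ∀ β : T →* T, (∀ t, β (β (β t)) = t) → (∀ t, β t = t → t = 1) → β (β z) = z * β z := by
    intro β hβ3 hβf
    rw [map_map_eq β hβ3 hβf]
    apply inv_eq_of_mul_eq_one_left
    apply hinv'
    refine Subgroup.mul_mem _ hzc ?_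
    rw [← hinv, ← map_mul, hinv' z hzc, map_one]
  -- the final step for either choice of the automorphism
  have final : ∀ β : T →* T, (∀ t, β (β (β t)) = t) → (∀ t, β t = t → t = 1) → y * y = β z →
      Nonempty (K64 ≃* T) := by
    intro β hβ3 hβf hβy
    have hrel := rel_of_fpf hsq hinv' β hβ3 hβf x y hy hβy
    have hβ1 : ∀ t, β t = 1 → t = 1 := fun t ht => by rw [← hβ3 t, ht, map_one, map_one]
    refine nonempty_mulEquiv_of_rel hcard hrel hz1 (fun h => hz1 (hβ1 _ h)) ?_
    intro h
    have h1 := hzz' β hβ3 hβf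
    rw [h] at h1
    exact hz1 (hβ1 _ (hβ1 _ h1))
  rcases hcen _ (hsq y) hyy with h | h | h
  · -- impossible: `x * α y` would have square 1
    exfalso
    have h1 : B (α y) x = α (α z) := by
      rw [B_map_left hsq α h3 hf hinv', B_symm hsq hinv' y x, hy]
    have h2 : (x * α y) * (x * α y) = 1 := by
      calc (x * α y) * (x * α y) = x * (α y * x) * α y := by group
        _ = x * (x * α y * B (α y) x) * α y := by rw [swap_eq (α y) x]
        _ = (x * x) * (α y * (B (α y) x * α y)) := by group
        _ = (x * x) * (α y * (α y * B (α y) x)) := by rw [B_comm hsq]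
        _ = z * ((α y * α y) * α (α z)) := by rw [h1, ← hz]; group
        _ = z * (α (y * y) * α (α z)) := by rw [← map_mul]
        _ = z * α z * α (α z) := by rw [h]; group
        _ = 1 := mul_map_map α h3 hf z
    have h4 := (hinv _).mp h2
    have h5 : B (x * α y) x = 1 := B_eq_one_of_commute (Subgroup.mem_center_iff.mp h4 x).symm
    rw [B_mul_left hsq, B_self, one_mul, h1] at h5
    exact hz1 (hα1 _ (hα1 _ h5))
  · exact final α h3 hf h
  · refine final (α.comp α) ?_ ?_ h
    · intro t
      show α (α (α (α (α (α t))))) = t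
      rw [h3, h3]
    · intro t ht
      have h1 : α (α t) = t := ht
      apply hf
      have h2 := congrArg α h1
      rw [h3] at h2
      exact h2.symm

end Cfsg.Agent.TwoFusion.U34Model
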