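import Mathlib

/-!
# Recognition of the Sylow 2-subgroup of `U_3(4)` by generators and relations
-/

set_option autoImplicit false

namespace Cfsg.Agent.TwoFusion.U34Recog

variable {X : Type*} [Group X]

/-- the subgroup `H ∪ gH` when `g` normalises `H` and `g * g ∈ H` -/
def dbl (H : Subgroup X) (g : X) (hn : ∀ h ∈ H, g * h * g⁻¹ ∈ H) (hn' : ∀ h ∈ H, g⁻¹ * h * g ∈ H)
    (h2 : g * g ∈ H) : Subgroup X where
  carrier := {x | x ∈ H ∨ g⁻¹ * x ∈ H}
  one_mem' := Or.inl (one_mem H)
  mul_mem' := by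
    rintro a b (ha | ha) (hb | hb)
    · exact Or.inl (mul_mem ha hb)
    · right
      have h1 := mul_mem (hn' a ha) hb
      have : g⁻¹ * a * g * (g⁻¹ * b) = g⁻¹ * (a * b) := by group
      rw [this] at h1; exact h1
    · right
      have h1 := mul_mem ha hb
      rw [mul_assoc] at h1; exact h1
    · left
      have h1 := mul_mem (mul_mem h2 (hn' _ ha)) hb
      have : g * g * (g⁻¹ * (g⁻¹ * a) * g) * (g⁻¹ * b) = a * b := by group
      rw [this] at h1; exact h1
  inv_mem' := by
    rintro a (ha | ha)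
    · exact Or.inl (inv_mem ha)
    · right
      have h1 := mul_mem (inv_mem h2) (hn _ (inv_mem ha))
      have : (g * g)⁻¹ * (g * (g⁻¹ * a)⁻¹ * g⁻¹) = g⁻¹ * a⁻¹ := by group
      rw [this] at h1; exact h1

theorem card_dbl_le [Finite X] (H : Subgroup X) (g : X) (hn : ∀ h ∈ H, g * h * g⁻¹ ∈ H)
    (hn' : ∀ h ∈ H, g⁻¹ * h * g ∈ H) (h2 : g * g ∈ H) : Nat.card (dbl H g hn hn' h2) ≤ 2 * Nat.card H := by
  classical
  let f : Bool × H → dbl H g hn hn' h2 := fun p =>
    if p.1 then ⟨p.2, Or.inl p.2.2⟩ else ⟨g * p.2, Or.inr (by simp)⟩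
  have hf : Function.Surjective f := by
    rintro ⟨x, hx | hx⟩
    · exact ⟨(true, ⟨x, hx⟩), by simp [f]⟩
    · exact ⟨(false, ⟨g⁻¹ * x, hx⟩), by simp [f]⟩
  have h3 := Nat.card_le_card_of_surjective f hf
  rw [Nat.card_prod] at h3
  simpa using h3

/-- doubling step -/
theorem exists_dbl [Finite X] (H : Subgroup X) (g : X) (hn : ∀ h ∈ H, g * h * g⁻¹ ∈ H) (h2 : g * g ∈ H) :
    ∃ K : Subgroup X, H ≤ K ∧ g ∈ K ∧ Nat.card K ≤ 2 * Nat.card H ∧ ∀ x ∈ K, x ∈ H ∨ ∃ h ∈ H, x = g * h := by
  have hn' : ∀ h ∈ H, g⁻¹ * h * g ∈ H := by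
    intro h hh
    have h1 := mul_mem (mul_mem (inv_mem h2) (hn h hh)) h2
    have : (g * g)⁻¹ * (g * h * g⁻¹) * (g * g) = g⁻¹ * h * g := by group
    rw [this] at h1; exact h1
  refine ⟨dbl H g hn hn' h2, fun x hx => Or.inl hx, Or.inr (by simp), card_dbl_le H g hn hn' h2, ?_⟩
  rintro x (hx | hx)
  · exact Or.inl hx
  · exact Or.inr ⟨_, hx, by group⟩

/-- the relations -/
structure Rel (g1 g2 g3 g4 : X) : Prop where
  c12 : g1 * g2 = g2 * g1
  c34 : g3 * g4 = g4 * g3
  s3 : g3 * g3 = g1 * g1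
  s4 : g4 * g4 = g2 * g2
  o1 : g1 * g1 * (g1 * g1) = 1
  o2 : g2 * g2 * (g2 * g2) = 1
  q3 : g3 * (g1 * g1) = (g1 * g1) * g3
  q4 : g4 * (g1 * g1) = (g1 * g1) * g4
  r3 : g3 * (g2 * g2) = (g2 * g2) * g3
  r4 : g4 * (g2 * g2) = (g2 * g2) * g4
  c31 : g3 * g1 = g1 * g3 * (g2 * g2)
  c32 : g3 * g2 = g2 * g3 * (g1 * g1)
  c41 : g4 * g1 = g1 * g4 * (g1 * g1)
  c42 : g4 * g2 = g2 * g4 * (g1 * g1 * (g2 * g2))

theorem card_closure_le [Finite X] (g1 g2 g3 g4 : X) (h : Rel g1 g2 g3 g4) :
    Nat.card (Subgroup.closure {g1, g2, g3, g4} : Subgroup X) ≤ 64 := by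
  obtain ⟨c12, c34, s3, s4, o1, o2, q3, q4, r3, r4, c31, c32, c41, c42⟩ := h
  set q := g1 * g1 with hq
  set r := g2 * g2 with hr
  have q1 : g1 * q = q * g1 := by rw [hq, mul_assoc]
  have q2 : g2 * q = q * g2 := by
    rw [hq, ← mul_assoc, ← c12, mul_assoc, ← c12, mul_assoc]
  have r1 : g1 * r = r * g1 := by
    rw [hr, ← mul_assoc, c12, mul_assoc, c12, mul_assoc]
  have r2 : g2 * r = r * g2 := by rw [hr, mul_assoc]
  have qr : q * r = r * q := by
    rw [hr, ← mul_assoc, ← q2, mul_assoc, ← q2, mul_assoc]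
  -- closure of the conjugation condition
  have conjcl : ∀ (s : Set X) (g : X), (∀ x ∈ s, g * x * g⁻¹ ∈ Subgroup.closure s) →
      ∀ x ∈ Subgroup.closure s, g * x * g⁻¹ ∈ Subgroup.closure s := by
    intro s g hs x hx
    induction hx using Subgroup.closure_induction with
    | mem x hx => exact hs x hx
    | one => simp
    | mul x y _ _ hx hy =>
      have : g * (x * y) * g⁻¹ = (g * x * g⁻¹) * (g * y * g⁻¹) := by group
      rw [this]; exact mul_mem hx hy
    | inv x _ hx =>
      have : g * x⁻¹ * g⁻¹ = (g * x * g⁻¹)⁻¹ := by group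
      rw [this]; exact inv_mem hx
  have step : ∀ (s : Set X) (g : X) (n : ℕ), Nat.card (Subgroup.closure s : Subgroup X) ≤ n →
      (∀ x ∈ s, g * x * g⁻¹ ∈ Subgroup.closure s) → g * g ∈ Subgroup.closure s →
      Nat.card (Subgroup.closure (insert g s) : Subgroup X) ≤ 2 * n := by
    intro s g n hn hs hg
    obtain ⟨K, hK1, hK2, hK3, -⟩ := exists_dbl (Subgroup.closure s) g (conjcl s g hs) hg
    have : Subgroup.closure (insert g s) ≤ K := by
      rw [Subgroup.closure_le]
      intro x hx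
      rcases hx with rfl | hx
      · exact hK2
      · exact hK1 (Subgroup.subset_closure hx)
    calc Nat.card (Subgroup.closure (insert g s) : Subgroup X) ≤ Nat.card K :=
          Nat.card_mono (Set.toFinite _) this
      _ ≤ 2 * Nat.card (Subgroup.closure s : Subgroup X) := hK3
      _ ≤ 2 * n := Nat.mul_le_mul_left 2 hn
  have k0 : Nat.card (Subgroup.closure (∅ : Set X) : Subgroup X) ≤ 1 := by simp
  have k1 := step ∅ q 1 k0 (by simp) (by rw [o1]; exact one_mem _)
  have k2 := step _ r _ k1 (by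
    intro x hx
    have hx' : x = q := by simpa using hx
    rw [hx', ← qr, mul_inv_cancel_right]
    exact Subgroup.subset_closure (by simp)) (by rw [o2]; exact one_mem _)
  have k3 := step _ g1 _ k2 (by
    intro x hx
    rcases hx with rfl | hx
    · rw [r1, mul_inv_cancel_right]; exact Subgroup.subset_closure (by simp)
    · have hx' : x = q := by simpa using hx
      rw [hx', q1, mul_inv_cancel_right]; exact Subgroup.subset_closure (by simp))
    (by rw [← hq]; exact Subgroup.subset_closure (by simp))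
  have k4 := step _ g2 _ k3 (by
    intro x hx
    rcases hx with rfl | hx
    · rw [← c12, mul_inv_cancel_right]; exact Subgroup.subset_closure (by simp)
    rcases hx with rfl | hx
    · rw [r2, mul_inv_cancel_right]; exact Subgroup.subset_closure (by simp)
    · have hx' : x = q := by simpa using hx
      rw [hx', q2, mul_inv_cancel_right]; exact Subgroup.subset_closure (by simp))
    (by rw [← hr]; exact Subgroup.subset_closure (by simp))
  have k5 := step _ g3 _ k4 (by
    intro x hx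
    rcases hx with rfl | hx
    · rw [c32, mul_assoc, mul_assoc]
      have : g3 * (q * g3⁻¹) = q := by rw [← mul_assoc, q3, mul_inv_cancel_right]
      rw [this]
      exact mul_mem (Subgroup.subset_closure (by simp)) (Subgroup.subset_closure (by simp))
    rcases hx with rfl | hx
    · rw [c31, mul_assoc, mul_assoc]
      have : g3 * (r * g3⁻¹) = r := by rw [← mul_assoc, r3, mul_inv_cancel_right]
      rw [this]
      exact mul_mem (Subgroup.subset_closure (by simp)) (Subgroup.subset_closure (by simp))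
    rcases hx with rfl | hx
    · rw [r3, mul_inv_cancel_right]; exact Subgroup.subset_closure (by simp)
    · have hx' : x = q := by simpa using hx
      rw [hx', q3, mul_inv_cancel_right]; exact Subgroup.subset_closure (by simp))
    (by rw [s3]; exact Subgroup.subset_closure (by simp))
  have k6 := step _ g4 _ k5 (by
    intro x hx
    rcases hx with rfl | hx
    · rw [← c34, mul_inv_cancel_right]; exact Subgroup.subset_closure (by simp)
    rcases hx with rfl | hx
    · rw [c42, mul_assoc, mul_assoc]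
      have : g4 * (q * r * g4⁻¹) = q * r := by
        rw [← mul_assoc, ← mul_assoc, q4, mul_assoc q g4 r, r4, ← mul_assoc, mul_inv_cancel_right]
      rw [this]
      exact mul_mem (Subgroup.subset_closure (by simp))
        (mul_mem (Subgroup.subset_closure (by simp)) (Subgroup.subset_closure (by simp)))
    rcases hx with rfl | hx
    · rw [c41, mul_assoc, mul_assoc]
      have : g4 * (q * g4⁻¹) = q := by rw [← mul_assoc, q4, mul_inv_cancel_right]
      rw [this]
      exact mul_mem (Subgroup.subset_closure (by simp)) (Subgroup.subset_closure (by simp))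
    rcases hx with rfl | hx
    · rw [r4, mul_inv_cancel_right]; exact Subgroup.subset_closure (by simp)
    · have hx' : x = q := by simpa using hx
      rw [hx', q4, mul_inv_cancel_right]; exact Subgroup.subset_closure (by simp))
    (by rw [s4]; exact Subgroup.subset_closure (by simp))
  refine le_trans (Nat.card_mono (Set.toFinite _) (Subgroup.closure_mono ?_)) (k6.trans (by norm_num))
  intro x hx
  simp only [Set.mem_insert_iff, Set.mem_singleton_iff] at hx ⊢
  tauto

theorem Rel.prod {Y : Type*} [Group Y] {g1 g2 g3 g4 : X} {h1 h2 h3 h4 : Y} (hg : Rel g1 g2 g3 g4)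
    (hh : Rel h1 h2 h3 h4) : Rel (g1, h1) (g2, h2) (g3, h3) (g4, h4) where
  c12 := Prod.ext hg.c12 hh.c12
  c34 := Prod.ext hg.c34 hh.c34
  s3 := Prod.ext hg.s3 hh.s3
  s4 := Prod.ext hg.s4 hh.s4
  o1 := Prod.ext hg.o1 hh.o1
  o2 := Prod.ext hg.o2 hh.o2
  q3 := Prod.ext hg.q3 hh.q3
  q4 := Prod.ext hg.q4 hh.q4
  r3 := Prod.ext hg.r3 hh.r3
  r4 := Prod.ext hg.r4 hh.r4
  c31 := Prod.ext hg.c31 hh.c31
  c32 := Prod.ext hg.c32 hh.c32
  c41 := Prod.ext hg.c41 hh.c41
  c42 := Prod.ext hg.c42 hh.c42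

/-- Two groups of order 64 generated by quadruples satisfying `Rel` are isomorphic. -/
theorem nonempty_mulEquiv {Y : Type*} [Group Y] (g1 g2 g3 g4 : X) (h1 h2 h3 h4 : Y)
    (hX : Nat.card X = 64) (hY : Nat.card Y = 64)
    (hg : Rel g1 g2 g3 g4) (hh : Rel h1 h2 h3 h4)
    (hgt : Subgroup.closure {g1, g2, g3, g4} = (⊤ : Subgroup X))
    (hht : Subgroup.closure {h1, h2, h3, h4} = (⊤ : Subgroup Y)) : Nonempty (X ≃* Y) := by
  have : Finite X := Nat.finite_of_card_ne_zero (by rw [hX]; norm_num)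
  have : Finite Y := Nat.finite_of_card_ne_zero (by rw [hY]; norm_num)
  let Γ : Subgroup (X × Y) := Subgroup.closure {(g1, h1), (g2, h2), (g3, h3), (g4, h4)}
  have hΓ : Nat.card Γ ≤ 64 := card_closure_le _ _ _ _ (hg.prod hh)
  let p1 : Γ →* X := (MonoidHom.fst X Y).comp Γ.subtype
  let p2 : Γ →* Y := (MonoidHom.snd X Y).comp Γ.subtype
  have s1 : Function.Surjective p1 := by
    rw [← MonoidHom.range_eq_top, eq_top_iff, ← hgt, Subgroup.closure_le]
    rintro x (rfl | rfl | rfl | rfl)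
    · exact ⟨⟨(x, h1), Subgroup.subset_closure (by simp)⟩, rfl⟩
    · exact ⟨⟨(x, h2), Subgroup.subset_closure (by simp)⟩, rfl⟩
    · exact ⟨⟨(x, h3), Subgroup.subset_closure (by simp)⟩, rfl⟩
    · exact ⟨⟨(x, h4), Subgroup.subset_closure (by simp)⟩, rfl⟩
  have s2 : Function.Surjective p2 := by
    rw [← MonoidHom.range_eq_top, eq_top_iff, ← hht, Subgroup.closure_le]
    rintro x (rfl | rfl | rfl | rfl)
    · exact ⟨⟨(g1, x), Subgroup.subset_closure (by simp)⟩, rfl⟩
    · exact ⟨⟨(g2, x), Subgroup.subset_closure (by simp)⟩, rfl⟩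
    · exact ⟨⟨(g3, x), Subgroup.subset_closure (by simp)⟩, rfl⟩
    · exact ⟨⟨(g4, x), Subgroup.subset_closure (by simp)⟩, rfl⟩
  have b1 : Function.Bijective p1 :=
    (Nat.bijective_iff_surjective_and_card p1).2 ⟨s1, le_antisymm (by rw [hX]; exact hΓ)
      (Nat.card_le_card_of_surjective p1 s1)⟩
  have b2 : Function.Bijective p2 :=
    (Nat.bijective_iff_surjective_and_card p2).2 ⟨s2, le_antisymm (by rw [hY]; exact hΓ)
      (Nat.card_le_card_of_surjective p2 s2)⟩
  exact ⟨(MulEquiv.ofBijective p1 b1).symm.trans (MulEquiv.ofBijective p2 b2)⟩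

end Cfsg.Agent.TwoFusion.U34Recog
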