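import Mathlib
import Cfsg.Agent.TwoFusion.U34Sylow
import Cfsg.Agent.TwoFusion.U34Recog

/-!
# The Sylow 2-subgroup of `U_3(4)` satisfies the relations of `U34Recog`
-/

set_option autoImplicit false
set_option linter.unusedSectionVars false

namespace Cfsg.Agent.TwoFusion.U34RecogCoord

open Cfsg.Agent.TwoFusion.U34Coord Cfsg.Agent.TwoFusion.U34Recog

variable {F : Type*} [Field F] [Fintype F]

theorem exists_rel_of_coords (hF : Fintype.card F = 16) {S : Type*} [Group S] (f : S → F × F)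
    (hinj : Function.Injective f)
    (hmem : ∀ s, (f s).2 + (f s).2 ^ 4 = (f s).1 ^ 5)
    (hsurj : ∀ a b : F, b + b ^ 4 = a ^ 5 → ∃ s, f s = (a, b))
    (hmul : ∀ s t, f (s * t) = ((f s).1 + (f t).1, (f s).2 + (f t).2 + (f s).1 * (f t).1 ^ 4)) :
    ∃ g1 g2 g3 g4 : S, Rel g1 g2 g3 g4 ∧ Subgroup.closure {g1, g2, g3, g4} = (⊤ : Subgroup S) := by
  have h2 := two_eq_zero hF
  obtain ⟨z, z5, z1, z2, z3⟩ := Cfsg.Agent.TwoFusion.U34Sylow.exists_zeta hF
  have zs : 1 + z + z ^ 2 + z ^ 3 + z ^ 4 = 0 := by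
    have : (z - 1) * (1 + z + z ^ 2 + z ^ 3 + z ^ 4) = 0 := by linear_combination z5
    exact (mul_eq_zero.1 this).resolve_left (sub_ne_zero.2 z1)
  obtain ⟨t, ht⟩ : ∃ t : F, t = z ^ 2 + z ^ 3 := ⟨_, rfl⟩
  have t2 : t ^ 2 = z + z ^ 4 := by
    rw [ht]; linear_combination z * z5 + z ^ 5 * h2
  have t1 : t + t ^ 2 = 1 := by
    rw [t2, ht]; linear_combination zs - h2
  have t3 : t ^ 3 = 1 := by
    grind
  have t4 : t ^ 4 = t := by linear_combination t * t3
  have hm1 : ∀ s t, (f (s * t)).1 = (f s).1 + (f t).1 := fun s t => by rw [hmul]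
  have hm2 : ∀ s t, (f (s * t)).2 = (f s).2 + (f t).2 + (f s).1 * (f t).1 ^ 4 := fun s t => by
    rw [hmul]
  have h11 : (f 1).1 = 0 := by
    have := hm1 1 1
    rw [mul_one] at this
    linear_combination -this
  have h12 : (f 1).2 = 0 := by
    have := hm2 1 1
    rw [mul_one, h11] at this
    linear_combination -this
  have hext : ∀ s t : S, (f s).1 = (f t).1 → (f s).2 = (f t).2 → s = t := fun s t h1 h2 =>
    hinj (Prod.ext h1 h2)
  obtain ⟨c, hc⟩ := exists_section hF
  obtain ⟨g1, hg1⟩ := hsurj 1 (c 1) (hc 1)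
  obtain ⟨g2, hg2⟩ := hsurj t (c t) (hc t)
  obtain ⟨g3, hg3⟩ := hsurj z (c z) (hc z)
  obtain ⟨g4, hg4⟩ := hsurj (t * z) (c (t * z)) (hc (t * z))
  have a1 : (f g1).1 = 1 := by rw [hg1]
  have a2 : (f g2).1 = t := by rw [hg2]
  have a3 : (f g3).1 = z := by rw [hg3]
  have a4 : (f g4).1 = t * z := by rw [hg4]
  have p4 : ((1 : F) + 1) = 0 := by linear_combination h2
  have key : ∀ x y : F, (x + y) ^ 4 = x ^ 4 + y ^ 4 := add_pow4 hF
  refine ⟨g1, g2, g3, g4, ?_, ?_⟩
  · constructor <;> apply hext <;> simp only [hm1, hm2, a1, a2, a3, a4, h11, h12, mul_pow, key, t4]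
    all_goals grind
  · rw [eq_top_iff]
    have m1 : g1 ∈ Subgroup.closure {g1, g2, g3, g4} := Subgroup.subset_closure (by simp)
    have m2 : g2 ∈ Subgroup.closure {g1, g2, g3, g4} := Subgroup.subset_closure (by simp)
    have m3 : g3 ∈ Subgroup.closure {g1, g2, g3, g4} := Subgroup.subset_closure (by simp)
    have m4 : g4 ∈ Subgroup.closure {g1, g2, g3, g4} := Subgroup.subset_closure (by simp)
    generalize Subgroup.closure {g1, g2, g3, g4} = K at m1 m2 m3 m4
    -- elements of the subfield with four elements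
    have four : ∀ b : F, b + b ^ 4 = 0 → b = 0 ∨ b = 1 ∨ b = t ∨ b = t + 1 := by
      intro b hb
      have : b * ((b - 1) * ((b - t) * (b - (t + 1)))) = 0 := by grind
      rcases mul_eq_zero.1 this with h | h
      · exact Or.inl h
      rcases mul_eq_zero.1 h with h | h
      · exact Or.inr (Or.inl (sub_eq_zero.1 h))
      rcases mul_eq_zero.1 h with h | h
      · exact Or.inr (Or.inr (Or.inl (sub_eq_zero.1 h)))
      · exact Or.inr (Or.inr (Or.inr (sub_eq_zero.1 h)))
    have e1 : ∀ x : F, x + x ^ 4 = 0 → ∃ k ∈ K, (f k).1 = x := by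
      intro x hx
      rcases four x hx with rfl | rfl | rfl | rfl
      · exact ⟨1, one_mem K, h11⟩
      · exact ⟨g1, m1, a1⟩
      · exact ⟨g2, m2, a2⟩
      · exact ⟨g2 * g1, mul_mem m2 m1, by rw [hm1, a1, a2]⟩
    have e2 : ∀ x : F, x + x ^ 4 = 0 → ∃ k ∈ K, (f k).1 = z * x := by
      intro x hx
      rcases four x hx with rfl | rfl | rfl | rfl
      · exact ⟨1, one_mem K, by rw [h11, mul_zero]⟩
      · exact ⟨g3, m3, by rw [a3, mul_one]⟩
      · exact ⟨g4, m4, by rw [a4, mul_comm]⟩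
      · exact ⟨g4 * g3, mul_mem m4 m3, by rw [hm1, a3, a4]; ring⟩
    have e3 : ∀ x : F, x + x ^ 4 = 0 → ∃ k ∈ K, f k = (0, x) := by
      intro x hx
      rcases four x hx with rfl | rfl | rfl | rfl
      · exact ⟨1, one_mem K, Prod.ext h11 h12⟩
      · exact ⟨g1 * g1, mul_mem m1 m1, Prod.ext (by simp only [hm1, a1]; grind) (by
          simp only [hm2, a1]; grind)⟩
      · exact ⟨g1 * g1 * (g2 * g2), mul_mem (mul_mem m1 m1) (mul_mem m2 m2), Prod.ext
          (by simp only [hm1, a1, a2]; grind) (by simp only [hm1, hm2, a1, a2]; grind)⟩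
      · exact ⟨g2 * g2, mul_mem m2 m2, Prod.ext
          (by simp only [hm1, a2]; grind) (by simp only [hm2, a2]; grind)⟩
    intro s _
    -- decompose the first coordinate
    obtain ⟨k, hk, hk1⟩ : ∃ k ∈ K, (f k).1 = (f s).1 := by
      have h16 := pow16 hF (f s).1
      generalize (f s).1 = a at h16
      have ha : (a ^ 4) ^ 4 = a := by rw [← pow_mul]; exact h16
      obtain ⟨y, hy⟩ : ∃ y : F, y = (a + a ^ 4) * t := ⟨_, rfl⟩
      have hy4 : y + y ^ 4 = 0 := by
        rw [hy, mul_pow, key, t4, ha]; grind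
      obtain ⟨k2, hk2, hk2'⟩ := e2 y hy4
      obtain ⟨k1, hk1, hk1'⟩ := e1 (a + z * y) (by
        have hy4' : y ^ 4 = y := by linear_combination hy4 - y * h2
        rw [key, mul_pow, hy4', hy]
        grind)
      refine ⟨k1 * k2, mul_mem hk1 hk2, ?_⟩
      rw [hm1, hk1', hk2']; grind
    have hinv : (f k⁻¹).1 = - (f k).1 := by
      have := hm1 k k⁻¹
      rw [mul_inv_cancel, h11] at this
      linear_combination -this
    obtain ⟨l, hl, hl'⟩ := e3 (f (s * k⁻¹)).2 (by
      rw [hmem, hm1, hinv, hk1]; ring)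
    have hsl : s * k⁻¹ = l := by
      apply hext
      · rw [hl', hm1, hinv, hk1]; simp
      · rw [hl']
    have : s = l * k := by rw [← hsl]; group
    rw [this]
    exact mul_mem hl hk

end Cfsg.Agent.TwoFusion.U34RecogCoord
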