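import Mathlib
import Cfsg.Agent.TwoFusion.U34Recog

/-!
# A group of order 64 with three involutions and a fixed-point-free automorphism of order three
-/

set_option autoImplicit false

namespace Cfsg.Agent.TwoFusion.U34Triality

open Cfsg.Agent.TwoFusion.U34Recog

variable {T : Type*} [Group T]

/-- the configuration: `Z` central elementary of order four containing all squares and all involutions,
`α` an automorphism with `x * α x * α (α x) = 1`. -/
structure Setup (Z : Subgroup T) (α : T → T) : Prop where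
  map_mul : ∀ x y, α (x * y) = α x * α y
  cen : ∀ z ∈ Z, ∀ x : T, z * x = x * z
  cardZ : Nat.card Z = 4
  sq : ∀ x : T, x * x ∈ Z
  inv : ∀ x : T, x * x = 1 → x ∈ Z
  ord : ∀ z ∈ Z, z * z = 1
  tri : ∀ x : T, x * α x * α (α x) = 1

/-- commutator -/
def c (x y : T) : T := x⁻¹ * y⁻¹ * x * y

theorem c_def (x y : T) : c x y = x⁻¹ * y⁻¹ * x * y := rfl

theorem mul_comm_c (x y : T) : x * y = y * x * c x y := by rw [c_def]; group

variable {Z : Subgroup T} {α : T → T}

namespace Setup

theorem c_mem (h : Setup Z α) (x y : T) : c x y ∈ Z := by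
  have h1 := mul_mem (mul_mem (inv_mem (h.sq x)) (h.sq (x * y⁻¹))) (h.sq y)
  have : (x * x)⁻¹ * (x * y⁻¹ * (x * y⁻¹)) * (y * y) = c x y := by rw [c_def]; group
  rw [this] at h1; exact h1

theorem map_one (h : Setup Z α) : α 1 = 1 := by
  have h1 := h.map_mul 1 1
  rw [mul_one] at h1
  exact mul_eq_left.1 h1.symm

theorem map_inv (h : Setup Z α) (x : T) : α x⁻¹ = (α x)⁻¹ := by
  have h1 := h.map_mul x x⁻¹
  rw [mul_inv_cancel, h.map_one] at h1
  exact (inv_eq_of_mul_eq_one_right h1.symm).symm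

theorem map_c (h : Setup Z α) (x y : T) : α (c x y) = c (α x) (α y) := by
  rw [c_def, c_def, h.map_mul, h.map_mul, h.map_mul, h.map_inv, h.map_inv]

theorem map_mem (h : Setup Z α) {z : T} (hz : z ∈ Z) : α z ∈ Z := by
  apply h.inv
  rw [← h.map_mul, h.ord z hz, h.map_one]

theorem aa (h : Setup Z α) (x : T) : α (α x) = (x * α x)⁻¹ :=
  (inv_eq_of_mul_eq_one_right (h.tri x)).symm

theorem comm (h : Setup Z α) (x : T) : x * α x = α x * x := by
  have h1 := h.aa x
  have h2 := h.aa x⁻¹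
  rw [h.map_inv, h.map_inv, h1] at h2
  have h3 := congrArg Inv.inv h2
  simp only [inv_inv, mul_inv_rev] at h3
  have h4 := congrArg Inv.inv h3
  simp only [inv_inv, mul_inv_rev] at h4
  exact h4

theorem aaa (h : Setup Z α) (x : T) : α (α (α x)) = x := by
  rw [h.aa (α x), h.aa x]; group

theorem c_mul_left (h : Setup Z α) (x x' y : T) : c (x * x') y = c x y * c x' y := by
  have h1 := h.cen _ (h.c_mem x y) x'⁻¹
  calc c (x * x') y = x'⁻¹ * c x y * (y⁻¹ * x' * y) := by rw [c_def, c_def]; group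
    _ = c x y * c x' y := by rw [← h1, c_def x' y]; group

theorem c_swap (h : Setup Z α) (x y : T) : c x y = c y x := by
  have h1 : c x y * c y x = 1 := by rw [c_def, c_def]; group
  have h2 := h.ord _ (h.c_mem x y)
  exact mul_left_cancel (h2.trans h1.symm)

theorem c_mul_right (h : Setup Z α) (x y y' : T) : c x (y * y') = c x y * c x y' := by
  rw [h.c_swap, h.c_mul_left, h.c_swap y, h.c_swap y']

theorem c_sq (h : Setup Z α) (x y : T) : c x y * c x y = 1 := h.ord _ (h.c_mem x y)

theorem c_inv_right (h : Setup Z α) (x y : T) : c x y⁻¹ = c x y := by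
  have h1 := h.c_mul_right x y y⁻¹
  rw [mul_inv_cancel] at h1
  have h3 : c x 1 = 1 := by rw [c_def]; group
  rw [h3] at h1
  exact mul_left_cancel (h1.symm.trans (h.c_sq x y).symm)

theorem c_self_alpha (h : Setup Z α) (x : T) : c x (α x) = 1 := by
  have h1 := h.comm x
  rw [mul_comm_c x (α x)] at h1
  exact mul_eq_left.1 h1

theorem c_of_mem (h : Setup Z α) {z : T} (hz : z ∈ Z) (x : T) : c z x = 1 := by
  have h1 := h.cen z hz x
  rw [mul_comm_c z x] at h1
  exact mul_eq_left.1 h1

/-- `c x (α y) = c (α x) y` -/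
theorem c_alpha (h : Setup Z α) (x y : T) : c x (α y) = c (α x) y := by
  have h1 := h.c_self_alpha (x * y)
  rw [h.map_mul, h.c_mul_left, h.c_mul_right, h.c_mul_right, h.c_self_alpha, h.c_self_alpha, one_mul,
    mul_one] at h1
  rw [h.c_swap (α x) y]
  exact mul_right_cancel (h1.trans (h.c_sq y (α x)).symm)

/-- `c x (α y) = α (α (c x y))` -/
theorem c_alpha' (h : Setup Z α) (x y : T) : c x (α y) = α (α (c x y)) := by
  have h1 : α (c x y) = c x y * c x (α y) := by
    rw [h.map_c, ← h.c_alpha x (α y), h.aa y, h.c_inv_right, h.c_mul_right]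
  have h4 : c x y * α (c x y) = c x (α y) := by rw [h1, ← mul_assoc, h.c_sq, one_mul]
  have h3 := h.tri (c x y)
  rw [h4] at h3
  exact mul_left_cancel ((h.c_sq x (α y)).trans h3.symm)

theorem sq_mul (h : Setup Z α) (x y : T) : x * y * (x * y) = x * x * (y * y) * c x y := by
  have h1 := h.cen _ (h.c_mem y x) y
  calc x * y * (x * y) = x * (y * x) * y := by group
    _ = x * (x * y * c y x) * y := by rw [← mul_comm_c y x]
    _ = x * x * y * (c y x * y) := by group
    _ = x * x * (y * y) * c x y := by rw [h1, h.c_swap y x]; group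

theorem mem_iff (h : Setup Z α) (x : T) : x ∈ Z ↔ x * x = 1 := ⟨h.ord x, h.inv x⟩

theorem alpha_ne (h : Setup Z α) {z : T} (hz : z ∈ Z) (h1 : z ≠ 1) : α z ≠ z := by
  intro h2
  have h3 := h.tri z
  rw [h2, h2, h.ord z hz, one_mul] at h3
  exact h1 h3

theorem alpha_inj (h : Setup Z α) {x y : T} (hxy : α x = α y) : x = y := by
  rw [← h.aaa x, ← h.aaa y, hxy]

theorem mem_Z (h : Setup Z α) {q : T} (hq : q ∈ Z) (h1 : q ≠ 1) {z : T} (hz : z ∈ Z) :
    z = 1 ∨ z = q ∨ z = α q ∨ z = α (α q) := by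
  classical
  have : Finite Z := Nat.finite_of_card_ne_zero (by rw [h.cardZ]; norm_num)
  have : Fintype Z := Fintype.ofFinite Z
  have haq : α q ∈ Z := h.map_mem hq
  have haaq : α (α q) ∈ Z := h.map_mem haq
  have n1 : α q ≠ q := h.alpha_ne hq h1
  have n2 : α q ≠ 1 := fun e => h1 (h.alpha_inj (e.trans h.map_one.symm))
  have n3 : α (α q) ≠ α q := h.alpha_ne haq n2
  have n4 : α (α q) ≠ 1 := fun e => n2 (h.alpha_inj (e.trans h.map_one.symm))
  have n5 : α (α q) ≠ q := fun e => by
    have := h.aaa q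
    rw [e] at this
    exact n1 this
  let s : Finset Z := {⟨1, one_mem Z⟩, ⟨q, hq⟩, ⟨α q, haq⟩, ⟨α (α q), haaq⟩}
  have hs : s.card = 4 := by
    simp only [s]
    rw [Finset.card_insert_of_notMem, Finset.card_insert_of_notMem, Finset.card_insert_of_notMem,
      Finset.card_singleton]
    · simp [n3.symm]
    · simp [n1.symm, n5.symm]
    · simp [h1.symm, n2.symm, n4.symm]
  have hs' : s = Finset.univ := by
    rw [← Finset.card_eq_iff_eq_univ, hs, ← Nat.card_eq_fintype_card, h.cardZ]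
  have hz' : (⟨z, hz⟩ : Z) ∈ s := by rw [hs']; exact Finset.mem_univ _
  simpa [s] using hz'

/-- the relations, in the case `c x y = α (x * x)` -/
theorem rel (h : Setup Z α) (x y : T) (hxy : y * y = x * x) (hc : c x y = α (x * x)) :
    Rel x (α x) y (α y) := by
  have hZ : ∀ x y, x * x * y = y * (x * x) := fun x y => h.cen _ (h.sq x) y
  have hs : ∀ x, α x * α x = α (x * x) := fun x => (h.map_mul x x).symm
  have hyx : c y x = α (x * x) := by rw [h.c_swap, hc]
  have tri := h.tri (x * x)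
  have hay : c (α y) x = x * x := by
    rw [h.c_swap, h.c_alpha', hc, h.aaa]
  have hax : c y (α x) = x * x := by
    rw [h.c_alpha', hyx, h.aaa]
  have haa : c (α y) (α x) = x * x * α (x * x) := by
    rw [← h.map_c, hyx]
    have h1 := h.ord _ (h.map_mem (h.map_mem (h.sq x)))
    exact (mul_right_cancel (h1.trans tri.symm))
  refine ⟨h.comm x, h.comm y, hxy, ?_, ?_, ?_, ?_, ?_, ?_, ?_, ?_, ?_, ?_, ?_⟩
  · rw [hs, hs, hxy]
  · exact h.ord _ (h.sq x)
  · exact h.ord _ (h.sq _)
  · exact (hZ _ _).symm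
  · exact (hZ _ _).symm
  · exact (hZ _ _).symm
  · exact (hZ _ _).symm
  · rw [mul_comm_c y x, hyx, hs]
  · rw [mul_comm_c y (α x), hax]
  · rw [mul_comm_c (α y) x, hay]
  · rw [mul_comm_c (α y) (α x), haa, hs]

/-- generation -/
theorem gen (h : Setup Z α) (x y : T) (hT : Nat.card T = 64) (hc : c x y = α (x * x))
    (hx : x * x ≠ 1) : Subgroup.closure {x, α x, y, α y} = (⊤ : Subgroup T) := by
  have : Finite T := Nat.finite_of_card_ne_zero (by rw [hT]; norm_num)
  set K := Subgroup.closure {x, α x, y, α y} with hK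
  have m1 : x ∈ K := Subgroup.subset_closure (by simp)
  have m2 : α x ∈ K := Subgroup.subset_closure (by simp)
  have m3 : y ∈ K := Subgroup.subset_closure (by simp)
  have m4 : α y ∈ K := Subgroup.subset_closure (by simp)
  have hZK : Z ≤ K := by
    intro z hz
    rcases h.mem_Z (h.sq x) hx hz with rfl | rfl | rfl | rfl
    · exact one_mem K
    · exact mul_mem m1 m1
    · rw [h.map_mul]; exact mul_mem m2 m2
    · rw [h.aa]
      refine inv_mem (mul_mem (mul_mem m1 m1) ?_)
      rw [h.map_mul]; exact mul_mem m2 m2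
  -- the homomorphism to `Z × Z`
  let φ : K →* Z × Z :=
    { toFun := fun k => (⟨c k x, h.c_mem _ _⟩, ⟨c k y, h.c_mem _ _⟩)
      map_one' := by
        have h1 : ∀ x, c (1 : T) x = 1 := fun x => by rw [c_def]; group
        simp [h1]
      map_mul' := fun a b => by
        simp [h.c_mul_left] }
  have hyx : c y x = α (x * x) := by rw [h.c_swap, hc]
  have hxx : c x x = 1 := by rw [c_def]; group
  have hyy : c y y = 1 := by rw [c_def]; group
  have hφs : Function.Surjective φ := by
    have e1 : ∀ z ∈ Z, ∃ k ∈ K, c k x = z ∧ c k y = 1 := by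
      intro z hz
      rcases h.mem_Z (h.sq x) hx hz with rfl | rfl | rfl | rfl
      · exact ⟨1, one_mem K, by rw [c_def]; group, by rw [c_def]; group⟩
      · refine ⟨α y, m4, ?_, ?_⟩
        · rw [← h.c_alpha, h.c_alpha', hyx, h.aaa]
        · rw [h.c_swap, h.c_self_alpha]
      · exact ⟨y, m3, hyx, hyy⟩
      · refine ⟨y * α y, mul_mem m3 m4, ?_, ?_⟩
        · rw [h.c_mul_left, ← h.c_alpha y x, h.c_alpha', hyx, h.aaa]
          have h1 := h.ord _ (h.map_mem (h.map_mem (h.sq x)))
          have h2 := (mul_right_cancel (h1.trans (h.tri (x * x)).symm))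
          rw [h2, h.cen _ (h.sq x)]
        · rw [h.c_mul_left, hyy, h.c_swap, h.c_self_alpha, one_mul]
    have e2 : ∀ z ∈ Z, ∃ k ∈ K, c k x = 1 ∧ c k y = z := by
      intro z hz
      rcases h.mem_Z (h.sq x) hx hz with rfl | rfl | rfl | rfl
      · exact ⟨1, one_mem K, by rw [c_def]; group, by rw [c_def]; group⟩
      · refine ⟨α x, m2, ?_, ?_⟩
        · rw [h.c_swap, h.c_self_alpha]
        · rw [← h.c_alpha, h.c_alpha', hc, h.aaa]
      · exact ⟨x, m1, hxx, hc⟩
      · refine ⟨x * α x, mul_mem m1 m2, ?_, ?_⟩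
        · rw [h.c_mul_left, hxx, h.c_swap, h.c_self_alpha, one_mul]
        · rw [h.c_mul_left, ← h.c_alpha x y, h.c_alpha', hc, h.aaa]
          have h1 := h.ord _ (h.map_mem (h.map_mem (h.sq x)))
          have h2 := (mul_right_cancel (h1.trans (h.tri (x * x)).symm))
          rw [h2, h.cen _ (h.sq x)]
    rintro ⟨⟨z1, hz1⟩, ⟨z2, hz2⟩⟩
    obtain ⟨k1, hk1, h11, h12⟩ := e1 z1 hz1
    obtain ⟨k2, hk2, h21, h22⟩ := e2 z2 hz2
    refine ⟨⟨k1 * k2, mul_mem hk1 hk2⟩, ?_⟩
    simp [φ, h.c_mul_left, h11, h12, h21, h22]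
  have hker : 4 ≤ Nat.card φ.ker := by
    rw [← h.cardZ]
    refine Nat.card_le_card_of_injective
      (fun z : Z => (⟨⟨z, hZK z.2⟩, ?_⟩ : φ.ker)) ?_
    · rw [MonoidHom.mem_ker]
      simp [φ, h.c_of_mem z.2]
    · intro a b hab
      simpa using hab
  have hcard : Nat.card K = 16 * Nat.card φ.ker := by
    rw [Subgroup.card_eq_card_quotient_mul_card_subgroup φ.ker,
      Nat.card_congr (QuotientGroup.quotientKerEquivOfSurjective φ hφs).toEquiv, Nat.card_prod, h.cardZ]
  apply Subgroup.eq_top_of_card_eq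
  apply le_antisymm
  · exact Nat.card_le_card_of_injective _ K.subtype_injective
  · rw [hT, hcard]; omega

/-- the key point: two noncommuting elements with the same square -/
theorem cases (h : Setup Z α) (x y : T) (hxy : y * y = x * x) (hc : c x y ≠ 1) :
    x * x ≠ 1 ∧ (c x y = α (x * x) ∨ c x y = α (α (x * x))) := by
  have hx : x * x ≠ 1 := by
    intro h1
    exact hc (h.c_of_mem (h.inv x h1) y)
  refine ⟨hx, ?_⟩
  rcases h.mem_Z (h.sq x) hx (h.c_mem x y) with h1 | h1 | h1 | h1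
  · exact absurd h1 hc
  · exfalso
    -- `w = α x * α (α y)`
    have h2 : c (α x) (α (α y)) = x * x := by
      rw [← h.map_c, h.c_alpha', h1, h.aaa]
    have h3 : α x * α (α y) * (α x * α (α y)) = 1 := by
      rw [h.sq_mul, h2, ← h.map_mul x x, ← h.map_mul (α y) (α y), ← h.map_mul y y, hxy,
        ← h.cen _ (h.sq x), ← mul_assoc]
      exact h.tri (x * x)
    have h4 := h.c_of_mem (h.inv _ h3) (α x)
    rw [h.c_mul_left, h.c_swap (α (α y)), h2] at h4
    have hxx : c (α x) (α x) = 1 := by rw [c_def]; group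
    rw [hxx, one_mul] at h4
    exact hx h4
  · exact Or.inl h1
  · exact Or.inr h1

/-- the square of the automorphism gives a setup too -/
theorem sqr (h : Setup Z α) : Setup Z (fun x => α (α x)) where
  map_mul x y := by rw [h.map_mul, h.map_mul]
  cen := h.cen
  cardZ := h.cardZ
  sq := h.sq
  inv := h.inv
  ord := h.ord
  tri x := by
    show x * α (α x) * α (α (α (α x))) = 1
    rw [h.aaa, h.aa, h.comm]; group

theorem c_ne (h : Setup Z α) {x y : T} (hc : c x y ≠ 1) : c x (α y) ≠ 1 := by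
  rw [h.c_alpha']
  intro h1
  apply hc
  have h2 := congrArg α h1
  rwa [h.aaa, h.map_one] at h2

theorem exists_rel (h : Setup Z α) (hT : Nat.card T = 64) (hnc : ∃ x y : T, x * y ≠ y * x) :
    ∃ g1 g2 g3 g4 : T, Rel g1 g2 g3 g4 ∧ Subgroup.closure {g1, g2, g3, g4} = (⊤ : Subgroup T) := by
  obtain ⟨x, y, hxy⟩ := hnc
  have hc : c x y ≠ 1 := by
    intro h1
    apply hxy
    rw [mul_comm_c x y, h1, mul_one]
  have hx : x * x ≠ 1 := fun h1 => hc (h.c_of_mem (h.inv x h1) y)
  -- adjust `y` to have the same square as `x`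
  obtain ⟨y', hy', hc'⟩ : ∃ y' : T, y' * y' = x * x ∧ c x y' ≠ 1 := by
    rcases h.mem_Z (h.sq x) hx (h.sq y) with h1 | h1 | h1 | h1
    · exfalso
      apply hc
      rw [h.c_swap]
      exact h.c_of_mem (h.inv y h1) x
    · exact ⟨y, h1, hc⟩
    · refine ⟨α (α y), ?_, h.c_ne (h.c_ne hc)⟩
      rw [← h.map_mul, ← h.map_mul, h1, h.aaa]
    · refine ⟨α y, ?_, h.c_ne hc⟩
      rw [← h.map_mul, h1, h.aaa]
  obtain ⟨-, h1 | h1⟩ := h.cases x y' hy' hc'
  · exact ⟨x, α x, y', α y', h.rel x y' hy' h1, h.gen x y' hT h1 hx⟩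
  · exact ⟨x, α (α x), y', α (α y'), h.sqr.rel x y' hy' h1, h.sqr.gen x y' hT h1 hx⟩

end Setup

end Cfsg.Agent.TwoFusion.U34Triality
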