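import Cfsg.Agent.TwoFusion.U34Model
import Cfsg.Agent.TwoFusion.U34Sylow

/-!
# Uniqueness of the Sylow 2-subgroup of `U_3(4)`

A group of order 64 with a fixed-point-free automorphism of order 3, with centre of order 4 which is the set of
elements of square 1 and contains all squares, is isomorphic to a Sylow 2-subgroup of `PSU 3 F 4`, `|F| = 16`.
-/

set_option autoImplicit false

namespace Cfsg.Agent.TwoFusion.U34Unique

open Cfsg.Agent.TwoFusion.U34Coord Cfsg.Agent.TwoFusion.U34Model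

variable {F : Type*} [Field F] [Fintype F]

theorem exists_cube_root (hF : Fintype.card F = 16) : ∃ w : F, w ^ 3 = 1 ∧ w ≠ 1 := by
  classical
  by_contra h
  push Not at h
  have h1 := card_ker_T hF
  have hsub : ((T hF).ker : Set F) ⊆ ({0, 1} : Finset F) := by
    intro x hx
    have hx' : x + x ^ 4 = 0 := (mem_ker_T hF x).mp hx
    simp only [Finset.coe_insert, Finset.coe_singleton, Set.mem_insert_iff, Set.mem_singleton_iff]
    by_cases hx0 : x = 0
    · exact Or.inl hx0
    · right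
      apply h
      have h2 := eq_of_add_eq_zero hF hx'
      have h3 : x * (x ^ 3 - 1) = 0 := by linear_combination -h2
      rcases mul_eq_zero.mp h3 with h4 | h4
      · exact absurd h4 hx0
      · exact sub_eq_zero.mp h4
  have h2 : Nat.card (T hF).ker ≤ 2 := by
    have h3 : Set.ncard ((T hF).ker : Set F) ≤ Set.ncard (({0, 1} : Finset F) : Set F) :=
      Set.ncard_le_ncard hsub (Finset.finite_toSet _)
    rw [Set.ncard_coe_finset] at h3
    exact h3.trans (Finset.card_le_two)
  omega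

/-- A group with the coordinates of the Sylow 2-subgroup of `U_3(4)` is isomorphic to the model. -/
theorem nonempty_mulEquiv_of_coords (hF : Fintype.card F = 16) {S : Type*} [Group S] (f : S → F × F)
    (hinj : Function.Injective f)
    (hmem : ∀ s, (f s).2 + (f s).2 ^ 4 = (f s).1 ^ 5)
    (hsurj : ∀ a b : F, b + b ^ 4 = a ^ 5 → ∃ s, f s = (a, b))
    (hmul : ∀ s t, f (s * t) = ((f s).1 + (f t).1, (f s).2 + (f t).2 + (f s).1 * (f t).1 ^ 4)) :
    Nonempty (K64 ≃* S) := by
  obtain ⟨hcard, hK, hcl, -, -, hsq⟩ := structure_of_coords hF f hinj hmem hsurj hmul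
  obtain ⟨w, hw3, hw1⟩ := exists_cube_root hF
  have h2 := two_eq_zero hF
  have hw : w ^ 2 + w + 1 = 0 := by
    have h3 : (w - 1) * (w ^ 2 + w + 1) = 0 := by linear_combination hw3
    rcases mul_eq_zero.mp h3 with h4 | h4
    · exact absurd (sub_eq_zero.mp h4) hw1
    · exact h4
  -- the automorphism
  have hex : ∀ s : S, ∃ s' : S, f s' = (w * (f s).1, w ^ 2 * (f s).2) := by
    intro s
    apply hsurj
    have h3 := hmem s
    have h4 : (w : F) ^ 5 = w ^ 2 := by
      calc (w : F) ^ 5 = w ^ 3 * w ^ 2 := by ring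
        _ = w ^ 2 := by rw [hw3, one_mul]
    have h5 : (w : F) ^ 8 = w ^ 2 := by
      calc (w : F) ^ 8 = w ^ 3 * w ^ 3 * w ^ 2 := by ring
        _ = w ^ 2 := by rw [hw3, one_mul, one_mul]
    calc w ^ 2 * (f s).2 + (w ^ 2 * (f s).2) ^ 4 = w ^ 2 * (f s).2 + w ^ 8 * (f s).2 ^ 4 := by ring
      _ = w ^ 2 * ((f s).2 + (f s).2 ^ 4) := by rw [h5]; ring
      _ = w ^ 5 * (f s).1 ^ 5 := by rw [h3, h4]
      _ = (w * (f s).1) ^ 5 := by ring
  choose g hg using hex
  have hw4 : w ^ 4 = w := by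
    calc w ^ 4 = w ^ 3 * w := by ring
      _ = w := by rw [hw3, one_mul]
  have hgmul : ∀ s t, g (s * t) = g s * g t := by
    intro s t
    apply hinj
    rw [hg, hmul, hmul, hg, hg]
    ext
    · simp only; ring
    · simp only
      calc w ^ 2 * ((f s).2 + (f t).2 + (f s).1 * (f t).1 ^ 4)
          = w ^ 2 * (f s).2 + w ^ 2 * (f t).2 + w * (w * ((f s).1 * (f t).1 ^ 4)) := by ring
        _ = w ^ 2 * (f s).2 + w ^ 2 * (f t).2 + w * (w ^ 4 * ((f s).1 * (f t).1 ^ 4)) := by rw [hw4]
        _ = w ^ 2 * (f s).2 + w ^ 2 * (f t).2 + w * (f s).1 * (w * (f t).1) ^ 4 := by ring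
  let α : S →* S := MonoidHom.mk' g hgmul
  have hα : ∀ s, f (α s) = (w * (f s).1, w ^ 2 * (f s).2) := hg
  have hf1 : f 1 = (0, 0) := by
    have h3 := hmul 1 1
    rw [mul_one] at h3
    have h4 := congrArg Prod.fst h3
    have h5 := congrArg Prod.snd h3
    simp only at h4 h5
    have h6 : (f 1).1 = 0 := by linear_combination -h4
    rw [h6] at h5
    have h7 : (f 1).2 = 0 := by linear_combination -h5
    exact Prod.ext h6 h7
  refine nonempty_mulEquiv_K64 hcard α ?_ ?_ hK.card_four ?_ ?_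
  · intro t
    apply hinj
    rw [hα, hα, hα]
    ext
    · simp only; linear_combination (f t).1 * hw3
    · simp only; linear_combination (f t).2 * (w ^ 3 + 1) * hw3
  · intro t ht
    have h3 := hα t
    rw [ht] at h3
    apply hinj
    rw [hf1]
    have h4 := congrArg Prod.fst h3
    have h5 := congrArg Prod.snd h3
    simp only at h4 h5
    have hne : w - 1 ≠ 0 := sub_ne_zero.mpr hw1
    have hne2 : w ^ 2 - 1 ≠ 0 := by
      intro h
      apply hw1
      linear_combination hw3 - w * h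
    ext
    · have : (w - 1) * (f t).1 = 0 := by linear_combination -h4
      exact (mul_eq_zero.mp this).resolve_left hne
    · have : (w ^ 2 - 1) * (f t).2 = 0 := by linear_combination -h5
      exact (mul_eq_zero.mp this).resolve_left hne2
  · intro t
    have h3 := hsq (QuotientGroup.mk t)
    rw [← QuotientGroup.mk_pow, QuotientGroup.eq_one_iff, pow_two] at h3
    exact h3
  · intro t
    constructor
    · intro ht
      rw [hcl]
      by_cases h1 : t = 1
      · rw [h1]; exact Subgroup.one_mem _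
      · exact Subgroup.subset_closure (orderOf_eq_prime (by rw [pow_two]; exact ht) h1)
    · intro ht
      haveI := hK
      have h3 := IsKleinFour.mul_self (⟨t, ht⟩ : Subgroup.center S)
      exact congrArg Subtype.val h3

/-- A Sylow 2-subgroup of `U_3(4)` is isomorphic to the model. -/
theorem nonempty_mulEquiv_sylow (hF : Fintype.card F = 16) (S : Sylow 2 (Cfsg.PSU 3 F 4)) :
    Nonempty (K64 ≃* (S : Subgroup (Cfsg.PSU 3 F 4))) := by
  have : Fact (Nat.Prime 2) := ⟨Nat.prime_two⟩
  have hfin : Finite (Cfsg.SU 3 F 4) := by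
    have : Finite (Matrix.SpecialLinearGroup (Fin 3) F) := Subtype.finite
    exact Subtype.finite
  have hfin' : Finite (Cfsg.PSU 3 F 4) := Quotient.finite _
  -- `PSU ≃* SU`
  let E : Cfsg.PSU 3 F 4 ≃* Cfsg.SU 3 F 4 :=
    (QuotientGroup.quotientMulEquivOfEq (Cfsg.Agent.TwoFusion.U34Sylow.center_eq_bot hF)).trans
      QuotientGroup.quotientBot
  let S1 : Sylow 2 (Cfsg.SU 3 F 4) := S.mapSurjective (f := E.toMonoidHom) E.surjective
  have e1 : (S : Subgroup (Cfsg.PSU 3 F 4)) ≃* S1 :=
    (S : Subgroup (Cfsg.PSU 3 F 4)).equivMapOfInjective E.toMonoidHom E.injective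
  obtain ⟨S0, hS0⟩ := (Cfsg.Agent.TwoFusion.U34Sylow.isPGroup_Q hF).exists_le_sylow
  have hS0' := Cfsg.Agent.TwoFusion.U34Sylow.sylow_eq hF S0 hS0
  have e2 : S1 ≃* S0 := Sylow.equiv S1 S0
  have e3 : S0 ≃* Cfsg.Agent.TwoFusion.U34Stab.Q F := MulEquiv.subgroupCongr hS0'
  let e : (S : Subgroup (Cfsg.PSU 3 F 4)) ≃* Cfsg.Agent.TwoFusion.U34Stab.Q F := (e1.trans e2).trans e3
  obtain ⟨f, h1, h2, h3, h4⟩ := Cfsg.Agent.TwoFusion.U34Stab.exists_coords hF
  obtain ⟨e4⟩ := nonempty_mulEquiv_of_coords hF f h1 h2 h3 h4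
  exact ⟨e4.trans e.symm⟩

/-- Uniqueness: a group of order 64 with a fixed-point-free automorphism of order 3, in which the centre has
order 4, contains all squares and consists of the elements of square 1, is isomorphic to a Sylow 2-subgroup of
`U_3(4)`. -/
theorem nonempty_mulEquiv {T : Type*} [Group T] (hcard : Nat.card T = 64)
    (α : T →* T) (h3 : ∀ t, α (α (α t)) = t) (hf : ∀ t, α t = t → t = 1)
    (hZ : Nat.card (Subgroup.center T) = 4) (hsq : ∀ t : T, t * t ∈ Subgroup.center T)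
    (hinv : ∀ t : T, t * t = 1 ↔ t ∈ Subgroup.center T) (hF : Fintype.card F = 16)
    (P : Sylow 2 (Cfsg.PSU 3 F 4)) : Nonempty (T ≃* (P : Subgroup (Cfsg.PSU 3 F 4))) := by
  obtain ⟨e⟩ := nonempty_mulEquiv_K64 hcard α h3 hf hZ hsq hinv
  obtain ⟨e'⟩ := nonempty_mulEquiv_sylow hF P
  exact ⟨e.symm.trans e'⟩

end Cfsg.Agent.TwoFusion.U34Unique
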